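import Mathlib
import Cfsg.Prelude.Def_Solvable

set_option autoImplicit false
open Pointwise

namespace Cfsg.Agent.Lib.Lead

variable {G : Type*} [Group G]

theorem pCore_normal (p : ℕ) : (Cfsg.pCore p G).Normal :=
  Subgroup.sSup_normal _ (fun _ hH => hH.1)

theorem pCore_isPGroup (p : ℕ) : IsPGroup p (Cfsg.pCore p G) :=
  Sylow.sSup_of_normal _ (fun _ hH => hH.2) (fun _ hH => hH.1)

theorem le_pCore {p : ℕ} {N : Subgroup G} (hN : N.Normal) (hp : IsPGroup p N) :
    N ≤ Cfsg.pCore p G := le_sSup ⟨hN, hp⟩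

theorem iInf_sylow_normal (p : ℕ) : (⨅ P : Sylow p G, (P : Subgroup G)).Normal := by
  constructor
  intro x hx g
  rw [Subgroup.mem_iInf] at hx ⊢
  intro P
  have h1 := hx (g⁻¹ • P)
  rw [Sylow.coe_subgroup_smul, Subgroup.mem_pointwise_smul_iff_inv_smul_mem] at h1
  simpa [MulAut.smul_def, map_inv] using h1

theorem pCore_eq_iInf_sylow (p : ℕ) :
    Cfsg.pCore p G = ⨅ P : Sylow p G, (P : Subgroup G) := by
  apply le_antisymm
  · apply sSup_le
    rintro N ⟨hN, hp⟩
    apply le_iInf
    intro P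
    have := hN
    exact hp.le_sylow_of_normal P
  · apply le_pCore (iInf_sylow_normal p)
    obtain ⟨P⟩ : Nonempty (Sylow p G) := inferInstance
    exact P.isPGroup'.to_le (iInf_le _ P)

theorem fittingSubgroup_normal : (Cfsg.fittingSubgroup G).Normal :=
  Subgroup.sSup_normal _ (fun _ hH => hH.1)

theorem le_fittingSubgroup {N : Subgroup G} (hN : N.Normal) (hp : Group.IsNilpotent N) :
    N ≤ Cfsg.fittingSubgroup G := le_sSup ⟨hN, hp⟩

/-- The Sylow subgroups of a finite group generate it. -/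
theorem iSup_sylow_eq_top [Finite G] :
    (⨆ p : Nat.Primes, ⨆ P : Sylow (p : ℕ) G, (P : Subgroup G)) = ⊤ := by
  apply Subgroup.eq_top_of_le_card
  apply Nat.le_of_dvd Nat.card_pos
  rw [← Nat.factorization_prime_le_iff_dvd Nat.card_pos.ne' Nat.card_pos.ne']
  intro p hp
  have : Fact p.Prime := ⟨hp⟩
  obtain ⟨P⟩ : Nonempty (Sylow p G) := inferInstance
  have h1 : (P : Subgroup G) ≤ ⨆ p : Nat.Primes, ⨆ P : Sylow (p : ℕ) G, (P : Subgroup G) :=
    le_iSup_of_le ⟨p, hp⟩ (le_iSup (fun P : Sylow p G => (P : Subgroup G)) P)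
  have h2 := Subgroup.card_dvd_of_le h1
  rw [Sylow.card_eq_multiplicity] at h2
  exact (Nat.Prime.pow_dvd_iff_le_factorization hp Nat.card_pos.ne').mp h2

theorem fittingSubgroup_eq_iSup_pCore [Finite G] :
    Cfsg.fittingSubgroup G = ⨆ p : Nat.Primes, Cfsg.pCore (p : ℕ) G := by
  apply le_antisymm
  · apply sSup_le
    rintro N ⟨hN, hnil⟩
    have := hN
    -- N is generated by its Sylow subgroups, each of which is normal in G
    have h1 : N = (⨆ p : Nat.Primes, ⨆ P : Sylow (p : ℕ) N, (P : Subgroup N)).map N.subtype := by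
      rw [iSup_sylow_eq_top, ← MonoidHom.range_eq_map, Subgroup.range_subtype]
    rw [h1, Subgroup.map_iSup]
    apply iSup_le
    intro p
    rw [Subgroup.map_iSup]
    apply iSup_le
    intro P
    refine le_iSup_of_le p ?_
    have : Fact (p : ℕ).Prime := ⟨p.2⟩
    have h2' : ∀ (q : ℕ), Fact (Nat.Prime q) → ∀ (Q : Sylow q N), (Q : Subgroup N).Normal :=
      ((Group.isNilpotent_of_finite_tfae (G := N)).out 0 3).mp hnil
    have h2 : (P : Subgroup N).Normal := h2' p ⟨p.2⟩ P
    have : (P : Subgroup N).Characteristic := Sylow.characteristic_of_normal P h2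
    apply le_pCore ConjAct.normal_of_characteristic_of_normal
    exact P.isPGroup'.map N.subtype
  · apply iSup_le
    intro p
    have : Fact (p : ℕ).Prime := ⟨p.2⟩
    exact le_fittingSubgroup (pCore_normal p) (pCore_isPGroup (G := G) p).isNilpotent

theorem pCore_eq_bot_of_not_dvd [Finite G] (p : ℕ) [Fact p.Prime] (h : ¬ p ∣ Nat.card G) :
    Cfsg.pCore p G = ⊥ := by
  rw [← Subgroup.card_eq_one]
  rcases (pCore_isPGroup (G := G) p).card_eq_or_dvd with h1 | h1
  · exact h1
  · exact absurd (h1.trans (Subgroup.card_subgroup_dvd_card _)) h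

theorem fittingSubgroup_isNilpotent [Finite G] : Group.IsNilpotent (Cfsg.fittingSubgroup G) := by
  classical
  let ι := {p : ℕ // p ∈ (Nat.card G).primeFactors}
  let H : ι → Subgroup G := fun p => Cfsg.pCore (p : ℕ) G
  have hprime : ∀ i : ι, (i : ℕ).Prime := fun i => Nat.prime_of_mem_primeFactors i.2
  have hcomm : Pairwise fun i j : ι => ∀ x y : G, x ∈ H i → y ∈ H j → Commute x y := by
    intro i j hij
    have : Fact (i : ℕ).Prime := ⟨hprime i⟩
    have : Fact (j : ℕ).Prime := ⟨hprime j⟩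
    apply Subgroup.commute_of_normal_of_disjoint _ _ (pCore_normal _) (pCore_normal _)
    exact IsPGroup.disjoint_of_ne (i : ℕ) (j : ℕ) (fun h => hij (Subtype.ext h)) _ _
      (pCore_isPGroup _) (pCore_isPGroup _)
  have h1 : Cfsg.fittingSubgroup G = (Subgroup.noncommPiCoprod hcomm).range := by
    rw [Subgroup.noncommPiCoprod_range, fittingSubgroup_eq_iSup_pCore]
    apply le_antisymm
    · apply iSup_le
      intro p
      have : Fact (p : ℕ).Prime := ⟨p.2⟩
      by_cases hp : (p : ℕ) ∣ Nat.card G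
      · exact le_iSup H ⟨p, Nat.mem_primeFactors.mpr ⟨p.2, hp, Nat.card_pos.ne'⟩⟩
      · rw [pCore_eq_bot_of_not_dvd _ hp]; exact bot_le
    · apply iSup_le
      intro i
      exact le_iSup (fun p : Nat.Primes => Cfsg.pCore (p : ℕ) G) ⟨i, hprime i⟩
  rw [h1]
  have : ∀ i : ι, Group.IsNilpotent (H i) := fun i => by
    have : Fact (i : ℕ).Prime := ⟨hprime i⟩
    exact (pCore_isPGroup (G := G) (i : ℕ)).isNilpotent
  exact Group.nilpotent_of_surjective (Subgroup.noncommPiCoprod hcomm).rangeRestrict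
    (Subgroup.noncommPiCoprod hcomm).rangeRestrict_surjective

end Cfsg.Agent.Lib.Lead
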