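import Mathlib
import Cfsg.Agent.Lib.Lead.Core

set_option autoImplicit false
open Pointwise

namespace Cfsg.Agent.Lib.Lead

variable {G : Type*} [Group G]

theorem le_frattini_iff {K : Subgroup G} : K ≤ frattini G ↔ ∀ M : Subgroup G, IsCoatom M → K ≤ M := by
  unfold frattini Order.radical
  simp only [le_iInf_iff, Set.mem_setOf_eq]

theorem mem_frattini_iff {x : G} : x ∈ frattini G ↔ ∀ M : Subgroup G, IsCoatom M → x ∈ M := by
  unfold frattini Order.radical
  simp only [Subgroup.mem_iInf, Set.mem_setOf_eq]

theorem commutator_le_of_quotient_comm (N : Subgroup G) [N.Normal]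
    (h : ∀ a b : G ⧸ N, a * b = b * a) : commutator G ≤ N := by
  rw [commutator_def, Subgroup.commutator_le]
  intro g₁ _ g₂ _
  rw [← QuotientGroup.eq_one_iff, commutatorElement_def]
  simp only [QuotientGroup.mk_mul, QuotientGroup.mk_inv]
  rw [h (g₁ : G ⧸ N) (g₂ : G ⧸ N)]
  group

/-- A subgroup of prime index is a maximal subgroup. -/
theorem isCoatom_of_index_prime {M : Subgroup G} (h : M.index.Prime) : IsCoatom M := by
  constructor
  · intro htop
    rw [htop, Subgroup.index_top] at h
    exact Nat.not_prime_one h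
  · intro K hK
    have h1 := Subgroup.relIndex_mul_index hK.le
    have h2 : K.index ∣ M.index := Dvd.intro_left _ h1
    rcases (Nat.dvd_prime h).mp h2 with h3 | h3
    · exact Subgroup.index_eq_one.mp h3
    · exfalso
      rw [h3] at h1
      have h4 : M.relIndex K = 1 := by
        have := h.pos
        exact Nat.eq_of_mul_eq_mul_right this (by rw [h1, one_mul])
      exact (not_le_of_gt hK) (Subgroup.relIndex_eq_one.mp h4)

/-- In a finite `p`-group, a maximal subgroup is normal of index `p`. -/
theorem coatom_normal_index_of_isPGroup [Finite G] {p : ℕ} [Fact p.Prime] (hG : IsPGroup p G)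
    {M : Subgroup G} (hM : IsCoatom M) : M.Normal ∧ M.index = p := by
  have hnil : Group.IsNilpotent G := hG.isNilpotent
  have hn : ∀ H : Subgroup G, IsCoatom H → H.Normal :=
    ((Group.isNilpotent_of_finite_tfae (G := G)).out 0 2).mp hnil
  have hMn : M.Normal := hn M hM
  refine ⟨hMn, ?_⟩
  have hQ : IsPGroup p (G ⧸ M) := hG.to_quotient M
  have hnt : Nontrivial (G ⧸ M) := by
    rw [← Finite.one_lt_card_iff_nontrivial, ← Subgroup.index_eq_card]
    have h1 : M.index ≠ 1 := fun h => hM.1 (Subgroup.index_eq_one.mp h)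
    have h2 : M.index ≠ 0 := Subgroup.FiniteIndex.index_ne_zero
    omega
  have hdvd : p ∣ Nat.card (G ⧸ M) := by
    rcases hQ.card_eq_or_dvd with h | h
    · exact absurd h (Finite.one_lt_card_iff_nontrivial.mpr hnt).ne'
    · exact h
  obtain ⟨x, hx⟩ := exists_prime_orderOf_dvd_card' p hdvd
  have hK : M ≤ (Subgroup.zpowers x).comap (QuotientGroup.mk' M) := by
    intro m hm
    rw [Subgroup.mem_comap, QuotientGroup.mk'_apply, (QuotientGroup.eq_one_iff m).mpr hm]
    exact one_mem _
  have hKne : (Subgroup.zpowers x).comap (QuotientGroup.mk' M) ≠ M := by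
    intro heq
    obtain ⟨g, rfl⟩ := QuotientGroup.mk'_surjective M x
    have h1 : g ∈ (Subgroup.zpowers (QuotientGroup.mk' M g)).comap (QuotientGroup.mk' M) :=
      Subgroup.mem_zpowers _
    rw [heq] at h1
    have h2 : (QuotientGroup.mk' M g) = 1 := (QuotientGroup.eq_one_iff g).mpr h1
    rw [h2, orderOf_one] at hx
    exact (Fact.out : p.Prime).one_lt.ne hx
  have hKtop : (Subgroup.zpowers x).comap (QuotientGroup.mk' M) = ⊤ :=
    hM.2 _ (lt_of_le_of_ne hK (Ne.symm hKne))
  have hz : Subgroup.zpowers x = ⊤ := by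
    rw [← Subgroup.map_comap_eq_self_of_surjective (QuotientGroup.mk'_surjective M)
      (Subgroup.zpowers x), hKtop, ← MonoidHom.range_eq_map, MonoidHom.range_eq_top]
    exact QuotientGroup.mk'_surjective M
  rw [Subgroup.index_eq_card, ← hx, ← Nat.card_zpowers, hz, Subgroup.card_top]

/-- In a finite `p`-group, commutators lie in the Frattini subgroup. -/
theorem commutator_le_frattini_of_isPGroup [Finite G] {p : ℕ} [Fact p.Prime] (hG : IsPGroup p G) :
    commutator G ≤ frattini G := by
  rw [le_frattini_iff]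
  intro M hM
  obtain ⟨hMn, hMi⟩ := coatom_normal_index_of_isPGroup hG hM
  haveI := hMn
  apply commutator_le_of_quotient_comm
  have hc : IsCyclic (G ⧸ M) := isCyclic_of_prime_card (p := p) (by rw [← Subgroup.index_eq_card, hMi])
  intro a b
  exact (IsCyclic.commutative (α := G ⧸ M)).is_comm.comm a b

/-- In a finite `p`-group, `p`-th powers lie in the Frattini subgroup. -/
theorem pow_mem_frattini_of_isPGroup [Finite G] {p : ℕ} [Fact p.Prime] (hG : IsPGroup p G) (x : G) :
    x ^ p ∈ frattini G := by
  rw [mem_frattini_iff]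
  intro M hM
  obtain ⟨hMn, hMi⟩ := coatom_normal_index_of_isPGroup hG hM
  haveI := hMn
  rw [← QuotientGroup.eq_one_iff, QuotientGroup.mk_pow]
  have h1 : Nat.card (G ⧸ M) = p := by rw [← Subgroup.index_eq_card, hMi]
  rw [← h1]
  exact pow_card_eq_one'

end Cfsg.Agent.Lib.Lead
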