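import Mathlib
import Cfsg.Agent.Lib.Lead.Frattini

set_option autoImplicit false
open Pointwise
open scoped commutatorElement

namespace Cfsg.Agent.Lib.Lead

variable {G : Type*} [Group G]

theorem normal_of_commutator_le {M : Subgroup G} (h : commutator G ≤ M) : M.Normal := by
  constructor
  intro m hm g
  have h1 : ⁅g, m⁆ ∈ M := h (by
    rw [commutator_def]
    exact Subgroup.commutator_mem_commutator (Subgroup.mem_top g) (Subgroup.mem_top m))
  have h2 : g * m * g⁻¹ = ⁅g, m⁆ * m := by
    rw [commutatorElement_def]; group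
  rw [h2]
  exact M.mul_mem h1 hm

/-- In a finite group, a normal subgroup `N` containing all commutators and all `p`-th powers
contains the Frattini subgroup. -/
theorem frattini_le_of_elementary_quotient [Finite G] {p : ℕ} [Fact p.Prime]
    (N : Subgroup G) (hcomm : commutator G ≤ N) (hpow : ∀ x : G, x ^ p ∈ N) :
    frattini G ≤ N := by
  have hp : p.Prime := Fact.out
  intro g hg
  by_contra hgN
  have hfin : {K : Subgroup G | N ≤ K ∧ g ∉ K}.Finite := Set.toFinite _
  obtain ⟨M, hM⟩ := hfin.exists_maximal ⟨N, le_refl N, hgN⟩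
  obtain ⟨⟨hNM, hgM⟩, hmax⟩ := hM
  have hMn : M.Normal := normal_of_commutator_le (hcomm.trans hNM)
  have hcoatom : IsCoatom M := by
    refine ⟨fun h => hgM (h ▸ Subgroup.mem_top g), ?_⟩
    intro K hK
    have hgK : g ∈ K := by
      by_contra hgK
      exact (not_le_of_gt hK) (hmax ⟨hNM.trans hK.le, hgK⟩ hK.le)
    rw [eq_top_iff]
    intro y _
    by_cases hyM : y ∈ M
    · exact hK.le hyM
    · have h1 : g ∈ M ⊔ Subgroup.zpowers y := by
        by_contra hg1
        have h2 := hmax (y := M ⊔ Subgroup.zpowers y) ⟨hNM.trans le_sup_left, hg1⟩ le_sup_left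
        exact hyM (h2 (le_sup_right (a := M) (Subgroup.mem_zpowers y)))
      rw [Subgroup.mem_sup_of_normal_left] at h1
      obtain ⟨m, hm, z, hz, hmz⟩ := h1
      obtain ⟨k, rfl⟩ := Subgroup.mem_zpowers_iff.mp hz
      have hpk : ¬ (p : ℤ) ∣ k := by
        rintro ⟨j, rfl⟩
        apply hgM
        rw [← hmz]
        apply M.mul_mem hm
        rw [zpow_mul, zpow_natCast]
        exact M.zpow_mem (hNM (hpow y)) j
      have hcop : IsCoprime (p : ℤ) k :=
        ((Nat.prime_iff_prime_int.mp hp).coprime_iff_not_dvd).mpr hpk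
      obtain ⟨a, b, hab⟩ := hcop
      have hy : y = (y ^ p) ^ a * (y ^ k) ^ b := by
        rw [← zpow_natCast, ← zpow_mul, ← zpow_mul, ← zpow_add, mul_comm (p : ℤ) a, mul_comm k b,
          hab, zpow_one]
      rw [hy]
      apply K.mul_mem
      · exact K.zpow_mem (hK.le (hNM (hpow y))) a
      · apply K.zpow_mem
        have : y ^ k = m⁻¹ * g := by rw [← hmz]; group
        rw [this]
        exact K.mul_mem (K.inv_mem (hK.le hm)) hgK
  exact hgM (frattini_le_coatom hcoatom hg)

end Cfsg.Agent.Lib.Lead
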