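import Mathlib
import Cfsg.Agent.Lib.Lead.Frattini2

set_option autoImplicit false
open Pointwise

namespace Cfsg.Agent.Lib.Lead

variable {G : Type*} [Group G]

theorem inf_center_ne_bot_aux (N : Subgroup G) [N.Normal] (n : ℕ) :
    N ⊓ Subgroup.upperCentralSeries G n ≠ ⊥ → N ⊓ Subgroup.center G ≠ ⊥ := by
  induction n with
  | zero => intro h; simp [Subgroup.upperCentralSeries_zero] at h
  | succ n ih =>
    intro h
    by_cases h0 : N ⊓ Subgroup.upperCentralSeries G n = ⊥
    · obtain ⟨⟨x, hx⟩, hx1⟩ := (Subgroup.ne_bot_iff_exists_ne_one).mp h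
      have hxN : x ∈ N := hx.1
      have hxZ : x ∈ Subgroup.upperCentralSeries G (n + 1) := hx.2
      have hx1' : x ≠ 1 := fun h => hx1 (Subtype.ext h)
      rw [Subgroup.mem_upperCentralSeries_succ_iff] at hxZ
      have hc : x ∈ Subgroup.center G := by
        rw [Subgroup.mem_center_iff]
        intro y
        have h1 : x * y * x⁻¹ * y⁻¹ ∈ N ⊓ Subgroup.upperCentralSeries G n := by
          refine ⟨?_, hxZ y⟩
          have : y * x⁻¹ * y⁻¹ ∈ N := Subgroup.Normal.conj_mem inferInstance _ (N.inv_mem hxN) y
          have h2 := N.mul_mem hxN this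
          simpa [mul_assoc] using h2
        rw [h0, Subgroup.mem_bot] at h1
        have : x * y = y * x := by
          have h3 : x * y * x⁻¹ * y⁻¹ * (y * x) = 1 * (y * x) := by rw [h1]
          simpa [mul_assoc] using h3
        exact this.symm
      intro hbot
      have : x ∈ N ⊓ Subgroup.center G := ⟨hxN, hc⟩
      rw [hbot, Subgroup.mem_bot] at this
      exact hx1' this
    · exact ih h0

/-- A nontrivial normal subgroup of a nilpotent group meets the centre nontrivially. -/
theorem inf_center_ne_bot [Group.IsNilpotent G] (N : Subgroup G) [N.Normal] (hN : N ≠ ⊥) :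
    N ⊓ Subgroup.center G ≠ ⊥ := by
  obtain ⟨n, hn⟩ := (Group.isNilpotent_iff (G := G)).mp inferInstance
  apply inf_center_ne_bot_aux N n
  rw [hn, inf_top_eq]
  exact hN

theorem zpowers_normal_of_mem_center {x : G} (hx : x ∈ Subgroup.center G) :
    (Subgroup.zpowers x).Normal := by
  constructor
  intro y hy g
  have hy' : y ∈ Subgroup.center G := (Subgroup.zpowers_le.mpr hx) hy
  have : g * y * g⁻¹ = y := by
    rw [Subgroup.mem_center_iff] at hy'
    rw [hy' g, mul_inv_cancel_right]
  rwa [this]

/-- If `x` centralises the abelian subgroup `N`, then `N ⊔ ⟨x⟩` is abelian. -/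
theorem sup_zpowers_comm (N : Subgroup G) [IsMulCommutative N] {x : G}
    (hx : x ∈ Subgroup.centralizer (N : Set G)) : IsMulCommutative (N ⊔ Subgroup.zpowers x : Subgroup G) := by
  rw [← Subgroup.le_centralizer_iff_isMulCommutative]
  have h1 : Subgroup.zpowers x ≤ Subgroup.centralizer (N : Set G) := Subgroup.zpowers_le.mpr hx
  have h2 : N ≤ Subgroup.centralizer ((Subgroup.zpowers x : Subgroup G) : Set G) :=
    Subgroup.le_centralizer_iff.mp h1
  apply sup_le
  · rw [Subgroup.le_centralizer_iff]
    exact sup_le (Subgroup.le_centralizer N) h1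
  · rw [Subgroup.le_centralizer_iff]
    exact sup_le h2 (Subgroup.le_centralizer _)

/-- In a nilpotent group a maximal abelian normal subgroup is self-centralising. -/
theorem centralizer_eq_of_max_abelian_normal [Group.IsNilpotent G]
    (N : Subgroup G) [N.Normal] [IsMulCommutative N]
    (hmax : ∀ M : Subgroup G, M.Normal → IsMulCommutative M → N ≤ M → M = N) :
    Subgroup.centralizer (N : Set G) = N := by
  have hNC : N ≤ Subgroup.centralizer (N : Set G) := Subgroup.le_centralizer N
  by_contra hne
  have hlt : N < Subgroup.centralizer (N : Set G) := lt_of_le_of_ne hNC (Ne.symm hne)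
  have hCn : (Subgroup.centralizer (N : Set G)).Normal := Subgroup.normal_centralizer
  have hsurj := QuotientGroup.mk'_surjective N
  have hCbarN : ((Subgroup.centralizer (N : Set G)).map (QuotientGroup.mk' N)).Normal :=
    hCn.map _ hsurj
  have hCbar : (Subgroup.centralizer (N : Set G)).map (QuotientGroup.mk' N) ≠ ⊥ := by
    intro h
    rw [Subgroup.map_eq_bot_iff, QuotientGroup.ker_mk'] at h
    exact not_le_of_gt hlt h
  obtain ⟨⟨xbar, hx⟩, hx1⟩ :=
    (Subgroup.ne_bot_iff_exists_ne_one).mp (inf_center_ne_bot _ hCbar)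
  obtain ⟨x, hxC, hxx⟩ := hx.1
  have hxc : (QuotientGroup.mk' N x) ∈ Subgroup.center (G ⧸ N) := hxx ▸ hx.2
  have hxN : x ∉ N := by
    intro h
    apply hx1
    apply Subtype.ext
    show xbar = 1
    rw [← hxx]
    exact (QuotientGroup.eq_one_iff x).mpr h
  have hM : N ⊔ Subgroup.zpowers x =
      (Subgroup.zpowers (QuotientGroup.mk' N x)).comap (QuotientGroup.mk' N) := by
    rw [← MonoidHom.map_zpowers, Subgroup.comap_map_eq, QuotientGroup.ker_mk', sup_comm]
  have hMn : (N ⊔ Subgroup.zpowers x).Normal := by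
    rw [hM]
    exact (zpowers_normal_of_mem_center hxc).comap _
  have hMc := sup_zpowers_comm N hxC
  have := hmax _ hMn hMc le_sup_left
  exact hxN (this ▸ (le_sup_right (a := N) (Subgroup.mem_zpowers x)))

end Cfsg.Agent.Lib.Lead
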