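import Mathlib
import Cfsg.Agent.Lib.Lead.Nilpotent

set_option autoImplicit false
open Pointwise
open scoped IsMulCommutative commutatorElement

namespace Cfsg.Agent.Lib.Lead

variable {G : Type*} [Group G]

/-- conjugation by an element normalising `V`, as an endomorphism of `V` -/
def conjHom (V : Subgroup G) (a : G) (ha : a ∈ Subgroup.normalizer (V : Set G)) : V →* V where
  toFun v := ⟨a * v * a⁻¹, (Subgroup.mem_normalizer_iff.mp ha v).mp v.2⟩
  map_one' := by ext; simp
  map_mul' := by intro x y; ext; simp [mul_assoc]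

@[simp] theorem conjHom_coe (V : Subgroup G) (a : G) (ha : a ∈ Subgroup.normalizer (V : Set G)) (v : V) :
    ((conjHom V a ha v : V) : G) = a * v * a⁻¹ := rfl

section avg

variable (A V : Subgroup G) [Fintype A] [IsMulCommutative V]
  (hAV : A ≤ Subgroup.normalizer (V : Set G))

/-- the averaging (norm) endomorphism of an abelian group under a finite group of operators -/
def avg : V →* V := ∏ a : A, conjHom V a (hAV a.2)

theorem avg_apply (v : V) : avg A V hAV v = ∏ a : A, conjHom V a (hAV a.2) v :=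
  MonoidHom.finsetProd_apply _ _ _

theorem conjHom_avg (b : A) (v : V) : conjHom V b (hAV b.2) (avg A V hAV v) = avg A V hAV v := by
  rw [avg_apply, map_prod]
  apply Fintype.prod_equiv (Equiv.mulLeft b)
  intro a
  ext
  simp [mul_assoc]

theorem avg_conjHom (b : A) (v : V) : avg A V hAV (conjHom V b (hAV b.2) v) = avg A V hAV v := by
  rw [avg_apply, avg_apply]
  apply Fintype.prod_equiv (Equiv.mulRight b)
  intro a
  ext
  simp [mul_assoc]

theorem avg_mem_centralizer (v : V) : ((avg A V hAV v : V) : G) ∈ Subgroup.centralizer (A : Set G) := by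
  rw [Subgroup.mem_centralizer_iff]
  intro b hb
  have h := congrArg Subtype.val (conjHom_avg A V hAV ⟨b, hb⟩ v)
  simp only [conjHom_coe] at h
  calc b * ↑(avg A V hAV v) = (b * ↑(avg A V hAV v) * b⁻¹) * b := by group
    _ = ↑(avg A V hAV v) * b := by rw [h]

theorem avg_of_fixed (v : V) (hv : (v : G) ∈ Subgroup.centralizer (A : Set G)) :
    avg A V hAV v = v ^ Fintype.card A := by
  rw [avg_apply, Finset.prod_eq_pow_card (b := v), Finset.card_univ]
  intro a _
  ext
  rw [Subgroup.mem_centralizer_iff] at hv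
  simp only [conjHom_coe]
  rw [hv a a.2, mul_inv_cancel_right]

include hAV in
omit [Fintype A] [IsMulCommutative V] in
theorem commutator_le_of_le_normalizer : ⁅V, A⁆ ≤ V := by
  rw [Subgroup.commutator_le]
  intro v hv a ha
  rw [commutatorElement_def, mul_assoc, mul_assoc]
  apply V.mul_mem hv
  have := (Subgroup.mem_normalizer_iff.mp (hAV ha) v⁻¹).mp (V.inv_mem hv)
  simpa [mul_assoc] using this

theorem avg_eq_one_of_mem_commutator (v : V) (hv : (v : G) ∈ ⁅V, A⁆) : avg A V hAV v = 1 := by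
  have hle : ⁅V, A⁆ ≤ (avg A V hAV).ker.map V.subtype := by
    rw [Subgroup.commutator_le]
    intro g₁ h₁ g₂ h₂
    refine ⟨(⟨g₁, h₁⟩ : V) * conjHom V g₂ (hAV h₂) (⟨g₁, h₁⟩ : V)⁻¹, ?_, ?_⟩
    · rw [SetLike.mem_coe, MonoidHom.mem_ker, map_mul]
      have := avg_conjHom A V hAV ⟨g₂, h₂⟩ (⟨g₁, h₁⟩ : V)⁻¹
      simp only at this
      rw [this, map_inv, mul_inv_cancel]
    · simp [commutatorElement_def, mul_assoc]
  obtain ⟨w, hw, hwv⟩ := hle hv
  have : w = v := Subtype.ext hwv
  rw [← this]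
  exact hw

theorem avg_inv_mul_pow_mem_commutator (v : V) :
    (((avg A V hAV v)⁻¹ * v ^ Fintype.card A : V) : G) ∈ ⁅V, A⁆ := by
  have h1 : (avg A V hAV v)⁻¹ * v ^ Fintype.card A = ∏ a : A, ((conjHom V a (hAV a.2) v)⁻¹ * v) := by
    rw [Finset.prod_mul_distrib, Finset.prod_inv_distrib, ← avg_apply, Finset.prod_const,
      Finset.card_univ]
  rw [h1]
  have h2 : ∀ a : A, (((conjHom V a (hAV a.2) v)⁻¹ * v : V) : G) ∈ ⁅V, A⁆ := by
    intro a
    rw [Subgroup.commutator_comm]
    have := Subgroup.commutator_mem_commutator (H₁ := A) (H₂ := V) a.2 (V.inv_mem v.2)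
    rw [commutatorElement_def] at this
    simpa [mul_assoc] using this
  have h3 : (∏ a : A, ((conjHom V a (hAV a.2) v)⁻¹ * v)) ∈ (⁅V, A⁆).subgroupOf V := by
    apply Subgroup.prod_mem
    intro a _
    exact h2 a
  exact h3

end avg

/-- Coprime action on an abelian group: `V = C_V(A) × [V, A]`. -/
theorem coprime_abelian_decomp [Finite G] (A V : Subgroup G) [IsMulCommutative V]
    (hAV : A ≤ Subgroup.normalizer (V : Set G)) (hcop : (Nat.card A).Coprime (Nat.card V)) :
    (V ⊓ Subgroup.centralizer (A : Set G)) ⊓ ⁅V, A⁆ = ⊥ ∧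
      (V ⊓ Subgroup.centralizer (A : Set G)) ⊔ ⁅V, A⁆ = V := by
  classical
  let _ : Fintype A := Fintype.ofFinite A
  have hcard : Fintype.card A = Nat.card A := (Nat.card_eq_fintype_card).symm
  have hpow : ∀ v : V, ∃ m : ℕ, (v ^ Fintype.card A) ^ m = v := by
    intro v
    apply exists_pow_eq_self_of_coprime
    rw [hcard]
    exact Nat.Coprime.coprime_dvd_right (orderOf_dvd_natCard v) hcop
  constructor
  · rw [eq_bot_iff]
    rintro x ⟨⟨hxV, hxC⟩, hxc⟩
    rw [Subgroup.mem_bot]
    have h1 := avg_of_fixed A V hAV ⟨x, hxV⟩ hxC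
    have h2 := avg_eq_one_of_mem_commutator A V hAV ⟨x, hxV⟩ hxc
    obtain ⟨m, hm⟩ := hpow ⟨x, hxV⟩
    rw [← h1, h2, one_pow] at hm
    exact (congrArg Subtype.val hm).symm
  · apply le_antisymm
    · exact sup_le inf_le_left (commutator_le_of_le_normalizer A V hAV)
    · intro x hxV
      obtain ⟨m, hm⟩ := hpow ⟨x, hxV⟩
      have h3 : ((⟨x, hxV⟩ : V) ^ Fintype.card A : V) =
          avg A V hAV ⟨x, hxV⟩ * ((avg A V hAV ⟨x, hxV⟩)⁻¹ * ⟨x, hxV⟩ ^ Fintype.card A) := by
        rw [mul_inv_cancel_left]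
      have h4 : (((⟨x, hxV⟩ : V) ^ Fintype.card A : V) : G) ∈
          (V ⊓ Subgroup.centralizer (A : Set G)) ⊔ ⁅V, A⁆ := by
        rw [h3, Subgroup.coe_mul]
        apply Subgroup.mul_mem
        · exact Subgroup.mem_sup_left ⟨(avg A V hAV ⟨x, hxV⟩).2, avg_mem_centralizer A V hAV _⟩
        · exact Subgroup.mem_sup_right (avg_inv_mul_pow_mem_commutator A V hAV _)
      have h5 := Subgroup.pow_mem _ h4 m
      have h6 : ((((⟨x, hxV⟩ : V) ^ Fintype.card A : V) : G)) ^ m = x := by
        have := congrArg Subtype.val hm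
        simpa using this
      rwa [h6] at h5

end Cfsg.Agent.Lib.Lead
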