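import Mathlib
import Cfsg.Agent.Lib.Lead.Coprime

set_option autoImplicit false
open Pointwise

namespace Cfsg.Agent.Lib.Lead

variable {G : Type*} [Group G]

theorem mem_conj_smul_iff {H : Subgroup G} {g x : G} :
    x ∈ MulAut.conj g • H ↔ g⁻¹ * x * g ∈ H := by
  rw [Subgroup.mem_pointwise_smul_iff_inv_smul_mem]
  simp [MulAut.smul_def, map_inv]

/-- malnormality of a Frobenius complement -/
theorem frob_mal {H : Subgroup G} (hH : Cfsg.IsFrobeniusComplement H) {a b x : G} (hx1 : x ≠ 1)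
    (ha : x ∈ MulAut.conj a • H) (hb : x ∈ MulAut.conj b • H) : a⁻¹ * b ∈ H := by
  by_contra hn
  have h0 := hH.2.2 (a⁻¹ * b) hn
  have h1 : a⁻¹ * x * a ∈ H := mem_conj_smul_iff.mp ha
  have h2 : a⁻¹ * x * a ∈ MulAut.conj (a⁻¹ * b) • H := by
    rw [mem_conj_smul_iff]
    have := mem_conj_smul_iff.mp hb
    have e : (a⁻¹ * b)⁻¹ * (a⁻¹ * x * a) * (a⁻¹ * b) = b⁻¹ * x * b := by group
    rw [e]; exact this
  have h3 : a⁻¹ * x * a ∈ H ⊓ MulAut.conj (a⁻¹ * b) • H := ⟨h1, h2⟩
  rw [h0, Subgroup.mem_bot] at h3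
  apply hx1
  have : x = a * (a⁻¹ * x * a) * a⁻¹ := by group
  rw [this, h3]; group

theorem not_mem_frobeniusKernel_iff {H : Subgroup G} {x : G} :
    x ∉ Cfsg.frobeniusKernel H ↔ x ≠ 1 ∧ ∃ g : G, x ∈ MulAut.conj g • H := by
  unfold Cfsg.frobeniusKernel
  simp only [Set.mem_setOf_eq, not_or, not_forall, not_not]

/-- the parametrisation of the non-kernel elements of a Frobenius group -/
noncomputable def frobMap (H : Subgroup G) :
    (G ⧸ H) × {h : H // h ≠ 1} → {x : G // x ∉ Cfsg.frobeniusKernel H} := fun qh =>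
  ⟨qh.1.out * (qh.2.1 : G) * qh.1.out⁻¹, by
    rw [not_mem_frobeniusKernel_iff]
    refine ⟨?_, qh.1.out, ?_⟩
    · intro h
      apply qh.2.2
      apply Subtype.ext
      have : (qh.2.1 : G) = qh.1.out⁻¹ * (qh.1.out * (qh.2.1 : G) * qh.1.out⁻¹) * qh.1.out := by group
      rw [this, h]; simp
    · rw [mem_conj_smul_iff]
      have : qh.1.out⁻¹ * (qh.1.out * (qh.2.1 : G) * qh.1.out⁻¹) * qh.1.out = (qh.2.1 : G) := by group
      rw [this]; exact qh.2.1.2⟩

theorem frobMap_bijective {H : Subgroup G} (hH : Cfsg.IsFrobeniusComplement H) :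
    Function.Bijective (frobMap H) := by
  constructor
  · rintro ⟨q, ⟨h, hh⟩⟩ ⟨q', ⟨h', hh'⟩⟩ heq
    have heq' : q.out * (h : G) * q.out⁻¹ = q'.out * (h' : G) * q'.out⁻¹ := congrArg Subtype.val heq
    have hx1 : q.out * (h : G) * q.out⁻¹ ≠ 1 := by
      intro h0
      apply hh
      apply Subtype.ext
      have : (h : G) = q.out⁻¹ * (q.out * (h : G) * q.out⁻¹) * q.out := by group
      rw [this, h0]; simp
    have ha : q.out * (h : G) * q.out⁻¹ ∈ MulAut.conj q.out • H := by
      rw [mem_conj_smul_iff]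
      have : q.out⁻¹ * (q.out * (h : G) * q.out⁻¹) * q.out = (h : G) := by group
      rw [this]; exact h.2
    have hb : q.out * (h : G) * q.out⁻¹ ∈ MulAut.conj q'.out • H := by
      rw [heq', mem_conj_smul_iff]
      have : q'.out⁻¹ * (q'.out * (h' : G) * q'.out⁻¹) * q'.out = (h' : G) := by group
      rw [this]; exact h'.2
    have hq : q = q' := by
      rw [← QuotientGroup.out_eq' q, ← QuotientGroup.out_eq' q', QuotientGroup.eq]
      exact frob_mal hH hx1 ha hb
    subst hq
    have : (h : G) = h' := by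
      have h5 : q.out⁻¹ * (q.out * (h : G) * q.out⁻¹) * q.out =
          q.out⁻¹ * (q.out * (h' : G) * q.out⁻¹) * q.out := by rw [heq']
      have e1 : q.out⁻¹ * (q.out * (h : G) * q.out⁻¹) * q.out = (h : G) := by group
      have e2 : q.out⁻¹ * (q.out * (h' : G) * q.out⁻¹) * q.out = (h' : G) := by group
      rw [e1, e2] at h5
      exact h5
    have : h = h' := Subtype.ext this
    subst this
    rfl
  · rintro ⟨x, hx⟩
    obtain ⟨hx1, g, hg⟩ := not_mem_frobeniusKernel_iff.mp hx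
    obtain ⟨u, hu⟩ := QuotientGroup.mk_out_eq_mul H g
    have hmem : (u : G)⁻¹ * (g⁻¹ * x * g) * u ∈ H :=
      H.mul_mem (H.mul_mem (H.inv_mem u.2) (mem_conj_smul_iff.mp hg)) u.2
    refine ⟨⟨(g : G ⧸ H), ⟨⟨_, hmem⟩, ?_⟩⟩, ?_⟩
    · intro h0
      apply hx1
      have h1 : (u : G)⁻¹ * (g⁻¹ * x * g) * u = 1 := congrArg Subtype.val h0
      have : x = g * u * ((u : G)⁻¹ * (g⁻¹ * x * g) * u) * (g * u)⁻¹ := by group
      rw [this, h1]; group
    · apply Subtype.ext
      show (g : G ⧸ H).out * ((u : G)⁻¹ * (g⁻¹ * x * g) * u) * (g : G ⧸ H).out⁻¹ = x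
      rw [hu]; group

/-- The Frobenius kernel has as many elements as the index of the complement. -/
theorem card_frobeniusKernel [Finite G] {H : Subgroup G} (hH : Cfsg.IsFrobeniusComplement H) :
    Nat.card (Cfsg.frobeniusKernel H) = H.index := by
  have h1 : Nat.card ((G ⧸ H) × {h : H // h ≠ 1}) = Nat.card {x : G // x ∉ Cfsg.frobeniusKernel H} :=
    Nat.card_congr (Equiv.ofBijective _ (frobMap_bijective hH))
  rw [Nat.card_prod, ← Subgroup.index_eq_card] at h1
  have h2 : Nat.card {h : H // h ≠ 1} = Nat.card H - 1 := by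
    have := Set.ncard_compl ({1} : Set H)
    rw [Set.ncard_singleton] at this
    rw [← this]
    rfl
  have h3 : Nat.card {x : G // x ∉ Cfsg.frobeniusKernel H} =
      Nat.card G - Nat.card (Cfsg.frobeniusKernel H) := by
    have := Set.ncard_compl (Cfsg.frobeniusKernel H)
    exact this
  rw [h2, h3] at h1
  have h4 : H.index * Nat.card H = Nat.card G := Subgroup.index_mul_card H
  have h5 : 0 < Nat.card H := Nat.card_pos
  have h6 : Nat.card (Cfsg.frobeniusKernel H) ≤ Nat.card G :=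
    Nat.card_le_card_of_injective _ Subtype.val_injective
  have h7 : H.index * (Nat.card H - 1) = H.index * Nat.card H - H.index := by
    rw [Nat.mul_sub, mul_one]
  have h8 : H.index ≤ H.index * Nat.card H := Nat.le_mul_of_pos_right _ h5
  omega

end Cfsg.Agent.Lib.Lead
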