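import Mathlib
import Cfsg.Agent.Lib.Lead.Frobenius

set_option autoImplicit false
open Pointwise

namespace Cfsg.Agent.Lib.Lead

variable {G : Type*} [Group G]

theorem conj_mem_frobeniusKernel {H : Subgroup G} {x : G} (hx : x ∈ Cfsg.frobeniusKernel H) (u : G) :
    u * x * u⁻¹ ∈ Cfsg.frobeniusKernel H := by
  rcases hx with hx | hx
  · left; rw [hx]; group
  · right
    intro g hg
    apply hx (u⁻¹ * g)
    rw [mem_conj_smul_iff] at hg ⊢
    have : (u⁻¹ * g)⁻¹ * x * (u⁻¹ * g) = g⁻¹ * (u * x * u⁻¹) * g := by group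
    rw [this]; exact hg

/-- the non-identity elements of the Frobenius kernel -/
def frobKerNe (H : Subgroup G) : Type _ := {x : G // x ∈ Cfsg.frobeniusKernel H ∧ x ≠ 1}

/-- conjugation action of the complement on the non-identity kernel elements -/
def frobKerNeAction (H : Subgroup G) : MulAction H (frobKerNe H) where
  smul u y := ⟨(u : G) * y.1 * (u : G)⁻¹, conj_mem_frobeniusKernel y.2.1 u, by
    intro h
    apply y.2.2
    have : y.1 = (u : G)⁻¹ * ((u : G) * y.1 * (u : G)⁻¹) * u := by group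
    rw [this, h]; group⟩
  one_smul y := by
    apply Subtype.ext
    show ((1 : H) : G) * y.1 * ((1 : H) : G)⁻¹ = y.1
    simp
  mul_smul u v y := by
    apply Subtype.ext
    show ((u * v : H) : G) * y.1 * ((u * v : H) : G)⁻¹ = (u : G) * ((v : G) * y.1 * (v : G)⁻¹) * (u : G)⁻¹
    simp [mul_assoc]

theorem frobKerNe_free {H : Subgroup G} (hH : Cfsg.IsFrobeniusComplement H) (y : frobKerNe H) :
    @MulAction.stabilizer H (frobKerNe H) _ (frobKerNeAction H) y = ⊥ := by
  letI := frobKerNeAction H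
  rw [eq_bot_iff]
  intro u hu
  rw [Subgroup.mem_bot]
  by_contra hu1
  have h0 : (u • y : frobKerNe H) = y := MulAction.mem_stabilizer_iff.mp hu
  have h1 : (u : G) * y.1 * (u : G)⁻¹ = y.1 := congrArg Subtype.val h0
  have hu1' : (u : G) ≠ 1 := fun h => hu1 (Subtype.ext h)
  have ha : (u : G) ∈ MulAut.conj (1 : G) • H := by
    rw [mem_conj_smul_iff]; simp
  have hb : (u : G) ∈ MulAut.conj y.1 • H := by
    rw [mem_conj_smul_iff]
    have : y.1⁻¹ * (u : G) * y.1 = u := by
      calc y.1⁻¹ * (u : G) * y.1 = y.1⁻¹ * ((u : G) * y.1 * (u : G)⁻¹) * u := by group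
        _ = u := by rw [h1]; group
    rw [this]; exact u.2
  have h2 := frob_mal hH hu1' ha hb
  rw [inv_one, one_mul] at h2
  rcases y.2.1 with h3 | h3
  · exact y.2.2 h3
  · apply h3 1
    rw [mem_conj_smul_iff]; simpa using h2

theorem card_frobKerNe [Finite G] {H : Subgroup G} (hH : Cfsg.IsFrobeniusComplement H) :
    Nat.card (frobKerNe H) + 1 = H.index := by
  rw [← card_frobeniusKernel hH]
  have h1 : Nat.card (frobKerNe H) = Nat.card {x : Cfsg.frobeniusKernel H // x ≠ ⟨1, Or.inl rfl⟩} := by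
    apply Nat.card_congr
    exact
      { toFun := fun y => ⟨⟨y.1, y.2.1⟩, fun h => y.2.2 (congrArg Subtype.val h)⟩
        invFun := fun y => ⟨y.1.1, y.1.2, fun h => y.2 (Subtype.ext h)⟩
        left_inv := fun y => rfl
        right_inv := fun y => rfl }
  rw [h1]
  have h2 := Set.ncard_compl ({⟨1, Or.inl rfl⟩} : Set (Cfsg.frobeniusKernel H))
  rw [Set.ncard_singleton] at h2
  have h3 : Nat.card {x : Cfsg.frobeniusKernel H // x ≠ ⟨1, Or.inl rfl⟩} =
      Nat.card (Cfsg.frobeniusKernel H) - 1 := h2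
  rw [h3]
  have : 0 < Nat.card (Cfsg.frobeniusKernel H) := by
    have : Nonempty (Cfsg.frobeniusKernel H) := ⟨⟨1, Or.inl rfl⟩⟩
    exact Nat.card_pos
  omega

/-- The index of a Frobenius complement is congruent to `1` modulo its order. -/
theorem index_mod_card [Finite G] {H : Subgroup G} (hH : Cfsg.IsFrobeniusComplement H) :
    H.index % Nat.card H = 1 % Nat.card H := by
  let _ := frobKerNeAction H
  have e := MulAction.selfEquivOrbitsQuotientProd (G := H) (X := frobKerNe H) (frobKerNe_free hH)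
  have h1 := Nat.card_congr e
  rw [Nat.card_prod] at h1
  rw [← card_frobKerNe hH, h1, add_comm, Nat.add_mul_mod_self_right]

end Cfsg.Agent.Lib.Lead
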