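import Mathlib
import Cfsg.Agent.Lib.Lead.Frobenius2

set_option autoImplicit false
open Pointwise

namespace Cfsg.Agent.Lib.Lead

variable {G : Type*} [Group G]

theorem mem_centralizer_singleton_iff {h k : G} :
    k ∈ Subgroup.centralizer ({h} : Set G) ↔ h * k = k * h := by
  rw [Subgroup.mem_centralizer_iff]
  simp

/-- A complement of a normal subgroup acting fixed-point-freely is a Frobenius complement,
and conversely. -/
theorem isFrobeniusComplement_iff_fpf (K H : Subgroup G) [K.Normal]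
    (hc : Subgroup.IsComplement' K H) (hK : K ≠ ⊥) (hH : H ≠ ⊥) :
    Cfsg.IsFrobeniusComplement H ↔ ∀ h ∈ H, h ≠ 1 → K ⊓ Subgroup.centralizer {h} = ⊥ := by
  have hdisj : K ⊓ H = ⊥ := disjoint_iff.mp hc.disjoint
  have hsup : K ⊔ H = ⊤ := hc.sup_eq_top
  constructor
  · intro hF h hh hh1
    rw [eq_bot_iff]
    intro k hk
    obtain ⟨hkK, hkC⟩ := Subgroup.mem_inf.mp hk
    rw [Subgroup.mem_bot]
    rw [mem_centralizer_singleton_iff] at hkC
    -- h ∈ H ∩ H^k
    have ha : h ∈ MulAut.conj (1 : G) • H := by rw [mem_conj_smul_iff]; simpa using hh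
    have hb : h ∈ MulAut.conj k • H := by
      rw [mem_conj_smul_iff]
      have : k⁻¹ * h * k = h := by rw [mul_assoc, hkC, inv_mul_cancel_left]
      rw [this]; exact hh
    have := frob_mal hF hh1 ha hb
    rw [inv_one, one_mul] at this
    have h2 : k ∈ K ⊓ H := ⟨hkK, this⟩
    rwa [hdisj, Subgroup.mem_bot] at h2
  · intro hfpf
    refine ⟨hH, ?_, ?_⟩
    · intro htop
      rw [htop, inf_top_eq] at hdisj
      exact hK hdisj
    · intro g hg
      have hg' : g ∈ K ⊔ H := hsup ▸ Subgroup.mem_top g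
      rw [Subgroup.mem_sup_of_normal_left] at hg'
      obtain ⟨k, hk, h', hh', rfl⟩ := hg'
      have hk1 : k ≠ 1 := by
        intro h
        apply hg
        rw [h, one_mul]; exact hh'
      rw [eq_bot_iff]
      intro x hx
      obtain ⟨hxH, hxc⟩ := Subgroup.mem_inf.mp hx
      rw [Subgroup.mem_bot]
      rw [mem_conj_smul_iff] at hxc
      -- y := (k h')⁻¹ x (k h') ∈ H, so y' := h' y h'⁻¹ = k⁻¹ x k ∈ H
      have hy : k⁻¹ * x * k ∈ H := by
        have := H.mul_mem (H.mul_mem hh' hxc) (H.inv_mem hh')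
        have e : h' * ((k * h')⁻¹ * x * (k * h')) * h'⁻¹ = k⁻¹ * x * k := by group
        rwa [e] at this
      -- x * y'⁻¹ ∈ K ∩ H
      have h1 : x * (k⁻¹ * x * k)⁻¹ ∈ H := H.mul_mem hxH (H.inv_mem hy)
      have h2 : x * (k⁻¹ * x * k)⁻¹ ∈ K := by
        have e : x * (k⁻¹ * x * k)⁻¹ = (x * k⁻¹ * x⁻¹) * k := by group
        rw [e]
        exact K.mul_mem (Subgroup.Normal.conj_mem inferInstance _ (K.inv_mem hk) x) hk
      have h3 : x * (k⁻¹ * x * k)⁻¹ ∈ K ⊓ H := ⟨h2, h1⟩
      rw [hdisj, Subgroup.mem_bot] at h3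
      have h4 : x = k⁻¹ * x * k := by
        have := mul_inv_eq_one.mp h3
        exact this
      by_contra hx1
      have h5 := hfpf x hxH hx1
      have h6 : k ∈ K ⊓ Subgroup.centralizer {x} := by
        refine Subgroup.mem_inf.mpr ⟨hk, ?_⟩
        rw [mem_centralizer_singleton_iff]
        calc x * k = k * (k⁻¹ * x * k) := by group
          _ = k * x := by rw [← h4]
      rw [h5, Subgroup.mem_bot] at h6
      exact hk1 h6

end Cfsg.Agent.Lib.Lead
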