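import Mathlib
import Cfsg.Agent.Lib.Lead.Frobenius3

set_option autoImplicit false
open Pointwise
open scoped commutatorElement

namespace Cfsg.Agent.Lib.Lead

variable {G : Type*} [Group G]

section general

variable (H : Subgroup G) [H.FiniteIndex]

/-- If `[G:H]` is prime to `|H/H*|`, the kernel of the transfer into `H/H*` meets `H` in `H*`. -/
theorem ker_transferFocal_inf_eq [Finite G]
    (hcop : (Nat.card (H ⧸ H.focalSubgroupOf)).Coprime H.index) :
    H.transferFocal.ker ⊓ H = H.focalSubgroup := by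
  ext g
  constructor
  · rintro ⟨hgk, hgH⟩
    have h1 : H.transferFocal ((⟨g, hgH⟩ : H) : G) = 1 := hgk
    rw [Subgroup.transferFocal_eq_pow] at h1
    have h2 : (powCoprime hcop) ((⟨g, hgH⟩ : H) : H ⧸ H.focalSubgroupOf) = (powCoprime hcop) 1 := by
      rw [powCoprime_apply, powCoprime_apply, h1, one_pow]
    have h3 := (powCoprime hcop).injective h2
    have h4 : (⟨g, hgH⟩ : H) ∈ H.focalSubgroupOf := (QuotientGroup.eq_one_iff _).mp h3
    exact Subgroup.mem_subgroupOf.mp h4
  · intro hg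
    have hgH : g ∈ H := H.focalSubgroup_le hg
    refine ⟨?_, hgH⟩
    have h4 : (⟨g, hgH⟩ : H) ∈ H.focalSubgroupOf := Subgroup.mem_subgroupOf.mpr hg
    have h1 : H.transferFocal ((⟨g, hgH⟩ : H) : G) = 1 := by
      rw [Subgroup.transferFocal_eq_pow, (QuotientGroup.eq_one_iff _).mpr h4, one_pow]
    exact h1

theorem ker_transferFocal_sup_eq_top [Finite G]
    (hcop : (Nat.card (H ⧸ H.focalSubgroupOf)).Coprime H.index) :
    H.transferFocal.ker ⊔ H = ⊤ := by
  rw [eq_top_iff]
  intro g _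
  obtain ⟨y, hy⟩ := (powCoprime hcop).surjective (H.transferFocal g)
  obtain ⟨x, rfl⟩ := QuotientGroup.mk_surjective y
  rw [powCoprime_apply, ← Subgroup.transferFocal_eq_pow] at hy
  have h1 : g * (x : G)⁻¹ ∈ H.transferFocal.ker := by
    rw [MonoidHom.mem_ker, map_mul, map_inv, hy, mul_inv_cancel]
  have : g = (g * (x : G)⁻¹) * x := by group
  rw [this]
  exact Subgroup.mul_mem_sup h1 x.2

open scoped IsMulCommutative in
theorem commutator_inf_eq_focal [Finite G]
    (hcop : (Nat.card (H ⧸ H.focalSubgroupOf)).Coprime H.index) :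
    commutator G ⊓ H = H.focalSubgroup := by
  apply le_antisymm
  · rw [← ker_transferFocal_inf_eq H hcop]
    exact inf_le_inf_right _ (Abelianization.commutator_subset_ker H.transferFocal)
  · exact le_inf H.focalSubgroup_le_commutator H.focalSubgroup_le

end general

/-- If a subgroup `N ≥ P` controls fusion in the Sylow subgroup `P`, the focal subgroup of `P`
lies in the derived subgroup of `N`. -/
theorem focal_le_of_control {p : ℕ} [Fact p.Prime] (P : Sylow p G) (N : Subgroup G)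
    (hPN : (P : Subgroup G) ≤ N)
    (hctl : ∀ x ∈ P, ∀ g : G, g * x * g⁻¹ ∈ P → ∃ n ∈ N, n * x * n⁻¹ = g * x * g⁻¹) :
    (P : Subgroup G).focalSubgroup ≤ ⁅N, N⁆ := by
  rw [Subgroup.focalSubgroup_def, Subgroup.closure_le]
  rintro g ⟨hgP, x, hxP, u, rfl⟩
  have h1 : u * x⁻¹ * u⁻¹ ∈ P := by
    have : u * x⁻¹ * u⁻¹ = x⁻¹ * ⁅x, u⁆ := by rw [commutatorElement_def]; group
    rw [this]
    exact Subgroup.mul_mem _ (Subgroup.inv_mem _ hxP) hgP
  obtain ⟨n, hn, hnx⟩ := hctl x⁻¹ (Subgroup.inv_mem _ hxP) u h1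
  have h2 : ⁅x, u⁆ = ⁅x, n⁆ := by
    rw [commutatorElement_def, commutatorElement_def]
    calc x * u * x⁻¹ * u⁻¹ = x * (u * x⁻¹ * u⁻¹) := by group
      _ = x * (n * x⁻¹ * n⁻¹) := by rw [hnx]
      _ = x * n * x⁻¹ * n⁻¹ := by group
  rw [SetLike.mem_coe, h2]
  exact Subgroup.commutator_mem_commutator (hPN hxP) hn

theorem commutator_inf_sylow_eq_of_control [Finite G] {p : ℕ} [Fact p.Prime] (P : Sylow p G)
    (N : Subgroup G) (hPN : (P : Subgroup G) ≤ N)
    (hctl : ∀ x ∈ P, ∀ g : G, g * x * g⁻¹ ∈ P → ∃ n ∈ N, n * x * n⁻¹ = g * x * g⁻¹) :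
    commutator G ⊓ (P : Subgroup G) = ⁅N, N⁆ ⊓ (P : Subgroup G) := by
  apply le_antisymm
  · apply le_inf _ inf_le_right
    rw [Subgroup.commutator_inf_eq_focalSubgroup]
    exact focal_le_of_control P N hPN hctl
  · apply inf_le_inf_right
    rw [commutator_def]
    exact Subgroup.commutator_mono le_top le_top

end Cfsg.Agent.Lib.Lead
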