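import Mathlib
import Cfsg.Agent.Lib.Lead.Focal

set_option autoImplicit false
open Pointwise
open scoped commutatorElement

namespace Cfsg.Agent.Lib.Lead

variable {G : Type*} [Group G]

/-- If `N` is normal with `N ⊔ H = ⊤` and `⁅H, H⁆ ≤ N`, then `G' ≤ N`. -/
theorem commutator_le_of_sup_eq_top (N H : Subgroup G) [N.Normal] (hsup : N ⊔ H = ⊤)
    (hder : ⁅H, H⁆ ≤ N) : commutator G ≤ N := by
  apply commutator_le_of_quotient_comm
  have hrep : ∀ a : G ⧸ N, ∃ x ∈ H, (x : G ⧸ N) = a := by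
    intro a
    obtain ⟨g, rfl⟩ := QuotientGroup.mk_surjective a
    have hg : g ∈ N ⊔ H := hsup ▸ Subgroup.mem_top g
    rw [Subgroup.mem_sup_of_normal_left] at hg
    obtain ⟨n, hn, x, hx, rfl⟩ := hg
    refine ⟨x, hx, ?_⟩
    rw [QuotientGroup.mk_mul, (QuotientGroup.eq_one_iff n).mpr hn, one_mul]
  intro a b
  obtain ⟨x, hx, rfl⟩ := hrep a
  obtain ⟨y, hy, rfl⟩ := hrep b
  have h1 : ⁅x, y⁆ ∈ N := hder (Subgroup.commutator_mem_commutator hx hy)
  have h2 : ((⁅x, y⁆ : G) : G ⧸ N) = 1 := (QuotientGroup.eq_one_iff _).mpr h1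
  rw [commutatorElement_def] at h2
  simp only [QuotientGroup.mk_mul, QuotientGroup.mk_inv] at h2
  have h3 : (x : G ⧸ N) * y = ((x : G ⧸ N) * y * (x : G ⧸ N)⁻¹ * (y : G ⧸ N)⁻¹) * (y * x) := by group
  rw [h3, h2, one_mul]

/-- Transfer into `H/H*`: under the coprimality assumption there is a normal subgroup `N` with
`N ⊓ H = G' ⊓ H = H*` and `N ⊔ H = ⊤`. -/
theorem exists_normal_of_coprime [Finite G] (H : Subgroup G)
    (hcop : (Nat.card (H ⧸ H.focalSubgroupOf)).Coprime H.index) :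
    H.focalSubgroup = commutator G ⊓ H ∧
      ∃ N : Subgroup G, N.Normal ∧ N ⊓ H = commutator G ⊓ H ∧ N ⊔ H = ⊤ := by
  have h1 := commutator_inf_eq_focal H hcop
  refine ⟨h1.symm, H.transferFocal.ker, inferInstance, ?_, ker_transferFocal_sup_eq_top H hcop⟩
  rw [h1]
  exact ker_transferFocal_inf_eq H hcop

theorem sylow_focal_coprime [Finite G] {p : ℕ} [Fact p.Prime] (P : Sylow p G) :
    (Nat.card ((P : Subgroup G) ⧸ (P : Subgroup G).focalSubgroupOf)).Coprime (P : Subgroup G).index := by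
  have hQ : IsPGroup p ((P : Subgroup G) ⧸ (P : Subgroup G).focalSubgroupOf) :=
    P.isPGroup'.to_quotient _
  obtain ⟨k, hk⟩ := (IsPGroup.iff_card).mp hQ
  rw [hk]
  exact Nat.Coprime.pow_left k ((Nat.Prime.coprime_iff_not_dvd Fact.out).mpr P.not_dvd_index)

end Cfsg.Agent.Lib.Lead
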