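import Mathlib
import Cfsg.Prelude.Def_Transfer
import Cfsg.Agent.Lib.Lead.Focal2

set_option autoImplicit false
open Pointwise

namespace Cfsg.Agent.Lib.Lead

variable {G : Type*} [Group G]

theorem map_conj_le_iff {Z P : Subgroup G} (g : G) :
    Z.map (MulAut.conj g).toMonoidHom ≤ P ↔ ∀ z ∈ Z, g * z * g⁻¹ ∈ P := by
  constructor
  · intro h z hz
    exact h ⟨z, hz, rfl⟩
  · rintro h _ ⟨z, hz, rfl⟩
    exact h z hz

theorem mem_normalizer_of_weaklyClosed {Z P : Subgroup G} (hW : Cfsg.IsWeaklyClosed Z P) (g : G)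
    (h : ∀ z ∈ Z, g * z * g⁻¹ ∈ P) : g ∈ Subgroup.normalizer (Z : Set G) := by
  rw [Subgroup.mem_normalizer_iff_map_conj_eq]
  exact hW.2 g ((map_conj_le_iff g).mpr h)

/-- If `Z ≤ Z(P)` is weakly closed in the Sylow subgroup `P`, then `N_G(Z)` controls fusion in `P`. -/
theorem control_of_weaklyClosed_central [Finite G] {p : ℕ} [Fact p.Prime] (P : Sylow p G)
    (Z : Subgroup G) (hZ : Z ≤ Subgroup.centralizer (P : Set G)) (hW : Cfsg.IsWeaklyClosed Z P)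
    (x : G) (hx : x ∈ P) (g : G) (hg : g * x * g⁻¹ ∈ P) :
    ∃ n ∈ Subgroup.normalizer (Z : Set G), n * x * n⁻¹ = g * x * g⁻¹ := by
  have hZP : Z ≤ (P : Subgroup G) := hW.1
  have hZp : IsPGroup p Z := P.isPGroup'.to_le hZP
  obtain ⟨y, hy⟩ : ∃ y, y = g * x * g⁻¹ := ⟨_, rfl⟩
  rw [← hy] at hg ⊢
  -- Z and its conjugate both centralise y
  have h1 : Z ≤ Subgroup.centralizer ({y} : Set G) := by
    intro z hz
    rw [mem_centralizer_singleton_iff]
    have := (Subgroup.mem_centralizer_iff.mp (hZ hz)) y hg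
    exact this
  have hZgp : IsPGroup p (Z.map (MulAut.conj g).toMonoidHom) := hZp.map _
  have h2 : Z.map (MulAut.conj g).toMonoidHom ≤ Subgroup.centralizer ({y} : Set G) := by
    rw [map_conj_le_iff]
    intro z hz
    rw [mem_centralizer_singleton_iff]
    have hzx : x * z = z * x := (Subgroup.mem_centralizer_iff.mp (hZ hz)) x hx
    calc y * (g * z * g⁻¹) = g * (x * z) * g⁻¹ := by rw [hy]; group
      _ = g * (z * x) * g⁻¹ := by rw [hzx]
      _ = g * z * g⁻¹ * y := by rw [hy]; group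
  obtain ⟨Q, hQ⟩ := (hZp.comap_subtype (K := Subgroup.centralizer ({y} : Set G))).exists_le_sylow
  obtain ⟨Q', hQ'⟩ := (hZgp.comap_subtype (K := Subgroup.centralizer ({y} : Set G))).exists_le_sylow
  obtain ⟨c, hc⟩ := MulAction.exists_smul_eq (Subgroup.centralizer ({y} : Set G)) Q' Q
  obtain ⟨R, hR⟩ := (Q.isPGroup'.map (Subgroup.centralizer ({y} : Set G)).subtype).exists_le_sylow
  obtain ⟨h, hh⟩ := MulAction.exists_smul_eq G P R
  -- membership in R = h • P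
  have hRP : ∀ w : G, w ∈ (R : Subgroup G) → h⁻¹ * w * h ∈ P := by
    intro w hw
    rw [← hh, Sylow.coe_subgroup_smul, mem_conj_smul_iff] at hw
    exact hw
  have e1 : ∀ z ∈ Z, h⁻¹ * z * h⁻¹⁻¹ ∈ (P : Subgroup G) := by
    intro z hz
    rw [inv_inv]
    apply hRP
    apply hR
    exact ⟨⟨z, h1 hz⟩, hQ (Subgroup.mem_subgroupOf.mpr hz), rfl⟩
  have e2 : ∀ z ∈ Z, (h⁻¹ * c * g) * z * (h⁻¹ * c * g)⁻¹ ∈ (P : Subgroup G) := by
    intro z hz
    have hw : g * z * g⁻¹ ∈ Z.map (MulAut.conj g).toMonoidHom := ⟨z, hz, rfl⟩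
    have hw' : (⟨g * z * g⁻¹, h2 hw⟩ : Subgroup.centralizer ({y} : Set G)) ∈ (Q' : Subgroup _) :=
      hQ' (Subgroup.mem_subgroupOf.mpr hw)
    have hcw : c * ⟨g * z * g⁻¹, h2 hw⟩ * c⁻¹ ∈ (Q : Subgroup _) := by
      rw [← hc, Sylow.coe_subgroup_smul, mem_conj_smul_iff]
      have : c⁻¹ * (c * ⟨g * z * g⁻¹, h2 hw⟩ * c⁻¹) * c = ⟨g * z * g⁻¹, h2 hw⟩ := by group
      rw [this]; exact hw'
    have h3 : (c : G) * (g * z * g⁻¹) * (c : G)⁻¹ ∈ (R : Subgroup G) := by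
      apply hR
      exact ⟨_, hcw, rfl⟩
    have := hRP _ h3
    have e : (h⁻¹ * c * g) * z * (h⁻¹ * c * g)⁻¹ = h⁻¹ * ((c : G) * (g * z * g⁻¹) * (c : G)⁻¹) * h := by
      group
    rw [e]; exact this
  have n1 : h⁻¹ ∈ Subgroup.normalizer (Z : Set G) := mem_normalizer_of_weaklyClosed hW _ e1
  have n2 : h⁻¹ * c * g ∈ Subgroup.normalizer (Z : Set G) := mem_normalizer_of_weaklyClosed hW _ e2
  refine ⟨c * g, ?_, ?_⟩
  · have := Subgroup.mul_mem _ (Subgroup.inv_mem _ n1) n2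
    have e : h⁻¹⁻¹ * (h⁻¹ * c * g) = c * g := by group
    rwa [e] at this
  · have hcy : y * (c : G) = c * y := mem_centralizer_singleton_iff.mp c.2
    calc (c : G) * g * x * (c * g)⁻¹ = c * (g * x * g⁻¹) * (c : G)⁻¹ := by group
      _ = (c * y) * (c : G)⁻¹ := by rw [← hy]
      _ = y := by rw [← hcy, mul_inv_cancel_right]

end Cfsg.Agent.Lib.Lead
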