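import Mathlib
import Cfsg.Agent.Lib.Lead.Fusion

set_option autoImplicit false
open Pointwise
open scoped IsMulCommutative

namespace Cfsg.Agent.Lib.Lead

variable {G : Type*} [Group G]

/-- A central element of an abelian subgroup of finite index that lies in `G'` has `n`-th power `1`,
`n` the index. -/
theorem pow_index_eq_one_of_central_commutator (H : Subgroup G) [H.FiniteIndex] [IsMulCommutative H]
    (x : G) (hxc : x ∈ Subgroup.center G) (hxG : x ∈ commutator G) :
    x ^ H.index = 1 := by
  have key : ∀ (k : ℕ) (g₀ : G), g₀⁻¹ * x ^ k * g₀ ∈ H → g₀⁻¹ * x ^ k * g₀ = x ^ k := by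
    intro k g₀ _
    have hk : x ^ k ∈ Subgroup.center G := Subgroup.pow_mem _ hxc k
    rw [Subgroup.mem_center_iff] at hk
    rw [mul_assoc, ← hk g₀, inv_mul_cancel_left]
  have h1 := MonoidHom.transfer_eq_pow (MonoidHom.id H) x key
  have h2 : MonoidHom.transfer (MonoidHom.id H) x = 1 :=
    Abelianization.commutator_subset_ker _ hxG
  rw [h2] at h1
  have h3 := congrArg Subtype.val h1
  simpa using h3.symm

/-- An abelian Hall subgroup meets `G' ∩ Z(G)` trivially. -/
theorem hall_inf_commutator_inf_center [Finite G] (H : Subgroup G) (hc : IsMulCommutative H)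
    (hHall : Nat.Coprime (Nat.card H) H.index) : H ⊓ commutator G ⊓ Subgroup.center G = ⊥ := by
  rw [eq_bot_iff]
  rintro x ⟨⟨hxH, hxG⟩, hxc⟩
  rw [Subgroup.mem_bot]
  have h1 := pow_index_eq_one_of_central_commutator H x hxc hxG
  have h2 : orderOf x ∣ H.index := orderOf_dvd_of_pow_eq_one h1
  have h3 : orderOf x ∣ Nat.card H := Subgroup.orderOf_dvd_natCard H hxH
  have h4 : orderOf x = 1 := Nat.eq_one_of_dvd_coprimes hHall h3 h2
  exact orderOf_eq_one_iff.mp h4

end Cfsg.Agent.Lib.Lead
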