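import Mathlib
import Cfsg.Agent.Lib.Lead.Hall

set_option autoImplicit false
open Pointwise

namespace Cfsg.Agent.Lib.Lead

variable {G : Type*} [Group G]

/-- A normal complement of one Sylow `p`-subgroup is a complement of every Sylow `p`-subgroup. -/
theorem isComplement'_sylow_of_hasNormalPComplement [Finite G] {p : ℕ} [Fact p.Prime]
    (h : Cfsg.HasNormalPComplement p G) (P : Sylow p G) :
    ∃ N : Subgroup G, N.Normal ∧ N.IsComplement' (P : Subgroup G) := by
  obtain ⟨P', N, hN, hc⟩ := h
  refine ⟨N, hN, ?_⟩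
  have hcard : Nat.card (P : Subgroup G) = Nat.card (P' : Subgroup G) := by
    rw [Sylow.card_eq_multiplicity, Sylow.card_eq_multiplicity]
  have h1 : Nat.card N * Nat.card (P' : Subgroup G) = Nat.card G := hc.card_mul_card
  have h2 : Nat.card (P' : Subgroup G) * (P' : Subgroup G).index = Nat.card G :=
    Subgroup.card_mul_index _
  have h3 : Nat.card N = (P' : Subgroup G).index := by
    have : Nat.card (P' : Subgroup G) * Nat.card N =
        Nat.card (P' : Subgroup G) * (P' : Subgroup G).index := by rw [h2, mul_comm, h1]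
    exact Nat.eq_of_mul_eq_mul_left Nat.card_pos this
  apply Subgroup.isComplement'_of_coprime
  · rw [hcard]; exact h1
  · rw [hcard, h3]; exact P'.card_coprime_index.symm

theorem hasNormalPComplement_of_normalizer_le_centralizer [Finite G] {p : ℕ} [Fact p.Prime]
    (P : Sylow p G) (hP : Subgroup.normalizer (P : Set G) ≤ Subgroup.centralizer (P : Set G)) :
    Cfsg.HasNormalPComplement p G :=
  ⟨P, (MonoidHom.transferSylow P hP).ker, MonoidHom.normal_ker _,
    MonoidHom.ker_transferSylow_isComplement' P hP⟩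

/-- For an abelian Sylow subgroup `P`: a normal `p`-complement exists iff `N_G(P) = Q × P`. -/
theorem hasNormalPComplement_iff_of_abelian [Finite G] {p : ℕ} [Fact p.Prime] (P : Sylow p G)
    (hP : IsMulCommutative P) :
    Cfsg.HasNormalPComplement p G ↔ ∃ Q : Subgroup G, Q ≤ Subgroup.centralizer (P : Set G) ∧
      Q ⊓ (P : Subgroup G) = ⊥ ∧ Q ⊔ (P : Subgroup G) = Subgroup.normalizer (P : Set G) := by
  constructor
  · intro h
    obtain ⟨N, hN, hc⟩ := isComplement'_sylow_of_hasNormalPComplement h P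
    have hdisj : N ⊓ (P : Subgroup G) = ⊥ := disjoint_iff.mp hc.disjoint
    have hsup : N ⊔ (P : Subgroup G) = ⊤ := hc.sup_eq_top
    refine ⟨N ⊓ Subgroup.normalizer (P : Set G), ?_, ?_, ?_⟩
    · intro q hq
      obtain ⟨hqN, hqP⟩ := Subgroup.mem_inf.mp hq
      rw [Subgroup.mem_centralizer_iff]
      intro u hu
      have h1 : q * u * q⁻¹ ∈ (P : Subgroup G) := (Subgroup.mem_normalizer_iff.mp hqP u).mp hu
      have h2 : q * u * q⁻¹ * u⁻¹ ∈ (P : Subgroup G) :=
        Subgroup.mul_mem _ h1 (Subgroup.inv_mem _ hu)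
      have h3 : q * u * q⁻¹ * u⁻¹ ∈ N := by
        have : q * u * q⁻¹ * u⁻¹ = q * (u * q⁻¹ * u⁻¹) := by group
        rw [this]
        exact N.mul_mem hqN (hN.conj_mem _ (N.inv_mem hqN) u)
      have h4 : q * u * q⁻¹ * u⁻¹ ∈ N ⊓ (P : Subgroup G) := Subgroup.mem_inf.mpr ⟨h3, h2⟩
      rw [hdisj, Subgroup.mem_bot] at h4
      have : q * u = (q * u * q⁻¹ * u⁻¹) * (u * q) := by group
      rw [this, h4, one_mul]
    · rw [eq_bot_iff, ← hdisj]
      exact inf_le_inf_right _ inf_le_left
    · apply le_antisymm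
      · exact sup_le inf_le_right Subgroup.le_normalizer
      · intro g hg
        have hg' : g ∈ N ⊔ (P : Subgroup G) := hsup ▸ Subgroup.mem_top g
        haveI := hN
        rw [Subgroup.mem_sup_of_normal_left] at hg'
        obtain ⟨n, hn, u, hu, rfl⟩ := hg'
        have hnP : n ∈ Subgroup.normalizer (P : Set G) := by
          have := Subgroup.mul_mem _ hg (Subgroup.inv_mem _ (Subgroup.le_normalizer hu))
          rwa [mul_inv_cancel_right] at this
        exact Subgroup.mul_mem_sup (Subgroup.mem_inf.mpr ⟨hn, hnP⟩) hu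
  · rintro ⟨Q, hQc, _, hQsup⟩
    apply hasNormalPComplement_of_normalizer_le_centralizer P
    rw [← hQsup]
    apply sup_le hQc
    exact Subgroup.le_centralizer (P : Subgroup G)

end Cfsg.Agent.Lib.Lead
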