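import Mathlib
import Cfsg.Agent.Lib.Lead.PComplement

set_option autoImplicit false
open Pointwise

namespace Cfsg.Agent.Lib.Lead

variable {G : Type*} [Group G]

/-- conjugation action of a subgroup normalising `T` on `T` -/
def conjMulAction (T Q : Subgroup G) (hQ : Q ≤ Subgroup.normalizer (T : Set G)) : MulAction Q T where
  smul q t := ⟨(q : G) * t * (q : G)⁻¹, (Subgroup.mem_normalizer_iff.mp (hQ q.2) t).mp t.2⟩
  one_smul t := Subtype.ext (by
    show ((1 : Q) : G) * t * ((1 : Q) : G)⁻¹ = t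
    simp)
  mul_smul a b t := Subtype.ext (by
    show ((a * b : Q) : G) * t * ((a * b : Q) : G)⁻¹ = (a : G) * ((b : G) * t * (b : G)⁻¹) * (a : G)⁻¹
    simp [mul_assoc])

theorem card_fixedPoints_conjMulAction (T Q : Subgroup G) (hQ : Q ≤ Subgroup.normalizer (T : Set G)) :
    Nat.card (@MulAction.fixedPoints Q T _ (conjMulAction T Q hQ)) =
      Nat.card (T ⊓ Subgroup.centralizer (Q : Set G) : Subgroup G) := by
  letI := conjMulAction T Q hQ
  apply Nat.card_congr
  refine
    { toFun := fun t => ⟨t.1.1, Subgroup.mem_inf.mpr ⟨t.1.2, ?_⟩⟩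
      invFun := fun t => ⟨⟨t.1, (Subgroup.mem_inf.mp t.2).1⟩, ?_⟩
      left_inv := fun t => rfl
      right_inv := fun t => rfl }
  · rw [Subgroup.mem_centralizer_iff]
    intro q hq
    have h1 : (⟨q, hq⟩ : Q) • t.1 = t.1 := t.2 ⟨q, hq⟩
    have h2 : q * (t.1 : G) * q⁻¹ = t.1 := congrArg Subtype.val h1
    calc q * (t.1 : G) = (q * (t.1 : G) * q⁻¹) * q := by group
      _ = t.1 * q := by rw [h2]
  · intro q
    apply Subtype.ext
    show (q : G) * t.1 * (q : G)⁻¹ = t.1
    have := (Subgroup.mem_centralizer_iff.mp (Subgroup.mem_inf.mp t.2).2) q q.2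
    rw [this, mul_inv_cancel_right]

/-- A `q`-group normalising a group `T` of order `2^k` centralises it, provided `q` is odd and does
not divide `2^i - 1` for `1 ≤ i ≤ k`. -/
theorem le_centralizer_of_qgroup [Finite G] (T Q : Subgroup G) (k : ℕ) (hT : Nat.card T = 2 ^ k)
    (q : ℕ) [Fact q.Prime] (hQq : IsPGroup q Q) (hQ : Q ≤ Subgroup.normalizer (T : Set G))
    (hq : ∀ i, 1 ≤ i → i ≤ k → ¬ q ∣ 2 ^ i - 1) (hq2 : q ≠ 2) :
    Q ≤ Subgroup.centralizer (T : Set G) := by
  have hqp : q.Prime := Fact.out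
  letI := conjMulAction T Q hQ
  have h1 := hQq.card_modEq_card_fixedPoints T
  rw [card_fixedPoints_conjMulAction, hT] at h1
  have h2 : Nat.card (T ⊓ Subgroup.centralizer (Q : Set G) : Subgroup G) ∣ 2 ^ k := by
    rw [← hT]; exact Subgroup.card_dvd_of_le inf_le_left
  obtain ⟨j, hjk, hj⟩ := (Nat.dvd_prime_pow Nat.prime_two).mp h2
  rw [hj] at h1
  have h3 : q ∣ 2 ^ k - 2 ^ j :=
    (Nat.modEq_iff_dvd' (Nat.pow_le_pow_right (by norm_num) hjk)).mp h1.symm
  have hjk' : j = k := by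
    by_contra hne
    have hlt : j < k := lt_of_le_of_ne hjk hne
    have e : 2 ^ k - 2 ^ j = 2 ^ j * (2 ^ (k - j) - 1) := by
      rw [Nat.mul_sub, mul_one, ← pow_add]
      congr 2
      omega
    rw [e] at h3
    rcases (Nat.Prime.dvd_mul hqp).mp h3 with h4 | h4
    · have := (Nat.prime_dvd_prime_iff_eq hqp Nat.prime_two).mp (hqp.dvd_of_dvd_pow h4)
      exact hq2 this
    · exact hq (k - j) (by omega) (by omega) h4
  rw [hjk', ← hT] at hj
  have h5 : T ⊓ Subgroup.centralizer (Q : Set G) = T := by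
    have hle : T ⊓ Subgroup.centralizer (Q : Set G) ≤ T := inf_le_left
    exact Subgroup.eq_of_le_of_card_ge hle hj.ge
  have h6 : T ≤ Subgroup.centralizer (Q : Set G) := inf_eq_left.mp h5
  exact Subgroup.le_centralizer_iff.mp h6

theorem qpart_le_centralizer [Finite G] (T : Sylow 2 G) (hTc : IsMulCommutative T) (k : ℕ)
    (hk : Nat.card T = 2 ^ k)
    (h : ∀ q : ℕ, q.Prime → q ∣ Nat.card G → q ≠ 2 → ∀ i, 1 ≤ i → i ≤ k → ¬ q ∣ 2 ^ i - 1)
    (q : ℕ) [hqf : Fact q.Prime] (Q : Subgroup G) (hQq : IsPGroup q Q)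
    (hQR : Q ≤ Subgroup.normalizer ((T : Subgroup G) : Set G)) :
    Q ≤ Subgroup.centralizer ((T : Subgroup G) : Set G) := by
  by_cases hq2 : q = 2
  · subst hq2
    have h2 := IsPGroup.to_sup_of_normal_right' hQq T.isPGroup' hQR
    have h3 := T.is_maximal' h2 le_sup_right
    have h4 : Q ≤ (T : Subgroup G) := by
      rw [← h3]; exact le_sup_left
    exact h4.trans (Subgroup.le_centralizer (T : Subgroup G))
  · by_cases hqd : q ∣ Nat.card G
    · exact le_centralizer_of_qgroup (T : Subgroup G) Q k hk q hQq hQR (h q hqf.out hqd hq2) hq2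
    · have hbot : Q = ⊥ := by
        rw [← Subgroup.card_eq_one]
        rcases hQq.card_eq_or_dvd with h1 | h1
        · exact h1
        · exact absurd (h1.trans (Subgroup.card_subgroup_dvd_card _)) hqd
      rw [hbot]; exact bot_le

/-- Normal 2-complement for abelian Sylow 2-subgroups of order `2^k` when no odd prime divisor of
`|G|` divides `2^i - 1`, `1 ≤ i ≤ k`. -/
theorem hasNormalPComplement_two [Finite G] (T : Sylow 2 G) (hTc : IsMulCommutative T) (k : ℕ)
    (hk : Nat.card T = 2 ^ k)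
    (h : ∀ q : ℕ, q.Prime → q ∣ Nat.card G → q ≠ 2 → ∀ i, 1 ≤ i → i ≤ k → ¬ q ∣ 2 ^ i - 1) :
    Cfsg.HasNormalPComplement 2 G := by
  apply hasNormalPComplement_of_normalizer_le_centralizer T
  show Subgroup.normalizer ((T : Subgroup G) : Set G) ≤ Subgroup.centralizer ((T : Subgroup G) : Set G)
  generalize hR : Subgroup.normalizer ((T : Subgroup G) : Set G) = R
  have hR' : R = (⨆ q : Nat.Primes, ⨆ S : Sylow (q : ℕ) R, (S : Subgroup R)).map R.subtype := by
    rw [iSup_sylow_eq_top, ← MonoidHom.range_eq_map, Subgroup.range_subtype]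
  rw [hR', Subgroup.map_iSup]
  apply iSup_le
  intro q
  rw [Subgroup.map_iSup]
  apply iSup_le
  intro S
  haveI : Fact (q : ℕ).Prime := ⟨q.2⟩
  apply qpart_le_centralizer T hTc k hk h q _ (S.isPGroup'.map _)
  rw [hR]
  exact Subgroup.map_subtype_le _

end Cfsg.Agent.Lib.Lead
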