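import Mathlib
import Cfsg.Agent.Lib.Lead.AbelianSylow2

set_option autoImplicit false
open Pointwise
open scoped commutatorElement

namespace Cfsg.Agent.Lib.Lead

variable {G : Type*} [Group G]

theorem closure_normal_of_conj_invariant (S : Set G) (hS : ∀ s ∈ S, ∀ g : G, g * s * g⁻¹ ∈ S) :
    (Subgroup.closure S).Normal := by
  constructor
  intro n hn g
  induction hn using Subgroup.closure_induction with
  | mem x hx => exact Subgroup.subset_closure (hS x hx g)
  | one => simp
  | mul x y _ _ hx hy =>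
    have : g * (x * y) * g⁻¹ = (g * x * g⁻¹) * (g * y * g⁻¹) := by group
    rw [this]; exact Subgroup.mul_mem _ hx hy
  | inv x _ hx =>
    have : g * x⁻¹ * g⁻¹ = (g * x * g⁻¹)⁻¹ := by group
    rw [this]; exact Subgroup.inv_mem _ hx

theorem orderOf_conj' (g x : G) : orderOf (g * x * g⁻¹) = orderOf x := by
  have := orderOf_injective (MulAut.conj g).toMonoidHom (MulAut.conj g).injective x
  simpa using this

theorem pResidual_normal (p : ℕ) : (Cfsg.pResidual p G).Normal := by
  apply closure_normal_of_conj_invariant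
  intro s hs g
  show Nat.Coprime (orderOf (g * s * g⁻¹)) p
  rw [orderOf_conj']
  exact hs

theorem mem_pResidual_of_coprime {p : ℕ} {g : G} (h : Nat.Coprime (orderOf g) p) :
    g ∈ Cfsg.pResidual p G := Subgroup.subset_closure h

/-- every element of a finite group is a product of a `p`-element and a `p'`-element -/
theorem exists_ppart_decomp [Finite G] (p : ℕ) [hp : Fact p.Prime] (g : G) :
    ∃ u v : G, g = u * v ∧ (∃ k : ℕ, u ^ p ^ k = 1) ∧ Nat.Coprime (orderOf v) p := by
  have hn : orderOf g ≠ 0 := (orderOf_pos g).ne'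
  obtain ⟨k, m, hm, hkm⟩ := Nat.exists_eq_pow_mul_and_not_dvd hn p hp.out.one_lt.ne'
  have hcop : Nat.Coprime (p ^ k) m :=
    Nat.Coprime.pow_left k ((Nat.Prime.coprime_iff_not_dvd hp.out).mpr hm)
  obtain ⟨a, b, hab⟩ := Nat.Coprime.isCoprime hcop
  refine ⟨g ^ (b * (m : ℤ)), g ^ (a * ((p ^ k : ℕ) : ℤ)), ?_, ⟨k, ?_⟩, ?_⟩
  · rw [← zpow_add, add_comm, hab, zpow_one]
  · rw [← zpow_natCast, ← zpow_mul]
    have : b * (m : ℤ) * ((p ^ k : ℕ) : ℤ) = b * ((orderOf g : ℕ) : ℤ) := by
      rw [hkm]; push_cast; ring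
    rw [this, zpow_mul', zpow_natCast, pow_orderOf_eq_one, one_zpow]
  · have h1 : (g ^ (a * (p ^ k : ℕ) : ℤ)) ^ m = 1 := by
      rw [← zpow_natCast, ← zpow_mul]
      have : a * ((p ^ k : ℕ) : ℤ) * (m : ℤ) = a * ((orderOf g : ℕ) : ℤ) := by
        rw [hkm]; push_cast; ring
      rw [this, zpow_mul', zpow_natCast, pow_orderOf_eq_one, one_zpow]
    have h2 : orderOf (g ^ (a * (p ^ k : ℕ) : ℤ)) ∣ m := orderOf_dvd_of_pow_eq_one h1
    exact Nat.Coprime.coprime_dvd_left h2 ((Nat.Prime.coprime_iff_not_dvd hp.out).mpr hm).symm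

/-- a `p`-element is conjugate into any given Sylow `p`-subgroup -/
theorem exists_conj_mem_sylow [Finite G] {p : ℕ} [Fact p.Prime] (P : Sylow p G) (u : G)
    (hu : ∃ k : ℕ, u ^ p ^ k = 1) : ∃ h : G, h⁻¹ * u * h ∈ (P : Subgroup G) := by
  have hpg : IsPGroup p (Subgroup.zpowers u) := by
    obtain ⟨k, hk⟩ := hu
    rintro ⟨x, hx⟩
    obtain ⟨j, rfl⟩ := Subgroup.mem_zpowers_iff.mp hx
    refine ⟨k, Subtype.ext ?_⟩
    show (u ^ j) ^ p ^ k = 1
    rw [← zpow_natCast, ← zpow_mul, mul_comm, zpow_mul, zpow_natCast, hk, one_zpow]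
  obtain ⟨Q, hQ⟩ := hpg.exists_le_sylow
  obtain ⟨h, hh⟩ := MulAction.exists_smul_eq G P Q
  refine ⟨h, ?_⟩
  have : u ∈ (Q : Subgroup G) := hQ (Subgroup.mem_zpowers u)
  rw [← hh, Sylow.coe_subgroup_smul, mem_conj_smul_iff] at this
  exact this

/-- If a Sylow `p`-subgroup lies in `O^p(G)` then `O^p(G) = G`. -/
theorem pResidual_eq_top_of_sylow_le [Finite G] {p : ℕ} [Fact p.Prime] (P : Sylow p G)
    (h : (P : Subgroup G) ≤ Cfsg.pResidual p G) : Cfsg.pResidual p G = ⊤ := by
  rw [eq_top_iff]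
  intro g _
  obtain ⟨u, v, rfl, hu, hv⟩ := exists_ppart_decomp p g
  apply Subgroup.mul_mem _ _ (mem_pResidual_of_coprime hv)
  obtain ⟨c, hc⟩ := exists_conj_mem_sylow P u hu
  have h1 := (pResidual_normal (G := G) p).conj_mem _ (h hc) c
  have e : c * (c⁻¹ * u * c) * c⁻¹ = u := by group
  rwa [e] at h1

/-- commutators of anything with a `p'`-element lie in `O^p(G)` -/
theorem commutator_mem_pResidual {p : ℕ} (u a : G) (ha : Nat.Coprime (orderOf a) p) :
    ⁅u, a⁆ ∈ Cfsg.pResidual p G := by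
  have e : ⁅u, a⁆ = (u * a * u⁻¹) * a⁻¹ := by rw [commutatorElement_def]
  rw [e]
  apply Subgroup.mul_mem
  · apply mem_pResidual_of_coprime
    rw [orderOf_conj']; exact ha
  · apply mem_pResidual_of_coprime
    rw [orderOf_inv]; exact ha

/-- in a cyclic `p`-group two subgroups with trivial intersection cannot both be nontrivial -/
theorem cyclic_pgroup_inf_eq_bot {P : Type*} [Group P] [Finite P] [IsCyclic P] {p : ℕ} [Fact p.Prime]
    (hP : IsPGroup p P) (H K : Subgroup P) (hHK : H ⊓ K = ⊥) : H = ⊥ ∨ K = ⊥ := by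
  classical
  by_contra hcon
  push Not at hcon
  obtain ⟨hH, hK⟩ := hcon
  have hp : p.Prime := Fact.out
  have hdvd : ∀ L : Subgroup P, L ≠ ⊥ → p ∣ Nat.card L := by
    intro L hL
    rcases (hP.to_subgroup L).card_eq_or_dvd with h | h
    · exact absurd (Subgroup.card_eq_one.mp h) hL
    · exact h
  obtain ⟨x, hx⟩ := exists_prime_orderOf_dvd_card' p (hdvd H hH)
  obtain ⟨y, hy⟩ := exists_prime_orderOf_dvd_card' p (hdvd K hK)
  have hx' : orderOf (x : P) = p := by rw [Subgroup.orderOf_coe]; exact hx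
  have hy' : orderOf (y : P) = p := by rw [Subgroup.orderOf_coe]; exact hy
  let _ : Fintype P := Fintype.ofFinite P
  have hle := IsCyclic.card_pow_eq_one_le (α := P) hp.pos
  -- zpowers x ⊆ {a | a^p = 1}
  by_cases hyx : (y : P) ∈ Subgroup.zpowers (x : P)
  · have h1 : (y : P) ∈ H := (Subgroup.zpowers_le.mpr x.2) hyx
    have h2 : (y : P) ∈ H ⊓ K := ⟨h1, y.2⟩
    rw [hHK, Subgroup.mem_bot] at h2
    rw [h2, orderOf_one] at hy'
    exact hp.one_lt.ne hy'
  · have hsub : insert (y : P) ((Subgroup.zpowers (x : P) : Set P).toFinset) ⊆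
        Finset.univ.filter (fun a : P => a ^ p = 1) := by
      intro a ha
      rw [Finset.mem_insert] at ha
      rw [Finset.mem_filter]
      refine ⟨Finset.mem_univ _, ?_⟩
      rcases ha with rfl | ha
      · rw [← hy']; exact pow_orderOf_eq_one _
      · rw [Set.mem_toFinset] at ha
        obtain ⟨j, rfl⟩ := Subgroup.mem_zpowers_iff.mp ha
        rw [← zpow_natCast, ← zpow_mul, mul_comm, zpow_mul, zpow_natCast, ← hx', pow_orderOf_eq_one,
          one_zpow]
    have hcard := Finset.card_le_card hsub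
    rw [Finset.card_insert_of_notMem (by rw [Set.mem_toFinset]; exact hyx)] at hcard
    have hz : ((Subgroup.zpowers (x : P) : Set P).toFinset).card = p := by
      rw [Set.toFinset_card, ← Nat.card_eq_fintype_card]
      show Nat.card (Subgroup.zpowers (x : P)) = p
      rw [Nat.card_zpowers, hx']
    rw [hz] at hcard
    omega

end Cfsg.Agent.Lib.Lead
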