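import Mathlib
import Cfsg.Agent.Lib.Lead.Residual

set_option autoImplicit false
open Pointwise
open scoped commutatorElement

namespace Cfsg.Agent.Lib.Lead

variable {G : Type*} [Group G]

/-- Schur–Zassenhaus in the normaliser of a Sylow subgroup: a `p'`-subgroup `A` with
`P ⊔ A = N_G(P)`. -/
theorem exists_complement_in_normalizer [Finite G] {p : ℕ} [Fact p.Prime] (P : Sylow p G) :
    ∃ A : Subgroup G, A ≤ Subgroup.normalizer ((P : Subgroup G) : Set G) ∧
      (Nat.card A).Coprime p ∧
      (P : Subgroup G) ⊔ A = Subgroup.normalizer ((P : Subgroup G) : Set G) ∧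
      (P : Subgroup G) ⊓ A = ⊥ := by
  have hp : p.Prime := Fact.out
  generalize hR : Subgroup.normalizer ((P : Subgroup G) : Set G) = R
  have hPR : (P : Subgroup G) ≤ R := hR ▸ Subgroup.le_normalizer
  have hN : ((P : Subgroup G).subgroupOf R).Normal := by
    rw [← hR]; exact Subgroup.normal_in_normalizer
  have hcardN : Nat.card ((P : Subgroup G).subgroupOf R) = Nat.card (P : Subgroup G) :=
    Nat.card_congr (Subgroup.subgroupOfEquivOfLe hPR).toEquiv
  have hidx : ¬ p ∣ ((P : Subgroup G).subgroupOf R).index := by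
    intro h
    exact P.not_dvd_index (h.trans (Subgroup.relIndex_dvd_index_of_le hPR))
  obtain ⟨k, hk⟩ := (IsPGroup.iff_card).mp P.isPGroup'
  have hcop : (Nat.card ((P : Subgroup G).subgroupOf R)).Coprime
      ((P : Subgroup G).subgroupOf R).index := by
    rw [hcardN, hk]
    exact Nat.Coprime.pow_left k ((Nat.Prime.coprime_iff_not_dvd hp).mpr hidx)
  obtain ⟨A', hA'⟩ := Subgroup.exists_right_complement'_of_coprime hcop
  refine ⟨A'.map R.subtype, Subgroup.map_subtype_le _, ?_, ?_, ?_⟩
  · rw [Subgroup.card_map_of_injective R.subtype_injective]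
    have h1 : Nat.card ((P : Subgroup G).subgroupOf R) * Nat.card A' = Nat.card R := hA'.card_mul_card
    have h2 : Nat.card ((P : Subgroup G).subgroupOf R) * ((P : Subgroup G).subgroupOf R).index =
        Nat.card R := Subgroup.card_mul_index _
    have h3 : Nat.card A' = ((P : Subgroup G).subgroupOf R).index :=
      Nat.eq_of_mul_eq_mul_left Nat.card_pos (h1.trans h2.symm)
    rw [h3, Nat.coprime_comm]
    exact (Nat.Prime.coprime_iff_not_dvd hp).mpr hidx
  · have h1 := congrArg (Subgroup.map R.subtype) hA'.sup_eq_top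
    rw [Subgroup.map_sup, Subgroup.map_subgroupOf_eq_of_le hPR, ← MonoidHom.range_eq_map,
      Subgroup.range_subtype] at h1
    exact h1
  · have h1 : (P : Subgroup G).subgroupOf R ⊓ A' = ⊥ := disjoint_iff.mp hA'.disjoint
    have h2 := congrArg (Subgroup.map R.subtype) h1
    rw [Subgroup.map_inf _ _ _ R.subtype_injective, Subgroup.map_subgroupOf_eq_of_le hPR,
      Subgroup.map_bot] at h2
    exact h2

/-- With a cyclic Sylow `p`-subgroup, either there is a normal `p`-complement or `O^p(G) = G`. -/
theorem cyclic_sylow_dichotomy [Finite G] {p : ℕ} [Fact p.Prime] (P : Sylow p G) (hP : IsCyclic P) :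
    Cfsg.HasNormalPComplement p G ∨ Cfsg.pResidual p G = ⊤ := by
  have hp : p.Prime := Fact.out
  have hcomm : IsMulCommutative (P : Subgroup G) := IsCyclic.commutative
  obtain ⟨A, hAR, hAp, hsup, _⟩ := exists_complement_in_normalizer P
  obtain ⟨k, hk⟩ := (IsPGroup.iff_card).mp P.isPGroup'
  have hcop : (Nat.card A).Coprime (Nat.card (P : Subgroup G)) := by
    rw [hk]; exact Nat.Coprime.pow_right k hAp
  obtain ⟨hd1, hd2⟩ := coprime_abelian_decomp A (P : Subgroup G) hAR hcop
  have hcle : ⁅(P : Subgroup G), A⁆ ≤ (P : Subgroup G) := commutator_le_of_le_normalizer A _ hAR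
  have h0 : ((P : Subgroup G) ⊓ Subgroup.centralizer (A : Set G)).subgroupOf (P : Subgroup G) ⊓
      (⁅(P : Subgroup G), A⁆).subgroupOf (P : Subgroup G) = ⊥ := by
    have e : ((P : Subgroup G) ⊓ Subgroup.centralizer (A : Set G)).subgroupOf (P : Subgroup G) ⊓
      (⁅(P : Subgroup G), A⁆).subgroupOf (P : Subgroup G) =
      (((P : Subgroup G) ⊓ Subgroup.centralizer (A : Set G)) ⊓ ⁅(P : Subgroup G), A⁆).subgroupOf
        (P : Subgroup G) := (Subgroup.comap_inf _ _ _).symm
    rw [e, hd1, Subgroup.subgroupOf_eq_bot]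
    exact disjoint_bot_left
  haveI : IsCyclic (P : Subgroup G) := hP
  rcases cyclic_pgroup_inf_eq_bot (P := (P : Subgroup G)) P.isPGroup' _ _ h0 with h1 | h1
  · -- no fixed points: P = [P, A] ≤ O^p(G)
    right
    apply pResidual_eq_top_of_sylow_le P
    rw [Subgroup.subgroupOf_eq_bot] at h1
    have h2 : (P : Subgroup G) ⊓ Subgroup.centralizer (A : Set G) = ⊥ := by
      have := h1.eq_bot
      rwa [inf_eq_left.mpr (inf_le_left : (P : Subgroup G) ⊓ Subgroup.centralizer (A : Set G) ≤ _)] at this
    rw [h2, bot_sup_eq] at hd2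
    rw [← hd2, Subgroup.commutator_le]
    intro u _ a ha
    apply commutator_mem_pResidual
    exact Nat.Coprime.coprime_dvd_left (Subgroup.orderOf_dvd_natCard A ha) hAp
  · -- trivial commutator: A centralises P
    left
    apply hasNormalPComplement_of_normalizer_le_centralizer P
    rw [Subgroup.subgroupOf_eq_bot] at h1
    have h2 : ⁅(P : Subgroup G), A⁆ = ⊥ := by
      have := h1.eq_bot
      rwa [inf_eq_left.mpr hcle] at this
    have h3 : A ≤ Subgroup.centralizer ((P : Subgroup G) : Set G) := by
      rw [Subgroup.commutator_comm, Subgroup.commutator_eq_bot_iff_le_centralizer] at h2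
      exact h2
    show Subgroup.normalizer ((P : Subgroup G) : Set G) ≤ Subgroup.centralizer ((P : Subgroup G) : Set G)
    rw [← hsup]
    exact sup_le (Subgroup.le_centralizer (P : Subgroup G)) h3

end Cfsg.Agent.Lib.Lead
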