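import Mathlib
import Cfsg.Agent.Lib.Lead.Residual2

set_option autoImplicit false
open Pointwise
open scoped commutatorElement IsMulCommutative

namespace Cfsg.Agent.Lib.Lead

variable {G : Type*} [Group G]

section
variable [Finite G] {p : ℕ} [Fact p.Prime] (P : Sylow p G) [hPc : IsMulCommutative (P : Subgroup G)]

/-- the transfer into an abelian Sylow subgroup -/
noncomputable def transferAb : G →* (P : Subgroup G) :=
  MonoidHom.transfer (MonoidHom.id (P : Subgroup G))

theorem transferAb_key (z : G) (hzP : z ∈ (P : Subgroup G))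
    (hzc : z ∈ Subgroup.centralizer (Subgroup.normalizer ((P : Subgroup G) : Set G) : Set G)) :
    ∀ (k : ℕ) (g₀ : G), g₀⁻¹ * z ^ k * g₀ ∈ (P : Subgroup G) → g₀⁻¹ * z ^ k * g₀ = z ^ k := by
  intro k g₀ hmem
  haveI : IsMulCommutative P := hPc
  obtain ⟨n, hn, hnz⟩ := P.conj_eq_normalizer_conj_of_mem (z ^ k) g₀ (Subgroup.pow_mem _ hzP k) hmem
  rw [hnz]
  have hzk : z ^ k ∈ Subgroup.centralizer (Subgroup.normalizer ((P : Subgroup G) : Set G) : Set G) :=
    Subgroup.pow_mem _ hzc k
  have := (Subgroup.mem_centralizer_iff.mp hzk) n hn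
  rw [mul_assoc, ← this, inv_mul_cancel_left]

theorem transferAb_eq_pow (z : G) (hzP : z ∈ (P : Subgroup G))
    (hzc : z ∈ Subgroup.centralizer (Subgroup.normalizer ((P : Subgroup G) : Set G) : Set G)) :
    ((transferAb P z : (P : Subgroup G)) : G) = z ^ (P : Subgroup G).index := by
  have h := MonoidHom.transfer_eq_pow (MonoidHom.id (P : Subgroup G)) z (transferAb_key P z hzP hzc)
  have := congrArg Subtype.val h
  exact this

theorem transferAb_eq_one_of_coprime (g : G) (hg : Nat.Coprime (orderOf g) p) :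
    transferAb P g = 1 := by
  have h1 : orderOf (transferAb P g) ∣ orderOf g := orderOf_map_dvd _ g
  obtain ⟨k, hk⟩ := (IsPGroup.iff_card).mp P.isPGroup'
  have h2 : orderOf (transferAb P g) ∣ p ^ k := hk ▸ orderOf_dvd_natCard _
  have h3 : (orderOf (transferAb P g)).Coprime (p ^ k) :=
    Nat.Coprime.pow_right k (Nat.Coprime.coprime_dvd_left h1 hg)
  exact orderOf_eq_one_iff.mp (Nat.Coprime.eq_one_of_dvd h3 h2)

theorem pResidual_le_ker_transferAb : Cfsg.pResidual p G ≤ (transferAb P).ker := by
  unfold Cfsg.pResidual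
  rw [Subgroup.closure_le]
  intro g hg
  exact transferAb_eq_one_of_coprime P g hg

/-- A central element of `N_G(P)` lying in `P ∩ O^p(G)` is trivial (`P` abelian Sylow). -/
theorem eq_one_of_mem_pResidual_of_central (z : G) (hzP : z ∈ (P : Subgroup G))
    (hzc : z ∈ Subgroup.centralizer (Subgroup.normalizer ((P : Subgroup G) : Set G) : Set G))
    (hzR : z ∈ Cfsg.pResidual p G) : z = 1 := by
  have h1 : transferAb P z = 1 := pResidual_le_ker_transferAb P hzR
  have h2 := transferAb_eq_pow P z hzP hzc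
  rw [h1] at h2
  have h3 : z ^ (P : Subgroup G).index = 1 := h2.symm
  have h4 : orderOf z ∣ (P : Subgroup G).index := orderOf_dvd_of_pow_eq_one h3
  have h5 : orderOf z ∣ Nat.card (P : Subgroup G) := Subgroup.orderOf_dvd_natCard _ hzP
  exact orderOf_eq_one_iff.mp (Nat.eq_one_of_dvd_coprimes P.card_coprime_index h5 h4)

end

end Cfsg.Agent.Lib.Lead
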