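import Mathlib
import Cfsg.Agent.Lib.Lead.AbelianSylow

set_option autoImplicit false
open Pointwise
open scoped commutatorElement IsMulCommutative

namespace Cfsg.Agent.Lib.Lead

variable {G : Type*} [Group G]

theorem mem_sup_of_commute (H K : Subgroup G) (hHK : ∀ y ∈ H, ∀ z ∈ K, y * z = z * y) {x : G}
    (hx : x ∈ H ⊔ K) : ∃ y ∈ H, ∃ z ∈ K, x = y * z := by
  rw [Subgroup.sup_eq_closure] at hx
  induction hx using Subgroup.closure_induction with
  | mem y hy =>
    rcases hy with h | h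
    · exact ⟨y, h, 1, K.one_mem, by simp⟩
    · exact ⟨1, H.one_mem, y, h, by simp⟩
  | one => exact ⟨1, H.one_mem, 1, K.one_mem, by simp⟩
  | mul a b _ _ iha ihb =>
    obtain ⟨y₁, hy₁, z₁, hz₁, rfl⟩ := iha
    obtain ⟨y₂, hy₂, z₂, hz₂, rfl⟩ := ihb
    refine ⟨y₁ * y₂, H.mul_mem hy₁ hy₂, z₁ * z₂, K.mul_mem hz₁ hz₂, ?_⟩
    have e := hHK y₂ hy₂ z₁ hz₁
    calc y₁ * z₁ * (y₂ * z₂) = y₁ * (z₁ * y₂) * z₂ := by group
      _ = y₁ * (y₂ * z₁) * z₂ := by rw [e]
      _ = y₁ * y₂ * (z₁ * z₂) := by group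
  | inv a _ iha =>
    obtain ⟨y, hy, z, hz, rfl⟩ := iha
    refine ⟨y⁻¹, H.inv_mem hy, z⁻¹, K.inv_mem hz, ?_⟩
    have e := hHK y⁻¹ (H.inv_mem hy) z⁻¹ (K.inv_mem hz)
    rw [mul_inv_rev, e]

section
variable [Finite G] {p : ℕ} [Fact p.Prime] (P : Sylow p G) [hPc : IsMulCommutative (P : Subgroup G)]

theorem eq_one_of_transferAb_eq_one (z : G) (hzP : z ∈ (P : Subgroup G))
    (hzc : z ∈ Subgroup.centralizer (Subgroup.normalizer ((P : Subgroup G) : Set G) : Set G))
    (h1 : transferAb P z = 1) : z = 1 := by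
  have h2 := transferAb_eq_pow P z hzP hzc
  rw [h1] at h2
  have h3 : z ^ (P : Subgroup G).index = 1 := h2.symm
  have h4 : orderOf z ∣ (P : Subgroup G).index := orderOf_dvd_of_pow_eq_one h3
  have h5 : orderOf z ∣ Nat.card (P : Subgroup G) := Subgroup.orderOf_dvd_natCard _ hzP
  exact orderOf_eq_one_iff.mp (Nat.eq_one_of_dvd_coprimes P.card_coprime_index h5 h4)

/-- fixed points of a complement `A` of `P` in `N_G(P)` are central in `N_G(P)` -/
theorem mem_centralizer_normalizer_of_fixed (A : Subgroup G)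
    (hsup : (P : Subgroup G) ⊔ A = Subgroup.normalizer ((P : Subgroup G) : Set G))
    (c : G) (hcP : c ∈ (P : Subgroup G)) (hcA : c ∈ Subgroup.centralizer (A : Set G)) :
    c ∈ Subgroup.centralizer (Subgroup.normalizer ((P : Subgroup G) : Set G) : Set G) := by
  have h1 : (P : Subgroup G) ⊔ A ≤ Subgroup.centralizer ((Subgroup.zpowers c : Subgroup G) : Set G) := by
    apply sup_le
    · rw [Subgroup.le_centralizer_iff, Subgroup.zpowers_le]
      exact Subgroup.le_centralizer (P : Subgroup G) hcP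
    · rw [Subgroup.le_centralizer_iff, Subgroup.zpowers_le]
      exact hcA
  rw [hsup, Subgroup.le_centralizer_iff, Subgroup.zpowers_le] at h1
  exact h1

/-- `P ∩ ker(transfer) ≤ [P, A]` for a `p'`-complement `A` of `P` in `N_G(P)` -/
theorem mem_commutator_of_transferAb_eq_one (A : Subgroup G)
    (hAR : A ≤ Subgroup.normalizer ((P : Subgroup G) : Set G)) (hAp : (Nat.card A).Coprime p)
    (hsup : (P : Subgroup G) ⊔ A = Subgroup.normalizer ((P : Subgroup G) : Set G))
    (x : G) (hxP : x ∈ (P : Subgroup G)) (hx : transferAb P x = 1) :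
    x ∈ ⁅(P : Subgroup G), A⁆ := by
  obtain ⟨k, hk⟩ := (IsPGroup.iff_card).mp P.isPGroup'
  have hcop : (Nat.card A).Coprime (Nat.card (P : Subgroup G)) := by
    rw [hk]; exact Nat.Coprime.pow_right k hAp
  obtain ⟨_, hd2⟩ := coprime_abelian_decomp A (P : Subgroup G) hAR hcop
  have hcomR : ⁅(P : Subgroup G), A⁆ ≤ Cfsg.pResidual p G := by
    rw [Subgroup.commutator_le]
    intro u _ a ha
    apply commutator_mem_pResidual
    exact Nat.Coprime.coprime_dvd_left (Subgroup.orderOf_dvd_natCard A ha) hAp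
  have hx' : x ∈ ((P : Subgroup G) ⊓ Subgroup.centralizer (A : Set G)) ⊔ ⁅(P : Subgroup G), A⁆ := by
    rw [hd2]; exact hxP
  -- P is commutative, so the sup is a product
  have hPcomm : ∀ a ∈ (P : Subgroup G), ∀ b ∈ (P : Subgroup G), a * b = b * a := fun a ha b hb =>
    congrArg Subtype.val (hPc.is_comm.comm ⟨a, ha⟩ ⟨b, hb⟩)
  have hcle : ⁅(P : Subgroup G), A⁆ ≤ (P : Subgroup G) := commutator_le_of_le_normalizer A _ hAR
  have key : ∀ y ∈ ((P : Subgroup G) ⊓ Subgroup.centralizer (A : Set G)) ⊔ ⁅(P : Subgroup G), A⁆,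
      ∃ c ∈ (P : Subgroup G) ⊓ Subgroup.centralizer (A : Set G), ∃ d ∈ ⁅(P : Subgroup G), A⁆,
        y = c * d := by
    intro y hy
    apply mem_sup_of_commute _ _ _ hy
    intro c hc d hd
    exact hPcomm c (Subgroup.mem_inf.mp hc).1 d (hcle hd)
  obtain ⟨c, hc, d, hd, rfl⟩ := key x hx'
  obtain ⟨hcP, hcA⟩ := Subgroup.mem_inf.mp hc
  have hd1 : transferAb P d = 1 := pResidual_le_ker_transferAb P (hcomR hd)
  have hc1 : transferAb P c = 1 := by
    rw [map_mul, hd1, mul_one] at hx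
    exact hx
  have := eq_one_of_transferAb_eq_one P c hcP
    (mem_centralizer_normalizer_of_fixed P A hsup c hcP hcA) hc1
  rw [this, one_mul]
  exact hd

/-- For an abelian Sylow subgroup `T`: `T ∩ O^p(G) = [T, N_G(T)]`. -/
theorem sylow_inf_pResidual_eq :
    (P : Subgroup G) ⊓ Cfsg.pResidual p G =
      ⁅(P : Subgroup G), Subgroup.normalizer ((P : Subgroup G) : Set G)⁆ := by
  obtain ⟨A, hAR, hAp, hsup, _⟩ := exists_complement_in_normalizer P
  have hcomR : ⁅(P : Subgroup G), A⁆ ≤ Cfsg.pResidual p G := by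
    rw [Subgroup.commutator_le]
    intro u _ a ha
    apply commutator_mem_pResidual
    exact Nat.Coprime.coprime_dvd_left (Subgroup.orderOf_dvd_natCard A ha) hAp
  apply le_antisymm
  · intro x hx
    obtain ⟨hxP, hxR⟩ := Subgroup.mem_inf.mp hx
    have h1 := mem_commutator_of_transferAb_eq_one P A hAR hAp hsup x hxP
      (pResidual_le_ker_transferAb P hxR)
    exact Subgroup.commutator_mono le_rfl hAR h1
  · intro x hx
    have hxP : x ∈ (P : Subgroup G) :=
      commutator_le_of_le_normalizer (Subgroup.normalizer ((P : Subgroup G) : Set G)) _ le_rfl hx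
    have hxG : x ∈ commutator G := by
      rw [commutator_def]; exact Subgroup.commutator_mono le_top le_top hx
    have hx1 : transferAb P x = 1 := Abelianization.commutator_subset_ker _ hxG
    have h1 := mem_commutator_of_transferAb_eq_one P A hAR hAp hsup x hxP hx1
    exact Subgroup.mem_inf.mpr ⟨hxP, hcomR h1⟩

end

end Cfsg.Agent.Lib.Lead
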