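import Mathlib
import Cfsg.Agent.Lib.Lead.AbelianSylowB

set_option autoImplicit false
open Pointwise

namespace Cfsg.Agent.Lib.Lead

variable {G : Type*} [Group G]

/-- A `q`-group normalising a group `T` of order `p^k` centralises it, provided `q ≠ p` does
not divide `p^i - 1` for `1 ≤ i ≤ k`. -/
theorem le_centralizer_of_qgroup_gen [Finite G] (T Q : Subgroup G) (p k : ℕ) (hp : p.Prime)
    (hT : Nat.card T = p ^ k)
    (q : ℕ) [Fact q.Prime] (hQq : IsPGroup q Q) (hQ : Q ≤ Subgroup.normalizer (T : Set G))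
    (hq : ∀ i, 1 ≤ i → i ≤ k → ¬ q ∣ p ^ i - 1) (hqp : q ≠ p) :
    Q ≤ Subgroup.centralizer (T : Set G) := by
  have hqp' : q.Prime := Fact.out
  letI := conjMulAction T Q hQ
  have h1 := hQq.card_modEq_card_fixedPoints T
  rw [card_fixedPoints_conjMulAction, hT] at h1
  have h2 : Nat.card (T ⊓ Subgroup.centralizer (Q : Set G) : Subgroup G) ∣ p ^ k := by
    rw [← hT]; exact Subgroup.card_dvd_of_le inf_le_left
  obtain ⟨j, hjk, hj⟩ := (Nat.dvd_prime_pow hp).mp h2
  rw [hj] at h1
  have h3 : q ∣ p ^ k - p ^ j :=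
    (Nat.modEq_iff_dvd' (Nat.pow_le_pow_right hp.pos hjk)).mp h1.symm
  have hjk' : j = k := by
    by_contra hne
    have hlt : j < k := lt_of_le_of_ne hjk hne
    have e : p ^ k - p ^ j = p ^ j * (p ^ (k - j) - 1) := by
      rw [Nat.mul_sub, mul_one, ← pow_add]
      congr 2
      omega
    rw [e] at h3
    rcases (Nat.Prime.dvd_mul hqp').mp h3 with h4 | h4
    · have := (Nat.prime_dvd_prime_iff_eq hqp' hp).mp (hqp'.dvd_of_dvd_pow h4)
      exact hqp this
    · exact hq (k - j) (by omega) (by omega) h4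
  rw [hjk', ← hT] at hj
  have h5 : T ⊓ Subgroup.centralizer (Q : Set G) = T := by
    have hle : T ⊓ Subgroup.centralizer (Q : Set G) ≤ T := inf_le_left
    exact Subgroup.eq_of_le_of_card_ge hle hj.ge
  have h6 : T ≤ Subgroup.centralizer (Q : Set G) := inf_eq_left.mp h5
  exact Subgroup.le_centralizer_iff.mp h6

theorem qpart_le_centralizer_gen [Finite G] {p : ℕ} [hpf : Fact p.Prime] (T : Sylow p G)
    (hTc : IsMulCommutative T) (k : ℕ) (hk : Nat.card T = p ^ k)
    (h : ∀ q : ℕ, q.Prime → q ∣ Nat.card G → q ≠ p → ∀ i, 1 ≤ i → i ≤ k → ¬ q ∣ p ^ i - 1)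
    (q : ℕ) [hqf : Fact q.Prime] (Q : Subgroup G) (hQq : IsPGroup q Q)
    (hQR : Q ≤ Subgroup.normalizer ((T : Subgroup G) : Set G)) :
    Q ≤ Subgroup.centralizer ((T : Subgroup G) : Set G) := by
  by_cases hq2 : q = p
  · subst hq2
    have h2 := IsPGroup.to_sup_of_normal_right' hQq T.isPGroup' hQR
    have h3 := T.is_maximal' h2 le_sup_right
    have h4 : Q ≤ (T : Subgroup G) := by
      rw [← h3]; exact le_sup_left
    exact h4.trans (Subgroup.le_centralizer (T : Subgroup G))
  · by_cases hqd : q ∣ Nat.card G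
    · exact le_centralizer_of_qgroup_gen (T : Subgroup G) Q p k hpf.out hk q hQq hQR
        (h q hqf.out hqd hq2) hq2
    · have hbot : Q = ⊥ := by
        rw [← Subgroup.card_eq_one]
        rcases hQq.card_eq_or_dvd with h1 | h1
        · exact h1
        · exact absurd (h1.trans (Subgroup.card_subgroup_dvd_card _)) hqd
      rw [hbot]; exact bot_le

/-- Normal `p`-complement for abelian Sylow `p`-subgroups of order `p^k` when no other prime divisor
of `|G|` divides `p^i - 1`, `1 ≤ i ≤ k`. -/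
theorem hasNormalPComplement_gen [Finite G] {p : ℕ} [Fact p.Prime] (T : Sylow p G)
    (hTc : IsMulCommutative T) (k : ℕ) (hk : Nat.card T = p ^ k)
    (h : ∀ q : ℕ, q.Prime → q ∣ Nat.card G → q ≠ p → ∀ i, 1 ≤ i → i ≤ k → ¬ q ∣ p ^ i - 1) :
    Cfsg.HasNormalPComplement p G := by
  apply hasNormalPComplement_of_normalizer_le_centralizer T
  show Subgroup.normalizer ((T : Subgroup G) : Set G) ≤ Subgroup.centralizer ((T : Subgroup G) : Set G)
  generalize hR : Subgroup.normalizer ((T : Subgroup G) : Set G) = R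
  have hR' : R = (⨆ q : Nat.Primes, ⨆ S : Sylow (q : ℕ) R, (S : Subgroup R)).map R.subtype := by
    rw [iSup_sylow_eq_top, ← MonoidHom.range_eq_map, Subgroup.range_subtype]
  rw [hR', Subgroup.map_iSup]
  apply iSup_le
  intro q
  rw [Subgroup.map_iSup]
  apply iSup_le
  intro S
  haveI : Fact (q : ℕ).Prime := ⟨q.2⟩
  apply qpart_le_centralizer_gen T hTc k hk h q _ (S.isPGroup'.map _)
  rw [hR]
  exact Subgroup.map_subtype_le _

end Cfsg.Agent.Lib.Lead
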