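import Mathlib
import Cfsg.Agent.Lib.Lead.AbelianSylowP

set_option autoImplicit false

namespace Cfsg.Agent.Lib.Lead

open MulOpposite MulAction
open scoped Pointwise

variable {G : Type*} [Group G]

/-- The class of a complement `K` of an abelian normal subgroup `A` in `A.QuotientDiff`. -/
noncomputable def complClass (A : Subgroup G) [IsMulCommutative A] [A.FiniteIndex]
    (K : Subgroup G) (hK : Subgroup.IsComplement' A K) : A.QuotientDiff :=
  Quotient.mk'' (⟨(K : Set G), hK.symm⟩ : A.LeftTransversal)

theorem le_stabilizer_complClass (A : Subgroup G) [IsMulCommutative A] [A.FiniteIndex] [A.Normal]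
    (K : Subgroup G) (hK : Subgroup.IsComplement' A K) :
    K ≤ stabilizer G (complClass A K hK) := by
  intro k hk
  rw [mem_stabilizer_iff]
  show Quotient.mk'' (op k⁻¹ • (⟨(K : Set G), hK.symm⟩ : A.LeftTransversal)) = _
  unfold complClass
  congr 1
  apply Subtype.ext
  show (op k⁻¹) • (K : Set G) = (K : Set G)
  ext x
  constructor
  · rintro ⟨y, hy, rfl⟩
    show y * k⁻¹ ∈ K
    exact K.mul_mem hy (K.inv_mem hk)
  · intro hx
    refine ⟨x * k, K.mul_mem hx hk, ?_⟩
    show x * k * k⁻¹ = x
    group

theorem stabilizer_complClass [Finite G] (A : Subgroup G) [IsMulCommutative A] [A.Normal]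
    (hA : (Nat.card A).Coprime A.index)
    (K : Subgroup G) (hK : Subgroup.IsComplement' A K) :
    stabilizer G (complClass A K hK) = K := by
  symm
  apply Subgroup.eq_of_le_of_card_ge (le_stabilizer_complClass A K hK)
  have h1 := hK.card_mul_card
  have h2 := (Subgroup.isComplement'_stabilizer_of_coprime (α := complClass A K hK) hA).card_mul_card
  have hpos : 0 < Nat.card A := Nat.card_pos
  have : Nat.card A * Nat.card (stabilizer G (complClass A K hK)) = Nat.card A * Nat.card K := by
    rw [h1, h2]
  exact (Nat.eq_of_mul_eq_mul_left hpos this).le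

/-- Schur's theorem, conjugacy for abelian normal Hall subgroups. -/
theorem schur_conj_abelian [Finite G] (A : Subgroup G) [A.Normal] [IsMulCommutative A]
    (hA : (Nat.card A).Coprime A.index)
    (H K : Subgroup G) (hH : Subgroup.IsComplement' A H) (hK : Subgroup.IsComplement' A K) :
    ∃ a ∈ A, MulAut.conj a • H = K := by
  obtain ⟨a, ha⟩ := Subgroup.exists_smul_eq hA (complClass A H hH) (complClass A K hK)
  refine ⟨a, a.2, ?_⟩
  have h1 : stabilizer G ((a : G) • complClass A H hH) = stabilizer G (complClass A K hK) := by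
    congr 1
  rw [stabilizer_smul_eq_stabilizer_map_conj, stabilizer_complClass A hA H hH,
    stabilizer_complClass A hA K hK] at h1
  rw [← h1]
  rfl

end Cfsg.Agent.Lib.Lead
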