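import Mathlib
import Cfsg.Agent.Lib.Lead.SchurConj

set_option autoImplicit false

namespace Cfsg.Agent.Lib.Lead

open scoped Pointwise

variable {G : Type*} [Group G]

/-- Conjugation commutes with `map`. -/
theorem map_conj_smul {G' : Type*} [Group G'] (f : G →* G') (g : G) (H : Subgroup G) :
    (MulAut.conj g • H).map f = MulAut.conj (f g) • H.map f := by
  ext x
  simp only [Subgroup.mem_map, Subgroup.mem_smul_pointwise_iff_exists, MulAut.smul_def,
    MulAut.conj_apply]
  constructor
  · rintro ⟨y, ⟨s, hs, rfl⟩, rfl⟩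
    exact ⟨f s, ⟨s, hs, rfl⟩, by simp⟩
  · rintro ⟨y, ⟨s, hs, rfl⟩, rfl⟩
    exact ⟨g * s * g⁻¹, ⟨s, hs, rfl⟩, by simp⟩

theorem card_conj_smul (g : G) (H : Subgroup G) :
    Nat.card (MulAut.conj g • H : Subgroup G) = Nat.card H :=
  (Nat.card_congr (Subgroup.equivSMul (MulAut.conj g) H).toEquiv).symm

/-- `|H.map f| * |H ⊓ ker f| = |H|`. -/
theorem card_map_mul_card_inf_ker {G' : Type*} [Group G'] (f : G →* G') (H : Subgroup G) :
    Nat.card (H.map f) * Nat.card (H ⊓ f.ker : Subgroup G) = Nat.card H := by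
  rw [← Subgroup.relIndex_ker, mul_comm]
  have h1 : Nat.card (H ⊓ f.ker : Subgroup G) = Nat.card (f.ker.subgroupOf H) := by
    rw [inf_comm]
    exact (Nat.card_congr (Subgroup.subgroupOfEquivOfLe (inf_le_right)).toEquiv).symm.trans
      (by rw [Subgroup.inf_subgroupOf_right])
  rw [h1]
  exact Subgroup.card_mul_index _

theorem card_map_mk_mul (M : Subgroup G) [M.Normal] (H : Subgroup G) :
    Nat.card (H.map (QuotientGroup.mk' M)) * Nat.card (H ⊓ M : Subgroup G) = Nat.card H := by
  have := card_map_mul_card_inf_ker (QuotientGroup.mk' M) H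
  rwa [QuotientGroup.ker_mk'] at this

theorem card_map_mk_of_inf_eq_bot (M : Subgroup G) [M.Normal] (H : Subgroup G) (h : H ⊓ M = ⊥) :
    Nat.card (H.map (QuotientGroup.mk' M)) = Nat.card H := by
  have := card_map_mk_mul M H
  rwa [h, Subgroup.card_bot, mul_one] at this

theorem card_map_mk_of_le (M : Subgroup G) [M.Normal] (H : Subgroup G) (h : M ≤ H) :
    Nat.card (H.map (QuotientGroup.mk' M)) * Nat.card M = Nat.card H := by
  have := card_map_mk_mul M H
  rwa [inf_eq_right.mpr h] at this

theorem card_comap_mk (M : Subgroup G) [M.Normal] (X : Subgroup (G ⧸ M)) :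
    Nat.card (X.comap (QuotientGroup.mk' M)) = Nat.card X * Nat.card M := by
  have h1 := card_map_mk_of_le M (X.comap (QuotientGroup.mk' M)) (by
    intro x hx
    rw [Subgroup.mem_comap]
    have : (QuotientGroup.mk' M) x = 1 := (QuotientGroup.eq_one_iff x).mpr hx
    rw [this]; exact X.one_mem)
  rw [Subgroup.map_comap_eq_self_of_surjective (QuotientGroup.mk'_surjective M)] at h1
  exact h1.symm

theorem card_quotient_mul (M : Subgroup G) [M.Normal] :
    Nat.card (G ⧸ M) * Nat.card M = Nat.card G := by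
  exact (Subgroup.card_eq_card_quotient_mul_card_subgroup M).symm

/-- comap of map under the quotient map is `H ⊔ M`. -/
theorem comap_map_mk (M : Subgroup G) [M.Normal] (H : Subgroup G) :
    (H.map (QuotientGroup.mk' M)).comap (QuotientGroup.mk' M) = H ⊔ M := by
  rw [Subgroup.comap_map_eq, QuotientGroup.ker_mk']

/-- Subgroups of a subgroup: cardinality of `map subtype`. -/
theorem card_map_subtype (L : Subgroup G) (H : Subgroup L) :
    Nat.card (H.map L.subtype) = Nat.card H :=
  Subgroup.card_map_of_injective L.subtype_injective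

theorem card_subgroupOf_of_le {H L : Subgroup G} (h : H ≤ L) :
    Nat.card (H.subgroupOf L) = Nat.card H :=
  Nat.card_congr (Subgroup.subgroupOfEquivOfLe h).toEquiv

theorem map_subtype_subgroupOf_of_le {H L : Subgroup G} (h : H ≤ L) :
    (H.subgroupOf L).map L.subtype = H := by
  rw [Subgroup.map_subgroupOf_eq_of_le h]

/-- conjugacy inside a subgroup gives conjugacy in the group. -/
theorem conj_of_conj_subgroupOf {H K L : Subgroup G} (hH : H ≤ L) (hK : K ≤ L)
    (h : ∃ l : L, MulAut.conj l • H.subgroupOf L = K.subgroupOf L) :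
    ∃ g ∈ L, MulAut.conj g • H = K := by
  obtain ⟨l, hl⟩ := h
  refine ⟨l, l.2, ?_⟩
  have := congrArg (Subgroup.map L.subtype) hl
  rw [map_conj_smul, map_subtype_subgroupOf_of_le hH, map_subtype_subgroupOf_of_le hK] at this
  exact this

end Cfsg.Agent.Lib.Lead
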