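import Mathlib
import Cfsg.Agent.Lib.Lead.HallTools

set_option autoImplicit false

namespace Cfsg.Agent.Lib.Lead

open scoped Pointwise commutatorElement

universe u

section tools
variable {G : Type*} [Group G]

/-- A nontrivial finite solvable group has a nontrivial normal elementary abelian `p`-subgroup. -/
theorem exists_normal_abelian_pgroup [Finite G] [Group.IsSolvable G] [Nontrivial G] :
    ∃ (p : ℕ) (M : Subgroup G), p.Prime ∧ M.Normal ∧ IsMulCommutative M ∧ IsPGroup p M ∧ M ≠ ⊥ ∧
      ∀ x ∈ M, x ^ p = 1 := by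
  classical
  have hsolv : ∃ n, derivedSeries G n = ⊥ := (isSolvable_def G).mp inferInstance
  set n := Nat.find hsolv with hn
  have hnbot : derivedSeries G n = ⊥ := Nat.find_spec hsolv
  have hn0 : n ≠ 0 := by
    intro h0
    rw [h0, derivedSeries_zero] at hnbot
    exact top_ne_bot hnbot
  obtain ⟨k, hk⟩ : ∃ k, n = k + 1 := ⟨n - 1, by omega⟩
  set A := derivedSeries G k with hA
  have hAbot : A ≠ ⊥ := by
    intro h
    have := Nat.find_min' hsolv h
    omega
  have hAA : ⁅A, A⁆ = ⊥ := by
    rw [hk, derivedSeries_succ] at hnbot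
    exact hnbot
  have hAcomm : ∀ a ∈ A, ∀ b ∈ A, a * b = b * a := by
    intro a ha b hb
    have : ⁅a, b⁆ ∈ ⁅A, A⁆ := Subgroup.commutator_mem_commutator ha hb
    rw [hAA, Subgroup.mem_bot] at this
    exact commutatorElement_eq_one_iff_mul_comm.mp this
  have hAnormal : A.Normal := derivedSeries_normal G k
  have hAcard : Nat.card A ≠ 1 := by
    intro h; exact hAbot (Subgroup.card_eq_one.mp h)
  set p := (Nat.card A).minFac with hp
  have hpp : p.Prime := Nat.minFac_prime hAcard
  have : Fact p.Prime := ⟨hpp⟩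
  obtain ⟨a, ha⟩ := exists_prime_orderOf_dvd_card' p (Nat.minFac_dvd (Nat.card A))
  let M : Subgroup G :=
    { carrier := {x | x ∈ A ∧ x ^ p = 1}
      one_mem' := ⟨A.one_mem, one_pow _⟩
      mul_mem' := by
        rintro x y ⟨hx, hx1⟩ ⟨hy, hy1⟩
        refine ⟨A.mul_mem hx hy, ?_⟩
        have hc : Commute x y := hAcomm x hx y hy
        rw [hc.mul_pow, hx1, hy1, one_mul]
      inv_mem' := by
        rintro x ⟨hx, hx1⟩
        exact ⟨A.inv_mem hx, by rw [inv_pow, hx1, inv_one]⟩ }
  have hMmem : ∀ x, x ∈ M ↔ x ∈ A ∧ x ^ p = 1 := fun x => Iff.rfl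
  refine ⟨p, M, hpp, ?_, ?_, ?_, ?_, ?_⟩
  · constructor
    intro x hx g
    rw [hMmem] at hx ⊢
    refine ⟨hAnormal.conj_mem x hx.1 g, ?_⟩
    rw [conj_pow, hx.2, mul_one, mul_inv_cancel]
  · refine ⟨⟨fun x y => ?_⟩⟩
    apply Subtype.ext
    exact hAcomm x ((hMmem _).mp x.2).1 y ((hMmem _).mp y.2).1
  · intro x
    refine ⟨1, ?_⟩
    apply Subtype.ext
    have := ((hMmem _).mp x.2).2
    simpa using this
  · intro hbot
    have haM : (a : G) ∈ M := by
      rw [hMmem]
      refine ⟨a.2, ?_⟩
      have : a ^ p = 1 := by rw [← ha]; exact pow_orderOf_eq_one a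
      have := congrArg Subtype.val this
      simpa using this
    rw [hbot, Subgroup.mem_bot] at haM
    have : a = 1 := Subtype.ext haM
    rw [this, orderOf_one] at ha
    exact hpp.one_lt.ne' ha.symm
  · intro x hx
    exact ((hMmem x).mp hx).2

/-- A counting inequality: `|A| |B| ≤ |G| |A ⊓ B|`. -/
theorem card_mul_card_le [Finite G] (A B : Subgroup G) :
    Nat.card A * Nat.card B ≤ Nat.card G * Nat.card (A ⊓ B : Subgroup G) := by
  have h1 := Subgroup.index_inf_le (H := A) (K := B)
  have hA := A.card_mul_index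
  have hB := B.card_mul_index
  have hAB := (A ⊓ B).card_mul_index
  have hG : 0 < Nat.card G := Nat.card_pos
  have hA0 : 0 < Nat.card A := Nat.card_pos
  have hB0 : 0 < Nat.card B := Nat.card_pos
  -- |A||B| * idx(A ⊓ B) ≤ |A||B| idx A idx B = |G|^2
  have h2 : Nat.card A * Nat.card B * (A ⊓ B).index ≤ Nat.card G * Nat.card G := by
    calc Nat.card A * Nat.card B * (A ⊓ B).index
        ≤ Nat.card A * Nat.card B * (A.index * B.index) := Nat.mul_le_mul_left _ h1
      _ = (Nat.card A * A.index) * (Nat.card B * B.index) := by ring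
      _ = Nat.card G * Nat.card G := by rw [hA, hB]
  have h3 : Nat.card G * Nat.card (A ⊓ B : Subgroup G) * (A ⊓ B).index = Nat.card G * Nat.card G := by
    rw [mul_assoc, hAB]
  have hidx : 0 < (A ⊓ B).index := Nat.pos_of_ne_zero (Subgroup.index_ne_zero_of_finite)
  exact Nat.le_of_mul_le_mul_right (h2.trans h3.symm.le) hidx

/-- Schur's conjugacy theorem inside a subgroup `L`. -/
theorem schur_conj_in_subgroup [Finite G] (M L H K : Subgroup G) [M.Normal] [IsMulCommutative M]
    (hML : M ≤ L) (hHL : H ≤ L) (hKL : K ≤ L)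
    (hH : Nat.card H * Nat.card M = Nat.card L) (hK : Nat.card K = Nat.card H)
    (hcop : (Nat.card H).Coprime (Nat.card M)) :
    ∃ g ∈ L, MulAut.conj g • H = K := by
  apply conj_of_conj_subgroupOf hHL hKL
  have hMcard : Nat.card (M.subgroupOf L) = Nat.card M := card_subgroupOf_of_le hML
  have hHcard : Nat.card (H.subgroupOf L) = Nat.card H := card_subgroupOf_of_le hHL
  have hKcard : Nat.card (K.subgroupOf L) = Nat.card H := (card_subgroupOf_of_le hKL).trans hK
  have hidx : (M.subgroupOf L).index = Nat.card H := by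
    have := (M.subgroupOf L).card_mul_index
    rw [hMcard, ← hH, mul_comm] at this
    exact Nat.eq_of_mul_eq_mul_right Nat.card_pos this
  have hA : (Nat.card (M.subgroupOf L)).Coprime (M.subgroupOf L).index := by
    rw [hMcard, hidx]; exact hcop.symm
  have hc1 : Subgroup.IsComplement' (M.subgroupOf L) (H.subgroupOf L) := by
    apply Subgroup.isComplement'_of_coprime
    · rw [hMcard, hHcard, mul_comm]; exact hH
    · rw [hMcard, hHcard]; exact hcop.symm
  have hc2 : Subgroup.IsComplement' (M.subgroupOf L) (K.subgroupOf L) := by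
    apply Subgroup.isComplement'_of_coprime
    · rw [hMcard, hKcard, mul_comm]; exact hH
    · rw [hMcard, hKcard]; exact hcop.symm
  obtain ⟨a, _, ha⟩ := schur_conj_abelian (M.subgroupOf L) hA _ _ hc1 hc2
  exact ⟨a, ha⟩

end tools

end Cfsg.Agent.Lib.Lead
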