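import Mathlib
import Cfsg.Agent.Lib.Lead.HallThm

set_option autoImplicit false

namespace Cfsg.Agent.Lib.Lead

open scoped Pointwise

universe u

/-- Conjugacy and dominance of Hall subgroups. -/
def HallProp (G : Type u) [Group G] : Prop :=
  ∀ m n : ℕ, Nat.card G = m * n → m.Coprime n →
    (∀ H K : Subgroup G, Nat.card H = m → Nat.card K = m → ∃ g : G, MulAut.conj g • H = K) ∧
    (∀ K : Subgroup G, (Nat.card K).Coprime n → ∃ H : Subgroup G, Nat.card H = m ∧ K ≤ H)

theorem nat_eq_of_dvd_mul_eq {x y a b : ℕ} (hx : x ∣ a) (hy : y ∣ b) (h : x * y = a * b)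
    (ha : 0 < a) (hb : 0 < b) : x = a ∧ y = b := by
  have hxa := Nat.le_of_dvd ha hx
  have hyb := Nat.le_of_dvd hb hy
  have hx0 : 0 < x := Nat.pos_of_ne_zero (by rintro rfl; simp at h; omega)
  have hy0 : 0 < y := Nat.pos_of_ne_zero (by rintro rfl; simp at h; omega)
  constructor
  · by_contra hne
    have hlt : x < a := lt_of_le_of_ne hxa hne
    have : x * y < a * b := by
      calc x * y < a * y := Nat.mul_lt_mul_of_pos_right hlt hy0
        _ ≤ a * b := Nat.mul_le_mul_left _ hyb
    omega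
  · by_contra hne
    have hlt : y < b := lt_of_le_of_ne hyb hne
    have : x * y < a * b := by
      calc x * y < x * b := Nat.mul_lt_mul_of_pos_left hlt hx0
        _ ≤ a * b := Nat.mul_le_mul_right _ hxa
    omega

section
variable {G : Type u} [Group G] [Finite G]

/-- Case 1 of the induction: `|M| ∣ m`. -/
theorem hallProp_case1 (M : Subgroup G) [M.Normal] (m' n : ℕ)
    (hcard : Nat.card (G ⧸ M) = m' * n) (hcop : (Nat.card M * m').Coprime n)
    (ih : HallProp (G ⧸ M)) :
    (∀ H K : Subgroup G, Nat.card H = Nat.card M * m' → Nat.card K = Nat.card M * m' →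
      ∃ g : G, MulAut.conj g • H = K) ∧
    (∀ K : Subgroup G, (Nat.card K).Coprime n →
      ∃ H : Subgroup G, Nat.card H = Nat.card M * m' ∧ K ≤ H) := by
  have hMpos : 0 < Nat.card M := Nat.card_pos
  have hcop' : m'.Coprime n := Nat.Coprime.coprime_dvd_left (Dvd.intro_left _ rfl) hcop
  obtain ⟨hC, hD⟩ := ih m' n hcard hcop'
  have hm'pos : 0 < m' := by
    rcases Nat.eq_zero_or_pos m' with h | h
    · rw [h, zero_mul] at hcard
      exact absurd hcard Nat.card_pos.ne'
    · exact h
  -- key fact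
  have key : ∀ H : Subgroup G, Nat.card H = Nat.card M * m' →
      Nat.card (H.map (QuotientGroup.mk' M)) = m' ∧ M ≤ H := by
    intro H hH
    have h1 := card_map_mk_mul M H
    have hx1 : Nat.card (H.map (QuotientGroup.mk' M)) ∣ m' * n := by
      rw [← hcard]; exact Subgroup.card_subgroup_dvd_card _
    have hx2 : Nat.card (H.map (QuotientGroup.mk' M)) ∣ Nat.card M * m' := by
      rw [← hH]; exact Subgroup.card_map_dvd _ _
    have hxcop : (Nat.card (H.map (QuotientGroup.mk' M))).Coprime n :=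
      Nat.Coprime.coprime_dvd_left hx2 hcop
    have hx : Nat.card (H.map (QuotientGroup.mk' M)) ∣ m' :=
      hxcop.dvd_of_dvd_mul_right hx1
    have hy : Nat.card (H ⊓ M : Subgroup G) ∣ Nat.card M :=
      Subgroup.card_dvd_of_le inf_le_right
    have h2 : Nat.card (H.map (QuotientGroup.mk' M)) * Nat.card (H ⊓ M : Subgroup G) =
        m' * Nat.card M := by rw [h1, hH, mul_comm]
    obtain ⟨e1, e2⟩ := nat_eq_of_dvd_mul_eq hx hy h2 hm'pos hMpos
    refine ⟨e1, ?_⟩
    have : H ⊓ M = M := Subgroup.eq_of_le_of_card_ge inf_le_right e2.ge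
    exact inf_eq_right.mp this
  constructor
  · intro H K hH hK
    obtain ⟨hH1, hMH⟩ := key H hH
    obtain ⟨hK1, hMK⟩ := key K hK
    obtain ⟨g', hg'⟩ := hC _ _ hH1 hK1
    obtain ⟨g, rfl⟩ := QuotientGroup.mk'_surjective M g'
    refine ⟨g, ?_⟩
    have h1 : (MulAut.conj g • H).map (QuotientGroup.mk' M) = K.map (QuotientGroup.mk' M) := by
      rw [map_conj_smul]; exact hg'
    have h2 := congrArg (Subgroup.comap (QuotientGroup.mk' M)) h1
    rw [comap_map_mk, comap_map_mk] at h2
    have hM1 : M ≤ MulAut.conj g • H := (key _ ((card_conj_smul g H).trans hH)).2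
    rwa [sup_eq_left.mpr hM1, sup_eq_left.mpr hMK] at h2
  · intro K hK
    have hKbar : (Nat.card (K.map (QuotientGroup.mk' M))).Coprime n :=
      Nat.Coprime.coprime_dvd_left (Subgroup.card_map_dvd _ _) hK
    obtain ⟨Hbar, hHbar, hle⟩ := hD _ hKbar
    refine ⟨Hbar.comap (QuotientGroup.mk' M), ?_, ?_⟩
    · rw [card_comap_mk, hHbar, mul_comm]
    · exact Subgroup.map_le_iff_le_comap.mp hle

end

end Cfsg.Agent.Lib.Lead
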