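import Mathlib
import Cfsg.Agent.Lib.Lead.HallThm2

set_option autoImplicit false

namespace Cfsg.Agent.Lib.Lead

open scoped Pointwise

universe u

section
variable {G : Type u} [Group G] [Finite G]

theorem map_mk_sup_self (M : Subgroup G) [M.Normal] (K : Subgroup G) :
    (K ⊔ M).map (QuotientGroup.mk' M) = K.map (QuotientGroup.mk' M) := by
  rw [Subgroup.map_sup]
  have : M.map (QuotientGroup.mk' M) = ⊥ := by
    rw [Subgroup.map_eq_bot_iff, QuotientGroup.ker_mk']
  rw [this, sup_bot_eq]

theorem card_sup_of_inf_eq_bot (M : Subgroup G) [M.Normal] (K : Subgroup G) (h : K ⊓ M = ⊥) :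
    Nat.card (K ⊔ M : Subgroup G) = Nat.card K * Nat.card M := by
  rw [← comap_map_mk, card_comap_mk, card_map_mk_of_inf_eq_bot M K h]

/-- Case 2 of the induction: `|M|` coprime to `m`, `M` abelian. -/
theorem hallProp_case2 (ihsub : ∀ D : Subgroup G, D ≠ ⊤ → HallProp D)
    (M : Subgroup G) [M.Normal] [IsMulCommutative M] (m n' : ℕ)
    (hcard : Nat.card (G ⧸ M) = m * n') (hcop : m.Coprime (Nat.card M * n'))
    (ih : HallProp (G ⧸ M)) :
    (∀ H K : Subgroup G, Nat.card H = m → Nat.card K = m → ∃ g : G, MulAut.conj g • H = K) ∧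
    (∀ K : Subgroup G, (Nat.card K).Coprime (Nat.card M * n') →
      ∃ H : Subgroup G, Nat.card H = m ∧ K ≤ H) := by
  have hMpos : 0 < Nat.card M := Nat.card_pos
  have hcop' : m.Coprime n' := Nat.Coprime.coprime_dvd_right (Dvd.intro_left _ rfl) hcop
  have hcopM : m.Coprime (Nat.card M) := Nat.Coprime.coprime_dvd_right (Dvd.intro _ rfl) hcop
  obtain ⟨hC, hD⟩ := ih m n' hcard hcop'
  have hGcard : Nat.card G = m * n' * Nat.card M := by
    rw [← card_quotient_mul M, hcard]
  constructor
  · intro H K hH hK
    have hHM : H ⊓ M = ⊥ := (Subgroup.disjoint_of_coprime_natCard (by rw [hH]; exact hcopM)).eq_bot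
    have hKM : K ⊓ M = ⊥ := (Subgroup.disjoint_of_coprime_natCard (by rw [hK]; exact hcopM)).eq_bot
    have hH1 := (card_map_mk_of_inf_eq_bot M H hHM).trans hH
    have hK1 := (card_map_mk_of_inf_eq_bot M K hKM).trans hK
    obtain ⟨g', hg'⟩ := hC _ _ hH1 hK1
    obtain ⟨g, rfl⟩ := QuotientGroup.mk'_surjective M g'
    have h1 : (MulAut.conj g • H).map (QuotientGroup.mk' M) = K.map (QuotientGroup.mk' M) := by
      rw [map_conj_smul]; exact hg'
    have h2 := congrArg (Subgroup.comap (QuotientGroup.mk' M)) h1
    rw [comap_map_mk, comap_map_mk] at h2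
    have hH1card : Nat.card (MulAut.conj g • H : Subgroup G) = m := (card_conj_smul g H).trans hH
    obtain ⟨g2, _, hg2⟩ := schur_conj_in_subgroup M (K ⊔ M) (MulAut.conj g • H) K le_sup_right
      (h2 ▸ le_sup_left) le_sup_left
      (by rw [card_sup_of_inf_eq_bot M K hKM, hH1card, hK])
      (by rw [hH1card, hK]) (by rw [hH1card]; exact hcopM)
    refine ⟨g2 * g, ?_⟩
    rw [map_mul, mul_smul]; exact hg2
  · intro K hK
    have hKcopM : (Nat.card K).Coprime (Nat.card M) :=
      Nat.Coprime.coprime_dvd_right (Dvd.intro _ rfl) hK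
    have hKcopn' : (Nat.card K).Coprime n' :=
      Nat.Coprime.coprime_dvd_right (Dvd.intro_left _ rfl) hK
    have hKM : K ⊓ M = ⊥ := (Subgroup.disjoint_of_coprime_natCard hKcopM).eq_bot
    have hKbarcard := card_map_mk_of_inf_eq_bot M K hKM
    have hKbar : (Nat.card (K.map (QuotientGroup.mk' M))).Coprime n' := by
      rw [hKbarcard]; exact hKcopn'
    obtain ⟨Hbar, hHbar, hle⟩ := hD _ hKbar
    set D := Hbar.comap (QuotientGroup.mk' M) with hDdef
    have hDcard : Nat.card D = m * Nat.card M := by rw [card_comap_mk, hHbar]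
    have hKD : K ≤ D := Subgroup.map_le_iff_le_comap.mp hle
    have hMD : M ≤ D := by
      intro x hx
      rw [hDdef, Subgroup.mem_comap]
      have : (QuotientGroup.mk' M) x = 1 := (QuotientGroup.eq_one_iff x).mpr hx
      rw [this]; exact Hbar.one_mem
    by_cases hDtop : D = ⊤
    · -- M is a normal Hall subgroup of G
      have hGcard' : Nat.card G = m * Nat.card M := by
        rw [← hDcard, hDtop, Subgroup.card_top]
      have hidx : M.index = m := by
        have := M.card_mul_index
        rw [hGcard', mul_comm] at this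
        exact Nat.eq_of_mul_eq_mul_right hMpos this
      obtain ⟨H₀, hH₀⟩ := Subgroup.exists_right_complement'_of_coprime (N := M)
        (by rw [hidx]; exact hcopM.symm)
      have hH₀card : Nat.card H₀ = m := by
        have := hH₀.card_mul_card
        rw [hGcard', mul_comm] at this
        exact Nat.eq_of_mul_eq_mul_right hMpos this
      set L := K ⊔ M with hL
      have hLcard : Nat.card L = Nat.card K * Nat.card M := card_sup_of_inf_eq_bot M K hKM
      set K₁ := L ⊓ H₀ with hK₁
      have hK₁M : K₁ ⊓ M = ⊥ := by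
        have h1 : H₀ ⊓ M = ⊥ := by
          rw [inf_comm]; exact hH₀.disjoint.eq_bot
        apply le_bot_iff.mp
        calc K₁ ⊓ M ≤ H₀ ⊓ M := inf_le_inf_right M inf_le_right
          _ = ⊥ := h1
      have hK₁card : Nat.card K₁ = Nat.card K := by
        apply le_antisymm
        · rw [← card_map_mk_of_inf_eq_bot M K₁ hK₁M, ← hKbarcard]
          apply Subgroup.card_le_of_le
          rw [← map_mk_sup_self M K]
          exact Subgroup.map_mono inf_le_left
        · have := card_mul_card_le L H₀
          rw [hLcard, hH₀card, hGcard'] at this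
          have hpos : 0 < m * Nat.card M := Nat.mul_pos (by
            rcases Nat.eq_zero_or_pos m with h | h
            · rw [h] at hH₀card; exact absurd hH₀card Nat.card_pos.ne'
            · exact h) hMpos
          have h2 : Nat.card K * (m * Nat.card M) ≤ Nat.card K₁ * (m * Nat.card M) := by
            calc Nat.card K * (m * Nat.card M) = Nat.card K * Nat.card M * m := by ring
              _ ≤ m * Nat.card M * Nat.card (L ⊓ H₀ : Subgroup G) := this
              _ = Nat.card K₁ * (m * Nat.card M) := by rw [mul_comm]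
          exact Nat.le_of_mul_le_mul_right h2 hpos
      obtain ⟨g, _, hg⟩ := schur_conj_in_subgroup M L K₁ K le_sup_right inf_le_left le_sup_left
        (by rw [hLcard, hK₁card]) hK₁card.symm (by rw [hK₁card]; exact hKcopM)
      refine ⟨MulAut.conj g • H₀, (card_conj_smul g H₀).trans hH₀card, ?_⟩
      rw [← hg]
      exact Subgroup.pointwise_smul_le_pointwise_smul_iff.mpr inf_le_right
    · -- induction in D
      obtain ⟨_, hD'⟩ := ihsub D hDtop m (Nat.card M) hDcard hcopM
      obtain ⟨H', hH', hle'⟩ := hD' (K.subgroupOf D) (by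
        rw [card_subgroupOf_of_le hKD]; exact hKcopM)
      refine ⟨H'.map D.subtype, (card_map_subtype D H').trans hH', ?_⟩
      rw [← map_subtype_subgroupOf_of_le hKD]
      exact Subgroup.map_mono hle'

end

end Cfsg.Agent.Lib.Lead
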