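import Mathlib
import Cfsg.Agent.Lib.Lead.HallThm3

set_option autoImplicit false

namespace Cfsg.Agent.Lib.Lead

open scoped Pointwise

universe u

theorem hallProp_aux (N : ℕ) : ∀ (G : Type u) [Group G] [Finite G] [Group.IsSolvable G],
    Nat.card G = N → HallProp G := by
  induction N using Nat.strong_induction_on with
  | _ N ih =>
  intro G _ _ _ hN m n hmn hcop
  rcases subsingleton_or_nontrivial G with hsub | hnt
  · have hbot : ∀ H : Subgroup G, H = ⊥ := fun H => Subsingleton.elim _ _
    have hcard1 : Nat.card G = 1 := Nat.card_eq_one_iff_unique.mpr ⟨hsub, ⟨1⟩⟩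
    have hm1 : m = 1 := by
      rw [hcard1] at hmn
      exact Nat.eq_one_of_mul_eq_one_right hmn.symm
    constructor
    · intro H K _ _
      exact ⟨1, by rw [hbot H, hbot K, Subgroup.smul_bot]⟩
    · intro K _
      exact ⟨⊥, by rw [Subgroup.card_bot, hm1], by rw [hbot K]⟩
  · obtain ⟨p, M, hp, hMn, hMc, hMp, hMbot, -⟩ := exists_normal_abelian_pgroup (G := G)
    have : Fact p.Prime := ⟨hp⟩
    obtain ⟨a, ha⟩ := (IsPGroup.iff_card).mp hMp
    have hMcard1 : 1 < Nat.card M := by
      rcases Nat.lt_or_ge 1 (Nat.card M) with h | h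
      · exact h
      · exfalso
        have : Nat.card M = 1 := le_antisymm h Nat.card_pos
        exact hMbot (Subgroup.card_eq_one.mp this)
    have hQ := card_quotient_mul M
    have hQlt : Nat.card (G ⧸ M) < N := by
      rw [← hN, ← hQ]
      have : 0 < Nat.card (G ⧸ M) := Nat.card_pos
      nlinarith
    have ihQ : HallProp (G ⧸ M) := ih _ hQlt (G ⧸ M) rfl
    have ihsub : ∀ D : Subgroup G, D ≠ ⊤ → HallProp D := by
      intro D hD
      apply ih (Nat.card D) _ D rfl
      rw [← hN]
      have h1 := D.card_mul_index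
      have h2 : 1 < D.index := Subgroup.one_lt_index_of_ne_top hD
      have : 0 < Nat.card D := Nat.card_pos
      nlinarith
    have hMdvd : Nat.card M ∣ m * n := by
      rw [← hmn]; exact Subgroup.card_subgroup_dvd_card M
    by_cases hpm : p ∣ m
    · -- case 1
      have hpn : ¬ p ∣ n := by
        intro hpn
        have := Nat.dvd_gcd hpm hpn
        rw [hcop] at this
        exact hp.one_lt.ne' (Nat.dvd_one.mp this)
      have hMn' : (Nat.card M).Coprime n := by
        rw [ha]; exact Nat.Coprime.pow_left _ ((Nat.Prime.coprime_iff_not_dvd hp).mpr hpn)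
      obtain ⟨m', hm'⟩ : Nat.card M ∣ m := hMn'.dvd_of_dvd_mul_right hMdvd
      have hcardQ : Nat.card (G ⧸ M) = m' * n := by
        have : Nat.card (G ⧸ M) * Nat.card M = (m' * n) * Nat.card M := by
          rw [hQ, hmn, hm']; ring
        exact Nat.eq_of_mul_eq_mul_right Nat.card_pos this
      have := hallProp_case1 M m' n hcardQ (by rw [← hm']; exact hcop) ihQ
      rw [← hm'] at this
      exact this
    · -- case 2
      have hMm : (Nat.card M).Coprime m := by
        rw [ha]; exact Nat.Coprime.pow_left _ ((Nat.Prime.coprime_iff_not_dvd hp).mpr hpm)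
      obtain ⟨n', hn'⟩ : Nat.card M ∣ n := hMm.dvd_of_dvd_mul_left hMdvd
      have hcardQ : Nat.card (G ⧸ M) = m * n' := by
        have : Nat.card (G ⧸ M) * Nat.card M = (m * n') * Nat.card M := by
          rw [hQ, hmn, hn']; ring
        exact Nat.eq_of_mul_eq_mul_right Nat.card_pos this
      have := hallProp_case2 ihsub M m n' hcardQ (by rw [← hn']; exact hcop) ihQ
      rw [← hn'] at this
      exact this

theorem hallProp_of_solvable (G : Type u) [Group G] [Finite G] [Group.IsSolvable G] : HallProp G :=
  hallProp_aux _ G rfl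

end Cfsg.Agent.Lib.Lead
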