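import Mathlib
import Cfsg.Agent.Lib.Lead.HallThm4

set_option autoImplicit false

namespace Cfsg.Agent.Lib.Lead

open scoped Pointwise commutatorElement

universe u

section tools
variable {G : Type*} [Group G]

/-- A nontrivial solvable normal subgroup contains a nontrivial abelian subgroup normal in `G`. -/
theorem exists_normal_abelian_le (N : Subgroup G) [N.Normal] [Group.IsSolvable N] (hN : N ≠ ⊥) :
    ∃ A : Subgroup G, A ≤ N ∧ A.Normal ∧ IsMulCommutative A ∧ A ≠ ⊥ := by
  classical
  have hsolv : ∃ n, derivedSeries N n = ⊥ := (isSolvable_def N).mp inferInstance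
  set n := Nat.find hsolv with hn
  have hnbot : derivedSeries N n = ⊥ := Nat.find_spec hsolv
  have hn0 : n ≠ 0 := by
    intro h0
    rw [h0, derivedSeries_zero] at hnbot
    apply hN
    rw [Subgroup.eq_bot_iff_forall]
    intro x hx
    have : (⟨x, hx⟩ : N) ∈ (⊤ : Subgroup N) := trivial
    rw [hnbot, Subgroup.mem_bot] at this
    exact congrArg Subtype.val this
  obtain ⟨k, hk⟩ : ∃ k, n = k + 1 := ⟨n - 1, by omega⟩
  set D := derivedSeries N k with hD
  have hDbot : D ≠ ⊥ := by
    intro h
    have := Nat.find_min' hsolv h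
    omega
  have hDD : ⁅D, D⁆ = ⊥ := by
    rw [hk, derivedSeries_succ] at hnbot
    exact hnbot
  have hDcomm : IsMulCommutative D := by
    refine ⟨⟨fun a b => ?_⟩⟩
    have : ⁅(a : N), (b : N)⁆ ∈ ⁅D, D⁆ := Subgroup.commutator_mem_commutator a.2 b.2
    rw [hDD, Subgroup.mem_bot] at this
    apply Subtype.ext
    exact commutatorElement_eq_one_iff_mul_comm.mp this
  refine ⟨D.map N.subtype, Subgroup.map_subtype_le D, inferInstance, inferInstance, ?_⟩
  rw [Ne, Subgroup.map_eq_bot_iff_of_injective D N.subtype_injective]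
  exact hDbot

end tools

/-- Schur–Zassenhaus conjugacy, for solvable normal Hall subgroup, in cardinality form. -/
def SZPropA (G : Type u) [Group G] : Prop :=
  ∀ (N : Subgroup G) [N.Normal] [Group.IsSolvable N], (Nat.card N).Coprime N.index →
    ∀ H K : Subgroup G, Nat.card H = N.index → Nat.card K = N.index →
      ∃ g : G, MulAut.conj g • H = K

theorem szPropA_aux (n : ℕ) : ∀ (G : Type u) [Group G] [Finite G], Nat.card G = n → SZPropA G := by
  induction n using Nat.strong_induction_on with
  | _ n ih =>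
  intro G _ _ hn N _ _ hcop H K hH hK
  by_cases hNbot : N = ⊥
  · have hidx : N.index = Nat.card G := by rw [hNbot, Subgroup.index_bot]
    have hHtop : H = ⊤ := (Subgroup.card_eq_iff_eq_top H).mp (hH.trans hidx)
    have hKtop : K = ⊤ := (Subgroup.card_eq_iff_eq_top K).mp (hK.trans hidx)
    refine ⟨1, ?_⟩
    rw [hHtop, hKtop, map_one, one_smul]
  · obtain ⟨A, hAN, hAn, hAc, hAbot⟩ := exists_normal_abelian_le N hNbot
    have hAcard1 : 1 < Nat.card A := by
      rcases Nat.lt_or_ge 1 (Nat.card A) with h | h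
      · exact h
      · exfalso
        have : Nat.card A = 1 := le_antisymm h Nat.card_pos
        exact hAbot (Subgroup.card_eq_one.mp this)
    have hQ := card_quotient_mul A
    have hQlt : Nat.card (G ⧸ A) < n := by
      rw [← hn, ← hQ]
      have : 0 < Nat.card (G ⧸ A) := Nat.card_pos
      nlinarith
    have ihQ : SZPropA (G ⧸ A) := ih _ hQlt (G ⧸ A) rfl
    set Nbar := N.map (QuotientGroup.mk' A) with hNbar
    have hNbarn : Nbar.Normal := Subgroup.Normal.map inferInstance _ (QuotientGroup.mk'_surjective A)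
    have hNbars : Group.IsSolvable Nbar :=
      solvable_of_surjective ((QuotientGroup.mk' A).subgroupMap_surjective N)
    have hNbarcard : Nat.card Nbar * Nat.card A = Nat.card N := card_map_mk_of_le A N hAN
    have hNbaridx : Nbar.index = N.index :=
      Subgroup.index_map_eq _ (QuotientGroup.mk'_surjective A) (by rw [QuotientGroup.ker_mk']; exact hAN)
    have hcopbar : (Nat.card Nbar).Coprime Nbar.index := by
      rw [hNbaridx]
      exact Nat.Coprime.coprime_dvd_left (Dvd.intro _ hNbarcard) hcop
    have hAdvd : Nat.card A ∣ Nat.card N := Subgroup.card_dvd_of_le hAN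
    have hcopA : N.index.Coprime (Nat.card A) := (Nat.Coprime.coprime_dvd_left hAdvd hcop).symm
    have hHA : H ⊓ A = ⊥ := (Subgroup.disjoint_of_coprime_natCard (by rw [hH]; exact hcopA)).eq_bot
    have hKA : K ⊓ A = ⊥ := (Subgroup.disjoint_of_coprime_natCard (by rw [hK]; exact hcopA)).eq_bot
    have hH1 := (card_map_mk_of_inf_eq_bot A H hHA).trans (hH.trans hNbaridx.symm)
    have hK1 := (card_map_mk_of_inf_eq_bot A K hKA).trans (hK.trans hNbaridx.symm)
    obtain ⟨g', hg'⟩ := ihQ Nbar hcopbar _ _ hH1 hK1
    obtain ⟨g, rfl⟩ := QuotientGroup.mk'_surjective A g'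
    have h1 : (MulAut.conj g • H).map (QuotientGroup.mk' A) = K.map (QuotientGroup.mk' A) := by
      rw [map_conj_smul]; exact hg'
    have h2 := congrArg (Subgroup.comap (QuotientGroup.mk' A)) h1
    rw [comap_map_mk, comap_map_mk] at h2
    have hH1card : Nat.card (MulAut.conj g • H : Subgroup G) = N.index := (card_conj_smul g H).trans hH
    obtain ⟨g2, _, hg2⟩ := schur_conj_in_subgroup A (K ⊔ A) (MulAut.conj g • H) K le_sup_right
      (h2 ▸ le_sup_left) le_sup_left
      (by rw [card_sup_of_inf_eq_bot A K hKA, hH1card, hK])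
      (by rw [hH1card, hK]) (by rw [hH1card]; exact hcopA)
    refine ⟨g2 * g, ?_⟩
    rw [map_mul, mul_smul]; exact hg2

theorem szPropA (G : Type u) [Group G] [Finite G] : SZPropA G := szPropA_aux _ G rfl

end Cfsg.Agent.Lib.Lead
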