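import Mathlib
import Cfsg.Agent.Lib.Lead.SZConj

set_option autoImplicit false

namespace Cfsg.Agent.Lib.Lead

open scoped Pointwise commutatorElement

universe u

section tools
variable {G : Type*} [Group G]

/-- Sylow conjugacy inside a subgroup `M`. -/
theorem sylow_conj_in_subgroup [Finite G] (p a r : ℕ) [hp : Fact p.Prime] (M P Q : Subgroup G)
    (hPM : P ≤ M) (hQM : Q ≤ M) (hP : Nat.card P = p ^ a) (hQ : Nat.card Q = p ^ a)
    (hM : Nat.card M = p ^ a * r) (hr : ¬ p ∣ r) :
    ∃ x ∈ M, MulAut.conj x • P = Q := by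
  apply conj_of_conj_subgroupOf hPM hQM
  have hr0 : r ≠ 0 := by
    rintro rfl
    rw [mul_zero] at hM
    exact absurd hM Nat.card_pos.ne'
  have hfac : (Nat.card M).factorization p = a := by
    rw [hM, Nat.factorization_mul (pow_ne_zero _ hp.out.ne_zero) hr0,
      Nat.Prime.factorization_pow hp.out]
    simp [Nat.factorization_eq_zero_of_not_dvd hr]
  let S₁ : Sylow p M := Sylow.ofCard (P.subgroupOf M) (by rw [card_subgroupOf_of_le hPM, hP, hfac])
  let S₂ : Sylow p M := Sylow.ofCard (Q.subgroupOf M) (by rw [card_subgroupOf_of_le hQM, hQ, hfac])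
  obtain ⟨x, hx⟩ := MulAction.exists_smul_eq M S₁ S₂
  refine ⟨x, ?_⟩
  have := congrArg (fun S : Sylow p M => (S : Subgroup M)) hx
  exact this

theorem map_inf_comap {G' : Type*} [Group G'] (f : G →* G') (H : Subgroup G) (X : Subgroup G') :
    (H ⊓ X.comap f).map f = H.map f ⊓ X := by
  ext x
  simp only [Subgroup.mem_map, Subgroup.mem_inf, Subgroup.mem_comap]
  constructor
  · rintro ⟨h, ⟨hh, hx⟩, rfl⟩
    exact ⟨⟨h, hh, rfl⟩, hx⟩
  · rintro ⟨⟨h, hh, rfl⟩, hx⟩
    exact ⟨h, ⟨hh, hx⟩, rfl⟩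

theorem conj_smul_normal (g : G) (M : Subgroup G) [hM : M.Normal] : MulAut.conj g • M = M := by
  ext x
  rw [Subgroup.mem_pointwise_smul_iff_inv_smul_mem]
  simp only [MulAut.smul_def, map_inv, MulAut.conj_symm_apply]
  constructor
  · intro h
    have := hM.conj_mem _ h g
    simpa [mul_assoc] using this
  · intro h
    have := hM.conj_mem _ h g⁻¹
    simpa [mul_assoc] using this

theorem le_normalizer_inf_normal (H M : Subgroup G) [M.Normal] :
    H ≤ Subgroup.normalizer ((H ⊓ M : Subgroup G) : Set G) := by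
  intro h hh
  rw [Subgroup.mem_normalizer_iff]
  intro x
  simp only [Subgroup.mem_inf]
  constructor
  · rintro ⟨hx, hxM⟩
    exact ⟨H.mul_mem (H.mul_mem hh hx) (H.inv_mem hh), Subgroup.Normal.conj_mem inferInstance x hxM h⟩
  · rintro ⟨hx, hxM⟩
    refine ⟨?_, ?_⟩
    · have := H.mul_mem (H.mul_mem (H.inv_mem hh) hx) hh
      simpa [mul_assoc] using this
    · have := Subgroup.Normal.conj_mem (inferInstance : M.Normal) _ hxM h⁻¹
      simpa [mul_assoc] using this

end tools

end Cfsg.Agent.Lib.Lead
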