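import Mathlib
import Cfsg.Agent.Lib.Lead.SZConjB

set_option autoImplicit false

namespace Cfsg.Agent.Lib.Lead

open scoped Pointwise commutatorElement

universe u

/-- Schur–Zassenhaus conjugacy, for solvable quotient, in cardinality form. -/
def SZPropB (G : Type u) [Group G] : Prop :=
  ∀ (N : Subgroup G) [N.Normal], Group.IsSolvable (G ⧸ N) → (Nat.card N).Coprime N.index →
    ∀ H K : Subgroup G, Nat.card H = N.index → Nat.card K = N.index →
      ∃ g : G, MulAut.conj g • H = K

section
variable {G : Type u} [Group G]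

theorem card_subgroupOf_eq (H L : Subgroup G) :
    Nat.card (H.subgroupOf L) = Nat.card (H ⊓ L : Subgroup G) := by
  rw [← Subgroup.inf_subgroupOf_right]
  exact card_subgroupOf_of_le inf_le_right

theorem szB_sub [Finite G] (N : Subgroup G) [N.Normal] (hsolv : Group.IsSolvable (G ⧸ N))
    (hcop : (Nat.card N).Coprime N.index) (L : Subgroup G) (ihL : SZPropB L)
    (H K : Subgroup G) (hHL : H ≤ L) (hKL : K ≤ L)
    (hH : Nat.card H = N.index) (hK : Nat.card K = N.index) :
    ∃ g : G, MulAut.conj g • H = K := by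
  have hN'solv : Group.IsSolvable (L ⧸ N.subgroupOf L) := by
    have hle : N.subgroupOf L ≤ N.comap L.subtype := fun x hx => hx
    have hφ : Function.Injective (QuotientGroup.map (N.subgroupOf L) N L.subtype hle) := by
      rw [← MonoidHom.ker_eq_bot_iff, QuotientGroup.ker_map, Subgroup.map_eq_bot_iff,
        QuotientGroup.ker_mk']
      exact fun x hx => hx
    exact Group.isSolvable_of_isSolvable_injective hφ
  have hN'card : Nat.card (N.subgroupOf L) ∣ Nat.card N := by
    rw [card_subgroupOf_eq]; exact Subgroup.card_dvd_of_le inf_le_left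
  have hN'idx : (N.subgroupOf L).index ∣ N.index := Subgroup.relIndex_dvd_index_of_normal N L
  have hH'card : Nat.card (H.subgroupOf L) = N.index := (card_subgroupOf_of_le hHL).trans hH
  have hK'card : Nat.card (K.subgroupOf L) = N.index := (card_subgroupOf_of_le hKL).trans hK
  have hcop' : (Nat.card (N.subgroupOf L)).Coprime (Nat.card (H.subgroupOf L)) := by
    rw [hH'card]; exact Nat.Coprime.coprime_dvd_left hN'card hcop
  have hidx : (N.subgroupOf L).index = N.index := by
    apply Nat.dvd_antisymm hN'idx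
    have h1 : Nat.card (N.subgroupOf L) * Nat.card (H.subgroupOf L) ∣ Nat.card L :=
      Nat.Coprime.mul_dvd_of_dvd_of_dvd hcop' (Subgroup.card_subgroup_dvd_card _)
        (Subgroup.card_subgroup_dvd_card _)
    rw [← (N.subgroupOf L).card_mul_index, hH'card] at h1
    exact Nat.dvd_of_mul_dvd_mul_left Nat.card_pos h1
  have hcop'' : (Nat.card (N.subgroupOf L)).Coprime (N.subgroupOf L).index := by
    rw [hidx, ← hH'card]; exact hcop'
  obtain ⟨l, hl⟩ := ihL (N.subgroupOf L) hN'solv hcop'' _ _ (hH'card.trans hidx.symm)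
    (hK'card.trans hidx.symm)
  obtain ⟨g, _, hg⟩ := conj_of_conj_subgroupOf hHL hKL ⟨l, hl⟩
  exact ⟨g, hg⟩

theorem szB_quot [Finite G] (N : Subgroup G) [N.Normal] (hsolv : Group.IsSolvable (G ⧸ N))
    (hcop : (Nat.card N).Coprime N.index) (P : Subgroup G) [P.Normal] (ihP : SZPropB (G ⧸ P))
    (H K : Subgroup G) (hPH : P ≤ H) (hPK : P ≤ K)
    (hH : Nat.card H = N.index) (hK : Nat.card K = N.index) :
    ∃ g : G, MulAut.conj g • H = K := by
  set Nbar := N.map (QuotientGroup.mk' P) with hNbar
  have hNbarn : Nbar.Normal := Subgroup.Normal.map inferInstance _ (QuotientGroup.mk'_surjective P)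
  have hsolv' : Group.IsSolvable ((G ⧸ P) ⧸ Nbar) := by
    let ψ : G ⧸ N →* (G ⧸ P) ⧸ Nbar :=
      QuotientGroup.map N Nbar (QuotientGroup.mk' P) (Subgroup.le_comap_map _ _)
    have hψ : Function.Surjective ψ := by
      apply QuotientGroup.map_surjective_of_surjective
      intro x
      obtain ⟨y, rfl⟩ := QuotientGroup.mk'_surjective Nbar x
      obtain ⟨z, rfl⟩ := QuotientGroup.mk'_surjective P y
      exact ⟨z, rfl⟩
    exact Group.isSolvable_of_surjective hψ
  have hPpos : 0 < Nat.card P := Nat.card_pos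
  have hNpos : 0 < Nat.card N := Nat.card_pos
  have hPdvd : Nat.card P ∣ N.index := by rw [← hH]; exact Subgroup.card_dvd_of_le hPH
  have hNP : N ⊓ P = ⊥ :=
    (Subgroup.disjoint_of_coprime_natCard (Nat.Coprime.coprime_dvd_right hPdvd hcop)).eq_bot
  have hNbarcard : Nat.card Nbar = Nat.card N := card_map_mk_of_inf_eq_bot P N hNP
  have hQ := card_quotient_mul P
  have hidx : Nbar.index * Nat.card P = N.index := by
    have h1 := Nbar.card_mul_index
    have h2 := N.card_mul_index
    rw [hNbarcard] at h1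
    have : Nat.card N * (Nbar.index * Nat.card P) = Nat.card N * N.index := by
      rw [← mul_assoc, h1, hQ, h2]
    exact Nat.eq_of_mul_eq_mul_left hNpos this
  have hcop' : (Nat.card Nbar).Coprime Nbar.index := by
    rw [hNbarcard]
    exact Nat.Coprime.coprime_dvd_right (Dvd.intro _ hidx) hcop
  have hHbar : Nat.card (H.map (QuotientGroup.mk' P)) = Nbar.index := by
    have := card_map_mk_of_le P H hPH
    rw [hH, ← hidx] at this
    exact Nat.eq_of_mul_eq_mul_right hPpos this
  have hKbar : Nat.card (K.map (QuotientGroup.mk' P)) = Nbar.index := by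
    have := card_map_mk_of_le P K hPK
    rw [hK, ← hidx] at this
    exact Nat.eq_of_mul_eq_mul_right hPpos this
  obtain ⟨g', hg'⟩ := ihP Nbar hsolv' hcop' _ _ hHbar hKbar
  obtain ⟨g, rfl⟩ := QuotientGroup.mk'_surjective P g'
  refine ⟨g, ?_⟩
  have h1 : (MulAut.conj g • H).map (QuotientGroup.mk' P) = K.map (QuotientGroup.mk' P) := by
    rw [map_conj_smul]; exact hg'
  have h2 := congrArg (Subgroup.comap (QuotientGroup.mk' P)) h1
  rw [comap_map_mk, comap_map_mk] at h2
  have hP1 : P ≤ MulAut.conj g • H := by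
    rw [← conj_smul_normal g P]
    exact Subgroup.pointwise_smul_le_pointwise_smul_iff.mpr hPH
  rwa [sup_eq_left.mpr hP1, sup_eq_left.mpr hPK] at h2

end

end Cfsg.Agent.Lib.Lead
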