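import Mathlib
import Cfsg.Agent.Lib.Lead.SZConjB2

set_option autoImplicit false

namespace Cfsg.Agent.Lib.Lead

open scoped Pointwise commutatorElement

universe u

theorem szPropB_aux (n : ℕ) : ∀ (G : Type u) [Group G] [Finite G], Nat.card G = n → SZPropB G := by
  induction n using Nat.strong_induction_on with
  | _ n ih =>
  intro G _ _ hn N _ hsolv hcop H K hH hK
  by_cases hNtop : N = ⊤
  · have hidx : N.index = 1 := by rw [hNtop, Subgroup.index_top]
    have hHbot : H = ⊥ := Subgroup.card_eq_one.mp (hH.trans hidx)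
    have hKbot : K = ⊥ := Subgroup.card_eq_one.mp (hK.trans hidx)
    exact ⟨1, by rw [hHbot, hKbot, Subgroup.smul_bot]⟩
  · have hidx1 : 1 < N.index := Subgroup.one_lt_index_of_ne_top hNtop
    have hQcard : Nat.card (G ⧸ N) = N.index := (Subgroup.index_eq_card N).symm
    have hnt : Nontrivial (G ⧸ N) := by
      rw [← Finite.one_lt_card_iff_nontrivial, hQcard]; exact hidx1
    obtain ⟨p, Mbar, hp, hMn, _, hMp, hMbot, -⟩ := exists_normal_abelian_pgroup (G := G ⧸ N)
    have : Fact p.Prime := ⟨hp⟩
    obtain ⟨a, ha⟩ := (IsPGroup.iff_card).mp hMp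
    have hMbarcard1 : 1 < Nat.card Mbar := by
      rcases Nat.lt_or_ge 1 (Nat.card Mbar) with h | h
      · exact h
      · exfalso
        have : Nat.card Mbar = 1 := le_antisymm h Nat.card_pos
        exact hMbot (Subgroup.card_eq_one.mp this)
    have ha0 : a ≠ 0 := by
      rintro rfl
      rw [pow_zero] at ha
      omega
    set M := Mbar.comap (QuotientGroup.mk' N) with hM
    have hMnormal : M.Normal := Subgroup.Normal.comap hMn _
    have hMcard : Nat.card M = p ^ a * Nat.card N := by rw [card_comap_mk, ha]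
    have hpidx : p ∣ N.index := by
      rw [← hQcard]
      have h1 : p ∣ Nat.card Mbar := by rw [ha]; exact dvd_pow_self p ha0
      exact h1.trans (Subgroup.card_subgroup_dvd_card Mbar)
    have hpN : ¬ p ∣ Nat.card N := by
      intro h
      have := Nat.dvd_gcd h hpidx
      rw [hcop] at this
      exact hp.one_lt.ne' (Nat.dvd_one.mp this)
    -- facts about subgroups of order N.index
    have key : ∀ X : Subgroup G, Nat.card X = N.index → Nat.card (X ⊓ M : Subgroup G) = p ^ a := by
      intro X hX
      have hXN : X ⊓ N = ⊥ :=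
        (Subgroup.disjoint_of_coprime_natCard (by rw [hX]; exact hcop.symm)).eq_bot
      have h1 : X.map (QuotientGroup.mk' N) = ⊤ := by
        rw [← Subgroup.card_eq_iff_eq_top, card_map_mk_of_inf_eq_bot N X hXN, hX, hQcard]
      have h2 : (X ⊓ M).map (QuotientGroup.mk' N) = Mbar := by
        rw [hM, map_inf_comap, h1, top_inf_eq]
      have h3 : (X ⊓ M) ⊓ N = ⊥ := by
        apply le_bot_iff.mp
        calc (X ⊓ M) ⊓ N ≤ X ⊓ N := inf_le_inf_right N inf_le_left
          _ = ⊥ := hXN
      rw [← card_map_mk_of_inf_eq_bot N (X ⊓ M) h3, h2, ha]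
    obtain ⟨x, _, hx⟩ := sylow_conj_in_subgroup p a (Nat.card N) M (H ⊓ M) (K ⊓ M) inf_le_right
      inf_le_right (key H hH) (key K hK) hMcard hpN
    set H₁ := MulAut.conj x • H with hH₁
    have hH₁card : Nat.card H₁ = N.index := (card_conj_smul x H).trans hH
    have hH₁M : H₁ ⊓ M = K ⊓ M := by
      rw [← hx, Subgroup.smul_inf, conj_smul_normal x M]
    set P := K ⊓ M with hP
    have hPcard : Nat.card P = p ^ a := key K hK
    have hPcard1 : 1 < Nat.card P := by rw [hPcard, ← ha]; exact hMbarcard1
    have hH₁L : H₁ ≤ Subgroup.normalizer (P : Set G) := by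
      rw [← hH₁M]; exact le_normalizer_inf_normal H₁ M
    have hKL : K ≤ Subgroup.normalizer (P : Set G) := le_normalizer_inf_normal K M
    have hfin : ∃ g : G, MulAut.conj g • H₁ = K := by
      by_cases hL : Subgroup.normalizer (P : Set G) = ⊤
      · have hPn : P.Normal := Subgroup.normalizer_eq_top_iff.mp hL
        have hQ := card_quotient_mul P
        have hQlt : Nat.card (G ⧸ P) < n := by
          rw [← hn, ← hQ]
          have : 0 < Nat.card (G ⧸ P) := Nat.card_pos
          nlinarith
        exact szB_quot N hsolv hcop P (ih _ hQlt (G ⧸ P) rfl) H₁ K (hH₁M ▸ inf_le_left) inf_le_left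
          hH₁card hK
      · have hLlt : Nat.card (Subgroup.normalizer (P : Set G)) < n := by
          rw [← hn]
          have h1 := (Subgroup.normalizer (P : Set G)).card_mul_index
          have h2 : 1 < (Subgroup.normalizer (P : Set G)).index := Subgroup.one_lt_index_of_ne_top hL
          have : 0 < Nat.card (Subgroup.normalizer (P : Set G)) := Nat.card_pos
          nlinarith
        exact szB_sub N hsolv hcop _ (ih _ hLlt _ rfl) H₁ K hH₁L hKL hH₁card hK
    obtain ⟨g, hg⟩ := hfin
    refine ⟨g * x, ?_⟩
    rw [map_mul, mul_smul]; exact hg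

theorem szPropB (G : Type u) [Group G] [Finite G] : SZPropB G := szPropB_aux _ G rfl

/-- Schur–Zassenhaus conjugacy. -/
theorem schur_zassenhaus_conj {G : Type u} [Group G] [Finite G] (N : Subgroup G) [N.Normal]
    (hN : (Nat.card N).Coprime N.index) (hsolv : Group.IsSolvable N ∨ Group.IsSolvable (G ⧸ N))
    (H K : Subgroup G) (hH : Nat.card H = N.index) (hK : Nat.card K = N.index) :
    ∃ g : G, MulAut.conj g • H = K := by
  rcases hsolv with h | h
  · exact szPropA G N hN H K hH hK
  · exact szPropB G N h hN H K hH hK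

end Cfsg.Agent.Lib.Lead
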