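import Mathlib
import Cfsg.Agent.Lib.Lead.SZConjB3

set_option autoImplicit false

namespace Cfsg.Agent.Lib.Lead

open scoped Pointwise commutatorElement

universe u

section
variable {G : Type u} [Group G]

theorem relIndex_sup_of_le_normalizer (H N : Subgroup G)
    (h : H ≤ Subgroup.normalizer (N : Set G)) : N.relIndex (H ⊔ N) = N.relIndex H := by
  haveI := Subgroup.normal_subgroupOf_of_le_normalizer h
  haveI := Subgroup.normal_subgroupOf_sup_of_le_normalizer h
  exact Nat.card_congr (QuotientGroup.quotientInfEquivProdNormalizerQuotient H N h).toEquiv.symm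

theorem card_sup_mul_card_inf (H N : Subgroup G) (h : H ≤ Subgroup.normalizer (N : Set G)) :
    Nat.card (H ⊔ N : Subgroup G) * Nat.card (H ⊓ N : Subgroup G) = Nat.card H * Nat.card N := by
  have h1 := relIndex_sup_of_le_normalizer H N h
  have h2 : Nat.card (N.subgroupOf (H ⊔ N)) * N.relIndex (H ⊔ N) = Nat.card (H ⊔ N : Subgroup G) :=
    Subgroup.card_mul_index _
  have h3 : Nat.card (N.subgroupOf H) * N.relIndex H = Nat.card H := Subgroup.card_mul_index _
  rw [card_subgroupOf_of_le le_sup_right] at h2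
  rw [card_subgroupOf_eq, inf_comm] at h3
  rw [← h2, ← h3, h1]; ring

theorem card_sup_of_disjoint (H N : Subgroup G) (h : H ≤ Subgroup.normalizer (N : Set G))
    (hd : H ⊓ N = ⊥) : Nat.card (H ⊔ N : Subgroup G) = Nat.card H * Nat.card N := by
  have := card_sup_mul_card_inf H N h
  rwa [hd, Subgroup.card_bot, mul_one] at this

/-- If `A` normalizes `K`, `A ⊓ K = ⊥`, and `c ∈ K` normalizes `A`, then `c` centralizes `A`. -/
theorem mem_centralizer_of_mem_normalizer (A K : Subgroup G)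
    (hAK : A ≤ Subgroup.normalizer (K : Set G)) (hd : A ⊓ K = ⊥) (c : G) (hc : c ∈ K)
    (hcA : ∀ a ∈ A, c * a * c⁻¹ ∈ A) : c ∈ Subgroup.centralizer (A : Set G) := by
  rw [Subgroup.mem_centralizer_iff]
  intro a ha
  have h1 : c * a * c⁻¹ * a⁻¹ ∈ A := A.mul_mem (hcA a ha) (A.inv_mem ha)
  have h2 : c * a * c⁻¹ * a⁻¹ ∈ K := by
    have : a * c⁻¹ * a⁻¹ ∈ K :=
      (Subgroup.mem_normalizer_iff.mp (hAK ha) c⁻¹).mp (K.inv_mem hc)
    have := K.mul_mem hc this
    simpa [mul_assoc] using this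
  have h3 : c * a * c⁻¹ * a⁻¹ ∈ A ⊓ K := ⟨h1, h2⟩
  rw [hd, Subgroup.mem_bot] at h3
  calc a * c = (c * a * c⁻¹ * a⁻¹)⁻¹ * (c * a) := by group
    _ = c * a := by rw [h3, inv_one, one_mul]

end

end Cfsg.Agent.Lib.Lead
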