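import Mathlib
import Cfsg.Agent.Lib.Lead.CoprimeTools

set_option autoImplicit false

namespace Cfsg.Agent.Lib.Lead

open scoped Pointwise commutatorElement

universe u

section
variable {G : Type u} [Group G] [Finite G]

/-- Internal Schur–Zassenhaus, existence. -/
theorem sz_exists_internal (M L : Subgroup G) (hML : M ≤ L)
    (hLM : L ≤ Subgroup.normalizer (M : Set G)) (m : ℕ) (hcard : m * Nat.card M = Nat.card L)
    (hcop : m.Coprime (Nat.card M)) : ∃ B : Subgroup G, B ≤ L ∧ Nat.card B = m := by
  haveI := Subgroup.normal_subgroupOf_of_le_normalizer hLM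
  have hM'card : Nat.card (M.subgroupOf L) = Nat.card M := card_subgroupOf_of_le hML
  have hMpos : 0 < Nat.card M := Nat.card_pos
  have hidx : (M.subgroupOf L).index = m := by
    have := (M.subgroupOf L).card_mul_index
    rw [hM'card, ← hcard, mul_comm] at this
    exact Nat.eq_of_mul_eq_mul_right hMpos this
  obtain ⟨B', hB'⟩ := Subgroup.exists_right_complement'_of_coprime (N := M.subgroupOf L)
    (by rw [hM'card, hidx]; exact hcop.symm)
  refine ⟨B'.map L.subtype, Subgroup.map_subtype_le B', ?_⟩
  rw [card_map_subtype]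
  have := hB'.card_mul_card
  rw [hM'card, ← hcard, mul_comm] at this
  exact Nat.eq_of_mul_eq_mul_right hMpos this

/-- Internal Schur–Zassenhaus, conjugacy; the conjugating element can be chosen in `M`. -/
theorem sz_conj_internal (M L H B : Subgroup G) (hML : M ≤ L)
    (hLM : L ≤ Subgroup.normalizer (M : Set G)) (hH : H ≤ L) (hB : B ≤ L)
    (hcard : Nat.card H * Nat.card M = Nat.card L) (hBH : Nat.card B = Nat.card H)
    (hcop : (Nat.card H).Coprime (Nat.card M))
    (hsolv : Group.IsSolvable M ∨ Group.IsSolvable H) :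
    ∃ x ∈ M, MulAut.conj x • H = B := by
  haveI := Subgroup.normal_subgroupOf_of_le_normalizer hLM
  have hM'card : Nat.card (M.subgroupOf L) = Nat.card M := card_subgroupOf_of_le hML
  have hH'card : Nat.card (H.subgroupOf L) = Nat.card H := card_subgroupOf_of_le hH
  have hB'card : Nat.card (B.subgroupOf L) = Nat.card H := (card_subgroupOf_of_le hB).trans hBH
  have hMpos : 0 < Nat.card M := Nat.card_pos
  have hidx : (M.subgroupOf L).index = Nat.card H := by
    have := (M.subgroupOf L).card_mul_index
    rw [hM'card, ← hcard, mul_comm] at this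
    exact Nat.eq_of_mul_eq_mul_right hMpos this
  have hsolv' : Group.IsSolvable (M.subgroupOf L) ∨ Group.IsSolvable (L ⧸ M.subgroupOf L) := by
    rcases hsolv with h | h
    · left
      exact Group.isSolvable_of_isSolvable_injective
        (f := (Subgroup.subgroupOfEquivOfLe hML).toMonoidHom) (Subgroup.subgroupOfEquivOfLe hML).injective
    · right
      have hH's : Group.IsSolvable (H.subgroupOf L) :=
        Group.isSolvable_of_isSolvable_injective
          (f := (Subgroup.subgroupOfEquivOfLe hH).toMonoidHom) (Subgroup.subgroupOfEquivOfLe hH).injective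
      let φ : H.subgroupOf L →* L ⧸ M.subgroupOf L :=
        (QuotientGroup.mk' (M.subgroupOf L)).comp (H.subgroupOf L).subtype
      have hφ : Function.Surjective φ := by
        rw [← MonoidHom.range_eq_top, ← Subgroup.card_eq_iff_eq_top]
        have h1 : φ.range = (H.subgroupOf L).map (QuotientGroup.mk' (M.subgroupOf L)) := by
          rw [MonoidHom.range_eq_map, ← Subgroup.map_map, ← MonoidHom.range_eq_map,
            Subgroup.range_subtype]
        have hdisj : H.subgroupOf L ⊓ M.subgroupOf L = ⊥ :=
          (Subgroup.disjoint_of_coprime_natCard (by rw [hH'card, hM'card]; exact hcop)).eq_bot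
        rw [h1, card_map_mk_of_inf_eq_bot _ _ hdisj, hH'card, ← hidx, Subgroup.index_eq_card]
      exact Group.isSolvable_of_surjective hφ
  obtain ⟨g, hgL, hg⟩ := conj_of_conj_subgroupOf hH hB
    (schur_zassenhaus_conj (M.subgroupOf L) (by rw [hM'card, hidx]; exact hcop.symm) hsolv'
      (H.subgroupOf L) (B.subgroupOf L) (hH'card.trans hidx.symm) (hB'card.trans hidx.symm))
  -- decompose g = x * h with x ∈ M, h ∈ H
  have hHM : H ≤ Subgroup.normalizer (M : Set G) := hH.trans hLM
  have hdisj : H ⊓ M = ⊥ := (Subgroup.disjoint_of_coprime_natCard hcop).eq_bot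
  have hsup : H ⊔ M = L := by
    apply Subgroup.eq_of_le_of_card_ge (sup_le hH hML)
    rw [card_sup_of_disjoint H M hHM hdisj, hcard]
  have hg' : g⁻¹ ∈ ((H ⊔ M : Subgroup G) : Set G) := by
    rw [hsup]; exact L.inv_mem hgL
  rw [Subgroup.coe_mul_of_left_le_normalizer_right H M hHM] at hg'
  obtain ⟨h, hh, m, hm, hhm⟩ := hg'
  refine ⟨m⁻¹, M.inv_mem hm, ?_⟩
  have hgeq : g = m⁻¹ * h⁻¹ := by
    have h1 : h * m = g⁻¹ := hhm
    have : g = (h * m)⁻¹ := by rw [h1, inv_inv]
    rw [this, mul_inv_rev]
  rw [← hg, hgeq, map_mul, mul_smul, Subgroup.conj_smul_eq_self_of_mem (H.inv_mem hh)]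

end

end Cfsg.Agent.Lib.Lead
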