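import Mathlib
import Cfsg.Agent.Lib.Lead.CoprimeTools2

set_option autoImplicit false

namespace Cfsg.Agent.Lib.Lead

open scoped Pointwise commutatorElement

universe u

section
variable {G : Type u} [Group G] [Finite G]

theorem isSolvable_of_le {H K : Subgroup G} (h : H ≤ K) [hK : Group.IsSolvable K] :
    Group.IsSolvable H :=
  Group.isSolvable_of_isSolvable_injective (f := Subgroup.inclusion h) (Subgroup.inclusion_injective h)

theorem mem_conj_smul_iff' (g x : G) (H : Subgroup G) :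
    x ∈ MulAut.conj g • H ↔ g⁻¹ * x * g ∈ H := by
  rw [Subgroup.mem_pointwise_smul_iff_inv_smul_mem]
  simp [MulAut.smul_def]

/-- Conjugates of the acting group inside `A ⊔ K` are `K`-conjugate (coprime action). -/
theorem coprime_conj_complement (A K : Subgroup G) (hAK : A ≤ Subgroup.normalizer (K : Set G))
    (hcop : (Nat.card A).Coprime (Nat.card K)) (hsolv : Group.IsSolvable A ∨ Group.IsSolvable K)
    (B : Subgroup G) (hB : B ≤ A ⊔ K) (hBA : Nat.card B = Nat.card A) :
    ∃ x ∈ K, MulAut.conj x • A = B := by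
  have hdisj : A ⊓ K = ⊥ := (Subgroup.disjoint_of_coprime_natCard hcop).eq_bot
  exact sz_conj_internal K (A ⊔ K) A B le_sup_right (sup_le hAK Subgroup.le_normalizer) le_sup_left hB
    (card_sup_of_disjoint A K hAK hdisj).symm hBA hcop hsolv.symm

/-- Fixed points on quotients under coprime action. -/
theorem coprime_fixed_coset (A K : Subgroup G) (hAK : A ≤ Subgroup.normalizer (K : Set G))
    (hcop : (Nat.card A).Coprime (Nat.card K)) (hsolv : Group.IsSolvable A ∨ Group.IsSolvable K)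
    (N : Subgroup G) (hNK : N ≤ K) (hNnormal : K ≤ Subgroup.normalizer (N : Set G))
    (hNA : A ≤ Subgroup.normalizer (N : Set G))
    (k : G) (hk : k ∈ K) (hfix : ∀ a ∈ A, a * k * a⁻¹ * k⁻¹ ∈ N) :
    ∃ c ∈ K ⊓ Subgroup.centralizer (A : Set G), k⁻¹ * c ∈ N := by
  have hcopN : (Nat.card A).Coprime (Nat.card N) :=
    Nat.Coprime.coprime_dvd_right (Subgroup.card_dvd_of_le hNK) hcop
  have hsolvN : Group.IsSolvable A ∨ Group.IsSolvable N := by
    rcases hsolv with h | h
    · exact Or.inl h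
    · exact Or.inr (isSolvable_of_le hNK)
  have hB : MulAut.conj k • A ≤ A ⊔ N := by
    intro y hy
    rw [mem_conj_smul_iff'] at hy
    have h1 := hfix _ hy
    -- y = (stuff in N)⁻¹ * (k⁻¹ y k)
    have h2 : y = (k⁻¹ * y * k * k * (k⁻¹ * y * k)⁻¹ * k⁻¹)⁻¹ * (k⁻¹ * y * k) := by group
    rw [h2]
    exact Subgroup.mul_mem _ (Subgroup.mem_sup_right (N.inv_mem h1)) (Subgroup.mem_sup_left hy)
  obtain ⟨x, hxN, hx⟩ := coprime_conj_complement A N hNA hcopN hsolvN _ hB (card_conj_smul k A)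
  have hdisj : A ⊓ K = ⊥ := (Subgroup.disjoint_of_coprime_natCard hcop).eq_bot
  have hcK : x⁻¹ * k ∈ K := K.mul_mem (K.inv_mem (hNK hxN)) hk
  have hcA : MulAut.conj (x⁻¹ * k) • A = A := by
    rw [map_mul, mul_smul, ← hx, ← mul_smul, ← map_mul, inv_mul_cancel, map_one, one_smul]
  refine ⟨x⁻¹ * k, ⟨hcK, ?_⟩, ?_⟩
  · apply mem_centralizer_of_mem_normalizer A K hAK hdisj _ hcK
    intro a ha
    rw [← hcA]
    exact ⟨a, ha, by simp [MulAut.smul_def, mul_assoc]⟩
  · have : k⁻¹ * x⁻¹ * k⁻¹⁻¹ ∈ N :=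
      (Subgroup.mem_normalizer_iff.mp (hNnormal (K.inv_mem hk)) x⁻¹).mp (N.inv_mem hxN)
    simpa [mul_assoc] using this

end

end Cfsg.Agent.Lib.Lead
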