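import Mathlib
import Cfsg.Agent.Lib.Lead.CoprimeAction

set_option autoImplicit false

namespace Cfsg.Agent.Lib.Lead

open scoped Pointwise commutatorElement

universe u

section
variable {G : Type u} [Group G]

/-- `K` normalizes `⁅K, A⁆`. -/
theorem le_normalizer_commutator_left (K A : Subgroup G) :
    K ≤ Subgroup.normalizer ((⁅K, A⁆ : Subgroup G) : Set G) := by
  intro k hk
  -- it suffices: conjugation by k maps ⁅K, A⁆ into itself, for k and k⁻¹
  have key : ∀ g ∈ K, ∀ x ∈ ⁅K, A⁆, g * x * g⁻¹ ∈ ⁅K, A⁆ := by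
    intro g hg x hx
    have hle : ⁅K, A⁆ ≤ (⁅K, A⁆ : Subgroup G).comap (MulAut.conj g).toMonoidHom := by
      rw [Subgroup.commutator_le]
      intro k' hk' a ha
      rw [Subgroup.mem_comap]
      show g * ⁅k', a⁆ * g⁻¹ ∈ ⁅K, A⁆
      have h1 : g * ⁅k', a⁆ * g⁻¹ = ⁅g * k', a⁆ * ⁅g, a⁆⁻¹ := by
        simp only [commutatorElement_def]; group
      rw [h1]
      exact Subgroup.mul_mem _ (Subgroup.commutator_mem_commutator (K.mul_mem hg hk') ha)
        (Subgroup.inv_mem _ (Subgroup.commutator_mem_commutator hg ha))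
    exact hle hx
  rw [Subgroup.mem_normalizer_iff]
  intro x
  constructor
  · exact key k hk x
  · intro hx
    have := key k⁻¹ (K.inv_mem hk) _ hx
    simpa [mul_assoc] using this

/-- If `A` normalizes `K` then `A` normalizes `⁅K, A⁆`. -/
theorem le_normalizer_commutator_right (K A : Subgroup G)
    (hAK : A ≤ Subgroup.normalizer (K : Set G)) :
    A ≤ Subgroup.normalizer ((⁅K, A⁆ : Subgroup G) : Set G) := by
  intro b hb
  have key : ∀ g ∈ A, ∀ x ∈ ⁅K, A⁆, g * x * g⁻¹ ∈ ⁅K, A⁆ := by
    intro g hg x hx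
    have hle : ⁅K, A⁆ ≤ (⁅K, A⁆ : Subgroup G).comap (MulAut.conj g).toMonoidHom := by
      rw [Subgroup.commutator_le]
      intro k' hk' a ha
      rw [Subgroup.mem_comap]
      show g * ⁅k', a⁆ * g⁻¹ ∈ ⁅K, A⁆
      have h1 : g * ⁅k', a⁆ * g⁻¹ = ⁅g * k' * g⁻¹, g * a * g⁻¹⁆ := by
        simp only [commutatorElement_def]; group
      rw [h1]
      exact Subgroup.commutator_mem_commutator
        ((Subgroup.mem_normalizer_iff.mp (hAK hg) k').mp hk') (A.mul_mem (A.mul_mem hg ha) (A.inv_mem hg))
    exact hle hx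
  rw [Subgroup.mem_normalizer_iff]
  intro x
  constructor
  · exact key b hb x
  · intro hx
    have := key b⁻¹ (A.inv_mem hb) _ hx
    simpa [mul_assoc] using this

theorem commutator_le_left_of_le_normalizer (K A : Subgroup G)
    (hAK : A ≤ Subgroup.normalizer (K : Set G)) : ⁅K, A⁆ ≤ K :=
  commutator_le_of_le_normalizer A K hAK

variable [Finite G]

/-- `K = [K, A] C_K(A)` for coprime action. -/
theorem coprime_commutator_sup_centralizer (A K : Subgroup G)
    (hAK : A ≤ Subgroup.normalizer (K : Set G))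
    (hcop : (Nat.card A).Coprime (Nat.card K)) (hsolv : Group.IsSolvable A ∨ Group.IsSolvable K) :
    ⁅K, A⁆ ⊔ (K ⊓ Subgroup.centralizer (A : Set G)) = K := by
  apply le_antisymm
  · exact sup_le (commutator_le_left_of_le_normalizer K A hAK) inf_le_left
  · intro k hk
    obtain ⟨c, hc, hkc⟩ := coprime_fixed_coset A K hAK hcop hsolv ⁅K, A⁆
      (commutator_le_left_of_le_normalizer K A hAK) (le_normalizer_commutator_left K A)
      (le_normalizer_commutator_right K A hAK) k hk (by
        intro a ha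
        have : a * k * a⁻¹ * k⁻¹ = ⁅a, k⁆ := rfl
        rw [this, Subgroup.commutator_comm]
        exact Subgroup.commutator_mem_commutator ha hk)
    have : k = c * (k⁻¹ * c)⁻¹ := by group
    rw [this]
    exact Subgroup.mul_mem _ (Subgroup.mem_sup_right hc) (Subgroup.mem_sup_left (Subgroup.inv_mem _ hkc))

/-- `[K, A, A] = [K, A]` for coprime action. -/
theorem coprime_commutator_stable (A K : Subgroup G)
    (hAK : A ≤ Subgroup.normalizer (K : Set G))
    (hcop : (Nat.card A).Coprime (Nat.card K)) (hsolv : Group.IsSolvable A ∨ Group.IsSolvable K) :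
    ⁅⁅K, A⁆, A⁆ = ⁅K, A⁆ := by
  apply le_antisymm
  · exact Subgroup.commutator_mono (commutator_le_left_of_le_normalizer K A hAK) le_rfl
  · rw [Subgroup.commutator_le]
    intro k hk a ha
    have hk' : k ∈ (((⁅K, A⁆ : Subgroup G) ⊔ (K ⊓ Subgroup.centralizer (A : Set G)) : Subgroup G) : Set G) := by
      rw [coprime_commutator_sup_centralizer A K hAK hcop hsolv]; exact hk
    rw [Subgroup.coe_mul_of_right_le_normalizer_left _ _
      (inf_le_left.trans (le_normalizer_commutator_left K A))] at hk'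
    obtain ⟨x, hx, c, hc, rfl⟩ := hk'
    have hca : c * a = a * c := (Subgroup.mem_centralizer_iff.mp hc.2 a ha).symm
    have : ⁅x * c, a⁆ = ⁅x, a⁆ := by
      simp only [commutatorElement_def]
      have : x * c * a * (x * c)⁻¹ * a⁻¹ = x * (c * a) * c⁻¹ * x⁻¹ * a⁻¹ := by group
      rw [this, hca]; group
    rw [this]
    exact Subgroup.commutator_mem_commutator hx ha

end

end Cfsg.Agent.Lib.Lead
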