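import Mathlib
import Cfsg.Agent.Lib.Lead.CoprimeAction2

set_option autoImplicit false

namespace Cfsg.Agent.Lib.Lead

open scoped Pointwise commutatorElement

universe u

section
variable {G : Type u} [Group G]

/-- conjugation by an element normalising `V`, as an automorphism of `V` -/
def conjEquiv (V : Subgroup G) (a : G) (ha : a ∈ Subgroup.normalizer (V : Set G)) : V ≃* V where
  toFun := conjHom V a ha
  invFun := conjHom V a⁻¹ (Subgroup.inv_mem _ ha)
  left_inv v := by ext; simp [mul_assoc]
  right_inv v := by ext; simp [mul_assoc]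
  map_mul' := (conjHom V a ha).map_mul

/-- Normalizing elements of `K` normalize the image of a characteristic subgroup of `K`. -/
theorem le_normalizer_map_characteristic (K : Subgroup G) (C : Subgroup K) [hC : C.Characteristic] :
    Subgroup.normalizer (K : Set G) ≤ Subgroup.normalizer ((C.map K.subtype : Subgroup G) : Set G) := by
  have key : ∀ g ∈ Subgroup.normalizer (K : Set G), ∀ x ∈ C.map K.subtype,
      g * x * g⁻¹ ∈ C.map K.subtype := by
    intro g hg x hx
    obtain ⟨y, hy, rfl⟩ := hx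
    have h1 := hC.fixed (conjEquiv K g hg)
    have h2 : conjEquiv K g hg y ∈ C := by
      have : y ∈ C.comap (conjEquiv K g hg).toMonoidHom := by rw [h1]; exact hy
      exact this
    exact ⟨_, h2, rfl⟩
  intro g hg
  rw [Subgroup.mem_normalizer_iff]
  intro x
  constructor
  · exact key g hg x
  · intro hx
    have := key g⁻¹ (Subgroup.inv_mem _ hg) _ hx
    simpa [mul_assoc] using this

variable [Finite G]

/-- Coprime action trivial on the Frattini quotient is trivial. -/
theorem coprime_trivial_on_frattini_quotient (A K : Subgroup G)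
    (hAK : A ≤ Subgroup.normalizer (K : Set G))
    (hcop : (Nat.card A).Coprime (Nat.card (frattini K)))
    (htriv : ∀ a ∈ A, ∀ k ∈ K, a * k * a⁻¹ * k⁻¹ ∈ (frattini K).map K.subtype) :
    A ≤ Subgroup.centralizer (K : Set G) := by
  set Φ := (frattini K).map K.subtype with hΦ
  have hΦK : Φ ≤ K := Subgroup.map_subtype_le _
  have hΦcard : Nat.card Φ = Nat.card (frattini K) := card_map_subtype K _
  have hAΦ : A ≤ Subgroup.normalizer (Φ : Set G) :=
    hAK.trans (le_normalizer_map_characteristic K (frattini K))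
  have hcop' : (Nat.card A).Coprime (Nat.card Φ) := by rw [hΦcard]; exact hcop
  have hdisj : A ⊓ Φ = ⊥ := (Subgroup.disjoint_of_coprime_natCard hcop').eq_bot
  have hΦsolv : Group.IsSolvable Φ := by
    have h1 : Group.IsNilpotent (frattini K) := frattini_nilpotent
    have h2 : Group.IsSolvable (frattini K) := inferInstance
    exact Group.isSolvable_of_surjective ((K.subtype).subgroupMap_surjective (frattini K))
  -- every element of K is a product of an element of C_K(A) and an element of Φ
  have key : ∀ k ∈ K, ∃ c ∈ K ⊓ Subgroup.centralizer (A : Set G), ∃ x ∈ Φ, k = x * c := by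
    intro k hk
    have hB : MulAut.conj k • A ≤ A ⊔ Φ := by
      intro y hy
      rw [mem_conj_smul_iff'] at hy
      have h1 := htriv _ hy k hk
      have h2 : y = (k⁻¹ * y * k * k * (k⁻¹ * y * k)⁻¹ * k⁻¹)⁻¹ * (k⁻¹ * y * k) := by group
      rw [h2]
      exact Subgroup.mul_mem _ (Subgroup.mem_sup_right (Φ.inv_mem h1)) (Subgroup.mem_sup_left hy)
    obtain ⟨x, hxΦ, hx⟩ := coprime_conj_complement A Φ hAΦ hcop' (Or.inr hΦsolv) _ hB
      (card_conj_smul k A)
    have hcK : x⁻¹ * k ∈ K := K.mul_mem (K.inv_mem (hΦK hxΦ)) hk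
    have hcA : MulAut.conj (x⁻¹ * k) • A = A := by
      rw [map_mul, mul_smul, ← hx, ← mul_smul, ← map_mul, inv_mul_cancel, map_one, one_smul]
    refine ⟨x⁻¹ * k, ⟨hcK, ?_⟩, x, hxΦ, by group⟩
    show x⁻¹ * k ∈ Subgroup.centralizer (A : Set G)
    rw [Subgroup.mem_centralizer_iff]
    intro a ha
    set c := x⁻¹ * k with hc
    have h1 : c * a * c⁻¹ ∈ A := by
      rw [← hcA]
      exact ⟨a, ha, by simp [MulAut.smul_def]⟩
    have h2 : c * a * c⁻¹ * a⁻¹ ∈ A := A.mul_mem h1 (A.inv_mem ha)
    have h3 : c * a * c⁻¹ * a⁻¹ ∈ Φ := by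
      have := Φ.inv_mem (htriv a ha c hcK)
      have e : (a * c * a⁻¹ * c⁻¹)⁻¹ = c * a * c⁻¹ * a⁻¹ := by group
      rwa [e] at this
    have h4 : c * a * c⁻¹ * a⁻¹ ∈ A ⊓ Φ := ⟨h2, h3⟩
    rw [hdisj, Subgroup.mem_bot] at h4
    calc a * c = (c * a * c⁻¹ * a⁻¹)⁻¹ * (c * a) := by group
      _ = c * a := by rw [h4, inv_one, one_mul]
  -- Frattini argument
  have htop : (K ⊓ Subgroup.centralizer (A : Set G)).subgroupOf K = ⊤ := by
    apply frattini_nongenerating
    rw [eq_top_iff]
    intro k _
    obtain ⟨c, hc, x, hx, hkxc⟩ := key k k.2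
    obtain ⟨x', hx', hx'x⟩ := hx
    have hcK : c ∈ K := hc.1
    have : k = x' * ⟨c, hcK⟩ := by
      apply Subtype.ext
      rw [Subgroup.coe_mul, hkxc]
      congr 1
      exact hx'x.symm
    rw [this]
    exact Subgroup.mul_mem _ (Subgroup.mem_sup_right hx') (Subgroup.mem_sup_left hc)
  intro a ha
  rw [Subgroup.mem_centralizer_iff]
  intro k hk
  have : (⟨k, hk⟩ : K) ∈ (K ⊓ Subgroup.centralizer (A : Set G)).subgroupOf K := by
    rw [htop]; trivial
  have h2 : k ∈ Subgroup.centralizer (A : Set G) := this.2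
  exact (Subgroup.mem_centralizer_iff.mp h2 a ha).symm

end

end Cfsg.Agent.Lib.Lead
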