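import Mathlib
import Cfsg.Agent.Lib.Lead.CoprimeFrattini

set_option autoImplicit false

namespace Cfsg.Agent.Lib.Lead

open scoped Pointwise commutatorElement

universe u

section
variable {G : Type u} [Group G]

theorem mem_normalizer_iff_conj_smul (g : G) (H : Subgroup G) :
    g ∈ Subgroup.normalizer (H : Set G) ↔ MulAut.conj g • H = H := by
  rw [Subgroup.mem_normalizer_iff_map_conj_eq]
  rfl

theorem conj_smul_mem_normalizer_iff (x g : G) (H : Subgroup G) :
    g ∈ Subgroup.normalizer ((MulAut.conj x • H : Subgroup G) : Set G) ↔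
      x⁻¹ * g * x ∈ Subgroup.normalizer (H : Set G) := by
  rw [mem_normalizer_iff_conj_smul, mem_normalizer_iff_conj_smul, ← mul_smul, ← map_mul]
  constructor
  · intro h
    have := congrArg (fun S => MulAut.conj x⁻¹ • S) h
    simp only [← mul_smul, ← map_mul] at this
    rw [inv_mul_cancel, map_one, one_smul] at this
    rw [← mul_assoc] at this
    exact this
  · intro h
    have := congrArg (fun S => MulAut.conj x • S) h
    simp only [← mul_smul, ← map_mul] at this
    have e : x * (x⁻¹ * g * x) = g * x := by group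
    rw [e] at this
    exact this

variable [Finite G]

/-- The Frattini-argument count for coprime action on the Sylow subgroups of `K`. -/
theorem coprime_frattini_count (A K : Subgroup G) (hAK : A ≤ Subgroup.normalizer (K : Set G))
    (hcop : (Nat.card A).Coprime (Nat.card K)) (p a r : ℕ) [Fact p.Prime]
    (P : Subgroup G) (hPK : P ≤ K) (hP : Nat.card P = p ^ a) (hK : Nat.card K = p ^ a * r)
    (hr : ¬ p ∣ r) :
    Nat.card ((A ⊔ K) ⊓ Subgroup.normalizer (P : Set G) : Subgroup G) =
      Nat.card A * Nat.card (K ⊓ Subgroup.normalizer (P : Set G) : Subgroup G) := by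
  set Γ := A ⊔ K with hΓ
  set L := Γ ⊓ Subgroup.normalizer (P : Set G) with hL
  set M := K ⊓ Subgroup.normalizer (P : Set G) with hM
  have hΓK : Γ ≤ Subgroup.normalizer (K : Set G) := sup_le hAK Subgroup.le_normalizer
  have hdisj : A ⊓ K = ⊥ := (Subgroup.disjoint_of_coprime_natCard hcop).eq_bot
  have hΓcard : Nat.card Γ = Nat.card A * Nat.card K := card_sup_of_disjoint A K hAK hdisj
  have hLK : L ≤ Subgroup.normalizer (K : Set G) := inf_le_left.trans hΓK
  have hLK' : L ⊓ K = M := by
    rw [hL, hM, inf_assoc, inf_comm (Subgroup.normalizer (P : Set G)) K, ← inf_assoc,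
      inf_eq_right.mpr (le_sup_right : K ≤ Γ)]
  have hsup : L ⊔ K = Γ := by
    apply le_antisymm (sup_le inf_le_left le_sup_right)
    intro γ hγ
    -- conj γ • P is a Sylow subgroup of K
    have h1 : MulAut.conj γ • P ≤ K := by
      have : MulAut.conj γ • K = K := (mem_normalizer_iff_conj_smul γ K).mp (hΓK hγ)
      rw [← this]
      exact Subgroup.pointwise_smul_le_pointwise_smul_iff.mpr hPK
    obtain ⟨k, hk, hkP⟩ := sylow_conj_in_subgroup p a r K P (MulAut.conj γ • P) hPK h1 hP
      ((card_conj_smul γ P).trans hP) hK hr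
    have h2 : k⁻¹ * γ ∈ Subgroup.normalizer (P : Set G) := by
      rw [mem_normalizer_iff_conj_smul, map_mul, mul_smul, ← hkP, ← mul_smul, ← map_mul,
        inv_mul_cancel, map_one, one_smul]
    have h3 : k⁻¹ * γ ∈ Γ := Γ.mul_mem (Γ.inv_mem (Subgroup.mem_sup_right hk)) hγ
    have : γ = (k⁻¹ * γ) * ((k⁻¹ * γ)⁻¹ * k * (k⁻¹ * γ)) := by group
    rw [this]
    refine Subgroup.mul_mem _ (Subgroup.mem_sup_left ⟨h3, h2⟩) (Subgroup.mem_sup_right ?_)
    have := (Subgroup.mem_normalizer_iff.mp (hΓK (Γ.inv_mem h3)) k).mp hk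
    simpa using this
  have h4 := card_sup_mul_card_inf L K hLK
  rw [hsup, hLK', hΓcard] at h4
  have hKpos : 0 < Nat.card K := Nat.card_pos
  have : Nat.card K * (Nat.card L) = Nat.card K * (Nat.card A * Nat.card M) := by
    rw [mul_comm (Nat.card K) (Nat.card L), ← h4]; ring
  exact Nat.eq_of_mul_eq_mul_left hKpos this

end

end Cfsg.Agent.Lib.Lead
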