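import Mathlib
import Cfsg.Agent.Lib.Lead.CoprimeSylow

set_option autoImplicit false

namespace Cfsg.Agent.Lib.Lead

open scoped Pointwise commutatorElement

universe u

section
variable {G : Type u} [Group G] [Finite G]

theorem coprime_LM_facts (A K P : Subgroup G) (hAK : A ≤ Subgroup.normalizer (K : Set G)) :
    (K ⊓ Subgroup.normalizer (P : Set G) ≤ (A ⊔ K) ⊓ Subgroup.normalizer (P : Set G)) ∧
    ((A ⊔ K) ⊓ Subgroup.normalizer (P : Set G) ≤
      Subgroup.normalizer ((K ⊓ Subgroup.normalizer (P : Set G) : Subgroup G) : Set G)) := by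
  constructor
  · exact inf_le_inf_right _ le_sup_right
  · refine le_trans ?_ Subgroup.inf_normalizer_le_normalizer_inf
    exact inf_le_inf (sup_le hAK Subgroup.le_normalizer) Subgroup.le_normalizer

theorem coprime_invariant_sylow_exists_aux (A K : Subgroup G)
    (hAK : A ≤ Subgroup.normalizer (K : Set G))
    (hcop : (Nat.card A).Coprime (Nat.card K)) (hsolv : Group.IsSolvable A ∨ Group.IsSolvable K)
    (p a r : ℕ) [Fact p.Prime]
    (P : Subgroup G) (hPK : P ≤ K) (hP : Nat.card P = p ^ a) (hK : Nat.card K = p ^ a * r)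
    (hr : ¬ p ∣ r) :
    ∃ x ∈ K, A ≤ Subgroup.normalizer ((MulAut.conj x • P : Subgroup G) : Set G) := by
  obtain ⟨hML, hLM⟩ := coprime_LM_facts A K P hAK
  have hcount := coprime_frattini_count A K hAK hcop p a r P hPK hP hK hr
  have hMK : K ⊓ Subgroup.normalizer (P : Set G) ≤ K := inf_le_left
  have hcopM : (Nat.card A).Coprime (Nat.card (K ⊓ Subgroup.normalizer (P : Set G) : Subgroup G)) :=
    Nat.Coprime.coprime_dvd_right (Subgroup.card_dvd_of_le hMK) hcop
  obtain ⟨B, hBL, hBcard⟩ := sz_exists_internal _ _ hML hLM (Nat.card A) hcount.symm hcopM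
  obtain ⟨x, hxK, hx⟩ := coprime_conj_complement A K hAK hcop hsolv B (hBL.trans inf_le_left) hBcard
  refine ⟨x⁻¹, K.inv_mem hxK, ?_⟩
  intro y hy
  rw [conj_smul_mem_normalizer_iff, inv_inv]
  apply (hBL _).2
  rw [← hx]
  exact ⟨y, hy, by simp [MulAut.smul_def]⟩

theorem coprime_invariant_sylow_conj_aux (A K : Subgroup G)
    (hAK : A ≤ Subgroup.normalizer (K : Set G))
    (hcop : (Nat.card A).Coprime (Nat.card K)) (hsolv : Group.IsSolvable A ∨ Group.IsSolvable K)
    (p a r : ℕ) [Fact p.Prime]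
    (P Q : Subgroup G) (hPK : P ≤ K) (hQK : Q ≤ K) (hP : Nat.card P = p ^ a)
    (hQ : Nat.card Q = p ^ a) (hK : Nat.card K = p ^ a * r) (hr : ¬ p ∣ r)
    (hAP : A ≤ Subgroup.normalizer (P : Set G)) (hAQ : A ≤ Subgroup.normalizer (Q : Set G)) :
    ∃ c ∈ K ⊓ Subgroup.centralizer (A : Set G), MulAut.conj c • P = Q := by
  obtain ⟨hML, hLM⟩ := coprime_LM_facts A K P hAK
  have hcount := coprime_frattini_count A K hAK hcop p a r P hPK hP hK hr
  have hMK : K ⊓ Subgroup.normalizer (P : Set G) ≤ K := inf_le_left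
  have hcopM : (Nat.card A).Coprime (Nat.card (K ⊓ Subgroup.normalizer (P : Set G) : Subgroup G)) :=
    Nat.Coprime.coprime_dvd_right (Subgroup.card_dvd_of_le hMK) hcop
  obtain ⟨k, hk, hkP⟩ := sylow_conj_in_subgroup p a r K P Q hPK hQK hP hQ hK hr
  have hA1Γ : MulAut.conj k⁻¹ • A ≤ A ⊔ K :=
    Subgroup.conj_smul_le_of_le le_sup_left ⟨k⁻¹, Subgroup.mem_sup_right (K.inv_mem hk)⟩
  have hA1N : MulAut.conj k⁻¹ • A ≤ Subgroup.normalizer (P : Set G) := by
    intro y hy
    rw [mem_conj_smul_iff', inv_inv] at hy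
    have h1 := hAQ hy
    rw [← hkP, conj_smul_mem_normalizer_iff] at h1
    have e : k⁻¹ * (k * y * k⁻¹) * k = y := by group
    rwa [e] at h1
  have hsolvM : Group.IsSolvable (K ⊓ Subgroup.normalizer (P : Set G) : Subgroup G) ∨
      Group.IsSolvable A := by
    rcases hsolv with h | h
    · exact Or.inr h
    · exact Or.inl (isSolvable_of_le hMK)
  obtain ⟨x, hxM, hx⟩ := sz_conj_internal _ _ A (MulAut.conj k⁻¹ • A) hML hLM
    (le_inf le_sup_left hAP) (le_inf hA1Γ hA1N) hcount.symm (card_conj_smul _ _) hcopM hsolvM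
  have hdisj : A ⊓ K = ⊥ := (Subgroup.disjoint_of_coprime_natCard hcop).eq_bot
  have hcK : k * x ∈ K := K.mul_mem hk hxM.1
  have hcA : MulAut.conj (k * x) • A = A := by
    rw [map_mul, mul_smul, hx, ← mul_smul, ← map_mul, mul_inv_cancel, map_one, one_smul]
  refine ⟨k * x, ⟨hcK, ?_⟩, ?_⟩
  · apply mem_centralizer_of_mem_normalizer A K hAK hdisj _ hcK
    intro a ha
    rw [← hcA]
    exact ⟨a, ha, by simp [MulAut.smul_def, mul_assoc]⟩
  · rw [map_mul, mul_smul, (mem_normalizer_iff_conj_smul x P).mp hxM.2, hkP]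

end

end Cfsg.Agent.Lib.Lead
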