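import Mathlib
import Cfsg.Agent.Lib.Lead.CoprimeSylow2

set_option autoImplicit false

namespace Cfsg.Agent.Lib.Lead

open scoped Pointwise commutatorElement

universe u

section
variable {G : Type u} [Group G] [Finite G]

theorem sylow_card_facts (K : Subgroup G) (p : ℕ) [hp : Fact p.Prime] (P : Sylow p K) :
    Nat.card ((P : Subgroup K).map K.subtype) = p ^ (Nat.card K).factorization p ∧
    Nat.card K = p ^ (Nat.card K).factorization p * (Nat.card K / p ^ (Nat.card K).factorization p) ∧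
    ¬ p ∣ (Nat.card K / p ^ (Nat.card K).factorization p) := by
  refine ⟨?_, ?_, ?_⟩
  · rw [card_map_subtype]; exact P.card_eq_multiplicity
  · exact (Nat.ordProj_mul_ordCompl_eq_self (Nat.card K) p).symm
  · exact Nat.not_dvd_ordCompl hp.out Nat.card_pos.ne'

theorem coprime_invariant_sylow_exists (A K : Subgroup G)
    (hAK : A ≤ Subgroup.normalizer (K : Set G))
    (hcop : (Nat.card A).Coprime (Nat.card K)) (hsolv : Group.IsSolvable A ∨ Group.IsSolvable K)
    (p : ℕ) [Fact p.Prime] :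
    ∃ P : Sylow p K, A ≤ Subgroup.normalizer ((P : Subgroup K).map K.subtype : Set G) := by
  obtain ⟨P₀⟩ : Nonempty (Sylow p K) := inferInstance
  obtain ⟨h1, h2, h3⟩ := sylow_card_facts K p P₀
  obtain ⟨x, hxK, hx⟩ := coprime_invariant_sylow_exists_aux A K hAK hcop hsolv p _ _
    ((P₀ : Subgroup K).map K.subtype) (Subgroup.map_subtype_le _) h1 h2 h3
  refine ⟨(⟨x, hxK⟩ : K) • P₀, ?_⟩
  have : (((⟨x, hxK⟩ : K) • P₀ : Sylow p K) : Subgroup K).map K.subtype =
      MulAut.conj x • (P₀ : Subgroup K).map K.subtype := by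
    rw [Sylow.coe_subgroup_smul, map_conj_smul]; rfl
  rw [this]
  exact hx

theorem coprime_invariant_sylow_conj (A K : Subgroup G)
    (hAK : A ≤ Subgroup.normalizer (K : Set G))
    (hcop : (Nat.card A).Coprime (Nat.card K)) (hsolv : Group.IsSolvable A ∨ Group.IsSolvable K)
    (p : ℕ) [Fact p.Prime] (P Q : Sylow p K)
    (hP : A ≤ Subgroup.normalizer ((P : Subgroup K).map K.subtype : Set G))
    (hQ : A ≤ Subgroup.normalizer ((Q : Subgroup K).map K.subtype : Set G)) :
    ∃ c : K, (c : G) ∈ Subgroup.centralizer (A : Set G) ∧ MulAut.conj c • P = Q := by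
  obtain ⟨h1, h2, h3⟩ := sylow_card_facts K p P
  obtain ⟨h1', -, -⟩ := sylow_card_facts K p Q
  obtain ⟨c, ⟨hcK, hcA⟩, hc⟩ := coprime_invariant_sylow_conj_aux A K hAK hcop hsolv p _ _
    ((P : Subgroup K).map K.subtype) ((Q : Subgroup K).map K.subtype) (Subgroup.map_subtype_le _)
    (Subgroup.map_subtype_le _) h1 h1' h2 h3 hP hQ
  refine ⟨⟨c, hcK⟩, hcA, ?_⟩
  apply Sylow.ext
  rw [Sylow.pointwise_smul_def]
  apply Subgroup.map_injective K.subtype_injective
  rw [map_conj_smul]
  exact hc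

end

end Cfsg.Agent.Lib.Lead
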