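import Mathlib
import Cfsg.Agent.Lib.Lead.CoprimeSylow3

set_option autoImplicit false

namespace Cfsg.Agent.Lib.Lead

open scoped Pointwise commutatorElement

universe u

section
variable {G : Type u} [Group G] [Finite G]

/-- Normalizers grow in `p`-groups (internal form). -/
theorem pgroup_normalizer_grows (p : ℕ) [Fact p.Prime] (P U : Subgroup G) (hP : IsPGroup p P)
    (hUP : U < P) : U < P ⊓ Subgroup.normalizer (U : Set G) := by
  haveI : Group.IsNilpotent P := hP.isNilpotent
  have hnc : NormalizerCondition P := normalizerCondition_of_isNilpotent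
  have hlt : U.subgroupOf P < ⊤ := by
    rw [lt_top_iff_ne_top, Ne, Subgroup.subgroupOf_eq_top]
    exact not_le_of_gt hUP
  have h1 := hnc _ hlt
  rw [← Subgroup.subgroupOf_normalizer_eq hUP.le] at h1
  have h2 := (Subgroup.map_lt_map_iff_of_injective P.subtype_injective).mpr h1
  rw [Subgroup.subgroupOf_map_subtype, Subgroup.subgroupOf_map_subtype,
    inf_eq_left.mpr hUP.le, inf_comm] at h2
  exact h2

/-- A normal `p`-subgroup lies in every Sylow `p`-subgroup. -/
theorem normal_pgroup_le_sylow (p : ℕ) [Fact p.Prime] {H : Type*} [Group H] [Finite H]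
    (N : Subgroup H) [N.Normal] (hN : IsPGroup p N) (S : Sylow p H) : N ≤ S := by
  obtain ⟨S', hS'⟩ := hN.exists_le_sylow
  obtain ⟨g, hg⟩ := MulAction.exists_smul_eq H S' S
  rw [← hg, Sylow.coe_subgroup_smul, ← conj_smul_normal g N]
  exact Subgroup.pointwise_smul_le_pointwise_smul_iff.mpr hS'

theorem coprime_invariant_pgroup_extend (A K : Subgroup G)
    (hAK : A ≤ Subgroup.normalizer (K : Set G))
    (hcop : (Nat.card A).Coprime (Nat.card K)) (hsolv : Group.IsSolvable A ∨ Group.IsSolvable K)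
    (p : ℕ) [Fact p.Prime] (U : Subgroup G) (hUK : U ≤ K) (hU : IsPGroup p U)
    (hUA : A ≤ Subgroup.normalizer (U : Set G))
    (hlt : Nat.card U < p ^ (Nat.card K).factorization p) :
    ∃ U₁ : Subgroup G, U₁ ≤ K ∧ IsPGroup p U₁ ∧ A ≤ Subgroup.normalizer (U₁ : Set G) ∧ U < U₁ := by
  set K₁ := K ⊓ Subgroup.normalizer (U : Set G) with hK₁
  have hK₁K : K₁ ≤ K := inf_le_left
  have hAK₁ : A ≤ Subgroup.normalizer (K₁ : Set G) := by
    refine le_trans ?_ Subgroup.inf_normalizer_le_normalizer_inf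
    exact le_inf hAK (hUA.trans Subgroup.le_normalizer)
  have hcop₁ : (Nat.card A).Coprime (Nat.card K₁) :=
    Nat.Coprime.coprime_dvd_right (Subgroup.card_dvd_of_le hK₁K) hcop
  have hsolv₁ : Group.IsSolvable A ∨ Group.IsSolvable K₁ := by
    rcases hsolv with h | h
    · exact Or.inl h
    · exact Or.inr (isSolvable_of_le hK₁K)
  obtain ⟨S, hS⟩ := coprime_invariant_sylow_exists A K₁ hAK₁ hcop₁ hsolv₁ p
  have hUK₁ : U ≤ K₁ := le_inf hUK Subgroup.le_normalizer
  -- U ≤ S'
  have hUS : U ≤ (S : Subgroup K₁).map K₁.subtype := by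
    haveI : (U.subgroupOf K₁).Normal := Subgroup.normal_subgroupOf_of_le_normalizer inf_le_right
    have hU' : IsPGroup p (U.subgroupOf K₁) :=
      hU.of_equiv (Subgroup.subgroupOfEquivOfLe hUK₁).symm
    have := normal_pgroup_le_sylow p (U.subgroupOf K₁) hU' S
    have h2 := Subgroup.map_mono (f := K₁.subtype) this
    rwa [map_subtype_subgroupOf_of_le hUK₁] at h2
  -- a bigger p-subgroup of K₁
  obtain ⟨P₁, hP₁⟩ := (hU.of_equiv (Subgroup.subgroupOfEquivOfLe hUK).symm :
    IsPGroup p (U.subgroupOf K)).exists_le_sylow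
  have hUP₁ : U ≤ (P₁ : Subgroup K).map K.subtype := by
    have h2 := Subgroup.map_mono (f := K.subtype) hP₁
    rwa [map_subtype_subgroupOf_of_le hUK] at h2
  have hP₁card : Nat.card ((P₁ : Subgroup K).map K.subtype) = p ^ (Nat.card K).factorization p :=
    (sylow_card_facts K p P₁).1
  have hUP₁' : U < (P₁ : Subgroup K).map K.subtype := by
    refine lt_of_le_of_ne hUP₁ ?_
    intro h
    rw [← h] at hP₁card
    omega
  have hP₁p : IsPGroup p ((P₁ : Subgroup K).map K.subtype) := P₁.isPGroup'.map _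
  have hW := pgroup_normalizer_grows p _ U hP₁p hUP₁'
  set W := (P₁ : Subgroup K).map K.subtype ⊓ Subgroup.normalizer (U : Set G) with hWdef
  have hWK₁ : W ≤ K₁ := inf_le_inf_right _ (Subgroup.map_subtype_le _)
  have hWp : IsPGroup p W := hP₁p.to_le inf_le_left
  -- |W| ≤ |S'|
  have hWS : Nat.card W ≤ Nat.card ((S : Subgroup K₁).map K₁.subtype) := by
    obtain ⟨S₂, hS₂⟩ := (hWp.of_equiv (Subgroup.subgroupOfEquivOfLe hWK₁).symm :
      IsPGroup p (W.subgroupOf K₁)).exists_le_sylow
    rw [card_map_subtype, ← card_subgroupOf_of_le hWK₁, S.card_eq_multiplicity,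
      ← S₂.card_eq_multiplicity]
    exact Subgroup.card_le_of_le hS₂
  have hUW : Nat.card U < Nat.card W := by
    have h1 := Subgroup.card_le_of_le hW.le
    rcases lt_or_eq_of_le h1 with h | h
    · exact h
    · exact absurd (Subgroup.eq_of_le_of_card_ge hW.le h.ge) hW.ne
  refine ⟨(S : Subgroup K₁).map K₁.subtype, (Subgroup.map_subtype_le _).trans hK₁K,
    S.isPGroup'.map _, hS, lt_of_le_of_ne hUS ?_⟩
  intro h
  rw [← h] at hWS
  omega

end

end Cfsg.Agent.Lib.Lead
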