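import Mathlib
import Cfsg.Agent.Lib.Lead.CoprimeSylow4

set_option autoImplicit false

namespace Cfsg.Agent.Lib.Lead

open scoped Pointwise commutatorElement

universe u

section
variable {G : Type u} [Group G] [Finite G]

theorem coprime_invariant_pgroup_le_sylow_aux (A K : Subgroup G)
    (hAK : A ≤ Subgroup.normalizer (K : Set G))
    (hcop : (Nat.card A).Coprime (Nat.card K)) (hsolv : Group.IsSolvable A ∨ Group.IsSolvable K)
    (p : ℕ) [hp : Fact p.Prime] (d : ℕ) :
    ∀ U : Subgroup G, U ≤ K → IsPGroup p U → A ≤ Subgroup.normalizer (U : Set G) →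
      Nat.card K - Nat.card U = d →
      ∃ P : Subgroup G, P ≤ K ∧ U ≤ P ∧ Nat.card P = p ^ (Nat.card K).factorization p ∧
        A ≤ Subgroup.normalizer (P : Set G) := by
  induction d using Nat.strong_induction_on with
  | _ d ih =>
  intro U hUK hU hUA hd
  by_cases hcard : Nat.card U = p ^ (Nat.card K).factorization p
  · exact ⟨U, hUK, le_rfl, hcard, hUA⟩
  · have hle : Nat.card U ≤ p ^ (Nat.card K).factorization p := by
      obtain ⟨b, hb⟩ := (IsPGroup.iff_card).mp hU
      have hdvd : p ^ b ∣ Nat.card K := by rw [← hb]; exact Subgroup.card_dvd_of_le hUK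
      rw [hb]
      exact Nat.pow_le_pow_right hp.out.pos
        ((Nat.Prime.pow_dvd_iff_le_factorization hp.out Nat.card_pos.ne').mp hdvd)
    have hlt : Nat.card U < p ^ (Nat.card K).factorization p := lt_of_le_of_ne hle hcard
    obtain ⟨U₁, hU₁K, hU₁p, hU₁A, hUU₁⟩ :=
      coprime_invariant_pgroup_extend A K hAK hcop hsolv p U hUK hU hUA hlt
    have hcardlt : Nat.card U < Nat.card U₁ := by
      have h1 := Subgroup.card_le_of_le hUU₁.le
      rcases lt_or_eq_of_le h1 with h | h
      · exact h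
      · exact absurd (Subgroup.eq_of_le_of_card_ge hUU₁.le h.ge) hUU₁.ne
    have hU₁le : Nat.card U₁ ≤ Nat.card K := Subgroup.card_le_of_le hU₁K
    obtain ⟨P, hPK, hU₁P, hPcard, hPA⟩ :=
      ih (Nat.card K - Nat.card U₁) (by omega) U₁ hU₁K hU₁p hU₁A rfl
    exact ⟨P, hPK, hUU₁.le.trans hU₁P, hPcard, hPA⟩

theorem coprime_invariant_pgroup_le_sylow (A K : Subgroup G)
    (hAK : A ≤ Subgroup.normalizer (K : Set G))
    (hcop : (Nat.card A).Coprime (Nat.card K)) (hsolv : Group.IsSolvable A ∨ Group.IsSolvable K)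
    (p : ℕ) [Fact p.Prime] (U : Subgroup G) (hUK : U ≤ K) (hU : IsPGroup p U)
    (hUA : A ≤ Subgroup.normalizer (U : Set G)) :
    ∃ P : Sylow p K, U ≤ (P : Subgroup K).map K.subtype ∧
      A ≤ Subgroup.normalizer ((P : Subgroup K).map K.subtype : Set G) := by
  obtain ⟨P, hPK, hUP, hPcard, hPA⟩ :=
    coprime_invariant_pgroup_le_sylow_aux A K hAK hcop hsolv p _ U hUK hU hUA rfl
  refine ⟨Sylow.ofCard (P.subgroupOf K) (by rw [card_subgroupOf_of_le hPK, hPcard]), ?_, ?_⟩
  · rw [Sylow.coe_ofCard, map_subtype_subgroupOf_of_le hPK]; exact hUP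
  · rw [Sylow.coe_ofCard, map_subtype_subgroupOf_of_le hPK]; exact hPA

end

end Cfsg.Agent.Lib.Lead
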