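import Mathlib
import Cfsg.Agent.Lib.Lead.CoprimeSylow5

set_option autoImplicit false

namespace Cfsg.Agent.Lib.Lead

open scoped Pointwise commutatorElement

universe u

section
variable {G : Type u} [Group G]

theorem conj_smul_commutator (g : G) (H₁ H₂ : Subgroup G) :
    MulAut.conj g • ⁅H₁, H₂⁆ = ⁅MulAut.conj g • H₁, MulAut.conj g • H₂⁆ := by
  simp only [Subgroup.pointwise_smul_def]
  exact Subgroup.map_commutator H₁ H₂ _

theorem normalizer_inf_le_normalizer_commutator (H₁ H₂ : Subgroup G) :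
    Subgroup.normalizer (H₁ : Set G) ⊓ Subgroup.normalizer (H₂ : Set G) ≤
      Subgroup.normalizer ((⁅H₁, H₂⁆ : Subgroup G) : Set G) := by
  intro g hg
  rw [mem_normalizer_iff_conj_smul, conj_smul_commutator,
    (mem_normalizer_iff_conj_smul g H₁).mp hg.1, (mem_normalizer_iff_conj_smul g H₂).mp hg.2]

/-- In a nilpotent subgroup `Γ`, a subgroup `N ≤ Γ` with `N ≤ ⁅N, Γ⁆` is trivial. -/
theorem eq_bot_of_le_commutator_nilpotent (Γ N : Subgroup G) [hn : Group.IsNilpotent Γ]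
    (hNΓ : N ≤ Γ) (h : N ≤ ⁅N, Γ⁆) : N = ⊥ := by
  obtain ⟨n, hn⟩ := (Subgroup.isNilpotent_iff_lowerCentralSeries Γ).mp hn
  have key : ∀ i, N ≤ Γ.lowerCentralSeries i := by
    intro i
    induction i with
    | zero => rw [Subgroup.lowerCentralSeries_zero]; exact hNΓ
    | succ i ih =>
      rw [Subgroup.lowerCentralSeries_succ]
      exact h.trans (Subgroup.commutator_mono ih le_rfl)
  rw [eq_bot_iff, ← hn]; exact key n

variable [Finite G]

/-- For `p`-subgroups `U ≠ ⊥` and `P` with `P` normalizing `U`, `⁅U, P⁆ ≠ U`. -/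
theorem commutator_ne_of_pgroups (p : ℕ) [Fact p.Prime] (U P : Subgroup G) (hU : IsPGroup p U)
    (hP : IsPGroup p P) (hPU : P ≤ Subgroup.normalizer (U : Set G)) (hne : U ≠ ⊥) :
    ⁅U, P⁆ ≠ U := by
  intro heq
  set Γ := U ⊔ P with hΓ
  have hΓp : IsPGroup p Γ := by
    obtain ⟨a, ha⟩ := (IsPGroup.iff_card).mp hU
    obtain ⟨b, hb⟩ := (IsPGroup.iff_card).mp hP
    have h1 := card_sup_mul_card_inf P U hPU
    rw [sup_comm, ha, hb, ← pow_add] at h1
    have h2 : Nat.card Γ ∣ p ^ (b + a) := Dvd.intro _ h1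
    obtain ⟨c, -, hc⟩ := (Nat.dvd_prime_pow (Fact.out : p.Prime)).mp h2
    exact IsPGroup.of_card hc
  have : Group.IsNilpotent Γ := hΓp.isNilpotent
  apply hne
  apply eq_bot_of_le_commutator_nilpotent Γ U le_sup_left
  calc U = ⁅U, P⁆ := heq.symm
    _ ≤ ⁅U, Γ⁆ := Subgroup.commutator_mono le_rfl le_sup_right

end

end Cfsg.Agent.Lib.Lead
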