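import Mathlib
import Cfsg.Agent.Lib.Lead.CoprimeAction3

set_option autoImplicit false

namespace Cfsg.Agent.Lib.Lead

open scoped Pointwise commutatorElement

universe u

section
variable {G : Type u} [Group G] [Finite G]

theorem isSolvable_of_isPGroup (p : ℕ) [Fact p.Prime] (U : Subgroup G) (hU : IsPGroup p U) :
    Group.IsSolvable U := by
  have : Group.IsNilpotent U := hU.isNilpotent
  infer_instance

/-- Thompson's `P × Q` lemma. -/
theorem thompson_PQ_aux (p : ℕ) [Fact p.Prime] (P Q : Subgroup G) (hP : IsPGroup p P)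
    (hQ : (Nat.card Q).Coprime p) (hPQ : P ≤ Subgroup.centralizer (Q : Set G)) (n : ℕ) :
    ∀ U : Subgroup G, Nat.card U = n → IsPGroup p U →
      P ≤ Subgroup.normalizer (U : Set G) → Q ≤ Subgroup.normalizer (U : Set G) →
      U ⊓ Subgroup.centralizer (P : Set G) ≤ Subgroup.centralizer (Q : Set G) →
      Q ≤ Subgroup.centralizer (U : Set G) := by
  induction n using Nat.strong_induction_on with
  | _ n ih =>
  intro U hn hU hPU hQU hC
  have hcop : (Nat.card Q).Coprime (Nat.card U) := by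
    obtain ⟨a, ha⟩ := (IsPGroup.iff_card).mp hU
    rw [ha]; exact Nat.Coprime.pow_right _ hQ
  have hUsolv : Group.IsSolvable U := isSolvable_of_isPGroup p U hU
  have hVU : ⁅U, Q⁆ ≤ U := commutator_le_left_of_le_normalizer U Q hQU
  have hPnQ : P ≤ Subgroup.normalizer (Q : Set G) :=
    hPQ.trans (Subgroup.centralizer_le_normalizer _)
  have hQnP : Q ≤ Subgroup.normalizer (P : Set G) := by
    have : Q ≤ Subgroup.centralizer (P : Set G) := Subgroup.le_centralizer_iff.mp hPQ
    exact this.trans (Subgroup.centralizer_le_normalizer _)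
  by_cases hV : ⁅U, Q⁆ = U
  · -- case [U, Q] = U
    by_cases hUbot : U = ⊥
    · rw [hUbot]
      intro q _
      rw [Subgroup.mem_centralizer_iff]
      intro u hu
      have : u = 1 := hu
      rw [this, one_mul, mul_one]
    · set W := ⁅U, P⁆ with hW
      have hWU : W ≤ U := commutator_le_left_of_le_normalizer U P hPU
      have hWne : W ≠ U := commutator_ne_of_pgroups p U P hU hP hPU hUbot
      have hWlt : Nat.card W < n := by
        rw [← hn]
        have h1 := Subgroup.card_le_of_le hWU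
        rcases lt_or_eq_of_le h1 with h | h
        · exact h
        · exact absurd (Subgroup.eq_of_le_of_card_ge hWU h.ge) hWne
      have hPW : P ≤ Subgroup.normalizer (W : Set G) :=
        (le_inf hPU Subgroup.le_normalizer).trans (normalizer_inf_le_normalizer_commutator U P)
      have hQW : Q ≤ Subgroup.normalizer (W : Set G) :=
        (le_inf hQU hQnP).trans (normalizer_inf_le_normalizer_commutator U P)
      have hQcW := ih _ hWlt W rfl (hU.to_le hWU) hPW hQW
        ((inf_le_inf_right _ hWU).trans hC)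
      -- three subgroups lemma
      have h1 : ⁅⁅U, P⁆, Q⁆ = ⊥ := by
        rw [Subgroup.commutator_eq_bot_iff_le_centralizer]
        exact Subgroup.le_centralizer_iff.mp hQcW
      have h2 : ⁅⁅P, Q⁆, U⁆ = ⊥ := by
        have : ⁅P, Q⁆ = ⊥ := Subgroup.commutator_eq_bot_iff_le_centralizer.mpr hPQ
        rw [this, Subgroup.commutator_bot_left]
      have h3 : ⁅⁅Q, U⁆, P⁆ = ⊥ := Subgroup.commutator_commutator_eq_bot_of_rotate h1 h2
      rw [Subgroup.commutator_comm Q U, hV, Subgroup.commutator_eq_bot_iff_le_centralizer] at h3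
      have h4 : U ≤ Subgroup.centralizer (Q : Set G) := (le_inf le_rfl h3).trans hC
      exact Subgroup.le_centralizer_iff.mp h4
  · -- case [U, Q] < U
    have hVlt : Nat.card (⁅U, Q⁆ : Subgroup G) < n := by
      rw [← hn]
      have h1 := Subgroup.card_le_of_le hVU
      rcases lt_or_eq_of_le h1 with h | h
      · exact h
      · exact absurd (Subgroup.eq_of_le_of_card_ge hVU h.ge) hV
    have hPV : P ≤ Subgroup.normalizer ((⁅U, Q⁆ : Subgroup G) : Set G) :=
      (le_inf hPU hPnQ).trans (normalizer_inf_le_normalizer_commutator U Q)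
    have hQV : Q ≤ Subgroup.normalizer ((⁅U, Q⁆ : Subgroup G) : Set G) :=
      le_normalizer_commutator_right U Q hQU
    have hQcV := ih _ hVlt ⁅U, Q⁆ rfl (hU.to_le hVU) hPV hQV ((inf_le_inf_right _ hVU).trans hC)
    have h1 : ⁅⁅U, Q⁆, Q⁆ = ⊥ := by
      rw [Subgroup.commutator_eq_bot_iff_le_centralizer]
      exact Subgroup.le_centralizer_iff.mp hQcV
    rw [coprime_commutator_stable Q U hQU hcop (Or.inr hUsolv)] at h1
    rw [Subgroup.commutator_eq_bot_iff_le_centralizer] at h1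
    exact Subgroup.le_centralizer_iff.mp h1

theorem thompson_PQ (p : ℕ) [Fact p.Prime]
    (P Q U : Subgroup G) (hP : IsPGroup p P) (hQ : (Nat.card Q).Coprime p) (hU : IsPGroup p U)
    (hPQ : P ≤ Subgroup.centralizer (Q : Set G))
    (hPU : P ≤ Subgroup.normalizer (U : Set G)) (hQU : Q ≤ Subgroup.normalizer (U : Set G))
    (hC : U ⊓ Subgroup.centralizer (P : Set G) ≤ Subgroup.centralizer (Q : Set G)) :
    Q ≤ Subgroup.centralizer (U : Set G) :=
  thompson_PQ_aux p P Q hP hQ hPQ _ U rfl hU hPU hQU hC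

/-- Fixed points of a product of two invariant subgroups, under coprime action. -/
theorem coprime_centralizer_of_product (A K : Subgroup G)
    (hAK : A ≤ Subgroup.normalizer (K : Set G))
    (hcop : (Nat.card A).Coprime (Nat.card K)) (hsolv : Group.IsSolvable A ∨ Group.IsSolvable K)
    (X Y : Subgroup G) (hX : X ≤ K) (hY : Y ≤ K) (hXA : A ≤ Subgroup.normalizer (X : Set G))
    (hYA : A ≤ Subgroup.normalizer (Y : Set G))
    (hXY : ∀ k ∈ K, ∃ x ∈ X, ∃ y ∈ Y, k = x * y) (k : G)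
    (hk : k ∈ K ⊓ Subgroup.centralizer (A : Set G)) :
    ∃ x ∈ X ⊓ Subgroup.centralizer (A : Set G), ∃ y ∈ Y ⊓ Subgroup.centralizer (A : Set G),
      k = x * y := by
  obtain ⟨x, hx, y, hy, hkxy⟩ := hXY k hk.1
  set D := X ⊓ Y with hD
  have hDK : D ≤ K := inf_le_left.trans hX
  have hAD : A ≤ Subgroup.normalizer (D : Set G) :=
    (le_inf hXA hYA).trans Subgroup.inf_normalizer_le_normalizer_inf
  have hcopD : (Nat.card A).Coprime (Nat.card D) :=
    Nat.Coprime.coprime_dvd_right (Subgroup.card_dvd_of_le hDK) hcop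
  have hsolvD : Group.IsSolvable A ∨ Group.IsSolvable D := by
    rcases hsolv with h | h
    · exact Or.inl h
    · exact Or.inr (isSolvable_of_le hDK)
  have hkc : ∀ a ∈ A, a * k * a⁻¹ = k := by
    intro a ha
    have := Subgroup.mem_centralizer_iff.mp hk.2 a ha
    rw [this, mul_inv_cancel_right]
  -- for all a ∈ A, a⁻¹ x⁻¹ a x ∈ D
  have hdiff : ∀ a ∈ A, a⁻¹ * x⁻¹ * a * x ∈ D := by
    intro a ha
    have hax : a⁻¹ * x * a⁻¹⁻¹ ∈ X := (Subgroup.mem_normalizer_iff.mp (hXA (A.inv_mem ha)) x).mp hx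
    have hay : a⁻¹ * y * a⁻¹⁻¹ ∈ Y := (Subgroup.mem_normalizer_iff.mp (hYA (A.inv_mem ha)) y).mp hy
    rw [inv_inv] at hax hay
    -- k = a⁻¹ k a = (a⁻¹ x a)(a⁻¹ y a)
    have h1 : x * y = (a⁻¹ * x * a) * (a⁻¹ * y * a) := by
      have := hkc a⁻¹ (A.inv_mem ha)
      rw [inv_inv, hkxy] at this
      rw [← this]; group
    -- x⁻¹ (a⁻¹ x a) = y (a⁻¹ y a)⁻¹
    have h2 : x⁻¹ * (a⁻¹ * x * a) = y * (a⁻¹ * y * a)⁻¹ := by
      have : x⁻¹ * (x * y) * (a⁻¹ * y * a)⁻¹ = x⁻¹ * ((a⁻¹ * x * a) * (a⁻¹ * y * a)) * (a⁻¹ * y * a)⁻¹ := by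
        rw [← h1]
      simpa [mul_assoc] using this.symm
    have h3 : x⁻¹ * (a⁻¹ * x * a) ∈ D := by
      refine ⟨X.mul_mem (X.inv_mem hx) hax, ?_⟩
      rw [h2]; exact Y.mul_mem hy (Y.inv_mem hay)
    have h4 := D.inv_mem h3
    have e : (x⁻¹ * (a⁻¹ * x * a))⁻¹ = a⁻¹ * x⁻¹ * a * x := by group
    rwa [e] at h4
  have hB : MulAut.conj x⁻¹ • A ≤ A ⊔ D := by
    intro z hz
    rw [mem_conj_smul_iff', inv_inv] at hz
    have h1 := hdiff _ hz
    have e : z = x⁻¹ * (x * z * x⁻¹) * x := by group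
    have e2 : x⁻¹ * (x * z * x⁻¹) * x = (x * z * x⁻¹) * ((x * z * x⁻¹)⁻¹ * x⁻¹ * (x * z * x⁻¹) * x) := by
      group
    rw [e, e2]
    exact Subgroup.mul_mem _ (Subgroup.mem_sup_left hz) (Subgroup.mem_sup_right h1)
  obtain ⟨d, hdD, hd⟩ := coprime_conj_complement A D hAD hcopD hsolvD _ hB (card_conj_smul _ A)
  have hdisj : A ⊓ K = ⊥ := (Subgroup.disjoint_of_coprime_natCard hcop).eq_bot
  have hxdK : x * d ∈ K := K.mul_mem (hX hx) (hDK hdD)
  have hxdA : MulAut.conj (x * d) • A = A := by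
    rw [map_mul, mul_smul, hd, ← mul_smul, ← map_mul, mul_inv_cancel, map_one, one_smul]
  have hxdC : x * d ∈ Subgroup.centralizer (A : Set G) := by
    apply mem_centralizer_of_mem_normalizer A K hAK hdisj _ hxdK
    intro a ha
    rw [← hxdA]
    exact ⟨a, ha, by simp [MulAut.smul_def, mul_assoc]⟩
  refine ⟨x * d, ⟨X.mul_mem hx hdD.1, hxdC⟩, d⁻¹ * y, ⟨Y.mul_mem (Y.inv_mem hdD.2) hy, ?_⟩, ?_⟩
  · have : d⁻¹ * y = (x * d)⁻¹ * k := by rw [hkxy]; group
    rw [this]
    exact Subgroup.mul_mem _ (Subgroup.inv_mem _ hxdC) hk.2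
  · rw [hkxy]; group

end

end Cfsg.Agent.Lib.Lead
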