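import Mathlib
import Cfsg.Agent.Lib.Lead.ThompsonPQ

set_option autoImplicit false

namespace Cfsg.Agent.Lib.Lead

open scoped Pointwise

universe u

section
variable {G : Type u} [Group G] [Finite G]

theorem index_inf_of_coprime (H K : Subgroup G) (h : H.index.Coprime K.index) :
    (H ⊓ K).index = H.index * K.index := by
  apply le_antisymm Subgroup.index_inf_le
  apply Nat.le_of_dvd (Nat.pos_of_ne_zero Subgroup.index_ne_zero_of_finite)
  exact Nat.Coprime.mul_dvd_of_dvd_of_dvd h (Subgroup.index_dvd_of_le inf_le_left)
    (Subgroup.index_dvd_of_le inf_le_right)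

/-- If `H, K ≤ D` are disjoint with `|H| |K| = |D|` then `H K = D` as sets. -/
theorem set_mul_eq_of_card (H K D : Subgroup G) (hH : H ≤ D) (hK : K ≤ D) (hd : H ⊓ K = ⊥)
    (hcard : Nat.card H * Nat.card K = Nat.card D) : (H : Set G) * (K : Set G) = (D : Set G) := by
  have hsub : (H : Set G) * (K : Set G) ⊆ (D : Set G) := by
    rintro _ ⟨a, ha, b, hb, rfl⟩
    exact D.mul_mem (hH ha) (hK hb)
  apply Set.eq_of_subset_of_ncard_le hsub _ (Set.toFinite _)
  have hinj : Function.Injective (fun g : H × K => (g.1 : G) * g.2) :=
    Subgroup.mul_injective_of_disjoint (disjoint_iff.mpr hd)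
  have himg : (H : Set G) * (K : Set G) = Set.range (fun g : H × K => (g.1 : G) * g.2) := by
    ext x
    constructor
    · rintro ⟨a, ha, b, hb, rfl⟩
      exact ⟨(⟨a, ha⟩, ⟨b, hb⟩), rfl⟩
    · rintro ⟨⟨a, b⟩, rfl⟩
      exact ⟨a, a.2, b, b.2, rfl⟩
  rw [himg, Set.ncard_range_of_injective hinj, Nat.card_prod, hcard]
  exact (Nat.card_coe_set_eq (D : Set G)).le

end

end Cfsg.Agent.Lib.Lead

namespace Cfsg.Agent.Lib.Lead

open scoped Pointwise

universe u

section
variable {G : Type u} [Group G] [Finite G]

theorem exists_hall_complement [Group.IsSolvable G] (p : ℕ) :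
    ∃ H : Subgroup G, H.index = p ^ (Nat.card G).factorization p := by
  by_cases hp : p.Prime
  · have hn : Nat.card G ≠ 0 := Nat.card_pos.ne'
    have h1 : Nat.card G = (Nat.card G / p ^ (Nat.card G).factorization p) *
        p ^ (Nat.card G).factorization p := by
      rw [mul_comm]; exact (Nat.ordProj_mul_ordCompl_eq_self _ p).symm
    have h2 : (Nat.card G / p ^ (Nat.card G).factorization p).Coprime
        (p ^ (Nat.card G).factorization p) :=
      (Nat.Coprime.pow_left _ (Nat.coprime_ordCompl hp hn)).symm
    obtain ⟨H, hH, -⟩ := (hallProp_of_solvable G _ _ h1 h2).2 ⊥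
      (by rw [Subgroup.card_bot]; exact Nat.coprime_one_left _)
    refine ⟨H, ?_⟩
    have h3 := H.card_mul_index
    rw [hH] at h3
    have hpos : 0 < Nat.card G / p ^ (Nat.card G).factorization p := by
      rw [← hH]; exact Nat.card_pos
    exact Nat.eq_of_mul_eq_mul_left hpos (h3.trans h1)
  · refine ⟨⊤, ?_⟩
    rw [Subgroup.index_top, Nat.factorization_eq_zero_of_not_prime _ hp, pow_zero]

/-- A chosen Hall `p`-complement for each `p`. -/
noncomputable def hallCompl (G : Type u) [Group G] [Finite G] [Group.IsSolvable G] (p : ℕ) :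
    Subgroup G :=
  Classical.choose (exists_hall_complement (G := G) p)

theorem hallCompl_index [Group.IsSolvable G] (p : ℕ) :
    (hallCompl G p).index = p ^ (Nat.card G).factorization p :=
  Classical.choose_spec (exists_hall_complement (G := G) p)

theorem index_finset_inf_hallCompl [Group.IsSolvable G] (T : Finset ℕ)
    (hT : ∀ q ∈ T, q.Prime) :
    (T.inf (hallCompl G)).index = ∏ q ∈ T, q ^ (Nat.card G).factorization q := by
  classical
  induction T using Finset.induction_on with
  | empty => simp
  | insert a T ha ih =>
    have hT' : ∀ q ∈ T, q.Prime := fun q hq => hT q (Finset.mem_insert_of_mem hq)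
    have hap : a.Prime := hT a (Finset.mem_insert_self a T)
    rw [Finset.inf_insert, Finset.prod_insert ha]
    rw [index_inf_of_coprime, hallCompl_index, ih hT']
    rw [hallCompl_index, ih hT']
    apply Nat.Coprime.prod_right
    intro q hq
    apply Nat.Coprime.pow
    exact (Nat.coprime_primes hap (hT' q hq)).mpr (fun h => ha (h ▸ hq))

/-- The members of the Sylow system. -/
noncomputable def sylowSys (G : Type u) [Group G] [Finite G] [Group.IsSolvable G] (p : ℕ) :
    Subgroup G :=
  ((Nat.card G).primeFactors.erase p).inf (hallCompl G)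

theorem sylowSys_card [Group.IsSolvable G] (p : ℕ) (hp : p.Prime) :
    Nat.card (sylowSys G p) = p ^ (Nat.card G).factorization p := by
  classical
  have hn : Nat.card G ≠ 0 := Nat.card_pos.ne'
  have h1 : (sylowSys G p).index = ∏ q ∈ (Nat.card G).primeFactors.erase p,
      q ^ (Nat.card G).factorization q :=
    index_finset_inf_hallCompl _ (fun q hq =>
      Nat.prime_of_mem_primeFactors (Finset.mem_of_mem_erase hq))
  have h2 : p ^ (Nat.card G).factorization p * (sylowSys G p).index = Nat.card G := by
    rw [h1]
    by_cases hpm : p ∈ (Nat.card G).primeFactors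
    · rw [Finset.mul_prod_erase _ (fun q => q ^ (Nat.card G).factorization q) hpm]
      exact (Nat.prod_primeFactors_pow_factorization hn).symm
    · rw [Finset.erase_eq_of_notMem hpm]
      have : (Nat.card G).factorization p = 0 := by
        rw [← Finsupp.notMem_support_iff, Nat.support_factorization]; exact hpm
      rw [this, pow_zero, one_mul]
      exact (Nat.prod_primeFactors_pow_factorization hn).symm
  have h3 := (sylowSys G p).card_mul_index
  have hidx : 0 < (sylowSys G p).index := Nat.pos_of_ne_zero Subgroup.index_ne_zero_of_finite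
  exact Nat.eq_of_mul_eq_mul_right hidx (h3.trans h2.symm)

theorem sylowSys_mul_comm [Group.IsSolvable G] (p q : ℕ) (hp : p.Prime) (hq : q.Prime) :
    (sylowSys G p : Set G) * (sylowSys G q : Set G) =
      (sylowSys G q : Set G) * (sylowSys G p : Set G) := by
  classical
  by_cases hpq : p = q
  · rw [hpq]
  have hn : Nat.card G ≠ 0 := Nat.card_pos.ne'
  set D := (((Nat.card G).primeFactors.erase p).erase q).inf (hallCompl G) with hD
  have hDidx : D.index = ∏ r ∈ ((Nat.card G).primeFactors.erase p).erase q,
      r ^ (Nat.card G).factorization r :=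
    index_finset_inf_hallCompl _ (fun r hr =>
      Nat.prime_of_mem_primeFactors (Finset.mem_of_mem_erase (Finset.mem_of_mem_erase hr)))
  have hpD : sylowSys G p ≤ D := Finset.inf_mono (Finset.erase_subset _ _)
  have hqD : sylowSys G q ≤ D := by
    apply Finset.inf_mono
    intro r hr
    rw [Finset.mem_erase] at hr ⊢
    exact ⟨hr.1, Finset.mem_of_mem_erase hr.2⟩
  have hcardD : Nat.card (sylowSys G p) * Nat.card (sylowSys G q) = Nat.card D := by
    rw [sylowSys_card p hp, sylowSys_card q hq]
    have h3 := D.card_mul_index
    have hidx : 0 < D.index := Nat.pos_of_ne_zero Subgroup.index_ne_zero_of_finite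
    apply Nat.eq_of_mul_eq_mul_right hidx
    rw [h3, hDidx]
    -- p^vp * q^vq * ∏_{r ≠ p, q} = n
    have e1 : ∀ (s : Finset ℕ) (x : ℕ), x ^ (Nat.card G).factorization x *
        ∏ r ∈ s.erase x, r ^ (Nat.card G).factorization r =
        if x ∈ s then ∏ r ∈ s, r ^ (Nat.card G).factorization r
        else x ^ (Nat.card G).factorization x * ∏ r ∈ s, r ^ (Nat.card G).factorization r := by
      intro s x
      split_ifs with h
      · exact Finset.mul_prod_erase s (fun r => r ^ (Nat.card G).factorization r) h
      · rw [Finset.erase_eq_of_notMem h]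
    have hzero : ∀ x, x ∉ (Nat.card G).primeFactors → x ^ (Nat.card G).factorization x = 1 := by
      intro x hx
      have : (Nat.card G).factorization x = 0 := by
        rw [← Finsupp.notMem_support_iff, Nat.support_factorization]; exact hx
      rw [this, pow_zero]
    have e2 : ∀ (x : ℕ), x ^ (Nat.card G).factorization x *
        ∏ r ∈ (Nat.card G).primeFactors.erase x, r ^ (Nat.card G).factorization r =
        Nat.card G := by
      intro x
      rw [e1]
      split_ifs with h
      · exact (Nat.prod_primeFactors_pow_factorization hn).symm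
      · rw [hzero x h, one_mul]; exact (Nat.prod_primeFactors_pow_factorization hn).symm
    have e3 : q ^ (Nat.card G).factorization q *
        ∏ r ∈ ((Nat.card G).primeFactors.erase p).erase q, r ^ (Nat.card G).factorization r =
        ∏ r ∈ (Nat.card G).primeFactors.erase p, r ^ (Nat.card G).factorization r := by
      rw [e1]
      split_ifs with h
      · rfl
      · have hq' : q ∉ (Nat.card G).primeFactors := by
          intro hq'
          exact h (Finset.mem_erase.mpr ⟨fun h' => hpq h'.symm, hq'⟩)
        rw [hzero q hq', one_mul]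
    rw [mul_assoc, e3, e2]
  have hdisj : sylowSys G p ⊓ sylowSys G q = ⊥ := by
    apply (Subgroup.disjoint_of_coprime_natCard _).eq_bot
    rw [sylowSys_card p hp, sylowSys_card q hq]
    exact Nat.Coprime.pow _ _ ((Nat.coprime_primes hp hq).mpr hpq)
  rw [set_mul_eq_of_card _ _ D hpD hqD hdisj hcardD,
    set_mul_eq_of_card _ _ D hqD hpD (by rw [inf_comm]; exact hdisj) (by rw [mul_comm]; exact hcardD)]

end

end Cfsg.Agent.Lib.Lead
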