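import Mathlib
import Cfsg.Agent.Lib.Lead.SylowSystem

set_option autoImplicit false

namespace Cfsg.Agent.Lib.Lead

open scoped Pointwise

universe u v

section
variable {G : Type u} [Group G] [Finite G]

/-- Glauberman's lemma. -/
theorem glauberman_lemma {X : Type v} [Nonempty X] [MulAction G X]
    (K H : Subgroup G) [K.Normal] (hc : Subgroup.IsComplement' K H)
    (hcop : (Nat.card K).Coprime K.index)
    (hsolv : Group.IsSolvable K ∨ Group.IsSolvable (G ⧸ K))
    (htrans : MulAction.IsPretransitive K X) :
    (∃ x : X, ∀ h ∈ H, h • x = x) ∧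
    ∀ x y : X, (∀ h ∈ H, h • x = x) → (∀ h ∈ H, h • y = y) →
      ∃ k ∈ K ⊓ Subgroup.centralizer (H : Set G), k • x = y := by
  have hKpos : 0 < Nat.card K := Nat.card_pos
  have hHcard : Nat.card H = K.index := by
    have h1 := hc.card_mul_card
    rw [← K.card_mul_index] at h1
    exact Nat.eq_of_mul_eq_mul_left hKpos h1
  have hHK : H ⊓ K = ⊥ := by rw [inf_comm]; exact hc.disjoint.eq_bot
  have hcopHK : (Nat.card H).Coprime (Nat.card K) := by rw [hHcard]; exact hcop.symm
  -- facts about a stabilizer
  have key : ∀ x : X, Nat.card H * Nat.card (K ⊓ MulAction.stabilizer G x : Subgroup G) =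
      Nat.card (MulAction.stabilizer G x) := by
    intro x
    set L := MulAction.stabilizer G x with hL
    have hsup : L ⊔ K = ⊤ := by
      rw [eq_top_iff]
      intro g _
      obtain ⟨k, hk⟩ := htrans.exists_smul_eq x (g • x)
      have h1 : (k : G)⁻¹ * g ∈ L := by
        rw [hL, MulAction.mem_stabilizer_iff, mul_smul, inv_smul_eq_iff]
        exact hk.symm
      have : g = ((k : G)⁻¹ * g) * (((k : G)⁻¹ * g)⁻¹ * k * ((k : G)⁻¹ * g)) := by group
      rw [this]
      refine Subgroup.mul_mem _ (Subgroup.mem_sup_left h1) (Subgroup.mem_sup_right ?_)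
      have := (inferInstance : K.Normal).conj_mem k k.2 ((k : G)⁻¹ * g)⁻¹
      simpa using this
    have h2 := card_sup_mul_card_inf L K Subgroup.le_normalizer_of_normal
    rw [hsup, Subgroup.card_top, ← hc.card_mul_card, inf_comm] at h2
    have : Nat.card K * (Nat.card H * Nat.card (K ⊓ L : Subgroup G)) = Nat.card K * Nat.card L := by
      rw [mul_comm (Nat.card K) (Nat.card L), ← h2]; ring
    exact Nat.eq_of_mul_eq_mul_left hKpos this
  have hML : ∀ x : X, K ⊓ MulAction.stabilizer G x ≤ MulAction.stabilizer G x := fun x => inf_le_right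
  have hLM : ∀ x : X, MulAction.stabilizer G x ≤
      Subgroup.normalizer ((K ⊓ MulAction.stabilizer G x : Subgroup G) : Set G) := by
    intro x
    refine le_trans ?_ Subgroup.inf_normalizer_le_normalizer_inf
    exact le_inf Subgroup.le_normalizer_of_normal Subgroup.le_normalizer
  have hcopM : ∀ x : X, (Nat.card H).Coprime (Nat.card (K ⊓ MulAction.stabilizer G x : Subgroup G)) :=
    fun x => Nat.Coprime.coprime_dvd_right (Subgroup.card_dvd_of_le inf_le_left) hcopHK
  constructor
  · obtain ⟨x⟩ : Nonempty X := inferInstance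
    obtain ⟨B, hBL, hBcard⟩ := sz_exists_internal _ _ (hML x) (hLM x) (Nat.card H) (key x) (hcopM x)
    obtain ⟨g, hg⟩ := schur_zassenhaus_conj K hcop hsolv B H (hBcard.trans hHcard) hHcard
    refine ⟨g • x, ?_⟩
    intro h hh
    rw [← hg, mem_conj_smul_iff'] at hh
    have hbx : (g⁻¹ * h * g) • x = x := MulAction.mem_stabilizer_iff.mp (hBL hh)
    rw [mul_smul, mul_smul, inv_smul_eq_iff] at hbx
    exact hbx
  · intro x y hx hy
    obtain ⟨k, hk⟩ := htrans.exists_smul_eq x y
    have hkxy : (k : G) • x = y := hk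
    have hH1 : MulAut.conj (k : G)⁻¹ • H ≤ MulAction.stabilizer G x := by
      intro z hz
      rw [mem_conj_smul_iff', inv_inv] at hz
      have := hy _ hz
      rw [MulAction.mem_stabilizer_iff]
      rw [mul_smul, mul_smul, ← hkxy, inv_smul_smul] at this
      exact smul_left_cancel _ this
    have hHL : H ≤ MulAction.stabilizer G x := fun h hh => MulAction.mem_stabilizer_iff.mpr (hx h hh)
    have hsolvM : Group.IsSolvable (K ⊓ MulAction.stabilizer G x : Subgroup G) ∨ Group.IsSolvable H := by
      rcases hsolv with h | h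
      · exact Or.inl (isSolvable_of_le (inf_le_left : K ⊓ MulAction.stabilizer G x ≤ K))
      · right
        have hinj : Function.Injective ((QuotientGroup.mk' K).comp H.subtype) := by
          rw [← MonoidHom.ker_eq_bot_iff, eq_bot_iff]
          intro z hz
          rw [MonoidHom.mem_ker, MonoidHom.comp_apply, QuotientGroup.mk'_apply,
            QuotientGroup.eq_one_iff] at hz
          have : (z : G) ∈ H ⊓ K := ⟨z.2, hz⟩
          rw [hHK, Subgroup.mem_bot] at this
          rw [Subgroup.mem_bot]
          exact Subtype.ext this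
        exact Group.isSolvable_of_isSolvable_injective hinj
    obtain ⟨m, hmM, hm⟩ := sz_conj_internal _ _ H (MulAut.conj (k : G)⁻¹ • H) (hML x) (hLM x)
      hHL hH1 (key x) (card_conj_smul _ _) (hcopM x) hsolvM
    have hcK : (k : G) * m ∈ K := K.mul_mem k.2 hmM.1
    have hcH : MulAut.conj ((k : G) * m) • H = H := by
      rw [map_mul, mul_smul, hm, ← mul_smul, ← map_mul, mul_inv_cancel, map_one, one_smul]
    refine ⟨(k : G) * m, ⟨hcK, ?_⟩, ?_⟩
    · apply mem_centralizer_of_mem_normalizer H K Subgroup.le_normalizer_of_normal hHK _ hcK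
      intro a ha
      rw [← hcH]
      exact ⟨a, ha, by simp [MulAut.smul_def, mul_assoc]⟩
    · rw [mul_smul, MulAction.mem_stabilizer_iff.mp hmM.2, hkxy]

end

end Cfsg.Agent.Lib.Lead
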