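import Mathlib
import Cfsg.Agent.Lib.Lead.Glauberman

set_option autoImplicit false

namespace Cfsg.Agent.Lib.Lead

open scoped Pointwise commutatorElement

universe u

section
variable {G : Type u} [Group G]

/-- If `|H : H ∩ K| = |N : N ∩ K|` with `H ≤ N` then `N ⊆ H K`. -/
theorem exists_mul_of_relIndex_eq [Finite G] (H K N : Subgroup G) (hHN : H ≤ N)
    (h : K.relIndex H = K.relIndex N) : ∀ n ∈ N, ∃ x ∈ H, x⁻¹ * n ∈ K := by
  let f : H ⧸ K.subgroupOf H → N ⧸ K.subgroupOf N :=
    Quotient.map' (Subgroup.inclusion hHN) (fun a b hab => by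
      rw [QuotientGroup.leftRel_apply] at hab ⊢
      exact hab)
  have hinj : Function.Injective f := by
    intro q₁ q₂
    refine Quotient.inductionOn₂' q₁ q₂ ?_
    intro a b hab
    have h1 : (Quotient.mk'' (Subgroup.inclusion hHN a) : N ⧸ K.subgroupOf N) =
        Quotient.mk'' (Subgroup.inclusion hHN b) := hab
    rw [Quotient.eq'', QuotientGroup.leftRel_apply] at h1
    apply Quotient.sound'
    rw [QuotientGroup.leftRel_apply]
    exact h1
  have hbij : Function.Bijective f := by
    apply Function.Injective.bijective_of_nat_card_le hinj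
    have e1 : Nat.card (N ⧸ K.subgroupOf N) = K.relIndex N := (Subgroup.index_eq_card _).symm
    have e2 : Nat.card (H ⧸ K.subgroupOf H) = K.relIndex H := (Subgroup.index_eq_card _).symm
    rw [e1, e2, h]
  intro n hn
  obtain ⟨q, hq⟩ := hbij.2 (Quotient.mk'' (⟨n, hn⟩ : N))
  revert hq
  refine Quotient.inductionOn' q ?_
  intro a ha
  have h1 : (Quotient.mk'' (Subgroup.inclusion hHN a) : N ⧸ K.subgroupOf N) =
      Quotient.mk'' (⟨n, hn⟩ : N) := ha
  rw [Quotient.eq'', QuotientGroup.leftRel_apply] at h1
  exact ⟨a, a.2, h1⟩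

/-- The supplement trick: an `A`-invariant supplement `X` to `C_N(A)` in `N` contains `[N, A]`. -/
theorem commutator_le_of_supplement (A N X : Subgroup G)
    (hAX : A ≤ Subgroup.normalizer (X : Set G))
    (h : ∀ n ∈ N, ∃ x ∈ X, x⁻¹ * n ∈ Subgroup.centralizer (A : Set G)) : ⁅N, A⁆ ≤ X := by
  rw [Subgroup.commutator_le]
  intro n hn a ha
  obtain ⟨x, hx, hxn⟩ := h n hn
  set d := x⁻¹ * n with hd
  have hda : d * a = a * d := (Subgroup.mem_centralizer_iff.mp hxn a ha).symm
  have hn' : n = x * d := by rw [hd]; group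
  have : ⁅n, a⁆ = x * (a * x⁻¹ * a⁻¹) := by
    rw [hn', commutatorElement_def]
    have : x * d * a * (x * d)⁻¹ * a⁻¹ = x * (d * a) * d⁻¹ * x⁻¹ * a⁻¹ := by group
    rw [this, hda]; group
  rw [this]
  exact X.mul_mem hx ((Subgroup.mem_normalizer_iff.mp (hAX ha) x⁻¹).mp (X.inv_mem hx))

end

end Cfsg.Agent.Lib.Lead

namespace Cfsg.Agent.Lib.Lead

open scoped Pointwise commutatorElement

universe u

section
variable {G : Type u} [Group G] [Finite G]

/-- Coprime action with `|K : C_K(A)| = p` prime: then `|[K, A]| = p`. -/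
theorem coprime_index_p (A K : Subgroup G) (hAK : A ≤ Subgroup.normalizer (K : Set G))
    (hcop : (Nat.card A).Coprime (Nat.card K)) (hsolv : Group.IsSolvable A ∨ Group.IsSolvable K)
    (p : ℕ) (hp : p.Prime) (hidx : (K ⊓ Subgroup.centralizer (A : Set G)).relIndex K = p) :
    Nat.card (⁅K, A⁆ : Subgroup G) = p := by
  have : Fact p.Prime := ⟨hp⟩
  set C := K ⊓ Subgroup.centralizer (A : Set G) with hC
  set N := ⁅K, A⁆ with hN
  set D := N ⊓ Subgroup.centralizer (A : Set G) with hD
  have hNK : N ≤ K := commutator_le_left_of_le_normalizer K A hAK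
  have hAN : A ≤ Subgroup.normalizer (N : Set G) := le_normalizer_commutator_right K A hAK
  have hcopN : (Nat.card A).Coprime (Nat.card N) :=
    Nat.Coprime.coprime_dvd_right (Subgroup.card_dvd_of_le hNK) hcop
  have hsolvN : Group.IsSolvable A ∨ Group.IsSolvable N := by
    rcases hsolv with h | h
    · exact Or.inl h
    · exact Or.inr (isSolvable_of_le hNK)
  have hNN : ⁅N, A⁆ = N := coprime_commutator_stable A K hAK hcop hsolv
  have hKNC : N ⊔ C = K := coprime_commutator_sup_centralizer A K hAK hcop hsolv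
  have hCN : C ≤ Subgroup.normalizer (N : Set G) :=
    inf_le_left.trans (le_normalizer_commutator_left K A)
  have hCD : C ⊓ N = D := by
    rw [hC, hD, inf_comm, ← inf_assoc, inf_eq_left.mpr hNK]
  have hcard1 := card_sup_mul_card_inf C N hCN
  rw [sup_comm, hKNC, hCD] at hcard1
  have hKC : Nat.card C * p = Nat.card K := by
    have := (C.subgroupOf K).card_mul_index
    rw [card_subgroupOf_of_le inf_le_left] at this
    rw [← hidx]; exact this
  have hCpos : 0 < Nat.card C := Nat.card_pos
  have hDpos : 0 < Nat.card D := Nat.card_pos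
  have hND : Nat.card N = p * Nat.card D := by
    have : Nat.card C * Nat.card N = Nat.card C * (p * Nat.card D) := by
      rw [← hcard1, ← hKC]; ring
    exact Nat.eq_of_mul_eq_mul_left hCpos this
  have hDN : D ≤ N := inf_le_left
  have hDrel : D.relIndex N = p := by
    have := (D.subgroupOf N).card_mul_index
    rw [card_subgroupOf_of_le hDN, hND, mul_comm p] at this
    exact Nat.eq_of_mul_eq_mul_left hDpos this
  -- invariant Sylow p-subgroup
  obtain ⟨P, hP⟩ := coprime_invariant_sylow_exists A N hAN hcopN hsolvN p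
  set P' := (P : Subgroup N).map N.subtype with hP'
  have hP'N : P' ≤ N := Subgroup.map_subtype_le _
  set v := (Nat.card N).factorization p with hv
  have hP'card : Nat.card P' = p ^ v := (sylow_card_facts N p P).1
  have hnotdvd : ¬ p ^ (v + 1) ∣ Nat.card N :=
    Nat.pow_succ_factorization_not_dvd Nat.card_pos.ne' hp
  have hDP' : D.relIndex P' = p := by
    have h1 : D.relIndex P' ≤ p := by
      rw [← hDrel]
      exact Subgroup.relIndex_le_of_le_right hP'N (by rw [hDrel]; exact hp.ne_zero)
    have h2 : D.relIndex P' ∣ p ^ v := by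
      rw [← hP'card]; exact Subgroup.relIndex_dvd_card D P'
    obtain ⟨j, -, hj⟩ := (Nat.dvd_prime_pow hp).mp h2
    rcases Nat.lt_or_ge j 1 with hj0 | hj1
    · exfalso
      have hj0' : j = 0 := by omega
      rw [hj0', pow_zero, Subgroup.relIndex_eq_one] at hj
      have h3 := Subgroup.card_dvd_of_le hj
      rw [hP'card] at h3
      apply hnotdvd
      rw [hND, pow_succ, mul_comm]
      exact Nat.mul_dvd_mul_left p h3
    · rcases Nat.lt_or_ge 1 j with hj2 | hj2
      · exfalso
        have : p ^ 2 ≤ p ^ j := Nat.pow_le_pow_right hp.pos hj2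
        have h4 : p * p ≤ p := by
          calc p * p = p ^ 2 := (sq p).symm
            _ ≤ p ^ j := this
            _ = D.relIndex P' := hj.symm
            _ ≤ p := h1
        have := hp.two_le
        nlinarith
      · have : j = 1 := le_antisymm hj2 hj1
        rw [hj, this, pow_one]
  have hsupp := exists_mul_of_relIndex_eq P' D N hP'N (hDP'.trans hDrel.symm)
  have hNP' : N ≤ P' := by
    have := commutator_le_of_supplement A N P' hP (fun n hn => by
      obtain ⟨x, hx, hxn⟩ := hsupp n hn
      exact ⟨x, hx, hxn.2⟩)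
    rwa [hNN] at this
  have hNcard : Nat.card N = p ^ v := by
    rw [← hP'card]
    exact le_antisymm (Subgroup.card_le_of_le hNP') (Subgroup.card_le_of_le hP'N)
  have hv0 : v ≠ 0 := by
    intro h0
    rw [h0, pow_zero] at hNcard
    rw [hNcard] at hND
    have := hp.two_le
    nlinarith
  -- D is normal in N
  have hDnormal : (D.subgroupOf N).Normal := by
    apply Subgroup.normal_of_index_eq_minFac_card
    rw [hNcard, Nat.Prime.pow_minFac hp hv0]
    exact hDrel
  have hNnD : N ≤ Subgroup.normalizer (D : Set G) :=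
    (Subgroup.normal_subgroupOf_iff_le_normalizer hDN).mp hDnormal
  -- three subgroups lemma
  have h1 : ⁅⁅A, D⁆, N⁆ = ⊥ := by
    have : ⁅A, D⁆ = ⊥ := by
      rw [Subgroup.commutator_comm, Subgroup.commutator_eq_bot_iff_le_centralizer]
      exact inf_le_right
    rw [this, Subgroup.commutator_bot_left]
  have h2 : ⁅⁅D, N⁆, A⁆ = ⊥ := by
    have h3 : ⁅D, N⁆ ≤ D := commutator_le_left_of_le_normalizer D N hNnD
    have h4 : ⁅D, A⁆ = ⊥ := by
      rw [Subgroup.commutator_eq_bot_iff_le_centralizer]
      exact inf_le_right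
    rw [eq_bot_iff, ← h4]
    exact Subgroup.commutator_mono h3 le_rfl
  have h3 : ⁅⁅N, A⁆, D⁆ = ⊥ := Subgroup.commutator_commutator_eq_bot_of_rotate h1 h2
  rw [hNN, Subgroup.commutator_eq_bot_iff_le_centralizer] at h3
  -- N is abelian
  have hcenter : D.subgroupOf N ≤ Subgroup.center N := by
    intro d hd
    rw [Subgroup.mem_center_iff]
    intro n
    apply Subtype.ext
    have := Subgroup.mem_centralizer_iff.mp (h3 n.2) d hd
    simpa using this.symm
  have hNcomm : IsMulCommutative N := by
    have h4 : (Subgroup.center N).index ∣ p := by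
      have := Subgroup.index_dvd_of_le hcenter
      rwa [show (D.subgroupOf N).index = p from hDrel] at this
    have : IsCyclic (N ⧸ Subgroup.center N) := by
      apply isCyclic_of_card_dvd_prime (p := p)
      rw [← Subgroup.index_eq_card]; exact h4
    exact isMulCommutative_of_isCyclic_quotient_center_self N
  obtain ⟨h5, -⟩ := coprime_abelian_decomp A N hAN hcopN
  rw [hNN] at h5
  have hDbot : D = ⊥ := by
    rw [← h5]
    exact (inf_eq_left.mpr hDN).symm
  rw [hND, hDbot, Subgroup.card_bot, mul_one]

end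

end Cfsg.Agent.Lib.Lead
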