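import Mathlib
import Cfsg.Prelude.Def_Transfer
import Cfsg.Agent.Lib.Lead.CoprimeIndexP

set_option autoImplicit false

namespace Cfsg.Agent.Lib.Lead

open scoped commutatorElement

universe u

section
variable {P : Type u} [Group P]

/-- If `⁅x, y⁆` commutes with `x` then `⁅x ^ n, y⁆ = ⁅x, y⁆ ^ n`. -/
theorem commutatorElement_pow_left (x y : P) (h : Commute ⁅x, y⁆ x) (n : ℕ) :
    ⁅x ^ n, y⁆ = ⁅x, y⁆ ^ n := by
  induction n with
  | zero => simp [commutatorElement_def]
  | succ n ih =>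
    have h1 : ⁅x ^ (n + 1), y⁆ = x * ⁅x ^ n, y⁆ * x⁻¹ * ⁅x, y⁆ := by
      simp only [commutatorElement_def, pow_succ']; group
    rw [h1, ih]
    have h2 : Commute (⁅x, y⁆ ^ n) x := h.pow_left n
    have h3 : x * ⁅x, y⁆ ^ n * x⁻¹ = ⁅x, y⁆ ^ n := by
      rw [← h2.eq, mul_assoc, mul_inv_cancel, mul_one]
    rw [h3, pow_succ]

/-- The elements of the centre of order dividing `p`, as a subgroup. -/
def centerTorsion (P : Type u) [Group P] (p : ℕ) : Subgroup P where
  carrier := {z | z ∈ Subgroup.center P ∧ z ^ p = 1}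
  one_mem' := ⟨Subgroup.one_mem _, one_pow _⟩
  mul_mem' := by
    rintro a b ⟨ha, ha1⟩ ⟨hb, hb1⟩
    refine ⟨Subgroup.mul_mem _ ha hb, ?_⟩
    have hc : Commute a b := (Subgroup.mem_center_iff.mp ha b).symm
    rw [hc.mul_pow, ha1, hb1, one_mul]
  inv_mem' := by
    rintro a ⟨ha, ha1⟩
    exact ⟨Subgroup.inv_mem _ ha, by rw [inv_pow, ha1, inv_one]⟩

theorem special_center_exponent [Finite P] {p : ℕ} [Fact p.Prime] (h : Cfsg.IsSpecial p P)
    (z : P) (hz : z ∈ Subgroup.center P) : z ^ p = 1 := by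
  obtain ⟨hP, hfr, hcomm⟩ := h
  have hle : commutator P ≤ centerTorsion P p := by
    rw [commutator_def, Subgroup.commutator_le]
    intro x _ y _
    have hc : ⁅x, y⁆ ∈ Subgroup.center P := by
      rw [← hcomm, commutator_def]
      exact Subgroup.commutator_mem_commutator (Subgroup.mem_top x) (Subgroup.mem_top y)
    refine ⟨hc, ?_⟩
    have h1 : Commute ⁅x, y⁆ x := (Subgroup.mem_center_iff.mp hc x).symm
    rw [← commutatorElement_pow_left x y h1 p]
    have h2 : x ^ p ∈ Subgroup.center P := by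
      rw [← hfr]; exact pow_mem_frattini_of_isPGroup hP x
    rw [commutatorElement_eq_one_iff_mul_comm]
    exact (Subgroup.mem_center_iff.mp h2 y).symm
  rw [← hcomm] at hz
  exact (hle hz).2

end

end Cfsg.Agent.Lib.Lead
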