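import Mathlib
import Cfsg.Agent.Lib.Lead.Special

set_option autoImplicit false

namespace Cfsg.Agent.Lib.Lead

open scoped commutatorElement

universe u

section
variable {P : Type u} [Group P]

/-- Class at most two: all commutators are central. -/
theorem commutatorElement_mem_center_of_class_two
    (h2 : ⁅commutator P, (⊤ : Subgroup P)⁆ = ⊥) (a b : P) : ⁅a, b⁆ ∈ Subgroup.center P := by
  rw [Subgroup.commutator_eq_bot_iff_le_centralizer] at h2
  have h1 : ⁅a, b⁆ ∈ commutator P := by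
    rw [commutator_def]
    exact Subgroup.commutator_mem_commutator (Subgroup.mem_top a) (Subgroup.mem_top b)
  have h3 := h2 h1
  rw [Subgroup.coe_top, Subgroup.centralizer_univ] at h3
  exact h3

/-- The power formula in class two groups. -/
theorem mul_pow_of_class_two (hc : ∀ a b : P, ⁅a, b⁆ ∈ Subgroup.center P) (x y : P) (n : ℕ) :
    (x * y) ^ n = x ^ n * y ^ n * ⁅y, x⁆ ^ (n.choose 2) := by
  induction n with
  | zero => simp
  | succ n ih =>
    have hcen : ∀ g : P, g * ⁅y, x⁆ = ⁅y, x⁆ * g := fun g => (Subgroup.mem_center_iff.mp (hc y x) g)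
    have hcenpow : ∀ (k : ℕ) (g : P), g * ⁅y, x⁆ ^ k = ⁅y, x⁆ ^ k * g := by
      intro k g
      exact ((Commute.pow_right (hcen g) k : Commute g (⁅y, x⁆ ^ k))).eq
    have h1 : y ^ n * x = ⁅y, x⁆ ^ n * x * y ^ n := by
      have h2 : ⁅y ^ n, x⁆ = ⁅y, x⁆ ^ n :=
        commutatorElement_pow_left y x (hcen y).symm n
      rw [← h2, commutatorElement_def]; group
    have hch : (n + 1).choose 2 = n.choose 2 + n := by
      rw [Nat.choose_succ_succ' n 1, Nat.choose_one_right, add_comm]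
    have h1' : y ^ n * x = x * y ^ n * ⁅y, x⁆ ^ n := by
      rw [h1, mul_assoc, ← hcenpow n (x * y ^ n)]
    calc (x * y) ^ (n + 1) = (x * y) ^ n * (x * y) := pow_succ _ _
      _ = x ^ n * y ^ n * ⁅y, x⁆ ^ (n.choose 2) * (x * y) := by rw [ih]
      _ = x ^ n * y ^ n * (x * y) * ⁅y, x⁆ ^ (n.choose 2) := by
        rw [mul_assoc (x ^ n * y ^ n), ← hcenpow (n.choose 2) (x * y), ← mul_assoc]
      _ = x ^ n * (y ^ n * x) * y * ⁅y, x⁆ ^ (n.choose 2) := by group
      _ = x ^ n * (x * y ^ n * ⁅y, x⁆ ^ n) * y * ⁅y, x⁆ ^ (n.choose 2) := by rw [h1']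
      _ = x ^ n * x * y ^ n * (⁅y, x⁆ ^ n * y) * ⁅y, x⁆ ^ (n.choose 2) := by group
      _ = x ^ n * x * y ^ n * (y * ⁅y, x⁆ ^ n) * ⁅y, x⁆ ^ (n.choose 2) := by rw [hcenpow n y]
      _ = (x ^ n * x) * (y ^ n * y) * (⁅y, x⁆ ^ n * ⁅y, x⁆ ^ (n.choose 2)) := by
        simp only [mul_assoc]
      _ = x ^ (n + 1) * y ^ (n + 1) * ⁅y, x⁆ ^ ((n + 1).choose 2) := by
        rw [← pow_succ, ← pow_succ, ← pow_add, hch, add_comm (n.choose 2) n]

/-- For odd `p`, in a group of class at most two the elements of order dividing `p` form a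
subgroup. -/
theorem mul_pow_eq_one_of_class_two {p : ℕ} [hp : Fact p.Prime] (hp2 : p ≠ 2)
    (hc : ∀ a b : P, ⁅a, b⁆ ∈ Subgroup.center P) (x y : P) (hx : x ^ p = 1) (hy : y ^ p = 1) :
    (x * y) ^ p = 1 := by
  rw [mul_pow_of_class_two hc x y p, hx, hy, one_mul, one_mul]
  have h3 : 2 < p := lt_of_le_of_ne hp.out.two_le (Ne.symm hp2)
  obtain ⟨k, hk⟩ := Nat.Prime.dvd_choose_self hp.out (by norm_num : (2 : ℕ) ≠ 0) h3
  have h1 : ⁅y, x⁆ ^ p = 1 := by
    rw [← commutatorElement_pow_left y x (Subgroup.mem_center_iff.mp (hc y x) y).symm, hy]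
    simp [commutatorElement_def]
  rw [hk, pow_mul, h1, one_pow]

theorem omega_exponent_of_class_two [Finite P] {p : ℕ} [Fact p.Prime] (hp : p ≠ 2)
    (h2 : ⁅commutator P, (⊤ : Subgroup P)⁆ = ⊥) (g : P)
    (hg : g ∈ Subgroup.closure {x : P | x ^ p = 1}) : g ^ p = 1 := by
  have hc := commutatorElement_mem_center_of_class_two h2
  let Ω : Subgroup P :=
    { carrier := {x | x ^ p = 1}
      one_mem' := one_pow _
      mul_mem' := fun {a b} ha hb => mul_pow_eq_one_of_class_two hp hc a b ha hb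
      inv_mem' := fun {a} ha => by
        show a⁻¹ ^ p = 1
        rw [inv_pow, show a ^ p = 1 from ha, inv_one] }
  have hle : Subgroup.closure {x : P | x ^ p = 1} ≤ Ω := (Subgroup.closure_le Ω).mpr (fun x hx => hx)
  exact hle hg

end

end Cfsg.Agent.Lib.Lead
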