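import Mathlib
import Cfsg.Agent.Lib.Lead.ClassTwo

set_option autoImplicit false

namespace Cfsg.Agent.Lib.Lead

open scoped commutatorElement

universe u

section
variable {E : Type u} [Group E]

theorem special_class_two {p : ℕ} (h : Cfsg.IsSpecial p E) :
    ⁅commutator E, (⊤ : Subgroup E)⁆ = ⊥ := by
  rw [Subgroup.commutator_eq_bot_iff_le_centralizer, Subgroup.coe_top, Subgroup.centralizer_univ,
    h.2.2]

theorem extraspecial_omega_one [Finite E] {p : ℕ} [hpf : Fact p.Prime] (hp : p ≠ 2)
    (h : Cfsg.IsExtraspecial p E) :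
    (Subgroup.closure {x : E | x ^ p = 1}).index ≤ p ∧
      ∀ g ∈ Subgroup.closure {x : E | x ^ p = 1}, g ^ p = 1 := by
  obtain ⟨hs, hcard⟩ := h
  have h2 := special_class_two hs
  have hc := commutatorElement_mem_center_of_class_two h2
  refine ⟨?_, fun g hg => omega_exponent_of_class_two hp h2 g hg⟩
  have hcenpow : ∀ z ∈ Subgroup.center E, z ^ p = 1 := by
    intro z hz
    have := pow_card_eq_one' (G := Subgroup.center E) (x := ⟨z, hz⟩)
    rw [hcard] at this
    exact congrArg Subtype.val this
  have h3 : 2 < p := lt_of_le_of_ne hpf.out.two_le (Ne.symm hp)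
  obtain ⟨k, hk⟩ := Nat.Prime.dvd_choose_self hpf.out (by norm_num : (2 : ℕ) ≠ 0) h3
  let φ : E →* E :=
    { toFun := fun x => x ^ p
      map_one' := one_pow _
      map_mul' := fun x y => by
        show (x * y) ^ p = x ^ p * y ^ p
        rw [mul_pow_of_class_two hc x y p, hk, pow_mul, hcenpow _ (hc y x), one_pow, mul_one] }
  have hrange : φ.range ≤ Subgroup.center E := by
    rintro _ ⟨x, rfl⟩
    show x ^ p ∈ Subgroup.center E
    rw [← hs.2.1]
    exact pow_mem_frattini_of_isPGroup hs.1 x
  have hker : φ.ker ≤ Subgroup.closure {x : E | x ^ p = 1} := by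
    intro x hx
    exact Subgroup.subset_closure (show x ^ p = 1 from hx)
  calc (Subgroup.closure {x : E | x ^ p = 1}).index ≤ φ.ker.index :=
        Nat.le_of_dvd (Nat.pos_of_ne_zero Subgroup.index_ne_zero_of_finite)
          (Subgroup.index_dvd_of_le hker)
    _ = Nat.card φ.range := Subgroup.index_ker φ
    _ ≤ Nat.card (Subgroup.center E) := Subgroup.card_le_of_le hrange
    _ = p := hcard

end

end Cfsg.Agent.Lib.Lead
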