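import Mathlib
import Cfsg.Agent.Lib.Lead.Extraspecial

set_option autoImplicit false

namespace Cfsg.Agent.Lib.Lead

universe u

section
variable {G : Type u} [Group G] [Finite G]

/-- Adjoining one element to a normal subgroup containing the Frattini subgroup multiplies the
order by at most `p`. -/
theorem card_zpowers_sup_le {p : ℕ} [Fact p.Prime] (hG : IsPGroup p G) (H : Subgroup G)
    (hH : frattini G ≤ H) (t : G) :
    Nat.card (Subgroup.zpowers t ⊔ H : Subgroup G) ≤ p * Nat.card H := by
  have hHn : H.Normal := normal_of_commutator_le ((commutator_le_frattini_of_isPGroup hG).trans hH)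
  have h1 := card_map_mk_of_le H (Subgroup.zpowers t ⊔ H) le_sup_right
  have h2 : (Subgroup.zpowers t ⊔ H).map (QuotientGroup.mk' H) =
      Subgroup.zpowers ((QuotientGroup.mk' H) t) := by
    rw [map_mk_sup_self, MonoidHom.map_zpowers]
  rw [h2] at h1
  have h3 : Nat.card (Subgroup.zpowers ((QuotientGroup.mk' H) t)) ≤ p := by
    rw [Nat.card_zpowers]
    apply orderOf_le_of_pow_eq_one (Fact.out : p.Prime).pos
    rw [← map_pow, QuotientGroup.mk'_apply, QuotientGroup.eq_one_iff]
    exact hH (pow_mem_frattini_of_isPGroup hG t)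
  rw [← h1]
  exact Nat.mul_le_mul_right _ h3

/-- In a `p`-group a strict inclusion of subgroups multiplies the order by at least `p`. -/
theorem card_mul_le_of_lt {p : ℕ} [hp : Fact p.Prime] (hG : IsPGroup p G) {H X : Subgroup G}
    (h : H < X) : p * Nat.card H ≤ Nat.card X := by
  obtain ⟨a, ha⟩ := (IsPGroup.iff_card).mp (hG.to_subgroup H)
  obtain ⟨b, hb⟩ := (IsPGroup.iff_card).mp (hG.to_subgroup X)
  have hlt : Nat.card H < Nat.card X := by
    have h1 := Subgroup.card_le_of_le h.le
    rcases lt_or_eq_of_le h1 with h2 | h2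
    · exact h2
    · exact absurd (Subgroup.eq_of_le_of_card_ge h.le h2.ge) h.ne
  rw [ha, hb] at hlt ⊢
  have hab : a < b := (Nat.pow_lt_pow_iff_right hp.out.one_lt).mp hlt
  calc p * p ^ a = p ^ (a + 1) := by rw [pow_succ, mul_comm]
    _ ≤ p ^ b := Nat.pow_le_pow_right hp.out.pos hab

theorem closure_insert_sup (t : G) (T : Set G) (Φ : Subgroup G) :
    Subgroup.closure (insert t T) ⊔ Φ = Subgroup.zpowers t ⊔ (Subgroup.closure T ⊔ Φ) := by
  rw [Set.insert_eq, Subgroup.closure_union, ← Subgroup.zpowers_eq_closure, sup_assoc]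

/-- Upper bound: `|⟨T⟩ Φ| ≤ p ^ |T| |Φ|`. -/
theorem card_closure_sup_frattini_le {p : ℕ} [Fact p.Prime] (hG : IsPGroup p G) (T : Finset G) :
    Nat.card (Subgroup.closure (T : Set G) ⊔ frattini G : Subgroup G) ≤
      p ^ T.card * Nat.card (frattini G) := by
  classical
  induction T using Finset.induction_on with
  | empty => simp
  | insert t T ht ih =>
    rw [Finset.coe_insert, closure_insert_sup, Finset.card_insert_of_notMem ht, pow_succ]
    calc Nat.card (Subgroup.zpowers t ⊔ (Subgroup.closure (T : Set G) ⊔ frattini G) : Subgroup G)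
        ≤ p * Nat.card (Subgroup.closure (T : Set G) ⊔ frattini G : Subgroup G) :=
          card_zpowers_sup_le hG _ le_sup_right t
      _ ≤ p * (p ^ T.card * Nat.card (frattini G)) := Nat.mul_le_mul_left _ ih
      _ = p ^ T.card * p * Nat.card (frattini G) := by ring

theorem closure_eq_top_iff_sup_frattini (T : Set G) :
    Subgroup.closure T = ⊤ ↔ Subgroup.closure T ⊔ frattini G = ⊤ := by
  constructor
  · intro h; rw [h, top_sup_eq]
  · intro h; exact frattini_nongenerating h

theorem burnside_basis (p n : ℕ) [hp : Fact p.Prime]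
    (hG : IsPGroup p G) (hn : (frattini G).index = p ^ n) :
    (∀ S : Finset G, Subgroup.closure (S : Set G) = ⊤ →
      ∃ T : Finset G, T ⊆ S ∧ T.card = n ∧ Subgroup.closure (T : Set G) = ⊤) ∧
    (∀ T : Finset G, Subgroup.closure (T : Set G) = ⊤ → n ≤ T.card) := by
  classical
  have hΦpos : 0 < Nat.card (frattini G) := Nat.card_pos
  have hcard : Nat.card G = p ^ n * Nat.card (frattini G) := by
    rw [← hn, mul_comm]; exact ((frattini G).card_mul_index).symm
  have hb : ∀ T : Finset G, Subgroup.closure (T : Set G) = ⊤ → n ≤ T.card := by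
    intro T hT
    have h1 := card_closure_sup_frattini_le hG T
    rw [hT, top_sup_eq, Subgroup.card_top, hcard] at h1
    have h2 : p ^ n ≤ p ^ T.card := Nat.le_of_mul_le_mul_right h1 hΦpos
    exact (Nat.pow_le_pow_iff_right hp.out.one_lt).mp h2
  refine ⟨?_, hb⟩
  intro S hS
  -- choose a generating subset of minimal cardinality
  have hex : ∃ k, ∃ T : Finset G, T ⊆ S ∧ T.card = k ∧ Subgroup.closure (T : Set G) = ⊤ :=
    ⟨S.card, S, subset_rfl, rfl, hS⟩
  obtain ⟨T, hTS, hTk, hTgen⟩ := Nat.find_spec hex
  have hmin : ∀ T' : Finset G, T' ⊆ S → Subgroup.closure (T' : Set G) = ⊤ → T.card ≤ T'.card := by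
    intro T' hT'S hT'
    rw [hTk]
    exact Nat.find_min' hex ⟨T', hT'S, rfl, hT'⟩
  refine ⟨T, hTS, ?_, hTgen⟩
  apply le_antisymm _ (hb T hTgen)
  -- lower bound on |⟨U⟩ Φ| for U ⊆ T
  have key : ∀ U : Finset G, U ⊆ T →
      p ^ U.card * Nat.card (frattini G) ≤
        Nat.card (Subgroup.closure (U : Set G) ⊔ frattini G : Subgroup G) := by
    intro U
    induction U using Finset.induction_on with
    | empty => intro _; simp
    | insert t U ht ih =>
      intro hU
      have hU' : U ⊆ T := (Finset.subset_insert t U).trans hU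
      have htT : t ∈ T := hU (Finset.mem_insert_self t U)
      have htnot : t ∉ Subgroup.closure (U : Set G) ⊔ frattini G := by
        intro hmem
        -- then T.erase t still generates
        have h1 : Subgroup.closure ((T.erase t : Finset G) : Set G) ⊔ frattini G = ⊤ := by
          rw [eq_top_iff, ← hTgen, Subgroup.closure_le]
          intro x hx
          by_cases hxt : x = t
          · rw [hxt]
            have hUle : Subgroup.closure (U : Set G) ≤ Subgroup.closure ((T.erase t : Finset G) : Set G) := by
              apply Subgroup.closure_mono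
              intro y hy
              rw [Finset.mem_coe, Finset.mem_erase]
              exact ⟨fun h => ht (h ▸ hy), hU' hy⟩
            exact (sup_le_sup_right hUle _) hmem
          · apply Subgroup.mem_sup_left
            apply Subgroup.subset_closure
            rw [Finset.mem_coe, Finset.mem_erase]
            exact ⟨hxt, hx⟩
        have h2 := (closure_eq_top_iff_sup_frattini _).mpr h1
        have h3 := hmin (T.erase t) ((Finset.erase_subset t T).trans hTS) h2
        rw [Finset.card_erase_of_mem htT] at h3
        have : 0 < T.card := Finset.card_pos.mpr ⟨t, htT⟩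
        omega
      rw [Finset.coe_insert, closure_insert_sup, Finset.card_insert_of_notMem ht, pow_succ]
      have hlt : Subgroup.closure (U : Set G) ⊔ frattini G <
          Subgroup.zpowers t ⊔ (Subgroup.closure (U : Set G) ⊔ frattini G) := by
        refine lt_of_le_of_ne le_sup_right ?_
        intro heq
        apply htnot
        rw [heq]
        exact Subgroup.mem_sup_left (Subgroup.mem_zpowers t)
      calc p ^ U.card * p * Nat.card (frattini G)
          = p * (p ^ U.card * Nat.card (frattini G)) := by ring
        _ ≤ p * Nat.card (Subgroup.closure (U : Set G) ⊔ frattini G : Subgroup G) :=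
          Nat.mul_le_mul_left _ (ih hU')
        _ ≤ _ := card_mul_le_of_lt hG hlt
  have h1 := key T subset_rfl
  rw [hTgen, top_sup_eq, Subgroup.card_top, hcard] at h1
  have h2 : p ^ T.card ≤ p ^ n := Nat.le_of_mul_le_mul_right h1 hΦpos
  exact (Nat.pow_le_pow_iff_right hp.out.one_lt).mp h2

end

end Cfsg.Agent.Lib.Lead
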