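import Mathlib
import Cfsg.Agent.Lib.Lead.BurnsideBasis

set_option autoImplicit false

namespace Cfsg.Agent.Lib.Lead

open scoped commutatorElement

universe u

section
variable {G : Type u} [Group G]

theorem center_map_subtype_eq (E : Subgroup G) :
    (Subgroup.center E).map E.subtype = E ⊓ Subgroup.centralizer (E : Set G) := by
  ext x
  constructor
  · rintro ⟨e, he, rfl⟩
    refine ⟨e.2, ?_⟩
    show (e : G) ∈ Subgroup.centralizer (E : Set G)
    have he : e ∈ Subgroup.center E := he
    rw [Subgroup.mem_centralizer_iff]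
    intro y hy
    have := Subgroup.mem_center_iff.mp he ⟨y, hy⟩
    exact congrArg Subtype.val this
  · rintro ⟨hxE, hxC⟩
    refine ⟨⟨x, hxE⟩, ?_, rfl⟩
    show (⟨x, hxE⟩ : E) ∈ Subgroup.center E
    have hxC : x ∈ Subgroup.centralizer (E : Set G) := hxC
    rw [Subgroup.mem_center_iff]
    intro y
    apply Subtype.ext
    exact Subgroup.mem_centralizer_iff.mp hxC y y.2

/-- A normal subgroup of prime order in a finite `p`-group is central. -/
theorem le_center_of_normal_of_card_prime [Finite G] {p : ℕ} [Fact p.Prime] (hG : IsPGroup p G)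
    (Z : Subgroup G) [Z.Normal] (hZ : Nat.card Z = p) : Z ≤ Subgroup.center G := by
  have : Group.IsNilpotent G := hG.isNilpotent
  have hp : p.Prime := Fact.out
  have hne : Z ≠ ⊥ := by
    intro h
    rw [h, Subgroup.card_bot] at hZ
    exact hp.one_lt.ne hZ
  have h1 := inf_center_ne_bot Z hne
  have h2 : Nat.card (Z ⊓ Subgroup.center G : Subgroup G) ∣ p := by
    rw [← hZ]; exact Subgroup.card_dvd_of_le inf_le_left
  rcases (Nat.dvd_prime hp).mp h2 with h3 | h3
  · exact absurd (Subgroup.card_eq_one.mp h3) h1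
  · have : Z ⊓ Subgroup.center G = Z :=
      Subgroup.eq_of_le_of_card_ge inf_le_left (by rw [h3, hZ])
    exact inf_eq_left.mp this

/-- `g ↦ ⁅g, t⁆` as a homomorphism into a central subgroup `Z`. -/
def commutatorHom (Z : Subgroup G) (hZ : Z ≤ Subgroup.center G) (t : G)
    (ht : ∀ g : G, ⁅g, t⁆ ∈ Z) : G →* Z where
  toFun g := ⟨⁅g, t⁆, ht g⟩
  map_one' := by
    apply Subtype.ext
    simp [commutatorElement_def]
  map_mul' g₁ g₂ := by
    apply Subtype.ext
    show ⁅g₁ * g₂, t⁆ = ⁅g₁, t⁆ * ⁅g₂, t⁆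
    have hc : ∀ x : G, x * ⁅g₂, t⁆ = ⁅g₂, t⁆ * x :=
      fun x => Subgroup.mem_center_iff.mp (hZ (ht g₂)) x
    have h1 : ⁅g₁ * g₂, t⁆ = g₁ * ⁅g₂, t⁆ * g₁⁻¹ * ⁅g₁, t⁆ := by
      simp only [commutatorElement_def]; group
    rw [h1, hc g₁, mul_assoc ⁅g₂, t⁆, mul_inv_cancel, mul_one, ← hc]

theorem extraspecial_central_product [Finite G] {p : ℕ} [hpf : Fact p.Prime] (hG : IsPGroup p G)
    (E : Subgroup G) (hE : Cfsg.IsExtraspecial p E)
    (h : ⁅(⊤ : Subgroup G), E⁆ ≤ E ⊓ Subgroup.centralizer (E : Set G)) :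
    E ⊔ Subgroup.centralizer (E : Set G) = ⊤ := by
  classical
  have hp : p.Prime := hpf.out
  obtain ⟨⟨hEp, hEfr, hEcomm⟩, hEcard⟩ := hE
  set C := Subgroup.centralizer (E : Set G) with hC
  set Z := E ⊓ C with hZdef
  have hcomm : ∀ (g e : G), e ∈ E → ⁅g, e⁆ ∈ Z := fun g e he =>
    h (Subgroup.commutator_mem_commutator (Subgroup.mem_top g) he)
  have hEn : E.Normal := by
    constructor
    intro e he g
    have h1 : g * e * g⁻¹ = ⁅g, e⁆ * e := by simp only [commutatorElement_def]; group
    rw [h1]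
    exact E.mul_mem (hcomm g e he).1 he
  have hCn : C.Normal := Subgroup.normal_centralizer
  have hZn : Z.Normal := inferInstance
  have hZcard : Nat.card Z = p := by
    rw [hZdef, hC, ← center_map_subtype_eq, card_map_subtype, hEcard]
  have hZcenter : Z ≤ Subgroup.center G := le_center_of_normal_of_card_prime hG Z hZcard
  -- generating set of E of size n
  obtain ⟨n, hn⟩ : ∃ n, (frattini E).index = p ^ n := by
    obtain ⟨a, ha⟩ := (IsPGroup.iff_card).mp hEp
    have h1 : (frattini E).index ∣ p ^ a := by rw [← ha]; exact Subgroup.index_dvd_card _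
    obtain ⟨n, -, hn⟩ := (Nat.dvd_prime_pow hp).mp h1
    exact ⟨n, hn⟩
  have hEtot : Nat.card E = p * p ^ n := by
    rw [← hn, ← (frattini E).card_mul_index, hEfr, hEcard]
  letI : Fintype E := Fintype.ofFinite E
  obtain ⟨T, -, hTcard, hTgen⟩ := (burnside_basis p n hEp hn).1 Finset.univ (by
    rw [Finset.coe_univ, Subgroup.closure_univ])
  -- the product of commutator maps
  let Θ : G →* (T → Z) :=
    MonoidHom.pi (fun t : T => commutatorHom Z hZcenter (t : E) (fun g => hcomm g _ (t : E).2))
  have hker : Θ.ker ≤ C := by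
    intro g hg
    rw [MonoidHom.mem_ker] at hg
    have hgt : ∀ t ∈ T, g * (t : G) = (t : G) * g := by
      intro t ht
      have h1 := congrFun hg ⟨t, ht⟩
      have h2 : ⁅g, (t : G)⁆ = 1 := congrArg Subtype.val h1
      exact commutatorElement_eq_one_iff_mul_comm.mp h2
    -- E = closure T is centralized by g
    have hle : (Subgroup.closure (T : Set E)).map E.subtype ≤ Subgroup.centralizer {g} := by
      rw [Subgroup.map_le_iff_le_comap, Subgroup.closure_le]
      intro t ht
      rw [SetLike.mem_coe, Subgroup.mem_comap, Subgroup.mem_centralizer_singleton_iff]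
      exact (hgt t ht).symm
    rw [hTgen, ← MonoidHom.range_eq_map, Subgroup.range_subtype] at hle
    rw [hC, Subgroup.mem_centralizer_iff]
    intro e he
    have := hle he
    rw [Subgroup.mem_centralizer_singleton_iff] at this
    exact this
  have hcount : Nat.card G ≤ Nat.card C * p ^ n := by
    have h1 := Θ.ker.card_mul_index
    rw [Subgroup.index_ker] at h1
    have h2 : Nat.card Θ.range ≤ p ^ n := by
      calc Nat.card Θ.range ≤ Nat.card (T → Z) := Subgroup.card_le_card_group _
        _ = p ^ n := by rw [Nat.card_fun, hZcard, Nat.card_eq_fintype_card, Fintype.card_coe, hTcard]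
    rw [← h1]
    exact Nat.mul_le_mul (Subgroup.card_le_of_le hker) h2
  have hsup := card_sup_mul_card_inf E C Subgroup.le_normalizer_of_normal
  rw [← hZdef, hZcard, hEtot] at hsup
  have hpos : 0 < p := hp.pos
  have h3 : Nat.card (E ⊔ C : Subgroup G) = p ^ n * Nat.card C := by
    have : Nat.card (E ⊔ C : Subgroup G) * p = (p ^ n * Nat.card C) * p := by rw [hsup]; ring
    exact Nat.eq_of_mul_eq_mul_right hpos this
  rw [← Subgroup.card_eq_iff_eq_top]
  apply le_antisymm (Subgroup.card_le_card_group _)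
  rw [h3, mul_comm]
  exact hcount

end

end Cfsg.Agent.Lib.Lead
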