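import Mathlib
import Cfsg.Agent.Lib.Lead.ExtraspecialCentral

set_option autoImplicit false

namespace Cfsg.Agent.Lib.Lead

open scoped Pointwise

universe u

section
variable {G : Type u} [Group G]

theorem normalizer_le_normalizer_centralizer (A : Subgroup G) :
    Subgroup.normalizer (A : Set G) ≤
      Subgroup.normalizer ((Subgroup.centralizer (A : Set G) : Subgroup G) : Set G) := by
  have key : ∀ g ∈ Subgroup.normalizer (A : Set G), ∀ c ∈ Subgroup.centralizer (A : Set G),
      g * c * g⁻¹ ∈ Subgroup.centralizer (A : Set G) := by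
    intro g hg c hc
    rw [Subgroup.mem_centralizer_iff]
    intro a ha
    have h1 : g⁻¹ * a * g ∈ A := by
      have := (Subgroup.mem_normalizer_iff.mp (Subgroup.inv_mem _ hg) a).mp ha
      simpa using this
    have h2 := Subgroup.mem_centralizer_iff.mp hc _ h1
    calc a * (g * c * g⁻¹) = g * ((g⁻¹ * a * g) * c) * g⁻¹ := by group
      _ = g * (c * (g⁻¹ * a * g)) * g⁻¹ := by rw [h2]
      _ = g * c * g⁻¹ * a := by group
  intro g hg
  rw [Subgroup.mem_normalizer_iff]
  intro c
  constructor
  · exact key g hg c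
  · intro h
    have := key g⁻¹ (Subgroup.inv_mem _ hg) _ h
    simpa [mul_assoc] using this

variable [Finite G]

theorem centralizer_of_scn_splits {p : ℕ} [Fact p.Prime] (R : Sylow p G) (A : Subgroup G)
    (hAR : A ≤ (R : Subgroup G)) (hAn : (R : Subgroup G) ≤ Subgroup.normalizer (A : Set G))
    (hC : (R : Subgroup G) ⊓ Subgroup.centralizer (A : Set G) = A) :
    ∃ H : Subgroup G, H ≤ Subgroup.centralizer (A : Set G) ∧ Nat.Coprime (Nat.card H) p ∧
      Subgroup.centralizer (A : Set G) ≤ Subgroup.normalizer (H : Set G) ∧ H ⊓ A = ⊥ ∧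
      H ⊔ A = Subgroup.centralizer (A : Set G) := by
  set C := Subgroup.centralizer (A : Set G) with hCdef
  have hAC : A ≤ C := by rw [← hC]; exact inf_le_right
  have hRC : (R : Subgroup G) ≤ Subgroup.normalizer (C : Set G) :=
    hAn.trans (normalizer_le_normalizer_centralizer A)
  have hAp : IsPGroup p A := R.isPGroup'.to_le hAR
  have hA'p : IsPGroup p (A.subgroupOf C) := hAp.of_equiv (Subgroup.subgroupOfEquivOfLe hAC).symm
  -- A is a Sylow subgroup of C
  have hidx : (A.subgroupOf C).index = (R : Subgroup G).relIndex ((R : Subgroup G) ⊔ C) := by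
    have h1 := card_sup_mul_card_inf (R : Subgroup G) C hRC
    rw [hC] at h1
    have h2 := ((R : Subgroup G).subgroupOf ((R : Subgroup G) ⊔ C)).card_mul_index
    rw [card_subgroupOf_of_le le_sup_left] at h2
    have h3 := (A.subgroupOf C).card_mul_index
    rw [card_subgroupOf_of_le hAC] at h3
    have hRpos : 0 < Nat.card (R : Subgroup G) := Nat.card_pos
    have hApos : 0 < Nat.card A := Nat.card_pos
    have : Nat.card (R : Subgroup G) * Nat.card A * (A.subgroupOf C).index =
        Nat.card (R : Subgroup G) * Nat.card A * (R : Subgroup G).relIndex ((R : Subgroup G) ⊔ C) := by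
      calc Nat.card (R : Subgroup G) * Nat.card A * (A.subgroupOf C).index
          = Nat.card (R : Subgroup G) * (Nat.card A * (A.subgroupOf C).index) := by ring
        _ = Nat.card (R : Subgroup G) * Nat.card C := by rw [h3]
        _ = Nat.card ((R : Subgroup G) ⊔ C : Subgroup G) * Nat.card A := h1.symm
        _ = Nat.card (R : Subgroup G) * (R : Subgroup G).relIndex ((R : Subgroup G) ⊔ C) * Nat.card A := by
          rw [← h2]; rfl
        _ = _ := by ring
    exact Nat.eq_of_mul_eq_mul_left (Nat.mul_pos hRpos hApos) this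
  have hnd : ¬ p ∣ (A.subgroupOf C).index := by
    rw [hidx]
    intro hdvd
    apply R.not_dvd_index
    rw [← Subgroup.relIndex_mul_index (le_sup_left : (R : Subgroup G) ≤ (R : Subgroup G) ⊔ C)]
    exact Dvd.dvd.mul_right hdvd _
  let S : Sylow p C := hA'p.toSylow hnd
  have hScoe : (S : Subgroup C) = A.subgroupOf C := rfl
  have hP : Subgroup.normalizer ((S : Subgroup C) : Set C) ≤ Subgroup.centralizer ((S : Subgroup C) : Set C) := by
    intro c _
    rw [Subgroup.mem_centralizer_iff]
    intro a ha
    apply Subtype.ext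
    have ha' : (a : G) ∈ A := ha
    exact Subgroup.mem_centralizer_iff.mp c.2 a ha'
  have hcompl := MonoidHom.ker_transferSylow_isComplement' S hP
  set H' := (MonoidHom.transferSylow S hP).ker with hH'
  have hH'n : H'.Normal := MonoidHom.normal_ker _
  refine ⟨H'.map C.subtype, Subgroup.map_subtype_le _, ?_, ?_, ?_, ?_⟩
  · rw [card_map_subtype, ← hcompl.index_eq_card, hScoe]
    exact ((Nat.Prime.coprime_iff_not_dvd (Fact.out : p.Prime)).mpr hnd).symm
  · rw [← Subgroup.normal_subgroupOf_iff_le_normalizer (Subgroup.map_subtype_le _)]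
    have : (H'.map C.subtype).subgroupOf C = H' := by
      ext x
      rw [Subgroup.mem_subgroupOf]
      constructor
      · rintro ⟨y, hy, hyx⟩
        have : y = x := Subtype.ext hyx
        rwa [← this]
      · intro hx; exact ⟨x, hx, rfl⟩
    rw [this]; exact hH'n
  · have h1 : H' ⊓ (S : Subgroup C) = ⊥ := hcompl.disjoint.eq_bot
    have h2 := congrArg (Subgroup.map C.subtype) h1
    rw [Subgroup.map_inf _ _ _ C.subtype_injective, hScoe, map_subtype_subgroupOf_of_le hAC,
      Subgroup.map_bot] at h2
    exact h2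
  · have h1 : H' ⊔ (S : Subgroup C) = ⊤ := hcompl.sup_eq_top
    have h2 := congrArg (Subgroup.map C.subtype) h1
    rw [Subgroup.map_sup, hScoe, map_subtype_subgroupOf_of_le hAC, ← MonoidHom.range_eq_map,
      Subgroup.range_subtype] at h2
    exact h2

end

end Cfsg.Agent.Lib.Lead
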