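import Mathlib
import Cfsg.Agent.Lib.Lead.SCN

set_option autoImplicit false

namespace Cfsg.Agent.Lib.Lead

open scoped IsMulCommutative

universe u

namespace Gaschutz

variable {G : Type u} [Group G]

/-- A section of `G → G/K` that is compatible with right multiplication by `A`. -/
structure Sec (K A : Subgroup G) where
  f : G → G
  inv_mul_mem : ∀ g, (f g)⁻¹ * g ∈ K
  mul_K : ∀ g, ∀ k ∈ K, f (g * k) = f g
  mul_A : ∀ g, ∀ a ∈ A, f (g * a) = f g * a

variable {K A : Subgroup G} [hKn : K.Normal]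

theorem Sec.diff_mem (σ τ : Sec K A) (g : G) : τ.f g * (σ.f g)⁻¹ ∈ K := by
  have h1 := σ.inv_mul_mem g
  have h2 := τ.inv_mul_mem g
  have h3 : τ.f g * (σ.f g)⁻¹ = g * ((τ.f g)⁻¹ * g)⁻¹ * ((σ.f g)⁻¹ * g) * g⁻¹ := by group
  rw [h3, mul_assoc g]
  exact hKn.conj_mem _ (K.mul_mem (K.inv_mem h2) h1) g

/-- The pointwise difference of two sections, as an element of `K`. -/
def Sec.δ (σ τ : Sec K A) (g : G) : K := ⟨τ.f g * (σ.f g)⁻¹, Sec.diff_mem σ τ g⟩

theorem Sec.δ_mul_K (σ τ : Sec K A) (g k : G) (hk : k ∈ K) : Sec.δ σ τ (g * k) = Sec.δ σ τ g := by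
  apply Subtype.ext
  simp only [Sec.δ, σ.mul_K g k hk, τ.mul_K g k hk]

theorem Sec.δ_mul_A (σ τ : Sec K A) (g a : G) (ha : a ∈ A) : Sec.δ σ τ (g * a) = Sec.δ σ τ g := by
  apply Subtype.ext
  simp only [Sec.δ, σ.mul_A g a ha, τ.mul_A g a ha]
  group

/-- left translation of sections -/
def Sec.translate (g : G) (σ : Sec K A) : Sec K A where
  f x := g * σ.f (g⁻¹ * x)
  inv_mul_mem x := by
    have := σ.inv_mul_mem (g⁻¹ * x)
    have e : (g * σ.f (g⁻¹ * x))⁻¹ * x = (σ.f (g⁻¹ * x))⁻¹ * (g⁻¹ * x) := by group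
    rw [e]; exact this
  mul_K x k hk := by rw [← mul_assoc, σ.mul_K _ k hk]
  mul_A x a ha := by rw [← mul_assoc, σ.mul_A _ a ha, mul_assoc]

theorem Sec.translate_mul (g h : G) (σ : Sec K A) :
    Sec.translate (g * h) σ = Sec.translate g (Sec.translate h σ) := by
  cases σ
  simp only [Sec.translate, Sec.mk.injEq]
  funext x
  simp [mul_assoc]

theorem Sec.translate_one (σ : Sec K A) : Sec.translate 1 σ = σ := by
  cases σ
  simp [Sec.translate]

end Gaschutz

end Cfsg.Agent.Lib.Lead
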