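import Mathlib
import Cfsg.Agent.Lib.Lead.Gaschutz

set_option autoImplicit false

namespace Cfsg.Agent.Lib.Lead

open scoped IsMulCommutative

universe u

namespace Gaschutz

variable {G : Type u} [Group G] {K A : Subgroup G} [hKn : K.Normal] [hKc : IsMulCommutative K]
  (U : Subgroup G) [Fintype (G ⧸ U)]

/-- the difference of two sections -/
noncomputable def d (σ τ : Sec K A) : K := ∏ q : G ⧸ U, Sec.δ σ τ (Quotient.out q)

theorem d_self (σ : Sec K A) : d U σ σ = 1 := by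
  unfold d
  apply Finset.prod_eq_one
  intro q _
  apply Subtype.ext
  simp [Sec.δ]

omit hKc in
theorem δ_mul_δ [IsMulCommutative K] (σ τ ρ : Sec K A) (g : G) :
    Sec.δ σ τ g * Sec.δ τ ρ g = Sec.δ σ ρ g := by
  rw [mul_comm]
  apply Subtype.ext
  simp only [Sec.δ, Subgroup.coe_mul]
  group

theorem d_mul_d (σ τ ρ : Sec K A) : d U σ τ * d U τ ρ = d U σ ρ := by
  unfold d
  rw [← Finset.prod_mul_distrib]
  apply Finset.prod_congr rfl
  intro q _
  exact δ_mul_δ σ τ ρ _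

theorem d_inv (σ τ : Sec K A) : (d U σ τ)⁻¹ = d U τ σ := by
  rw [inv_eq_iff_mul_eq_one, d_mul_d, d_self]

variable (hU : ∀ u ∈ U, ∃ k ∈ K, ∃ a ∈ A, u = k * a)

include hU in
omit hKc [Fintype (G ⧸ U)] in
theorem δ_eq_of_coset (σ τ : Sec K A) (x y : G) (h : x⁻¹ * y ∈ U) : Sec.δ σ τ x = Sec.δ σ τ y := by
  obtain ⟨k, hk, a, ha, hka⟩ := hU _ h
  have : y = x * k * a := by rw [mul_assoc, ← hka]; group
  rw [this, Sec.δ_mul_A σ τ _ a ha, Sec.δ_mul_K σ τ _ k hk]

/-- conjugation by `g` as an endomorphism of the normal subgroup `K` -/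
def conjK (g : G) : K →* K :=
  conjHom K g (by rw [Subgroup.normalizer_eq_top_iff.mpr hKn]; trivial)

omit hKc in
theorem δ_translate (g : G) (σ τ : Sec K A) (x : G) :
    Sec.δ (Sec.translate g σ) (Sec.translate g τ) x = conjK g (Sec.δ σ τ (g⁻¹ * x)) := by
  apply Subtype.ext
  simp only [Sec.δ, Sec.translate, conjK, conjHom_coe]
  group

include hU in
theorem d_translate (g : G) (σ τ : Sec K A) :
    d U (Sec.translate g σ) (Sec.translate g τ) = conjK g (d U σ τ) := by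
  unfold d
  rw [map_prod]
  simp only [δ_translate]
  -- reindex along q ↦ g⁻¹ • q
  let e : G ⧸ U ≃ G ⧸ U := MulAction.toPerm (g⁻¹ : G)
  rw [← Equiv.prod_comp e (fun q => conjK g (Sec.δ σ τ (Quotient.out q)))]
  apply Finset.prod_congr rfl
  intro q _
  congr 1
  apply δ_eq_of_coset U hU
  -- (g⁻¹ * q.out)⁻¹ * (g⁻¹ • q).out ∈ U
  have h1 : ((Quotient.out (e q) : G) : G ⧸ U) = e q := Quotient.out_eq' _
  have h2 : e q = ((g⁻¹ * Quotient.out q : G) : G ⧸ U) := by
    show g⁻¹ • q = _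
    conv_lhs => rw [← Quotient.out_eq' q]
    rfl
  exact QuotientGroup.eq.mp (h2.symm.trans h1.symm)

omit hKc in
theorem δ_translate_K (k : G) (hk : k ∈ K) (σ : Sec K A) (x : G) :
    Sec.δ σ (Sec.translate k σ) x = ⟨k, hk⟩ := by
  apply Subtype.ext
  simp only [Sec.δ, Sec.translate]
  have h1 : k⁻¹ * x = x * (x⁻¹ * k⁻¹ * x) := by group
  have h2 : x⁻¹ * k⁻¹ * x ∈ K := by
    have := hKn.conj_mem _ (K.inv_mem hk) x⁻¹
    simpa using this
  rw [h1, σ.mul_K x _ h2]
  group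

theorem d_translate_K (k : G) (hk : k ∈ K) (σ : Sec K A) :
    d U σ (Sec.translate k σ) = ⟨k, hk⟩ ^ U.index := by
  unfold d
  simp only [δ_translate_K k hk]
  rw [Finset.prod_const, Finset.card_univ, Subgroup.index_eq_card, Nat.card_eq_fintype_card]

end Gaschutz

end Cfsg.Agent.Lib.Lead
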