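import Mathlib
import Cfsg.Agent.Lib.Lead.Gaschutz2

set_option autoImplicit false

namespace Cfsg.Agent.Lib.Lead

open scoped IsMulCommutative

universe u

namespace Gaschutz

variable {G : Type u} [Group G] {K A : Subgroup G} [hKn : K.Normal]

/-- existence of an initial section -/
theorem exists_sec (U : Subgroup G) (hAU : A ≤ U) (hKU : K ≤ U) (hAK : A ⊓ K = ⊥)
    (hU : ∀ u ∈ U, ∃ k ∈ K, ∃ a ∈ A, u = k * a) : Nonempty (Sec K A) := by
  classical
  have hα : ∀ u : G, u ∈ U → ∃ a ∈ A, a⁻¹ * u ∈ K := by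
    intro u hu
    obtain ⟨k, hk, a, ha, rfl⟩ := hU u hu
    refine ⟨a, ha, ?_⟩
    have := hKn.conj_mem k hk a⁻¹
    simpa [mul_assoc] using this
  have huniq : ∀ u a b : G, a ∈ A → b ∈ A → a⁻¹ * u ∈ K → b⁻¹ * u ∈ K → a = b := by
    intro u a b ha hb h1 h2
    have h3 : a⁻¹ * b ∈ A ⊓ K := by
      refine ⟨A.mul_mem (A.inv_mem ha) hb, ?_⟩
      have : a⁻¹ * b = (a⁻¹ * u) * (b⁻¹ * u)⁻¹ := by group
      rw [this]; exact K.mul_mem h1 (K.inv_mem h2)
    rw [hAK, Subgroup.mem_bot] at h3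
    exact (inv_mul_eq_one.mp h3)
  let α : G → G := fun u => if h : u ∈ U then Classical.choose (hα u h) else 1
  have hα1 : ∀ u, u ∈ U → α u ∈ A ∧ (α u)⁻¹ * u ∈ K := by
    intro u hu
    simp only [α, dif_pos hu]
    exact Classical.choose_spec (hα u hu)
  have hα2 : ∀ u a, u ∈ U → a ∈ A → a⁻¹ * u ∈ K → α u = a := by
    intro u a hu ha h
    exact huniq u _ _ (hα1 u hu).1 ha (hα1 u hu).2 h
  let r : G → G := fun g => Quotient.out (g : G ⧸ U)
  have hr : ∀ g, (r g)⁻¹ * g ∈ U := fun g => QuotientGroup.eq.mp (Quotient.out_eq' (g : G ⧸ U))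
  have hrU : ∀ g u, u ∈ U → r (g * u) = r g := by
    intro g u hu
    simp only [r]
    congr 1
    rw [QuotientGroup.eq]
    simpa using U.inv_mem hu
  refine ⟨⟨fun g => r g * α ((r g)⁻¹ * g), ?_, ?_, ?_⟩⟩
  · intro g
    have := (hα1 _ (hr g)).2
    have e : (r g * α ((r g)⁻¹ * g))⁻¹ * g = (α ((r g)⁻¹ * g))⁻¹ * ((r g)⁻¹ * g) := by group
    rw [e]; exact this
  · intro g k hk
    show r (g * k) * α ((r (g * k))⁻¹ * (g * k)) = r g * α ((r g)⁻¹ * g)
    rw [hrU g k (hKU hk)]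
    congr 1
    have h1 := hα1 _ (hr g)
    apply hα2 _ _ _ h1.1
    · rw [← mul_assoc, ← mul_assoc]
      exact K.mul_mem (by rw [mul_assoc]; exact h1.2) hk
    · rw [← mul_assoc]
      exact U.mul_mem (hr g) (hKU hk)
  · intro g a ha
    show r (g * a) * α ((r (g * a))⁻¹ * (g * a)) = r g * α ((r g)⁻¹ * g) * a
    rw [hrU g a (hAU ha), mul_assoc]
    congr 1
    have h1 := hα1 _ (hr g)
    apply hα2 _ _ _ (A.mul_mem h1.1 ha)
    · have e : (α ((r g)⁻¹ * g) * a)⁻¹ * ((r g)⁻¹ * (g * a))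
          = a⁻¹ * ((α ((r g)⁻¹ * g))⁻¹ * ((r g)⁻¹ * g)) * a⁻¹⁻¹ := by group
      rw [e]
      exact hKn.conj_mem _ h1.2 _
    · rw [← mul_assoc]
      exact U.mul_mem (hr g) (hAU ha)

variable [hKc : IsMulCommutative K] (U : Subgroup G) [Fintype (G ⧸ U)]
  (hU : ∀ u ∈ U, ∃ k ∈ K, ∃ a ∈ A, u = k * a) (σ₀ : Sec K A)

/-- the crossed homomorphism attached to a section -/
noncomputable def c (g : G) : K := d U σ₀ (Sec.translate g σ₀)

include hU in
theorem c_mul (g h : G) : c U σ₀ (g * h) = c U σ₀ g * conjK g (c U σ₀ h) := by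
  unfold c
  rw [Sec.translate_mul, ← d_translate U hU g σ₀ (Sec.translate h σ₀), d_mul_d]

theorem c_K (k : G) (hk : k ∈ K) : c U σ₀ k = ⟨k, hk⟩ ^ U.index := d_translate_K U k hk σ₀

theorem c_one : c U σ₀ 1 = 1 := by
  unfold c
  rw [Sec.translate_one, d_self]

omit [Fintype (G ⧸ U)] in
theorem conjK_of_mem (k : G) (hk : k ∈ K) (x : K) : conjK k x = x := by
  apply Subtype.ext
  simp only [conjK, conjHom_coe]
  have := congrArg Subtype.val (mul_comm (⟨k, hk⟩ : K) x)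
  simp only [Subgroup.coe_mul] at this
  rw [this]; group

/-- the kernel of the crossed homomorphism -/
noncomputable def ker : Subgroup G where
  carrier := {g | c U σ₀ g = 1}
  one_mem' := c_one U σ₀
  mul_mem' := by
    intro a b ha hb
    simp only [Set.mem_ofPred_eq] at *
    rw [c_mul U hU, ha, hb, map_one, one_mul]
  inv_mem' := by
    intro a ha
    simp only [Set.mem_ofPred_eq] at *
    have h1 := c_mul U hU σ₀ a⁻¹ a
    rw [inv_mul_cancel, c_one, ha, map_one, mul_one] at h1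
    exact h1.symm

theorem mem_ker (g : G) : g ∈ ker U hU σ₀ ↔ c U σ₀ g = 1 := Iff.rfl

include hU in
theorem gaschutz_complement [Finite G] (hcop : (Nat.card K).Coprime U.index) :
    Subgroup.IsComplement' K (ker U hU σ₀) := by
  apply Subgroup.isComplement'_of_disjoint_and_mul_eq_univ
  · rw [Subgroup.disjoint_def]
    intro k hk hkH
    rw [mem_ker, c_K U σ₀ k hk] at hkH
    have h1 : orderOf (⟨k, hk⟩ : K) ∣ U.index := orderOf_dvd_of_pow_eq_one hkH
    have h2 : orderOf (⟨k, hk⟩ : K) ∣ Nat.card K := orderOf_dvd_natCard _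
    have h3 : orderOf (⟨k, hk⟩ : K) = 1 := Nat.eq_one_of_dvd_coprimes hcop h2 h1
    rw [orderOf_eq_one_iff] at h3
    exact congrArg Subtype.val h3
  · rw [Set.eq_univ_iff_forall]
    intro g
    -- choose `k` with `k ^ n = (c g)⁻¹`
    obtain ⟨k, hk⟩ := (powCoprime hcop).surjective (c U σ₀ g)⁻¹
    have hk' : k ^ U.index = (c U σ₀ g)⁻¹ := hk
    refine ⟨(k⁻¹ : K), (k⁻¹ : K).2, (k : G) * g, ?_, ?_⟩
    · show (k : G) * g ∈ ker U hU σ₀
      rw [mem_ker, c_mul U hU, c_K U σ₀ k k.2, conjK_of_mem (k : G) k.2]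
      show k ^ U.index * _ = 1
      rw [hk', inv_mul_cancel]
    · simp
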