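import Mathlib
import Cfsg.Agent.Lib.Lead.Gaschutz3

set_option autoImplicit false

namespace Cfsg.Agent.Lib.Lead

open scoped IsMulCommutative

universe u

namespace Gaschutz

variable {G : Type u} [Group G] {K H : Subgroup G} [hKn : K.Normal]

/-- projection of `G` onto a complement `H` of the normal subgroup `K` -/
noncomputable def proj (h : H.IsComplement' K) : G →* G :=
  H.subtype.comp (h.QuotientMulEquiv.toMonoidHom.comp (QuotientGroup.mk' K))

theorem proj_mem (h : H.IsComplement' K) (g : G) : proj h g ∈ H := by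
  simp [proj]

theorem proj_inv_mul_mem (h : H.IsComplement' K) (g : G) : (proj h g)⁻¹ * g ∈ K := by
  rw [← QuotientGroup.eq]
  have h1 : h.QuotientMulEquiv.symm (h.QuotientMulEquiv (g : G ⧸ K)) = (g : G ⧸ K) :=
    h.QuotientMulEquiv.symm_apply_apply _
  rw [Subgroup.IsComplement'.QuotientMulEquiv_symm_apply] at h1
  exact h1

theorem proj_of_mem_left (h : H.IsComplement' K) (k : G) (hk : k ∈ K) : proj h k = 1 := by
  have h1 := proj_inv_mul_mem h k
  have h2 : proj h k ∈ K := by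
    have e : proj h k = k * ((proj h k)⁻¹ * k)⁻¹ := by group
    rw [e]; exact K.mul_mem hk (K.inv_mem h1)
  exact (Subgroup.disjoint_def.mp h.disjoint) (proj_mem h k) h2

theorem proj_of_mem_right (h : H.IsComplement' K) (x : G) (hx : x ∈ H) : proj h x = x := by
  have h1 := proj_inv_mul_mem h x
  have h2 : (proj h x)⁻¹ * x ∈ H := H.mul_mem (H.inv_mem (proj_mem h x)) hx
  have h3 := (Subgroup.disjoint_def.mp h.disjoint) h2 h1
  exact (inv_mul_eq_one.mp h3)

/-- the section attached to a complement -/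
noncomputable def secOf (h : H.IsComplement' K) (A : Subgroup G) (hA : A ≤ H) : Sec K A where
  f := proj h
  inv_mul_mem := proj_inv_mul_mem h
  mul_K g k hk := by rw [map_mul, proj_of_mem_left h k hk, mul_one]
  mul_A g a ha := by rw [map_mul, proj_of_mem_right h a (hA ha)]

theorem prod_out_mul {M : Type*} [CommMonoid M] (U : Subgroup G) [Fintype (G ⧸ U)] (f : G → M)
    (hf : ∀ x y, x⁻¹ * y ∈ U → f x = f y) (g : G) :
    ∏ q : G ⧸ U, f (g * Quotient.out q) = ∏ q : G ⧸ U, f (Quotient.out q) := by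
  let e : G ⧸ U ≃ G ⧸ U := MulAction.toPerm (g : G)
  rw [← Equiv.prod_comp e (fun q => f (Quotient.out q))]
  apply Finset.prod_congr rfl
  intro q _
  apply hf
  have h1 : ((Quotient.out (e q) : G) : G ⧸ U) = e q := Quotient.out_eq' _
  have h2 : e q = ((g * Quotient.out q : G) : G ⧸ U) := by
    show g • q = _
    conv_lhs => rw [← Quotient.out_eq' q]
    rfl
  have := QuotientGroup.eq.mp (h1.trans h2)
  have e2 : (g * Quotient.out q)⁻¹ * Quotient.out (e q) = ((Quotient.out (e q))⁻¹ * (g * Quotient.out q))⁻¹ := by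
    group
  rw [e2]
  exact U.inv_mem this

theorem gaschutz_conj [Finite G] [IsMulCommutative K] (U : Subgroup G) (hKU : K ≤ U)
    (hcop : (Nat.card K).Coprime U.index) {H₀ H₁ : Subgroup G}
    (h₀ : H₀.IsComplement' K) (h₁ : H₁.IsComplement' K) (hU : H₀ ⊓ U = H₁ ⊓ U) :
    ∃ m ∈ K, ∀ g, proj h₀ g = m⁻¹ * proj h₁ g * m := by
  classical
  let _ : Fintype (G ⧸ U) := Fintype.ofFinite _
  set A : Subgroup G := H₀ ⊓ U with hA
  have hA0 : A ≤ H₀ := inf_le_left
  have hA1 : A ≤ H₁ := hU.le.trans inf_le_left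
  have hdec : ∀ u ∈ U, ∃ k ∈ K, ∃ a ∈ A, u = k * a := by
    intro u hu
    have h1 := proj_inv_mul_mem h₀ u
    have h2 : proj h₀ u ∈ U := by
      have : proj h₀ u = u * ((proj h₀ u)⁻¹ * u)⁻¹ := by group
      rw [this]
      exact U.mul_mem hu (U.inv_mem (hKU h1))
    refine ⟨proj h₀ u * ((proj h₀ u)⁻¹ * u) * (proj h₀ u)⁻¹, hKn.conj_mem _ h1 _, proj h₀ u,
      ⟨proj_mem h₀ u, h2⟩, by group⟩
  let σ₀ : Sec K A := secOf h₀ A hA0
  let σ₁ : Sec K A := secOf h₁ A hA1
  obtain ⟨m, hm⟩ := (powCoprime hcop).surjective (d U σ₀ σ₁)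
  have hm' : m ^ U.index = d U σ₀ σ₁ := hm
  refine ⟨m, m.2, fun g => ?_⟩
  -- the key identity
  have key : ∀ x : G, Sec.δ σ₀ σ₁ (g * x) = conjK (proj h₁ g) (Sec.δ σ₀ σ₁ x) * Sec.δ σ₀ σ₁ g := by
    intro x
    apply Subtype.ext
    simp only [Sec.δ, Subgroup.coe_mul, conjK, conjHom_coe]
    show proj h₁ (g * x) * (proj h₀ (g * x))⁻¹ = proj h₁ g * (proj h₁ x * (proj h₀ x)⁻¹) * (proj h₁ g)⁻¹
      * (proj h₁ g * (proj h₀ g)⁻¹)
    rw [map_mul, map_mul]
    group
  have h3 : d U σ₀ σ₁ = conjK (proj h₁ g) (d U σ₀ σ₁) * Sec.δ σ₀ σ₁ g ^ U.index := by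
    have h4 := prod_out_mul U (fun x => Sec.δ σ₀ σ₁ x)
      (fun x y hxy => δ_eq_of_coset U hdec σ₀ σ₁ x y hxy) g
    simp only [key] at h4
    rw [Finset.prod_mul_distrib, Finset.prod_const, Finset.card_univ, ← map_prod] at h4
    unfold d
    rw [Subgroup.index_eq_card, Nat.card_eq_fintype_card]
    exact h4.symm
  rw [← hm', map_pow, ← mul_pow] at h3
  have h5 : m = conjK (proj h₁ g) m * Sec.δ σ₀ σ₁ g := (powCoprime hcop).injective h3
  have h6 := congrArg Subtype.val h5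
  simp only [Sec.δ, Subgroup.coe_mul, conjK, conjHom_coe] at h6
  change (m : G) = proj h₁ g * m * (proj h₁ g)⁻¹ * (proj h₁ g * (proj h₀ g)⁻¹) at h6
  have h7 : (m : G) = proj h₁ g * m * (proj h₀ g)⁻¹ := h6.trans (by group)
  have h8 : (m : G) * proj h₀ g = proj h₁ g * m := by
    calc (m : G) * proj h₀ g = (proj h₁ g * m * (proj h₀ g)⁻¹) * proj h₀ g := by rw [← h7]
      _ = proj h₁ g * m := by group
  rw [mul_assoc, ← h8]; group

end Gaschutz

end Cfsg.Agent.Lib.Lead
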