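import Mathlib
import Cfsg.Agent.Lib.Lead.Gaschutz4

set_option autoImplicit false

namespace Cfsg.Agent.Lib.Lead

open scoped Pointwise

variable {G : Type*} [Group G]

/-- a `p`-subgroup of `M` lies in an `M`-conjugate of a Sylow `p`-subgroup of `G` contained in `M` -/
theorem pgroup_le_conj_sylow_in_subgroup [Finite G] {p : ℕ} [Fact p.Prime] (S : Sylow p G)
    (M Q : Subgroup G) (hSM : (S : Subgroup G) ≤ M) (hQM : Q ≤ M) (hQ : IsPGroup p Q) :
    ∃ n ∈ M, Q ≤ MulAut.conj n • (S : Subgroup G) := by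
  let SM : Sylow p M := Sylow.subtype S hSM
  have hQ' : IsPGroup p (Q.subgroupOf M) := hQ.comap_subtype
  obtain ⟨Q', hQ'le⟩ := hQ'.exists_le_sylow
  obtain ⟨n, hn⟩ := MulAction.exists_smul_eq M SM Q'
  refine ⟨n, n.2, ?_⟩
  intro x hx
  have h1 : (⟨x, hQM hx⟩ : M) ∈ (Q' : Subgroup M) := hQ'le (Subgroup.mem_subgroupOf.mpr hx)
  rw [← hn, Sylow.coe_subgroup_smul, mem_conj_smul_iff'] at h1
  rw [mem_conj_smul_iff']
  have h2 : (n⁻¹ * ⟨x, hQM hx⟩ * n : M) ∈ (S : Subgroup G).subgroupOf M := h1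
  rw [Subgroup.mem_subgroupOf] at h2
  simpa using h2

theorem brodkey [Finite G] (p : ℕ) [Fact p.Prime] (S : Sylow p G)
    (hcomm : ∀ a ∈ (S : Subgroup G), ∀ b ∈ (S : Subgroup G), a * b = b * a)
    (hOp : Cfsg.pCore p G = ⊥) :
    ∃ g : G, (S : Subgroup G) ⊓ MulAut.conj g • (S : Subgroup G) = ⊥ := by
  classical
  obtain ⟨g₀, hmin⟩ := Finite.exists_min
    (fun g : G => Nat.card ↥((S : Subgroup G) ⊓ MulAut.conj g • (S : Subgroup G)))
  refine ⟨g₀, ?_⟩
  set T : Subgroup G := MulAut.conj g₀ • (S : Subgroup G) with hT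
  set D : Subgroup G := (S : Subgroup G) ⊓ T with hD
  rw [eq_bot_iff, ← hOp, pCore_eq_iInf_sylow]
  apply le_iInf
  intro R
  obtain ⟨r, rfl⟩ := MulAction.exists_smul_eq G S R
  rw [Sylow.coe_subgroup_smul]
  -- `S` and `T` normalise `D`
  have hSN : (S : Subgroup G) ≤ Subgroup.normalizer (D : Set G) := by
    refine le_trans ?_ (Subgroup.centralizer_le_normalizer _)
    intro s hs
    rw [Subgroup.mem_centralizer_iff]
    intro d hd
    exact hcomm d hd.1 s hs
  have hTcomm : ∀ a ∈ T, ∀ b ∈ T, a * b = b * a := by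
    intro a ha b hb
    rw [hT, mem_conj_smul_iff'] at ha hb
    have := hcomm _ ha _ hb
    have e1 : a * b = g₀ * ((g₀⁻¹ * a * g₀) * (g₀⁻¹ * b * g₀)) * g₀⁻¹ := by group
    have e2 : b * a = g₀ * ((g₀⁻¹ * b * g₀) * (g₀⁻¹ * a * g₀)) * g₀⁻¹ := by group
    rw [e1, e2, this]
  have hTN : T ≤ Subgroup.normalizer (D : Set G) := by
    refine le_trans ?_ (Subgroup.centralizer_le_normalizer _)
    intro s hs
    rw [Subgroup.mem_centralizer_iff]
    intro d hd
    exact hTcomm d hd.2 s hs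
  set N : Subgroup G := Subgroup.normalizer (D : Set G) with hN
  have hRp : IsPGroup p ↥(MulAut.conj r • (S : Subgroup G) ⊓ N : Subgroup G) := by
    have : IsPGroup p ↥(MulAut.conj r • (S : Subgroup G)) := by
      have := (r • S).isPGroup'
      rwa [Sylow.coe_subgroup_smul] at this
    exact this.to_le inf_le_left
  obtain ⟨n, hnN, hn⟩ := pgroup_le_conj_sylow_in_subgroup S N _ hSN inf_le_right hRp
  have hnD : MulAut.conj n • D = D := (mem_normalizer_iff_conj_smul n D).mp hnN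
  have hnN' : MulAut.conj n • N = N := by
    apply (mem_normalizer_iff_conj_smul n N).mp
    exact Subgroup.le_normalizer hnN
  have h1 : MulAut.conj n • (S : Subgroup G) ⊓ MulAut.conj n • T = D := by
    rw [← Subgroup.smul_inf, hnD]
  have hT1N : MulAut.conj n • T ≤ N := by
    rw [← hnN']
    exact Subgroup.pointwise_smul_le_pointwise_smul_iff.mpr hTN
  have h2 : MulAut.conj r • (S : Subgroup G) ⊓ MulAut.conj n • T ≤ D := by
    intro x hx
    rw [← h1]
    exact ⟨hn ⟨hx.1, hT1N hx.2⟩, hx.2⟩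
  have h3 : Nat.card D ≤ Nat.card ↥(MulAut.conj r • (S : Subgroup G) ⊓ MulAut.conj n • T : Subgroup G) := by
    have e : MulAut.conj r • (S : Subgroup G) ⊓ MulAut.conj n • T
        = MulAut.conj r • ((S : Subgroup G) ⊓ MulAut.conj (r⁻¹ * n * g₀) • (S : Subgroup G)) := by
      rw [Subgroup.smul_inf, hT, ← mul_smul, ← mul_smul, ← map_mul, ← map_mul]
      congr 3
      group
    rw [e, card_conj_smul]
    exact hmin _
  have h4 : MulAut.conj r • (S : Subgroup G) ⊓ MulAut.conj n • T = D :=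
    Subgroup.eq_of_le_of_card_ge h2 h3
  rw [← h4]
  exact inf_le_left

end Cfsg.Agent.Lib.Lead
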