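import Mathlib
import Cfsg.Prelude.Def_LieExceptional
import Cfsg.Prelude.Def_Solvable
import Cfsg.Agent.S0035

set_option autoImplicit false

/-! Zassenhaus groups: nontrivial normal subgroups are Zassenhaus groups. -/

namespace Cfsg.Agent.Lib.Lead

namespace Zass

open MulAction
open scoped Pointwise

section frob
variable {A X : Type*} [Group A] [Finite A] [MulAction A X]

/-- Frobenius' theorem for a group action with a point stabilizer that is a Frobenius
complement -/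
theorem frob_action (x₀ : X) (h1 : stabilizer A x₀ ≠ ⊥) (h2 : stabilizer A x₀ ≠ ⊤)
    (h3 : ∀ g : A, g • x₀ ≠ x₀ → ∀ h : A, h • x₀ = x₀ → h • (g • x₀) = g • x₀ → h = 1) :
    ∃ K : Subgroup A, K.Normal ∧ (∀ k ∈ K, k ≠ 1 → ∀ g : A, k • (g • x₀) ≠ g • x₀) ∧
      (∀ k : A, (∀ g : A, k • (g • x₀) ≠ g • x₀) → k ∈ K) ∧
      (∀ g : A, ∃ k ∈ K, ∃ h ∈ stabilizer A x₀, g = k * h) := by
  have hconj : ∀ (g x : A), x ∈ MulAut.conj g • stabilizer A x₀ ↔ x • (g • x₀) = g • x₀ := by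
    intro g x
    rw [Subgroup.mem_pointwise_smul_iff_inv_smul_mem, mem_stabilizer_iff]
    have : (MulAut.conj g)⁻¹ • x = g⁻¹ * x * g := by
      rw [MulAut.smul_def, MulAut.conj_inv_apply]
    rw [this, mul_smul, mul_smul, inv_smul_eq_iff]
  have hF : Cfsg.IsFrobeniusComplement (stabilizer A x₀) := by
    refine ⟨h1, h2, ?_⟩
    intro g hg
    rw [mem_stabilizer_iff] at hg
    rw [eq_bot_iff]
    intro x hx
    rw [Subgroup.mem_inf, hconj, mem_stabilizer_iff] at hx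
    rw [Subgroup.mem_bot]
    exact h3 g hg x hx.1 hx.2
  obtain ⟨K, hKset, hKn, hKc⟩ := Cfsg.Agent.S0035.result (stabilizer A x₀) hF
  have hKmem : ∀ k : A, k ∈ K ↔ k = 1 ∨ ∀ g : A, k ∉ MulAut.conj g • stabilizer A x₀ := by
    intro k
    have : k ∈ (K : Set A) ↔ k ∈ Cfsg.frobeniusKernel (stabilizer A x₀) := by rw [hKset]
    exact this
  refine ⟨K, hKn, ?_, ?_, ?_⟩
  · intro k hk hk1 g hfix
    rcases (hKmem k).mp hk with h | h
    · exact hk1 h
    · exact h g ((hconj g k).mpr hfix)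
  · intro k hk
    rw [hKmem]
    right
    intro g hmem
    exact hk g ((hconj g k).mp hmem)
  · intro g
    obtain ⟨⟨k, h⟩, hkh, -⟩ := hKc.existsUnique g
    exact ⟨k.1, k.2, h.1, h.2, hkh.symm⟩

end frob

section zass
variable {G Ω : Type*} [Group G] [MulAction G Ω]

/-- elementwise form of the Zassenhaus conditions (without the two-point condition) -/
structure ZData (G Ω : Type*) [Group G] [MulAction G Ω] : Prop where
  faith : ∀ g : G, (∀ x : Ω, g • x = x) → g = 1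
  two : ∀ {a b c d : Ω}, a ≠ b → c ≠ d → ∃ g : G, g • a = c ∧ g • b = d
  three : ∀ g : G, ∀ a b c : Ω, a ≠ b → b ≠ c → a ≠ c → g • a = a → g • b = b → g • c = c →
    g = 1
  noreg : ∀ N : Subgroup G, N.Normal → (∀ x y : Ω, ∃ n ∈ N, n • x = y) →
    ∃ a : Ω, ∃ n ∈ N, n ≠ 1 ∧ n • a = a

theorem zdata_of (hZ : Cfsg.IsZassenhausGroup G Ω) : ZData G Ω := by
  obtain ⟨hfaith, h2, h3, -, h5⟩ := hZ
  refine ⟨?_, ?_, h3, ?_⟩
  · intro g hg
    apply hfaith.eq_of_smul_eq_smul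
    intro x
    rw [hg x, one_smul]
  · intro a b c d hab hcd
    exact (is_two_pretransitive_iff.mp h2) hab hcd
  · intro N hN htr
    have hpre : IsPretransitive N Ω := by
      constructor
      intro x y
      obtain ⟨n, hn, h⟩ := htr x y
      exact ⟨⟨n, hn⟩, h⟩
    obtain ⟨a, ha⟩ := h5 N hN hpre
    obtain ⟨⟨n, hn⟩, hn1⟩ := (Subgroup.ne_bot_iff_exists_ne_one).mp ha
    refine ⟨a, (n : G), n.2, ?_, ?_⟩
    · intro h
      apply hn1
      apply Subtype.ext
      apply Subtype.ext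
      exact h
    · exact hn

theorem trans_of_normal (Z : ZData G Ω) (N : Subgroup G) [hNn : N.Normal] (hN : N ≠ ⊥) :
    ∀ x y : Ω, ∃ n ∈ N, n • x = y := by
  obtain ⟨⟨n₀, hn₀⟩, hne⟩ := (Subgroup.ne_bot_iff_exists_ne_one).mp hN
  have hn₀1 : n₀ ≠ 1 := fun h => hne (Subtype.ext h)
  obtain ⟨c, hc⟩ : ∃ c : Ω, n₀ • c ≠ c := by
    by_contra hcon
    push Not at hcon
    exact hn₀1 (Z.faith n₀ hcon)
  intro x y
  by_cases hxy : x = y
  · exact ⟨1, N.one_mem, by rw [one_smul, hxy]⟩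
  · obtain ⟨g, hg1, hg2⟩ := Z.two (Ne.symm hc) hxy
    refine ⟨g * n₀ * g⁻¹, hNn.conj_mem n₀ hn₀ g, ?_⟩
    rw [mul_smul, mul_smul, ← hg1, inv_smul_smul, hg2]

/-- the case where `N` acts as a Frobenius group is impossible -/
theorem caseI (Z : ZData G Ω) [Finite G] (N : Subgroup G) [hNn : N.Normal] (hN : N ≠ ⊥)
    (hfree : ∀ n ∈ N, ∀ a b : Ω, a ≠ b → n • a = a → n • b = b → n = 1)
    (hΩ : ∃ a b : Ω, a ≠ b) : False := by
  have htr := trans_of_normal Z N hN
  obtain ⟨a, n₁, hn₁, hn₁1, hn₁a⟩ := Z.noreg N hNn htr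
  have h1 : stabilizer N a ≠ ⊥ := by
    rw [Subgroup.ne_bot_iff_exists_ne_one]
    refine ⟨⟨⟨n₁, hn₁⟩, hn₁a⟩, ?_⟩
    intro h
    apply hn₁1
    have := congrArg (fun z : stabilizer N a => ((z : N) : G)) h
    exact this
  obtain ⟨y, hy⟩ : ∃ y : Ω, y ≠ a := by
    obtain ⟨u, v, huv⟩ := hΩ
    by_cases h : u = a
    · exact ⟨v, fun hv => huv (by rw [h, hv])⟩
    · exact ⟨u, h⟩
  have h2 : stabilizer N a ≠ ⊤ := by
    intro h
    obtain ⟨n', hn', hn'a⟩ := htr a y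
    have : (⟨n', hn'⟩ : N) ∈ stabilizer N a := by rw [h]; exact Subgroup.mem_top _
    rw [mem_stabilizer_iff] at this
    apply hy
    rw [← hn'a]
    exact this
  have h3 : ∀ g : N, g • a ≠ a → ∀ h : N, h • a = a → h • (g • a) = g • a → h = 1 := by
    intro g hg h hha hhg
    apply Subtype.ext
    exact hfree (h : G) h.2 a (g • a) (Ne.symm hg) hha hhg
  obtain ⟨K, hKn, hK1, hK2, hK3⟩ := frob_action (A := N) a h1 h2 h3
  -- every point is `n • a`
  have hpt : ∀ x : Ω, ∃ n : N, n • a = x := by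
    intro x
    obtain ⟨n, hn, h⟩ := htr a x
    exact ⟨⟨n, hn⟩, h⟩
  have hKfree : ∀ k ∈ K, k ≠ 1 → ∀ x : Ω, k • x ≠ x := by
    intro k hk hk1 x
    obtain ⟨n, rfl⟩ := hpt x
    exact hK1 k hk hk1 n
  have hKn' : (K.map N.subtype).Normal := by
    constructor
    rintro _ ⟨k, hk, rfl⟩ g
    have hmem : g * (k : G) * g⁻¹ ∈ N := hNn.conj_mem _ k.2 g
    refine ⟨⟨g * (k : G) * g⁻¹, hmem⟩, ?_, rfl⟩
    by_cases hk1 : k = 1
    · have : (⟨g * (k : G) * g⁻¹, hmem⟩ : N) = 1 := by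
        apply Subtype.ext
        show g * (k : G) * g⁻¹ = 1
        rw [hk1, Subgroup.coe_one, mul_one, mul_inv_cancel]
      rw [this]; exact K.one_mem
    · apply hK2
      intro g' hfix
      have hfix' : (g * (k : G) * g⁻¹) • ((g' : G) • a) = (g' : G) • a := hfix
      rw [mul_smul, mul_smul, smul_eq_iff_eq_inv_smul] at hfix'
      exact hKfree k hk hk1 _ hfix'
  have hKa : ∀ x : Ω, ∃ k ∈ K, (k : G) • a = x := by
    intro x
    obtain ⟨n, hn⟩ := hpt x
    obtain ⟨k, hk, h, hh, rfl⟩ := hK3 n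
    refine ⟨k, hk, ?_⟩
    rw [mem_stabilizer_iff] at hh
    rw [← hn, mul_smul, hh]
    rfl
  have hKtr : ∀ x y : Ω, ∃ m ∈ K.map N.subtype, m • x = y := by
    intro x y
    obtain ⟨k₁, hk₁, rfl⟩ := hKa x
    obtain ⟨k₂, hk₂, rfl⟩ := hKa y
    refine ⟨((k₂ * k₁⁻¹ : N) : G), ⟨k₂ * k₁⁻¹, K.mul_mem hk₂ (K.inv_mem hk₁), rfl⟩, ?_⟩
    rw [Subgroup.coe_mul, Subgroup.coe_inv, mul_smul, inv_smul_smul]
  obtain ⟨x, m, ⟨k, hk, rfl⟩, hm1, hmx⟩ := Z.noreg _ hKn' hKtr
  have hk1 : k ≠ 1 := by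
    intro h
    apply hm1
    rw [h]; rfl
  exact hKfree k hk hk1 x hmx

/-- a non-identity element of `N` fixing two points forces `N_a` to be transitive off `a` -/
theorem caseII (Z : ZData G Ω) [Finite G] (N : Subgroup G) [hNn : N.Normal] {a b : Ω}
    (hab : a ≠ b) {n₁ : G} (hn₁ : n₁ ∈ N) (hn₁1 : n₁ ≠ 1) (ha : n₁ • a = a) (hb : n₁ • b = b) :
    ∀ x : Ω, x ≠ a → ∃ n ∈ N, n • a = a ∧ n • b = x := by
  obtain ⟨c, hc⟩ : ∃ c : Ω, n₁ • c ≠ c := by
    by_contra hcon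
    push Not at hcon
    exact hn₁1 (Z.faith n₁ hcon)
  have hca : c ≠ a := by
    intro h; apply hc; rw [h]; exact ha
  have hcb : c ≠ b := by
    intro h; apply hc; rw [h]; exact hb
  let h₁ : stabilizer G a := ⟨n₁, ha⟩
  have hh₁b : h₁ • b = b := hb
  have h1 : stabilizer (stabilizer G a) b ≠ ⊥ := by
    rw [Subgroup.ne_bot_iff_exists_ne_one]
    refine ⟨⟨h₁, hh₁b⟩, ?_⟩
    intro h
    apply hn₁1
    have := congrArg (fun z : stabilizer (stabilizer G a) b => ((z : stabilizer G a) : G)) h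
    exact this
  have h2 : stabilizer (stabilizer G a) b ≠ ⊤ := by
    intro h
    obtain ⟨g, hga, hgb⟩ := Z.two hab (Ne.symm hca)
    have : (⟨g, hga⟩ : stabilizer G a) ∈ stabilizer (stabilizer G a) b := by
      rw [h]; exact Subgroup.mem_top _
    rw [mem_stabilizer_iff] at this
    apply hcb
    rw [← hgb]
    exact this
  have h3 : ∀ g : stabilizer G a, g • b ≠ b → ∀ h : stabilizer G a, h • b = b →
      h • (g • b) = g • b → h = 1 := by
    intro g hg h hhb hhg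
    apply Subtype.ext
    have hga : (g : G) • a = a := g.2
    have hne : a ≠ (g : G) • b := by
      intro h'
      apply hab
      have : (g : G) • a = (g : G) • b := by rw [hga]; exact h'
      exact smul_left_cancel _ this
    exact Z.three (h : G) a b ((g : G) • b) hab (Ne.symm hg) hne h.2 hhb hhg
  obtain ⟨K, hKn, hK1, hK2, hK3⟩ := frob_action (A := stabilizer G a) b h1 h2 h3
  -- the commutator map
  let φ : K → K := fun k =>
    ⟨(k : stabilizer G a) * (h₁ * (k : stabilizer G a)⁻¹ * h₁⁻¹),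
      K.mul_mem k.2 (hKn.conj_mem _ (K.inv_mem k.2) h₁)⟩
  have hφinj : Function.Injective φ := by
    intro k k' hkk
    have heq : (k : stabilizer G a) * (h₁ * (k : stabilizer G a)⁻¹ * h₁⁻¹) =
        (k' : stabilizer G a) * (h₁ * (k' : stabilizer G a)⁻¹ * h₁⁻¹) :=
      congrArg Subtype.val hkk
    obtain ⟨u, hu⟩ : ∃ u : stabilizer G a, u = (k' : stabilizer G a)⁻¹ * k := ⟨_, rfl⟩
    have hucomm : u * h₁ = h₁ * u := by
      have e1 : (k : stabilizer G a) * h₁ * (k : stabilizer G a)⁻¹ =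
          (k' : stabilizer G a) * h₁ * (k' : stabilizer G a)⁻¹ := by
        have := congrArg (fun z => z * h₁) heq
        simp only [mul_assoc, inv_mul_cancel, mul_one] at this
        simpa [mul_assoc] using this
      have e2 : u * h₁ = (k' : stabilizer G a)⁻¹ *
          ((k : stabilizer G a) * h₁ * (k : stabilizer G a)⁻¹) * k := by
        rw [hu]; group
      rw [e2, e1, hu]; group
    have huK : u ∈ K := by rw [hu]; exact K.mul_mem (K.inv_mem k'.2) k.2
    have hub : u • b = b := by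
      by_contra hne
      have hfix : h₁ • (u • b) = u • b := by
        rw [← mul_smul, ← hucomm, mul_smul, hh₁b]
      have := h3 u hne h₁ hh₁b hfix
      apply hn₁1
      exact congrArg Subtype.val this
    have hu1 : u = 1 := by
      by_contra hne
      have := hK1 u huK hne 1
      rw [one_smul] at this
      exact this hub
    apply Subtype.ext
    have : (k : stabilizer G a) = k' * u := by rw [hu]; group
    rw [this, hu1, mul_one]
  have hφsurj : Function.Surjective φ := Finite.injective_iff_surjective.mp hφinj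
  have hKN : ∀ k ∈ K, (k : G) ∈ N := by
    intro k hk
    obtain ⟨k', hk'⟩ := hφsurj ⟨k, hk⟩
    have h4 : (k : G) = ((k' : stabilizer G a) : G) * (n₁ * ((k' : stabilizer G a) : G)⁻¹ * n₁⁻¹) := by
      have := congrArg (fun z : K => ((z : stabilizer G a) : G)) hk'
      exact this.symm
    have h5 : ((k' : stabilizer G a) : G) * (n₁ * ((k' : stabilizer G a) : G)⁻¹ * n₁⁻¹) =
        (((k' : stabilizer G a) : G) * n₁ * ((k' : stabilizer G a) : G)⁻¹) * n₁⁻¹ := by group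
    rw [h4, h5]
    exact N.mul_mem (hNn.conj_mem n₁ hn₁ _) (N.inv_mem hn₁)
  intro x hxa
  obtain ⟨g, hga, hgb⟩ := Z.two hab (Ne.symm hxa)
  obtain ⟨k, hk, h, hh, hkh⟩ := hK3 ⟨g, hga⟩
  rw [mem_stabilizer_iff] at hh
  refine ⟨(k : G), hKN k hk, k.2, ?_⟩
  have h6 : g = (k : G) * (h : G) := congrArg Subtype.val hkh
  have hhb : (h : G) • b = b := hh
  rw [← hgb, h6, mul_smul, hhb]

/-- the two-point transitivity of `N` -/
theorem two_of (Z : ZData G Ω) [Finite G] (N : Subgroup G) [hNn : N.Normal] (hN : N ≠ ⊥)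
    {a b : Ω} (hT : ∀ x : Ω, x ≠ a → ∃ n ∈ N, n • a = a ∧ n • b = x) :
    ∀ {x y x' y' : Ω}, x ≠ y → x' ≠ y' → ∃ n ∈ N, n • x = x' ∧ n • y = y' := by
  have htr := trans_of_normal Z N hN
  have key : ∀ {x y : Ω}, x ≠ y → ∃ n ∈ N, n • a = x ∧ n • b = y := by
    intro x y hxy
    obtain ⟨n₂, hn₂, hn₂a⟩ := htr a x
    have hne : n₂⁻¹ • y ≠ a := by
      intro h
      apply hxy
      rw [← hn₂a, ← h, smul_inv_smul]
    obtain ⟨n₃, hn₃, hn₃a, hn₃b⟩ := hT _ hne
    refine ⟨n₂ * n₃, N.mul_mem hn₂ hn₃, ?_, ?_⟩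
    · rw [mul_smul, hn₃a, hn₂a]
    · rw [mul_smul, hn₃b, smul_inv_smul]
  intro x y x' y' hxy hxy'
  obtain ⟨n, hn, hna, hnb⟩ := key hxy
  obtain ⟨n', hn', hna', hnb'⟩ := key hxy'
  refine ⟨n' * n⁻¹, N.mul_mem hn' (N.inv_mem hn), ?_, ?_⟩
  · rw [mul_smul, ← hna, inv_smul_smul, hna']
  · rw [mul_smul, ← hnb, inv_smul_smul, hnb']

end zass

end Zass

end Cfsg.Agent.Lib.Lead
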