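import Mathlib
import Cfsg.Agent.Lib.Lead.Zass1

set_option autoImplicit false

/-! Zassenhaus groups: regular normal subgroups of a normal subgroup. -/

namespace Cfsg.Agent.Lib.Lead

namespace Zass

open MulAction
open scoped Pointwise

section reg
variable {G : Type*} [Group G]

/-- `M` is a regular subgroup normalized by `N` -/
structure RegNormal (Ω : Type*) [MulAction G Ω] (N M : Subgroup G) : Prop where
  le : M ≤ N
  norm : ∀ n ∈ N, ∀ m ∈ M, n * m * n⁻¹ ∈ M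
  trans : ∀ x y : Ω, ∃ m ∈ M, m • x = y
  free : ∀ m ∈ M, ∀ x : Ω, m • x = x → m = 1

variable {Ω : Type*} [MulAction G Ω]

theorem RegNormal.conj {N M : Subgroup G} [hNn : N.Normal] (R : RegNormal Ω N M) (g : G) :
    RegNormal Ω N (M.map (MulAut.conj g).toMonoidHom) := by
  have hmem : ∀ x : G, x ∈ M.map (MulAut.conj g).toMonoidHom ↔ ∃ m ∈ M, g * m * g⁻¹ = x := by
    intro x
    rw [Subgroup.mem_map]
    rfl
  refine ⟨?_, ?_, ?_, ?_⟩
  · intro x hx
    obtain ⟨m, hm, rfl⟩ := (hmem x).mp hx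
    exact hNn.conj_mem m (R.le hm) g
  · intro n hn x hx
    obtain ⟨m, hm, rfl⟩ := (hmem x).mp hx
    rw [hmem]
    have h1 : g⁻¹ * n * g ∈ N := by
      have := hNn.conj_mem n hn g⁻¹
      rwa [inv_inv] at this
    refine ⟨(g⁻¹ * n * g) * m * (g⁻¹ * n * g)⁻¹, R.norm _ h1 m hm, ?_⟩
    group
  · intro x y
    obtain ⟨m, hm, hxy⟩ := R.trans (g⁻¹ • x) (g⁻¹ • y)
    refine ⟨g * m * g⁻¹, (hmem _).mpr ⟨m, hm, rfl⟩, ?_⟩
    rw [mul_smul, mul_smul, hxy, smul_inv_smul]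
  · intro x hx y hxy
    obtain ⟨m, hm, rfl⟩ := (hmem x).mp hx
    rw [mul_smul, mul_smul, smul_eq_iff_eq_inv_smul] at hxy
    have := R.free m hm _ hxy
    rw [this, mul_one, mul_inv_cancel]

end reg

section main
variable {G Ω : Type*} [Group G] [MulAction G Ω]

/-- conjugacy of the non-identity elements of a regular normal subgroup -/
theorem conj_trans (N : Subgroup G) {a b : Ω}
    (hT : ∀ x : Ω, x ≠ a → ∃ n ∈ N, n • a = a ∧ n • b = x) {M : Subgroup G}
    (R : RegNormal Ω N M) {m m' : G} (hm : m ∈ M) (hm1 : m ≠ 1) (hm' : m' ∈ M) (hm'1 : m' ≠ 1) :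
    ∃ n ∈ N, n * m * n⁻¹ = m' := by
  have hma : m • a ≠ a := fun h => hm1 (R.free m hm a h)
  have hm'a : m' • a ≠ a := fun h => hm'1 (R.free m' hm' a h)
  obtain ⟨n₃, hn₃, hn₃a, hn₃b⟩ := hT _ hma
  obtain ⟨n₄, hn₄, hn₄a, hn₄b⟩ := hT _ hm'a
  have hnN : n₄ * n₃⁻¹ ∈ N := N.mul_mem hn₄ (N.inv_mem hn₃)
  refine ⟨n₄ * n₃⁻¹, hnN, ?_⟩
  have hna : (n₄ * n₃⁻¹) • a = a := by
    rw [mul_smul, inv_smul_eq_iff.mpr hn₃a.symm, hn₄a]
  have hnia : (n₄ * n₃⁻¹)⁻¹ • a = a := by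
    rw [inv_smul_eq_iff, hna]
  have hconj : ((n₄ * n₃⁻¹) * m * (n₄ * n₃⁻¹)⁻¹) • a = m' • a := by
    rw [mul_smul, mul_smul, hnia, ← hn₃b, mul_smul, inv_smul_smul, hn₄b]
  have hu : m'⁻¹ * ((n₄ * n₃⁻¹) * m * (n₄ * n₃⁻¹)⁻¹) = 1 := by
    apply R.free _ (M.mul_mem (M.inv_mem hm') (R.norm _ hnN m hm)) a
    rw [mul_smul, hconj, inv_smul_smul]
  have : (n₄ * n₃⁻¹) * m * (n₄ * n₃⁻¹)⁻¹ =
      m' * (m'⁻¹ * ((n₄ * n₃⁻¹) * m * (n₄ * n₃⁻¹)⁻¹)) := by group
  rw [this, hu, mul_one]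

/-- a regular normal subgroup is abelian -/
theorem reg_abelian [Finite G] (N : Subgroup G) {a b : Ω}
    (hT : ∀ x : Ω, x ≠ a → ∃ n ∈ N, n • a = a ∧ n • b = x) {M : Subgroup G}
    (R : RegNormal Ω N M) : ∀ m ∈ M, ∀ m' ∈ M, m * m' = m' * m := by
  classical
  by_cases hM : M = ⊥
  · intro m hm m' hm'
    rw [hM, Subgroup.mem_bot] at hm hm'
    rw [hm, hm']
  · have hcard : Nat.card M ≠ 1 := by
      intro h
      exact hM (Subgroup.card_eq_one.mp h)
    obtain ⟨p, hp, hpd⟩ := Nat.exists_prime_and_dvd hcard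
    haveI : Fact p.Prime := ⟨hp⟩
    obtain ⟨x, hx⟩ := exists_prime_orderOf_dvd_card' p hpd
    have hxo : orderOf (x : G) = p := by rw [Subgroup.orderOf_coe]; exact hx
    have hx1 : (x : G) ≠ 1 := by
      intro h
      rw [h, orderOf_one] at hxo
      exact hp.one_lt.ne hxo
    have hpow : ∀ m ∈ M, m ^ p = 1 := by
      intro m hm
      by_cases hm1 : m = 1
      · rw [hm1, one_pow]
      · obtain ⟨n, _, hn⟩ := conj_trans N hT R x.2 hx1 hm hm1
        rw [← hn, conj_pow, ← hxo, pow_orderOf_eq_one, mul_one, mul_inv_cancel]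
    have hPG : IsPGroup p M := by
      intro m
      refine ⟨1, ?_⟩
      apply Subtype.ext
      rw [pow_one, Subgroup.coe_pow, hpow _ m.2, Subgroup.coe_one]
    haveI : Nontrivial M := (Subgroup.nontrivial_iff_ne_bot M).mpr hM
    haveI : Nontrivial (Subgroup.center M) := hPG.center_nontrivial
    obtain ⟨⟨z, hz⟩, hz1⟩ := exists_ne (1 : Subgroup.center M)
    have hz1' : (z : G) ≠ 1 := by
      intro h
      apply hz1
      apply Subtype.ext
      apply Subtype.ext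
      exact h
    have hzc : ∀ m ∈ M, m * (z : G) = (z : G) * m := by
      intro m hm
      have := Subgroup.mem_center_iff.mp hz ⟨m, hm⟩
      exact congrArg Subtype.val this
    intro m hm m' hm'
    by_cases hm1 : m = 1
    · rw [hm1, one_mul, mul_one]
    · obtain ⟨n, hn, hnz⟩ := conj_trans N hT R z.2 hz1' hm hm1
      have h1 : n⁻¹ * m' * n ∈ M := by
        have := R.norm n⁻¹ (N.inv_mem hn) m' hm'
        rwa [inv_inv] at this
      have h2 := hzc _ h1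
      rw [← hnz]
      have e1 : n * (z : G) * n⁻¹ * m' = n * ((z : G) * (n⁻¹ * m' * n)) * n⁻¹ := by group
      have e2 : m' * (n * (z : G) * n⁻¹) = n * ((n⁻¹ * m' * n) * (z : G)) * n⁻¹ := by group
      rw [e1, e2, h2]

/-- an abelian regular subgroup is self-centralizing -/
theorem reg_self_centralizing (Z : ZData G Ω) (N : Subgroup G) {M : Subgroup G}
    (R : RegNormal Ω N M) (hab : ∀ m ∈ M, ∀ m' ∈ M, m * m' = m' * m) (a : Ω) {c : G}
    (hc : ∀ m ∈ M, c * m = m * c) : c ∈ M := by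
  obtain ⟨m, hm, hma⟩ := R.trans a (c • a)
  have hu : m⁻¹ * c = 1 := by
    apply Z.faith
    intro x
    obtain ⟨m', hm', rfl⟩ := R.trans a x
    have e1 : (m⁻¹ * c) * m' = m' * (m⁻¹ * c) := by
      rw [mul_assoc, hc m' hm', ← mul_assoc, ← mul_assoc]
      have := hab m⁻¹ (M.inv_mem hm) m' hm'
      rw [this]
    rw [← mul_smul, e1, mul_smul, mul_smul, ← hma, inv_smul_smul]
  have : c = m * (m⁻¹ * c) := by group
  rw [this, hu, mul_one]
  exact hm

/-- uniqueness of the regular normal subgroup -/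
theorem reg_unique (Z : ZData G Ω) [Finite G] (N : Subgroup G) {a b : Ω} (hab : a ≠ b)
    (hT : ∀ x : Ω, x ≠ a → ∃ n ∈ N, n • a = a ∧ n • b = x) {M M' : Subgroup G}
    (R : RegNormal Ω N M) (R' : RegNormal Ω N M') : M = M' := by
  by_cases h : ∃ m ∈ M, m ∈ M' ∧ m ≠ 1
  · obtain ⟨m, hm, hm', hm1⟩ := h
    apply le_antisymm
    · intro m₂ hm₂
      by_cases h1 : m₂ = 1
      · rw [h1]; exact M'.one_mem
      · obtain ⟨n, hn, hnm⟩ := conj_trans N hT R hm hm1 hm₂ h1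
        rw [← hnm]
        exact R'.norm n hn m hm'
    · intro m₂ hm₂
      by_cases h1 : m₂ = 1
      · rw [h1]; exact M.one_mem
      · obtain ⟨n, hn, hnm⟩ := conj_trans N hT R' hm' hm1 hm₂ h1
        rw [← hnm]
        exact R.norm n hn m hm
  · push Not at h
    exfalso
    have habel := reg_abelian N hT R
    have hle : M' ≤ M := by
      intro m' hm'
      apply reg_self_centralizing Z N R habel a
      intro m hm
      have h1 : m' * m * m'⁻¹ * m⁻¹ ∈ M :=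
        M.mul_mem (R.norm m' (R'.le hm') m hm) (M.inv_mem hm)
      have h2 : m' * m * m'⁻¹ * m⁻¹ ∈ M' := by
        have e : m' * m * m'⁻¹ * m⁻¹ = m' * (m * m'⁻¹ * m⁻¹) := by group
        rw [e]
        exact M'.mul_mem hm' (R'.norm m (R.le hm) m'⁻¹ (M'.inv_mem hm'))
      have h3 := h _ h1 h2
      have e : m' * m = (m' * m * m'⁻¹ * m⁻¹) * (m * m') := by group
      rw [e, h3, one_mul]
    obtain ⟨m', hm', hm'a⟩ := R'.trans a b
    have := h m' (hle hm') hm'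
    rw [this, one_smul] at hm'a
    exact hab hm'a

/-- the main theorem: a nontrivial normal subgroup of a Zassenhaus group is a Zassenhaus
group -/
theorem normal_zassenhaus [Finite Ω] (hZ : Cfsg.IsZassenhausGroup G Ω) (N : Subgroup G)
    [hNn : N.Normal] (hN : N ≠ ⊥) : Cfsg.IsZassenhausGroup N Ω := by
  have Z := zdata_of hZ
  obtain ⟨hfaith, h2t, h3, h4, h5⟩ := hZ
  haveI : Finite G := Finite.of_injective (MulAction.toPerm (α := G) (β := Ω))
    MulAction.toPerm_injective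
  obtain ⟨g₀, hg₀1, a₀, b₀, ha₀b₀, -, -⟩ := h4
  -- the key element
  have hex : ∃ n₁ ∈ N, n₁ ≠ 1 ∧ ∃ a b : Ω, a ≠ b ∧ n₁ • a = a ∧ n₁ • b = b := by
    by_contra hcon
    push Not at hcon
    apply caseI Z N hN _ ⟨a₀, b₀, ha₀b₀⟩
    intro n hn a b hab hna hnb
    by_contra hn1
    exact hcon n hn hn1 a b hab hna hnb
  obtain ⟨n₁, hn₁, hn₁1, a, b, hab, hn₁a, hn₁b⟩ := hex
  have hT := caseII Z N hab hn₁ hn₁1 hn₁a hn₁b
  have htwo : ∀ {x y x' y' : Ω}, x ≠ y → x' ≠ y' → ∃ n ∈ N, n • x = x' ∧ n • y = y' :=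
    fun hxy hxy' => two_of Z N hN hT hxy hxy'
  refine ⟨?_, ?_, ?_, ?_, ?_⟩
  · constructor
    intro n n' h
    apply Subtype.ext
    exact hfaith.eq_of_smul_eq_smul h
  · rw [is_two_pretransitive_iff]
    intro x y x' y' hxy hxy'
    obtain ⟨n, hn, h1, h2⟩ := htwo hxy hxy'
    exact ⟨⟨n, hn⟩, h1, h2⟩
  · intro g x y z hxy hyz hxz hx hy hz
    apply Subtype.ext
    exact h3 (g : G) x y z hxy hyz hxz hx hy hz
  · refine ⟨⟨n₁, hn₁⟩, ?_, a, b, hab, hn₁a, hn₁b⟩
    intro h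
    exact hn₁1 (congrArg Subtype.val h)
  · intro M hMn hMtr
    by_contra hcon
    push Not at hcon
    have R : RegNormal Ω N (M.map N.subtype) := by
      refine ⟨?_, ?_, ?_, ?_⟩
      · rintro _ ⟨m, _, rfl⟩
        exact m.2
      · rintro n hn _ ⟨m, hm, rfl⟩
        exact ⟨(⟨n, hn⟩ : N) * m * (⟨n, hn⟩ : N)⁻¹, hMn.conj_mem m hm _, rfl⟩
      · intro x y
        obtain ⟨m, hm⟩ := hMtr.exists_smul_eq x y
        exact ⟨((m : N) : G), ⟨(m : N), m.2, rfl⟩, hm⟩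
      · rintro _ ⟨m, hm, rfl⟩ x hx
        have h1 : (⟨m, hm⟩ : M) ∈ stabilizer M x := hx
        rw [hcon x, Subgroup.mem_bot] at h1
        have h2 : m = 1 := congrArg Subtype.val h1
        rw [h2]; rfl
    have hMn' : (M.map N.subtype).Normal := by
      constructor
      intro m hm g
      have h1 := reg_unique Z N hab hT R (R.conj g)
      rw [h1]
      exact ⟨m, hm, rfl⟩
    obtain ⟨x, m, hm, hm1, hmx⟩ := Z.noreg _ hMn' R.trans
    exact hm1 (R.free m hm x hmx)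

end main

end Zass

end Cfsg.Agent.Lib.Lead
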