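import Mathlib
import Cfsg.Agent.Lib.Lead.Zass2

set_option autoImplicit false

/-! Zassenhaus groups: if the two-point stabilizer has even order `d` then `2d ≥ n - 1`. -/

namespace Cfsg.Agent.Lib.Lead

namespace Zass

open MulAction
open scoped Pointwise

section main
variable {G Ω : Type*} [Group G] [MulAction G Ω]

theorem fix_card_le_two [Fintype Ω] [DecidableEq Ω] (Z : ZData G Ω) {t : G} (ht : t ≠ 1) :
    (Finset.univ.filter (fun x : Ω => t • x = x)).card ≤ 2 := by
  by_contra hcon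
  push Not at hcon
  rw [Finset.two_lt_card] at hcon
  obtain ⟨x, hx, y, hy, z, hz, hxy, hxz, hyz⟩ := hcon
  rw [Finset.mem_filter] at hx hy hz
  exact ht (Z.three t x y z hxy hyz hxz hx.2 hy.2 hz.2)

theorem even_bound [Finite G] [Fintype Ω] (hZ : Cfsg.IsZassenhausGroup G Ω) {a b : Ω}
    (hab : a ≠ b) (heven : Even (Nat.card ↥(stabilizer G a ⊓ stabilizer G b))) :
    Fintype.card Ω - 2 ≤ 2 * Nat.card ↥(stabilizer G a ⊓ stabilizer G b) := by
  classical
  haveI : Fintype G := Fintype.ofFinite G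
  have Z := zdata_of hZ
  haveI : Fact (Nat.Prime 2) := ⟨Nat.prime_two⟩
  obtain ⟨z, hz⟩ := exists_prime_orderOf_dvd_card' 2 (even_iff_two_dvd.mp heven)
  obtain ⟨τ, hτ⟩ : ∃ τ : G, τ = (z : G) := ⟨_, rfl⟩
  have hτo : orderOf τ = 2 := by rw [hτ, Subgroup.orderOf_coe]; exact hz
  have hτ1 : τ ≠ 1 := by
    intro h
    rw [h, orderOf_one] at hτo
    omega
  have hτ2 : τ * τ = 1 := by
    rw [← pow_two, ← hτo]; exact pow_orderOf_eq_one τ
  have hτab : τ • a = a ∧ τ • b = b := by
    have := z.2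
    rw [Subgroup.mem_inf, mem_stabilizer_iff, mem_stabilizer_iff] at this
    rw [hτ]; exact this
  obtain ⟨d, hd⟩ : ∃ d, d = Nat.card ↥(stabilizer G a ⊓ stabilizer G b) := ⟨_, rfl⟩
  rw [← hd]
  -- the finsets
  let I₂ : Finset G := Finset.univ.filter (fun t => t ≠ 1 ∧ t * t = 1 ∧ ∃ x : Ω, t • x = x)
  let P : Finset (Ω × Ω) := (Finset.univ : Finset Ω).offDiag
  have hPmem : ∀ p : Ω × Ω, p ∈ P ↔ p.1 ≠ p.2 := by
    intro p
    simp [P, Finset.mem_offDiag]
  have hPcard : P.card = Fintype.card Ω * Fintype.card Ω - Fintype.card Ω := by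
    simp only [P]
    rw [Finset.offDiag_card, Finset.card_univ]
  have hI₂mem : ∀ t : G, t ∈ I₂ ↔ (t ≠ 1 ∧ t * t = 1 ∧ ∃ x : Ω, t • x = x) := by
    intro t
    simp [I₂]
  -- (1)
  have hg : ∀ p : Ω × Ω, ∃ g : G, p.1 ≠ p.2 → g • a = p.1 ∧ g • b = p.2 := by
    intro p
    by_cases h : p.1 ≠ p.2
    · obtain ⟨g, hg⟩ := Z.two hab h
      exact ⟨g, fun _ => hg⟩
    · exact ⟨1, fun h' => absurd h' h⟩
  choose g hg using hg
  have hconj1 : ∀ x : G, x * τ * x⁻¹ ≠ 1 := by
    intro x h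
    apply hτ1
    have : τ = x⁻¹ * (x * τ * x⁻¹) * x := by group
    rw [this, h]; group
  have hconj2 : ∀ x : G, (x * τ * x⁻¹) * (x * τ * x⁻¹) = 1 := by
    intro x
    have : (x * τ * x⁻¹) * (x * τ * x⁻¹) = x * (τ * τ) * x⁻¹ := by group
    rw [this, hτ2, mul_one, mul_inv_cancel]
  have h1 : P.card ≤ 2 * I₂.card := by
    apply Finset.card_le_mul_card_image_of_maps_to (f := fun p => g p * τ * (g p)⁻¹)
    · intro p hp
      rw [hPmem] at hp
      rw [hI₂mem]
      refine ⟨hconj1 _, hconj2 _, p.1, ?_⟩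
      rw [mul_smul, mul_smul, inv_smul_eq_iff.mpr (hg p hp).1.symm, hτab.1, (hg p hp).1]
    · intro t ht
      rw [hI₂mem] at ht
      have hsub : P.filter (fun p => g p * τ * (g p)⁻¹ = t) ⊆
          (Finset.univ.filter (fun x : Ω => t • x = x)).offDiag := by
        intro p hp
        rw [Finset.mem_filter, hPmem] at hp
        obtain ⟨hp1, hp2⟩ := hp
        rw [Finset.mem_offDiag, Finset.mem_filter, Finset.mem_filter]
        refine ⟨⟨Finset.mem_univ _, ?_⟩, ⟨Finset.mem_univ _, ?_⟩, hp1⟩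
        · rw [← hp2, mul_smul, mul_smul, inv_smul_eq_iff.mpr (hg p hp1).1.symm, hτab.1,
            (hg p hp1).1]
        · rw [← hp2, mul_smul, mul_smul, inv_smul_eq_iff.mpr (hg p hp1).2.symm, hτab.2,
            (hg p hp1).2]
      have hk := fix_card_le_two Z ht.1
      have hcard := Finset.card_le_card hsub
      rw [Finset.offDiag_card] at hcard
      generalize (Finset.univ.filter (fun x : Ω => t • x = x)).card = k at hk hcard
      interval_cases k <;> omega
  -- (2)
  have h2 : I₂.card * (Fintype.card Ω - 2) ≤ P.card * d := by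
    apply Finset.card_mul_le_card_mul (fun (t : G) (p : Ω × Ω) => t • p.1 = p.2)
    · intro t ht
      rw [hI₂mem] at ht
      have hk := fix_card_le_two Z ht.1
      have hsum := Finset.card_filter_add_card_filter_not (s := (Finset.univ : Finset Ω))
        (fun x : Ω => t • x = x)
      rw [Finset.card_univ] at hsum
      have hmov : Fintype.card Ω - 2 ≤ (Finset.univ.filter (fun x : Ω => ¬ t • x = x)).card := by
        omega
      refine le_trans hmov ?_
      apply Finset.card_le_card_of_injOn (fun x => (x, t • x))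
      · intro x hx
        have hx' : ¬ t • x = x := by
          have := Finset.mem_coe.mp hx
          rw [Finset.mem_filter] at this
          exact this.2
        rw [Finset.mem_coe, Finset.mem_bipartiteAbove, hPmem]
        exact ⟨fun h => hx' h.symm, rfl⟩
      · intro x _ y _ hxy
        exact congrArg Prod.fst hxy
    · intro p hp
      rw [hPmem] at hp
      by_cases hemp : (I₂.bipartiteBelow (fun (t : G) (p : Ω × Ω) => t • p.1 = p.2) p) = ∅
      · rw [hemp, Finset.card_empty]; exact Nat.zero_le _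
      · obtain ⟨s₀, hs₀⟩ := Finset.nonempty_iff_ne_empty.mpr hemp
        rw [Finset.mem_bipartiteBelow, hI₂mem] at hs₀
        obtain ⟨⟨-, hs₀2, -⟩, hs₀p⟩ := hs₀
        have hs₀p' : s₀ • p.2 = p.1 := by
          rw [← hs₀p, ← mul_smul, hs₀2, one_smul]
        obtain ⟨g₀, hg₀a, hg₀b⟩ := Z.two hab hp
        have hdcard : d = (Finset.univ.filter
            (fun x : G => x ∈ stabilizer G a ⊓ stabilizer G b)).card := by
          rw [hd, Nat.card_eq_fintype_card, Fintype.card_subtype]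
        rw [hdcard]
        apply Finset.card_le_card_of_injOn (fun t => g₀⁻¹ * (s₀⁻¹ * t) * g₀)
        · intro t ht
          have ht' := Finset.mem_coe.mp ht
          rw [Finset.mem_bipartiteBelow, hI₂mem] at ht'
          obtain ⟨⟨-, ht2, -⟩, htp⟩ := ht'
          have htp' : t • p.2 = p.1 := by
            rw [← htp, ← mul_smul, ht2, one_smul]
          rw [Finset.mem_coe, Finset.mem_filter, Subgroup.mem_inf, mem_stabilizer_iff,
            mem_stabilizer_iff]
          refine ⟨Finset.mem_univ _, ?_, ?_⟩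
          · rw [mul_smul, mul_smul, hg₀a, inv_smul_eq_iff, hg₀a, mul_smul, htp, inv_smul_eq_iff,
              hs₀p]
          · rw [mul_smul, mul_smul, hg₀b, inv_smul_eq_iff, hg₀b, mul_smul, htp', inv_smul_eq_iff,
              hs₀p']
        · intro t _ t' _ htt
          have htt' : g₀⁻¹ * (s₀⁻¹ * t) * g₀ = g₀⁻¹ * (s₀⁻¹ * t') * g₀ := htt
          have e1 : t = s₀ * (g₀ * (g₀⁻¹ * (s₀⁻¹ * t) * g₀) * g₀⁻¹) := by group
          have e2 : t' = s₀ * (g₀ * (g₀⁻¹ * (s₀⁻¹ * t') * g₀) * g₀⁻¹) := by group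
          rw [e1, e2, htt']
  -- (3)
  rw [hPcard] at h1 h2
  by_contra hcon
  push Not at hcon
  obtain ⟨N, hN⟩ : ∃ N, N = Fintype.card Ω := ⟨_, rfl⟩
  rw [← hN] at h1 h2 hcon
  obtain ⟨M, hM⟩ : ∃ M, M = N - 2 := ⟨_, rfl⟩
  rw [← hM] at h2 hcon
  have hN3 : 3 ≤ N := by omega
  obtain ⟨Pc, hPc⟩ : ∃ Pc, Pc = N * N - N := ⟨_, rfl⟩
  rw [← hPc] at h1 h2
  have hPpos : 0 < Pc := by
    rw [hPc]
    apply Nat.sub_pos_of_lt
    nlinarith
  have a1 : Pc * M ≤ 2 * I₂.card * M := Nat.mul_le_mul_right M h1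
  have a2 : Pc * (2 * d + 1) ≤ Pc * M := Nat.mul_le_mul_left Pc (by omega)
  nlinarith [a1, a2, h2, hPpos]

end main

end Zass

end Cfsg.Agent.Lib.Lead
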