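import Mathlib
import Cfsg.Agent.Lib.Lead.Brodkey

set_option autoImplicit false

namespace Cfsg.Agent.Lib.Lead

open scoped Pointwise

variable {G : Type*} [Group G]

/-- a Sylow `p`-subgroup of a `p`-group is everything -/
theorem sylow_eq_top_of_isPGroup {H : Type*} [Group H] {p : ℕ} (hH : IsPGroup p H) (P : Sylow p H) :
    (P : Subgroup H) = ⊤ :=
  (P.is_maximal' (Q := ⊤) (hH.to_subgroup ⊤) le_top).symm

/-- `O_p(G/Φ(G)) ≤ O_p(G)Φ(G)/Φ(G)`. -/
theorem pCore_quotient_frattini_le [Finite G] (p : ℕ) [Fact p.Prime] :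
    Cfsg.pCore p (G ⧸ frattini G) ≤ (Cfsg.pCore p G).map (QuotientGroup.mk' (frattini G)) := by
  classical
  set Φ := frattini G with hΦ
  set Xb : Subgroup (G ⧸ Φ) := Cfsg.pCore p (G ⧸ Φ) with hXb
  set X : Subgroup G := Xb.comap (QuotientGroup.mk' Φ) with hX
  haveI hXbn : Xb.Normal := pCore_normal p
  haveI hXn : X.Normal := hXbn.comap _
  let f : X →* Xb := (QuotientGroup.mk' Φ).subgroupComap Xb
  have hf : Function.Surjective f :=
    MonoidHom.subgroupComap_surjective_of_surjective _ _ (QuotientGroup.mk'_surjective Φ)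
  let P : Sylow p X := default
  have hXbp : IsPGroup p Xb := pCore_isPGroup p
  have h1 : ((P.mapSurjective hf : Sylow p Xb) : Subgroup Xb) = ⊤ := sylow_eq_top_of_isPGroup hXbp _
  rw [Sylow.coe_mapSurjective] at h1
  set P' : Subgroup G := (P : Subgroup X).map X.subtype with hP'
  -- every element of `Xb` is the image of an element of `P'`
  have h2 : ∀ xb ∈ Xb, ∃ y ∈ P', (QuotientGroup.mk' Φ) y = xb := by
    intro xb hxb
    have : (⟨xb, hxb⟩ : Xb) ∈ (P : Subgroup X).map f := by rw [h1]; trivial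
    obtain ⟨y, hy, hyx⟩ := this
    refine ⟨(y : G), ⟨y, hy, rfl⟩, ?_⟩
    have := congrArg Subtype.val hyx
    exact this
  have h3 : X ≤ P' ⊔ Φ := by
    intro x hx
    obtain ⟨y, hy, hyx⟩ := h2 _ hx
    have h4 : y⁻¹ * x ∈ Φ := by
      rw [← QuotientGroup.eq]
      exact hyx
    have : x = y * (y⁻¹ * x) := by group
    rw [this]
    exact Subgroup.mul_mem_sup hy h4
  have h5 : Subgroup.normalizer (P' : Set G) ⊔ X = ⊤ := Sylow.normalizer_sup_eq_top P
  have h6 : Subgroup.normalizer (P' : Set G) ⊔ Φ = ⊤ := by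
    rw [eq_top_iff, ← h5]
    apply sup_le le_sup_left
    refine h3.trans (sup_le ?_ le_sup_right)
    exact le_trans Subgroup.le_normalizer le_sup_left
  have h7 : Subgroup.normalizer (P' : Set G) = ⊤ := frattini_nongenerating h6
  have hP'n : P'.Normal := Subgroup.normalizer_eq_top_iff.mp h7
  have hP'p : IsPGroup p P' := P.isPGroup'.map _
  have h8 : P' ≤ Cfsg.pCore p G := le_pCore hP'n hP'p
  intro xb hxb
  obtain ⟨y, hy, hyx⟩ := h2 xb hxb
  exact ⟨y, h8 hy, hyx⟩

theorem pCore_quotient_frattini [Finite G] (p : ℕ) [Fact p.Prime] :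
    Cfsg.pCore p (G ⧸ frattini G) = (Cfsg.pCore p G).map (QuotientGroup.mk' (frattini G)) := by
  apply le_antisymm (pCore_quotient_frattini_le p)
  haveI : (Cfsg.pCore p G).Normal := pCore_normal p
  apply le_pCore
  · exact Subgroup.Normal.map inferInstance _ (QuotientGroup.mk'_surjective _)
  · exact (pCore_isPGroup p).map _

theorem fittingSubgroup_quotient_frattini [Finite G] :
    Cfsg.fittingSubgroup (G ⧸ frattini G) =
      (Cfsg.fittingSubgroup G).map (QuotientGroup.mk' (frattini G)) := by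
  rw [fittingSubgroup_eq_iSup_pCore, fittingSubgroup_eq_iSup_pCore, Subgroup.map_iSup]
  congr 1
  funext p
  haveI : Fact (p : ℕ).Prime := ⟨p.2⟩
  exact pCore_quotient_frattini (p : ℕ)

end Cfsg.Agent.Lib.Lead
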