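import Mathlib
import Cfsg.Agent.Lib.Lead.FittingFrattini

set_option autoImplicit false

namespace Cfsg.Agent.Lib.Lead

open scoped Pointwise

universe u

section
variable {G : Type u} [Group G] [Finite G]

/-- factorisation of the order of a Hall subgroup -/
theorem factorization_card_of_hall (H : Subgroup G) (hHall : (Nat.card H).Coprime H.index)
    (p : ℕ) (hp : p.Prime) (hpH : p ∣ Nat.card H) :
    (Nat.card G).factorization p = (Nat.card H).factorization p := by
  have h1 : Nat.card G = Nat.card H * H.index := H.card_mul_index.symm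
  have hi : H.index ≠ 0 := Subgroup.index_ne_zero_of_finite
  rw [h1, Nat.factorization_mul Nat.card_pos.ne' hi]
  have h2 : ¬ p ∣ H.index := by
    intro h
    have := Nat.dvd_gcd hpH h
    rw [hHall.gcd_eq_one] at this
    exact hp.one_lt.ne' (Nat.dvd_one.mp this)
  simp [Nat.factorization_eq_zero_of_not_dvd h2]

/-- a Hall subgroup contains a Sylow subgroup of the whole group for each of its primes -/
theorem exists_sylow_le_of_hall (H : Subgroup G) (hHall : (Nat.card H).Coprime H.index)
    (p : ℕ) [hp : Fact p.Prime] (hpH : p ∣ Nat.card H) :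
    ∃ P : Sylow p G, (P : Subgroup G) ≤ H := by
  obtain ⟨K, hK⟩ := Sylow.exists_subgroup_card_pow_prime (G := H) p
    (Nat.ordProj_dvd (Nat.card H) p)
  have hcard : Nat.card (K.map H.subtype) = p ^ (Nat.card G).factorization p := by
    rw [card_map_subtype, hK, factorization_card_of_hall H hHall p hp.out hpH]
  exact ⟨Sylow.ofCard _ hcard, Subgroup.map_subtype_le K⟩

/-- assembly: an abelian Hall subgroup all of whose Sylow subgroups satisfy Burnside's condition
has a normal complement -/
theorem hall_normal_complement_of_sylow (H : Subgroup G) (hHall : (Nat.card H).Coprime H.index)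
    (hB : ∀ (p : ℕ) [Fact p.Prime] (P : Sylow p G), (P : Subgroup G) ≤ H →
      Subgroup.normalizer ((P : Subgroup G) : Set G) ≤ Subgroup.centralizer ((P : Subgroup G) : Set G)) :
    ∃ N : Subgroup G, N.Normal ∧ N.IsComplement' H := by
  classical
  have hH0 : Nat.card H ≠ 0 := Nat.card_pos.ne'
  have key : ∀ p ∈ (Nat.card H).primeFactors, ∃ N : Subgroup G, N.Normal ∧
      N.index = p ^ (Nat.card H).factorization p ∧ ¬ p ∣ Nat.card (N ⊓ H : Subgroup G) := by
    intro p hp
    haveI : Fact p.Prime := ⟨Nat.prime_of_mem_primeFactors hp⟩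
    have hpH : p ∣ Nat.card H := Nat.dvd_of_mem_primeFactors hp
    obtain ⟨P, hPH⟩ := exists_sylow_le_of_hall H hHall p hpH
    have hP := hB p P hPH
    have hc := MonoidHom.ker_transferSylow_isComplement' P hP
    refine ⟨(MonoidHom.transferSylow P hP).ker, MonoidHom.normal_ker _, ?_, ?_⟩
    · rw [hc.symm.index_eq_card, P.card_eq_multiplicity,
        factorization_card_of_hall H hHall p (Nat.prime_of_mem_primeFactors hp) hpH]
    · intro hdvd
      have h1 : Nat.card ((MonoidHom.transferSylow P hP).ker ⊓ H : Subgroup G) ∣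
          Nat.card (MonoidHom.transferSylow P hP).ker := Subgroup.card_dvd_of_le inf_le_left
      rw [← hc.index_eq_card] at h1
      exact P.not_dvd_index (hdvd.trans h1)
  choose N hN using key
  let f : (Nat.card H).primeFactors → Subgroup G := fun p => N p.1 p.2
  refine ⟨⨅ p, f p, ?_, ?_⟩
  · haveI : ∀ p, (f p).Normal := fun p => (hN p.1 p.2).1
    exact Subgroup.normal_iInf_normal inferInstance
  · have hdisj : Disjoint (⨅ p, f p) H := by
      rw [Subgroup.disjoint_def]
      intro x hxN hxH
      rw [← orderOf_eq_one_iff, Nat.eq_one_iff_not_exists_prime_dvd]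
      intro q hq hqx
      have hqH : q ∣ Nat.card H := hqx.trans (Subgroup.orderOf_dvd_natCard H hxH)
      have hqm : q ∈ (Nat.card H).primeFactors := Nat.mem_primeFactors.mpr ⟨hq, hqH, hH0⟩
      have h1 : x ∈ (f ⟨q, hqm⟩ ⊓ H : Subgroup G) :=
        ⟨(Subgroup.mem_iInf.mp hxN) ⟨q, hqm⟩, hxH⟩
      exact (hN q hqm).2.2 (hqx.trans (Subgroup.orderOf_dvd_natCard _ h1))
    apply Subgroup.isComplement'_of_card_mul_and_disjoint _ hdisj
    have h1 : (⨅ p, f p).index ≤ Nat.card H := by
      refine (Subgroup.index_iInf_le f).trans (le_of_eq ?_)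
      have : ∀ p : (Nat.card H).primeFactors, (f p).index = (p : ℕ) ^ (Nat.card H).factorization p :=
        fun p => (hN p.1 p.2).2.1
      simp only [this]
      exact (Nat.prod_primeFactors_coe_pow_factorization hH0).symm
    have h2 := card_mul_card_le (⨅ p, f p) H
    rw [hdisj.eq_bot, Subgroup.card_bot, mul_one] at h2
    have h3 := (⨅ p, f p).card_mul_index
    apply le_antisymm h2
    calc Nat.card G = Nat.card ↥(⨅ p, f p) * (⨅ p, f p).index := h3.symm
      _ ≤ Nat.card ↥(⨅ p, f p) * Nat.card H := Nat.mul_le_mul_left _ h1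

end

end Cfsg.Agent.Lib.Lead
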