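import Mathlib
import Cfsg.Agent.Lib.Lead.HallCentral

set_option autoImplicit false

namespace Cfsg.Agent.Lib.Lead

open scoped Pointwise

universe u

/-- the statement proved by induction on the order -/
def HallCentralProp (n : ℕ) : Prop :=
  ∀ (G : Type u) [Group G] [Finite G], Nat.card G = n → ∀ H : Subgroup G,
    (Nat.card H).Coprime H.index →
    Subgroup.normalizer (H : Set G) ≤ Subgroup.centralizer (H : Set G) →
    ∃ N : Subgroup G, N.Normal ∧ N.IsComplement' H

theorem hallCentral_claim (n : ℕ) (ih : ∀ m < n, HallCentralProp.{u} m)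
    (G : Type u) [Group G] [Finite G] (hn : Nat.card G = n) (H : Subgroup G)
    (hHall : (Nat.card H).Coprime H.index)
    (hNC : Subgroup.normalizer (H : Set G) ≤ Subgroup.centralizer (H : Set G))
    (p : ℕ) [Fact p.Prime] (P : Sylow p G) (hPH : (P : Subgroup G) ≤ H) :
    Subgroup.normalizer ((P : Subgroup G) : Set G) ≤ Subgroup.centralizer ((P : Subgroup G) : Set G) := by
  classical
  set C : Subgroup G := Subgroup.centralizer ((P : Subgroup G) : Set G) with hCdef
  by_cases hC : C = ⊤
  · rw [hC]; exact le_top
  have hHcomm : ∀ a ∈ H, ∀ b ∈ H, a * b = b * a := by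
    intro a ha b hb
    have := hNC (Subgroup.le_normalizer hb)
    exact (Subgroup.mem_centralizer_iff.mp this) a ha
  have hHC : H ≤ C := by
    intro h hh
    rw [hCdef, Subgroup.mem_centralizer_iff]
    intro x hx
    exact hHcomm x (hPH hx) h hh
  have hClt : Nat.card C < n := by
    rw [← hn]
    apply lt_of_le_of_ne (Subgroup.card_le_card_group C)
    intro h
    exact hC (Subgroup.eq_top_of_card_eq C h)
  -- apply the induction hypothesis to `C`
  have hH'card : Nat.card (H.subgroupOf C) = Nat.card H := card_subgroupOf_of_le hHC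
  have hHall' : (Nat.card (H.subgroupOf C)).Coprime (H.subgroupOf C).index := by
    rw [hH'card]
    have h1 : H.relIndex C * C.index = H.index := Subgroup.relIndex_mul_index hHC
    have h2 : (H.subgroupOf C).index ∣ H.index := ⟨C.index, h1.symm⟩
    exact Nat.Coprime.coprime_dvd_right h2 hHall
  have hNC' : Subgroup.normalizer ((H.subgroupOf C : Subgroup C) : Set C) ≤
      Subgroup.centralizer ((H.subgroupOf C : Subgroup C) : Set C) := by
    intro x hx
    have hx' : (x : G) ∈ Subgroup.normalizer (H : Set G) := by
      rw [Subgroup.mem_normalizer_iff]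
      intro h
      constructor
      · intro hh
        have h1 : (⟨h, hHC hh⟩ : C) ∈ H.subgroupOf C := Subgroup.mem_subgroupOf.mpr hh
        have h2 := (Subgroup.mem_normalizer_iff.mp hx _).mp h1
        exact Subgroup.mem_subgroupOf.mp h2
      · intro hh
        have hhC : h ∈ C := by
          have h3 : h = (x : G)⁻¹ * ((x : G) * h * (x : G)⁻¹) * (x : G) := by group
          rw [h3]
          exact C.mul_mem (C.mul_mem (C.inv_mem x.2) (hHC hh)) x.2
        have h1 : x * (⟨h, hhC⟩ : C) * x⁻¹ ∈ H.subgroupOf C := Subgroup.mem_subgroupOf.mpr hh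
        have h2 := (Subgroup.mem_normalizer_iff.mp hx _).mpr h1
        exact Subgroup.mem_subgroupOf.mp h2
    have hxc := hNC hx'
    rw [Subgroup.mem_centralizer_iff]
    intro y hy
    apply Subtype.ext
    exact (Subgroup.mem_centralizer_iff.mp hxc) (y : G) (Subgroup.mem_subgroupOf.mp hy)
  obtain ⟨K₀, hK₀n, hK₀c⟩ := ih _ hClt C rfl (H.subgroupOf C) hHall' hNC'
  set K : Subgroup G := K₀.map C.subtype with hK
  have hKC : K ≤ C := Subgroup.map_subtype_le K₀
  have hKsub : K.subgroupOf C = K₀ :=
    Subgroup.comap_map_eq_self_of_injective C.subtype_injective K₀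
  have hCK : C ≤ Subgroup.normalizer (K : Set G) := by
    rw [← Subgroup.normal_subgroupOf_iff_le_normalizer hKC, hKsub]
    exact hK₀n
  have hKcard : Nat.card K = Nat.card K₀ := card_map_subtype C K₀
  have hcard : Nat.card H * Nat.card K = Nat.card C := by
    rw [hKcard, ← hH'card, mul_comm]
    exact hK₀c.card_mul_card
  have hKdvd : Nat.card K ∣ H.index := by
    have h1 : Nat.card C ∣ Nat.card G := Subgroup.card_subgroup_dvd_card C
    rw [← hcard, ← H.card_mul_index] at h1
    exact Nat.dvd_of_mul_dvd_mul_left Nat.card_pos h1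
  have hcop : (Nat.card H).Coprime (Nat.card K) := Nat.Coprime.coprime_dvd_right hKdvd hHall
  have hsolv : Group.IsSolvable H := by
    apply isSolvable_of_comm
    intro a b
    apply Subtype.ext
    exact hHcomm a a.2 b b.2
  intro g hg
  have hgC : MulAut.conj g • C = C :=
    (mem_normalizer_iff_conj_smul g C).mp (normalizer_le_normalizer_centralizer _ hg)
  have hHgC : MulAut.conj g • H ≤ C := by
    rw [← hgC]
    exact Subgroup.pointwise_smul_le_pointwise_smul_iff.mpr hHC
  obtain ⟨x, hxK, hx⟩ := sz_conj_internal K C H (MulAut.conj g • H) hKC hCK hHC hHgC hcard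
    (card_conj_smul g H) hcop (Or.inr hsolv)
  have h1 : MulAut.conj (x⁻¹ * g) • H = H := by
    rw [map_mul, mul_smul, ← hx, ← mul_smul, ← map_mul, inv_mul_cancel, map_one, one_smul]
  have h2 : x⁻¹ * g ∈ Subgroup.normalizer (H : Set G) := (mem_normalizer_iff_conj_smul _ H).mpr h1
  have h3 : x⁻¹ * g ∈ C := by
    have := hNC h2
    exact Subgroup.centralizer_le (by exact_mod_cast hPH) this
  have h4 : g = x * (x⁻¹ * g) := by group
  rw [h4]
  exact C.mul_mem (hKC hxK) h3

theorem hallCentral_all : ∀ n, HallCentralProp.{u} n := by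
  intro n
  induction n using Nat.strong_induction_on with
  | _ n ih =>
    intro G _ _ hn H hHall hNC
    exact hall_normal_complement_of_sylow H hHall
      (fun p _ P hPH => hallCentral_claim n ih G hn H hHall hNC p P hPH)

end Cfsg.Agent.Lib.Lead
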