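import Mathlib
import Cfsg.Agent.Lib.Lead.HallCentral2

set_option autoImplicit false

namespace Cfsg.Agent.Lib.Lead

open scoped Pointwise
open MulAction Function

variable {G : Type*} [Group G]

open Classical in
/-- the sign character of a subgroup `Q` of index two in `P` -/
noncomputable def signOfIndexTwo (P Q : Subgroup G) (hQi : Q.relIndex P = 2) : P →* ℤˣ where
  toFun := fun x => if (x : G) ∈ Q then 1 else -1
  map_one' := by simp [Q.one_mem]
  map_mul' := by
    intro x y
    have h := Subgroup.mul_mem_iff_of_index_two (H := Q.subgroupOf P) hQi (a := x) (b := y)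
    simp only [Subgroup.mem_subgroupOf, Subgroup.coe_mul] at h
    by_cases hx : (x : G) ∈ Q <;> by_cases hy : (y : G) ∈ Q
    · have : (x : G) * y ∈ Q := h.mpr (by simp [hx, hy])
      simp [hx, hy, this]
    · have : ¬ (x : G) * y ∈ Q := fun hc => hy ((h.mp hc).mp hx)
      simp [hx, hy, this]
    · have : ¬ (x : G) * y ∈ Q := fun hc => hx ((h.mp hc).mpr hy)
      simp [hx, hy, this]
    · have : (x : G) * y ∈ Q := h.mpr (by simp [hx, hy])
      simp [hx, hy, this]

open Classical in
theorem signOfIndexTwo_apply (P Q : Subgroup G) (hQi : Q.relIndex P = 2) (x : P) :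
    signOfIndexTwo P Q hQi x = if (x : G) ∈ Q then 1 else -1 := rfl

theorem thompson_transfer [Finite G] (P : Sylow 2 G) (Q : Subgroup G)
    (hQi : Q.relIndex (P : Subgroup G) = 2) (u : G) (hu : orderOf u = 2)
    (hnc : ∀ g : G, g * u * g⁻¹ ∉ Q) :
    ∃ M : Subgroup G, M.Normal ∧ M.index = 2 ∧ u ∉ M := by
  classical
  let ϕ : (P : Subgroup G) →* ℤˣ := signOfIndexTwo (P : Subgroup G) Q hQi
  let V : G →* ℤˣ := MonoidHom.transfer ϕ
  have hu2 : u ^ 2 = 1 := by rw [← hu]; exact pow_orderOf_eq_one u
  letI : Fintype (Quotient (orbitRel (Subgroup.zpowers u) (G ⧸ (P : Subgroup G)))) :=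
    Fintype.ofFinite _
  have hk : ∀ q : Quotient (orbitRel (Subgroup.zpowers u) (G ⧸ (P : Subgroup G))),
      minimalPeriod (u • ·) q.out ∣ 2 := by
    intro q
    rw [← MulAction.pow_smul_eq_iff_minimalPeriod_dvd, hu2, one_smul]
  have hVu : V u = -1 := by
    show MonoidHom.transfer ϕ u = -1
    rw [MonoidHom.transfer_eq_prod_quotient_orbitRel_zpowers_quot]
    have hfac : ∀ q : Quotient (orbitRel (Subgroup.zpowers u) (G ⧸ (P : Subgroup G))),
        ϕ ⟨q.out.out⁻¹ * u ^ minimalPeriod (u • ·) q.out * q.out.out,
          QuotientGroup.out_conj_pow_minimalPeriod_mem (P : Subgroup G) u q.out⟩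
        = (-1 : ℤˣ) ^ minimalPeriod (u • ·) q.out := by
      intro q
      rw [signOfIndexTwo_apply]
      rcases (Nat.dvd_prime Nat.prime_two).mp (hk q) with h1 | h2
      · simp only [h1, pow_one]
        have := hnc (q.out.out⁻¹)
        rw [inv_inv] at this
        rw [if_neg this]
      · simp only [h2, hu2, mul_one, inv_mul_cancel, Q.one_mem, if_true]
        norm_num
    rw [Finset.prod_congr rfl (fun q _ => hfac q), Finset.prod_pow_eq_pow_sum]
    -- the sum of the periods is the index
    have hsum : ∑ q : Quotient (orbitRel (Subgroup.zpowers u) (G ⧸ (P : Subgroup G))),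
        minimalPeriod (u • ·) q.out = (P : Subgroup G).index := by
      haveI : ∀ q : Quotient (orbitRel (Subgroup.zpowers u) (G ⧸ (P : Subgroup G))),
          Finite (ZMod (minimalPeriod (u • ·) q.out)) := by
        intro q
        haveI : NeZero (minimalPeriod (u • ·) q.out) :=
          ⟨fun h0 => by have := hk q; rw [h0] at this; simp at this⟩
        infer_instance
      have h1 := Nat.card_congr (Subgroup.quotientEquivSigmaZMod (P : Subgroup G) u)
      rw [Nat.card_sigma] at h1
      simp only [Nat.card_zmod] at h1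
      rw [Subgroup.index_eq_card, h1]
    rw [hsum]
    have hodd : Odd (P : Subgroup G).index := by
      rw [← Nat.not_even_iff_odd, even_iff_two_dvd]
      exact P.not_dvd_index
    exact hodd.neg_one_pow
  refine ⟨V.ker, MonoidHom.normal_ker V, ?_, ?_⟩
  · rw [Subgroup.index_ker]
    have hr : V.range = ⊤ := by
      rw [eq_top_iff]
      intro x _
      rcases Int.units_eq_one_or x with h | h
      · rw [h]; exact V.range.one_mem
      · rw [h]; exact ⟨u, hVu⟩
    rw [hr, Subgroup.card_top, Nat.card_eq_fintype_card, Fintype.card_units_int]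
  · intro hmem
    rw [MonoidHom.mem_ker, hVu] at hmem
    exact absurd hmem (by decide)

end Cfsg.Agent.Lib.Lead
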