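import Mathlib
import Cfsg.Agent.Lib.Lead.ThompsonTransfer

set_option autoImplicit false

namespace Cfsg.Agent.Lib.Lead

open scoped Pointwise commutatorElement

variable {P : Type*} [Group P]

/-- central elements of order dividing `p` -/
def omegaCenter (p : ℕ) (Q : Type*) [Group Q] : Subgroup Q where
  carrier := {z | z ∈ Subgroup.center Q ∧ z ^ p = 1}
  one_mem' := ⟨Subgroup.one_mem _, one_pow p⟩
  mul_mem' := by
    rintro a b ⟨ha, ha'⟩ ⟨hb, hb'⟩
    refine ⟨Subgroup.mul_mem _ ha hb, ?_⟩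
    have hc : Commute a b := (Subgroup.mem_center_iff.mp ha b).symm
    rw [hc.mul_pow, ha', hb', one_mul]
  inv_mem' := by
    rintro a ⟨ha, ha'⟩
    exact ⟨Subgroup.inv_mem _ ha, by rw [inv_pow, ha', inv_one]⟩

/-- the candidate critical subgroup attached to a normal subgroup `M` -/
def critOf (p : ℕ) (M : Subgroup P) [M.Normal] : Subgroup P :=
  Subgroup.centralizer (M : Set P) ⊓ (omegaCenter p (P ⧸ M)).comap (QuotientGroup.mk' M)

theorem mk_mem_center_iff (M : Subgroup P) [M.Normal] (x : P) :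
    (x : P ⧸ M) ∈ Subgroup.center (P ⧸ M) ↔ ∀ g : P, ⁅x, g⁆ ∈ M := by
  rw [Subgroup.mem_center_iff]
  constructor
  · intro h g
    have h1 := h (g : P ⧸ M)
    rw [← QuotientGroup.mk_mul, ← QuotientGroup.mk_mul, QuotientGroup.eq_iff_div_mem] at h1
    have h2 : ⁅x, g⁆ = (g * x / (x * g))⁻¹ := by
      rw [commutatorElement_def, div_eq_mul_inv]; group
    rw [h2]
    exact M.inv_mem h1
  · intro h q
    induction q using QuotientGroup.induction_on with
    | H g =>
      rw [← QuotientGroup.mk_mul, ← QuotientGroup.mk_mul, QuotientGroup.eq_iff_div_mem]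
      have h2 : g * x / (x * g) = (⁅x, g⁆)⁻¹ := by
        rw [commutatorElement_def, div_eq_mul_inv]; group
      rw [h2]
      exact M.inv_mem (h g)

theorem mem_critOf_iff (p : ℕ) (M : Subgroup P) [M.Normal] (x : P) :
    x ∈ critOf p M ↔ x ∈ Subgroup.centralizer (M : Set P) ∧ x ^ p ∈ M ∧ ∀ g : P, ⁅x, g⁆ ∈ M := by
  unfold critOf
  rw [Subgroup.mem_inf, Subgroup.mem_comap]
  constructor
  · rintro ⟨h1, h2, h3⟩
    refine ⟨h1, ?_, (mk_mem_center_iff M x).mp h2⟩
    have : ((x ^ p : P) : P ⧸ M) = 1 := h3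
    exact (QuotientGroup.eq_one_iff _).mp this
  · rintro ⟨h1, h2, h3⟩
    refine ⟨h1, (mk_mem_center_iff M x).mpr h3, ?_⟩
    show ((x ^ p : P) : P ⧸ M) = 1
    exact (QuotientGroup.eq_one_iff _).mpr h2

theorem critOf_characteristic (p : ℕ) (M : Subgroup P) [hM : M.Characteristic] :
    (critOf p M).Characteristic := by
  rw [Subgroup.characteristic_iff_map_le]
  intro φ y hy
  obtain ⟨x, hx, rfl⟩ := hy
  have hMφ : ∀ m, m ∈ M → φ m ∈ M := by
    intro m hm
    have := (Subgroup.characteristic_iff_map_le.mp hM) φ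
    exact this ⟨m, hm, rfl⟩
  have hMφ' : ∀ m, m ∈ M → φ.symm m ∈ M := by
    intro m hm
    have := (Subgroup.characteristic_iff_map_le.mp hM) φ.symm
    exact this ⟨m, hm, rfl⟩
  rw [SetLike.mem_coe, mem_critOf_iff] at hx
  obtain ⟨h1, h2, h3⟩ := hx
  show φ x ∈ critOf p M
  rw [mem_critOf_iff]
  refine ⟨?_, ?_, ?_⟩
  · rw [Subgroup.mem_centralizer_iff]
    intro m hm
    have h4 := (Subgroup.mem_centralizer_iff.mp h1) (φ.symm m) (hMφ' m hm)
    have h5 := congrArg φ h4
    simpa using h5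
  · rw [← map_pow]
    exact hMφ _ h2
  · intro g
    have h4 := hMφ _ (h3 (φ.symm g))
    rw [map_commutatorElement] at h4
    simpa using h4

end Cfsg.Agent.Lib.Lead
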