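import Mathlib
import Cfsg.Agent.Lib.Lead.Critical

set_option autoImplicit false

namespace Cfsg.Agent.Lib.Lead

open scoped Pointwise commutatorElement

variable {P : Type*} [Group P]

theorem exists_critical [Finite P] {p : ℕ} [hp : Fact p.Prime] (hP : IsPGroup p P) :
    ∃ H : Subgroup P, H.Characteristic ∧
      (frattini H).map H.subtype ≤ Subgroup.centralizer (H : Set P) ∧
      ⁅H, (⊤ : Subgroup P)⁆ ≤ H ⊓ Subgroup.centralizer (H : Set P) ∧
      Subgroup.centralizer (H : Set P) ≤ H := by
  classical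
  let S := {M : Subgroup P // M.Characteristic ∧ ∀ a ∈ M, ∀ b ∈ M, a * b = b * a}
  haveI : Nonempty S := ⟨⟨⊥, Subgroup.botCharacteristic, by
    intro a ha b hb
    rw [Subgroup.mem_bot] at ha hb
    rw [ha, hb]⟩⟩
  obtain ⟨⟨M, hMc, hMab⟩, hmax⟩ := Finite.exists_max (fun M : S => Nat.card M.1)
  haveI := hMc
  set H : Subgroup P := critOf p M with hH
  have hHc : H.Characteristic := critOf_characteristic p M
  have hMH : M ≤ H := by
    intro m hm
    rw [hH, mem_critOf_iff]
    refine ⟨?_, M.pow_mem hm p, ?_⟩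
    · rw [Subgroup.mem_centralizer_iff]
      intro a ha
      exact hMab a ha m hm
    · intro g
      rw [commutatorElement_def]
      have h1 : g * m⁻¹ * g⁻¹ ∈ M := (inferInstance : M.Normal).conj_mem _ (M.inv_mem hm) g
      have h2 : m * g * m⁻¹ * g⁻¹ = m * (g * m⁻¹ * g⁻¹) := by group
      rw [h2]
      exact M.mul_mem hm h1
  have hHC : H ≤ Subgroup.centralizer (M : Set P) := inf_le_left
  have hMZ : M ≤ Subgroup.centralizer (H : Set P) := by
    intro m hm
    rw [Subgroup.mem_centralizer_iff]
    intro h hh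
    exact ((Subgroup.mem_centralizer_iff.mp (hHC hh)) m hm).symm
  have hZ : H ⊓ Subgroup.centralizer (H : Set P) = M := by
    have h1 : M ≤ H ⊓ Subgroup.centralizer (H : Set P) := le_inf hMH hMZ
    haveI := hHc
    have hchar : (H ⊓ Subgroup.centralizer (H : Set P)).Characteristic := inferInstance
    have hab : ∀ a ∈ H ⊓ Subgroup.centralizer (H : Set P),
        ∀ b ∈ H ⊓ Subgroup.centralizer (H : Set P), a * b = b * a := by
      intro a ha b hb
      exact (Subgroup.mem_centralizer_iff.mp hb.2) a ha.1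
    have := hmax ⟨_, hchar, hab⟩
    exact (Subgroup.eq_of_le_of_card_ge h1 this).symm
  refine ⟨H, hHc, ?_, ?_, ?_⟩
  · -- Frattini subgroup
    have hfr : frattini H ≤ M.subgroupOf H := by
      apply frattini_le_of_elementary_quotient (p := p)
      · rw [commutator_def, Subgroup.commutator_le]
        intro x _ y _
        rw [Subgroup.mem_subgroupOf]
        have := ((mem_critOf_iff p M x).mp x.2).2.2 (y : P)
        simpa [commutatorElement_def] using this
      · intro x
        rw [Subgroup.mem_subgroupOf]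
        have := ((mem_critOf_iff p M x).mp x.2).2.1
        simpa using this
    intro y hy
    obtain ⟨x, hx, rfl⟩ := hy
    exact hMZ (Subgroup.mem_subgroupOf.mp (hfr hx))
  · rw [hZ, Subgroup.commutator_le]
    intro x hx g _
    exact ((mem_critOf_iff p M x).mp hx).2.2 g
  · -- self-centralising
    suffices h : Subgroup.centralizer (H : Set P) ≤ M from h.trans hMH
    by_contra hQM
    set Q : Subgroup P := Subgroup.centralizer (H : Set P) with hQ
    haveI := hHc
    haveI hQn : Q.Normal := by
      haveI : Q.Characteristic := by rw [hQ]; infer_instance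
      infer_instance
    set Qb : Subgroup (P ⧸ M) := Q.map (QuotientGroup.mk' M) with hQb
    haveI hQbn : Qb.Normal := hQn.map _ (QuotientGroup.mk'_surjective M)
    have hQbne : Qb ≠ ⊥ := by
      intro h
      rw [hQb, Subgroup.map_eq_bot_iff, QuotientGroup.ker_mk'] at h
      exact hQM h
    have hPq : IsPGroup p (P ⧸ M) := hP.to_quotient M
    haveI : Group.IsNilpotent (P ⧸ M) := hPq.isNilpotent
    have hne := inf_center_ne_bot Qb hQbne
    obtain ⟨z0, hz01⟩ := (Subgroup.ne_bot_iff_exists_ne_one).mp hne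
    obtain ⟨z, hz, hz1⟩ : ∃ z ∈ Qb ⊓ Subgroup.center (P ⧸ M), z ≠ 1 := by
      exact ⟨z0.1, z0.2, fun h => hz01 (Subtype.ext h)⟩
    obtain ⟨k, hk⟩ := (IsPGroup.iff_orderOf.mp hPq) z
    have hk0 : k ≠ 0 := by
      rintro rfl
      rw [pow_zero, orderOf_eq_one_iff] at hk
      exact hz1 hk
    have hdvd : p ∣ orderOf z := by
      rw [hk]; exact dvd_pow_self p hk0
    set z' := z ^ (orderOf z / p) with hz'
    have hoz' : orderOf z' = p := orderOf_pow_orderOf_div (orderOf_pos z).ne' hdvd
    have hz'mem : z' ∈ Qb ⊓ Subgroup.center (P ⧸ M) := Subgroup.pow_mem _ hz _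
    obtain ⟨y, hyQ, hyz⟩ := hz'mem.1
    have hyH : y ∈ H := by
      rw [hH, mem_critOf_iff]
      refine ⟨Subgroup.centralizer_le (by exact_mod_cast hMH) hyQ, ?_, ?_⟩
      · rw [← QuotientGroup.eq_one_iff, QuotientGroup.mk_pow]
        have : (QuotientGroup.mk' M) y = (y : P ⧸ M) := rfl
        rw [← this, hyz, ← hoz', pow_orderOf_eq_one]
      · rw [← mk_mem_center_iff]
        have : (QuotientGroup.mk' M) y = (y : P ⧸ M) := rfl
        rw [← this, hyz]
        exact hz'mem.2
    have hyM : y ∈ M := by rw [← hZ]; exact ⟨hyH, hyQ⟩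
    have : z' = 1 := by
      rw [← hyz]
      exact (QuotientGroup.eq_one_iff y).mpr hyM
    rw [this, orderOf_one] at hoz'
    exact hp.out.one_lt.ne hoz'

end Cfsg.Agent.Lib.Lead
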