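import Mathlib
import Cfsg.Agent.Lib.Lead.Critical2

set_option autoImplicit false

namespace Cfsg.Agent.Lib.Lead

open scoped Pointwise commutatorElement

section
variable {G : Type*} [Group G]

/-- if `a x = x c` with `a c = c`, `a ^ m = 1` and `c` a `p`-element with `m` prime to `p`,
then `c = 1` -/
theorem eq_one_of_aut_pow {p : ℕ} (a : MulAut G) (m : ℕ) (ham : a ^ m = 1) (hm : m.Coprime p)
    (x c : G) (hx : a x = x * c) (hc : a c = c) (hcp : ∃ k : ℕ, c ^ p ^ k = 1) : c = 1 := by
  have hpow : ∀ k : ℕ, (a ^ k) x = x * c ^ k := by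
    intro k
    induction k with
    | zero => simp
    | succ k ih =>
      rw [pow_succ', MulAut.mul_apply, ih, map_mul, map_pow, hc, hx, pow_succ', mul_assoc]
  have h7 := hpow m
  rw [ham, MulAut.one_apply] at h7
  have h8 : c ^ m = 1 := by
    have := mul_left_cancel (a := x) (b := c ^ m) (c := 1) (by rw [mul_one]; exact h7.symm)
    exact this
  have h9 : orderOf c ∣ m := orderOf_dvd_of_pow_eq_one h8
  obtain ⟨j, hj⟩ := hcp
  have h10 : orderOf c ∣ p ^ j := orderOf_dvd_of_pow_eq_one hj
  have h11 : (orderOf c).Coprime (p ^ j) := Nat.Coprime.pow_right j (Nat.Coprime.coprime_dvd_left h9 hm)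
  have h12 : orderOf c = 1 := Nat.Coprime.eq_one_of_dvd h11 h10
  exact orderOf_eq_one_iff.mp h12

/-- a `p'`-automorphism of a `p`-group which is trivial on a self-centralising normal subgroup is
trivial -/
theorem aut_eq_one_of_trivial_on_self_centralizing {p : ℕ} (hG : IsPGroup p G) (H : Subgroup G)
    [hHn : H.Normal] (h3 : Subgroup.centralizer (H : Set G) ≤ H) (a : MulAut G) (m : ℕ)
    (ham : a ^ m = 1) (hm : m.Coprime p) (h : ∀ x ∈ H, a x = x) : ∀ g, a g = g := by
  intro g
  set c : G := g⁻¹ * a g with hc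
  have hcC : c ∈ Subgroup.centralizer (H : Set G) := by
    rw [Subgroup.mem_centralizer_iff]
    intro x hx
    have h4 : g * x * g⁻¹ ∈ H := hHn.conj_mem x hx g
    have h5 := h _ h4
    rw [map_mul, map_mul, map_inv, h x hx] at h5
    have h6 : x * (g⁻¹ * a g) = g⁻¹ * (a g * x * (a g)⁻¹) * a g := by
      rw [h5]; group
    rw [hc, h6]; group
  have hcH : c ∈ H := h3 hcC
  have hac : a c = c := h c hcH
  have hag : a g = g * c := by rw [hc]; group
  have := eq_one_of_aut_pow a m ham hm g c hag hac (hG c)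
  rw [hag, this, mul_one]

/-- restriction of an automorphism to an invariant subgroup -/
def restrictAut (a : MulAut G) (K : Subgroup G) (h1 : ∀ x ∈ K, a x ∈ K)
    (h2 : ∀ x ∈ K, a.symm x ∈ K) : MulAut K where
  toFun x := ⟨a x, h1 x x.2⟩
  invFun x := ⟨a.symm x, h2 x x.2⟩
  left_inv x := by simp
  right_inv x := by simp
  map_mul' x y := by
    apply Subtype.ext
    simp

@[simp] theorem restrictAut_apply (a : MulAut G) (K : Subgroup G) (h1 : ∀ x ∈ K, a x ∈ K)
    (h2 : ∀ x ∈ K, a.symm x ∈ K) (x : K) : ((restrictAut a K h1 h2 x : K) : G) = a x := rfl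

theorem restrictAut_pow_apply (a : MulAut G) (K : Subgroup G) (h1 : ∀ x ∈ K, a x ∈ K)
    (h2 : ∀ x ∈ K, a.symm x ∈ K) (k : ℕ) (x : K) :
    (((restrictAut a K h1 h2 ^ k) x : K) : G) = (a ^ k) x := by
  induction k generalizing x with
  | zero => simp
  | succ k ih =>
    rw [pow_succ, pow_succ, MulAut.mul_apply, MulAut.mul_apply, ih, restrictAut_apply]

/-- in a group with central commutators and central `p`-th powers, `p` odd, the `p`-th power map is
multiplicative -/
theorem mul_pow_of_class_two_odd {p : ℕ} [hp : Fact p.Prime] (hp2 : p ≠ 2)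
    (hc : ∀ a b : G, ⁅a, b⁆ ∈ Subgroup.center G) (hpow : ∀ a : G, a ^ p ∈ Subgroup.center G)
    (x y : G) : (x * y) ^ p = x ^ p * y ^ p := by
  rw [mul_pow_of_class_two hc x y p]
  have h3 : 2 < p := lt_of_le_of_ne hp.out.two_le (Ne.symm hp2)
  obtain ⟨k, hk⟩ := Nat.Prime.dvd_choose_self hp.out (by norm_num : (2 : ℕ) ≠ 0) h3
  have h1 : ⁅y, x⁆ ^ p = 1 := by
    rw [← commutatorElement_pow_left y x (Subgroup.mem_center_iff.mp (hc y x) y).symm]
    have := Subgroup.mem_center_iff.mp (hpow y) x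
    rw [commutatorElement_def, ← this]; group
  rw [hk, pow_mul, h1, one_pow, mul_one]

end

end Cfsg.Agent.Lib.Lead
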