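import Mathlib
import Cfsg.Agent.Lib.Lead.OmegaAut

set_option autoImplicit false

namespace Cfsg.Agent.Lib.Lead

open scoped Pointwise commutatorElement

universe u

/-- the statement proved by induction on the order -/
def OmegaAutProp (p : ℕ) (n : ℕ) : Prop :=
  ∀ (G : Type u) [Group G] [Finite G], Nat.card G = n → IsPGroup p G →
    ∀ (a : MulAut G) (m : ℕ), a ^ m = 1 → m.Coprime p →
      (∀ x : G, x ^ p = 1 → a x = x) → ∀ g, a g = g

theorem omegaAut_step {p : ℕ} [hp : Fact p.Prime] (hp2 : p ≠ 2) (n : ℕ)
    (ih : ∀ k < n, OmegaAutProp.{u} p k) : OmegaAutProp.{u} p n := by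
  intro G _ _ hn hG a m ham hm hfix
  classical
  obtain ⟨H, hHc, h1, h2, h3⟩ := exists_critical hG
  haveI := hHc
  have hcomm : ∀ x ∈ H, ∀ y ∈ H, ⁅x, y⁆ ∈ Subgroup.centralizer (H : Set G) := fun x hx y _ =>
    (h2 (Subgroup.commutator_mem_commutator hx (Subgroup.mem_top y))).2
  have hpowc : ∀ x ∈ H, x ^ p ∈ Subgroup.centralizer (H : Set G) := by
    intro x hx
    have := pow_mem_frattini_of_isPGroup (G := H) (hG.to_subgroup H) ⟨x, hx⟩
    exact h1 ⟨_, this, rfl⟩
  have hcH : ∀ a b : H, ⁅a, b⁆ ∈ Subgroup.center H := by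
    intro x y
    rw [Subgroup.mem_center_iff]
    intro g
    apply Subtype.ext
    have := (Subgroup.mem_centralizer_iff.mp (hcomm x x.2 y y.2)) g g.2
    simpa [commutatorElement_def] using this
  have hpH : ∀ a : H, a ^ p ∈ Subgroup.center H := by
    intro x
    rw [Subgroup.mem_center_iff]
    intro g
    apply Subtype.ext
    have := (Subgroup.mem_centralizer_iff.mp (hpowc x x.2)) g g.2
    simpa using this
  have hmulpow : ∀ x ∈ H, ∀ y ∈ H, (x * y) ^ p = x ^ p * y ^ p := by
    intro x hx y hy
    have := mul_pow_of_class_two_odd hp2 hcH hpH ⟨x, hx⟩ ⟨y, hy⟩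
    have := congrArg Subtype.val this
    simpa using this
  have haH : ∀ x ∈ H, a x ∈ H := by
    intro x hx
    have := (Subgroup.characteristic_iff_map_le.mp hHc) a
    exact this ⟨x, hx, rfl⟩
  have haH' : ∀ x ∈ H, a.symm x ∈ H := by
    intro x hx
    have := (Subgroup.characteristic_iff_map_le.mp hHc) a.symm
    exact this ⟨x, hx, rfl⟩
  let π : H →* G :=
    { toFun := fun x => (x : G) ^ p
      map_one' := by simp
      map_mul' := fun x y => hmulpow x x.2 y y.2 }
  have hπ : ∀ x : H, π x = (x : G) ^ p := fun _ => rfl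
  set K : Subgroup G := π.range with hK
  have haK : ∀ x ∈ K, a x ∈ K := by
    rintro _ ⟨y, rfl⟩
    exact ⟨⟨a y, haH y y.2⟩, by rw [hπ, hπ, map_pow]⟩
  have haK' : ∀ x ∈ K, a.symm x ∈ K := by
    rintro _ ⟨y, rfl⟩
    exact ⟨⟨a.symm y, haH' y y.2⟩, by rw [hπ, hπ, map_pow]⟩
  -- `a` fixes `K` pointwise
  have hKfix : ∀ x ∈ K, a x = x := by
    by_cases hH1 : H = ⊥
    · rintro _ ⟨y, rfl⟩
      have hy : (y : G) = 1 := (Subgroup.eq_bot_iff_forall H).mp hH1 y y.2
      rw [hπ, hy, one_pow, map_one]
    · have hlt : Nat.card K < n := by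
        have hdvd : p ∣ Nat.card H := by
          rcases (hG.to_subgroup H).card_eq_or_dvd with h | h
          · exact absurd (Subgroup.eq_bot_of_card_eq H h) hH1
          · exact h
        obtain ⟨y, hy⟩ := exists_prime_orderOf_dvd_card' p hdvd
        have hyker : y ∈ π.ker := by
          rw [MonoidHom.mem_ker, hπ, ← Subgroup.coe_pow, ← hy, pow_orderOf_eq_one]
          rfl
        have hy1 : y ≠ 1 := by
          intro h
          rw [h, orderOf_one] at hy
          exact hp.out.one_lt.ne hy
        have hkerne : π.ker ≠ ⊥ := by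
          intro h
          rw [h, Subgroup.mem_bot] at hyker
          exact hy1 hyker
        have h4 : 1 < Nat.card π.ker := (Subgroup.one_lt_card_iff_ne_bot (H := π.ker)).mpr hkerne
        have h5 : Nat.card π.ker * π.ker.index = Nat.card H := π.ker.card_mul_index
        have h6 : π.ker.index = Nat.card K := Subgroup.index_ker π
        have h7 : Nat.card H ≤ n := hn ▸ Subgroup.card_le_card_group H
        have h8 : 0 < Nat.card K := Nat.card_pos
        rw [h6] at h5
        nlinarith
      have hpowK : restrictAut a K haK haK' ^ m = 1 := by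
        apply MulEquiv.ext
        intro x
        apply Subtype.ext
        rw [restrictAut_pow_apply, ham]
        rfl
      have := ih _ hlt K rfl (hG.to_subgroup K) (restrictAut a K haK haK') m hpowK hm (by
        intro x hx
        apply Subtype.ext
        rw [restrictAut_apply]
        apply hfix
        have := congrArg Subtype.val hx
        simpa using this)
      intro x hx
      exact congrArg Subtype.val (this ⟨x, hx⟩)
  -- `a` fixes `H` pointwise
  have hHfix : ∀ x ∈ H, a x = x := by
    intro x hx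
    set c : G := x⁻¹ * a x with hc
    have hcp : c ^ p = 1 := by
      have e1 : (a x) ^ p = x ^ p := by
        rw [← map_pow]
        exact hKfix _ ⟨⟨x, hx⟩, rfl⟩
      rw [hc, hmulpow x⁻¹ (H.inv_mem hx) (a x) (haH x hx), e1, inv_pow, inv_mul_cancel]
    have hac : a c = c := hfix c hcp
    have hax : a x = x * c := by rw [hc]; group
    have := eq_one_of_aut_pow a m ham hm x c hax hac (hG c)
    rw [hax, this, mul_one]
  exact aut_eq_one_of_trivial_on_self_centralizing hG H h3 a m ham hm hHfix

theorem omegaAut_all {p : ℕ} [Fact p.Prime] (hp2 : p ≠ 2) : ∀ n, OmegaAutProp.{u} p n := by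
  intro n
  induction n using Nat.strong_induction_on with
  | _ n ih => exact omegaAut_step hp2 n ih

end Cfsg.Agent.Lib.Lead
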