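import Mathlib
import Cfsg.Agent.Lib.Lead.OmegaAut2
import Cfsg.Agent.S0144

set_option autoImplicit false

namespace Cfsg.Agent.Lib.Lead

open scoped Pointwise

universe u

/-- every prime has a Hall complement -/
def HasHallCompl (G : Type*) [Group G] : Prop :=
  ∀ p : ℕ, p.Prime → ∃ H : Subgroup G, H.index = p ^ (Nat.card G).factorization p

theorem index_eq_ppart {X : Type*} [Group X] [Finite X] (Y : Subgroup X) (p : ℕ) (hp : p.Prime)
    (c : ℕ) (hi : Y.index = p ^ c) (hY : ¬ p ∣ Nat.card Y) :
    Y.index = p ^ (Nat.card X).factorization p := by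
  have h1 : Nat.card X = Nat.card Y * p ^ c := by rw [← hi]; exact (Y.card_mul_index).symm
  rw [hi, h1, Nat.factorization_mul Nat.card_pos.ne' (pow_ne_zero _ hp.ne_zero),
    Nat.Prime.factorization_pow hp]
  simp [Nat.factorization_eq_zero_of_not_dvd hY]

theorem compl_card_not_dvd {X : Type*} [Group X] [Finite X] (Y : Subgroup X) (p : ℕ) (hp : p.Prime)
    (hi : Y.index = p ^ (Nat.card X).factorization p) : ¬ p ∣ Nat.card Y := by
  intro h
  obtain ⟨k, hk⟩ := h
  have h1 := Y.card_mul_index
  rw [hi, hk] at h1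
  have h2 : p ^ ((Nat.card X).factorization p + 1) ∣ Nat.card X := by
    refine ⟨k, ?_⟩
    rw [pow_succ]
    calc Nat.card X = p * k * p ^ (Nat.card X).factorization p := h1.symm
      _ = p ^ (Nat.card X).factorization p * p * k := by ring
  exact Nat.pow_succ_factorization_not_dvd Nat.card_pos.ne' hp h2

theorem hasHallCompl_quotient {G : Type*} [Group G] [Finite G] (N : Subgroup G) [N.Normal]
    (hG : HasHallCompl G) : HasHallCompl (G ⧸ N) := by
  intro p hp
  obtain ⟨H, hH⟩ := hG p hp
  have h1 : (H.map (QuotientGroup.mk' N)).index ∣ H.index :=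
    H.index_map_dvd (QuotientGroup.mk'_surjective N)
  rw [hH] at h1
  obtain ⟨c, _, hc⟩ := (Nat.dvd_prime_pow hp).mp h1
  have h2 : ¬ p ∣ Nat.card (H.map (QuotientGroup.mk' N)) := by
    intro h
    exact compl_card_not_dvd H p hp hH (h.trans (H.card_map_dvd _))
  exact ⟨_, index_eq_ppart _ p hp c hc h2⟩

theorem relIndex_eq_index_of_coprime {G : Type*} [Group G] [Finite G] (A B : Subgroup G)
    (h : A.index.Coprime B.index) : B.relIndex A = B.index := by
  have h1 : (B ⊓ A).relIndex A * A.index = (B ⊓ A).index := Subgroup.relIndex_mul_index inf_le_right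
  rw [Subgroup.inf_relIndex_right, inf_comm, index_inf_of_coprime A B h] at h1
  have h2 : 0 < A.index := Nat.pos_of_ne_zero Subgroup.index_ne_zero_of_finite
  rw [mul_comm] at h1
  exact Nat.eq_of_mul_eq_mul_left h2 h1

theorem hasHallCompl_of_compl {G : Type*} [Group G] [Finite G] (hG : HasHallCompl G)
    (A : Subgroup G) (p : ℕ) (hp : p.Prime) (hA : A.index = p ^ (Nat.card G).factorization p) :
    HasHallCompl A := by
  intro r hr
  by_cases hrp : r = p
  · subst hrp
    refine ⟨⊤, ?_⟩
    rw [Subgroup.index_top, Nat.factorization_eq_zero_of_not_dvd (compl_card_not_dvd A r hr hA),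
      pow_zero]
  · obtain ⟨H, hH⟩ := hG r hr
    have hcop : A.index.Coprime H.index := by
      rw [hA, hH]
      exact Nat.Coprime.pow _ _ ((Nat.coprime_primes hp hr).mpr (Ne.symm hrp))
    have h1 : (H.subgroupOf A).index = r ^ (Nat.card G).factorization r := by
      show H.relIndex A = _
      rw [relIndex_eq_index_of_coprime A H hcop, hH]
    have h2 : ¬ r ∣ Nat.card (H.subgroupOf A) := by
      intro h
      have h3 : Nat.card (H.subgroupOf A) ∣ Nat.card H := by
        rw [card_subgroupOf_eq]
        exact Subgroup.card_dvd_of_le inf_le_left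
      exact compl_card_not_dvd H r hr hH (h.trans h3)
    exact ⟨_, index_eq_ppart _ r hr _ h1 h2⟩

theorem exists_two_prime_form (n : ℕ) (hn : n ≠ 0) (h : n.primeFactors.card ≤ 2) :
    ∃ p q a b : ℕ, p.Prime ∧ q.Prime ∧ n = p ^ a * q ^ b := by
  have hprod := Nat.prod_primeFactors_pow_factorization hn
  have hcases : n.primeFactors.card = 0 ∨ n.primeFactors.card = 1 ∨ n.primeFactors.card = 2 := by
    omega
  rcases hcases with h0 | h1 | h2
  · rw [Finset.card_eq_zero] at h0
    rw [h0, Finset.prod_empty] at hprod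
    exact ⟨2, 3, 0, 0, Nat.prime_two, Nat.prime_three, by simpa using hprod⟩
  · obtain ⟨x, hx⟩ := Finset.card_eq_one.mp h1
    have hxp : x.Prime := Nat.prime_of_mem_primeFactors (by rw [hx]; exact Finset.mem_singleton_self x)
    rw [hx, Finset.prod_singleton] at hprod
    exact ⟨x, 2, n.factorization x, 0, hxp, Nat.prime_two, by simpa using hprod⟩
  · obtain ⟨x, y, hxy, hs⟩ := Finset.card_eq_two.mp h2
    have hxp : x.Prime := Nat.prime_of_mem_primeFactors (by rw [hs]; simp)
    have hyp : y.Prime := Nat.prime_of_mem_primeFactors (by rw [hs]; simp)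
    rw [hs, Finset.prod_pair hxy] at hprod
    exact ⟨x, y, _, _, hxp, hyp, hprod⟩

end Cfsg.Agent.Lib.Lead
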