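import Mathlib
import Cfsg.Agent.Lib.Lead.HallConverse

set_option autoImplicit false

namespace Cfsg.Agent.Lib.Lead

open scoped Pointwise

universe u

theorem solvable_of_hallCompl_aux : ∀ (n : ℕ) (G : Type u) [Group G] [Finite G],
    Nat.card G = n → HasHallCompl G → Group.IsSolvable G := by
  intro n
  induction n using Nat.strong_induction_on with
  | _ n ih =>
  intro G _ _ hn hG
  classical
  have hn0 : n ≠ 0 := hn ▸ Nat.card_pos.ne'
  by_cases hcard : n.primeFactors.card ≤ 2
  · obtain ⟨p, q, a, b, hp, hq, h⟩ := exists_two_prime_form n hn0 hcard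
    exact Cfsg.Agent.S0144.result p q a b hp hq (hn.trans h)
  push Not at hcard
  -- a proper Hall complement is solvable
  have hsub : ∀ (p : ℕ) (hp : p.Prime), p ∣ n → ∀ A : Subgroup G,
      A.index = p ^ (Nat.card G).factorization p → Group.IsSolvable A ∧ A ≠ ⊤ := by
    intro p hp hpn A hA
    have hpos : 0 < (Nat.card G).factorization p :=
      hp.factorization_pos_of_dvd (hn ▸ hn0) (hn ▸ hpn)
    have h1 : 1 < A.index := by
      rw [hA]
      exact Nat.one_lt_pow hpos.ne' hp.one_lt
    have hlt : Nat.card A < n := by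
      have := A.card_mul_index
      rw [hn] at this
      have hpos' : 0 < Nat.card A := Nat.card_pos
      nlinarith
    refine ⟨ih _ hlt A rfl (hasHallCompl_of_compl hG A p hp hA), ?_⟩
    intro h
    rw [h, Subgroup.index_top] at h1
    exact lt_irrefl _ h1
  -- pick `p`
  obtain ⟨p, hpS⟩ : ∃ p, p ∈ n.primeFactors := Finset.card_pos.mp (by omega)
  have hp : p.Prime := Nat.prime_of_mem_primeFactors hpS
  have hpn : p ∣ n := Nat.dvd_of_mem_primeFactors hpS
  obtain ⟨A, hA⟩ := hG p hp
  obtain ⟨hAsolv, hAtop⟩ := hsub p hp hpn A hA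
  have hpA : ¬ p ∣ Nat.card A := compl_card_not_dvd A p hp hA
  haveI hAnt : Nontrivial A := by
    rw [← Finite.one_lt_card_iff_nontrivial]
    by_contra hle
    have h1 : Nat.card A = 1 := by
      have : 0 < Nat.card A := Nat.card_pos
      omega
    have h2 := A.card_mul_index
    rw [h1, one_mul, hA, hn] at h2
    have h3 : n.primeFactors.card ≤ 1 := by
      rw [← h2, Nat.primeFactors_prime_pow]
    -- card of primeFactors (p^k) ≤ 1
      · simp
      · exact (hp.factorization_pos_of_dvd (hn ▸ hn0) (hn ▸ hpn)).ne'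
      · exact hp
    omega
  obtain ⟨r, M₀, hr, hM₀n, _, hM₀p, hM₀ne, _⟩ := exists_normal_abelian_pgroup (G := A)
  set M : Subgroup G := M₀.map A.subtype with hM
  have hMA : M ≤ A := Subgroup.map_subtype_le M₀
  have hMsub : M.subgroupOf A = M₀ := Subgroup.comap_map_eq_self_of_injective A.subtype_injective M₀
  have hAM : A ≤ Subgroup.normalizer (M : Set G) := by
    rw [← Subgroup.normal_subgroupOf_iff_le_normalizer hMA, hMsub]
    exact hM₀n
  have hMne : M ≠ ⊥ := by
    intro h
    apply hM₀ne
    rw [hM, Subgroup.map_eq_bot_iff_of_injective _ A.subtype_injective] at h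
    exact h
  have hMcard : Nat.card M = Nat.card M₀ := card_map_subtype A M₀
  haveI : Fact r.Prime := ⟨hr⟩
  obtain ⟨j, hj⟩ := (IsPGroup.iff_card).mp hM₀p
  have hj0 : j ≠ 0 := by
    rintro rfl
    rw [pow_zero] at hj
    exact hM₀ne (Subgroup.eq_bot_of_card_eq M₀ hj)
  have hrA : r ∣ Nat.card A := by
    have h1 : Nat.card M₀ ∣ Nat.card A := Subgroup.card_subgroup_dvd_card M₀
    rw [hj] at h1
    exact (dvd_pow_self r hj0).trans h1
  have hrp : r ≠ p := by
    rintro rfl
    exact hpA hrA
  -- a third prime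
  obtain ⟨s, hsS, hs⟩ := Finset.exists_mem_notMem_of_card_lt_card (s := {p, r}) (t := n.primeFactors)
    (lt_of_le_of_lt Finset.card_le_two hcard)
  have hsp : s ≠ p := fun h => hs (by rw [h]; simp)
  have hsr : s ≠ r := fun h => hs (by rw [h]; simp)
  have hsprime : s.Prime := Nat.prime_of_mem_primeFactors hsS
  have hsn : s ∣ n := Nat.dvd_of_mem_primeFactors hsS
  obtain ⟨B, hB⟩ := hG s hsprime
  obtain ⟨hBsolv, hBtop⟩ := hsub s hsprime hsn B hB
  have hcop : A.index.Coprime B.index := by
    rw [hA, hB]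
    exact Nat.Coprime.pow _ _ ((Nat.coprime_primes hp hsprime).mpr (Ne.symm hsp))
  have hrel : B.relIndex A = B.index := relIndex_eq_index_of_coprime A B hcop
  -- `M ≤ B`
  have hMB : M ≤ B := by
    set B' : Subgroup G := A ⊓ B with hB'
    have hB'M : B' ≤ Subgroup.normalizer (M : Set G) := inf_le_left.trans hAM
    have h1 := card_sup_mul_card_inf B' M hB'M
    have h2 : Nat.card B' ∣ Nat.card (B' ⊔ M : Subgroup G) := Subgroup.card_dvd_of_le le_sup_left
    have h3 : Nat.card (B' ⊔ M : Subgroup G) ∣ Nat.card A :=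
      Subgroup.card_dvd_of_le (sup_le inf_le_left hMA)
    have h4 : Nat.card B' * B.index = Nat.card A := by
      have := (B'.subgroupOf A).card_mul_index
      rw [card_subgroupOf_of_le inf_le_left] at this
      have h5 : (B'.subgroupOf A).index = B.relIndex A := by
        show B'.relIndex A = _
        rw [hB', inf_comm, Subgroup.inf_relIndex_right]
      rw [h5, hrel] at this
      exact this
    obtain ⟨t, ht⟩ := h2
    have hB'pos : 0 < Nat.card B' := Nat.card_pos
    have ht1 : t ∣ B.index := by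
      rw [ht, ← h4] at h3
      exact Nat.dvd_of_mul_dvd_mul_left hB'pos h3
    have ht2 : t ∣ Nat.card M := by
      rw [ht, mul_assoc] at h1
      have := Nat.eq_of_mul_eq_mul_left hB'pos h1
      exact ⟨_, this.symm⟩
    have ht3 : t = 1 := by
      rw [hB] at ht1
      rw [hMcard, hj] at ht2
      have hc : (r ^ j).Coprime (s ^ (Nat.card G).factorization s) :=
        Nat.Coprime.pow _ _ ((Nat.coprime_primes hr hsprime).mpr (Ne.symm hsr))
      exact Nat.eq_one_of_dvd_coprimes hc ht2 ht1
    rw [ht3, mul_one] at ht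
    have h6 : B' = B' ⊔ M := Subgroup.eq_of_le_of_card_ge le_sup_left (le_of_eq ht)
    have h7 : M ≤ B' := by rw [h6]; exact le_sup_right
    exact h7.trans inf_le_right
  -- `G = A B`
  have hfac : ∀ g : G, ∃ a ∈ A, a⁻¹ * g ∈ B := by
    intro g
    exact exists_mul_of_relIndex_eq A B ⊤ le_top (by rw [hrel, Subgroup.relIndex_top_right]) g
      (Subgroup.mem_top g)
  -- the normal closure of `M` lies in `B`
  set N : Subgroup G := Subgroup.normalClosure (M : Set G) with hN
  have hNB : N ≤ B := by
    rw [hN, Subgroup.normalClosure, Subgroup.closure_le]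
    intro x hx
    obtain ⟨m, hm, hconj⟩ := Group.mem_conjugatesOfSet_iff.mp hx
    obtain ⟨c, rfl⟩ := isConj_iff.mp hconj
    obtain ⟨a, ha, hab⟩ := hfac c⁻¹
    set b := a⁻¹ * c⁻¹ with hb
    have hc : c = b⁻¹ * a⁻¹ := by rw [hb]; group
    have h1 : a⁻¹ * m * a ∈ M := by
      have := (Subgroup.mem_normalizer_iff.mp (hAM (A.inv_mem ha)) m).mp hm
      simpa using this
    have h2 : c * m * c⁻¹ = b⁻¹ * (a⁻¹ * m * a) * b := by rw [hc]; group
    rw [SetLike.mem_coe, h2]
    exact B.mul_mem (B.mul_mem (B.inv_mem hab) (hMB h1)) hab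
  haveI hNn : N.Normal := Subgroup.normalClosure_normal
  have hMN : M ≤ N := Subgroup.le_normalClosure
  have hNne : N ≠ ⊥ := fun h => hMne (le_bot_iff.mp (h ▸ hMN))
  haveI hNsolv : Group.IsSolvable N := by
    haveI := hBsolv
    exact isSolvable_of_le hNB
  have hQlt : Nat.card (G ⧸ N) < n := by
    have h1 : Nat.card (G ⧸ N) * Nat.card N = Nat.card G :=
      (Subgroup.card_eq_card_quotient_mul_card_subgroup N).symm
    have h2 : 1 < Nat.card N := (Subgroup.one_lt_card_iff_ne_bot (H := N)).mpr hNne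
    have h3 : 0 < Nat.card (G ⧸ N) := Nat.card_pos
    rw [hn] at h1
    nlinarith
  haveI hQsolv : Group.IsSolvable (G ⧸ N) := ih _ hQlt (G ⧸ N) rfl (hasHallCompl_quotient N hG)
  exact Group.isSolvable_of_ker_le_range N.subtype (QuotientGroup.mk' N) (by simp)

theorem solvable_of_hallCompl {G : Type u} [Group G] [Finite G] (h : HasHallCompl G) :
    Group.IsSolvable G := solvable_of_hallCompl_aux _ G rfl h

end Cfsg.Agent.Lib.Lead
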