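import Mathlib
import Cfsg.Agent.Lib.Lead.HallConverse2

set_option autoImplicit false

namespace Cfsg.Agent.Lib.Lead

open scoped Pointwise

universe u

variable {G : Type u} [Group G]

/-- permutable subgroups: the set product is the join -/
theorem coe_sup_of_mul_comm (H K : Subgroup G) (h : (H : Set G) * (K : Set G) = (K : Set G) * (H : Set G)) :
    ((H ⊔ K : Subgroup G) : Set G) = (H : Set G) * (K : Set G) := by
  let T : Subgroup G :=
    { carrier := (H : Set G) * (K : Set G)
      one_mem' := ⟨1, H.one_mem, 1, K.one_mem, one_mul 1⟩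
      mul_mem' := by
        rintro _ _ ⟨a, ha, b, hb, rfl⟩ ⟨c, hc, d, hd, rfl⟩
        have h1 : b * c ∈ (K : Set G) * (H : Set G) := ⟨b, hb, c, hc, rfl⟩
        rw [← h] at h1
        obtain ⟨c', hc', b', hb', he⟩ := h1
        have he : c' * b' = b * c := he
        refine ⟨a * c', H.mul_mem ha hc', b' * d, K.mul_mem hb' hd, ?_⟩
        calc a * c' * (b' * d) = a * (c' * b') * d := by group
          _ = a * (b * c) * d := by rw [he]
          _ = a * b * (c * d) := by group
      inv_mem' := by
        rintro _ ⟨a, ha, b, hb, rfl⟩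
        have h1 : b⁻¹ * a⁻¹ ∈ (K : Set G) * (H : Set G) := ⟨b⁻¹, K.inv_mem hb, a⁻¹, H.inv_mem ha, rfl⟩
        rw [← h] at h1
        rw [mul_inv_rev]
        exact h1 }
  have hT : H ⊔ K = T := by
    apply le_antisymm
    · apply sup_le
      · intro x hx
        exact ⟨x, hx, 1, K.one_mem, mul_one x⟩
      · intro x hx
        exact ⟨1, H.one_mem, x, hx, one_mul x⟩
    · rintro _ ⟨a, ha, b, hb, rfl⟩
      exact Subgroup.mul_mem_sup ha hb
  rw [hT]
  rfl

theorem card_sup_of_coe_eq_mul [Finite G] (H K : Subgroup G)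
    (hcoe : ((H ⊔ K : Subgroup G) : Set G) = (H : Set G) * (K : Set G)) (hd : Disjoint H K) :
    Nat.card (H ⊔ K : Subgroup G) = Nat.card H * Nat.card K := by
  have hinj : Function.Injective (fun g : H × K => (g.1 : G) * g.2) :=
    Subgroup.mul_injective_of_disjoint hd
  have himg : (H : Set G) * (K : Set G) = Set.range (fun g : H × K => (g.1 : G) * g.2) := by
    ext x
    constructor
    · rintro ⟨a, ha, b, hb, rfl⟩
      exact ⟨(⟨a, ha⟩, ⟨b, hb⟩), rfl⟩
    · rintro ⟨⟨a, b⟩, rfl⟩
      exact ⟨a, a.2, b, b.2, rfl⟩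
  have h1 : Nat.card (H ⊔ K : Subgroup G) = Nat.card ((H : Set G) * (K : Set G) : Set G) := by
    rw [← hcoe]; rfl
  rw [h1, himg, Nat.card_range_of_injective hinj, Nat.card_prod]

theorem sylow_family_sup [Finite G] (S : (p : Nat.Primes) → Sylow (p : ℕ) G)
    (hS : ∀ p q : Nat.Primes, (S p : Set G) * (S q : Set G) = (S q : Set G) * (S p : Set G))
    (T : Finset Nat.Primes) :
    (∀ r : Nat.Primes, ((⨆ q ∈ T, (S q : Subgroup G) : Subgroup G) : Set G) * (S r : Set G) =
      (S r : Set G) * ((⨆ q ∈ T, (S q : Subgroup G) : Subgroup G) : Set G)) ∧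
    Nat.card (⨆ q ∈ T, (S q : Subgroup G) : Subgroup G) = ∏ q ∈ T, Nat.card (S q) := by
  classical
  induction T using Finset.induction_on with
  | empty =>
    constructor
    · intro r
      simp
    · simp
  | insert a T' ha ih =>
    obtain ⟨ih1, ih2⟩ := ih
    set H' : Subgroup G := ⨆ q ∈ T', (S q : Subgroup G) with hH'
    have hsup : (⨆ q ∈ insert a T', (S q : Subgroup G) : Subgroup G) = (S a : Subgroup G) ⊔ H' :=
      Finset.iSup_insert a T' _
    rw [hsup]
    have hcoe : (((S a : Subgroup G) ⊔ H' : Subgroup G) : Set G) = (S a : Set G) * (H' : Set G) :=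
      coe_sup_of_mul_comm _ _ (ih1 a).symm
    constructor
    · intro r
      rw [hcoe, mul_assoc, ih1 r, ← mul_assoc, hS a r, mul_assoc]
    · have hcop : (Nat.card (S a : Subgroup G)).Coprime (Nat.card H') := by
        rw [ih2]
        apply Nat.Coprime.prod_right
        intro q hq
        haveI : Fact (a : ℕ).Prime := ⟨a.2⟩
        haveI : Fact (q : ℕ).Prime := ⟨q.2⟩
        have h1 : Nat.card (S a : Subgroup G) = _ := (S a).card_eq_multiplicity
        have h2 : Nat.card (S q : Subgroup G) = _ := (S q).card_eq_multiplicity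
        show (Nat.card (S a : Subgroup G)).Coprime (Nat.card (S q : Subgroup G))
        rw [h1, h2]
        apply Nat.Coprime.pow
        rw [Nat.coprime_primes a.2 q.2]
        intro h
        apply ha
        have : a = q := Subtype.ext h
        rw [this]; exact hq
      rw [card_sup_of_coe_eq_mul _ _ hcoe (Subgroup.disjoint_of_coprime_natCard hcop),
        Finset.prod_insert ha, ih2]

end Cfsg.Agent.Lib.Lead
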