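import Mathlib
import Cfsg.Agent.Lib.Lead.SylowSystemConv

set_option autoImplicit false

namespace Cfsg.Agent.Lib.Lead

open scoped Pointwise

universe u

variable {G : Type u} [Group G]

theorem hasHallCompl_of_sylow_family [Finite G] (S : (p : Nat.Primes) → Sylow (p : ℕ) G)
    (hS : ∀ p q : Nat.Primes, (S p : Set G) * (S q : Set G) = (S q : Set G) * (S p : Set G)) :
    HasHallCompl G := by
  classical
  intro p hp
  set n := Nat.card G with hn
  have hn0 : n ≠ 0 := Nat.card_pos.ne'
  let T : Finset Nat.Primes := Finset.subtype Nat.Prime (n.primeFactors.erase p)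
  obtain ⟨_, hcard⟩ := sylow_family_sup S hS T
  set H : Subgroup G := ⨆ q ∈ T, (S q : Subgroup G) with hH
  refine ⟨H, ?_⟩
  have h1 : ∀ q : Nat.Primes, Nat.card (S q) = (q : ℕ) ^ n.factorization (q : ℕ) := by
    intro q
    haveI : Fact (q : ℕ).Prime := ⟨q.2⟩
    exact (S q).card_eq_multiplicity
  have h2 : Nat.card H = ∏ x ∈ n.primeFactors.erase p, x ^ n.factorization x := by
    rw [hcard]
    simp only [h1]
    have := Finset.prod_subtype_eq_prod_filter (s := n.primeFactors.erase p)
      (fun x : ℕ => x ^ n.factorization x) (p := Nat.Prime)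
    rw [Finset.filter_true_of_mem] at this
    · exact this
    · intro x hx
      exact Nat.prime_of_mem_primeFactors (Finset.mem_of_mem_erase hx)
  have h3 : p ^ n.factorization p * Nat.card H = n := by
    rw [h2]
    by_cases hpm : p ∈ n.primeFactors
    · rw [Finset.mul_prod_erase n.primeFactors (fun x => x ^ n.factorization x) hpm]
      exact (Nat.prod_primeFactors_pow_factorization hn0).symm
    · rw [Finset.erase_eq_of_notMem hpm]
      have hpn : ¬ p ∣ n := fun h => hpm (Nat.mem_primeFactors.mpr ⟨hp, h, hn0⟩)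
      rw [Nat.factorization_eq_zero_of_not_dvd hpn, pow_zero, one_mul]
      exact (Nat.prod_primeFactors_pow_factorization hn0).symm
  have h4 := H.card_mul_index
  rw [← hn, ← h3, mul_comm] at h4
  exact Nat.eq_of_mul_eq_mul_right Nat.card_pos h4

theorem solvable_of_sylow_family [Finite G] (S : (p : Nat.Primes) → Sylow (p : ℕ) G)
    (hS : ∀ p q : Nat.Primes, (S p : Set G) * (S q : Set G) = (S q : Set G) * (S p : Set G)) :
    Group.IsSolvable G :=
  solvable_of_hallCompl (hasHallCompl_of_sylow_family S hS)

end Cfsg.Agent.Lib.Lead
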