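import Mathlib
import Cfsg.Agent.Lib.Lead.SylowSystemConv2

set_option autoImplicit false

namespace Cfsg.Agent.Lib.Lead

open scoped Pointwise commutatorElement

variable {G : Type*} [Group G]

theorem commutatorElement_mul_right_of_commute (a b c : G) (h : Commute a c) :
    ⁅a, b * c⁆ = ⁅a, b⁆ := by
  have h1 : c * a⁻¹ * c⁻¹ = a⁻¹ := by
    have := h.inv_left.eq
    rw [← this]; group
  rw [commutatorElement_def, commutatorElement_def]
  calc a * (b * c) * a⁻¹ * (b * c)⁻¹ = a * b * (c * a⁻¹ * c⁻¹) * b⁻¹ := by group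
    _ = a * b * a⁻¹ * b⁻¹ := by rw [h1]

theorem commutatorElement_mul_left_of_commute (a c b : G) (h : Commute c b) :
    ⁅a * c, b⁆ = ⁅a, b⁆ := by
  have h1 : c * b * c⁻¹ = b := by
    rw [h.eq]; group
  rw [commutatorElement_def, commutatorElement_def]
  calc a * c * b * (a * c)⁻¹ * b⁻¹ = a * (c * b * c⁻¹) * a⁻¹ * b⁻¹ := by group
    _ = a * b * a⁻¹ * b⁻¹ := by rw [h1]

section
variable (A B : Subgroup G) (hA : ∀ x ∈ A, ∀ y ∈ A, x * y = y * x)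
  (hB : ∀ x ∈ B, ∀ y ∈ B, x * y = y * x) (hAB : ∀ g : G, ∃ a ∈ A, ∃ b ∈ B, g = a * b)

include hAB in
theorem ito_BA : ∀ g : G, ∃ b ∈ B, ∃ a ∈ A, g = b * a := by
  intro g
  obtain ⟨a, ha, b, hb, h⟩ := hAB g⁻¹
  exact ⟨b⁻¹, B.inv_mem hb, a⁻¹, A.inv_mem ha, by rw [← mul_inv_rev, ← h, inv_inv]⟩

include hA hB hAB in
theorem ito_key (a : G) (ha : a ∈ A) (b : G) (hb : b ∈ B) (a₁ : G) (ha₁ : a₁ ∈ A) (b₁ : G)
    (hb₁ : b₁ ∈ B) :
    MulAut.conj (b₁ * a₁) ⁅a, b⁆ = MulAut.conj (a₁ * b₁) ⁅a, b⁆ := by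
  obtain ⟨b₂, hb₂, a₂, ha₂, h2⟩ := ito_BA A B hAB (a₁ * b * a₁⁻¹)
  obtain ⟨a₃, ha₃, b₃, hb₃, h3⟩ := hAB (b₁ * a * b₁⁻¹)
  have e1 : MulAut.conj a₁ a = a := by
    rw [MulAut.conj_apply, hA a₁ ha₁ a ha]; group
  have e2 : MulAut.conj a₁ b = b₂ * a₂ := by rw [MulAut.conj_apply, h2]
  have e3 : MulAut.conj b₁ a = a₃ * b₃ := by rw [MulAut.conj_apply, h3]
  have e4 : MulAut.conj b₁ b₂ = b₂ := by
    rw [MulAut.conj_apply, hB b₁ hb₁ b₂ hb₂]; group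
  have e5 : MulAut.conj b₁ b = b := by
    rw [MulAut.conj_apply, hB b₁ hb₁ b hb]; group
  have e6 : MulAut.conj a₁ a₃ = a₃ := by
    rw [MulAut.conj_apply, hA a₁ ha₁ a₃ ha₃]; group
  have lhs : MulAut.conj (b₁ * a₁) ⁅a, b⁆ = ⁅a₃, b₂⁆ := by
    rw [map_mul, MulAut.mul_apply, map_commutatorElement, e1, e2,
      commutatorElement_mul_right_of_commute a b₂ a₂ (hA a ha a₂ ha₂),
      map_commutatorElement, e3, e4,
      commutatorElement_mul_left_of_commute a₃ b₃ b₂ (hB b₃ hb₃ b₂ hb₂)]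
  have rhs : MulAut.conj (a₁ * b₁) ⁅a, b⁆ = ⁅a₃, b₂⁆ := by
    rw [map_mul, MulAut.mul_apply, map_commutatorElement, e3, e5,
      commutatorElement_mul_left_of_commute a₃ b₃ b (hB b₃ hb₃ b hb),
      map_commutatorElement, e6, e2,
      commutatorElement_mul_right_of_commute a₃ b₂ a₂ (hA a₃ ha₃ a₂ ha₂)]
  rw [lhs, rhs]

include hA hB hAB in
theorem ito_comm (a : G) (ha : a ∈ A) (b : G) (hb : b ∈ B) (a₁ : G) (ha₁ : a₁ ∈ A) (b₁ : G)
    (hb₁ : b₁ ∈ B) : ⁅a, b⁆ * ⁅a₁, b₁⁆ = ⁅a₁, b₁⁆ * ⁅a, b⁆ := by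
  have key := ito_key A B hA hB hAB a ha b hb a₁⁻¹ (A.inv_mem ha₁) b₁⁻¹ (B.inv_mem hb₁)
  simp only [MulAut.conj_apply] at key
  set x := ⁅a, b⁆ with hx
  -- (b₁⁻¹ a₁⁻¹) x (b₁⁻¹ a₁⁻¹)⁻¹ = (a₁⁻¹ b₁⁻¹) x (a₁⁻¹ b₁⁻¹)⁻¹
  have h1 : x * ⁅a₁, b₁⁆ = ⁅a₁, b₁⁆ * x := by
    have h2 : ⁅a₁, b₁⁆ * x * ⁅a₁, b₁⁆⁻¹ =
        (a₁ * b₁) * ((a₁⁻¹ * b₁⁻¹) * x * (a₁⁻¹ * b₁⁻¹)⁻¹) * (a₁ * b₁)⁻¹ := by
      rw [commutatorElement_def]; group
    rw [← key] at h2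
    have h3 : (a₁ * b₁) * ((b₁⁻¹ * a₁⁻¹) * x * (b₁⁻¹ * a₁⁻¹)⁻¹) * (a₁ * b₁)⁻¹ = x := by group
    rw [h3] at h2
    calc x * ⁅a₁, b₁⁆ = (⁅a₁, b₁⁆ * x * ⁅a₁, b₁⁆⁻¹) * ⁅a₁, b₁⁆ := by rw [h2]
      _ = ⁅a₁, b₁⁆ * x := by group
  exact h1

include hA hB hAB in
theorem ito_solvable : Group.IsSolvable G := by
  classical
  set N : Subgroup G := ⁅A, B⁆ with hN
  have hNc : IsMulCommutative N := by
    rw [hN, Subgroup.commutator_def]
    apply Subgroup.isMulCommutative_closure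
    rintro x ⟨a, ha, b, hb, rfl⟩ y ⟨a₁, ha₁, b₁, hb₁, rfl⟩
    exact ito_comm A B hA hB hAB a ha b hb a₁ ha₁ b₁ hb₁
  have hAN : A ≤ Subgroup.normalizer (N : Set G) := le_normalizer_commutator_left A B
  have hBN : B ≤ Subgroup.normalizer (N : Set G) := by
    rw [hN, Subgroup.commutator_comm]
    exact le_normalizer_commutator_left B A
  haveI hNn : N.Normal := by
    rw [← Subgroup.normalizer_eq_top_iff, eq_top_iff]
    intro g _
    obtain ⟨a, ha, b, hb, rfl⟩ := hAB g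
    exact Subgroup.mul_mem _ (hAN ha) (hBN hb)
  have hcomm : commutator G ≤ N := by
    apply commutator_le_of_quotient_comm
    intro x y
    induction x using QuotientGroup.induction_on with
    | H g =>
    induction y using QuotientGroup.induction_on with
    | H g' =>
    obtain ⟨a, ha, b, hb, rfl⟩ := hAB g
    obtain ⟨a', ha', b', hb', rfl⟩ := hAB g'
    have hab : ∀ u ∈ A, ∀ v ∈ B, Commute (u : G ⧸ N) (v : G ⧸ N) := by
      intro u hu v hv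
      show (u : G ⧸ N) * v = v * u
      rw [← QuotientGroup.mk_mul, ← QuotientGroup.mk_mul, QuotientGroup.eq_iff_div_mem]
      have : u * v / (v * u) = ⁅u, v⁆ := by
        rw [commutatorElement_def, div_eq_mul_inv]; group
      rw [this]
      exact Subgroup.commutator_mem_commutator hu hv
    have haa : Commute (a : G ⧸ N) (a' : G ⧸ N) := by
      show (a : G ⧸ N) * a' = a' * a
      rw [← QuotientGroup.mk_mul, ← QuotientGroup.mk_mul, hA a ha a' ha']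
    have hbb : Commute (b : G ⧸ N) (b' : G ⧸ N) := by
      show (b : G ⧸ N) * b' = b' * b
      rw [← QuotientGroup.mk_mul, ← QuotientGroup.mk_mul, hB b hb b' hb']
    have := Commute.mul_left (Commute.mul_right haa (hab a ha b' hb'))
      (Commute.mul_right (hab a' ha' b hb).symm hbb)
    simpa [QuotientGroup.mk_mul] using this.eq
  rw [isSolvable_def]
  refine ⟨2, ?_⟩
  have h1 : derivedSeries G 2 = ⁅commutator G, commutator G⁆ := by
    rw [derivedSeries_succ, derivedSeries_one]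
  rw [h1, eq_bot_iff]
  have h2 : ⁅N, N⁆ = ⊥ := by
    rw [Subgroup.commutator_eq_bot_iff_le_centralizer]
    exact Subgroup.le_centralizer_iff_isMulCommutative.mpr hNc
  rw [← h2]
  exact Subgroup.commutator_mono hcomm hcomm

end

end Cfsg.Agent.Lib.Lead
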