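import Mathlib
import Cfsg.Agent.Lib.Lead.Ito

set_option autoImplicit false

namespace Cfsg.Agent.Lib.Lead

open scoped Pointwise commutatorElement

variable {G : Type*} [Group G]

/-- in a finite `p`-group, a nontrivial normal subgroup contains a normal subgroup of `G` of
index `p` in it -/
theorem exists_normal_index_p_below [Finite G] {p : ℕ} [hp : Fact p.Prime] (hG : IsPGroup p G)
    (A : Subgroup G) [hAn : A.Normal] (a : ℕ) (hA : Nat.card A = p ^ (a + 1)) :
    ∃ B : Subgroup G, B.Normal ∧ B ≤ A ∧ Nat.card B = p ^ a := by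
  classical
  have hAne : A ≠ ⊥ := by
    intro h
    rw [h, Subgroup.card_bot] at hA
    have : 1 < p ^ (a + 1) := Nat.one_lt_pow (Nat.succ_ne_zero a) hp.out.one_lt
    omega
  let S := {B : Subgroup G // B.Normal ∧ B ≤ A ∧ B ≠ A}
  haveI : Nonempty S := ⟨⟨⊥, Subgroup.normal_bot, bot_le, fun h => hAne h.symm⟩⟩
  obtain ⟨⟨B, hBn, hBA, hBne⟩, hmax⟩ := Finite.exists_max (fun B : S => Nat.card B.1)
  haveI := hBn
  refine ⟨B, hBn, hBA, ?_⟩
  -- the quotient
  set Ab : Subgroup (G ⧸ B) := A.map (QuotientGroup.mk' B) with hAb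
  haveI hAbn : Ab.Normal := hAn.map _ (QuotientGroup.mk'_surjective B)
  have hAbne : Ab ≠ ⊥ := by
    intro h
    rw [hAb, Subgroup.map_eq_bot_iff, QuotientGroup.ker_mk'] at h
    exact hBne (le_antisymm hBA h)
  have hQ : IsPGroup p (G ⧸ B) := hG.to_quotient B
  haveI : Group.IsNilpotent (G ⧸ B) := hQ.isNilpotent
  have hne := inf_center_ne_bot Ab hAbne
  obtain ⟨z0, hz01⟩ := (Subgroup.ne_bot_iff_exists_ne_one).mp hne
  obtain ⟨z, hz, hz1⟩ : ∃ z ∈ Ab ⊓ Subgroup.center (G ⧸ B), z ≠ 1 :=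
    ⟨z0.1, z0.2, fun h => hz01 (Subtype.ext h)⟩
  obtain ⟨k, hk⟩ := (IsPGroup.iff_orderOf.mp hQ) z
  have hk0 : k ≠ 0 := by
    rintro rfl
    rw [pow_zero, orderOf_eq_one_iff] at hk
    exact hz1 hk
  have hdvd : p ∣ orderOf z := by
    rw [hk]; exact dvd_pow_self p hk0
  set z' := z ^ (orderOf z / p) with hz'
  have hoz' : orderOf z' = p := orderOf_pow_orderOf_div (orderOf_pos z).ne' hdvd
  have hz'mem : z' ∈ Ab ⊓ Subgroup.center (G ⧸ B) := Subgroup.pow_mem _ hz _
  set Zb : Subgroup (G ⧸ B) := Subgroup.zpowers z' with hZb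
  haveI hZbn : Zb.Normal := zpowers_normal_of_mem_center hz'mem.2
  have hZbcard : Nat.card Zb = p := by rw [hZb, Nat.card_zpowers, hoz']
  have hZbA : Zb ≤ Ab := by
    rw [hZb, Subgroup.zpowers_le]; exact hz'mem.1
  set B' : Subgroup G := Zb.comap (QuotientGroup.mk' B) with hB'
  haveI hB'n : B'.Normal := hZbn.comap _
  have hB'card : Nat.card B' = p * Nat.card B := by
    rw [hB', card_comap_mk, hZbcard]
  have hB'A : B' ≤ A := by
    intro x hx
    have h1 : (QuotientGroup.mk' B) x ∈ Ab := hZbA hx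
    obtain ⟨y, hy, hyx⟩ := h1
    have h2 : y⁻¹ * x ∈ B := by
      rw [← QuotientGroup.eq]; exact hyx
    have : x = y * (y⁻¹ * x) := by group
    rw [this]
    exact A.mul_mem hy (hBA h2)
  have hB'eq : B' = A := by
    by_contra hne'
    have := hmax ⟨B', hB'n, hB'A, hne'⟩
    simp only [hB'card] at this
    have hpos : 0 < Nat.card B := Nat.card_pos
    have := hp.out.one_lt
    nlinarith
  rw [hB'eq, hA, pow_succ, mul_comm] at hB'card
  exact (Nat.eq_of_mul_eq_mul_left hp.out.pos hB'card).symm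

end Cfsg.Agent.Lib.Lead
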