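import Mathlib
import Cfsg.Agent.Lib.Lead.PGroupChief

set_option autoImplicit false

namespace Cfsg.Agent.Lib.Lead

open scoped Pointwise commutatorElement

variable {G : Type*} [Group G]

/-- bounding a relative index by an injection of cosets -/
theorem relIndex_le_of_injOn [Finite G] (H K : Subgroup G) (S : Set G) (f : G → G)
    (hf : ∀ x ∈ H, f x ∈ S) (hinj : ∀ x ∈ H, ∀ y ∈ H, f x = f y → y⁻¹ * x ∈ K) :
    K.relIndex H ≤ Nat.card S := by
  classical
  let F : H ⧸ K.subgroupOf H → S := fun q => ⟨f (Quotient.out q : H), hf _ (Quotient.out q : H).2⟩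
  have hF : Function.Injective F := by
    intro q q' h
    have h1 : f (Quotient.out q : H) = f (Quotient.out q' : H) := congrArg Subtype.val h
    have h2 := hinj _ (Quotient.out q : H).2 _ (Quotient.out q' : H).2 h1
    have h3 : ((Quotient.out q' : H) : H ⧸ K.subgroupOf H) = ((Quotient.out q : H) : H ⧸ K.subgroupOf H) := by
      rw [QuotientGroup.eq, Subgroup.mem_subgroupOf]
      simpa using h2
    rw [QuotientGroup.out_eq', QuotientGroup.out_eq'] at h3
    exact h3.symm
  exact Nat.card_le_card_of_injective F hF

/-- `|G : C_G(A)| ≤ p^(a(a-1)/2)` for a normal subgroup `A` of order `p^a` of a `p`-group -/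
theorem index_centralizer_le [Finite G] {p : ℕ} [hp : Fact p.Prime] (hG : IsPGroup p G) :
    ∀ (a : ℕ) (A : Subgroup G) [A.Normal], Nat.card A = p ^ a →
      (Subgroup.centralizer (A : Set G)).index ≤ p ^ (a * (a - 1) / 2) := by
  intro a
  induction a with
  | zero =>
    intro A _ hA
    rw [pow_zero] at hA
    have : A = ⊥ := Subgroup.eq_bot_of_card_eq A hA
    subst this
    have h1 : Subgroup.centralizer (((⊥ : Subgroup G) : Subgroup G) : Set G) = ⊤ := by
      rw [Subgroup.centralizer_eq_top_iff_subset]
      intro x hx
      rw [SetLike.mem_coe, Subgroup.mem_bot] at hx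
      rw [hx]
      exact Subgroup.one_mem _
    rw [h1, Subgroup.index_top]
    simp
  | succ a ih =>
    intro A hAn hA
    obtain ⟨B, hBn, hBA, hBcard⟩ := exists_normal_index_p_below hG A a hA
    haveI := hBn
    have ihB := ih B hBcard
    set CA := Subgroup.centralizer (A : Set G) with hCA
    set CB := Subgroup.centralizer (B : Set G) with hCB
    have hCAB : CA ≤ CB := Subgroup.centralizer_le (by exact_mod_cast hBA)
    -- an element outside `B`
    have hBne : B ≠ A := by
      intro h
      rw [h, hA] at hBcard
      have := Nat.pow_right_injective hp.out.two_le hBcard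
      omega
    obtain ⟨g₀, hg₀A, hg₀B⟩ : ∃ g₀ ∈ A, g₀ ∉ B := by
      by_contra h
      push Not at h
      exact hBne (le_antisymm hBA h)
    -- `[A, G] ≤ B`
    have hcomm : ∀ x : G, ⁅g₀, x⁆ ∈ B := by
      intro x
      set Ab : Subgroup (G ⧸ B) := A.map (QuotientGroup.mk' B) with hAb
      haveI hAbn : Ab.Normal := hAn.map _ (QuotientGroup.mk'_surjective B)
      have hAbcard : Nat.card Ab = p := by
        have := card_map_mk_of_le B A hBA
        rw [hA, hBcard, pow_succ, mul_comm] at this
        exact Nat.eq_of_mul_eq_mul_left (pow_pos hp.out.pos a) this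
      have hcen := le_center_of_normal_of_card_prime (hG.to_quotient B) Ab hAbcard
      have h1 : (g₀ : G ⧸ B) ∈ Subgroup.center (G ⧸ B) := hcen ⟨g₀, hg₀A, rfl⟩
      exact (mk_mem_center_iff B g₀).mp h1 x
    -- the injection
    have hrel : CA.relIndex CB ≤ Nat.card (B : Set G) := by
      apply relIndex_le_of_injOn CB CA (B : Set G) (fun x => ⁅g₀, x⁆)
      · intro x _
        exact hcomm x
      · intro x hx y hy hxy
        -- `y⁻¹ x` commutes with `g₀` and with `B`
        set z := y⁻¹ * x with hz
        have hzB : z ∈ CB := CB.mul_mem (CB.inv_mem hy) hx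
        have hzg : g₀ * z = z * g₀ := by
          simp only [commutatorElement_def] at hxy
          have h1 : x * g₀⁻¹ * x⁻¹ = y * g₀⁻¹ * y⁻¹ := by
            have := congrArg (fun t => g₀⁻¹ * t) hxy
            simpa [mul_assoc] using this
          have h2 : z * g₀⁻¹ = g₀⁻¹ * z := by
            calc z * g₀⁻¹ = y⁻¹ * (x * g₀⁻¹ * x⁻¹) * x := by rw [hz]; group
              _ = y⁻¹ * (y * g₀⁻¹ * y⁻¹) * x := by rw [h1]
              _ = g₀⁻¹ * z := by rw [hz]; group
          calc g₀ * z = g₀ * (z * g₀⁻¹) * g₀ := by group
            _ = g₀ * (g₀⁻¹ * z) * g₀ := by rw [h2]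
            _ = z * g₀ := by group
        -- the subgroup of `A` commuting with `z`
        set D : Subgroup G := A ⊓ Subgroup.centralizer {z} with hD
        have hBD : B ≤ D := by
          intro b hb
          refine Subgroup.mem_inf.mpr ⟨hBA hb, ?_⟩
          rw [Subgroup.mem_centralizer_iff]
          intro w hw
          rw [Set.mem_singleton_iff] at hw
          rw [hw]
          exact ((Subgroup.mem_centralizer_iff.mp hzB) b hb).symm
        have hg₀D : g₀ ∈ D := by
          refine Subgroup.mem_inf.mpr ⟨hg₀A, ?_⟩
          rw [Subgroup.mem_centralizer_iff]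
          intro w hw
          rw [Set.mem_singleton_iff] at hw
          rw [hw]
          exact hzg.symm
        have hDA : D = A := by
          have h1 : Nat.card B ∣ Nat.card D := Subgroup.card_dvd_of_le hBD
          have h2 : Nat.card D ∣ Nat.card A := Subgroup.card_dvd_of_le inf_le_left
          obtain ⟨t, ht⟩ := h1
          rw [ht, hA, hBcard, pow_succ] at h2
          have h3 : t ∣ p := Nat.dvd_of_mul_dvd_mul_left (pow_pos hp.out.pos a) h2
          rcases (Nat.dvd_prime hp.out).mp h3 with h4 | h4
          · exfalso
            rw [h4, mul_one] at ht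
            have := Subgroup.eq_of_le_of_card_ge hBD (le_of_eq ht)
            exact hg₀B (this ▸ hg₀D)
          · apply Subgroup.eq_of_le_of_card_ge inf_le_left
            rw [hA, ht, hBcard, h4, pow_succ]
        rw [hCA, Subgroup.mem_centralizer_iff]
        intro u hu
        have huD : u ∈ D := hDA ▸ hu
        have := (Subgroup.mem_centralizer_iff.mp huD.2) z (Set.mem_singleton z)
        exact this.symm
    have hBsetcard : Nat.card (B : Set G) = p ^ a := hBcard
    rw [hBsetcard] at hrel
    have hidx : CA.index = CA.relIndex CB * CB.index := (Subgroup.relIndex_mul_index hCAB).symm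
    rw [hidx]
    have hexp : (a + 1) * (a + 1 - 1) / 2 = a * (a - 1) / 2 + a := by
      have h1 : (a + 1) * (a + 1 - 1) = a * (a - 1) + 2 * a := by
        cases a with
        | zero => simp
        | succ b => simp only [Nat.add_sub_cancel]; ring
      rw [h1, Nat.add_mul_div_left _ _ (by norm_num : 0 < 2)]
    rw [hexp, pow_add, mul_comm]
    exact Nat.mul_le_mul ihB hrel

end Cfsg.Agent.Lib.Lead
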