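import Mathlib
import Cfsg.Agent.Lib.Lead.CentralizerBound

set_option autoImplicit false

namespace Cfsg.Agent.Lib.Lead

open scoped Pointwise commutatorElement

variable {G : Type*} [Group G]

/-- local version of the class-two power formula -/
theorem mul_pow_of_commute (x y : G) (hx : Commute ⁅y, x⁆ x) (hy : Commute ⁅y, x⁆ y) (n : ℕ) :
    (x * y) ^ n = x ^ n * y ^ n * ⁅y, x⁆ ^ (n.choose 2) := by
  have hcen : ∀ g : G, g ∈ Subgroup.centralizer {⁅y, x⁆} → g * ⁅y, x⁆ = ⁅y, x⁆ * g := by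
    intro g hg
    exact ((Subgroup.mem_centralizer_iff.mp hg) _ (Set.mem_singleton _)).symm
  have hxc : x ∈ Subgroup.centralizer {⁅y, x⁆} := by
    rw [Subgroup.mem_centralizer_iff]
    intro h hh
    rw [Set.mem_singleton_iff] at hh
    rw [hh]; exact hx.eq
  have hyc : y ∈ Subgroup.centralizer {⁅y, x⁆} := by
    rw [Subgroup.mem_centralizer_iff]
    intro h hh
    rw [Set.mem_singleton_iff] at hh
    rw [hh]; exact hy.eq
  induction n with
  | zero => simp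
  | succ n ih =>
    have hcenpow : ∀ (k : ℕ) (g : G), g ∈ Subgroup.centralizer {⁅y, x⁆} →
        g * ⁅y, x⁆ ^ k = ⁅y, x⁆ ^ k * g := by
      intro k g hg
      exact ((Commute.pow_right (hcen g hg) k : Commute g (⁅y, x⁆ ^ k))).eq
    have h1 : y ^ n * x = ⁅y, x⁆ ^ n * x * y ^ n := by
      have h2 : ⁅y ^ n, x⁆ = ⁅y, x⁆ ^ n :=
        commutatorElement_pow_left y x hy n
      rw [← h2, commutatorElement_def]; group
    have hch : (n + 1).choose 2 = n.choose 2 + n := by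
      rw [Nat.choose_succ_succ' n 1, Nat.choose_one_right, add_comm]
    have h1' : y ^ n * x = x * y ^ n * ⁅y, x⁆ ^ n := by
      rw [h1, mul_assoc, ← hcenpow n (x * y ^ n)
        (Subgroup.mul_mem _ hxc (Subgroup.pow_mem _ hyc n))]
    calc (x * y) ^ (n + 1) = (x * y) ^ n * (x * y) := pow_succ _ _
      _ = x ^ n * y ^ n * ⁅y, x⁆ ^ (n.choose 2) * (x * y) := by rw [ih]
      _ = x ^ n * y ^ n * (x * y) * ⁅y, x⁆ ^ (n.choose 2) := by
        rw [mul_assoc (x ^ n * y ^ n), ← hcenpow (n.choose 2) (x * y)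
          (Subgroup.mul_mem _ hxc hyc), ← mul_assoc]
      _ = x ^ n * (y ^ n * x) * y * ⁅y, x⁆ ^ (n.choose 2) := by group
      _ = x ^ n * (x * y ^ n * ⁅y, x⁆ ^ n) * y * ⁅y, x⁆ ^ (n.choose 2) := by rw [h1']
      _ = x ^ n * x * y ^ n * (⁅y, x⁆ ^ n * y) * ⁅y, x⁆ ^ (n.choose 2) := by group
      _ = x ^ n * x * y ^ n * (y * ⁅y, x⁆ ^ n) * ⁅y, x⁆ ^ (n.choose 2) := by rw [hcenpow n y hyc]
      _ = (x ^ n * x) * (y ^ n * y) * (⁅y, x⁆ ^ n * ⁅y, x⁆ ^ (n.choose 2)) := by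
        simp only [mul_assoc]
      _ = x ^ (n + 1) * y ^ (n + 1) * ⁅y, x⁆ ^ ((n + 1).choose 2) := by
        rw [← pow_succ, ← pow_succ, ← pow_add, hch, add_comm (n.choose 2) n]

end Cfsg.Agent.Lib.Lead
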