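import Mathlib
import Cfsg.Agent.Lib.Lead.AlperinOmega

set_option autoImplicit false

namespace Cfsg.Agent.Lib.Lead

open scoped Pointwise commutatorElement

variable {G : Type*} [Group G]

section
variable [Finite G] {p : ℕ} [hp : Fact p.Prime] (hG : IsPGroup p G) (n : ℕ) (hn : p ^ n ≠ 2)
  (A : Subgroup G) [hAn : A.Normal] [hA : IsMulCommutative A] (hAe : ∀ a ∈ A, a ^ p ^ n = 1)
  (hmax : ∀ B : Subgroup G, B.Normal → IsMulCommutative B → (∀ b ∈ B, b ^ p ^ n = 1) → A ≤ B → B = A)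

include hG hn hAe hmax in
theorem alperin_step (x₀ : G) (hxC : x₀ ∈ Subgroup.centralizer (A : Set G)) (hxA : x₀ ∉ A)
    (hxp : x₀ ^ p ∈ A) (hxn : x₀ ^ p ^ n = 1) :
    ∃ u : G, ⁅x₀, u⁆ ∈ Subgroup.centralizer (A : Set G) ∧ ⁅x₀, u⁆ ∉ A ∧ ⁅x₀, u⁆ ^ p ^ n = 1 := by
  classical
  haveI : Group.IsNilpotent G := hG.isNilpotent
  set C := Subgroup.centralizer (A : Set G) with hC
  haveI hCn : C.Normal := Subgroup.normal_centralizer
  have hAC : A ≤ C := Subgroup.le_centralizer A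
  set X : Subgroup G := A ⊔ Subgroup.zpowers x₀ with hX
  have hAX : A ≤ X := le_sup_left
  have hx₀X : x₀ ∈ X := le_sup_right (a := A) (Subgroup.mem_zpowers x₀)
  have hcommAx : ∀ y ∈ A, ∀ z ∈ Subgroup.zpowers x₀, y * z = z * y := by
    intro y hy z hz
    have h1 : Subgroup.zpowers x₀ ≤ C := Subgroup.zpowers_le.mpr hxC
    exact (Subgroup.mem_centralizer_iff.mp (h1 hz)) y hy
  have hXelem : ∀ w ∈ X, ∃ a ∈ A, ∃ j : ℤ, w = a * x₀ ^ j := by
    intro w hw
    obtain ⟨a, ha, z, hz, rfl⟩ := mem_sup_of_commute A (Subgroup.zpowers x₀) hcommAx hw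
    obtain ⟨j, rfl⟩ := Subgroup.mem_zpowers_iff.mp hz
    exact ⟨a, ha, j, rfl⟩
  have hXcomm : IsMulCommutative X := sup_zpowers_comm A hxC
  have hXexp : ∀ w ∈ X, w ^ p ^ n = 1 := by
    intro w hw
    obtain ⟨a, ha, j, rfl⟩ := hXelem w hw
    have hc : Commute a (x₀ ^ j) := hcommAx a ha _ (Subgroup.zpow_mem_zpowers x₀ j)
    rw [hc.mul_pow, hAe a ha, one_mul, ← zpow_natCast, ← zpow_mul, mul_comm, zpow_mul,
      zpow_natCast, hxn, one_zpow]
  have hXnn : ¬ X.Normal := by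
    intro hXn
    have := hmax X hXn hXcomm hXexp hAX
    exact hxA (this ▸ hx₀X)
  set M : Subgroup G := Subgroup.normalizer (X : Set G) with hM
  have hMtop : M < ⊤ := by
    rw [lt_top_iff_ne_top]
    intro h
    exact hXnn (Subgroup.normalizer_eq_top_iff.mp h)
  have hXM : X ≤ M := Subgroup.le_normalizer
  obtain ⟨u, huN, huM⟩ := SetLike.exists_of_lt (Group.normalizerCondition_of_isNilpotent M hMtop)
  have huinvN : u⁻¹ ∈ Subgroup.normalizer (M : Set G) := Subgroup.inv_mem _ huN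
  set x'' : G := u * x₀⁻¹ * u⁻¹ with hx''
  set Y : Subgroup G := MulAut.conj u • X with hY
  have hYne : Y ≠ X := by
    intro h
    exact huM ((mem_normalizer_iff_conj_smul u X).mpr h)
  have hYX : ¬ Y ≤ X := by
    intro h
    exact hYne (Subgroup.eq_of_le_of_card_ge h (le_of_eq (card_conj_smul u X).symm))
  have hXY : ¬ X ≤ Y := by
    intro h
    exact hYne (Subgroup.eq_of_le_of_card_ge h (le_of_eq (card_conj_smul u X))).symm
  have hx''Y : x'' ∈ Y := by
    rw [hY, mem_conj_smul_iff']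
    have : u⁻¹ * x'' * u = x₀⁻¹ := by rw [hx'']; group
    rw [this]
    exact X.inv_mem hx₀X
  have hYM : Y ≤ M := by
    intro w hw
    rw [hY, mem_conj_smul_iff'] at hw
    have h1 := (Subgroup.mem_normalizer_iff.mp huN (u⁻¹ * w * u)).mp (hXM hw)
    have h2 : u * (u⁻¹ * w * u) * u⁻¹ = w := by group
    rwa [h2] at h1
  have hXNY : X ≤ Subgroup.normalizer (Y : Set G) := by
    intro g hg
    rw [hY, conj_smul_mem_normalizer_iff]
    have h1 := (Subgroup.mem_normalizer_iff.mp huinvN g).mp (hXM hg)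
    rwa [inv_inv] at h1
  have hAY : A ≤ Y := by
    intro a ha
    rw [hY, mem_conj_smul_iff']
    have h1 := hAn.conj_mem a ha u⁻¹
    rw [inv_inv] at h1
    exact hAX h1
  set c' : G := ⁅x'', x₀⁆ with hc'
  have hc'X : c' ∈ X := by
    have h1 := (Subgroup.mem_normalizer_iff.mp (hYM hx''Y) x₀).mp hx₀X
    have h2 : c' = (x'' * x₀ * x''⁻¹) * x₀⁻¹ := by rw [hc', commutatorElement_def]
    rw [h2]
    exact X.mul_mem h1 (X.inv_mem hx₀X)
  have hc'Y : c' ∈ Y := by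
    have h1 := (Subgroup.mem_normalizer_iff.mp (hXNY hx₀X) x''⁻¹).mp (Y.inv_mem hx''Y)
    have h2 : c' = x'' * (x₀ * x''⁻¹ * x₀⁻¹) := by rw [hc', commutatorElement_def]; group
    rw [h2]
    exact Y.mul_mem hx''Y h1
  have hc'A : c' ∈ A := by
    obtain ⟨a, ha, j, hj⟩ := hXelem c' hc'X
    by_cases hpj : (p : ℤ) ∣ j
    · obtain ⟨k, rfl⟩ := hpj
      rw [hj, zpow_mul, zpow_natCast]
      exact A.mul_mem ha (A.zpow_mem hxp k)
    · exfalso
      have hcop : IsCoprime j (p : ℤ) :=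
        ((Nat.prime_iff_prime_int.mp hp.out).coprime_iff_not_dvd.mpr hpj).symm
      obtain ⟨s, t, hst⟩ := hcop
      have h1 : x₀ ^ j ∈ Y := by
        have : x₀ ^ j = a⁻¹ * c' := by rw [hj]; group
        rw [this]
        exact Y.mul_mem (Y.inv_mem (hAY ha)) hc'Y
      have h2 : x₀ ∈ Y := by
        have : x₀ = (x₀ ^ j) ^ s * (x₀ ^ p) ^ t := by
          rw [← zpow_mul, ← zpow_natCast x₀ p, ← zpow_mul, ← zpow_add, mul_comm j s,
            mul_comm (p : ℤ) t, hst, zpow_one]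
        rw [this]
        exact Y.mul_mem (Y.zpow_mem h1 s) (Y.zpow_mem (hAY hxp) t)
      exact hXY (sup_le hAY (Subgroup.zpowers_le.mpr h2))
  have hx''C : x'' ∈ C := by
    rw [hx'']
    exact hCn.conj_mem _ (C.inv_mem hxC) u
  have hcx₀ : Commute c' x₀ := (Subgroup.mem_centralizer_iff.mp hxC) c' hc'A
  have hcx'' : Commute c' x'' := (Subgroup.mem_centralizer_iff.mp hx''C) c' hc'A
  have hx''p : x'' ^ p ∈ A := by
    have : x'' ^ p = u * (x₀ ^ p)⁻¹ * u⁻¹ := by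
      rw [hx'', conj_pow, inv_pow]
    rw [this]
    exact hAn.conj_mem _ (A.inv_mem hxp) u
  have hc'p : c' ^ p = 1 := by
    rw [hc', ← commutatorElement_pow_left x'' x₀ hcx'' p, commutatorElement_def]
    have := (Subgroup.mem_centralizer_iff.mp hxC) _ hx''p
    rw [this]; group
  refine ⟨u, ?_, ?_, ?_⟩
  · have : ⁅x₀, u⁆ = x₀ * x'' := by rw [commutatorElement_def, hx'']; group
    rw [this]
    exact C.mul_mem hxC hx''C
  · intro hmem
    have h1 : ⁅x₀, u⁆ = x₀ * x'' := by rw [commutatorElement_def, hx'']; group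
    rw [h1] at hmem
    have hx''X : x'' ∈ X := by
      have : x'' = x₀⁻¹ * (x₀ * x'') := by group
      rw [this]
      exact X.mul_mem (X.inv_mem hx₀X) (hAX hmem)
    apply hYX
    intro w hw
    rw [hY, mem_conj_smul_iff'] at hw
    obtain ⟨a, ha, j, hj⟩ := hXelem _ hw
    have h2 : w = (u * a * u⁻¹) * (x''⁻¹) ^ j := by
      have h3 : (x''⁻¹) ^ j = u * x₀ ^ j * u⁻¹ := by
        have : x''⁻¹ = u * x₀ * u⁻¹ := by rw [hx'']; group
        rw [this, conj_zpow]
      rw [h3]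
      have : w = u * (u⁻¹ * w * u) * u⁻¹ := by group
      rw [this, hj]; group
    rw [h2]
    exact X.mul_mem (hAX (hAn.conj_mem a ha u)) (X.zpow_mem (X.inv_mem hx''X) j)
  · have h1 : ⁅x₀, u⁆ = x₀ * x'' := by rw [commutatorElement_def, hx'']; group
    rw [h1, mul_pow_of_commute x₀ x'' hcx₀ hcx'', hxn, one_mul]
    have h2 : x'' ^ p ^ n = 1 := by
      rw [hx'', conj_pow, inv_pow, hxn]; group
    rw [h2, one_mul]
    obtain ⟨k, hk⟩ := Nat.Prime.dvd_choose_pow hp.out (by norm_num : (2 : ℕ) ≠ 0) (Ne.symm hn)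
    rw [hk, pow_mul, hc'p, one_pow]

end

end Cfsg.Agent.Lib.Lead
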