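import Mathlib
import Cfsg.Agent.Lib.Lead.AlperinOmega2

set_option autoImplicit false

namespace Cfsg.Agent.Lib.Lead

open scoped Pointwise commutatorElement

variable {G : Type*} [Group G]

theorem alperin_omega [Finite G] {p : ℕ} [hp : Fact p.Prime] (hG : IsPGroup p G) (n : ℕ)
    (hn : p ^ n ≠ 2) (A : Subgroup G) [hAn : A.Normal] [hA : IsMulCommutative A]
    (hAe : ∀ a ∈ A, a ^ p ^ n = 1)
    (hmax : ∀ B : Subgroup G, B.Normal → IsMulCommutative B → (∀ b ∈ B, b ^ p ^ n = 1) →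
      A ≤ B → B = A)
    (x : G) (hx : x ∈ Subgroup.centralizer (A : Set G)) (hxn : x ^ p ^ n = 1) : x ∈ A := by
  classical
  by_contra hxA
  haveI : Group.IsNilpotent G := hG.isNilpotent
  have key : ∀ i : ℕ, ∃ z ∈ (⊤ : Subgroup G).lowerCentralSeries i,
      z ∈ Subgroup.centralizer (A : Set G) ∧ z ∉ A ∧ z ^ p ^ n = 1 := by
    intro i
    induction i with
    | zero => exact ⟨x, Subgroup.mem_top x, hx, hxA, hxn⟩
    | succ i ih =>
      obtain ⟨z, hzL, hzC, hzA, hzn⟩ := ih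
      have hex : ∃ j : ℕ, z ^ p ^ j ∈ A := ⟨n, by rw [hzn]; exact A.one_mem⟩
      set j := Nat.find hex with hj
      have hjA : z ^ p ^ j ∈ A := Nat.find_spec hex
      have hj0 : j ≠ 0 := by
        intro h0
        rw [h0, pow_zero, pow_one] at hjA
        exact hzA hjA
      obtain ⟨k, hk⟩ : ∃ k, j = k + 1 := ⟨j - 1, by omega⟩
      set x₀ := z ^ p ^ k with hx₀
      have hx₀A : x₀ ∉ A := Nat.find_min hex (by omega : k < j)
      have hx₀p : x₀ ^ p ∈ A := by
        rw [hx₀, ← pow_mul, ← pow_succ, ← hk]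
        exact hjA
      have hx₀n : x₀ ^ p ^ n = 1 := by
        rw [hx₀, ← pow_mul, mul_comm, pow_mul, hzn, one_pow]
      have hx₀C : x₀ ∈ Subgroup.centralizer (A : Set G) := Subgroup.pow_mem _ hzC _
      have hx₀L : x₀ ∈ (⊤ : Subgroup G).lowerCentralSeries i := Subgroup.pow_mem _ hzL _
      obtain ⟨u, hu1, hu2, hu3⟩ := alperin_step hG n hn A hAe hmax x₀ hx₀C hx₀A hx₀p hx₀n
      refine ⟨⁅x₀, u⁆, ?_, hu1, hu2, hu3⟩
      rw [Subgroup.lowerCentralSeries_succ]
      exact Subgroup.commutator_mem_commutator hx₀L (Subgroup.mem_top u)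
  obtain ⟨k, hk⟩ := Subgroup.nilpotent_iff_lowerCentralSeries.mp (inferInstance : Group.IsNilpotent G)
  obtain ⟨z, hzL, _, hzA, _⟩ := key k
  rw [hk, Subgroup.mem_bot] at hzL
  exact hzA (hzL ▸ A.one_mem)

end Cfsg.Agent.Lib.Lead
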