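import Mathlib
import Cfsg.Agent.Lib.Lead.AlperinOmega3
import Cfsg.Agent.Lib.Helper3.Gen2
import Cfsg.Agent.S3917

set_option autoImplicit false

namespace Cfsg.Agent.Lib.Lead

open scoped Pointwise IsMulCommutative

/-- a noncyclic finite abelian group has more than `p` elements of order dividing `p` for some
prime `p` -/
theorem exists_prime_lt_card_torsion {A : Type*} [CommGroup A] [Finite A] (h : ¬ IsCyclic A) :
    ∃ p : ℕ, p.Prime ∧ p < Nat.card (Cfsg.Agent.S3917.K A p) := by
  classical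
  haveI := Fintype.ofFinite A
  by_contra hall
  push Not at hall
  apply h
  apply isCyclic_of_card_pow_eq_one_le
  intro n hn
  rw [← Cfsg.Agent.S3917.card_K]
  exact Cfsg.Agent.S3917.card_K_le_of_prime hall n hn

/-- a noncyclic finite abelian group contains an elementary abelian subgroup of order `p^2` -/
theorem exists_elementary_abelian_sq {A : Type*} [CommGroup A] [Finite A] (h : ¬ IsCyclic A) :
    ∃ (p : ℕ) (_ : p.Prime) (E : Subgroup A), Nat.card E = p ^ 2 ∧ ∀ e ∈ E, e ^ p = 1 := by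
  classical
  obtain ⟨p, hp, hlt⟩ := exists_prime_lt_card_torsion h
  haveI : Fact p.Prime := ⟨hp⟩
  set T := Cfsg.Agent.S3917.K A p with hT
  have hTp : IsPGroup p T := by
    intro g
    refine ⟨1, ?_⟩
    apply Subtype.ext
    have := (Cfsg.Agent.S3917.mem_K p (g : A)).mp g.2
    simpa using this
  obtain ⟨j, hj⟩ := (IsPGroup.iff_card).mp hTp
  have hj2 : 2 ≤ j := by
    by_contra hlt2
    have : j ≤ 1 := by omega
    have h1 : p ^ j ≤ p ^ 1 := Nat.pow_le_pow_right hp.pos this
    rw [pow_one, ← hj] at h1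
    omega
  have hdvd : p ^ 2 ∣ Nat.card T := by
    rw [hj]; exact pow_dvd_pow p hj2
  obtain ⟨E₀, hE₀⟩ := Sylow.exists_subgroup_card_pow_prime p hdvd
  refine ⟨p, hp, E₀.map T.subtype, ?_, ?_⟩
  · rw [card_map_subtype, hE₀]
  · rintro _ ⟨e, _, rfl⟩
    exact (Cfsg.Agent.S3917.mem_K p (e : A)).mp e.2

variable {G : Type*} [Group G]

theorem generated_by_centralizers [Finite G] (A K : Subgroup G) [hAc : IsMulCommutative A]
    (hA : ¬ IsCyclic A) (hAK : A ≤ Subgroup.normalizer (K : Set G))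
    (hcop : (Nat.card A).Coprime (Nat.card K)) :
    (⨆ a ∈ {a : G | a ∈ A ∧ a ≠ 1}, K ⊓ Subgroup.centralizer {a}) = K := by
  classical
  apply le_antisymm
  · exact iSup₂_le fun _ _ => inf_le_left
  obtain ⟨p, hp, E₀, hE₀card, hE₀exp⟩ := exists_elementary_abelian_sq (A := A) hA
  haveI : Fact p.Prime := ⟨hp⟩
  set E : Subgroup G := E₀.map A.subtype with hE
  have hEA : E ≤ A := Subgroup.map_subtype_le E₀
  have hEcard : Nat.card E = p ^ 2 := by rw [hE, card_map_subtype, hE₀card]
  have hEea : Cfsg.IsElementaryAbelian p E := by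
    constructor
    · constructor
      constructor
      rintro ⟨_, ⟨a, ha, rfl⟩⟩ ⟨_, ⟨b, hb, rfl⟩⟩
      apply Subtype.ext
      have := congrArg Subtype.val (mul_comm a b)
      simpa using this
    · rintro _ ⟨e, he, rfl⟩
      have := hE₀exp e he
      have := congrArg Subtype.val this
      simpa using this
  have hpA : p ∣ Nat.card A := by
    have h1 : Nat.card E ∣ Nat.card A := Subgroup.card_dvd_of_le hEA
    rw [hEcard] at h1
    exact (dvd_pow_self p (by norm_num : (2 : ℕ) ≠ 0)).trans h1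
  have hpK : ¬ p ∣ Nat.card K := by
    intro h
    have := Nat.dvd_gcd hpA h
    rw [hcop.gcd_eq_one] at this
    exact hp.one_lt.ne' (Nat.dvd_one.mp this)
  have h1 := Cfsg.Agent.Lib.Helper3.Gen.le_fixJoin hEea hEcard (Nat.card K) K le_rfl hpK
    (hEA.trans hAK)
  refine h1.trans ?_
  unfold Cfsg.Agent.Lib.Helper3.Gen.fixJoin
  apply iSup_le
  intro d
  exact le_biSup (fun a => K ⊓ Subgroup.centralizer {a}) (show (d : G) ∈ {a : G | a ∈ A ∧ a ≠ 1} from
    ⟨hEA d.2.1, d.2.2⟩)

end Cfsg.Agent.Lib.Lead
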