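import Mathlib
import Cfsg.Agent.Lib.Lead.GenCentralizers

set_option autoImplicit false

namespace Cfsg.Agent.Lib.Lead

open scoped Pointwise commutatorElement

universe u

section
variable {E : Type u} [Group E] [Finite E] {p : ℕ} [hp : Fact p.Prime]
  (hcard : Nat.card (Subgroup.center E) = p)
  (hcomm : ∀ g t : E, ⁅g, t⁆ ∈ Subgroup.center E)

include hcard hcomm in
/-- the centraliser of `t` has index `p` in `H` when `t` is not centralised by `H` -/
theorem card_eq_mul_card_centralizer (H : Subgroup E) (t : E) (g : E) (hg : g ∈ H)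
    (hgt : ⁅g, t⁆ ≠ 1) :
    Nat.card H = p * Nat.card (H ⊓ Subgroup.centralizer {t} : Subgroup E) := by
  classical
  let φ : E →* Subgroup.center E := commutatorHom (Subgroup.center E) le_rfl t (fun g => hcomm g t)
  let ψ : H →* Subgroup.center E := φ.comp H.subtype
  have hker : ψ.ker = (Subgroup.centralizer {t}).subgroupOf H := by
    ext h
    rw [MonoidHom.mem_ker, Subgroup.mem_subgroupOf, Subgroup.mem_centralizer_iff]
    constructor
    · intro h1 w hw
      rw [Set.mem_singleton_iff] at hw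
      have h2 : ⁅(h : E), t⁆ = 1 := congrArg Subtype.val h1
      rw [commutatorElement_eq_one_iff_mul_comm] at h2
      rw [hw]; exact h2.symm
    · intro h1
      apply Subtype.ext
      show ⁅(h : E), t⁆ = 1
      rw [commutatorElement_eq_one_iff_mul_comm]
      exact (h1 t (Set.mem_singleton t)).symm
  have hrange : Nat.card ψ.range = p := by
    have h1 : Nat.card ψ.range ∣ p := by
      rw [← hcard]; exact Subgroup.card_subgroup_dvd_card _
    rcases (Nat.dvd_prime hp.out).mp h1 with h2 | h2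
    · exfalso
      have h3 : ψ.range = ⊥ := Subgroup.eq_bot_of_card_eq _ h2
      have h4 : ψ ⟨g, hg⟩ ∈ ψ.range := ⟨_, rfl⟩
      rw [h3, Subgroup.mem_bot] at h4
      apply hgt
      exact congrArg Subtype.val h4
    · exact h2
  have h1 := ψ.ker.card_mul_index
  rw [Subgroup.index_ker, hrange, hker, card_subgroupOf_eq, inf_comm, mul_comm] at h1
  exact h1.symm

include hcard hcomm in
theorem extraspecial_card_aux : ∀ (n : ℕ) (H : Subgroup E), Nat.card H ≤ n →
    Subgroup.center E ≤ H → H ⊓ Subgroup.centralizer (H : Set E) = Subgroup.center E →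
    ∃ m : ℕ, Nat.card H = p ^ (2 * m + 1) := by
  intro n
  induction n using Nat.strong_induction_on with
  | _ n ih =>
  intro H hHn hZH hH
  classical
  set Z := Subgroup.center E with hZ
  by_cases hHZ : H = Z
  · exact ⟨0, by rw [hHZ, hcard]; simp⟩
  obtain ⟨x, hxH, hxZ⟩ : ∃ x ∈ H, x ∉ Z := by
    by_contra hcon
    push Not at hcon
    exact hHZ (le_antisymm hcon hZH)
  have hxC : x ∉ Subgroup.centralizer (H : Set E) := by
    intro h
    apply hxZ
    rw [← hH]
    exact ⟨hxH, h⟩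
  rw [Subgroup.mem_centralizer_iff] at hxC
  push Not at hxC
  obtain ⟨y, hyH, hyx⟩ := hxC
  have hyx1 : ⁅y, x⁆ ≠ 1 := by
    rw [Ne, commutatorElement_eq_one_iff_mul_comm]; exact hyx
  have hxy1 : ⁅x, y⁆ ≠ 1 := by
    rw [Ne, commutatorElement_eq_one_iff_mul_comm]; exact fun h => hyx h.symm
  set A : Subgroup E := H ⊓ Subgroup.centralizer {x} with hA
  have hcardH : Nat.card H = p * Nat.card A :=
    card_eq_mul_card_centralizer hcard hcomm H x y hyH hyx1
  have hxA : x ∈ A := by
    refine Subgroup.mem_inf.mpr ⟨hxH, ?_⟩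
    rw [Subgroup.mem_centralizer_iff]
    intro w hw
    rw [Set.mem_singleton_iff] at hw
    rw [hw]
  set H₁ : Subgroup E := A ⊓ Subgroup.centralizer {y} with hH₁
  have hcardA : Nat.card A = p * Nat.card H₁ :=
    card_eq_mul_card_centralizer hcard hcomm A y x hxA hxy1
  have hH₁H : H₁ ≤ H := inf_le_left.trans inf_le_left
  have hZH₁ : Z ≤ H₁ := by
    refine le_inf (le_inf hZH ?_) ?_
    · exact Subgroup.center_le_centralizer _
    · exact Subgroup.center_le_centralizer _
  have hxcomm : ∀ w ∈ H₁, w * x = x * w := by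
    intro w hw
    have h1 : w ∈ Subgroup.centralizer {x} := (Subgroup.mem_inf.mp (Subgroup.mem_inf.mp hw).1).2
    exact ((Subgroup.mem_centralizer_iff.mp h1) x (Set.mem_singleton x)).symm
  have hycomm : ∀ w ∈ H₁, w * y = y * w := by
    intro w hw
    have h1 : w ∈ Subgroup.centralizer {y} := (Subgroup.mem_inf.mp hw).2
    exact ((Subgroup.mem_centralizer_iff.mp h1) y (Set.mem_singleton y)).symm
  -- decomposition of elements of `H`
  have hZgen : ∀ (c : E), c ∈ Z → c ≠ 1 → ∀ w ∈ Z, ∃ k : ℤ, w = c ^ k := by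
    intro c hc hc1 w hw
    have h1 : Subgroup.zpowers (⟨c, hc⟩ : Z) = ⊤ :=
      zpowers_eq_top_of_prime_card hcard (fun h => hc1 (congrArg Subtype.val h))
    have h2 : (⟨w, hw⟩ : Z) ∈ Subgroup.zpowers (⟨c, hc⟩ : Z) := by rw [h1]; trivial
    obtain ⟨k, hk⟩ := Subgroup.mem_zpowers_iff.mp h2
    refine ⟨k, ?_⟩
    have := congrArg Subtype.val hk
    simpa using this.symm
  let φx : E →* Z := commutatorHom Z le_rfl x (fun g => hcomm g x)
  let φy : E →* Z := commutatorHom Z le_rfl y (fun g => hcomm g y)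
  have hφx : ∀ g : E, ((φx g : Z) : E) = ⁅g, x⁆ := fun _ => rfl
  have hφy : ∀ g : E, ((φy g : Z) : E) = ⁅g, y⁆ := fun _ => rfl
  have hdecomp : ∀ h ∈ H, ∃ h₁ ∈ H₁, ∃ i j : ℤ, h = h₁ * x ^ i * y ^ j := by
    intro h hh
    obtain ⟨j, hj⟩ := hZgen ⁅y, x⁆ (hcomm y x) hyx1 ⁅h, x⁆ (hcomm h x)
    set h' := h * (y ^ j)⁻¹ with hh'
    have h'x : ⁅h', x⁆ = 1 := by
      have h1 : φx h' = φx h * (φx y ^ j)⁻¹ := by
        rw [hh', map_mul, map_inv, map_zpow]
      have h2 := congrArg Subtype.val h1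
      rw [hφx] at h2
      rw [h2, Subgroup.coe_mul, Subgroup.coe_inv, Subgroup.coe_zpow, hφx, hφx, hj, mul_inv_cancel]
    have h'H : h' ∈ H := H.mul_mem hh (H.inv_mem (H.zpow_mem hyH j))
    have h'A : h' ∈ A := by
      refine Subgroup.mem_inf.mpr ⟨h'H, ?_⟩
      rw [Subgroup.mem_centralizer_iff]
      intro w hw
      rw [Set.mem_singleton_iff] at hw
      rw [hw]
      exact (commutatorElement_eq_one_iff_mul_comm.mp h'x).symm
    obtain ⟨i, hi⟩ := hZgen ⁅x, y⁆ (hcomm x y) hxy1 ⁅h', y⁆ (hcomm h' y)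
    set h'' := h' * (x ^ i)⁻¹ with hh''
    have h''y : ⁅h'', y⁆ = 1 := by
      have h1 : φy h'' = φy h' * (φy x ^ i)⁻¹ := by
        rw [hh'', map_mul, map_inv, map_zpow]
      have h2 := congrArg Subtype.val h1
      rw [hφy] at h2
      rw [h2, Subgroup.coe_mul, Subgroup.coe_inv, Subgroup.coe_zpow, hφy, hφy, hi, mul_inv_cancel]
    have h''A : h'' ∈ A := A.mul_mem h'A (A.inv_mem (A.zpow_mem hxA i))
    have h''H₁ : h'' ∈ H₁ := by
      refine Subgroup.mem_inf.mpr ⟨h''A, ?_⟩
      rw [Subgroup.mem_centralizer_iff]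
      intro w hw
      rw [Set.mem_singleton_iff] at hw
      rw [hw]
      exact (commutatorElement_eq_one_iff_mul_comm.mp h''y).symm
    refine ⟨h'', h''H₁, i, j, ?_⟩
    rw [hh'', hh']; group
  have hH₁c : H₁ ⊓ Subgroup.centralizer (H₁ : Set E) = Z := by
    apply le_antisymm
    · intro z hz
      rw [← hH]
      refine Subgroup.mem_inf.mpr ⟨hH₁H hz.1, ?_⟩
      rw [Subgroup.mem_centralizer_iff]
      intro h hh
      obtain ⟨h₁, hh₁, i, j, rfl⟩ := hdecomp h hh
      have e1 : h₁ * z = z * h₁ := (Subgroup.mem_centralizer_iff.mp hz.2) h₁ hh₁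
      have e2 : Commute z x := hxcomm z hz.1
      have e3 : Commute z y := hycomm z hz.1
      have e4 : Commute z (h₁ * x ^ i * y ^ j) :=
        (Commute.mul_right (Commute.mul_right e1.symm (e2.zpow_right i)) (e3.zpow_right j))
      exact e4.eq.symm
    · exact le_inf hZH₁ (Subgroup.center_le_centralizer _)
  have hlt : Nat.card H₁ < n := by
    have h1 : 0 < Nat.card H₁ := Nat.card_pos
    have h2 := hp.out.two_le
    have : Nat.card H = p * (p * Nat.card H₁) := by rw [hcardH, hcardA]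
    nlinarith
  obtain ⟨m, hm⟩ := ih _ hlt H₁ le_rfl hZH₁ hH₁c
  refine ⟨m + 1, ?_⟩
  rw [hcardH, hcardA, hm]
  ring

end

end Cfsg.Agent.Lib.Lead
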