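import Mathlib
import Cfsg.Agent.S0035
import Cfsg.Agent.Lib.Lead.Frobenius3
import Cfsg.Agent.Lib.Lead.ExtraspecialCard

set_option autoImplicit false
open Pointwise

namespace Cfsg.Agent.Lib.Lead

variable {G : Type*} [Group G]

/-- Frobenius data: a Frobenius complement together with its kernel as a normal subgroup. -/
structure FrobData (H K : Subgroup G) : Prop where
  frob : Cfsg.IsFrobeniusComplement H
  normal : K.Normal
  coe_eq : (K : Set G) = Cfsg.frobeniusKernel H
  compl : Subgroup.IsComplement' K H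

theorem exists_frobData [Finite G] {H : Subgroup G} (hH : Cfsg.IsFrobeniusComplement H) :
    ∃ K : Subgroup G, FrobData H K := by
  obtain ⟨K, h1, h2, h3⟩ := Cfsg.Agent.S0035.result H hH
  exact ⟨K, hH, h2, h1, h3⟩

namespace FrobData

variable {H K : Subgroup G}

theorem mem_iff (h : FrobData H K) {x : G} :
    x ∈ K ↔ x = 1 ∨ ∀ g : G, x ∉ MulAut.conj g • H := by
  rw [← SetLike.mem_coe, h.coe_eq]
  rfl

theorem not_mem_iff (h : FrobData H K) {x : G} :
    x ∉ K ↔ x ≠ 1 ∧ ∃ g : G, x ∈ MulAut.conj g • H := by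
  rw [← SetLike.mem_coe, h.coe_eq]
  exact not_mem_frobeniusKernel_iff

theorem inf_eq_bot (h : FrobData H K) : K ⊓ H = ⊥ := disjoint_iff.mp h.compl.disjoint

theorem eq_one_of_mem_of_mem_conj (h : FrobData H K) {x g : G} (hx : x ∈ K)
    (hg : x ∈ MulAut.conj g • H) : x = 1 := by
  rcases h.mem_iff.mp hx with h1 | h1
  · exact h1
  · exact absurd hg (h1 g)

theorem ne_bot (h : FrobData H K) : K ≠ ⊥ := by
  intro hK
  have := h.compl.sup_eq_top
  rw [hK, bot_sup_eq] at this
  exact h.frob.2.1 this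

theorem fpf (h : FrobData H K) {x k : G} (hx : x ∈ H) (hx1 : x ≠ 1) (hk : k ∈ K)
    (hcomm : x * k = k * x) : k = 1 := by
  have := h.normal
  have h1 := (isFrobeniusComplement_iff_fpf K H h.compl h.ne_bot h.frob.1).mp h.frob x hx hx1
  have h2 : k ∈ K ⊓ Subgroup.centralizer {x} :=
    Subgroup.mem_inf.mpr ⟨hk, mem_centralizer_singleton_iff.mpr hcomm⟩
  rw [h1, Subgroup.mem_bot] at h2
  exact h2

theorem card_mul [Finite G] (h : FrobData H K) : Nat.card K * Nat.card H = Nat.card G :=
  h.compl.card_mul_card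

theorem coprime [Finite G] (h : FrobData H K) : Nat.Coprime (Nat.card K) (Nat.card H) := by
  have h1 := index_mod_card h.frob
  have h2 : Nat.card K = H.index := by
    have h3 := h.card_mul
    have h4 := H.card_mul_index
    have hpos : 0 < Nat.card H := Nat.card_pos
    rw [← h4, mul_comm] at h3
    exact Nat.eq_of_mul_eq_mul_left hpos h3
  rw [← h2] at h1
  have h5 : Nat.gcd (Nat.card K) (Nat.card H) = Nat.gcd 1 (Nat.card H) := Nat.ModEq.gcd_eq h1
  rw [Nat.gcd_one_left] at h5
  exact h5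

/-- A normal subgroup of a Frobenius group is comparable with the kernel. -/
theorem le_or_le [Finite G] (h : FrobData H K) (N : Subgroup G) [hN : N.Normal] :
    N ≤ K ∨ K ≤ N := by
  have hKn := h.normal
  by_cases hNK : N ≤ K
  · exact Or.inl hNK
  right
  obtain ⟨x, hxN, hxK⟩ := SetLike.not_le_iff_exists.mp hNK
  obtain ⟨hx1, g, hg⟩ := h.not_mem_iff.mp hxK
  rw [mem_conj_smul_iff] at hg
  set y := g⁻¹ * x * g with hy
  have hyN : y ∈ N := by
    have := hN.conj_mem x hxN g⁻¹
    rw [inv_inv] at this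
    exact this
  have hy1 : y ≠ 1 := by
    intro h0
    apply hx1
    have : x = g * y * g⁻¹ := by rw [hy]; group
    rw [this, h0]; group
  -- the map k ↦ k y k⁻¹ y⁻¹ from K to N ⊓ K is injective
  have hmem : ∀ k : K, (k : G) * y * (k : G)⁻¹ * y⁻¹ ∈ N ⊓ K := by
    intro k
    refine ⟨?_, ?_⟩
    · exact N.mul_mem (hN.conj_mem y hyN k) (N.inv_mem hyN)
    · have : (k : G) * y * (k : G)⁻¹ * y⁻¹ = (k : G) * (y * (k : G)⁻¹ * y⁻¹) := by group
      rw [this]
      exact K.mul_mem k.2 (hKn.conj_mem _ (K.inv_mem k.2) y)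
  let f : K → (N ⊓ K : Subgroup G) := fun k => ⟨_, hmem k⟩
  have hf : Function.Injective f := by
    intro k k' hkk
    have h1 : (k : G) * y * (k : G)⁻¹ * y⁻¹ = (k' : G) * y * (k' : G)⁻¹ * y⁻¹ :=
      congrArg Subtype.val hkk
    have h2 : y * ((k' : G)⁻¹ * k) = ((k' : G)⁻¹ * k) * y := by
      have h3 : (k : G) * y * (k : G)⁻¹ = (k' : G) * y * (k' : G)⁻¹ := by
        have := congrArg (· * y) h1
        simpa using this
      have : y * ((k' : G)⁻¹ * k) = (k' : G)⁻¹ * ((k' : G) * y * (k' : G)⁻¹) * k := by group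
      rw [this, ← h3]; group
    have h4 := h.fpf hg hy1 (K.mul_mem (K.inv_mem k'.2) k.2) h2
    apply Subtype.ext
    have : (k : G) = (k' : G) * ((k' : G)⁻¹ * k) := by group
    rw [this, h4, mul_one]
  have hcard : Nat.card K ≤ Nat.card (N ⊓ K : Subgroup G) := Nat.card_le_card_of_injective f hf
  have heq : N ⊓ K = K := Subgroup.eq_of_le_of_card_ge inf_le_right hcard
  rw [← heq]
  exact inf_le_left

end FrobData

/-- a conjugate of a Frobenius complement is a Frobenius complement -/
theorem isFrobeniusComplement_conj {H : Subgroup G} (hH : Cfsg.IsFrobeniusComplement H) (g : G) :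
    Cfsg.IsFrobeniusComplement (MulAut.conj g • H) := by
  refine ⟨?_, ?_, ?_⟩
  · intro h0
    apply hH.1
    rw [Subgroup.eq_bot_iff_forall] at h0 ⊢
    intro x hx
    have h1 : g * x * g⁻¹ ∈ MulAut.conj g • H := by
      rw [mem_conj_smul_iff]
      have : g⁻¹ * (g * x * g⁻¹) * g = x := by group
      rw [this]; exact hx
    have h2 := h0 _ h1
    have : x = g⁻¹ * (g * x * g⁻¹) * g := by group
    rw [this, h2]; group
  · intro h0
    apply hH.2.1
    rw [Subgroup.eq_top_iff'] at h0 ⊢
    intro x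
    have h1 := h0 (g * x * g⁻¹)
    rw [mem_conj_smul_iff] at h1
    have : g⁻¹ * (g * x * g⁻¹) * g = x := by group
    rw [this] at h1; exact h1
  · intro y hy
    rw [Subgroup.eq_bot_iff_forall]
    intro x hx
    obtain ⟨hx1, hx2⟩ := Subgroup.mem_inf.mp hx
    by_contra hne
    have ha : x ∈ MulAut.conj g • H := hx1
    have hb : x ∈ MulAut.conj (y * g) • H := by
      rw [mem_conj_smul_iff] at hx2 ⊢
      rw [mem_conj_smul_iff] at hx2
      have : (y * g)⁻¹ * x * (y * g) = g⁻¹ * (y⁻¹ * x * y) * g := by group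
      rw [this]; exact hx2
    have h1 := frob_mal hH hne ha hb
    apply hy
    rw [mem_conj_smul_iff]
    have : g⁻¹ * y * g = g⁻¹ * (y * g) := by group
    rw [this]; exact h1

end Cfsg.Agent.Lib.Lead
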