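import Mathlib
import Cfsg.Agent.Lib.Lead.FrobConj1

set_option autoImplicit false
open Pointwise

namespace Cfsg.Agent.Lib.Lead

variable {G : Type*} [Group G]

/-- A subgroup of a Frobenius group meeting the kernel trivially lies in a conjugate of the
complement (stated for an injective homomorphism). -/
theorem FrobData.le_conj_of_disjoint [Finite G] {H K : Subgroup G} (h : FrobData H K)
    {X : Type*} [Group X] [Finite X] (f : X →* G) (hf : Function.Injective f)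
    (hX : ∀ x : X, f x ∈ K → x = 1) : ∃ g : G, ∀ x : X, f x ∈ MulAut.conj g • H := by
  classical
  by_contra hcon
  push Not at hcon
  obtain ⟨x₀, hx₀⟩ : ∃ x₀ : X, x₀ ≠ 1 := by
    by_contra hall
    push Not at hall
    obtain ⟨x, hx⟩ := hcon 1
    apply hx
    have h1 : f x = 1 := by rw [hall x]; exact map_one f
    rw [h1]; exact Subgroup.one_mem _
  let Dg : G → Subgroup X := fun g => (MulAut.conj g • H).comap f
  have mem_Dg : ∀ g x, x ∈ Dg g ↔ g⁻¹ * f x * g ∈ H := fun g x => by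
    show f x ∈ MulAut.conj g • H ↔ _
    exact mem_conj_smul_iff
  have mem_Dg' : ∀ g x, x ∈ Dg g ↔ f x ∈ MulAut.conj g • H := fun g x => Iff.rfl
  have Dg_ne_top : ∀ g, Dg g ≠ ⊤ := by
    intro g h0
    obtain ⟨x, hx⟩ := hcon g
    apply hx
    have : x ∈ Dg g := by rw [h0]; trivial
    exact this
  have Dg_eq : ∀ g g' (z : X), z ≠ 1 → z ∈ Dg g → z ∈ Dg g' → Dg g = Dg g' := by
    intro g g' z hz h1 h2
    have hfz : f z ≠ 1 := fun h0 => hz (hf (by rw [h0, map_one]))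
    have h3 := frob_mal h.frob hfz ((mem_Dg' g z).mp h1) ((mem_Dg' g' z).mp h2)
    ext x
    rw [mem_Dg, mem_Dg]
    constructor
    · intro h4
      have : g'⁻¹ * f x * g' = (g⁻¹ * g')⁻¹ * (g⁻¹ * f x * g) * (g⁻¹ * g') := by group
      rw [this]; exact H.mul_mem (H.mul_mem (H.inv_mem h3) h4) h3
    · intro h4
      have : g⁻¹ * f x * g = (g⁻¹ * g') * (g'⁻¹ * f x * g') * (g⁻¹ * g')⁻¹ := by group
      rw [this]; exact H.mul_mem (H.mul_mem h3 h4) (H.inv_mem h3)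
  have conj_Dg : ∀ (y : X) g, MulAut.conj y • Dg g = Dg (f y * g) := by
    intro y g
    ext x
    rw [mem_conj_smul_iff, mem_Dg, mem_Dg, map_mul, map_mul, map_inv]
    have : (f y * g)⁻¹ * f x * (f y * g) = g⁻¹ * ((f y)⁻¹ * f x * f y) * g := by group
    rw [this]
  have Dg_frob : ∀ g, Dg g ≠ ⊥ → Cfsg.IsFrobeniusComplement (Dg g) := by
    intro g hg
    refine ⟨hg, Dg_ne_top g, ?_⟩
    intro y hy
    rw [Subgroup.eq_bot_iff_forall]
    intro z hz
    obtain ⟨hz1, hz2⟩ := Subgroup.mem_inf.mp hz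
    by_contra hz0
    rw [conj_Dg] at hz2
    have hfz : f z ≠ 1 := fun h0 => hz0 (hf (by rw [h0, map_one]))
    have h3 := frob_mal h.frob hfz ((mem_Dg' _ z).mp hz1) ((mem_Dg' _ z).mp hz2)
    apply hy
    rw [mem_Dg]
    have : g⁻¹ * f y * g = g⁻¹ * (f y * g) := by group
    rw [this]; exact h3
  have exists_Dg : ∀ x : X, x ≠ 1 → ∃ g, x ∈ Dg g := by
    intro x hx
    have h1 : f x ∉ K := fun h0 => hx (hX x h0)
    obtain ⟨_, g, hg⟩ := h.not_mem_iff.mp h1
    exact ⟨g, hg⟩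
  obtain ⟨g, hg⟩ := exists_Dg x₀ hx₀
  have hDne : Dg g ≠ ⊥ := by
    intro h0
    rw [h0, Subgroup.mem_bot] at hg
    exact hx₀ hg
  obtain ⟨N, hN⟩ := exists_frobData (Dg_frob g hDne)
  obtain ⟨n, hnN, hn1⟩ : ∃ n ∈ N, n ≠ 1 := by
    by_contra hall
    push Not at hall
    exact hN.ne_bot ((Subgroup.eq_bot_iff_forall N).mpr hall)
  obtain ⟨g', hg'⟩ := exists_Dg n hn1
  have hD'ne : Dg g' ≠ ⊥ := by
    intro h0
    rw [h0, Subgroup.mem_bot] at hg'
    exact hn1 hg'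
  obtain ⟨N', hN'⟩ := exists_frobData (Dg_frob g' hD'ne)
  have hn_not : ∀ y : X, n ∉ MulAut.conj y • Dg g := by
    intro y hy
    exact hn1 (hN.eq_one_of_mem_of_mem_conj hnN hy)
  have hD'N : Dg g' ≤ N := by
    intro d hd
    by_contra hdN
    obtain ⟨hd1, y, hy⟩ := hN.not_mem_iff.mp hdN
    rw [conj_Dg] at hy
    have h5 := Dg_eq g' (f y * g) d hd1 hd hy
    apply hn_not y
    rw [conj_Dg, ← h5]; exact hg'
  have hDN' : Dg g ≤ N' := by
    intro d hd
    by_contra hdN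
    obtain ⟨hd1, y, hy⟩ := hN'.not_mem_iff.mp hdN
    rw [conj_Dg] at hy
    have h5 := Dg_eq g (f y * g') d hd1 hd hy
    apply hn_not y⁻¹
    rw [mem_conj_smul_iff, inv_inv, h5, ← conj_Dg, mem_conj_smul_iff]
    have : y⁻¹ * (y * n * y⁻¹) * y = n := by group
    rw [this]; exact hg'
  have := hN'.normal
  rcases hN.le_or_le N' with h6 | h6
  · have h7 : x₀ ∈ N ⊓ Dg g := Subgroup.mem_inf.mpr ⟨h6 (hDN' hg), hg⟩
    rw [hN.inf_eq_bot, Subgroup.mem_bot] at h7
    exact hx₀ h7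
  · have h7 : n ∈ N' ⊓ Dg g' := Subgroup.mem_inf.mpr ⟨h6 (hD'N hg'), hg'⟩
    rw [hN'.inf_eq_bot, Subgroup.mem_bot] at h7
    exact hn1 h7

end Cfsg.Agent.Lib.Lead
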