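import Mathlib
import Cfsg.Agent.Lib.Lead.FrobConj2

set_option autoImplicit false
open Pointwise

namespace Cfsg.Agent.Lib.Lead

section
variable {W : Type*} [CommGroup W]

theorem normProd_fixed {S : Type*} [Group S] [Fintype S] (ψ : S →* MulAut W) (t : S) (w : W) :
    ψ t (∏ s, ψ s w) = ∏ s, ψ s w := by
  rw [map_prod]
  refine Fintype.prod_equiv (Equiv.mulLeft t) _ _ ?_
  intro s
  rw [Equiv.coe_mulLeft, map_mul, MulAut.mul_apply]

theorem normProd_eq_one {S : Type*} [Group S] [Fintype S] (ψ : S →* MulAut W)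
    (hfix : ∃ t : S, ∀ w, ψ t w = w → w = 1) (w : W) : ∏ s, ψ s w = 1 := by
  obtain ⟨t, ht⟩ := hfix
  exact ht _ (normProd_fixed ψ t w)

/-- The norm argument: if a Frobenius group `H` with complement `D` acts on an abelian group
`W` such that every nonidentity element is fixed-point-free, then `W` has exponent dividing
`|H : D|`. -/
theorem frob_norm_pow {H : Type*} [Group H] [Finite H] (φ : H →* MulAut W)
    (hfpf : ∀ h : H, h ≠ 1 → ∀ w : W, φ h w = w → w = 1)
    (D : Subgroup H) (hD : Cfsg.IsFrobeniusComplement D) (w : W) : w ^ D.index = 1 := by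
  classical
  have : Fintype H := Fintype.ofFinite H
  obtain ⟨N, hN⟩ := exists_frobData hD
  obtain ⟨d₀, hd₀D, hd₀1⟩ : ∃ d ∈ D, d ≠ 1 := by
    by_contra hall
    push Not at hall
    exact hD.1 ((Subgroup.eq_bot_iff_forall D).mpr hall)
  obtain ⟨n₀, hn₀N, hn₀1⟩ : ∃ n ∈ N, n ≠ 1 := by
    by_contra hall
    push Not at hall
    exact hN.ne_bot ((Subgroup.eq_bot_iff_forall N).mpr hall)
  have PH : ∏ x : H, φ x w = 1 := normProd_eq_one φ ⟨d₀, hfpf d₀ hd₀1⟩ w
  have PN : ∏ x : N, φ (x : H) w = 1 :=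
    normProd_eq_one (φ.comp N.subtype) ⟨⟨n₀, hn₀N⟩, fun w hw => hfpf n₀ hn₀1 w hw⟩ w
  have PD : ∀ (y : H) (v : W), ∏ d : D, φ (y * (d : H) * y⁻¹) v = 1 := by
    intro y v
    have h1 : ∏ d : D, φ (d : H) (φ y⁻¹ v) = 1 :=
      normProd_eq_one (φ.comp D.subtype) ⟨⟨d₀, hd₀D⟩, fun w hw => hfpf d₀ hd₀1 w hw⟩ _
    have h2 : ∏ d : D, φ (y * (d : H) * y⁻¹) v = φ y (∏ d : D, φ (d : H) (φ y⁻¹ v)) := by
      rw [map_prod]
      refine Finset.prod_congr rfl ?_
      intro d _
      rw [map_mul, map_mul, MulAut.mul_apply, MulAut.mul_apply]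
    rw [h2, h1, map_one]
  have PD' : ∀ (y : H), ∏ d : {d : D // d ≠ 1}, φ (y * ((d : D) : H) * y⁻¹) w = w⁻¹ := by
    intro y
    have h1 := PD y w
    rw [← Finset.mul_prod_erase Finset.univ _ (Finset.mem_univ (1 : D))] at h1
    have h2 : ∏ d ∈ (Finset.univ : Finset D).erase 1, φ (y * (d : H) * y⁻¹) w
        = ∏ d : {d : D // d ≠ 1}, φ (y * ((d : D) : H) * y⁻¹) w :=
      Finset.prod_subtype _ (by intro x; simp) _
    rw [h2] at h1
    have h3 : φ (y * ((1 : D) : H) * y⁻¹) w = w := by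
      rw [Subgroup.coe_one, mul_one, mul_inv_cancel, map_one, MulAut.one_apply]
    rw [h3] at h1
    exact eq_inv_of_mul_eq_one_right h1
  have hsplit := Fintype.prod_subtype_mul_prod_subtype (fun x : H => x ∈ Cfsg.frobeniusKernel D)
    (fun x => φ x w)
  have hker : ∏ x : {x : H // x ∈ Cfsg.frobeniusKernel D}, φ (x : H) w = 1 := by
    rw [← PN]
    symm
    refine Fintype.prod_equiv (Equiv.subtypeEquivRight (fun x => ?_)) _ _ (fun x => rfl)
    rw [← hN.coe_eq]; rfl
  have hout : ∏ x : {x : H // x ∉ Cfsg.frobeniusKernel D}, φ (x : H) w = (w ^ D.index)⁻¹ := by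
    have e := Equiv.ofBijective _ (frobMap_bijective hD)
    have h1 : ∏ x : {x : H // x ∉ Cfsg.frobeniusKernel D}, φ (x : H) w
        = ∏ qd : (H ⧸ D) × {d : D // d ≠ 1}, φ ((frobMap D qd : {x : H // x ∉ Cfsg.frobeniusKernel D}) : H) w := by
      symm
      exact Fintype.prod_equiv (Equiv.ofBijective _ (frobMap_bijective hD)) _ _ (fun x => rfl)
    rw [h1, Fintype.prod_prod_type]
    have h2 : ∀ q : H ⧸ D, ∏ d : {d : D // d ≠ 1},
        φ ((frobMap D (q, d) : {x : H // x ∉ Cfsg.frobeniusKernel D}) : H) w = w⁻¹ := by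
      intro q
      exact PD' q.out
    rw [Finset.prod_congr rfl (fun q _ => h2 q), Finset.prod_const, Finset.card_univ, inv_pow,
      Subgroup.index_eq_card, Nat.card_eq_fintype_card]
  rw [hker, hout, one_mul, PH] at hsplit
  exact inv_eq_one.mp hsplit

end

end Cfsg.Agent.Lib.Lead
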