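import Mathlib
import Cfsg.Agent.Lib.Lead.FrobNorm

set_option autoImplicit false
open Pointwise

namespace Cfsg.Agent.Lib.Lead

variable {G : Type*} [Group G]

/-- conjugation action of a subgroup on a subgroup it normalises -/
def conjAutHom (W H : Subgroup G) (hHW : H ≤ Subgroup.normalizer (W : Set G)) : H →* MulAut W where
  toFun x :=
    { toFun := fun w => ⟨x * w * (x : G)⁻¹, (Subgroup.mem_normalizer_iff.mp (hHW x.2) w).mp w.2⟩
      invFun := fun w => ⟨(x : G)⁻¹ * w * x, by
        have := (Subgroup.mem_normalizer_iff.mp (hHW (H.inv_mem x.2)) w).mp w.2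
        simpa using this⟩
      left_inv := fun w => by apply Subtype.ext; simp [mul_assoc]
      right_inv := fun w => by apply Subtype.ext; simp [mul_assoc]
      map_mul' := fun a b => by apply Subtype.ext; simp [mul_assoc] }
  map_one' := by ext w; simp
  map_mul' := fun a b => by ext w; simp [mul_assoc]

theorem conjAutHom_apply (W H : Subgroup G) (hHW : H ≤ Subgroup.normalizer (W : Set G)) (x : H)
    (w : W) : ((conjAutHom W H hHW x w : W) : G) = x * w * (x : G)⁻¹ := rfl

/-- In a Frobenius group the complement normalises a nontrivial `r`-subgroup of the kernel. -/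
theorem FrobData.exists_invariant_pgroup [Finite G] {H K : Subgroup G} (h : FrobData H K) :
    ∃ (r : ℕ) (R : Subgroup G), r.Prime ∧ IsPGroup r R ∧ R ≠ ⊥ ∧ R ≤ K ∧
      H ≤ Subgroup.normalizer (R : Set G) := by
  classical
  have hKn := h.normal
  have hK1 : Nat.card K ≠ 1 := fun h0 => h.ne_bot (Subgroup.card_eq_one.mp h0)
  obtain ⟨r, hr, hrK⟩ := Nat.exists_prime_and_dvd hK1
  have : Fact r.Prime := ⟨hr⟩
  let P : Sylow r K := default
  have hPne : (P : Subgroup K) ≠ ⊥ := P.ne_bot_of_dvd_card hrK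
  set R₀ : Subgroup G := (P : Subgroup K).map K.subtype with hR₀
  have hR₀K : R₀ ≤ K := by rw [hR₀]; exact Subgroup.map_subtype_le _
  have hR₀p : IsPGroup r R₀ := P.2.map K.subtype
  have hR₀ne : R₀ ≠ ⊥ := by
    rw [hR₀, Ne, Subgroup.map_eq_bot_iff_of_injective _ K.subtype_injective]
    exact hPne
  set L := Subgroup.normalizer (R₀ : Set G) with hL
  have hLK : L ⊔ K = ⊤ := Sylow.normalizer_sup_eq_top P
  have hidx : (K.subgroupOf L).index = Nat.card H := by
    have h1 : (K.subgroupOf L).index = K.relIndex L := rfl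
    rw [h1, ← Subgroup.relIndex_sup_right, hLK, Subgroup.relIndex_top_right]
    have h3 := h.card_mul
    have h4 := K.card_mul_index
    have hpos : 0 < Nat.card K := Nat.card_pos
    rw [← h4] at h3
    exact (Nat.eq_of_mul_eq_mul_left hpos h3).symm
  have hcop : Nat.Coprime (Nat.card (K.subgroupOf L)) (K.subgroupOf L).index := by
    rw [hidx, card_subgroupOf_eq]
    exact Nat.Coprime.coprime_dvd_left (Subgroup.card_dvd_of_le inf_le_left) h.coprime
  obtain ⟨H₁, hH₁⟩ := Subgroup.exists_right_complement'_of_coprime hcop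
  let f : H₁ →* G := L.subtype.comp H₁.subtype
  have hf : Function.Injective f := fun a b hab => Subtype.ext (Subtype.ext hab)
  have hX : ∀ x : H₁, f x ∈ K → x = 1 := by
    intro x hx
    have h1 : (x : L) ∈ K.subgroupOf L ⊓ H₁ :=
      Subgroup.mem_inf.mpr ⟨Subgroup.mem_subgroupOf.mpr hx, x.2⟩
    rw [disjoint_iff.mp hH₁.disjoint, Subgroup.mem_bot] at h1
    exact Subtype.ext h1
  obtain ⟨g, hg⟩ := h.le_conj_of_disjoint f hf hX
  have hcard : Nat.card H₁ = Nat.card H := by
    have h1 := hH₁.card_mul_card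
    have h2 := (K.subgroupOf L).card_mul_index
    rw [hidx, ← h1] at h2
    have hpos : 0 < Nat.card (K.subgroupOf L) := Nat.card_pos
    exact (Nat.eq_of_mul_eq_mul_left hpos h2).symm
  have hsurj : ∀ y ∈ MulAut.conj g • H, ∃ x : H₁, f x = y := by
    let f' : H₁ → (MulAut.conj g • H : Subgroup G) := fun x => ⟨f x, hg x⟩
    have hf' : Function.Injective f' := by
      intro a b hab
      have h1 : f a = f b := congrArg (fun z : (MulAut.conj g • H : Subgroup G) => (z : G)) hab
      exact hf h1
    have hbij : Function.Bijective f' := by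
      rw [Nat.bijective_iff_injective_and_card]
      exact ⟨hf', by rw [hcard, card_conj_smul]⟩
    intro y hy
    obtain ⟨x, hx⟩ := hbij.2 ⟨y, hy⟩
    exact ⟨x, congrArg Subtype.val hx⟩
  have hle : MulAut.conj g • H ≤ L := by
    intro y hy
    obtain ⟨x, rfl⟩ := hsurj y hy
    exact (x : L).2
  refine ⟨r, MulAut.conj g⁻¹ • R₀, hr, ?_, ?_, ?_, ?_⟩
  · exact hR₀p.map (MulAut.conj g⁻¹).toMonoidHom
  · intro h0
    apply hR₀ne
    rw [← Subgroup.card_eq_one] at h0 ⊢
    rw [card_conj_smul] at h0
    exact h0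
  · intro x hx
    rw [mem_conj_smul_iff, inv_inv] at hx
    have h1 := hKn.conj_mem _ (hR₀K hx) g⁻¹
    have h2 : g⁻¹ * (g * x * g⁻¹) * g⁻¹⁻¹ = x := by group
    rw [h2] at h1
    exact h1
  · intro x hx
    rw [conj_smul_mem_normalizer_iff, inv_inv]
    apply hle
    rw [mem_conj_smul_iff]
    have h2 : g⁻¹ * (g * x * g⁻¹) * g = x := by group
    rw [h2]
    exact hx

/-- A Frobenius complement is not itself a Frobenius group. -/
theorem FrobData.false_of_frob_compl [Finite G] {H K : Subgroup G} (h : FrobData H K)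
    (D : Subgroup H) (hD : Cfsg.IsFrobeniusComplement D) : False := by
  classical
  obtain ⟨r, R, hr, hRp, hRne, hRK, hHR⟩ := h.exists_invariant_pgroup
  have : Fact r.Prime := ⟨hr⟩
  set W : Subgroup G := R ⊓ Subgroup.centralizer (R : Set G) with hW
  have hWne : W ≠ ⊥ := by
    have hnt : Nontrivial R := by
      rw [← Subgroup.nontrivial_iff_ne_bot] at hRne
      exact hRne
    have hcen := hRp.center_nontrivial
    obtain ⟨z, hz⟩ := exists_ne (1 : Subgroup.center R)
    intro h0
    apply hz
    have hzW : ((z : R) : G) ∈ W := by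
      refine Subgroup.mem_inf.mpr ⟨(z : R).2, ?_⟩
      rw [Subgroup.mem_centralizer_iff]
      intro y hy
      have h1 := Subgroup.mem_center_iff.mp z.2 ⟨y, hy⟩
      exact congrArg Subtype.val h1
    rw [h0, Subgroup.mem_bot] at hzW
    exact Subtype.ext (Subtype.ext hzW)
  have hWK : W ≤ K := inf_le_left.trans hRK
  have hHW : H ≤ Subgroup.normalizer (W : Set G) := by
    intro x hx
    have h1 := hHR hx
    have h2 := normalizer_le_normalizer_centralizer R h1
    rw [Subgroup.mem_normalizer_iff] at h1 h2 ⊢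
    intro w
    rw [hW, Subgroup.mem_inf, Subgroup.mem_inf, ← h1 w, ← h2 w]
  have hWcomm : IsMulCommutative W := by
    refine ⟨⟨fun a b => ?_⟩⟩
    apply Subtype.ext
    have h1 := (Subgroup.mem_centralizer_iff.mp (Subgroup.mem_inf.mp a.2).2) b (Subgroup.mem_inf.mp b.2).1
    exact h1.symm
  open scoped IsMulCommutative in
  have key : ∀ w : W, w ^ D.index = 1 := by
    intro w
    refine frob_norm_pow (conjAutHom W H hHW) ?_ D hD w
    intro x hx v hv
    have h1 : (x : G) * v * (x : G)⁻¹ = v := congrArg Subtype.val hv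
    have h2 : (x : G) * v = v * x := by
      have := congrArg (· * (x : G)) h1
      simpa using this
    have hx1 : (x : G) ≠ 1 := fun h0 => hx (Subtype.ext h0)
    exact Subtype.ext (h.fpf x.2 hx1 (hWK v.2) h2)
  apply hWne
  rw [Subgroup.eq_bot_iff_forall]
  intro w hw
  have h1 := key ⟨w, hw⟩
  have h2 : orderOf (⟨w, hw⟩ : W) ∣ D.index := orderOf_dvd_of_pow_eq_one h1
  have h3 : orderOf (⟨w, hw⟩ : W) ∣ Nat.card K :=
    (orderOf_dvd_natCard _).trans (Subgroup.card_dvd_of_le hWK)
  have h4 : D.index ∣ Nat.card H := Subgroup.index_dvd_card D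
  have h5 : orderOf (⟨w, hw⟩ : W) = 1 :=
    Nat.eq_one_of_dvd_coprimes h.coprime h3 (h2.trans h4)
  rw [orderOf_eq_one_iff] at h5
  exact congrArg Subtype.val h5

end Cfsg.Agent.Lib.Lead
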