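import Mathlib
import Cfsg.Agent.Lib.Lead.FrobConj3

set_option autoImplicit false
open Pointwise

namespace Cfsg.Agent.Lib.Lead

variable {G : Type*} [Group G]

/-- A Frobenius complement meeting the kernel of another one trivially is conjugate to it. -/
theorem FrobData.eq_conj_of_disjoint [Finite G] {H K H₀ : Subgroup G} (h : FrobData H K)
    (hH₀ : Cfsg.IsFrobeniusComplement H₀) (hdisj : K ⊓ H₀ = ⊥) :
    ∃ g : G, H₀ = MulAut.conj g • H := by
  classical
  have hX : ∀ x : H₀, H₀.subtype x ∈ K → x = 1 := by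
    intro x hx
    have h1 : (x : G) ∈ K ⊓ H₀ := Subgroup.mem_inf.mpr ⟨hx, x.2⟩
    rw [hdisj, Subgroup.mem_bot] at h1
    exact Subtype.ext h1
  obtain ⟨g, hg⟩ := h.le_conj_of_disjoint H₀.subtype H₀.subtype_injective hX
  have hle : H₀ ≤ MulAut.conj g • H := fun x hx => hg ⟨x, hx⟩
  refine ⟨g, ?_⟩
  by_contra hne
  set H' := MulAut.conj g • H with hH'
  have hlt : H₀ < H' := lt_of_le_of_ne hle hne
  obtain ⟨K', hK'⟩ := exists_frobData (isFrobeniusComplement_conj h.frob g)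
  refine hK'.false_of_frob_compl (H₀.subgroupOf H') ⟨?_, ?_, ?_⟩
  · intro h0
    apply hH₀.1
    rw [Subgroup.eq_bot_iff_forall] at h0 ⊢
    intro x hx
    have h1 := h0 ⟨x, hle hx⟩ (Subgroup.mem_subgroupOf.mpr hx)
    exact congrArg Subtype.val h1
  · intro h0
    rw [Subgroup.subgroupOf_eq_top] at h0
    exact hlt.not_ge h0
  · intro y hy
    rw [Subgroup.eq_bot_iff_forall]
    intro z hz
    obtain ⟨hz1, hz2⟩ := Subgroup.mem_inf.mp hz
    rw [Subgroup.mem_subgroupOf] at hz1 hy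
    rw [mem_conj_smul_iff, Subgroup.mem_subgroupOf] at hz2
    have h1 := hH₀.2.2 (y : G) hy
    have h2 : (z : G) ∈ H₀ ⊓ MulAut.conj (y : G) • H₀ := by
      refine Subgroup.mem_inf.mpr ⟨hz1, ?_⟩
      rw [mem_conj_smul_iff]
      exact hz2
    rw [h1, Subgroup.mem_bot] at h2
    exact Subtype.ext h2

/-- All Frobenius complements of a finite group are conjugate. -/
theorem frobenius_complements_conj [Finite G] (H H₀ : Subgroup G)
    (hH : Cfsg.IsFrobeniusComplement H) (hH₀ : Cfsg.IsFrobeniusComplement H₀) :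
    ∃ g : G, MulAut.conj g • H₀ = H := by
  obtain ⟨K, hK⟩ := exists_frobData hH
  obtain ⟨K₀, hK₀⟩ := exists_frobData hH₀
  by_cases h1 : K ⊓ H₀ = ⊥
  · obtain ⟨g, hg⟩ := hK.eq_conj_of_disjoint hH₀ h1
    refine ⟨g⁻¹, ?_⟩
    rw [hg, map_inv, inv_smul_smul]
  by_cases h2 : K₀ ⊓ H = ⊥
  · obtain ⟨g, hg⟩ := hK₀.eq_conj_of_disjoint hH h2
    exact ⟨g, hg.symm⟩
  exfalso
  have := hK₀.normal
  rcases hK.le_or_le K₀ with h3 | h3
  · apply h2
    rw [eq_bot_iff, ← hK.inf_eq_bot]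
    exact inf_le_inf_right _ h3
  · apply h1
    rw [eq_bot_iff, ← hK₀.inf_eq_bot]
    exact inf_le_inf_right _ h3

end Cfsg.Agent.Lib.Lead
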