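import Mathlib
import Cfsg.Agent.Lib.Lead.FrobConj4

set_option autoImplicit false
open Pointwise

namespace Cfsg.Agent.Lib.Lead

section
variable {G : Type*} [Group G]

/-- fixed point congruence for a `q`-group normalising `T` -/
theorem card_modEq_card_inf_centralizer [Finite G] (T Q : Subgroup G) (q : ℕ) [Fact q.Prime]
    (hQq : IsPGroup q Q) (hQ : Q ≤ Subgroup.normalizer (T : Set G)) :
    Nat.card T ≡ Nat.card (T ⊓ Subgroup.centralizer (Q : Set G) : Subgroup G) [MOD q] := by
  letI := conjMulAction T Q hQ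
  have h1 := hQq.card_modEq_card_fixedPoints T
  rw [card_fixedPoints_conjMulAction] at h1
  exact h1

/-- a nontrivial `q`-group acting fixed-point-freely on `V` forces `|V| ≡ 1 mod q` -/
theorem card_modEq_one_of_fpf [Finite G] (V Q : Subgroup G) (q : ℕ) [Fact q.Prime]
    (hQq : IsPGroup q Q) (hQ : Q ≤ Subgroup.normalizer (V : Set G)) (hQ1 : Q ≠ ⊥)
    (hfpf : ∀ a ∈ Q, a ≠ 1 → V ⊓ Subgroup.centralizer {a} = ⊥) :
    Nat.card V ≡ 1 [MOD q] := by
  have h1 := card_modEq_card_inf_centralizer V Q q hQq hQ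
  obtain ⟨a, haQ, ha1⟩ : ∃ a ∈ Q, a ≠ 1 := by
    by_contra hall
    push Not at hall
    exact hQ1 ((Subgroup.eq_bot_iff_forall Q).mpr hall)
  have h2 : V ⊓ Subgroup.centralizer (Q : Set G) = ⊥ := by
    rw [eq_bot_iff, ← hfpf a haQ ha1]
    exact inf_le_inf_left _ (Subgroup.centralizer_le (Set.singleton_subset_iff.mpr haQ))
  rw [h2, Subgroup.card_bot] at h1
  exact h1

/-- abelian case of the structure of fixed-point-free groups -/
theorem isCyclic_of_fpf_abelian [Finite G] (A V : Subgroup G) (hV : V ≠ ⊥)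
    (hAV : A ≤ Subgroup.normalizer (V : Set G))
    (hfpf : ∀ a ∈ A, a ≠ 1 → V ⊓ Subgroup.centralizer {a} = ⊥)
    (hA : IsMulCommutative A) : IsCyclic A := by
  classical
  by_contra hnc
  open scoped IsMulCommutative in
  obtain ⟨p, hp, E', hE'card, hE'exp⟩ := exists_elementary_abelian_sq hnc
  have : Fact p.Prime := ⟨hp⟩
  set E : Subgroup G := E'.map A.subtype with hE
  have hEA : E ≤ A := Subgroup.map_subtype_le _
  have hEcard : Nat.card E = p ^ 2 := by
    rw [hE, Subgroup.card_map_of_injective A.subtype_injective, hE'card]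
  have hEea : Cfsg.IsElementaryAbelian p E := by
    refine ⟨⟨⟨fun a b => ?_⟩⟩, ?_⟩
    · apply Subtype.ext
      have h1 := hA.is_comm.comm ⟨a, hEA a.2⟩ ⟨b, hEA b.2⟩
      have h2 : (a : G) * (b : G) = (b : G) * (a : G) :=
        congrArg (fun z : A => (z : G)) h1
      exact h2
    · intro a ha
      obtain ⟨a', ha', rfl⟩ := ha
      have h1 := hE'exp a' ha'
      have h2 := congrArg Subtype.val h1
      simpa using h2
  have hEp : IsPGroup p E := IsPGroup.of_card hEcard
  have hE1 : E ≠ ⊥ := by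
    intro h0
    rw [h0, Subgroup.card_bot] at hEcard
    have := hp.one_lt
    have h2 : 1 < p ^ 2 := Nat.one_lt_pow (by norm_num) this
    omega
  have hmod := card_modEq_one_of_fpf V E p hEp (hEA.trans hAV) hE1
    (fun a ha ha1 => hfpf a (hEA ha) ha1)
  have hndvd : ¬ p ∣ Nat.card V := by
    intro hdvd
    have h1 : Nat.card V ≡ 0 [MOD p] := (Nat.modEq_zero_iff_dvd).mpr hdvd
    have h2 : (1 : ℕ) ≡ 0 [MOD p] := hmod.symm.trans h1
    have h3 := (Nat.modEq_zero_iff_dvd).mp h2
    exact hp.one_lt.ne' (Nat.dvd_one.mp h3)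
  have h1 := Cfsg.Agent.Lib.Helper3.Gen.le_fixJoin hEea hEcard (Nat.card V) V le_rfl hndvd
    (hEA.trans hAV)
  apply hV
  rw [eq_bot_iff]
  refine h1.trans ?_
  unfold Cfsg.Agent.Lib.Helper3.Gen.fixJoin
  apply iSup_le
  intro d
  rw [hfpf d.1 (hEA d.2.1) d.2.2]

end

section
variable {B : Type*} [Group B]

/-- a subgroup of prime order and prime index is a Frobenius complement or normal -/
theorem frob_or_normal_of_prime_card [Finite B] (P : Subgroup B) (r s : ℕ) (hr : r.Prime)
    (hs : s.Prime) (hP : Nat.card P = r) (hB : Nat.card B = r * s) :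
    Cfsg.IsFrobeniusComplement P ∨ P.Normal := by
  classical
  by_cases hF : Cfsg.IsFrobeniusComplement P
  · exact Or.inl hF
  right
  have hP1 : P ≠ ⊥ := by
    intro h0
    rw [h0, Subgroup.card_bot] at hP
    exact hr.one_lt.ne hP
  have hPtop : P ≠ ⊤ := by
    intro h0
    rw [h0, Subgroup.card_top, hB] at hP
    have := hs.one_lt
    have := hr.pos
    nlinarith
  have : ∃ a : B, a ∉ P ∧ P ⊓ MulAut.conj a • P ≠ ⊥ := by
    by_contra hall
    push Not at hall
    exact hF ⟨hP1, hPtop, hall⟩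
  obtain ⟨a, haP, hne⟩ := this
  have hinf : P ⊓ MulAut.conj a • P = P := by
    have h1 : Nat.card (P ⊓ MulAut.conj a • P : Subgroup B) ∣ r := by
      rw [← hP]; exact Subgroup.card_dvd_of_le inf_le_left
    rcases (Nat.dvd_prime hr).mp h1 with h2 | h2
    · exact absurd (Subgroup.card_eq_one.mp h2) hne
    · exact Subgroup.eq_of_le_of_card_ge inf_le_left (by rw [h2, hP])
  have hle : P ≤ MulAut.conj a • P := inf_eq_left.mp hinf
  have heq : MulAut.conj a • P = P :=
    (Subgroup.eq_of_le_of_card_ge hle (by rw [card_conj_smul])).symm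
  have haN : a ∈ Subgroup.normalizer (P : Set B) := (mem_normalizer_iff_conj_smul a P).mpr heq
  rw [← Subgroup.normalizer_eq_top_iff]
  set N := Subgroup.normalizer (P : Set B) with hN
  have hPN : P ≤ N := Subgroup.le_normalizer
  have h1 : r ∣ Nat.card N := by rw [← hP]; exact Subgroup.card_dvd_of_le hPN
  have h2 : Nat.card N ∣ r * s := by rw [← hB]; exact Subgroup.card_subgroup_dvd_card N
  obtain ⟨t, ht⟩ := h1
  rw [ht] at h2
  have h3 : t ∣ s := Nat.dvd_of_mul_dvd_mul_left hr.pos h2
  rcases (Nat.dvd_prime hs).mp h3 with h4 | h4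
  · exfalso
    rw [h4, mul_one] at ht
    have h5 : P = N := Subgroup.eq_of_le_of_card_ge hPN (by rw [ht, hP])
    apply haP
    rw [h5]; exact haN
  · apply Subgroup.eq_top_of_card_eq
    rw [ht, h4, hB]

/-- a nonabelian group of order `pq` is a Frobenius group with complement of prime order -/
theorem exists_frob_compl_of_card_pq [Finite B] (p q : ℕ) (hp : p.Prime) (hq : q.Prime)
    (hB : Nat.card B = p * q) (hnc : ¬ ∀ a b : B, a * b = b * a) :
    ∃ (P Q : Subgroup B) (r : ℕ), r.Prime ∧ Cfsg.IsFrobeniusComplement P ∧ P.index = r ∧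
      Nat.card Q = r := by
  classical
  have hpq : p ≠ q := by
    intro h0
    subst h0
    have : Fact p.Prime := ⟨hp⟩
    exact hnc (IsPGroup.isMulCommutative_of_card_eq_prime_sq (by rw [hB, sq])).is_comm.comm
  have : Fact p.Prime := ⟨hp⟩
  have : Fact q.Prime := ⟨hq⟩
  obtain ⟨x, hx⟩ := exists_prime_orderOf_dvd_card' (G := B) p (by rw [hB]; exact dvd_mul_right p q)
  obtain ⟨y, hy⟩ := exists_prime_orderOf_dvd_card' (G := B) q (by rw [hB]; exact dvd_mul_left q p)
  have hP : Nat.card (Subgroup.zpowers x) = p := by rw [Nat.card_zpowers, hx]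
  have hQ : Nat.card (Subgroup.zpowers y) = q := by rw [Nat.card_zpowers, hy]
  have hidx : ∀ (S : Subgroup B) (r s : ℕ), Nat.card S = r → Nat.card B = r * s → 0 < r →
      S.index = s := by
    intro S r s h1 h2 h3
    have h4 := S.card_mul_index
    rw [h1, h2] at h4
    exact Nat.eq_of_mul_eq_mul_left h3 h4
  rcases frob_or_normal_of_prime_card (Subgroup.zpowers x) p q hp hq hP hB with h1 | h1
  · exact ⟨Subgroup.zpowers x, Subgroup.zpowers y, q, hq, h1, hidx _ p q hP hB hp.pos, hQ⟩
  have hB' : Nat.card B = q * p := by rw [hB, mul_comm]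
  rcases frob_or_normal_of_prime_card (Subgroup.zpowers y) q p hq hp hQ hB' with h2 | h2
  · exact ⟨Subgroup.zpowers y, Subgroup.zpowers x, p, hp, h2, hidx _ q p hQ hB' hq.pos, hP⟩
  exfalso
  apply hnc
  have hdisj : Disjoint (Subgroup.zpowers x) (Subgroup.zpowers y) := by
    apply Subgroup.disjoint_of_coprime_natCard
    rw [hP, hQ]
    exact (Nat.coprime_primes hp hq).mpr hpq
  have hxy : Commute x y := Subgroup.commute_of_normal_of_disjoint _ _ h1 h2 hdisj x y
    (Subgroup.mem_zpowers x) (Subgroup.mem_zpowers y)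
  have htop : Subgroup.closure ({x, y} : Set B) = ⊤ := by
    apply Subgroup.eq_top_of_card_eq
    have h3 : p ∣ Nat.card (Subgroup.closure ({x, y} : Set B)) := by
      rw [← hP]
      apply Subgroup.card_dvd_of_le
      rw [Subgroup.zpowers_le]
      exact Subgroup.subset_closure (by simp)
    have h4 : q ∣ Nat.card (Subgroup.closure ({x, y} : Set B)) := by
      rw [← hQ]
      apply Subgroup.card_dvd_of_le
      rw [Subgroup.zpowers_le]
      exact Subgroup.subset_closure (by simp)
    have h5 : p * q ∣ Nat.card (Subgroup.closure ({x, y} : Set B)) :=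
      ((Nat.coprime_primes hp hq).mpr hpq).mul_dvd_of_dvd_of_dvd h3 h4
    have h6 : Nat.card (Subgroup.closure ({x, y} : Set B)) ∣ p * q := by
      rw [← hB]; exact Subgroup.card_subgroup_dvd_card _
    rw [hB]
    exact Nat.dvd_antisymm h6 h5
  have hcen : ∀ z ∈ ({x, y} : Set B), z ∈ Subgroup.center B := by
    intro z hz
    have h3 : z ∈ Subgroup.centralizer ({x, y} : Set B) := by
      rw [Subgroup.mem_centralizer_iff]
      intro w hw
      rcases hz with rfl | hz
      · rcases hw with rfl | hw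
        · rfl
        · rw [Set.mem_singleton_iff] at hw; rw [hw]; exact hxy.eq.symm
      · rw [Set.mem_singleton_iff] at hz
        rcases hw with rfl | hw
        · rw [hz]; exact hxy.eq
        · rw [Set.mem_singleton_iff] at hw; rw [hw, hz]
    rw [← Subgroup.centralizer_closure, htop, Subgroup.coe_top, Subgroup.centralizer_univ] at h3
    exact h3
  have hle : Subgroup.closure ({x, y} : Set B) ≤ Subgroup.center B :=
    (Subgroup.closure_le _).mpr hcen
  rw [htop] at hle
  intro a b
  exact (Subgroup.mem_center_iff.mp (hle (Subgroup.mem_top b)) a)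

end

section
variable {G : Type*} [Group G]

/-- the `pq` case -/
theorem isCyclic_of_fpf_pq [Finite G] (A V : Subgroup G) [hVc : IsMulCommutative V] (hV : V ≠ ⊥)
    (hAV : A ≤ Subgroup.normalizer (V : Set G))
    (hfpf : ∀ a ∈ A, a ≠ 1 → V ⊓ Subgroup.centralizer {a} = ⊥)
    (p q : ℕ) (hp : p.Prime) (hq : q.Prime) (hA : Nat.card A = p * q) : IsCyclic A := by
  classical
  by_cases hcomm : ∀ a b : A, a * b = b * a
  · exact isCyclic_of_fpf_abelian A V hV hAV hfpf ⟨⟨hcomm⟩⟩
  exfalso
  obtain ⟨P, Q, r, hr, hPF, hPidx, hQcard⟩ := exists_frob_compl_of_card_pq p q hp hq hA hcomm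
  have : Fact r.Prime := ⟨hr⟩
  open scoped IsMulCommutative in
  have key : ∀ w : V, w ^ r = 1 := by
    intro w
    rw [← hPidx]
    refine frob_norm_pow (conjAutHom V A hAV) ?_ P hPF w
    intro x hx v hv
    have h1 : (x : G) * v * (x : G)⁻¹ = v := congrArg Subtype.val hv
    have h2 : (v : G) ∈ V ⊓ Subgroup.centralizer {(x : G)} := by
      refine Subgroup.mem_inf.mpr ⟨v.2, ?_⟩
      rw [mem_centralizer_singleton_iff]
      have := congrArg (· * (x : G)) h1
      simpa using this
    have hx1 : (x : G) ≠ 1 := fun h0 => hx (Subtype.ext h0)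
    rw [hfpf x x.2 hx1, Subgroup.mem_bot] at h2
    exact Subtype.ext h2
  have hVr : IsPGroup r V := fun w => ⟨1, by rw [pow_one]; exact key w⟩
  obtain ⟨k, hk⟩ := IsPGroup.iff_card.mp hVr
  have hk0 : k ≠ 0 := by
    intro h0
    rw [h0, pow_zero] at hk
    exact hV (Subgroup.card_eq_one.mp hk)
  set Q' : Subgroup G := Q.map A.subtype with hQ'
  have hQ'A : Q' ≤ A := Subgroup.map_subtype_le _
  have hQ'card : Nat.card Q' = r := by
    rw [hQ', Subgroup.card_map_of_injective A.subtype_injective, hQcard]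
  have hQ'r : IsPGroup r Q' := IsPGroup.of_card (n := 1) (by rw [hQ'card, pow_one])
  have hQ'1 : Q' ≠ ⊥ := by
    intro h0
    rw [h0, Subgroup.card_bot] at hQ'card
    exact hr.one_lt.ne hQ'card
  have hmod := card_modEq_one_of_fpf V Q' r hQ'r (hQ'A.trans hAV) hQ'1
    (fun a ha ha1 => hfpf a (hQ'A ha) ha1)
  have hdvd : r ∣ Nat.card V := by rw [hk]; exact dvd_pow_self r hk0
  have h1 : Nat.card V ≡ 0 [MOD r] := (Nat.modEq_zero_iff_dvd).mpr hdvd
  have h2 : (1 : ℕ) ≡ 0 [MOD r] := hmod.symm.trans h1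
  have h3 := (Nat.modEq_zero_iff_dvd).mp h2
  exact hr.one_lt.ne' (Nat.dvd_one.mp h3)

end

end Cfsg.Agent.Lib.Lead
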