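import Mathlib
import Cfsg.Agent.Lib.Lead.FpfCyclic

set_option autoImplicit false

namespace Cfsg.Agent.Lib.Lead

section
variable {C : Type*} [Group C] [Finite C]

/-- in a cyclic group at most `n` elements satisfy `x ^ n = 1` -/
theorem card_pow_eq_one_le_of_isCyclic [IsCyclic C] (n : ℕ) (hn : 0 < n) :
    Nat.card {x : C // x ^ n = 1} ≤ n := by
  classical
  have := Fintype.ofFinite C
  rw [Nat.card_eq_fintype_card, Fintype.card_subtype]
  exact IsCyclic.card_pow_eq_one_le hn

/-- a subgroup of a cyclic group all of whose elements satisfy `x ^ n = 1` has at most `n` elements -/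
theorem card_le_of_forall_pow_eq_one [IsCyclic C] (L : Subgroup C) (n : ℕ) (hn : 0 < n)
    (h : ∀ x ∈ L, x ^ n = 1) : Nat.card L ≤ n := by
  refine le_trans ?_ (card_pow_eq_one_le_of_isCyclic (C := C) n hn)
  exact Nat.card_le_card_of_injective (fun x : L => (⟨x.1, h x.1 x.2⟩ : {x : C // x ^ n = 1}))
    (fun a b hab => Subtype.ext (congrArg (fun z : {x : C // x ^ n = 1} => (z : C)) hab))

/-- in a finite cyclic group a subgroup consists of the elements killed by its order -/
theorem mem_iff_pow_card_of_isCyclic [IsCyclic C] (L : Subgroup C) (x : C) :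
    x ∈ L ↔ x ^ Nat.card L = 1 := by
  classical
  constructor
  · intro hx
    have := pow_card_eq_one' (G := L) (x := ⟨x, hx⟩)
    exact congrArg Subtype.val this
  · intro hx
    by_contra hxL
    -- the injection L ⊕ {x} → {y // y ^ card L = 1}
    have hle := card_pow_eq_one_le_of_isCyclic (C := C) (Nat.card L) Nat.card_pos
    let f : Option L → {y : C // y ^ Nat.card L = 1} := fun o =>
      match o with
      | none => ⟨x, hx⟩
      | some l => ⟨l.1, by
          have := pow_card_eq_one' (G := L) (x := l)
          exact congrArg Subtype.val this⟩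
    have hf : Function.Injective f := by
      intro a b hab
      cases a with
      | none =>
        cases b with
        | none => rfl
        | some l =>
          exfalso
          have h1 : x = l.1 := congrArg (fun z : {y : C // y ^ Nat.card L = 1} => (z : C)) hab
          exact hxL (h1 ▸ l.2)
      | some l =>
        cases b with
        | none =>
          exfalso
          have h1 : l.1 = x := congrArg (fun z : {y : C // y ^ Nat.card L = 1} => (z : C)) hab
          exact hxL (h1 ▸ l.2)
        | some l' =>
          have h1 : l.1 = l'.1 := congrArg (fun z : {y : C // y ^ Nat.card L = 1} => (z : C)) hab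
          rw [Subtype.ext h1]
    have h2 := Nat.card_le_card_of_injective f hf
    have := Fintype.ofFinite L
    rw [Nat.card_eq_fintype_card (α := Option L), Fintype.card_option,
      ← Nat.card_eq_fintype_card] at h2
    omega

theorem le_of_card_dvd_of_isCyclic [IsCyclic C] (H K : Subgroup C)
    (h : Nat.card H ∣ Nat.card K) : H ≤ K := by
  intro x hx
  rw [mem_iff_pow_card_of_isCyclic] at hx ⊢
  obtain ⟨d, hd⟩ := h
  rw [hd, pow_mul, hx, one_pow]

theorem le_total_of_isCyclic_of_isPGroup [IsCyclic C] {p : ℕ} [hp : Fact p.Prime]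
    (hC : IsPGroup p C) (H K : Subgroup C) : H ≤ K ∨ K ≤ H := by
  obtain ⟨i, hi⟩ := IsPGroup.iff_card.mp (hC.to_subgroup H)
  obtain ⟨j, hj⟩ := IsPGroup.iff_card.mp (hC.to_subgroup K)
  rcases le_total i j with h | h
  · left
    apply le_of_card_dvd_of_isCyclic
    rw [hi, hj]; exact pow_dvd_pow p h
  · right
    apply le_of_card_dvd_of_isCyclic
    rw [hi, hj]; exact pow_dvd_pow p h

theorem p_mul_card_le_of_lt {p : ℕ} [hp : Fact p.Prime] (hC : IsPGroup p C) {H L : Subgroup C}
    (h : H < L) : p * Nat.card H ≤ Nat.card L := by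
  obtain ⟨i, hi⟩ := IsPGroup.iff_card.mp (hC.to_subgroup H)
  obtain ⟨j, hj⟩ := IsPGroup.iff_card.mp (hC.to_subgroup L)
  have hlt : Nat.card H < Nat.card L := by
    by_contra hge
    push Not at hge
    exact h.ne (Subgroup.eq_of_le_of_card_ge h.le hge)
  rw [hi, hj] at hlt ⊢
  have hij : i < j := (Nat.pow_lt_pow_iff_right hp.out.one_lt).mp hlt
  rw [← pow_succ']
  exact Nat.pow_le_pow_right hp.out.pos hij

end

end Cfsg.Agent.Lib.Lead
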