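import Mathlib
import Cfsg.Agent.Lib.Lead.CyclicP

set_option autoImplicit false

namespace Cfsg.Agent.Lib.Lead

section
variable {A : Type*} [CommGroup A]

/-- the norm endomorphism `b ↦ b φ(b) ⋯ φ^{n-1}(b)` -/
def normEnd (φ : A →* A) (n : ℕ) : A →* A where
  toFun b := ∏ i ∈ Finset.range n, φ^[i] b
  map_one' := by
    apply Finset.prod_eq_one
    intro i _
    exact iterate_map_one φ i
  map_mul' a b := by
    rw [← Finset.prod_mul_distrib]
    exact Finset.prod_congr rfl (fun i _ => iterate_map_mul φ i a b)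

theorem normEnd_apply (φ : A →* A) (n : ℕ) (b : A) :
    normEnd φ n b = ∏ i ∈ Finset.range n, φ^[i] b := rfl

theorem normEnd_of_fixed (φ : A →* A) (n : ℕ) (b : A) (hb : φ b = b) : normEnd φ n b = b ^ n := by
  rw [normEnd_apply]
  have : ∀ i, φ^[i] b = b := fun i => Function.iterate_fixed hb i
  rw [Finset.prod_congr rfl (fun i _ => this i), Finset.prod_const, Finset.card_range]

theorem map_normEnd (φ : A →* A) (n : ℕ) (hφ : ∀ b, φ^[n] b = b) (b : A) :
    φ (normEnd φ n b) = normEnd φ n b := by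
  rw [normEnd_apply, map_prod]
  have h1 : ∀ i, φ (φ^[i] b) = φ^[i + 1] b := fun i => (Function.iterate_succ_apply' φ i b).symm
  rw [Finset.prod_congr rfl (fun i _ => h1 i)]
  have h2 := Finset.prod_range_succ (fun i => φ^[i] b) n
  have h3 := Finset.prod_range_succ' (fun i => φ^[i] b) n
  rw [h2] at h3
  simp only [Function.iterate_zero, id_eq, hφ b] at h3
  exact (mul_right_cancel h3).symm

variable [Finite A] [IsCyclic A] {p : ℕ} [hp : Fact p.Prime]

/-- Key lemma on an automorphism of order `p` of a cyclic `p`-group `A` (conjugation by an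
element `x` with `x ^ p = c ∈ A`) when no element of `A x` has order `p`. -/
theorem cyclic_aut_key (hA : IsPGroup p A) (φ : A →* A) (hφp : ∀ b, φ^[p] b = b)
    (hφ1 : ∃ b, φ b ≠ b) (c : A) (hc : φ c = c) (hne : ∀ b, normEnd φ p b * c ≠ 1) :
    (∀ b, normEnd φ p b = 1) ∧ (∀ b, φ b = b → b ^ p = 1) := by
  classical
  have hppos : 0 < p := hp.out.pos
  set ψ := normEnd φ p with hψ
  let C : Subgroup A := MonoidHom.eqLocus φ (MonoidHom.id A)
  have mem_C : ∀ b, b ∈ C ↔ φ b = b := fun b => Iff.rfl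
  have hRC : ψ.range ≤ C := by
    rintro _ ⟨b, rfl⟩
    rw [mem_C]
    exact map_normEnd φ p hφp b
  have hcC : c ∈ C := hc
  have hcR : c⁻¹ ∉ ψ.range := by
    rintro ⟨b, hb⟩
    apply hne b
    rw [hb, inv_mul_cancel]
  have hRltC : ψ.range < C := by
    refine lt_of_le_of_ne hRC ?_
    intro h0
    apply hcR
    rw [h0]
    exact C.inv_mem hcC
  have hCtop : C < ⊤ := by
    refine lt_of_le_of_ne le_top ?_
    intro h0
    obtain ⟨b, hb⟩ := hφ1
    apply hb
    rw [← mem_C, h0]
    trivial
  have hcardA : Nat.card ψ.ker * Nat.card ψ.range = Nat.card A := by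
    rw [← Subgroup.index_ker]
    exact ψ.ker.card_mul_index
  have hpowC : ∀ b ∈ C, ψ b = b ^ p := fun b hb => normEnd_of_fixed φ p b hb
  rcases le_total_of_isCyclic_of_isPGroup hA ψ.ker C with hKC | hCK
  · exfalso
    have h1 : Nat.card ψ.ker ≤ p := by
      apply card_le_of_forall_pow_eq_one _ p hppos
      intro b hb
      rw [← hpowC b (hKC hb)]
      exact hb
    have h2 := p_mul_card_le_of_lt hA hRltC
    have h3 := p_mul_card_le_of_lt hA hCtop
    rw [Subgroup.card_top] at h3
    have hRpos : 0 < Nat.card ψ.range := Nat.card_pos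
    have h4 : Nat.card A ≤ p * Nat.card ψ.range := by
      rw [← hcardA]
      exact Nat.mul_le_mul_right _ h1
    have h5 : p * (p * Nat.card ψ.range) ≤ p * Nat.card ψ.range :=
      le_trans (le_trans (Nat.mul_le_mul_left p h2) h3) h4
    have h6 : 2 ≤ p := hp.out.two_le
    nlinarith
  · have hCexp : ∀ b ∈ C, b ^ p = 1 := by
      intro b hb
      rw [← hpowC b hb]
      exact hCK hb
    have h1 : Nat.card C ≤ p := card_le_of_forall_pow_eq_one _ p hppos hCexp
    have h2 := p_mul_card_le_of_lt hA hRltC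
    have hRpos : 0 < Nat.card ψ.range := Nat.card_pos
    have h3 : Nat.card ψ.range = 1 := by
      have : p * Nat.card ψ.range ≤ p * 1 := by rw [mul_one]; exact le_trans h2 h1
      have := Nat.le_of_mul_le_mul_left this hppos
      omega
    have h4 : ψ.range = ⊥ := Subgroup.card_eq_one.mp h3
    refine ⟨?_, fun b hb => hCexp b hb⟩
    intro b
    have h5 : ψ b ∈ ψ.range := ⟨b, rfl⟩
    rw [h4, Subgroup.mem_bot] at h5
    exact h5

end

end Cfsg.Agent.Lib.Lead
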