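import Mathlib
import Cfsg.Agent.Lib.Lead.CyclicAut

set_option autoImplicit false

namespace Cfsg.Agent.Lib.Lead

section
variable {G : Type*} [Group G]

/-- the homomorphism `ZMod n → G`, `i ↦ a ^ i`, for `a ^ n = 1` -/
noncomputable def zmodPow (n : ℕ) (a : G) (ha : a ^ n = 1) : ZMod n →+ Additive G :=
  ZMod.lift n ⟨zmultiplesHom (Additive G) (Additive.ofMul a), by
    show ((n : ℤ) • Additive.ofMul a) = 0
    rw [natCast_zsmul]
    show Additive.ofMul (a ^ n) = 0
    rw [ha]; rfl⟩

theorem zmodPow_intCast (n : ℕ) (a : G) (ha : a ^ n = 1) (k : ℤ) :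
    (zmodPow n a ha (k : ZMod n)).toMul = a ^ k := by
  unfold zmodPow
  rw [ZMod.lift_coe]
  rfl

theorem zmodPow_natCast (n : ℕ) (a : G) (ha : a ^ n = 1) (k : ℕ) :
    (zmodPow n a ha (k : ZMod n)).toMul = a ^ k := by
  have := zmodPow_intCast n a ha (k : ℤ)
  rw [Int.cast_natCast, zpow_natCast] at this
  exact this

theorem zmodPow_add (n : ℕ) (a : G) (ha : a ^ n = 1) (i j : ZMod n) :
    (zmodPow n a ha (i + j)).toMul = (zmodPow n a ha i).toMul * (zmodPow n a ha j).toMul := by
  rw [map_add]; rfl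

theorem zmodPow_neg (n : ℕ) (a : G) (ha : a ^ n = 1) (i : ZMod n) :
    (zmodPow n a ha (-i)).toMul = ((zmodPow n a ha i).toMul)⁻¹ := by
  rw [map_neg]; rfl

theorem zmodPow_mem_zpowers (n : ℕ) (a : G) (ha : a ^ n = 1) (i : ZMod n) :
    (zmodPow n a ha i).toMul ∈ Subgroup.zpowers a := by
  obtain ⟨k, rfl⟩ := ZMod.intCast_surjective i
  rw [zmodPow_intCast]
  exact Subgroup.zpow_mem_zpowers a k

theorem zmodPow_eq_one (n : ℕ) [NeZero n] (a : G) (ha : a ^ n = 1) (hord : orderOf a = n)
    (i : ZMod n) (h : (zmodPow n a ha i).toMul = 1) : i = 0 := by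
  have h1 : ((i.val : ℕ) : ZMod n) = i := ZMod.natCast_zmod_val i
  rw [← h1, zmodPow_natCast] at h
  have h2 : orderOf a ∣ i.val := orderOf_dvd_of_pow_eq_one h
  rw [hord] at h2
  have h3 : i.val < n := ZMod.val_lt i
  have h4 : i.val = 0 := Nat.eq_zero_of_dvd_of_lt h2 h3
  rw [← h1, h4, Nat.cast_zero]

/-- Recognition of the generalised quaternion (dicyclic) group of order `4m`. -/
theorem quaternion_recognition [Finite G] (m : ℕ) [NeZero m] (a x : G)
    (ha : orderOf a = 2 * m) (hx2 : x ^ 2 = a ^ m) (hxa : x * a * x⁻¹ = a⁻¹)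
    (hxA : x ∉ Subgroup.zpowers a) (hcard : Nat.card G = 4 * m) :
    Nonempty (G ≃* QuaternionGroup m) := by
  classical
  have ha1 : a ^ (2 * m) = 1 := by rw [← ha]; exact pow_orderOf_eq_one a
  let E : ZMod (2 * m) → G := fun i => (zmodPow (2 * m) a ha1 i).toMul
  have E_add : ∀ i j, E (i + j) = E i * E j := zmodPow_add _ a ha1
  have E_neg : ∀ i, E (-i) = (E i)⁻¹ := zmodPow_neg _ a ha1
  have E_sub : ∀ i j, E (j - i) = (E i)⁻¹ * E j := by
    intro i j
    rw [sub_eq_add_neg, add_comm, E_add, E_neg]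
  have E_m : E (m : ZMod (2 * m)) = a ^ m := zmodPow_natCast _ a ha1 m
  have E_conj : ∀ i, x * E i * x⁻¹ = (E i)⁻¹ := by
    intro i
    obtain ⟨k, rfl⟩ := ZMod.intCast_surjective i
    have hEk : E (k : ZMod (2 * m)) = a ^ k := zmodPow_intCast _ a ha1 k
    rw [hEk]
    have h1 : x * a ^ k * x⁻¹ = (x * a * x⁻¹) ^ k := by
      have := map_zpow (MulAut.conj x) a k
      simpa [MulAut.conj_apply] using this
    rw [h1, hxa, inv_zpow]
  have E_comm : ∀ i, E i * x = x * (E i)⁻¹ := by
    intro i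
    have h1 := E_conj (-i)
    rw [E_neg, inv_inv] at h1
    calc E i * x = (x * (E i)⁻¹ * x⁻¹) * x := by rw [h1]
      _ = x * (E i)⁻¹ := by group
  let f : QuaternionGroup m → G := fun q =>
    match q with
    | QuaternionGroup.a i => E i
    | QuaternionGroup.xa i => x * E i
  have f_a : ∀ i, f (QuaternionGroup.a i) = E i := fun i => rfl
  have f_xa : ∀ i, f (QuaternionGroup.xa i) = x * E i := fun i => rfl
  have hmul : ∀ q r, f (q * r) = f q * f r := by
    intro q r
    rcases q with i | i <;> rcases r with j | j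
    · rw [QuaternionGroup.a_mul_a, f_a, f_a, f_a, E_add]
    · rw [QuaternionGroup.a_mul_xa, f_a, f_xa, f_xa, E_sub, ← mul_assoc (E i), E_comm]
      group
    · rw [QuaternionGroup.xa_mul_a, f_xa, f_xa, f_a, E_add, mul_assoc]
    · rw [QuaternionGroup.xa_mul_xa, f_xa, f_xa, f_a, add_sub_assoc, E_add, E_sub, E_m, ← hx2]
      have h1 : x * E i * (x * E j) = x * (E i * x) * E j := by group
      rw [h1, E_comm, sq]
      group
  let F : QuaternionGroup m →* G := MonoidHom.mk' f hmul
  have hF : ∀ q, F q = f q := fun q => rfl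
  have hinj : Function.Injective F := by
    rw [injective_iff_map_eq_one]
    intro q hq
    rw [hF] at hq
    rcases q with i | i
    · rw [f_a] at hq
      have := zmodPow_eq_one (2 * m) a ha1 ha i hq
      rw [this, QuaternionGroup.a_zero]
    · exfalso
      rw [f_xa] at hq
      apply hxA
      have h1 : x = (E i)⁻¹ := eq_inv_of_mul_eq_one_left hq
      rw [h1]
      exact Subgroup.inv_mem _ (zmodPow_mem_zpowers _ a ha1 i)
  have hbij : Function.Bijective F := by
    rw [Nat.bijective_iff_injective_and_card]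
    refine ⟨hinj, ?_⟩
    rw [hcard, Nat.card_eq_fintype_card, QuaternionGroup.card]
  exact ⟨(MulEquiv.ofBijective F hbij).symm⟩

end

end Cfsg.Agent.Lib.Lead
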