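import Mathlib
import Cfsg.Agent.Lib.Lead.QuatRecog

set_option autoImplicit false
open Pointwise

namespace Cfsg.Agent.Lib.Lead

/-- only one subgroup has order `p` -/
def UniqueOrderP (p : ℕ) (G : Type*) [Group G] : Prop :=
  ∀ H K : Subgroup G, Nat.card H = p → Nat.card K = p → H = K

section
variable {G : Type*} [Group G] [Finite G] {p : ℕ} [hp : Fact p.Prime]

theorem UniqueOrderP.pow_eq_one_mem (h : UniqueOrderP p G) (Z : Subgroup G) (hZ : Nat.card Z = p)
    (g : G) (hg : g ^ p = 1) : g ∈ Z := by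
  by_cases hg1 : g = 1
  · rw [hg1]; exact Z.one_mem
  have h1 : orderOf g = p := orderOf_eq_prime hg hg1
  have h2 : Nat.card (Subgroup.zpowers g) = p := by rw [Nat.card_zpowers, h1]
  rw [← h (Subgroup.zpowers g) Z h2 hZ]
  exact Subgroup.mem_zpowers g

theorem UniqueOrderP.isCyclic_of_comm (hG : IsPGroup p G) (h : UniqueOrderP p G) (B : Subgroup G)
    (hB : IsMulCommutative B) : IsCyclic B := by
  classical
  by_contra hnc
  open scoped IsMulCommutative in
  obtain ⟨q, hq, E', hE'card, hE'exp⟩ := exists_elementary_abelian_sq hnc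
  have hqp : q = p := by
    obtain ⟨k, hk⟩ := IsPGroup.iff_card.mp hG
    have h1 : q ∣ Nat.card G := by
      have h2 : q ∣ Nat.card E' := by rw [hE'card, sq]; exact dvd_mul_right q q
      exact (h2.trans (Subgroup.card_subgroup_dvd_card E')).trans (Subgroup.card_subgroup_dvd_card B)
    rw [hk] at h1
    exact (Nat.prime_dvd_prime_iff_eq hq hp.out).mp (hq.dvd_of_dvd_pow h1)
  subst hqp
  have hE'ne : E' ≠ ⊥ := by
    intro h0
    rw [h0, Subgroup.card_bot] at hE'card
    have h2 : 1 < q ^ 2 := Nat.one_lt_pow (by norm_num) hq.one_lt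
    omega
  obtain ⟨e, heE, he1⟩ : ∃ e ∈ E', e ≠ 1 := by
    by_contra hall
    push Not at hall
    exact hE'ne ((Subgroup.eq_bot_iff_forall E').mpr hall)
  have hcard1 : Nat.card (Subgroup.zpowers e) = q := by
    rw [Nat.card_zpowers, orderOf_eq_prime (hE'exp e heE) he1]
  have hle1 : Subgroup.zpowers e ≤ E' := (Subgroup.zpowers_le).mpr heE
  obtain ⟨e', he'E, he'1⟩ : ∃ e' ∈ E', e' ∉ Subgroup.zpowers e := by
    by_contra hall
    push Not at hall
    have h1 : E' = Subgroup.zpowers e := le_antisymm hall hle1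
    rw [h1, hcard1, sq] at hE'card
    have := hq.one_lt
    nlinarith
  have he'ne : e' ≠ 1 := by
    intro h0
    apply he'1
    rw [h0]; exact Subgroup.one_mem _
  have hcard2 : Nat.card (Subgroup.zpowers e') = q := by
    rw [Nat.card_zpowers, orderOf_eq_prime (hE'exp e' he'E) he'ne]
  have hinj := B.subtype_injective
  have h3 := h ((Subgroup.zpowers e).map B.subtype) ((Subgroup.zpowers e').map B.subtype)
    (by rw [Subgroup.card_map_of_injective hinj, hcard1])
    (by rw [Subgroup.card_map_of_injective hinj, hcard2])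
  have h4 := Subgroup.map_injective hinj h3
  apply he'1
  rw [h4]
  exact Subgroup.mem_zpowers e'

/-- existence of a maximal normal abelian subgroup -/
theorem exists_max_normal_abelian (G : Type*) [Group G] [Finite G] :
    ∃ A : Subgroup G, A.Normal ∧ IsMulCommutative A ∧
      ∀ M : Subgroup G, M.Normal → IsMulCommutative M → A ≤ M → M = A := by
  classical
  let S := {N : Subgroup G // N.Normal ∧ IsMulCommutative N}
  have : Nonempty S := ⟨⟨⊥, inferInstance, inferInstance⟩⟩
  obtain ⟨A, hA⟩ := Finite.exists_max (fun N : S => Nat.card N.1)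
  refine ⟨A.1, A.2.1, A.2.2, ?_⟩
  intro M hMn hMc hAM
  have := hA ⟨M, hMn, hMc⟩
  exact (Subgroup.eq_of_le_of_card_ge hAM this).symm

end

end Cfsg.Agent.Lib.Lead
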