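import Mathlib
import Cfsg.Agent.Lib.Lead.UniqueOrderP1

set_option autoImplicit false
open Pointwise
open scoped IsMulCommutative

namespace Cfsg.Agent.Lib.Lead

section
variable {G : Type*} [Group G]

theorem iterate_conjHom_coe (A : Subgroup G) (x : G)
    (hx : x ∈ Subgroup.normalizer (A : Set G)) (n : ℕ) (b : A) :
    (((conjHom A x hx)^[n] b : A) : G) = x ^ n * b * (x ^ n)⁻¹ := by
  induction n with
  | zero => simp
  | succ n ih =>
    rw [Function.iterate_succ_apply', conjHom_coe, ih, pow_succ']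
    group

theorem mul_pow_eq_normEnd (A : Subgroup G) [IsMulCommutative A] (x : G)
    (hx : x ∈ Subgroup.normalizer (A : Set G)) (n : ℕ) (b : A) :
    ((b : G) * x) ^ n = ((normEnd (conjHom A x hx) n b : A) : G) * x ^ n := by
  induction n with
  | zero => simp [normEnd_apply]
  | succ n ih =>
    have h1 : normEnd (conjHom A x hx) (n + 1) b
        = normEnd (conjHom A x hx) n b * (conjHom A x hx)^[n] b := by
      rw [normEnd_apply, Finset.prod_range_succ, ← normEnd_apply]
    rw [pow_succ, ih, h1, Subgroup.coe_mul, iterate_conjHom_coe, pow_succ]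
    group

variable [Finite G] {p : ℕ} [hp : Fact p.Prime]

/-- the key consequences for an element `x ∉ A` with `x ^ p ∈ A` not centralising the cyclic
normal subgroup `A` -/
theorem UniqueOrderP.key (hG : IsPGroup p G) (h : UniqueOrderP p G) (A : Subgroup G)
    [hAn : A.Normal] [IsMulCommutative A] [IsCyclic A] (Z : Subgroup G) (hZ : Nat.card Z = p)
    (hZA : Z ≤ A) (x : G) (hxA : x ∉ A) (hxp : x ^ p ∈ A)
    (hxC : x ∉ Subgroup.centralizer (A : Set G)) :
    (∀ b : A, normEnd (conjHom A x (by rw [Subgroup.normalizer_eq_top_iff.mpr hAn]; trivial)) p b = 1) ∧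
    (∀ b : A, x * b * x⁻¹ = b → (b : G) ^ p = 1) ∧ (x ^ p) ^ p = 1 ∧ x ^ p ≠ 1 := by
  classical
  have hx : x ∈ Subgroup.normalizer (A : Set G) := by
    rw [Subgroup.normalizer_eq_top_iff.mpr hAn]; trivial
  set φ := conjHom A x hx with hφ
  have hAp : IsPGroup p A := hG.to_subgroup A
  have hφp : ∀ b, φ^[p] b = b := by
    intro b
    apply Subtype.ext
    rw [iterate_conjHom_coe]
    have h1 : (⟨x ^ p, hxp⟩ : A) * b = b * ⟨x ^ p, hxp⟩ := mul_comm _ _
    have h2 : x ^ p * (b : G) = b * x ^ p := congrArg Subtype.val h1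
    rw [h2, mul_inv_cancel_right]
  have hφ1 : ∃ b, φ b ≠ b := by
    by_contra hall
    push Not at hall
    apply hxC
    rw [Subgroup.mem_centralizer_iff]
    intro b hb
    have h1 := congrArg Subtype.val (hall ⟨b, hb⟩)
    rw [conjHom_coe] at h1
    have h2 : x * b = b * x := by
      have := congrArg (· * x) h1
      simpa using this
    exact h2.symm
  have hc : φ ⟨x ^ p, hxp⟩ = ⟨x ^ p, hxp⟩ := by
    apply Subtype.ext
    rw [conjHom_coe]
    show x * x ^ p * x⁻¹ = x ^ p
    rw [← pow_succ', pow_succ, mul_inv_cancel_right]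
  have hne : ∀ b, normEnd φ p b * ⟨x ^ p, hxp⟩ ≠ 1 := by
    intro b h0
    have h1 := mul_pow_eq_normEnd A x hx p b
    have h2 : ((normEnd φ p b : A) : G) * x ^ p = 1 := by
      have := congrArg Subtype.val h0
      simpa using this
    rw [h2] at h1
    have h3 := h.pow_eq_one_mem Z hZ _ h1
    apply hxA
    have h4 : x = (b : G)⁻¹ * ((b : G) * x) := by group
    rw [h4]
    exact A.mul_mem (A.inv_mem b.2) (hZA h3)
  obtain ⟨k1, k2⟩ := cyclic_aut_key hAp φ hφp hφ1 ⟨x ^ p, hxp⟩ hc hne
  refine ⟨k1, ?_, ?_, ?_⟩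
  · intro b hb
    have h1 : φ b = b := Subtype.ext (by rw [conjHom_coe]; exact hb)
    have h2 := congrArg Subtype.val (k2 b h1)
    simpa using h2
  · have h2 := congrArg Subtype.val (k2 _ hc)
    simpa using h2
  · intro h0
    apply hne 1
    rw [map_one, one_mul]
    exact Subtype.ext h0

end

end Cfsg.Agent.Lib.Lead
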