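import Mathlib
import Cfsg.Agent.Lib.Lead.UniqueOrderP2

set_option autoImplicit false
open Pointwise
open scoped IsMulCommutative

namespace Cfsg.Agent.Lib.Lead

section
variable {G : Type*} [Group G] [Finite G] {p : ℕ} [hp : Fact p.Prime]

/-- odd case: elements of `A` of order dividing `p^2` have order dividing `p` -/
theorem UniqueOrderP.odd_exp (hG : IsPGroup p G) (h : UniqueOrderP p G) (hp2 : p ≠ 2)
    (A : Subgroup G)
    [hAn : A.Normal] [IsMulCommutative A] [IsCyclic A] (Z : Subgroup G) (hZ : Nat.card Z = p)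
    (hZA : Z ≤ A) (hZc : Z ≤ Subgroup.center G) (x : G) (hxA : x ∉ A) (hxp : x ^ p ∈ A)
    (hxC : x ∉ Subgroup.centralizer (A : Set G)) (b : G) (hbA : b ∈ A) (hb : b ^ (p ^ 2) = 1) :
    b ^ p = 1 := by
  classical
  obtain ⟨k1, -, -, -⟩ := h.key hG A Z hZ hZA x hxA hxp hxC
  have hx : x ∈ Subgroup.normalizer (A : Set G) := by
    rw [Subgroup.normalizer_eq_top_iff.mpr hAn]; trivial
  set φ := conjHom A x hx with hφ
  have hfix : ∀ c : A, (c : G) ^ p = 1 → φ c = c := by
    intro c hc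
    have h1 := hZc (h.pow_eq_one_mem Z hZ _ hc)
    apply Subtype.ext
    rw [conjHom_coe]
    have h2 := Subgroup.mem_center_iff.mp h1 x
    rw [h2, mul_inv_cancel_right]
  set b' : A := ⟨b, hbA⟩ with hb'
  set z₁ : A := b'⁻¹ * φ b' with hz₁
  have hbp : φ (b' ^ p) = b' ^ p := by
    apply hfix
    rw [Subgroup.coe_pow, ← pow_mul, ← sq]
    exact hb
  have hz₁p : z₁ ^ p = 1 := by
    rw [hz₁, mul_pow, inv_pow, ← map_pow, hbp, inv_mul_cancel]
  have hz₁fix : φ z₁ = z₁ := hfix z₁ (by
    have := congrArg Subtype.val hz₁p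
    simpa using this)
  have hφb : φ b' = b' * z₁ := by rw [hz₁, mul_inv_cancel_left]
  have hiter : ∀ i : ℕ, φ^[i] b' = b' * z₁ ^ i := by
    intro i
    induction i with
    | zero => simp
    | succ i ih =>
      rw [Function.iterate_succ_apply', ih, map_mul, map_pow, hφb, hz₁fix, pow_succ', mul_assoc]
  have hnorm : normEnd φ p b' = b' ^ p := by
    rw [normEnd_apply, Finset.prod_congr rfl (fun i _ => hiter i), Finset.prod_mul_distrib,
      Finset.prod_const, Finset.card_range, Finset.prod_pow_eq_pow_sum]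
    have hsum : ∃ t, (∑ i ∈ Finset.range p, i) = p * t := by
      have h1 := Finset.sum_range_id_mul_two p
      have hodd : Odd p := hp.out.odd_of_ne_two hp2
      obtain ⟨s, hs⟩ := hodd
      refine ⟨s, ?_⟩
      have h2 : p - 1 = 2 * s := by omega
      rw [h2] at h1
      have h3 : (∑ i ∈ Finset.range p, i) * 2 = (p * s) * 2 := by rw [h1]; ring
      exact Nat.eq_of_mul_eq_mul_right (by norm_num) h3
    obtain ⟨t, ht⟩ := hsum
    rw [ht, pow_mul, hz₁p, one_pow, mul_one]
  have h3 := k1 b'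
  rw [hnorm] at h3
  have := congrArg Subtype.val h3
  simpa using this

/-- odd case: contradiction -/
theorem UniqueOrderP.odd_false (hG : IsPGroup p G) (h : UniqueOrderP p G) (hp2 : p ≠ 2)
    (A : Subgroup G)
    [hAn : A.Normal] [IsMulCommutative A] [IsCyclic A] (Z : Subgroup G) (hZ : Nat.card Z = p)
    (hZA : Z ≤ A) (hZc : Z ≤ Subgroup.center G) (x : G) (hxA : x ∉ A) (hxp : x ^ p ∈ A)
    (hCA : Subgroup.centralizer (A : Set G) = A) : False := by
  classical
  have hxC : x ∉ Subgroup.centralizer (A : Set G) := by rw [hCA]; exact hxA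
  have key := h.odd_exp hG hp2 A Z hZ hZA hZc x hxA hxp hxC
  have hexp : ∀ j : ℕ, ∀ b : G, b ∈ A → b ^ (p ^ (j + 1)) = 1 → b ^ p = 1 := by
    intro j
    induction j with
    | zero => intro b _ hb; simpa using hb
    | succ j ih =>
      intro b hbA hb
      apply ih b hbA
      have h1 : (b ^ (p ^ j)) ^ (p ^ 2) = 1 := by
        rw [← pow_mul, ← pow_add]; exact hb
      have h2 := key (b ^ (p ^ j)) (A.pow_mem hbA _) h1
      rw [← pow_mul, ← pow_succ] at h2
      exact h2
  have hAexp : ∀ b ∈ A, b ^ p = 1 := by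
    intro b hbA
    obtain ⟨j, hj⟩ := (IsPGroup.iff_orderOf.mp hG) b
    apply hexp j b hbA
    rw [pow_succ, pow_mul, ← hj, pow_orderOf_eq_one, one_pow]
  have hAZ : A ≤ Z := fun b hb => h.pow_eq_one_mem Z hZ b (hAexp b hb)
  have hAc : A ≤ Subgroup.center G := hAZ.trans hZc
  apply hxA
  rw [← hCA, Subgroup.mem_centralizer_iff]
  intro b hb
  exact (Subgroup.mem_center_iff.mp (hAc hb) x).symm

end

end Cfsg.Agent.Lib.Lead
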