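import Mathlib
import Cfsg.Agent.Lib.Lead.UniqueOrderP3

set_option autoImplicit false
open Pointwise
open scoped IsMulCommutative

namespace Cfsg.Agent.Lib.Lead

section
variable {G : Type*} [Group G] [Finite G]

/-- `p = 2`: an element `x ∉ A` with `x² ∈ A` inverts `A`, and `x²` is an involution -/
theorem UniqueOrderP.two_invert (hG : IsPGroup 2 G) (h : UniqueOrderP 2 G) (A : Subgroup G)
    [hAn : A.Normal] [IsMulCommutative A] [IsCyclic A] (Z : Subgroup G) (hZ : Nat.card Z = 2)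
    (hZA : Z ≤ A) (hCA : Subgroup.centralizer (A : Set G) = A) (x : G) (hxA : x ∉ A)
    (hx2 : x ^ 2 ∈ A) :
    (∀ b ∈ A, x * b * x⁻¹ = b⁻¹) ∧ (x ^ 2) ^ 2 = 1 ∧ x ^ 2 ≠ 1 := by
  have hxC : x ∉ Subgroup.centralizer (A : Set G) := by rw [hCA]; exact hxA
  obtain ⟨k1, -, k3, k4⟩ := h.key hG A Z hZ hZA x hxA hx2 hxC
  refine ⟨?_, k3, k4⟩
  intro b hb
  have h1 := k1 ⟨b, hb⟩
  rw [normEnd_apply, Finset.prod_range_succ, Finset.prod_range_one] at h1
  have h2 := congrArg Subtype.val h1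
  simp only [Function.iterate_zero, id_eq, Function.iterate_one, Subgroup.coe_mul, conjHom_coe,
    Subgroup.coe_one] at h2
  exact (eq_inv_of_mul_eq_one_right h2)

theorem not_four_dvd_sq_add_one (i : ℤ) : ¬ (4 : ℤ) ∣ i * i + 1 := by
  intro h
  rcases Int.even_or_odd' i with ⟨t, ht | ht⟩
  · rw [ht] at h
    have : (2 * t) * (2 * t) + 1 = 4 * (t * t) + 1 := by ring
    rw [this] at h
    omega
  · rw [ht] at h
    have : (2 * t + 1) * (2 * t + 1) + 1 = 4 * (t * t + t) + 2 := by ring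
    rw [this] at h
    omega

/-- the main theorem for `p = 2` -/
theorem UniqueOrderP.two_main (hG : IsPGroup 2 G) (h : UniqueOrderP 2 G) (A : Subgroup G)
    [hAn : A.Normal] [IsMulCommutative A] [IsCyclic A]
    (hCA : Subgroup.centralizer (A : Set G) = A) (hAtop : A ≠ ⊤) :
    ∃ n : ℕ, Nonempty (G ≃* QuaternionGroup (2 ^ n)) := by
  classical
  obtain ⟨x₀, hx₀⟩ : ∃ x₀ : G, x₀ ∉ A := by
    by_contra hall
    push Not at hall
    exact hAtop ((Subgroup.eq_top_iff' A).mpr hall)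
  have hAbot : A ≠ ⊥ := by
    intro h0
    apply hx₀
    rw [← hCA, Subgroup.mem_centralizer_iff]
    intro b hb
    rw [h0] at hb
    have : b = 1 := hb
    rw [this, one_mul, mul_one]
  have hAp : IsPGroup 2 A := hG.to_subgroup A
  obtain ⟨k, hk⟩ := IsPGroup.iff_card.mp hAp
  have hk0 : k ≠ 0 := by
    intro h0
    rw [h0, pow_zero] at hk
    exact hAbot (Subgroup.card_eq_one.mp hk)
  -- the involution
  obtain ⟨e, he⟩ := exists_prime_orderOf_dvd_card' (G := A) 2 (by rw [hk]; exact dvd_pow_self 2 hk0)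
  set Z : Subgroup G := Subgroup.zpowers (e : G) with hZdef
  have hZ : Nat.card Z = 2 := by rw [Nat.card_zpowers, Subgroup.orderOf_coe, he]
  have hZA : Z ≤ A := (Subgroup.zpowers_le).mpr e.2
  have hk2 : 2 ≤ k := by
    by_contra hlt
    have hk1 : k = 1 := by omega
    rw [hk1, pow_one] at hk
    have hAc : A ≤ Subgroup.center G := le_center_of_normal_of_card_prime hG A hk
    apply hx₀
    rw [← hCA, Subgroup.mem_centralizer_iff]
    intro b hb
    exact (Subgroup.mem_center_iff.mp (hAc hb) x₀).symm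
  have hinv := fun x hxA hx2 => h.two_invert hG A Z hZ hZA hCA x hxA hx2
  have hnorm : ∀ w : G, w ∈ Subgroup.normalizer (A : Set G) := by
    intro w
    rw [Subgroup.normalizer_eq_top_iff.mpr hAn]; trivial
  -- generator
  obtain ⟨g, hg⟩ := IsCyclic.exists_generator (α := A)
  have hgord : orderOf g = 2 ^ k := by rw [orderOf_eq_card_of_forall_mem_zpowers hg, hk]
  -- element of order 4
  set c : A := g ^ (2 ^ (k - 2)) with hc
  have hcord : orderOf c = 4 := by
    rw [hc, orderOf_pow_of_dvd (pow_ne_zero _ two_ne_zero) (by rw [hgord]; exact pow_dvd_pow 2 (by omega)),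
      hgord, Nat.pow_div (by omega) (by norm_num)]
    have : k - (k - 2) = 2 := by omega
    rw [this]
  have hc4 : c ^ 4 = 1 := by rw [← hcord]; exact pow_orderOf_eq_one c
  -- Claim Q
  have claimQ : ∀ w : G, w ^ 4 ∈ A → w ^ 2 ∈ A := by
    intro w hw4
    by_contra hw2
    have hx2 : (w ^ 2) ^ 2 ∈ A := by rw [← pow_mul]; exact hw4
    obtain ⟨hinvx, -, -⟩ := hinv (w ^ 2) hw2 hx2
    set σ := conjHom A w (hnorm w) with hσ
    have h1 : (σ c) ^ 4 = 1 := by rw [← map_pow, hc4, map_one]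
    have h2 : σ c ∈ Subgroup.zpowers c := by
      rw [mem_iff_pow_card_of_isCyclic, Nat.card_zpowers, hcord]
      exact h1
    obtain ⟨i, hi⟩ := Subgroup.mem_zpowers_iff.mp h2
    have h3 : σ (σ c) = c ^ (i * i) := by
      rw [← hi, map_zpow, ← hi, ← zpow_mul]
    have h4 : σ (σ c) = c⁻¹ := by
      apply Subtype.ext
      rw [conjHom_coe, conjHom_coe, Subgroup.coe_inv, ← hinvx c c.2]
      rw [sq]; group
    have h5 : c ^ (i * i + 1) = 1 := by
      rw [zpow_add_one, ← h3, h4, inv_mul_cancel]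
    have h6 := (orderOf_dvd_iff_zpow_eq_one).mpr h5
    rw [hcord] at h6
    exact not_four_dvd_sq_add_one i (by exact_mod_cast h6)
  -- all squares lie in A
  have hsq : ∀ j : ℕ, ∀ y : G, y ^ (2 ^ j) ∈ A → y ^ 2 ∈ A := by
    intro j
    induction j with
    | zero =>
      intro y hy
      rw [pow_zero, pow_one] at hy
      exact A.pow_mem hy 2
    | succ j ih =>
      intro y hy
      rcases Nat.eq_zero_or_pos j with hj | hj
      · rw [hj] at hy
        simpa using hy
      · obtain ⟨j', rfl⟩ : ∃ j', j = j' + 1 := ⟨j - 1, by omega⟩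
        apply ih
        have h1 : (y ^ (2 ^ j')) ^ 4 ∈ A := by
          rw [← pow_mul]
          have : 2 ^ j' * 4 = 2 ^ (j' + 1 + 1) := by ring
          rw [this]; exact hy
        have h2 := claimQ _ h1
        rw [← pow_mul, ← pow_succ] at h2
        exact h2
  have hsqA : ∀ y : G, y ^ 2 ∈ A := by
    intro y
    obtain ⟨j, hj⟩ := hG y
    apply hsq j
    rw [hj]; exact A.one_mem
  have hinvall : ∀ y : G, y ∉ A → ∀ b ∈ A, y * b * y⁻¹ = b⁻¹ :=
    fun y hy => (hinv y hy (hsqA y)).1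
  -- index two
  have hidx : A.index = 2 := by
    rw [Subgroup.index_eq_two_iff]
    refine ⟨x₀, fun b => ?_⟩
    by_cases hb : b ∈ A
    · right
      refine ⟨hb, fun hbx => hx₀ ?_⟩
      have : x₀ = b⁻¹ * (b * x₀) := by group
      rw [this]
      exact A.mul_mem (A.inv_mem hb) hbx
    · left
      refine ⟨?_, hb⟩
      rw [← hCA, Subgroup.mem_centralizer_iff]
      intro d hd
      have h1 := hinvall x₀ hx₀ d hd
      have h2 := hinvall b hb d⁻¹ (A.inv_mem hd)
      rw [inv_inv] at h2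
      have h3 : b * x₀ * d = b * (x₀ * d * x₀⁻¹) * x₀ := by group
      rw [h3, h1]
      have h4 : b * d⁻¹ = d * b := by
        have := congrArg (· * b) h2
        simpa using this
      rw [h4, mul_assoc]
  -- assemble
  set a : G := (g : G) with ha
  have haord : orderOf a = 2 * 2 ^ (k - 1) := by
    rw [ha, Subgroup.orderOf_coe, hgord, ← pow_succ']
    congr 1
    omega
  have hAza : Subgroup.zpowers a = A := by
    apply le_antisymm
    · exact (Subgroup.zpowers_le).mpr g.2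
    · intro y hy
      obtain ⟨i, hi⟩ := Subgroup.mem_zpowers_iff.mp (hg ⟨y, hy⟩)
      rw [Subgroup.mem_zpowers_iff]
      refine ⟨i, ?_⟩
      have := congrArg Subtype.val hi
      simpa using this
  obtain ⟨hx₀inv, hx₀4, hx₀ne⟩ := hinv x₀ hx₀ (hsqA x₀)
  have hm2 : (a ^ 2 ^ (k - 1)) ^ 2 = 1 := by
    rw [← pow_mul, mul_comm, ← haord]; exact pow_orderOf_eq_one a
  have hm1 : a ^ 2 ^ (k - 1) ≠ 1 := by
    intro h0
    have h1 := orderOf_dvd_of_pow_eq_one h0
    rw [haord] at h1
    have h2 := Nat.le_of_dvd (by positivity) h1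
    have : 0 < 2 ^ (k - 1) := by positivity
    omega
  have hmord : orderOf (a ^ 2 ^ (k - 1)) = 2 := orderOf_eq_prime hm2 hm1
  have hx₀sq : x₀ ^ 2 = a ^ 2 ^ (k - 1) := by
    -- both are involutions of `G`
    have h1 := h.pow_eq_one_mem (Subgroup.zpowers (a ^ 2 ^ (k - 1)))
      (by rw [Nat.card_zpowers, hmord]) (x₀ ^ 2) hx₀4
    obtain ⟨i, hi⟩ := Subgroup.mem_zpowers_iff.mp h1
    rw [← zpow_mod_orderOf, hmord] at hi
    push_cast at hi
    rcases Int.emod_two_eq_zero_or_one i with h2 | h2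
    · rw [h2] at hi
      simp only [Nat.cast_ofNat, zpow_zero] at hi
      exact absurd hi.symm hx₀ne
    · rw [h2] at hi
      simp only [Nat.cast_ofNat, zpow_one] at hi
      exact hi.symm
  have hcard : Nat.card G = 4 * 2 ^ (k - 1) := by
    rw [← A.card_mul_index, hidx, hk]
    have : k = (k - 1) + 1 := by omega
    conv_lhs => rw [this, pow_succ]
    ring
  have hx₀a : x₀ * a * x₀⁻¹ = a⁻¹ := hx₀inv a g.2
  have hx₀za : x₀ ∉ Subgroup.zpowers a := by rw [hAza]; exact hx₀
  have : NeZero (2 ^ (k - 1)) := ⟨pow_ne_zero _ two_ne_zero⟩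
  exact ⟨k - 1, quaternion_recognition (2 ^ (k - 1)) a x₀ haord hx₀sq hx₀a hx₀za hcard⟩

end

end Cfsg.Agent.Lib.Lead
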