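import Mathlib
import Cfsg.Agent.Lib.Lead.UniqueOrderP4

set_option autoImplicit false
open Pointwise
open scoped IsMulCommutative

namespace Cfsg.Agent.Lib.Lead

section
variable {G : Type*} [Group G] [Finite G] {p : ℕ} [hp : Fact p.Prime]

/-- A finite `p`-group with a unique subgroup of order `p` is cyclic or generalised quaternion. -/
theorem UniqueOrderP.main (hG : IsPGroup p G) (h : UniqueOrderP p G) :
    IsCyclic G ∨ (p = 2 ∧ ∃ n : ℕ, Nonempty (G ≃* QuaternionGroup (2 ^ n))) := by
  classical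
  have : Group.IsNilpotent G := hG.isNilpotent
  obtain ⟨A, hAn, hAc, hmax⟩ := exists_max_normal_abelian G
  have hAcyc : IsCyclic A := h.isCyclic_of_comm hG A hAc
  have hCA := centralizer_eq_of_max_abelian_normal A hmax
  by_cases hAtop : A = ⊤
  · left
    subst hAtop
    exact isCyclic_of_surjective (Subgroup.topEquiv : (⊤ : Subgroup G) ≃* G)
      (Subgroup.topEquiv : (⊤ : Subgroup G) ≃* G).surjective
  by_cases hp2 : p = 2
  · right
    subst hp2
    exact ⟨rfl, h.two_main hG A hCA hAtop⟩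
  exfalso
  obtain ⟨y, hy⟩ : ∃ y : G, y ∉ A := by
    by_contra hall
    push Not at hall
    exact hAtop ((Subgroup.eq_top_iff' A).mpr hall)
  -- an element x ∉ A with x ^ p ∈ A
  have hex : ∃ j : ℕ, y ^ (p ^ j) ∈ A := by
    obtain ⟨j, hj⟩ := hG y
    exact ⟨j, by rw [hj]; exact A.one_mem⟩
  have hj0 : Nat.find hex ≠ 0 := by
    intro h0
    have h1 := Nat.find_spec hex
    rw [h0, pow_zero, pow_one] at h1
    exact hy h1
  obtain ⟨j, hj⟩ : ∃ j, Nat.find hex = j + 1 := ⟨Nat.find hex - 1, by omega⟩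
  set x := y ^ (p ^ j) with hx
  have hxA : x ∉ A := Nat.find_min hex (by omega : j < Nat.find hex)
  have hxp : x ^ p ∈ A := by
    have h1 := Nat.find_spec hex
    rw [hj, pow_succ, pow_mul] at h1
    exact h1
  have hAbot : A ≠ ⊥ := by
    intro h0
    apply hy
    rw [← hCA, Subgroup.mem_centralizer_iff]
    intro b hb
    rw [h0] at hb
    have : b = 1 := hb
    rw [this, one_mul, mul_one]
  have hAp : IsPGroup p A := hG.to_subgroup A
  obtain ⟨k, hk⟩ := IsPGroup.iff_card.mp hAp
  have hk0 : k ≠ 0 := by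
    intro h0
    rw [h0, pow_zero] at hk
    exact hAbot (Subgroup.card_eq_one.mp hk)
  obtain ⟨e, he⟩ := exists_prime_orderOf_dvd_card' (G := A) p (by rw [hk]; exact dvd_pow_self p hk0)
  set Z : Subgroup G := Subgroup.zpowers (e : G) with hZdef
  have hZ : Nat.card Z = p := by rw [Nat.card_zpowers, Subgroup.orderOf_coe, he]
  have hZA : Z ≤ A := (Subgroup.zpowers_le).mpr e.2
  have hZn : Z.Normal := by
    refine ⟨fun z hz g => ?_⟩
    apply h.pow_eq_one_mem Z hZ
    have h1 : z ^ p = 1 := by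
      have := pow_card_eq_one' (G := Z) (x := ⟨z, hz⟩)
      rw [hZ] at this
      exact congrArg Subtype.val this
    rw [conj_pow, h1, mul_one, mul_inv_cancel]
  have hZc : Z ≤ Subgroup.center G := le_center_of_normal_of_card_prime hG Z hZ
  exact h.odd_false hG hp2 A Z hZ hZA hZc x hxA hxp hCA

end

end Cfsg.Agent.Lib.Lead
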