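import Mathlib
import Cfsg.Agent.Lib.Lead.UniqueOrderP5

set_option autoImplicit false
open Pointwise

namespace Cfsg.Agent.Lib.Lead

section
variable {G : Type*} [Group G] [Finite G]

/-- In a Frobenius group the complement normalises a nontrivial abelian subgroup of the kernel. -/
theorem FrobData.exists_invariant_abelian {H K : Subgroup G} (h : FrobData H K) :
    ∃ W : Subgroup G, W ≠ ⊥ ∧ W ≤ K ∧ H ≤ Subgroup.normalizer (W : Set G) ∧ IsMulCommutative W := by
  classical
  obtain ⟨r, R, hr, hRp, hRne, hRK, hHR⟩ := h.exists_invariant_pgroup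
  have : Fact r.Prime := ⟨hr⟩
  set W : Subgroup G := R ⊓ Subgroup.centralizer (R : Set G) with hW
  have hWne : W ≠ ⊥ := by
    have hnt : Nontrivial R := by
      rw [← Subgroup.nontrivial_iff_ne_bot] at hRne
      exact hRne
    have hcen := hRp.center_nontrivial
    obtain ⟨z, hz⟩ := exists_ne (1 : Subgroup.center R)
    intro h0
    apply hz
    have hzW : ((z : R) : G) ∈ W := by
      refine Subgroup.mem_inf.mpr ⟨(z : R).2, ?_⟩
      rw [Subgroup.mem_centralizer_iff]
      intro y hy
      have h1 := Subgroup.mem_center_iff.mp z.2 ⟨y, hy⟩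
      exact congrArg Subtype.val h1
    rw [h0, Subgroup.mem_bot] at hzW
    exact Subtype.ext (Subtype.ext hzW)
  have hWK : W ≤ K := inf_le_left.trans hRK
  have hHW : H ≤ Subgroup.normalizer (W : Set G) := by
    intro x hx
    have h1 := hHR hx
    have h2 := normalizer_le_normalizer_centralizer R h1
    rw [Subgroup.mem_normalizer_iff] at h1 h2 ⊢
    intro w
    rw [hW, Subgroup.mem_inf, Subgroup.mem_inf, ← h1 w, ← h2 w]
  have hWcomm : IsMulCommutative W := by
    refine ⟨⟨fun a b => ?_⟩⟩
    apply Subtype.ext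
    have h1 := (Subgroup.mem_centralizer_iff.mp (Subgroup.mem_inf.mp a.2).2) b
      (Subgroup.mem_inf.mp b.2).1
    exact h1.symm
  exact ⟨W, hWne, hWK, hHW, hWcomm⟩

/-- abelian subgroups of a Frobenius complement are cyclic -/
theorem FrobData.isCyclic_of_comm {H K : Subgroup G} (h : FrobData H K) (B : Subgroup G)
    (hB : B ≤ H) (hc : IsMulCommutative B) : IsCyclic B := by
  obtain ⟨W, hWne, hWK, hHW, hWc⟩ := h.exists_invariant_abelian
  refine isCyclic_of_fpf_abelian B W hWne (hB.trans hHW) ?_ hc
  intro a ha ha1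
  rw [Subgroup.eq_bot_iff_forall]
  intro w hw
  obtain ⟨hw1, hw2⟩ := Subgroup.mem_inf.mp hw
  rw [mem_centralizer_singleton_iff] at hw2
  exact h.fpf (hB ha) ha1 (hWK hw1) hw2

/-- Sylow subgroups of a Frobenius complement have a unique subgroup of order `p` -/
theorem FrobData.uniqueOrderP_sylow {H K : Subgroup G} (h : FrobData H K) {p : ℕ}
    [hp : Fact p.Prime] (P : Sylow p H) : UniqueOrderP p P := by
  classical
  -- two elementwise commuting subgroups of order p coincide
  have key : ∀ H₁ H₂ : Subgroup P, Nat.card H₁ = p → Nat.card H₂ = p →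
      (∀ x ∈ H₁, ∀ y ∈ H₂, x * y = y * x) → H₁ ≤ H₂ := by
    intro H₁ H₂ h1 h2 hcomm
    have hc1 : ∀ x ∈ H₁, ∀ y ∈ H₁, x * y = y * x := by
      intro x hx y hy
      have : IsCyclic H₁ := isCyclic_of_prime_card h1
      have := (IsCyclic.commGroup (α := H₁)).mul_comm ⟨x, hx⟩ ⟨y, hy⟩
      exact congrArg Subtype.val this
    have hc2 : ∀ x ∈ H₂, ∀ y ∈ H₂, x * y = y * x := by
      intro x hx y hy
      have : IsCyclic H₂ := isCyclic_of_prime_card h2
      have := (IsCyclic.commGroup (α := H₂)).mul_comm ⟨x, hx⟩ ⟨y, hy⟩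
      exact congrArg Subtype.val this
    set B : Subgroup P := Subgroup.closure ((H₁ : Set P) ∪ (H₂ : Set P)) with hBdef
    have hBc : IsMulCommutative B := by
      apply Subgroup.isMulCommutative_closure
      rintro x (hx | hx) y (hy | hy)
      · exact hc1 x hx y hy
      · exact hcomm x hx y hy
      · exact (hcomm y hy x hx).symm
      · exact hc2 x hx y hy
    have hH₁B : H₁ ≤ B := fun x hx => Subgroup.subset_closure (Or.inl hx)
    have hH₂B : H₂ ≤ B := fun x hx => Subgroup.subset_closure (Or.inr hx)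
    let ι : P →* G := H.subtype.comp (P : Subgroup H).subtype
    have hι : Function.Injective ι := fun a b hab => Subtype.ext (Subtype.ext hab)
    have hB'H : B.map ι ≤ H := by
      rintro _ ⟨b, _, rfl⟩
      exact (b : H).2
    have hcyc' : IsCyclic (B.map ι) := h.isCyclic_of_comm (B.map ι) hB'H inferInstance
    have hcyc : IsCyclic B :=
      isCyclic_of_surjective (B.equivMapOfInjective ι hι).symm
        (B.equivMapOfInjective ι hι).symm.surjective
    intro x hx
    have h3 : (⟨x, hH₁B hx⟩ : B) ∈ H₂.subgroupOf B := by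
      rw [mem_iff_pow_card_of_isCyclic, card_subgroupOf_of_le hH₂B, h2]
      apply Subtype.ext
      have := pow_card_eq_one' (G := H₁) (x := ⟨x, hx⟩)
      rw [h1] at this
      have h4 : x ^ p = 1 := congrArg Subtype.val this
      simpa using h4
    exact Subgroup.mem_subgroupOf.mp h3
  intro H₁ H₂ h1 h2
  -- a central subgroup of order p
  have hPp : IsPGroup p P := P.2
  have hnt : Nontrivial P := by
    have : 1 < Nat.card P := by
      have := Subgroup.card_subgroup_dvd_card H₁
      rw [h1] at this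
      exact lt_of_lt_of_le hp.out.one_lt (Nat.le_of_dvd Nat.card_pos this)
    exact (Finite.one_lt_card_iff_nontrivial).mp this
  have hcen := hPp.center_nontrivial
  obtain ⟨k, hk⟩ := IsPGroup.iff_card.mp (hPp.to_subgroup (Subgroup.center P))
  have hk0 : k ≠ 0 := by
    intro h0
    rw [h0, pow_zero] at hk
    have := (Finite.one_lt_card_iff_nontrivial).mpr hcen
    omega
  obtain ⟨z, hz⟩ := exists_prime_orderOf_dvd_card' (G := Subgroup.center P) p
    (by rw [hk]; exact dvd_pow_self p hk0)
  set Zc : Subgroup P := Subgroup.zpowers (z : P) with hZc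
  have hZcard : Nat.card Zc = p := by rw [Nat.card_zpowers, Subgroup.orderOf_coe, hz]
  have hZcen : ∀ y ∈ Zc, ∀ x : P, x * y = y * x := by
    intro y hy x
    have h3 : Zc ≤ Subgroup.center P := (Subgroup.zpowers_le).mpr z.2
    exact Subgroup.mem_center_iff.mp (h3 hy) x
  have e1 : H₁ = Zc :=
    Subgroup.eq_of_le_of_card_ge (key H₁ Zc h1 hZcard (fun x _ y hy => hZcen y hy x))
      (by rw [h1, hZcard])
  have e2 : H₂ = Zc :=
    Subgroup.eq_of_le_of_card_ge (key H₂ Zc h2 hZcard (fun x _ y hy => hZcen y hy x))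
      (by rw [h2, hZcard])
  rw [e1, e2]

end

end Cfsg.Agent.Lib.Lead
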