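import Mathlib
import Cfsg.Agent.Lib.Lead.Zass2
import Cfsg.Agent.S0040

set_option autoImplicit false

/-! Zassenhaus groups with two-point stabilizer of odd order: general lemmas. -/

namespace Cfsg.Agent.Lib.Lead

namespace Zass

open MulAction
open scoped Pointwise

section frob'
variable {A X : Type*} [Group A] [Finite A] [MulAction A X]

/-- Frobenius' theorem for a group action, in the form needed for `S0040` -/
theorem frob_action' (x₀ : X) (h1 : stabilizer A x₀ ≠ ⊥) (h2 : stabilizer A x₀ ≠ ⊤)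
    (h3 : ∀ g : A, g • x₀ ≠ x₀ → ∀ h : A, h • x₀ = x₀ → h • (g • x₀) = g • x₀ → h = 1) :
    ∃ K : Subgroup A, K.Normal ∧ Subgroup.IsComplement' K (stabilizer A x₀) ∧ K ≠ ⊥ ∧
      ∀ h ∈ stabilizer A x₀, h ≠ 1 → K ⊓ Subgroup.centralizer {h} = ⊥ := by
  have hconj : ∀ (g x : A), x ∈ MulAut.conj g • stabilizer A x₀ ↔ x • (g • x₀) = g • x₀ := by
    intro g x
    rw [Subgroup.mem_pointwise_smul_iff_inv_smul_mem, mem_stabilizer_iff]
    have : (MulAut.conj g)⁻¹ • x = g⁻¹ * x * g := by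
      rw [MulAut.smul_def, MulAut.conj_inv_apply]
    rw [this, mul_smul, mul_smul, inv_smul_eq_iff]
  have hF : Cfsg.IsFrobeniusComplement (stabilizer A x₀) := by
    refine ⟨h1, h2, ?_⟩
    intro g hg
    rw [mem_stabilizer_iff] at hg
    rw [eq_bot_iff]
    intro x hx
    rw [Subgroup.mem_inf, hconj, mem_stabilizer_iff] at hx
    rw [Subgroup.mem_bot]
    exact h3 g hg x hx.1 hx.2
  obtain ⟨K, hKset, hKn, hKc⟩ := Cfsg.Agent.S0035.result (stabilizer A x₀) hF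
  have hKmem : ∀ k : A, k ∈ K ↔ k = 1 ∨ ∀ g : A, k ∉ MulAut.conj g • stabilizer A x₀ := by
    intro k
    have : k ∈ (K : Set A) ↔ k ∈ Cfsg.frobeniusKernel (stabilizer A x₀) := by rw [hKset]
    exact this
  refine ⟨K, hKn, hKc, ?_, ?_⟩
  · intro hK
    apply h2
    rw [hK] at hKc
    exact Subgroup.isComplement'_bot_left.mp hKc
  · intro h hh hh1
    rw [mem_stabilizer_iff] at hh
    rw [eq_bot_iff]
    intro k hk
    rw [Subgroup.mem_inf] at hk
    rw [Subgroup.mem_bot]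
    by_contra hk1
    have hkx : k • x₀ ≠ x₀ := by
      intro hfix
      rcases (hKmem k).mp hk.1 with h' | h'
      · exact hk1 h'
      · apply h' 1
        rw [hconj, one_smul]
        exact hfix
    apply hh1
    apply h3 k hkx h hh
    have hcomm : h * k = k * h := Subgroup.mem_centralizer_iff.mp hk.2 h (Set.mem_singleton h)
    rw [← mul_smul, hcomm, mul_smul, hh]

end frob'

section gen
variable {G : Type*} [Group G]

theorem eq_top_of_index [Finite G] (L : Subgroup G)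
    (h : ∀ q : ℕ, q.Prime → q ∣ L.index → ∃ P : Sylow q G, (P : Subgroup G) ≤ L) : L = ⊤ := by
  rw [← Subgroup.index_eq_one]
  by_contra hne
  obtain ⟨q, hq, hqd⟩ := Nat.exists_prime_and_dvd hne
  obtain ⟨P, hP⟩ := h q hq hqd
  haveI : Fact q.Prime := ⟨hq⟩
  exact P.not_dvd_index (hqd.trans (Subgroup.index_dvd_of_le hP))

theorem inv_or_comm {q k : ℕ} (hq : q.Prime) (hq2 : q ≠ 2) (x y : G) (hx : orderOf x = q ^ k)
    (t : ℤ) (h1 : y * x * y⁻¹ = x ^ t) (h2 : (y * y) * x * (y * y)⁻¹ = x) :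
    y * x * y⁻¹ = x ∨ y * x * y⁻¹ = x⁻¹ := by
  have h3 : x ^ (t * t) = x := by
    have : (y * y) * x * (y * y)⁻¹ = y * (y * x * y⁻¹) * y⁻¹ := by group
    rw [this, h1, ← conj_zpow, h1, ← zpow_mul] at h2
    exact h2
  have h4 : ((q ^ k : ℕ) : ℤ) ∣ t * t - 1 := by
    rw [← hx, orderOf_dvd_iff_zpow_eq_one, zpow_sub, h3, zpow_one, mul_inv_cancel]
  have h5 : t * t - 1 = (t - 1) * (t + 1) := by ring
  rw [h5] at h4
  have hqZ : Prime (q : ℤ) := Nat.prime_iff_prime_int.mp hq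
  by_cases hd : (q : ℤ) ∣ t + 1
  · right
    have hnd : ¬ (q : ℤ) ∣ t - 1 := by
      intro hd'
      have h6 : (q : ℤ) ∣ (t + 1) - (t - 1) := dvd_sub hd hd'
      have h2' : (q : ℤ) ∣ 2 := by
        have e : (t + 1) - (t - 1) = 2 := by ring
        rwa [e] at h6
      have h7 : q ∣ 2 := by exact_mod_cast h2'
      exact hq2 ((Nat.prime_dvd_prime_iff_eq hq Nat.prime_two).mp h7)
    have hcop : IsCoprime ((q ^ k : ℕ) : ℤ) (t - 1) := by
      rw [Nat.cast_pow]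
      exact (hqZ.irreducible.coprime_iff_not_dvd.mpr hnd).pow_left
    have h6 : ((q ^ k : ℕ) : ℤ) ∣ t + 1 := hcop.dvd_of_dvd_mul_left h4
    rw [← hx, orderOf_dvd_iff_zpow_eq_one, zpow_add, zpow_one] at h6
    rw [h1]
    exact eq_inv_of_mul_eq_one_left h6
  · left
    have hcop : IsCoprime ((q ^ k : ℕ) : ℤ) (t + 1) := by
      rw [Nat.cast_pow]
      exact (hqZ.irreducible.coprime_iff_not_dvd.mpr hd).pow_left
    have h6 : ((q ^ k : ℕ) : ℤ) ∣ t - 1 := hcop.dvd_of_dvd_mul_right h4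
    rw [← hx, orderOf_dvd_iff_zpow_eq_one, zpow_sub, zpow_one] at h6
    rw [h1]
    exact mul_inv_eq_one.mp h6

theorem cyc_sq_comm (C : Subgroup G) (c : G) (hC : ∀ z ∈ C, z ∈ Subgroup.zpowers c) (hc : c ∈ C)
    (y u : G) (hy : ∀ z ∈ C, y * z * y⁻¹ ∈ C) (hy' : ∀ z ∈ C, y⁻¹ * z * y ∈ C)
    (hu : ∀ z ∈ C, u * z * u⁻¹ ∈ C) (hinv : y * u * y⁻¹ = u⁻¹) :
    ∀ z ∈ C, (u * u) * z = z * (u * u) := by
  obtain ⟨i, hi⟩ := Subgroup.mem_zpowers_iff.mp (hC _ (hy c hc))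
  obtain ⟨j, hj⟩ := Subgroup.mem_zpowers_iff.mp (hC _ (hu c hc))
  intro z hz
  obtain ⟨m, hm⟩ := Subgroup.mem_zpowers_iff.mp (hC _ (hy' z hz))
  have hz' : z = c ^ (i * m) := by
    have : z = y * (y⁻¹ * z * y) * y⁻¹ := by group
    rw [this, ← hm, ← conj_zpow, ← hi, ← zpow_mul]
  have h1 : u * z * u⁻¹ = c ^ (j * (i * m)) := by
    rw [hz', ← conj_zpow, ← hj, ← zpow_mul]
  have h2 : u⁻¹ * z * u = c ^ (i * (j * m)) := by
    have e : u⁻¹ * z * u = y * (u * (y⁻¹ * z * y) * u⁻¹) * y⁻¹ := by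
      have : u⁻¹ * z * u = (y * u * y⁻¹) * z * (y * u * y⁻¹)⁻¹ := by rw [hinv, inv_inv]
      rw [this]; group
    rw [e, ← hm, ← conj_zpow, ← hj, ← zpow_mul, ← conj_zpow, ← hi, ← zpow_mul]
  have h3 : u * z * u⁻¹ = u⁻¹ * z * u := by
    rw [h1, h2]; congr 1; ring
  calc (u * u) * z = u * (u * z * u⁻¹) * u := by group
    _ = u * (u⁻¹ * z * u) * u := by rw [h3]
    _ = z * (u * u) := by group

theorem eq_sq_pow_of_odd (u : G) (hodd : Odd (orderOf u)) : ∃ n : ℕ, u = (u * u) ^ n := by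
  obtain ⟨m, hm⟩ := hodd
  refine ⟨m + 1, ?_⟩
  rw [← pow_two, ← pow_mul]
  have : 2 * (m + 1) = orderOf u + 1 := by omega
  rw [this, pow_succ, pow_orderOf_eq_one, one_mul]

theorem conj_mem_commutator (H : Subgroup G) (g : G) (hg : ∀ h ∈ H, g * h * g⁻¹ ∈ H) :
    ∀ z ∈ (commutator ↥H).map H.subtype, g * z * g⁻¹ ∈ (commutator ↥H).map H.subtype := by
  rw [Subgroup.map_subtype_commutator]
  intro z hz
  have h1 : (MulAut.conj g).toMonoidHom z ∈ (⁅H, H⁆).map (MulAut.conj g).toMonoidHom :=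
    Subgroup.mem_map_of_mem _ hz
  rw [Subgroup.map_commutator] at h1
  have h2 : H.map (MulAut.conj g).toMonoidHom ≤ H := by
    rintro _ ⟨h, hh, rfl⟩
    exact hg h hh
  exact Subgroup.commutator_mono h2 h2 h1

theorem exists_not_centralizing [Finite G] {q : ℕ} [Fact q.Prime] (Q : Sylow q G)
    (hnil : ¬ ∃ N : Subgroup G, N.Normal ∧ N.index = q ^ (Nat.card G).factorization q) :
    ∃ y ∈ Subgroup.normalizer (Q : Set G), y ∉ Subgroup.centralizer (Q : Set G) := by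
  by_contra hcon
  push Not at hcon
  have hP : Subgroup.normalizer (Q : Set G) ≤ Subgroup.centralizer (Q : Set G) := hcon
  apply hnil
  have hc := MonoidHom.ker_transferSylow_isComplement' Q hP
  refine ⟨(MonoidHom.transferSylow Q hP).ker, inferInstance, ?_⟩
  rw [← Q.card_eq_multiplicity]
  exact hc.symm.index_eq_card

theorem inverts_of_sq [Finite G] {q : ℕ} [Fact q.Prime] (hq2 : q ≠ 2) (Q : Sylow q G)
    [IsCyclic ↥(Q : Subgroup G)]
    (y : G) (hyn : ∀ u ∈ Q, y * u * y⁻¹ ∈ Q) (hyc : ¬ ∀ u ∈ Q, y * u * y⁻¹ = u)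
    (hyy : ∀ u ∈ Q, (y * y) * u * (y * y)⁻¹ = u) : ∀ u ∈ Q, y * u * y⁻¹ = u⁻¹ := by
  obtain ⟨⟨x, hxQ⟩, hx⟩ := IsCyclic.exists_generator (α := ↥(Q : Subgroup G))
  have hgen : ∀ u ∈ Q, ∃ m : ℤ, x ^ m = u := by
    intro u hu
    obtain ⟨m, hm⟩ := Subgroup.mem_zpowers_iff.mp (hx ⟨u, hu⟩)
    refine ⟨m, ?_⟩
    have := congrArg Subtype.val hm
    rw [Subgroup.coe_zpow] at this
    exact this
  obtain ⟨k, hk⟩ : ∃ k, orderOf x = q ^ k := by
    obtain ⟨k, hk⟩ := (IsPGroup.iff_orderOf.mp Q.2) ⟨x, hxQ⟩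
    exact ⟨k, by rw [← hk, Subgroup.orderOf_mk]⟩
  obtain ⟨t, ht⟩ := hgen _ (hyn x hxQ)
  rcases inv_or_comm Fact.out hq2 x y hk t ht.symm (hyy x hxQ) with h | h
  · exfalso
    apply hyc
    intro u hu
    obtain ⟨m, rfl⟩ := hgen u hu
    rw [← conj_zpow, h]
  · intro u hu
    obtain ⟨m, rfl⟩ := hgen u hu
    rw [← conj_zpow, h, inv_zpow]

end gen

end Zass

end Cfsg.Agent.Lib.Lead
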