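import Mathlib
import Cfsg.Agent.Lib.Lead.Zass6

set_option autoImplicit false

/-! Zassenhaus groups with two-point stabilizer of odd order. -/

namespace Cfsg.Agent.Lib.Lead

namespace Zass

open MulAction
open scoped Pointwise

section odd
variable {G Ω : Type*} [Group G] [MulAction G Ω]

theorem mem_H_iff (a b : Ω) (g : G) :
    g ∈ stabilizer G a ⊓ stabilizer G b ↔ g • a = a ∧ g • b = b := by
  rw [Subgroup.mem_inf, mem_stabilizer_iff, mem_stabilizer_iff]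

/-- an element conjugating a nonidentity element of `H` into `H` permutes `{a, b}` -/
theorem perm_of_conj (Z : ZData G Ω) {a b : Ω} (hab : a ≠ b) {x y : G} (hx1 : x ≠ 1)
    (hxa : x • a = a) (hxb : x • b = b) (hya : (y * x * y⁻¹) • a = a)
    (hyb : (y * x * y⁻¹) • b = b) :
    (y • a = a ∧ y • b = b) ∨ (y • a = b ∧ y • b = a) := by
  have h1 : x • (y⁻¹ • a) = y⁻¹ • a := by
    rw [mul_smul, mul_smul, smul_eq_iff_eq_inv_smul] at hya; exact hya
  have h2 : x • (y⁻¹ • b) = y⁻¹ • b := by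
    rw [mul_smul, mul_smul, smul_eq_iff_eq_inv_smul] at hyb; exact hyb
  have hfix : ∀ c : Ω, x • c = c → c = a ∨ c = b := by
    intro c hc
    by_contra hcon
    push Not at hcon
    exact hx1 (Z.three x a b c hab (Ne.symm hcon.2) (Ne.symm hcon.1) hxa hxb hc)
  have hne : y⁻¹ • a ≠ y⁻¹ • b := fun h => hab (smul_left_cancel _ h)
  rcases hfix _ h1 with ha | ha <;> rcases hfix _ h2 with hb | hb
  · exact absurd (ha.trans hb.symm) hne
  · left
    exact ⟨(inv_smul_eq_iff.mp ha).symm, (inv_smul_eq_iff.mp hb).symm⟩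
  · right
    exact ⟨(inv_smul_eq_iff.mp hb).symm, (inv_smul_eq_iff.mp ha).symm⟩
  · exact absurd (ha.trans hb.symm) hne

theorem fix_of_odd {a b : Ω} (hab : a ≠ b) (g : G) (hodd : Odd (orderOf g))
    (h : (g • a = a ∧ g • b = b) ∨ (g • a = b ∧ g • b = a)) : g • a = a ∧ g • b = b := by
  rcases h with h | h
  · exact h
  · exfalso
    obtain ⟨m, hm⟩ := hodd
    have h2 : (g * g) • a = a := by rw [mul_smul, h.1, h.2]
    have h3 : ∀ n : ℕ, ((g * g) ^ n) • a = a := by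
      intro n
      induction n with
      | zero => rw [pow_zero, one_smul]
      | succ n ih => rw [pow_succ, mul_smul, h2, ih]
    have h4 : g ^ (orderOf g) = g * (g * g) ^ m := by
      rw [hm, pow_succ', pow_mul, pow_two]
    have h5 : (g ^ orderOf g) • a = b := by
      rw [h4, mul_smul, h3, h.1]
    rw [pow_orderOf_eq_one, one_smul] at h5
    exact hab h5

/-- a nonidentity element of `H` and a third point -/
theorem exists_ne_one_H (hZ : Cfsg.IsZassenhausGroup G Ω) {a b : Ω} (hab : a ≠ b) :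
    ∃ h₀ : G, h₀ ≠ 1 ∧ h₀ • a = a ∧ h₀ • b = b ∧ ∃ c : Ω, c ≠ a ∧ c ≠ b := by
  have Z := zdata_of hZ
  obtain ⟨-, -, -, h4, -⟩ := hZ
  obtain ⟨g₀, hg₀1, a', b', ha'b', hg₀a', hg₀b'⟩ := h4
  obtain ⟨x₀, hx₀a, hx₀b⟩ := Z.two ha'b' hab
  obtain ⟨h₀, hh₀⟩ : ∃ h₀ : G, h₀ = x₀ * g₀ * x₀⁻¹ := ⟨_, rfl⟩
  have hh₀1 : h₀ ≠ 1 := by
    intro h
    apply hg₀1
    have : g₀ = x₀⁻¹ * (x₀ * g₀ * x₀⁻¹) * x₀ := by group
    rw [this, ← hh₀, h]; group
  have hh₀a : h₀ • a = a := by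
    rw [hh₀, mul_smul, mul_smul, inv_smul_eq_iff.mpr hx₀a.symm, hg₀a', hx₀a]
  have hh₀b : h₀ • b = b := by
    rw [hh₀, mul_smul, mul_smul, inv_smul_eq_iff.mpr hx₀b.symm, hg₀b', hx₀b]
  obtain ⟨c, hc⟩ : ∃ c : Ω, h₀ • c ≠ c := by
    by_contra hcon
    push Not at hcon
    exact hh₀1 (Z.faith h₀ hcon)
  have hca : c ≠ a := by
    intro h; apply hc; rw [h]; exact hh₀a
  have hcb : c ≠ b := by
    intro h; apply hc; rw [h]; exact hh₀b
  exact ⟨h₀, hh₀1, hh₀a, hh₀b, c, hca, hcb⟩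

theorem zgroup_H [Finite G] (hZ : Cfsg.IsZassenhausGroup G Ω) {a b : Ω} (hab : a ≠ b)
    (hodd : Odd (Nat.card ↥(stabilizer G a ⊓ stabilizer G b))) :
    IsZGroup ↥(stabilizer G a ⊓ stabilizer G b) := by
  have Z := zdata_of hZ
  obtain ⟨h₀, hh₀1, hh₀a, hh₀b, c, hca, hcb⟩ := exists_ne_one_H hZ hab
  have h1 : stabilizer ↥(stabilizer G a) b ≠ ⊥ := by
    rw [Subgroup.ne_bot_iff_exists_ne_one]
    refine ⟨⟨⟨h₀, hh₀a⟩, hh₀b⟩, ?_⟩
    intro h
    apply hh₀1
    exact congrArg (fun z : stabilizer ↥(stabilizer G a) b => ((z : stabilizer G a) : G)) h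
  have h2 : stabilizer ↥(stabilizer G a) b ≠ ⊤ := by
    intro h
    obtain ⟨g, hga, hgb⟩ := Z.two hab (Ne.symm hca)
    have h' : (⟨g, hga⟩ : stabilizer G a) ∈ stabilizer ↥(stabilizer G a) b := by
      rw [h]; exact Subgroup.mem_top _
    rw [mem_stabilizer_iff] at h'
    have h'' : g • b = b := h'
    exact hcb (hgb.symm.trans h'')
  have h3 : ∀ g : stabilizer G a, g • b ≠ b → ∀ h : stabilizer G a, h • b = b →
      h • (g • b) = g • b → h = 1 := by
    intro g hg h hhb hhg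
    apply Subtype.ext
    have hga : (g : G) • a = a := g.2
    have hne : a ≠ (g : G) • b := by
      intro h'
      apply hab
      have : (g : G) • a = (g : G) • b := by rw [hga]; exact h'
      exact smul_left_cancel _ this
    exact Z.three (h : G) a b ((g : G) • b) hab (Ne.symm hg) hne h.2 hhb hhg
  obtain ⟨K, hKn, hKc, hK, hfpf⟩ := frob_action' (A := ↥(stabilizer G a)) b h1 h2 h3
  haveI := hKn
  let f : ↥(stabilizer G a ⊓ stabilizer G b) →* ↥(stabilizer ↥(stabilizer G a) b) :=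
    { toFun := fun h => ⟨⟨(h : G), h.2.1⟩, h.2.2⟩
      map_one' := rfl
      map_mul' := fun _ _ => rfl }
  have hfinj : Function.Injective f := by
    intro u v huv
    apply Subtype.ext
    exact congrArg (fun z : stabilizer ↥(stabilizer G a) b => ((z : stabilizer G a) : G)) huv
  have hfsurj : Function.Surjective f := by
    intro z
    exact ⟨⟨((z : stabilizer G a) : G), ⟨(z : stabilizer G a).2, z.2⟩⟩, rfl⟩
  have hcard : Nat.card ↥(stabilizer ↥(stabilizer G a) b) =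
      Nat.card ↥(stabilizer G a ⊓ stabilizer G b) :=
    (Nat.card_eq_of_bijective f ⟨hfinj, hfsurj⟩).symm
  haveI : IsZGroup ↥(stabilizer ↥(stabilizer G a) b) := by
    constructor
    intro q hq P
    haveI : Fact q.Prime := ⟨hq⟩
    rcases Cfsg.Agent.S0040.result K _ hKc hK hfpf q P with h | ⟨n, ⟨e⟩⟩
    · exact h
    · exfalso
      have hc1 : Nat.card P = Nat.card (QuaternionGroup (2 ^ n)) := Nat.card_congr e.toEquiv
      rw [Nat.card_eq_fintype_card (α := QuaternionGroup (2 ^ n)), QuaternionGroup.card] at hc1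
      have hdvd : Nat.card P ∣ Nat.card ↥(stabilizer ↥(stabilizer G a) b) :=
        Subgroup.card_subgroup_dvd_card _
      rw [hcard, hc1] at hdvd
      have h2d : 2 ∣ Nat.card ↥(stabilizer G a ⊓ stabilizer G b) :=
        Dvd.dvd.trans ⟨2 * 2 ^ n, by ring⟩ hdvd
      exact (Nat.not_even_iff_odd.mpr hodd) (even_iff_two_dvd.mpr h2d)
  exact IsZGroup.of_injective hfinj

theorem sylow_le_H [Finite G] (Z : ZData G Ω) {a b : Ω} (hab : a ≠ b) {q : ℕ} [Fact q.Prime]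
    (hq2 : q ≠ 2) (Q : Sylow q G) {x : G} (hxQ : x ∈ Q) (hx1 : x ≠ 1) (hxa : x • a = a)
    (hxb : x • b = b) : (Q : Subgroup G) ≤ stabilizer G a ⊓ stabilizer G b := by
  have hq := (Fact.out : q.Prime)
  have hoddQ : ∀ w ∈ Q, Odd (orderOf w) := by
    intro w hw
    obtain ⟨k, hk⟩ := (IsPGroup.iff_orderOf.mp Q.2) ⟨w, hw⟩
    rw [Subgroup.orderOf_mk] at hk
    rw [hk]
    exact (hq.odd_of_ne_two hq2).pow
  haveI : Nontrivial ↥(Q : Subgroup G) :=
    ⟨⟨⟨x, hxQ⟩, 1, fun h => hx1 (congrArg Subtype.val h)⟩⟩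
  haveI := Q.2.center_nontrivial
  obtain ⟨⟨z, hz⟩, hz1⟩ := exists_ne (1 : Subgroup.center ↥(Q : Subgroup G))
  obtain ⟨z₀, hz₀⟩ : ∃ z₀ : G, z₀ = (z : G) := ⟨_, rfl⟩
  have hz₀Q : z₀ ∈ Q := by rw [hz₀]; exact z.2
  have hz₀1 : z₀ ≠ 1 := by
    intro h
    apply hz1
    apply Subtype.ext
    apply Subtype.ext
    rw [← hz₀]; exact h
  have hz₀c : ∀ w ∈ Q, w * z₀ = z₀ * w := by
    intro w hw
    have h1 := Subgroup.mem_center_iff.mp hz ⟨w, hw⟩
    rw [hz₀]
    exact congrArg Subtype.val h1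
  -- `z₀` lies in `H`
  have hz₀ab : z₀ • a = a ∧ z₀ • b = b := by
    apply fix_of_odd hab z₀ (hoddQ z₀ hz₀Q)
    have e : z₀ * x * z₀⁻¹ = x := by
      rw [← hz₀c x hxQ]; group
    apply perm_of_conj Z hab hx1 hxa hxb
    · rw [e]; exact hxa
    · rw [e]; exact hxb
  intro w hw
  rw [mem_H_iff]
  apply fix_of_odd hab w (hoddQ w hw)
  have e : w * z₀ * w⁻¹ = z₀ := by
    rw [hz₀c w hw]; group
  apply perm_of_conj Z hab hz₀1 hz₀ab.1 hz₀ab.2
  · rw [e]; exact hz₀ab.1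
  · rw [e]; exact hz₀ab.2

end odd

end Zass

end Cfsg.Agent.Lib.Lead
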