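import Mathlib
import Cfsg.Agent.Lib.Lead.Zass7

set_option autoImplicit false

/-! Zassenhaus groups with two-point stabilizer of odd order: main theorem. -/

namespace Cfsg.Agent.Lib.Lead

namespace Zass

open MulAction
open scoped Pointwise

section odd
variable {G Ω : Type*} [Group G] [MulAction G Ω]

theorem swap_inverts [Finite G] (Z : ZData G Ω) {a b : Ω} (hab : a ≠ b) {q : ℕ} [Fact q.Prime]
    (hq2 : q ≠ 2) (Q : Sylow q G) [IsCyclic ↥(Q : Subgroup G)]
    (hle : (Q : Subgroup G) ≤ stabilizer G a ⊓ stabilizer G b) {x₁ : G} (hx₁Q : x₁ ∈ Q)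
    (hx₁1 : x₁ ≠ 1)
    (hHNC : ∀ g : G, g • a = a → g • b = b → g ∈ Subgroup.normalizer (Q : Set G) →
      ∀ u ∈ Q, g * u * g⁻¹ = u)
    (y : G) (hyN : y ∈ Subgroup.normalizer (Q : Set G)) (hyc : ¬ ∀ u ∈ Q, y * u * y⁻¹ = u) :
    (y • a = b ∧ y • b = a) ∧ ∀ u ∈ Q, y * u * y⁻¹ = u⁻¹ := by
  have hyn : ∀ u ∈ Q, y * u * y⁻¹ ∈ Q := fun u hu =>
    (Subgroup.mem_set_normalizer_iff.mp hyN u).mp hu
  have hx₁ab := (mem_H_iff a b _).mp (hle hx₁Q)
  have hyx := (mem_H_iff a b _).mp (hle (hyn x₁ hx₁Q))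
  have hperm := perm_of_conj Z hab hx₁1 hx₁ab.1 hx₁ab.2 hyx.1 hyx.2
  have hyH : ¬ (y • a = a ∧ y • b = b) := by
    intro hy
    exact hyc (hHNC y hy.1 hy.2 hyN)
  have hswap : y • a = b ∧ y • b = a := hperm.resolve_left hyH
  refine ⟨hswap, ?_⟩
  have hyy : ∀ u ∈ Q, (y * y) * u * (y * y)⁻¹ = u := by
    apply hHNC
    · rw [mul_smul, hswap.1, hswap.2]
    · rw [mul_smul, hswap.2, hswap.1]
    · exact Subgroup.mul_mem _ hyN hyN
  exact inverts_of_sq hq2 Q y hyn hyc hyy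

theorem odd_main [Finite G] (hZ : Cfsg.IsZassenhausGroup G Ω) {a b : Ω} (hab : a ≠ b)
    (hodd : Odd (Nat.card ↥(stabilizer G a ⊓ stabilizer G b)))
    (hnil : ∀ q : ℕ, q.Prime → q ∣ Nat.card ↥(stabilizer G a ⊓ stabilizer G b) →
      ¬ ∃ N : Subgroup G, N.Normal ∧ N.index = q ^ (Nat.card G).factorization q) :
    IsCyclic ↥(stabilizer G a ⊓ stabilizer G b) ∧
    Subgroup.centralizer ((stabilizer G a ⊓ stabilizer G b : Subgroup G) : Set G) =
      stabilizer G a ⊓ stabilizer G b ∧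
    ∀ s : G, s • a = b → s • b = a → ∀ h ∈ stabilizer G a ⊓ stabilizer G b,
      s * h * s⁻¹ = h⁻¹ := by
  have Z := zdata_of hZ
  haveI hZG := zgroup_H hZ hab hodd
  obtain ⟨h₀, hh₀1, hh₀a, hh₀b, -⟩ := exists_ne_one_H hZ hab
  have hmem : ∀ g : G, g ∈ stabilizer G a ⊓ stabilizer G b ↔ g • a = a ∧ g • b = b :=
    mem_H_iff a b
  have hoddH : ∀ h ∈ stabilizer G a ⊓ stabilizer G b, Odd (orderOf h) := by
    intro h hh
    have h1 : orderOf (⟨h, hh⟩ : ↥(stabilizer G a ⊓ stabilizer G b)) ∣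
        Nat.card ↥(stabilizer G a ⊓ stabilizer G b) := orderOf_dvd_natCard _
    rw [Subgroup.orderOf_mk] at h1
    exact hodd.of_dvd_nat h1
  -- Sylow data
  have hsyl : ∀ q : ℕ, q.Prime → q ∣ Nat.card ↥(stabilizer G a ⊓ stabilizer G b) →
      ∃ Q : Sylow q G, ∃ hle : (Q : Subgroup G) ≤ stabilizer G a ⊓ stabilizer G b,
        (∃ x ∈ Q, x ≠ 1) ∧ IsCyclic ↥(Q : Subgroup G) ∧ q ≠ 2 ∧
        ∃ y : G, y ∈ Subgroup.normalizer (Q : Set G) ∧ ¬ ∀ u ∈ Q, y * u * y⁻¹ = u := by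
    intro q hq hqd
    haveI : Fact q.Prime := ⟨hq⟩
    have hq2 : q ≠ 2 := by
      rintro rfl
      exact (Nat.not_even_iff_odd.mpr hodd) (even_iff_two_dvd.mpr hqd)
    obtain ⟨x, hxo⟩ := exists_prime_orderOf_dvd_card' q hqd
    have hxG : orderOf (x : G) = q := by rw [Subgroup.orderOf_coe]; exact hxo
    have hx1 : (x : G) ≠ 1 := by
      intro h
      rw [h, orderOf_one] at hxG
      exact hq.one_lt.ne hxG
    have hpg : IsPGroup q ↥(Subgroup.zpowers (x : G)) := by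
      apply IsPGroup.of_card (n := 1)
      rw [Nat.card_zpowers, hxG, pow_one]
    obtain ⟨Q, hQ⟩ := hpg.exists_le_sylow
    have hxQ : (x : G) ∈ Q := hQ (Subgroup.mem_zpowers _)
    have hxab := (hmem _).mp x.2
    have hle := sylow_le_H Z hab hq2 Q hxQ hx1 hxab.1 hxab.2
    have hcyc : IsCyclic ↥(Q : Subgroup G) := by
      haveI h1 : IsCyclic ↥((Q : Subgroup G).subgroupOf (stabilizer G a ⊓ stabilizer G b)) :=
        hZG.isZGroup q hq (Q.subtype hle)
      exact isCyclic_of_surjective _ (Subgroup.subgroupOfEquivOfLe hle).surjective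
    obtain ⟨y, hyN, hyC⟩ := exists_not_centralizing Q (hnil q hq hqd)
    refine ⟨Q, hle, ⟨x, hxQ, hx1⟩, hcyc, hq2, y, hyN, ?_⟩
    · intro h
      apply hyC
      rw [Subgroup.mem_centralizer_iff]
      intro u hu
      calc u * y = (y * u * y⁻¹) * y := by rw [h u hu]
        _ = y * u := by group
  have hnormH : ∀ g : G, ((g • a = a ∧ g • b = b) ∨ (g • a = b ∧ g • b = a)) →
      ∀ h ∈ (stabilizer G a ⊓ stabilizer G b), g * h * g⁻¹ ∈ (stabilizer G a ⊓ stabilizer G b) := by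
    intro g hg h hh
    have hh' := (hmem h).mp hh
    rw [hmem, mul_smul, mul_smul, mul_smul, mul_smul]
    rcases hg with hg | hg
    · have e1 : g⁻¹ • a = a := inv_smul_eq_iff.mpr hg.1.symm
      have e2 : g⁻¹ • b = b := inv_smul_eq_iff.mpr hg.2.symm
      rw [e1, e2, hh'.1, hh'.2]
      exact hg
    · have e1 : g⁻¹ • a = b := inv_smul_eq_iff.mpr hg.2.symm
      have e2 : g⁻¹ • b = a := inv_smul_eq_iff.mpr hg.1.symm
      rw [e1, e2, hh'.1, hh'.2]
      exact ⟨hg.2, hg.1⟩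
  -- Step I
  have hcyc' : IsCyclic ↥(commutator ↥(stabilizer G a ⊓ stabilizer G b)) :=
    IsZGroup.isCyclic_commutator _
  have hstep1 : Subgroup.centralizer
      ((commutator ↥(stabilizer G a ⊓ stabilizer G b) :
        Subgroup ↥(stabilizer G a ⊓ stabilizer G b)) :
        Set ↥(stabilizer G a ⊓ stabilizer G b)) = ⊤ := by
    apply eq_top_of_index
    intro q hq hqi
    haveI : Fact q.Prime := ⟨hq⟩
    have hC'le : commutator ↥(stabilizer G a ⊓ stabilizer G b) ≤ Subgroup.centralizer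
        ((commutator ↥(stabilizer G a ⊓ stabilizer G b) :
          Subgroup ↥(stabilizer G a ⊓ stabilizer G b)) :
          Set ↥(stabilizer G a ⊓ stabilizer G b)) := by
      intro c hc
      rw [Subgroup.mem_centralizer_iff]
      intro c' hc'
      have h1 := (IsCyclic.isMulCommutative
        (α := ↥(commutator ↥(stabilizer G a ⊓ stabilizer G b)))).is_comm.comm ⟨c', hc'⟩ ⟨c, hc⟩
      exact congrArg Subtype.val h1
    have hqi' : q ∣ (commutator ↥(stabilizer G a ⊓ stabilizer G b)).index :=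
      hqi.trans (Subgroup.index_dvd_of_le hC'le)
    have hqd : q ∣ Nat.card ↥(stabilizer G a ⊓ stabilizer G b) :=
      hqi'.trans (Subgroup.index_dvd_card _)
    have hqn : ¬ q ∣ Nat.card ↥(commutator ↥(stabilizer G a ⊓ stabilizer G b)) := by
      intro h
      have hcop := IsZGroup.coprime_commutator_index ↥(stabilizer G a ⊓ stabilizer G b)
      exact Nat.Prime.not_coprime_iff_dvd.mpr ⟨q, hq, h, hqi'⟩ hcop
    obtain ⟨Q, hle, ⟨x₁, hx₁Q, hx₁1⟩, hcyc, hq2, y, hyN, hyc⟩ := hsyl q hq hqd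
    haveI := hcyc
    refine ⟨Q.subtype hle, ?_⟩
    have hNC : Subgroup.normalizer ((Q.subtype hle : Sylow q ↥(stabilizer G a ⊓ stabilizer G b)) :
        Set ↥(stabilizer G a ⊓ stabilizer G b)) ≤
        Subgroup.centralizer ((Q.subtype hle : Sylow q ↥(stabilizer G a ⊓ stabilizer G b)) :
          Set ↥(stabilizer G a ⊓ stabilizer G b)) := by
      haveI : IsCyclic ↥(Q.subtype hle) := hZG.isZGroup q hq (Q.subtype hle)
      rcases Sylow.normalizer_le_centralizer_or_le_commutator (Q.subtype hle) with h | h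
      · exact h
      · exfalso
        apply hqn
        have h1 : Nat.card ↥(Q.subtype hle) ∣
            Nat.card ↥(commutator ↥(stabilizer G a ⊓ stabilizer G b)) :=
          Subgroup.card_dvd_of_le h
        exact ((Q.subtype hle).dvd_card_of_dvd_card hqd).trans h1
    have hHNC : ∀ g : G, g • a = a → g • b = b → g ∈ Subgroup.normalizer (Q : Set G) →
        ∀ u ∈ Q, g * u * g⁻¹ = u := by
      intro g hga hgb hgN u hu
      have hgH : g ∈ stabilizer G a ⊓ stabilizer G b := (hmem g).mpr ⟨hga, hgb⟩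
      have h1 : (⟨g, hgH⟩ : ↥(stabilizer G a ⊓ stabilizer G b)) ∈
          Subgroup.normalizer ((Q.subtype hle : Sylow q ↥(stabilizer G a ⊓ stabilizer G b)) :
            Set ↥(stabilizer G a ⊓ stabilizer G b)) := by
        rw [Subgroup.mem_set_normalizer_iff]
        intro h
        exact Subgroup.mem_set_normalizer_iff.mp hgN (h : G)
      have h2 := hNC h1
      have h3 := (Subgroup.mem_centralizer_iff.mp h2) ⟨u, hle hu⟩ hu
      have h4 : u * g = g * u := congrArg Subtype.val h3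
      calc g * u * g⁻¹ = (u * g) * g⁻¹ := by rw [h4]
        _ = u := by group
    obtain ⟨hswap, hinv⟩ := swap_inverts Z hab hq2 Q hle hx₁Q hx₁1 hHNC y hyN hyc
    obtain ⟨⟨c₀, hc₀⟩, hgen⟩ := hcyc'.exists_generator
    have hC : ∀ z ∈ (commutator ↥(stabilizer G a ⊓ stabilizer G b)).map (stabilizer G a ⊓ stabilizer G b).subtype, z ∈ Subgroup.zpowers (c₀ : G) := by
      rintro _ ⟨z', hz', rfl⟩
      obtain ⟨m, hm⟩ := Subgroup.mem_zpowers_iff.mp (hgen ⟨z', hz'⟩)
      rw [Subgroup.mem_zpowers_iff]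
      refine ⟨m, ?_⟩
      have h1 := congrArg (fun w : ↥(commutator ↥(stabilizer G a ⊓ stabilizer G b)) => ((w : ↥(stabilizer G a ⊓ stabilizer G b)) : G)) hm
      simp only [Subgroup.coe_zpow] at h1
      exact h1
    have hcC : (c₀ : G) ∈ (commutator ↥(stabilizer G a ⊓ stabilizer G b)).map (stabilizer G a ⊓ stabilizer G b).subtype := ⟨c₀, hc₀, rfl⟩
    have hyC := conj_mem_commutator (stabilizer G a ⊓ stabilizer G b) y (hnormH y (Or.inr hswap))
    have hy'C : ∀ z ∈ (commutator ↥(stabilizer G a ⊓ stabilizer G b)).map (stabilizer G a ⊓ stabilizer G b).subtype,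
        y⁻¹ * z * y ∈ (commutator ↥(stabilizer G a ⊓ stabilizer G b)).map (stabilizer G a ⊓ stabilizer G b).subtype := by
      intro z hz
      have h1 := conj_mem_commutator (stabilizer G a ⊓ stabilizer G b) y⁻¹ (hnormH y⁻¹ (Or.inr
        ⟨inv_smul_eq_iff.mpr hswap.2.symm, inv_smul_eq_iff.mpr hswap.1.symm⟩)) z hz
      rw [inv_inv] at h1
      exact h1
    have hQC : ∀ u ∈ Q, ∀ z ∈ (commutator ↥(stabilizer G a ⊓ stabilizer G b)).map (stabilizer G a ⊓ stabilizer G b).subtype, u * z = z * u := by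
      intro u hu z hz
      have huC := conj_mem_commutator (stabilizer G a ⊓ stabilizer G b) u (hnormH u (Or.inl ((hmem u).mp (hle hu))))
      have h1 := cyc_sq_comm _ (c₀ : G) hC hcC y u hyC hy'C huC (hinv u hu) z hz
      obtain ⟨n, hn⟩ := eq_sq_pow_of_odd u (hoddH u (hle hu))
      have h2 : Commute (u * u) z := h1
      have h3 : Commute ((u * u) ^ n) z := h2.pow_left n
      rw [← hn] at h3
      exact h3
    intro p hp
    have hp' : (p : G) ∈ Q := hp
    rw [Subgroup.mem_centralizer_iff]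
    intro c' hc'
    apply Subtype.ext
    exact (hQC (p : G) hp' (c' : G) ⟨c', hc', rfl⟩).symm
  have hcomm_le : commutator ↥(stabilizer G a ⊓ stabilizer G b) ≤ Subgroup.center ↥(stabilizer G a ⊓ stabilizer G b) := by
    intro c hc
    rw [Subgroup.mem_center_iff]
    intro g
    have hg : g ∈ Subgroup.centralizer ((commutator ↥(stabilizer G a ⊓ stabilizer G b) : Subgroup ↥(stabilizer G a ⊓ stabilizer G b)) : Set ↥(stabilizer G a ⊓ stabilizer G b)) := by
      rw [hstep1]; exact Subgroup.mem_top _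
    exact ((Subgroup.mem_centralizer_iff.mp hg) c hc).symm
  haveI : Group.IsNilpotent ↥(stabilizer G a ⊓ stabilizer G b) := by
    apply isNilpotent_of_ker_le_center
      (Abelianization.of (G := ↥(stabilizer G a ⊓ stabilizer G b)))
    rw [Abelianization.ker_of]; exact hcomm_le
  have hcycH : IsCyclic ↥(stabilizer G a ⊓ stabilizer G b) := inferInstance
  have hHcomm : ∀ h₁ ∈ (stabilizer G a ⊓ stabilizer G b), ∀ h₂ ∈ (stabilizer G a ⊓ stabilizer G b), h₁ * h₂ = h₂ * h₁ := by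
    intro h₁ hh₁ h₂ hh₂
    have h1 := (IsCyclic.isMulCommutative (α := ↥(stabilizer G a ⊓ stabilizer G b))).is_comm.comm ⟨h₁, hh₁⟩ ⟨h₂, hh₂⟩
    exact congrArg Subtype.val h1
  -- Step III
  have hstep3 : ∀ s : G, s • a = b → s • b = a → ∀ h ∈ (stabilizer G a ⊓ stabilizer G b), s * h * s⁻¹ = h⁻¹ := by
    intro s hsa hsb
    let L : Subgroup ↥(stabilizer G a ⊓ stabilizer G b) :=
      { carrier := {h | s * (h : G) * s⁻¹ = (h : G)⁻¹}
        one_mem' := by
          show s * ((1 : ↥(stabilizer G a ⊓ stabilizer G b)) : G) * s⁻¹ = ((1 : ↥(stabilizer G a ⊓ stabilizer G b)) : G)⁻¹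
          rw [Subgroup.coe_one]; group
        mul_mem' := by
          intro h₁ h₂ hh₁ hh₂
          have hh₁' : s * (h₁ : G) * s⁻¹ = (h₁ : G)⁻¹ := hh₁
          have hh₂' : s * (h₂ : G) * s⁻¹ = (h₂ : G)⁻¹ := hh₂
          show s * ((h₁ * h₂ : ↥(stabilizer G a ⊓ stabilizer G b)) : G) * s⁻¹ = ((h₁ * h₂ : ↥(stabilizer G a ⊓ stabilizer G b)) : G)⁻¹
          rw [Subgroup.coe_mul, mul_inv_rev]
          have e : s * ((h₁ : G) * (h₂ : G)) * s⁻¹ =
              (s * (h₁ : G) * s⁻¹) * (s * (h₂ : G) * s⁻¹) := by group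
          rw [e, hh₁', hh₂']
          exact hHcomm _ ((stabilizer G a ⊓ stabilizer G b).inv_mem h₁.2) _ ((stabilizer G a ⊓ stabilizer G b).inv_mem h₂.2)
        inv_mem' := by
          intro h hh
          have hh' : s * (h : G) * s⁻¹ = (h : G)⁻¹ := hh
          show s * ((h⁻¹ : ↥(stabilizer G a ⊓ stabilizer G b)) : G) * s⁻¹ = ((h⁻¹ : ↥(stabilizer G a ⊓ stabilizer G b)) : G)⁻¹
          rw [Subgroup.coe_inv]
          have e : s * (h : G)⁻¹ * s⁻¹ = (s * (h : G) * s⁻¹)⁻¹ := by group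
          rw [e, hh'] }
    have hL : L = ⊤ := by
      apply eq_top_of_index
      intro q hq hqi
      haveI : Fact q.Prime := ⟨hq⟩
      have hqd : q ∣ Nat.card ↥(stabilizer G a ⊓ stabilizer G b) := hqi.trans (Subgroup.index_dvd_card _)
      obtain ⟨Q, hle, ⟨x₁, hx₁Q, hx₁1⟩, hcyc, hq2, y, hyN, hyc⟩ := hsyl q hq hqd
      haveI := hcyc
      refine ⟨Q.subtype hle, ?_⟩
      have hHNC : ∀ g : G, g • a = a → g • b = b → g ∈ Subgroup.normalizer (Q : Set G) →
          ∀ u ∈ Q, g * u * g⁻¹ = u := by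
        intro g hga hgb _ u hu
        have := hHcomm g ((hmem g).mpr ⟨hga, hgb⟩) u (hle hu)
        rw [this]; group
      obtain ⟨hswap, hinv⟩ := swap_inverts Z hab hq2 Q hle hx₁Q hx₁1 hHNC y hyN hyc
      intro p hp
      have hp' : (p : G) ∈ Q := hp
      show s * (p : G) * s⁻¹ = (p : G)⁻¹
      have hys : (y⁻¹ * s) ∈ (stabilizer G a ⊓ stabilizer G b) := by
        rw [hmem, mul_smul, mul_smul, hsa, hsb]
        exact ⟨inv_smul_eq_iff.mpr hswap.1.symm, inv_smul_eq_iff.mpr hswap.2.symm⟩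
      have hc := hHcomm _ hys _ (hle hp')
      calc s * (p : G) * s⁻¹ = y * ((y⁻¹ * s) * (p : G)) * (y⁻¹ * s)⁻¹ * y⁻¹ := by group
        _ = y * ((p : G) * (y⁻¹ * s)) * (y⁻¹ * s)⁻¹ * y⁻¹ := by rw [hc]
        _ = y * (p : G) * y⁻¹ := by group
        _ = (p : G)⁻¹ := hinv _ hp'
    intro h hh
    have h1 : (⟨h, hh⟩ : ↥(stabilizer G a ⊓ stabilizer G b)) ∈ L := by rw [hL]; exact Subgroup.mem_top _
    exact h1
  -- Step IV
  refine ⟨hcycH, ?_, hstep3⟩
  apply le_antisymm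
  · intro g hg
    rw [Subgroup.mem_centralizer_iff] at hg
    have hh₀H : h₀ ∈ (stabilizer G a ⊓ stabilizer G b) := (hmem _).mpr ⟨hh₀a, hh₀b⟩
    have e : g * h₀ * g⁻¹ = h₀ := by
      rw [← hg h₀ hh₀H]; group
    have hperm := perm_of_conj Z hab hh₀1 hh₀a hh₀b (by rw [e]; exact hh₀a)
      (by rw [e]; exact hh₀b)
    rcases hperm with h | h
    · exact (hmem g).mpr h
    · exfalso
      have h1 := hstep3 g h.1 h.2 h₀ hh₀H
      rw [e] at h1
      have h2 : h₀ ^ 2 = 1 := by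
        rw [pow_two]
        nth_rewrite 1 [h1]
        group
      have h3 : orderOf h₀ ∣ 2 := orderOf_dvd_of_pow_eq_one h2
      have h4 := hoddH h₀ hh₀H
      have h5 : orderOf h₀ = 1 := by
        rcases (Nat.dvd_prime Nat.prime_two).mp h3 with h | h
        · exact h
        · rw [h] at h4; exact absurd h4 (by decide)
      exact hh₀1 (orderOf_eq_one_iff.mp h5)
  · intro g hg
    rw [Subgroup.mem_centralizer_iff]
    intro h hh
    exact hHcomm h hh g hg

end odd

end Zass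

end Cfsg.Agent.Lib.Lead
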