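import Mathlib

set_option autoImplicit false

namespace Cfsg.Agent.Lib.Lead

namespace Fpf

variable {G : Type*} [Group G]

/-- a fixed-point-free endomorphism whose `r`-th iterate is the identity -/
structure FpfData (r : ℕ) (φ : G →* G) : Prop where
  fpf : MonoidHom.FixedPointFree φ
  iter : ∀ g, φ^[r] g = g

theorem FpfData.bijective {r : ℕ} {φ : G →* G} (h : FpfData r φ) (hr : 0 < r) :
    Function.Bijective φ := by
  obtain ⟨k, rfl⟩ : ∃ k, r = k + 1 := ⟨r - 1, by omega⟩
  constructor
  · intro a b hab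
    have h1 : φ^[k + 1] a = φ^[k + 1] b := by
      rw [Function.iterate_succ_apply, Function.iterate_succ_apply, hab]
    rwa [h.iter, h.iter] at h1
  · intro b
    refine ⟨φ^[k] b, ?_⟩
    rw [← Function.iterate_succ_apply' φ k b]
    exact h.iter b

/-- the automorphism attached to the data -/
noncomputable def FpfData.equiv {r : ℕ} {φ : G →* G} (h : FpfData r φ) (hr : 0 < r) : G ≃* G :=
  MulEquiv.ofBijective φ (h.bijective hr)

theorem FpfData.equiv_apply {r : ℕ} {φ : G →* G} (h : FpfData r φ) (hr : 0 < r) (g : G) :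
    h.equiv hr g = φ g := rfl

/-- restriction to an invariant subgroup -/
def restr (φ : G →* G) (M : Subgroup G) (hM : ∀ m ∈ M, φ m ∈ M) : M →* M :=
  (φ.comp M.subtype).codRestrict M (fun m => hM m m.2)

theorem restr_apply (φ : G →* G) (M : Subgroup G) (hM : ∀ m ∈ M, φ m ∈ M) (m : M) :
    ((restr φ M hM m : M) : G) = φ m := rfl

theorem restr_iterate (φ : G →* G) (M : Subgroup G) (hM : ∀ m ∈ M, φ m ∈ M) (k : ℕ) (m : M) :
    (((restr φ M hM)^[k] m : M) : G) = φ^[k] m := by
  induction k generalizing m with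
  | zero => rfl
  | succ k ih =>
    rw [Function.iterate_succ_apply, Function.iterate_succ_apply, ih]
    rfl

theorem FpfData.restr {r : ℕ} {φ : G →* G} (h : FpfData r φ) (M : Subgroup G)
    (hM : ∀ m ∈ M, φ m ∈ M) : FpfData r (restr φ M hM) := by
  constructor
  · intro m hm
    have h1 : φ (m : G) = m := congrArg Subtype.val hm
    exact Subtype.ext (h.fpf _ h1)
  · intro m
    apply Subtype.ext
    rw [restr_iterate]
    exact h.iter m

/-- an invariant subgroup of a finite group is mapped onto itself -/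
theorem map_eq_of_invariant [Finite G] {r : ℕ} {φ : G →* G} (h : FpfData r φ) (hr : 0 < r)
    (M : Subgroup G) (hM : ∀ m ∈ M, φ m ∈ M) : M.map φ = M := by
  have hle : M.map φ ≤ M := by
    rintro _ ⟨m, hm, rfl⟩; exact hM m hm
  apply Subgroup.eq_of_le_of_card_ge hle
  rw [Subgroup.card_map_of_injective (h.bijective hr).1]

/-- the induced endomorphism of a quotient -/
def quot (φ : G →* G) (N : Subgroup G) [N.Normal] (hN : ∀ n ∈ N, φ n ∈ N) : G ⧸ N →* G ⧸ N :=
  QuotientGroup.map N N φ (fun n hn => hN n hn)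

theorem quot_mk (φ : G →* G) (N : Subgroup G) [N.Normal] (hN : ∀ n ∈ N, φ n ∈ N) (g : G) :
    quot φ N hN (QuotientGroup.mk g) = QuotientGroup.mk (φ g) := rfl

theorem quot_iterate (φ : G →* G) (N : Subgroup G) [N.Normal] (hN : ∀ n ∈ N, φ n ∈ N) (k : ℕ)
    (g : G) : (quot φ N hN)^[k] (QuotientGroup.mk g) = QuotientGroup.mk (φ^[k] g) := by
  induction k generalizing g with
  | zero => rfl
  | succ k ih =>
    rw [Function.iterate_succ_apply, Function.iterate_succ_apply, quot_mk, ih]

theorem FpfData.quot [Finite G] {r : ℕ} {φ : G →* G} (h : FpfData r φ) (N : Subgroup G) [N.Normal]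
    (hN : ∀ n ∈ N, φ n ∈ N) : FpfData r (quot φ N hN) := by
  constructor
  · intro x hx
    induction x using QuotientGroup.induction_on with
    | H x =>
      rw [quot_mk] at hx
      have h1 : (φ x)⁻¹ * x ∈ N := QuotientGroup.eq.mp hx
      -- the commutator map of the restriction is onto `N`
      have hrN := h.restr N hN
      have hx' : x⁻¹ / φ x⁻¹ ∈ N := by
        have := N.inv_mem h1
        rw [mul_inv_rev, inv_inv] at this
        rwa [map_inv, div_eq_mul_inv, inv_inv]
      obtain ⟨n, hn⟩ := hrN.fpf.commutatorMap_surjective ⟨_, hx'⟩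
      have h2 : (n : G) / φ n = x⁻¹ / φ x⁻¹ := congrArg Subtype.val hn
      have h3 : (n : G) = x⁻¹ := h.fpf.commutatorMap_injective h2
      have h4 : x⁻¹ ∈ N := h3 ▸ n.2
      exact (QuotientGroup.eq_one_iff x).mpr ((N.inv_mem_iff).mp h4)
  · intro x
    induction x using QuotientGroup.induction_on with
    | H x => rw [quot_iterate, h.iter]

/-- powers prime to `r` are again fixed-point-free -/
theorem FpfData.iterate_fpf {r : ℕ} {φ : G →* G} (h : FpfData r φ) (i : ℕ) (hi : i.Coprime r)
    (g : G) (hg : φ^[i] g = g) : g = 1 := by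
  apply h.fpf
  by_cases hr1 : r = 1
  · have := h.iter g
    rw [hr1] at this
    exact this
  by_cases hr0 : r = 0
  · rw [hr0, Nat.coprime_zero_right] at hi
    rw [hi] at hg
    exact hg
  obtain ⟨m, -, hm⟩ := Nat.exists_mul_mod_eq_one_of_coprime hi (by omega)
  have h1 : ∀ k : ℕ, φ^[i * k] g = g := by
    intro k
    induction k with
    | zero => rfl
    | succ k ih => rw [Nat.mul_succ, Function.iterate_add_apply, hg, ih]
  have h2 : ∀ k : ℕ, φ^[r * k] g = g := by
    intro k
    induction k with
    | zero => rfl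
    | succ k ih => rw [Nat.mul_succ, Function.iterate_add_apply, h.iter, ih]
  have h3 := h1 m
  rw [← Nat.div_add_mod (i * m) r, hm, Function.iterate_add_apply, Function.iterate_one] at h3
  have h4 : φ^[r * (i * m / r)] (φ g) = φ g := by
    have : φ^[r * (i * m / r)] (φ g) = φ (φ^[r * (i * m / r)] g) := by
      rw [← Function.iterate_succ_apply' φ, ← Function.iterate_succ_apply φ]
    rw [this, h2]
  rw [h4] at h3
  exact h3

end Fpf

end Cfsg.Agent.Lib.Lead
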