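import Mathlib
import Cfsg.Agent.Lib.Lead.Fpf1

set_option autoImplicit false

namespace Cfsg.Agent.Lib.Lead

namespace Fpf

open scoped BigOperators

variable {G : Type*} [Group G]

theorem list_prod_range_eq {M : Type*} [CommMonoid M] (r : ℕ) (f : ℕ → M) :
    ((List.range r).map f).prod = ∏ i ∈ Finset.range r, f i := by
  rw [Finset.prod_eq_multiset_prod, Finset.range_val, ← Multiset.coe_range, Multiset.map_coe,
    Multiset.prod_coe]

/-- a coprime invariant subgroup centralizes an abelian invariant normal subgroup on which the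
automorphism of prime order acts without fixed points -/
theorem centralizes_of_coprime [Finite G] {r : ℕ} (hr : r.Prime) {φ : G →* G} (h : FpfData r φ)
    (V Q : Subgroup G) [hVn : V.Normal] (hVab : ∀ a ∈ V, ∀ b ∈ V, a * b = b * a)
    (hVφ : ∀ v ∈ V, φ v ∈ V) (hQφ : ∀ y ∈ Q, φ y ∈ Q)
    (hcop : (Nat.card Q).Coprime (Nat.card V)) : ∀ v ∈ V, ∀ z ∈ Q, z * v = v * z := by
  classical
  letI : CommGroup V :=
    { (inferInstance : Group V) with mul_comm := fun a b => Subtype.ext (hVab a a.2 b b.2) }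
  letI : Fintype Q := Fintype.ofFinite Q
  let cn : G →* MulAut V := MulAut.conjNormal
  have hcn : ∀ (x : G) (v : V), ((cn x v : V) : G) = x * v * x⁻¹ := fun x v =>
    MulAut.conjNormal_apply x v
  set φV : V →* V := restr φ V hVφ with hφV
  have hV := h.restr V hVφ
  -- (K1)
  have K1 : ∀ w : V, ∏ i ∈ Finset.range r, φV^[i] w = 1 := by
    intro w
    rw [← list_prod_range_eq]
    exact hV.fpf.prod_pow_eq_one (funext hV.iter) w
  -- (K2)
  have K2 : ∀ (i : ℕ) (x : G) (v : V), φV^[i] (cn x v) = cn (φ^[i] x) (φV^[i] v) := by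
    intro i
    induction i with
    | zero => intro x v; rfl
    | succ i ih =>
      intro x v
      rw [Function.iterate_succ_apply', Function.iterate_succ_apply', Function.iterate_succ_apply',
        ih]
      apply Subtype.ext
      rw [hcn]
      show φ ((cn (φ^[i] x) (φV^[i] v) : V) : G) = _
      rw [hcn, map_mul, map_mul, map_inv]
      rfl
  -- iterates preserve `Q`
  have hQit : ∀ (i : ℕ) (y : G), y ∈ Q → φ^[i] y ∈ Q := by
    intro i
    induction i with
    | zero => intro y hy; exact hy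
    | succ i ih => intro y hy; rw [Function.iterate_succ_apply']; exact hQφ _ (ih y hy)
  -- (K3)
  have K3 : ∀ (y : Q) (v : V),
      ∏ i ∈ Finset.range r, cn ((y : G)⁻¹ * φ^[i] (y : G)) (φV^[i] v) = 1 := by
    intro y v
    have h1 := K1 (cn (y : G) v)
    have h2 := congrArg (cn (y : G)⁻¹) h1
    rw [map_prod, map_one] at h2
    rw [← h2]
    apply Finset.prod_congr rfl
    intro i _
    rw [K2, map_mul]
    rfl
  -- the sum over `Q`
  intro v hv
  set v' : V := ⟨v, hv⟩ with hv'
  have K4 : ∏ i ∈ Finset.range r, ∏ y : Q, cn ((y : G)⁻¹ * φ^[i] (y : G)) (φV^[i] v') = 1 := by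
    rw [Finset.prod_comm]
    apply Finset.prod_eq_one
    intro y _
    exact K3 y v'
  -- the fixed points of `Q`
  let Fix : Subgroup V :=
    { carrier := {w | ∀ z ∈ Q, cn z w = w}
      one_mem' := fun z _ => map_one _
      mul_mem' := by
        intro a b ha hb z hz
        rw [map_mul, ha z hz, hb z hz]
      inv_mem' := by
        intro a ha z hz
        rw [map_inv, ha z hz] }
  let τ : V → V := fun w => ∏ z : Q, cn (z : G) w
  have hτ : ∀ w, τ w ∈ Fix := by
    intro w z₀ hz₀
    show cn z₀ (∏ z : Q, cn (z : G) w) = ∏ z : Q, cn (z : G) w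
    rw [map_prod]
    have hbij : Function.Bijective (fun z : Q => (⟨z₀, hz₀⟩ : Q) * z) :=
      (Equiv.mulLeft (⟨z₀, hz₀⟩ : Q)).bijective
    rw [← hbij.prod_comp (fun z : Q => cn (z : G) w)]
    apply Finset.prod_congr rfl
    intro z _
    show cn z₀ (cn (z : G) w) = cn (((⟨z₀, hz₀⟩ : Q) * z : Q) : G) w
    rw [Subgroup.coe_mul, map_mul]
    rfl
  -- (K5)
  have K5 : ∀ i, 0 < i → i < r → ∀ w : V,
      ∏ y : Q, cn ((y : G)⁻¹ * φ^[i] (y : G)) w = τ w := by
    intro i hi0 hir w
    have hic : i.Coprime r := by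
      rw [Nat.coprime_comm]
      exact (Nat.Prime.coprime_iff_not_dvd hr).mpr (Nat.not_dvd_of_pos_of_lt hi0 hir)
    let c : Q → Q := fun y => ⟨(y : G)⁻¹ * φ^[i] (y : G), Q.mul_mem (Q.inv_mem y.2) (hQit i y y.2)⟩
    have hcinj : Function.Injective c := by
      intro y z hyz
      have h1 : (y : G)⁻¹ * φ^[i] (y : G) = (z : G)⁻¹ * φ^[i] (z : G) := congrArg Subtype.val hyz
      have hmul : ∀ a b : G, φ^[i] (a * b) = φ^[i] a * φ^[i] b := by
        intro a b
        exact iterate_map_mul φ i a b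
      have hinv : ∀ a : G, φ^[i] a⁻¹ = (φ^[i] a)⁻¹ := fun a => iterate_map_inv φ i a
      have h2 : φ^[i] ((z : G) * (y : G)⁻¹) = (z : G) * (y : G)⁻¹ := by
        rw [hmul, hinv]
        have : φ^[i] (z : G) = (z : G) * ((y : G)⁻¹ * φ^[i] (y : G)) := by
          rw [h1]; group
        rw [this]; group
      have h3 := h.iterate_fpf i hic _ h2
      apply Subtype.ext
      have : (z : G) = (z : G) * (y : G)⁻¹ * y := by group
      rw [this, h3, one_mul]
    have hcbij : Function.Bijective c := Finite.injective_iff_bijective.mp hcinj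
    show _ = ∏ z : Q, cn (z : G) w
    rw [← hcbij.prod_comp (fun z : Q => cn (z : G) w)]
  -- (K7)
  obtain ⟨n, hn⟩ : ∃ n, r = n + 1 := ⟨r - 1, by have := hr.pos; omega⟩
  rw [hn, Finset.prod_range_succ'] at K4
  have h0 : ∏ y : Q, cn ((y : G)⁻¹ * φ^[0] (y : G)) (φV^[0] v') = v' ^ Nat.card Q := by
    have : ∀ y : Q, cn ((y : G)⁻¹ * φ^[0] (y : G)) (φV^[0] v') = v' := by
      intro y
      rw [Function.iterate_zero, id, inv_mul_cancel, map_one]
      rfl
    rw [Finset.prod_congr rfl (fun y _ => this y), Finset.prod_const, Finset.card_univ,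
      Nat.card_eq_fintype_card]
  rw [h0] at K4
  have hrest : ∏ i ∈ Finset.range n, ∏ y : Q, cn ((y : G)⁻¹ * φ^[i + 1] (y : G)) (φV^[i + 1] v')
      ∈ Fix := by
    apply Subgroup.prod_mem
    intro i hi
    rw [K5 (i + 1) (Nat.succ_pos i) (by rw [hn]; exact Nat.succ_lt_succ (Finset.mem_range.mp hi))]
    exact hτ _
  have hpowFix : v' ^ Nat.card Q ∈ Fix := by
    have : v' ^ Nat.card Q = (∏ i ∈ Finset.range n,
        ∏ y : Q, cn ((y : G)⁻¹ * φ^[i + 1] (y : G)) (φV^[i + 1] v'))⁻¹ :=
      eq_inv_of_mul_eq_one_right K4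
    rw [this]
    exact Fix.inv_mem hrest
  have hvFix : v' ∈ Fix := by
    have hco : (Nat.card Q).Coprime (orderOf v') :=
      Nat.Coprime.coprime_dvd_right (orderOf_dvd_natCard v') hcop
    obtain ⟨m, hm⟩ := exists_pow_eq_self_of_coprime hco
    rw [← hm]
    exact Fix.pow_mem hpowFix m
  intro z hz
  have h1 := hvFix z hz
  have h2 : z * v * z⁻¹ = v := by
    have := congrArg Subtype.val h1
    rw [hcn] at this
    exact this
  calc z * v = (z * v * z⁻¹) * z := by group
    _ = v * z := by rw [h2]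

end Fpf

end Cfsg.Agent.Lib.Lead
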