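import Mathlib
import Cfsg.Agent.Lib.Lead.FrobSylow

set_option autoImplicit false
open Pointwise

namespace Cfsg.Agent.Lib.Lead

section
variable {G : Type*} [Group G]

/-- `P` controls its own fusion (elementwise). -/
def ControlsOwnFusion (P : Subgroup G) : Prop :=
  ∀ x ∈ P, ∀ g : G, g * x * g⁻¹ ∈ P → ∃ u ∈ P, u * x * u⁻¹ = g * x * g⁻¹

theorem sup_eq_top_of_coprime_index [Finite G] {p : ℕ} [hp : Fact p.Prime] (T B : Subgroup G)
    (hT : ¬ p ∣ T.index) (hB : ∃ k : ℕ, B.index = p ^ k) : T ⊔ B = ⊤ := by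
  obtain ⟨k, hk⟩ := hB
  have h1 : (T ⊔ B).index ∣ T.index := Subgroup.index_dvd_of_le le_sup_left
  have h2 : (T ⊔ B).index ∣ p ^ k := by rw [← hk]; exact Subgroup.index_dvd_of_le le_sup_right
  obtain ⟨j, -, hj⟩ := (Nat.dvd_prime_pow hp.out).mp h2
  rcases Nat.eq_zero_or_pos j with h0 | h0
  · rw [h0, pow_zero] at hj
    exact Subgroup.index_eq_one.mp hj
  · exfalso
    apply hT
    rw [hj] at h1
    exact (dvd_pow_self p h0.ne').trans h1

theorem le_of_coprime_card_of_normal_index_pow [Finite G] {p : ℕ} [hp : Fact p.Prime]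
    (N : Subgroup G) [N.Normal] (hN : ∃ k : ℕ, N.index = p ^ k) (X : Subgroup G)
    (hX : (Nat.card X).Coprime p) : X ≤ N := by
  obtain ⟨k, hk⟩ := hN
  have h1 : Nat.card (X.map (QuotientGroup.mk' N)) ∣ Nat.card X :=
    Dvd.intro _ (card_map_mul_card_inf_ker (QuotientGroup.mk' N) X)
  have h2 : Nat.card (X.map (QuotientGroup.mk' N)) ∣ p ^ k := by
    rw [← hk, Subgroup.index_eq_card]
    exact Subgroup.card_subgroup_dvd_card _
  have h3 : Nat.card (X.map (QuotientGroup.mk' N)) = 1 := by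
    have hc : (Nat.card X).Coprime (p ^ k) := Nat.Coprime.pow_right k hX
    exact Nat.eq_one_of_dvd_coprimes hc h1 h2
  have h4 : X.map (QuotientGroup.mk' N) = ⊥ := Subgroup.card_eq_one.mp h3
  rw [Subgroup.map_eq_bot_iff, QuotientGroup.ker_mk'] at h4
  exact h4

theorem conj_smul_centralizer_singleton (g x : G) :
    MulAut.conj g • Subgroup.centralizer ({x} : Set G) = Subgroup.centralizer {g * x * g⁻¹} := by
  ext y
  rw [mem_conj_smul_iff, mem_centralizer_singleton_iff, mem_centralizer_singleton_iff]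
  constructor
  · intro h
    have : g * x * g⁻¹ * y = g * (x * (g⁻¹ * y * g)) * g⁻¹ := by group
    rw [this, h]; group
  · intro h
    have : x * (g⁻¹ * y * g) = g⁻¹ * (g * x * g⁻¹ * y) * g := by group
    rw [this, h]; group

theorem relIndex_conj_smul (g : G) (A B : Subgroup G) :
    (MulAut.conj g • A).relIndex (MulAut.conj g • B) = A.relIndex B :=
  Subgroup.relIndex_map_map_of_injective A B (MulAut.conj g).injective

variable [Finite G] {p : ℕ} [hp : Fact p.Prime]

/-- every element of a Sylow subgroup has a conjugate in it that is fully centralised -/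
theorem exists_conj_fully_centralized (P : Sylow p G) (x : G) (hx : x ∈ P) :
    ∃ h : G, h * x * h⁻¹ ∈ P ∧
      ¬ p ∣ ((P : Subgroup G) ⊓ Subgroup.centralizer {h * x * h⁻¹}).relIndex
        (Subgroup.centralizer {h * x * h⁻¹}) := by
  classical
  set C := Subgroup.centralizer ({x} : Set G) with hC
  have hxC : x ∈ C := by rw [hC, mem_centralizer_singleton_iff]
  have hQ : IsPGroup p (((P : Subgroup G) ⊓ C).subgroupOf C) :=
    (P.2.to_inf_left).comap_subtype
  obtain ⟨T₀, hQT⟩ := hQ.exists_le_sylow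
  set T : Subgroup G := (T₀ : Subgroup C).map C.subtype with hT
  have hTp : IsPGroup p T := T₀.2.map C.subtype
  have hTC : T ≤ C := Subgroup.map_subtype_le _
  have hxT : x ∈ T := by
    refine ⟨⟨x, hxC⟩, hQT ?_, rfl⟩
    rw [Subgroup.mem_subgroupOf]
    exact Subgroup.mem_inf.mpr ⟨hx, hxC⟩
  obtain ⟨R, hTR⟩ := hTp.exists_le_sylow
  obtain ⟨g, hg⟩ := MulAction.exists_smul_eq G R P
  have hg' : MulAut.conj g • (R : Subgroup G) = (P : Subgroup G) := by
    rw [← Sylow.coe_subgroup_smul, hg]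
  have hTP : MulAut.conj g • T ≤ (P : Subgroup G) := by
    rw [← hg']
    exact Subgroup.pointwise_smul_le_pointwise_smul_iff.mpr hTR
  have hmem : ∀ t ∈ T, g * t * g⁻¹ ∈ MulAut.conj g • T := by
    intro t ht
    rw [mem_conj_smul_iff]
    have : g⁻¹ * (g * t * g⁻¹) * g = t := by group
    rw [this]; exact ht
  refine ⟨g, hTP (hmem x hxT), ?_⟩
  set C' := Subgroup.centralizer ({g * x * g⁻¹} : Set G) with hC'
  have hCC' : MulAut.conj g • C = C' := conj_smul_centralizer_singleton g x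
  have hTC' : MulAut.conj g • T ≤ (P : Subgroup G) ⊓ C' := by
    refine le_inf hTP ?_
    rw [← hCC']
    exact Subgroup.pointwise_smul_le_pointwise_smul_iff.mpr hTC
  have h1 : ((P : Subgroup G) ⊓ C').relIndex C' ∣ (MulAut.conj g • T).relIndex C' :=
    Subgroup.relIndex_dvd_of_le_left C' hTC'
  rw [← hCC', relIndex_conj_smul] at h1
  have h2 : T.relIndex C = (T₀ : Subgroup C).index := by
    unfold Subgroup.relIndex Subgroup.subgroupOf
    rw [hT, Subgroup.comap_map_eq_self_of_injective C.subtype_injective]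
  rw [h2, hCC'] at h1
  intro h3
  exact T₀.not_dvd_index (h3.trans h1)

/-- under control of fusion every element of `P` is fully centralised -/
theorem ControlsOwnFusion.fully_centralized (P : Sylow p G)
    (hctl : ControlsOwnFusion (P : Subgroup G)) (x : G) (hx : x ∈ P) :
    ¬ p ∣ ((P : Subgroup G) ⊓ Subgroup.centralizer {x}).relIndex (Subgroup.centralizer {x}) := by
  obtain ⟨h, hh, hidx⟩ := exists_conj_fully_centralized P x hx
  obtain ⟨v, hv, hvx⟩ := hctl x hx h hh
  rw [← hvx, ← conj_smul_centralizer_singleton] at hidx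
  have h1 : MulAut.conj v • ((P : Subgroup G) ⊓ Subgroup.centralizer {x}) =
      (P : Subgroup G) ⊓ MulAut.conj v • Subgroup.centralizer {x} := by
    rw [Subgroup.smul_inf, Subgroup.conj_smul_eq_self_of_mem hv]
  rw [← h1, relIndex_conj_smul] at hidx
  exact hidx

/-- factorisation of the centraliser -/
theorem ControlsOwnFusion.centralizer_factor (P : Sylow p G)
    (hctl : ControlsOwnFusion (P : Subgroup G)) (M : Subgroup G) [M.Normal]
    (hM : ∃ k : ℕ, M.index = p ^ k) (x : G) (hx : x ∈ P) (c : G)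
    (hc : c ∈ Subgroup.centralizer ({x} : Set G)) :
    ∃ a ∈ (P : Subgroup G) ⊓ Subgroup.centralizer {x},
      ∃ b ∈ M ⊓ Subgroup.centralizer {x}, c = a * b := by
  set C := Subgroup.centralizer ({x} : Set G) with hC
  have h1 := hctl.fully_centralized P x hx
  have hB : ∃ j : ℕ, (M.subgroupOf C).index = p ^ j := by
    obtain ⟨k, hk⟩ := hM
    have h2 : (M.subgroupOf C).index ∣ p ^ k := by
      rw [← hk]; exact Subgroup.relIndex_dvd_index_of_normal M C
    obtain ⟨j, -, hj⟩ := (Nat.dvd_prime_pow hp.out).mp h2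
    exact ⟨j, hj⟩
  have h3 := sup_eq_top_of_coprime_index (((P : Subgroup G) ⊓ C).subgroupOf C) (M.subgroupOf C)
    h1 hB
  have h4 : (⟨c, hc⟩ : C) ∈ ((P : Subgroup G) ⊓ C).subgroupOf C ⊔ M.subgroupOf C := by
    rw [h3]; trivial
  obtain ⟨y, hy, z, hz, hyz⟩ := Subgroup.mem_sup_of_normal_right.mp h4
  refine ⟨y, Subgroup.mem_subgroupOf.mp hy, z, Subgroup.mem_inf.mpr ⟨Subgroup.mem_subgroupOf.mp hz, z.2⟩, ?_⟩
  have := congrArg Subtype.val hyz
  exact this.symm

/-- control of fusion is inherited by a normal subgroup of `p`-power index -/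
theorem ControlsOwnFusion.inherit (P : Sylow p G)
    (hctl : ControlsOwnFusion (P : Subgroup G)) (M : Subgroup G) [M.Normal]
    (hM : ∃ k : ℕ, M.index = p ^ k) (x : G) (hxP : x ∈ P) (m : G) (hm : m ∈ M)
    (hmx : m * x * m⁻¹ ∈ P) :
    ∃ u ∈ (P : Subgroup G) ⊓ M, u * x * u⁻¹ = m * x * m⁻¹ := by
  obtain ⟨u, hu, hux⟩ := hctl x hxP m hmx
  have hc : u⁻¹ * m ∈ Subgroup.centralizer ({x} : Set G) := by
    rw [mem_centralizer_singleton_iff]
    have h1 : x = u⁻¹ * (m * x * m⁻¹) * u := by rw [← hux]; group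
    calc x * (u⁻¹ * m) = u⁻¹ * (m * x * m⁻¹) * u * (u⁻¹ * m) := by rw [← h1]
      _ = u⁻¹ * m * x := by group
  obtain ⟨a, ha, b, hb, hab⟩ := hctl.centralizer_factor P M hM x hxP (u⁻¹ * m) hc
  obtain ⟨haP, haC⟩ := Subgroup.mem_inf.mp ha
  obtain ⟨hbM, hbC⟩ := Subgroup.mem_inf.mp hb
  refine ⟨u * a, Subgroup.mem_inf.mpr ⟨Subgroup.mul_mem _ hu haP, ?_⟩, ?_⟩
  · have : u * a = m * b⁻¹ := by
      have h2 : a = u⁻¹ * m * b⁻¹ := by rw [hab]; group
      rw [h2]; group
    rw [this]
    exact M.mul_mem hm (M.inv_mem hbM)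
  · rw [mem_centralizer_singleton_iff] at haC
    have : u * a * x * (u * a)⁻¹ = u * (a * x * a⁻¹) * u⁻¹ := by group
    rw [this, ← haC, mul_inv_cancel_right, hux]

end

end Cfsg.Agent.Lib.Lead
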