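import Mathlib
import Cfsg.Agent.Lib.Lead.FrobNPC1

set_option autoImplicit false
open Pointwise
open scoped commutatorElement

namespace Cfsg.Agent.Lib.Lead

universe u

section
variable {G : Type u} [Group G] [Finite G]

theorem relIndex_dvd_index_of_normal_right (H K : Subgroup G) [hK : K.Normal] :
    H.relIndex K ∣ H.index := by
  have hHK : H ≤ Subgroup.normalizer (K : Set G) := by
    rw [Subgroup.normalizer_eq_top_iff.mpr hK]; exact le_top
  have h1 := card_sup_mul_card_inf H K hHK
  have h2 : Nat.card (H.subgroupOf K) * H.relIndex K = Nat.card K := Subgroup.card_mul_index _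
  rw [card_subgroupOf_eq] at h2
  have h3 := H.card_mul_index
  have h4 : Nat.card (H ⊔ K : Subgroup G) ∣ Nat.card G := Subgroup.card_subgroup_dvd_card _
  have h5 : Nat.card (H ⊔ K : Subgroup G) = Nat.card H * H.relIndex K := by
    have hpos : 0 < Nat.card (H ⊓ K : Subgroup G) := Nat.card_pos
    apply Nat.eq_of_mul_eq_mul_right hpos
    rw [h1, ← h2]; ring
  rw [h5, ← h3] at h4
  exact Nat.dvd_of_mul_dvd_mul_left Nat.card_pos h4

end

/-- **Control of fusion implies a normal `p`-complement.** -/
theorem exists_normal_complement_of_control {p : ℕ} [hp : Fact p.Prime] :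
    ∀ n : ℕ, ∀ (G : Type u) [Group G] [Finite G], Nat.card G = n → ∀ P : Sylow p G,
      ControlsOwnFusion (P : Subgroup G) →
      ∃ K : Subgroup G, K.Normal ∧ K.IsComplement' (P : Subgroup G) := by
  intro n
  induction n using Nat.strong_induction_on with
  | _ n ih =>
  intro G _ _ hn P hctl
  classical
  by_cases hP1 : (P : Subgroup G) = ⊥
  · refine ⟨⊤, inferInstance, ?_⟩
    rw [hP1]
    exact Subgroup.isComplement'_top_bot
  set M := (P : Subgroup G).transferFocal.ker with hMdef
  have hMP : M ⊓ (P : Subgroup G) = (P : Subgroup G).focalSubgroup :=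
    Subgroup.ker_transferFocal_inf_eq_focalSubgroup P
  have hfoc : (P : Subgroup G).focalSubgroup ≤ ⁅(P : Subgroup G), (P : Subgroup G)⁆ :=
    focal_le_of_control P P le_rfl hctl
  -- `P` is a nontrivial `p`-group, so its derived subgroup is proper
  have hPnt : Nontrivial P := (Subgroup.nontrivial_iff_ne_bot _).mpr hP1
  have hPnil : Group.IsNilpotent P := P.2.isNilpotent
  have hder : ⁅(P : Subgroup G), (P : Subgroup G)⁆ < (P : Subgroup G) := by
    have h1 : commutator P < ⊤ := Group.IsSolvable.commutator_lt_top_of_nontrivial P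
    have h2 : (commutator P).map (P : Subgroup G).subtype = ⁅(P : Subgroup G), (P : Subgroup G)⁆ :=
      Subgroup.map_subtype_commutator _
    rw [← h2]
    have h3 : (commutator P).map (P : Subgroup G).subtype < (⊤ : Subgroup P).map (P : Subgroup G).subtype :=
      (Subgroup.map_lt_map_iff_of_injective (P : Subgroup G).subtype_injective).mpr h1
    rw [← MonoidHom.range_eq_map, Subgroup.range_subtype] at h3
    exact h3
  have hMtop : M ≠ ⊤ := by
    intro h0
    rw [h0, top_inf_eq] at hMP
    have : (P : Subgroup G) ≤ ⁅(P : Subgroup G), (P : Subgroup G)⁆ := by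
      calc (P : Subgroup G) = (P : Subgroup G).focalSubgroup := hMP
        _ ≤ _ := hfoc
    exact hder.not_ge this
  -- index of `M`
  have hMidx : M.index = Nat.card (P ⧸ (P : Subgroup G).focalSubgroupOf) := by
    rw [Subgroup.index_eq_card]
    exact Nat.card_congr
      (Subgroup.transferFocal.quotientKerMulEquivQuotientFocalSubroupOf P).toEquiv
  have hMpow : ∃ k : ℕ, M.index = p ^ k := by
    have h1 : M.index ∣ Nat.card P := by
      rw [hMidx]; exact Subgroup.card_quotient_dvd_card _
    obtain ⟨j, hj⟩ := IsPGroup.iff_card.mp P.2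
    rw [hj] at h1
    obtain ⟨k, -, hk⟩ := (Nat.dvd_prime_pow hp.out).mp h1
    exact ⟨k, hk⟩
  have hMlt : Nat.card M < n := by
    rw [← hn]
    have h1 := M.card_mul_index
    have h2 : M.index ≠ 1 := fun h0 => hMtop (Subgroup.index_eq_one.mp h0)
    have h3 : 0 < M.index := Nat.pos_of_ne_zero (Subgroup.index_ne_zero_of_finite)
    have h4 : 0 < Nat.card M := Nat.card_pos
    have h5 : 2 ≤ M.index := by omega
    rw [← h1]
    nlinarith
  -- the Sylow subgroup of `M`
  have hP₁p : IsPGroup p (((P : Subgroup G) ⊓ M).subgroupOf M) := (P.2.to_inf_left).comap_subtype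
  have hP₁idx : ¬ p ∣ (((P : Subgroup G) ⊓ M).subgroupOf M).index := by
    intro h0
    have h1 : (((P : Subgroup G) ⊓ M).subgroupOf M).index = (P : Subgroup G).relIndex M := by
      show ((P : Subgroup G) ⊓ M).relIndex M = _
      exact Subgroup.inf_relIndex_right _ _
    rw [h1] at h0
    exact P.not_dvd_index (h0.trans (relIndex_dvd_index_of_normal_right _ M))
  set P₁ : Sylow p M := hP₁p.toSylow hP₁idx with hP₁
  have hP₁mem : ∀ y : M, y ∈ P₁ ↔ (y : G) ∈ (P : Subgroup G) := by
    intro y
    rw [hP₁, IsPGroup.mem_toSylow, Subgroup.mem_subgroupOf, Subgroup.mem_inf]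
    exact ⟨fun h => h.1, fun h => ⟨h, y.2⟩⟩
  have hctl₁ : ControlsOwnFusion (P₁ : Subgroup M) := by
    intro x hx m hmx
    have hx' : (x : G) ∈ (P : Subgroup G) := (hP₁mem x).mp hx
    have hmx' : (m : G) * x * (m : G)⁻¹ ∈ (P : Subgroup G) := by
      have := (hP₁mem _).mp hmx
      simpa using this
    obtain ⟨u, hu, hux⟩ := hctl.inherit P M hMpow x hx' m m.2 hmx'
    obtain ⟨huP, huM⟩ := Subgroup.mem_inf.mp hu
    refine ⟨⟨u, huM⟩, (hP₁mem _).mpr huP, ?_⟩
    apply Subtype.ext
    simpa using hux
  obtain ⟨K₁, hK₁n, hK₁c⟩ := ih (Nat.card M) hMlt M rfl P₁ hctl₁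
  set K : Subgroup G := K₁.map M.subtype with hK
  have hKM : K ≤ M := Subgroup.map_subtype_le _
  have hKcard : Nat.card K = Nat.card K₁ := card_map_subtype M K₁
  have hcard₁ : Nat.card K₁ * Nat.card (P₁ : Subgroup M) = Nat.card M := hK₁c.card_mul_card
  have hK₁idx : Nat.card K₁ = (P₁ : Subgroup M).index := by
    have h1 := (P₁ : Subgroup M).card_mul_index
    rw [← hcard₁, mul_comm] at h1
    exact (Nat.eq_of_mul_eq_mul_right Nat.card_pos h1).symm
  have hKcop : (Nat.card K).Coprime p := by
    rw [hKcard, hK₁idx, Nat.coprime_comm]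
    exact (Nat.Prime.coprime_iff_not_dvd hp.out).mpr P₁.not_dvd_index
  have hK₁pow : ∃ k : ℕ, K₁.index = p ^ k := by
    have h1 : K₁.index = Nat.card (P₁ : Subgroup M) := by
      have h2 := K₁.card_mul_index
      rw [← hcard₁] at h2
      exact Nat.eq_of_mul_eq_mul_left Nat.card_pos h2
    rw [h1]
    exact IsPGroup.iff_card.mp P₁.2
  -- `K` is normal in `G`
  have hKn : K.Normal := by
    refine ⟨fun k hk g => ?_⟩
    have hconjM : MulAut.conj g • K ≤ M := by
      intro y hy
      rw [mem_conj_smul_iff] at hy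
      have h1 := (inferInstance : M.Normal).conj_mem _ (hKM hy) g
      have h2 : g * (g⁻¹ * y * g) * g⁻¹ = y := by group
      rw [h2] at h1
      exact h1
    have hX : (Nat.card ((MulAut.conj g • K).subgroupOf M)).Coprime p := by
      rw [card_subgroupOf_of_le hconjM, card_conj_smul]
      exact hKcop
    have hle := le_of_coprime_card_of_normal_index_pow K₁ hK₁pow _ hX
    have hmem : g * k * g⁻¹ ∈ MulAut.conj g • K := by
      rw [mem_conj_smul_iff]
      have : g⁻¹ * (g * k * g⁻¹) * g = k := by group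
      rw [this]; exact hk
    have h3 : (⟨g * k * g⁻¹, hconjM hmem⟩ : M) ∈ K₁ := hle (Subgroup.mem_subgroupOf.mpr hmem)
    exact ⟨_, h3, rfl⟩
  refine ⟨K, hKn, ?_⟩
  apply Subgroup.isComplement'_of_card_mul_and_disjoint
  · -- cardinalities
    have h1 : Nat.card (P₁ : Subgroup M) = Nat.card ((P : Subgroup G) ⊓ M : Subgroup G) := by
      rw [hP₁, IsPGroup.toSylow_coe, card_subgroupOf_eq, inf_assoc, inf_idem]
    have h2 : Nat.card ((P : Subgroup G).focalSubgroupOf) = Nat.card ((P : Subgroup G) ⊓ M : Subgroup G) := by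
      rw [inf_comm, hMP, ← Subgroup.map_focalSubgroupOf, card_map_subtype]
    have h3 := ((P : Subgroup G).focalSubgroupOf).card_mul_index
    rw [Subgroup.index_eq_card, ← hMidx, h2, ← h1] at h3
    have h4 := M.card_mul_index
    rw [hKcard, ← h4, ← hcard₁, ← h3]
    ring
  · rw [disjoint_iff]
    exact (Subgroup.disjoint_of_coprime_natCard (by
      obtain ⟨j, hj⟩ := IsPGroup.iff_card.mp P.2
      rw [hj]
      exact Nat.Coprime.pow_right j hKcop)).eq_bot

end Cfsg.Agent.Lib.Lead
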