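import Mathlib
import Cfsg.Agent.Lib.Lead.FrobNPC2

set_option autoImplicit false
open Pointwise

namespace Cfsg.Agent.Lib.Lead

universe u

section
variable {G : Type u} [Group G]

/-- `p'`-elements normalising a `p`-subgroup centralise it. -/
def PLocalCentral (p : ℕ) (G : Type u) [Group G] : Prop :=
  ∀ D : Subgroup G, IsPGroup p D → ∀ g ∈ Subgroup.normalizer (D : Set G),
    Nat.Coprime (orderOf g) p → g ∈ Subgroup.centralizer (D : Set G)

/-- `p`-part decomposition with both parts powers of `g` -/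
theorem exists_ppart_decomp' [Finite G] (p : ℕ) [hp : Fact p.Prime] (g : G) :
    ∃ u v : G, g = u * v ∧ u ∈ Subgroup.zpowers g ∧ v ∈ Subgroup.zpowers g ∧
      (∃ k : ℕ, u ^ p ^ k = 1) ∧ Nat.Coprime (orderOf v) p := by
  have hn : orderOf g ≠ 0 := (orderOf_pos g).ne'
  obtain ⟨k, m, hm, hkm⟩ := Nat.exists_eq_pow_mul_and_not_dvd hn p hp.out.one_lt.ne'
  have hcop : Nat.Coprime (p ^ k) m :=
    Nat.Coprime.pow_left k ((Nat.Prime.coprime_iff_not_dvd hp.out).mpr hm)
  obtain ⟨a, b, hab⟩ := Nat.Coprime.isCoprime hcop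
  refine ⟨g ^ (b * (m : ℤ)), g ^ (a * ((p ^ k : ℕ) : ℤ)), ?_, Subgroup.zpow_mem_zpowers g _,
    Subgroup.zpow_mem_zpowers g _, ⟨k, ?_⟩, ?_⟩
  · rw [← zpow_add, add_comm, hab, zpow_one]
  · rw [← zpow_natCast, ← zpow_mul]
    have : b * (m : ℤ) * ((p ^ k : ℕ) : ℤ) = b * ((orderOf g : ℕ) : ℤ) := by
      rw [hkm]; push_cast; ring
    rw [this, zpow_mul', zpow_natCast, pow_orderOf_eq_one, one_zpow]
  · have h1 : (g ^ (a * (p ^ k : ℕ) : ℤ)) ^ m = 1 := by
      rw [← zpow_natCast, ← zpow_mul]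
      have : a * ((p ^ k : ℕ) : ℤ) * (m : ℤ) = a * ((orderOf g : ℕ) : ℤ) := by
        rw [hkm]; push_cast; ring
      rw [this, zpow_mul', zpow_natCast, pow_orderOf_eq_one, one_zpow]
    have h2 : orderOf (g ^ (a * (p ^ k : ℕ) : ℤ)) ∣ m := orderOf_dvd_of_pow_eq_one h1
    exact Nat.Coprime.coprime_dvd_left h2 ((Nat.Prime.coprime_iff_not_dvd hp.out).mpr hm).symm

variable [Finite G] {p : ℕ} [hp : Fact p.Prime]

/-- under `PLocalCentral`, `N(D) = C(D) T₀` for a Sylow subgroup `T₀` of `N(D)` -/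
theorem PLocalCentral.normalizer_factor (h : PLocalCentral p G) (D : Subgroup G)
    (hD : IsPGroup p D) (T₀ : Subgroup G)
    (hT₀ : ¬ p ∣ T₀.relIndex (Subgroup.normalizer (D : Set G))) (n : G)
    (hn : n ∈ Subgroup.normalizer (D : Set G)) :
    ∃ c ∈ Subgroup.centralizer (D : Set G), ∃ t ∈ T₀, n = c * t := by
  classical
  set N := Subgroup.normalizer (D : Set G) with hN
  set C := Subgroup.centralizer (D : Set G) with hC
  have hNC : N ≤ Subgroup.normalizer (C : Set G) := normalizer_le_normalizer_centralizer D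
  have hBn : (C.subgroupOf N).Normal := Subgroup.normal_subgroupOf_of_le_normalizer hNC
  have hquot : IsPGroup p (N ⧸ C.subgroupOf N) := by
    intro q
    obtain ⟨y, rfl⟩ := QuotientGroup.mk_surjective q
    obtain ⟨u, v, huv, hu, hv, ⟨k, hk⟩, hcop⟩ := exists_ppart_decomp' p (y : G)
    have hzN : Subgroup.zpowers (y : G) ≤ N := (Subgroup.zpowers_le).mpr y.2
    have hvC : v ∈ C := h D hD v (hzN hv) hcop
    have hcomm : Commute u v := by
      obtain ⟨i, rfl⟩ := Subgroup.mem_zpowers_iff.mp hu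
      obtain ⟨j, rfl⟩ := Subgroup.mem_zpowers_iff.mp hv
      exact (Commute.refl (y : G)).zpow_zpow i j
    refine ⟨k, ?_⟩
    rw [← QuotientGroup.mk_pow, QuotientGroup.eq_one_iff, Subgroup.mem_subgroupOf]
    rw [Subgroup.coe_pow, huv, hcomm.mul_pow, hk, one_mul]
    exact C.pow_mem hvC _
  have hB : ∃ j : ℕ, (C.subgroupOf N).index = p ^ j := by
    rw [Subgroup.index_eq_card]
    exact IsPGroup.iff_card.mp hquot
  have h3 := sup_eq_top_of_coprime_index (T₀.subgroupOf N) (C.subgroupOf N) hT₀ hB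
  have h4 : (⟨n, hn⟩ : N) ∈ C.subgroupOf N ⊔ T₀.subgroupOf N := by
    rw [sup_comm, h3]; trivial
  obtain ⟨y, hy, z, hz, hyz⟩ := Subgroup.mem_sup_of_normal_left.mp h4
  refine ⟨y, Subgroup.mem_subgroupOf.mp hy, z, Subgroup.mem_subgroupOf.mp hz, ?_⟩
  have := congrArg Subtype.val hyz
  exact this.symm

end

end Cfsg.Agent.Lib.Lead
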