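import Mathlib
import Cfsg.Agent.Lib.Lead.FrobNPC3

set_option autoImplicit false
open Pointwise

namespace Cfsg.Agent.Lib.Lead

universe u

section
variable {G : Type u} [Group G] [Finite G] {p : ℕ} [hp : Fact p.Prime]

theorem sylow_card_eq (S T : Sylow p G) : Nat.card S = Nat.card T := by
  rw [Sylow.card_eq_multiplicity, Sylow.card_eq_multiplicity]

theorem card_lt_of_lt' {A B : Subgroup G} (h : A < B) : Nat.card A < Nat.card B := by
  by_contra hge
  push Not at hge
  exact h.ne (Subgroup.eq_of_le_of_card_ge h.le hge)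

/-- Sylow subgroups are conjugate by an element centralising their intersection. -/
theorem PLocalCentral.sylow_conj (h : PLocalCentral p G) :
    ∀ m : ℕ, ∀ S T : Sylow p G,
      Nat.card S ≤ Nat.card ((S : Subgroup G) ⊓ (T : Subgroup G) : Subgroup G) + m →
      ∃ x ∈ Subgroup.centralizer ((((S : Subgroup G) ⊓ (T : Subgroup G) : Subgroup G)) : Set G),
        MulAut.conj x • (S : Subgroup G) = (T : Subgroup G) := by
  intro m
  induction m with
  | zero =>
    intro S T hm
    have h1 : (S : Subgroup G) ⊓ (T : Subgroup G) = S :=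
      Subgroup.eq_of_le_of_card_ge inf_le_left (by simpa using hm)
    have h2 : (S : Subgroup G) ≤ T := inf_eq_left.mp h1
    have h3 : (S : Subgroup G) = T :=
      Subgroup.eq_of_le_of_card_ge h2 (sylow_card_eq S T).ge
    exact ⟨1, Subgroup.one_mem _, by rw [map_one, one_smul, h3]⟩
  | succ m ih =>
    intro S T hm
    classical
    by_cases hST : (S : Subgroup G) ≤ T
    · have h3 : (S : Subgroup G) = T :=
        Subgroup.eq_of_le_of_card_ge hST (sylow_card_eq S T).ge
      exact ⟨1, Subgroup.one_mem _, by rw [map_one, one_smul, h3]⟩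
    set D : Subgroup G := (S : Subgroup G) ⊓ (T : Subgroup G) with hD
    have hDS : D < S := lt_of_le_of_ne inf_le_left (fun h0 => hST (by rw [← h0]; exact inf_le_right))
    have hDT : D < T := by
      refine lt_of_le_of_ne inf_le_right (fun h0 => hST ?_)
      have h1 : (T : Subgroup G) ≤ S := by rw [← h0]; exact inf_le_left
      have h2 : (T : Subgroup G) = S := Subgroup.eq_of_le_of_card_ge h1 (sylow_card_eq T S).ge
      rw [h2]
    have hDp : IsPGroup p D := S.2.to_inf_left
    set N := Subgroup.normalizer (D : Set G) with hN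
    have hSN : D < (S : Subgroup G) ⊓ N := pgroup_normalizer_grows p S D S.2 hDS
    have hTN : D < (T : Subgroup G) ⊓ N := pgroup_normalizer_grows p T D T.2 hDT
    -- a Sylow subgroup of `N` containing `S ⊓ N`
    have hQ : IsPGroup p (((S : Subgroup G) ⊓ N).subgroupOf N) := (S.2.to_inf_left).comap_subtype
    obtain ⟨T₀', hQT⟩ := hQ.exists_le_sylow
    set T₀ : Subgroup G := (T₀' : Subgroup N).map N.subtype with hT₀
    have hT₀N : T₀ ≤ N := Subgroup.map_subtype_le _
    have hT₀p : IsPGroup p T₀ := T₀'.2.map N.subtype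
    have hT₀idx : ¬ p ∣ T₀.relIndex N := by
      have h2 : T₀.relIndex N = (T₀' : Subgroup N).index := by
        unfold Subgroup.relIndex Subgroup.subgroupOf
        rw [hT₀, Subgroup.comap_map_eq_self_of_injective N.subtype_injective]
      rw [h2]
      exact T₀'.not_dvd_index
    have hSNT₀ : (S : Subgroup G) ⊓ N ≤ T₀ := by
      intro y hy
      exact ⟨⟨y, (Subgroup.mem_inf.mp hy).2⟩, hQT (Subgroup.mem_subgroupOf.mpr hy), rfl⟩
    -- `T ⊓ N` lies in an `N`-conjugate of `T₀`
    have hQ2 : IsPGroup p (((T : Subgroup G) ⊓ N).subgroupOf N) := (T.2.to_inf_left).comap_subtype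
    obtain ⟨T₁', hQT1⟩ := hQ2.exists_le_sylow
    obtain ⟨n', hn'⟩ := MulAction.exists_smul_eq N T₀' T₁'
    have hTNle : (T : Subgroup G) ⊓ N ≤ MulAut.conj (n' : G) • T₀ := by
      intro y hy
      have h1 : (⟨y, (Subgroup.mem_inf.mp hy).2⟩ : N) ∈ (T₁' : Subgroup N) :=
        hQT1 (Subgroup.mem_subgroupOf.mpr hy)
      rw [← hn', Sylow.coe_subgroup_smul, mem_conj_smul_iff] at h1
      rw [mem_conj_smul_iff]
      exact ⟨_, h1, rfl⟩
    obtain ⟨c, hc, t, ht, hnct⟩ := h.normalizer_factor D hDp T₀ hT₀idx (n' : G) n'.2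
    have hconj : MulAut.conj (n' : G) • T₀ = MulAut.conj c • T₀ := by
      rw [hnct, map_mul, mul_smul, Subgroup.conj_smul_eq_self_of_mem ht]
    rw [hconj] at hTNle
    obtain ⟨R, hT₀R⟩ := hT₀p.exists_le_sylow
    have hDR : D ≤ R := (hSN.le.trans hSNT₀).trans hT₀R
    -- first conjugation
    have hm1 : Nat.card S ≤ Nat.card ((S : Subgroup G) ⊓ (R : Subgroup G) : Subgroup G) + m := by
      have h1 : Nat.card D < Nat.card ((S : Subgroup G) ⊓ N : Subgroup G) := card_lt_of_lt' hSN
      have h2 : Nat.card ((S : Subgroup G) ⊓ N : Subgroup G) ≤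
          Nat.card ((S : Subgroup G) ⊓ (R : Subgroup G) : Subgroup G) :=
        Nat.le_of_dvd Nat.card_pos
          (Subgroup.card_dvd_of_le (le_inf inf_le_left (hSNT₀.trans hT₀R)))
      omega
    obtain ⟨x₁, hx₁, hx₁S⟩ := ih S R hm1
    have hx₁D : x₁ ∈ Subgroup.centralizer (D : Set G) :=
      Subgroup.centralizer_le (show (D : Set G) ⊆ _ from (le_inf inf_le_left hDR : D ≤ _)) hx₁
    -- second conjugation
    set R' : Sylow p G := c • R with hR'
    have hR'coe : (R' : Subgroup G) = MulAut.conj c • (R : Subgroup G) := Sylow.coe_subgroup_smul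
    have hTNR' : (T : Subgroup G) ⊓ N ≤ (R' : Subgroup G) ⊓ (T : Subgroup G) := by
      refine le_inf ?_ inf_le_left
      rw [hR'coe]
      exact hTNle.trans (Subgroup.pointwise_smul_le_pointwise_smul_iff.mpr hT₀R)
    have hm2 : Nat.card R' ≤ Nat.card ((R' : Subgroup G) ⊓ (T : Subgroup G) : Subgroup G) + m := by
      have h1 : Nat.card D < Nat.card ((T : Subgroup G) ⊓ N : Subgroup G) := card_lt_of_lt' hTN
      have h2 : Nat.card ((T : Subgroup G) ⊓ N : Subgroup G) ≤
          Nat.card ((R' : Subgroup G) ⊓ (T : Subgroup G) : Subgroup G) :=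
        Nat.le_of_dvd Nat.card_pos (Subgroup.card_dvd_of_le hTNR')
      have h3 := sylow_card_eq R' S
      omega
    obtain ⟨x₂, hx₂, hx₂R⟩ := ih R' T hm2
    have hDR' : D ≤ R' := by
      intro d hd
      rw [hR'coe, mem_conj_smul_iff]
      have h1 := (Subgroup.mem_centralizer_iff.mp hc) d hd
      have h2 : c⁻¹ * d * c = d := by rw [mul_assoc, h1, inv_mul_cancel_left]
      rw [h2]
      exact hDR hd
    have hx₂D : x₂ ∈ Subgroup.centralizer (D : Set G) :=
      Subgroup.centralizer_le (show (D : Set G) ⊆ _ from (le_inf hDR' inf_le_right : D ≤ _)) hx₂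
    refine ⟨x₂ * c * x₁, Subgroup.mul_mem _ (Subgroup.mul_mem _ hx₂D hc) hx₁D, ?_⟩
    rw [map_mul, map_mul, mul_smul, mul_smul, hx₁S, ← hR'coe, hx₂R]

/-- `PLocalCentral` implies control of fusion. -/
theorem PLocalCentral.control (h : PLocalCentral p G) (P : Sylow p G) :
    ControlsOwnFusion (P : Subgroup G) := by
  intro x hx g hgx
  set S : Sylow p G := g • P with hS
  have hScoe : (S : Subgroup G) = MulAut.conj g • (P : Subgroup G) := Sylow.coe_subgroup_smul
  have hyS : g * x * g⁻¹ ∈ (S : Subgroup G) := by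
    rw [hScoe, mem_conj_smul_iff]
    have : g⁻¹ * (g * x * g⁻¹) * g = x := by group
    rw [this]; exact hx
  obtain ⟨c, hc, hcS⟩ := h.sylow_conj (Nat.card S) S P (Nat.le_add_left _ _)
  have hcy : c * (g * x * g⁻¹) * c⁻¹ = g * x * g⁻¹ := by
    have h1 := (Subgroup.mem_centralizer_iff.mp hc) (g * x * g⁻¹) (Subgroup.mem_inf.mpr ⟨hyS, hgx⟩)
    rw [← h1, mul_inv_cancel_right]
  have hn : c * g ∈ Subgroup.normalizer ((P : Subgroup G) : Set G) := by
    rw [mem_normalizer_iff_conj_smul, map_mul, mul_smul, ← hScoe, hcS]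
  have hPidx : ¬ p ∣ (P : Subgroup G).relIndex (Subgroup.normalizer ((P : Subgroup G) : Set G)) := by
    intro h0
    exact P.not_dvd_index (h0.trans (Subgroup.relIndex_dvd_index_of_le Subgroup.le_normalizer))
  obtain ⟨c', hc', t, ht, hct⟩ := h.normalizer_factor P P.2 P hPidx (c * g) hn
  refine ⟨t, ht, ?_⟩
  have h1 : t * x * t⁻¹ ∈ (P : Subgroup G) := Subgroup.mul_mem _ (Subgroup.mul_mem _ ht hx) (Subgroup.inv_mem _ ht)
  have h2 := (Subgroup.mem_centralizer_iff.mp hc') (t * x * t⁻¹) h1
  have h3 : c' * (t * x * t⁻¹) * c'⁻¹ = t * x * t⁻¹ := by rw [← h2, mul_inv_cancel_right]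
  have h4 : c * g * x * (c * g)⁻¹ = c * (g * x * g⁻¹) * c⁻¹ := by group
  have h5 : c * g * x * (c * g)⁻¹ = c' * (t * x * t⁻¹) * c'⁻¹ := by rw [hct]; group
  rw [← hcy, ← h4, h5, h3]

/-- **Frobenius' normal `p`-complement theorem.** -/
theorem exists_normal_complement_of_plocal (h : PLocalCentral p G) (P : Sylow p G) :
    ∃ K : Subgroup G, K.Normal ∧ K.IsComplement' (P : Subgroup G) :=
  exists_normal_complement_of_control (Nat.card G) G rfl P (h.control P)

end

end Cfsg.Agent.Lib.Lead
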