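import Mathlib
import Cfsg.Agent.Lib.Lead.FrobNPC4
import Cfsg.Agent.Lib.Helper4.NPC

set_option autoImplicit false
open Pointwise

namespace Cfsg.Agent.Lib.Lead

universe u

section
variable {G : Type u} [Group G] [Finite G] {p : ℕ} [hp : Fact p.Prime]

/-- the hypothesis of Frobenius' theorem for subgroups of one Sylow subgroup gives it for all
`p`-subgroups -/
theorem plocalCentral_of_sylow (P : Sylow p G)
    (hyp : ∀ Q : Subgroup G, Q ≤ (P : Subgroup G) → ∀ g ∈ Subgroup.normalizer (Q : Set G),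
      Nat.Coprime (orderOf g) p → g ∈ Subgroup.centralizer (Q : Set G)) : PLocalCentral p G := by
  intro D hD g hg hcop
  obtain ⟨R, hDR⟩ := hD.exists_le_sylow
  obtain ⟨h, hh⟩ := MulAction.exists_smul_eq G P R
  have hR : (R : Subgroup G) = MulAut.conj h • (P : Subgroup G) := by
    rw [← hh, Sylow.coe_subgroup_smul]
  set Q : Subgroup G := MulAut.conj h⁻¹ • D with hQ
  have hQP : Q ≤ (P : Subgroup G) := by
    intro y hy
    rw [hQ, mem_conj_smul_iff, inv_inv] at hy
    have h1 := hDR hy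
    rw [hR, mem_conj_smul_iff] at h1
    have h2 : h⁻¹ * (h * y * h⁻¹) * h = y := by group
    rw [h2] at h1
    exact h1
  have hg' : h⁻¹ * g * h ∈ Subgroup.normalizer (Q : Set G) := by
    rw [hQ, conj_smul_mem_normalizer_iff, inv_inv]
    have : h * (h⁻¹ * g * h) * h⁻¹ = g := by group
    rw [this]; exact hg
  have hord : orderOf (h⁻¹ * g * h) = orderOf g := by
    have := orderOf_conj' h⁻¹ g
    rw [inv_inv] at this
    exact this
  have h1 := hyp Q hQP _ hg' (by rw [hord]; exact hcop)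
  rw [Subgroup.mem_centralizer_iff] at h1 ⊢
  intro d hd
  have hdQ : h⁻¹ * d * h ∈ Q := by
    rw [hQ, mem_conj_smul_iff, inv_inv]
    have : h * (h⁻¹ * d * h) * h⁻¹ = d := by group
    rw [this]; exact hd
  have h2 := h1 _ hdQ
  have h3 : d * g = h * (h⁻¹ * d * h * (h⁻¹ * g * h)) * h⁻¹ := by group
  have h4 : g * d = h * (h⁻¹ * g * h * (h⁻¹ * d * h)) * h⁻¹ := by group
  rw [h3, h4, h2]

/-- elements of order prime to `p` lie in a normal subgroup of `p`-power index -/
theorem mem_of_coprime_orderOf (N : Subgroup G) [N.Normal] (hN : ∃ k : ℕ, N.index = p ^ k) (g : G)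
    (hg : Nat.Coprime (orderOf g) p) : g ∈ N := by
  have h1 : (Nat.card (Subgroup.zpowers g)).Coprime p := by rw [Nat.card_zpowers]; exact hg
  exact le_of_coprime_card_of_normal_index_pow N hN _ h1 (Subgroup.mem_zpowers g)

theorem index_eq_pow_of_isComplement' (P : Sylow p G) (N : Subgroup G)
    (hc : N.IsComplement' (P : Subgroup G)) : ∃ k : ℕ, N.index = p ^ k := by
  obtain ⟨k, hk⟩ := IsPGroup.iff_card.mp P.2
  refine ⟨k, ?_⟩
  have h1 := hc.card_mul_card
  have h2 := N.card_mul_index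
  rw [← h1, hk] at h2
  exact Nat.eq_of_mul_eq_mul_left Nat.card_pos h2

theorem card_coprime_of_isComplement' (P : Sylow p G) (N : Subgroup G)
    (hc : N.IsComplement' (P : Subgroup G)) : (Nat.card N).Coprime p := by
  have h1 := hc.card_mul_card
  have h2 := (P : Subgroup G).card_mul_index
  rw [← h1, mul_comm] at h2
  have h3 : (P : Subgroup G).index = Nat.card N := Nat.eq_of_mul_eq_mul_right Nat.card_pos h2
  rw [← h3, Nat.coprime_comm]
  exact (Nat.Prime.coprime_iff_not_dvd hp.out).mpr P.not_dvd_index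

/-- a normal `p`-complement forces `PLocalCentral` -/
theorem plocalCentral_of_complement (P : Sylow p G) (N : Subgroup G) [hN : N.Normal]
    (hc : N.IsComplement' (P : Subgroup G)) : PLocalCentral p G := by
  intro D hD g hg hcop
  have hgN : g ∈ N := mem_of_coprime_orderOf N (index_eq_pow_of_isComplement' P N hc) g hcop
  have hdisj : N ⊓ D = ⊥ := by
    apply (Subgroup.disjoint_of_coprime_natCard _).eq_bot
    obtain ⟨j, hj⟩ := IsPGroup.iff_card.mp hD
    rw [hj]
    exact Nat.Coprime.pow_right j (card_coprime_of_isComplement' P N hc)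
  rw [Subgroup.mem_centralizer_iff]
  intro d hd
  have h1 : g * d * g⁻¹ ∈ D := (Subgroup.mem_normalizer_iff.mp hg d).mp hd
  have h2 : g * d * g⁻¹ * d⁻¹ ∈ D := D.mul_mem h1 (D.inv_mem hd)
  have h3 : g * d * g⁻¹ * d⁻¹ ∈ N := by
    have : g * d * g⁻¹ * d⁻¹ = g * (d * g⁻¹ * d⁻¹) := by group
    rw [this]
    exact N.mul_mem hgN (hN.conj_mem _ (N.inv_mem hgN) d)
  have h4 : g * d * g⁻¹ * d⁻¹ ∈ N ⊓ D := Subgroup.mem_inf.mpr ⟨h3, h2⟩
  rw [hdisj, Subgroup.mem_bot] at h4
  have : g * d = (g * d * g⁻¹ * d⁻¹) * (d * g) := by group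
  rw [this, h4, one_mul]

/-- `PLocalCentral` is equivalent to the existence of a normal `p`-complement -/
theorem hasNormalPComplement_iff_plocalCentral :
    Cfsg.HasNormalPComplement p G ↔ PLocalCentral p G := by
  constructor
  · rintro ⟨P, N, hN, hc⟩
    exact plocalCentral_of_complement P N hc
  · intro h
    obtain ⟨P⟩ : Nonempty (Sylow p G) := inferInstance
    obtain ⟨K, hK, hc⟩ := exists_normal_complement_of_plocal h P
    exact ⟨P, K, hK, hc⟩

/-- subgroups inherit `PLocalCentral` -/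
theorem PLocalCentral.subgroup (h : PLocalCentral p G) (L : Subgroup G) : PLocalCentral p L := by
  intro D hD g hg hcop
  have hD' : IsPGroup p (D.map L.subtype) := hD.map _
  have hg' : (g : G) ∈ Subgroup.normalizer ((D.map L.subtype : Subgroup G) : Set G) := by
    rw [Subgroup.mem_normalizer_iff] at hg ⊢
    intro y
    constructor
    · rintro ⟨d, hd, rfl⟩
      exact ⟨g * d * g⁻¹, (hg d).mp hd, rfl⟩
    · rintro ⟨d, hd, hdy⟩
      have hyL : y ∈ L := by
        have h1 : y = (g : G)⁻¹ * ((g : G) * y * (g : G)⁻¹) * (g : G) := by group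
        rw [h1, ← hdy]
        exact L.mul_mem (L.mul_mem (L.inv_mem g.2) d.2) g.2
      refine ⟨⟨y, hyL⟩, ?_, rfl⟩
      have h5 : g * ⟨y, hyL⟩ * g⁻¹ = d := Subtype.ext hdy.symm
      have h6 : (⟨y, hyL⟩ : L) ∈ D := (hg ⟨y, hyL⟩).mpr (by rw [h5]; exact hd)
      exact h6
  have hord : orderOf (g : G) = orderOf g := Subgroup.orderOf_coe g
  have h1 := h (D.map L.subtype) hD' (g : G) hg' (by rw [hord]; exact hcop)
  rw [Subgroup.mem_centralizer_iff] at h1 ⊢
  intro d hd
  have h2 := h1 (d : G) ⟨d, hd, rfl⟩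
  exact Subtype.ext h2

theorem hasNormalPComplement_subgroup (h : Cfsg.HasNormalPComplement p G) (L : Subgroup G) :
    Cfsg.HasNormalPComplement p L :=
  hasNormalPComplement_iff_plocalCentral.mpr
    ((hasNormalPComplement_iff_plocalCentral.mp h).subgroup L)

end

end Cfsg.Agent.Lib.Lead
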