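import Mathlib
import Cfsg.Agent.Lib.Lead.FrobNPC5
import Cfsg.Agent.Lib.Lead.HallTools
import Cfsg.Agent.Lib.Helper4.NPC

set_option autoImplicit false

namespace Cfsg.Agent.Lib.Lead

namespace GT

universe u

/-- `X` has a normal `p`-complement: a normal subgroup of order prime to `p` and `p`-power index -/
def PNilp (p : ℕ) (X : Type*) [Group X] : Prop :=
  ∃ K : Subgroup X, K.Normal ∧ (Nat.card K).Coprime p ∧ ∃ k : ℕ, K.index = p ^ k

section

variable {p : ℕ} [hpf : Fact p.Prime]

theorem pnilp_iff {X : Type u} [Group X] [Finite X] :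
    PNilp p X ↔ Cfsg.HasNormalPComplement p X := by
  constructor
  · rintro ⟨K, hKn, hK, k, hk⟩
    exact Cfsg.Agent.Lib.Helper4.hasNormalPComplement_of_normal_coprime K hKn hK k hk
  · rintro ⟨P, N, hN, hc⟩
    exact ⟨N, hN, card_coprime_of_isComplement' P N hc, index_eq_pow_of_isComplement' P N hc⟩

theorem PNilp.of_surjective {X Y : Type*} [Group X] [Group Y] [Finite X] (h : PNilp p X)
    (f : X →* Y) (hf : Function.Surjective f) : PNilp p Y := by
  obtain ⟨K, hKn, hK, k, hk⟩ := h
  refine ⟨K.map f, Subgroup.Normal.map hKn f hf, ?_, ?_⟩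
  · have h1 := card_map_mul_card_inf_ker f K
    exact Nat.Coprime.coprime_dvd_left (Dvd.intro _ h1) hK
  · have h1 : (K.map f).index ∣ K.index := Subgroup.index_map_dvd K hf
    rw [hk] at h1
    obtain ⟨j, -, hj⟩ := (Nat.dvd_prime_pow hpf.out).mp h1
    exact ⟨j, hj⟩

theorem PNilp.of_equiv {X Y : Type*} [Group X] [Group Y] [Finite X] (h : PNilp p X)
    (e : X ≃* Y) : PNilp p Y :=
  h.of_surjective e.toMonoidHom e.surjective

theorem PNilp.subgroup {X : Type u} [Group X] [Finite X] (h : PNilp p X) (M : Subgroup X) :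
    PNilp p M :=
  pnilp_iff.mpr (hasNormalPComplement_subgroup (pnilp_iff.mp h) M)

theorem PNilp.of_injective {X Y : Type u} [Group X] [Group Y] [Finite X] (h : PNilp p X)
    (f : Y →* X) (hf : Function.Injective f) : PNilp p Y := by
  have h1 : PNilp p f.range := h.subgroup f.range
  exact h1.of_equiv (MonoidHom.ofInjective hf).symm

theorem PNilp.of_le {X : Type u} [Group X] [Finite X] {A B : Subgroup X} (h : PNilp p B)
    (hAB : A ≤ B) : PNilp p A :=
  h.of_injective (Subgroup.inclusion hAB) (Subgroup.inclusion_injective hAB)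

theorem pnilp_top_iff {X : Type u} [Group X] [Finite X] : PNilp p (⊤ : Subgroup X) ↔ PNilp p X :=
  ⟨fun h => h.of_equiv Subgroup.topEquiv, fun h => h.of_equiv Subgroup.topEquiv.symm⟩

theorem pnilp_of_eq_top {X : Type u} [Group X] [Finite X] {M : Subgroup X} (hM : M = ⊤)
    (h : PNilp p M) : PNilp p X := by
  subst hM
  exact pnilp_top_iff.mp h

theorem PNilp.of_isPGroup {X : Type*} [Group X] [Finite X] (h : IsPGroup p X) : PNilp p X := by
  refine ⟨⊥, inferInstance, by rw [Subgroup.card_bot]; exact Nat.coprime_one_left p, ?_⟩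
  rw [Subgroup.index_bot]
  exact IsPGroup.iff_card.mp h

theorem PNilp.of_quotient_coprime {X : Type*} [Group X] [Finite X] (R : Subgroup X) [R.Normal]
    (hR : (Nat.card R).Coprime p) (h : PNilp p (X ⧸ R)) : PNilp p X := by
  obtain ⟨K, hKn, hK, k, hk⟩ := h
  haveI := hKn
  refine ⟨K.comap (QuotientGroup.mk' R), inferInstance, ?_, k, ?_⟩
  · rw [card_comap_mk]
    exact Nat.Coprime.mul_left hK hR
  · rw [Subgroup.index_comap_of_surjective K (QuotientGroup.mk'_surjective R)]
    exact hk

/-- in a group with a normal `p`-complement, `p'`-elements normalizing a `p`-subgroup centralize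
it -/
theorem PNilp.centralizes {X : Type u} [Group X] [Finite X] (h : PNilp p X) (D : Subgroup X)
    (hD : IsPGroup p D) (g : X) (hg : g ∈ Subgroup.normalizer (D : Set X))
    (hgo : (orderOf g).Coprime p) : g ∈ Subgroup.centralizer (D : Set X) :=
  (hasNormalPComplement_iff_plocalCentral.mp (pnilp_iff.mp h)) D hD g hg hgo

/-- Frobenius' criterion: a group without normal `p`-complement has a nontrivial `p`-subgroup
whose normalizer has none -/
theorem exists_local_of_not_pnilp {X : Type u} [Group X] [Finite X] (h : ¬ PNilp p X) :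
    ∃ D : Subgroup X, IsPGroup p D ∧ D ≠ ⊥ ∧ ¬ PNilp p (Subgroup.normalizer (D : Set X)) := by
  have h1 : ¬ PLocalCentral p X := fun hc =>
    h (pnilp_iff.mpr (hasNormalPComplement_iff_plocalCentral.mpr hc))
  unfold PLocalCentral at h1
  push_neg at h1
  obtain ⟨D, hD, g, hg, hgo, hgc⟩ := h1
  refine ⟨D, hD, ?_, ?_⟩
  · rintro rfl
    apply hgc
    rw [Subgroup.mem_centralizer_iff]
    intro d hd
    rw [SetLike.mem_coe, Subgroup.mem_bot] at hd
    rw [hd, one_mul, mul_one]
  · intro hN
    apply hgc
    set L := Subgroup.normalizer (D : Set X) with hL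
    have h2 := hN.centralizes (D.subgroupOf L) (hD.comap_of_injective L.subtype L.subtype_injective)
      ⟨g, hg⟩ (Subgroup.le_normalizer (H := D.subgroupOf L) |> fun _ => by
        haveI : (D.subgroupOf L).Normal := Subgroup.normal_in_normalizer
        rw [Subgroup.normalizer_eq_top_iff.mpr inferInstance]; exact Subgroup.mem_top _)
      (by rw [← Subgroup.orderOf_coe]; exact hgo)
    rw [Subgroup.mem_centralizer_iff] at h2 ⊢
    intro d hd
    have := h2 ⟨d, Subgroup.le_normalizer hd⟩ hd
    exact congrArg Subtype.val this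

end

end GT

end Cfsg.Agent.Lib.Lead
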