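import Mathlib

set_option autoImplicit false

namespace Cfsg.Agent.Lib.Lead

namespace Repl

open scoped commutatorElement

variable {S : Type*} [Group S]

/-- `A^b = b⁻¹ A b` -/
def cj (A : Subgroup S) (b : S) : Subgroup S := A.map (MulAut.conj b⁻¹).toMonoidHom

theorem mem_cj {A : Subgroup S} {b x : S} : x ∈ cj A b ↔ b * x * b⁻¹ ∈ A := by
  unfold cj
  constructor
  · rintro ⟨a, ha, rfl⟩
    simpa [MulAut.conj_apply, mul_assoc] using ha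
  · intro h
    exact ⟨b * x * b⁻¹, h, by simp [MulAut.conj_apply, mul_assoc]⟩

theorem conj_mem_cj {A : Subgroup S} {b a : S} (ha : a ∈ A) : b⁻¹ * a * b ∈ cj A b := by
  rw [mem_cj]
  have : b * (b⁻¹ * a * b) * b⁻¹ = a := by group
  rw [this]; exact ha

/-- `u(a) = a b⁻¹ a⁻¹ b` -/
def uel (b a : S) : S := a * b⁻¹ * a⁻¹ * b

theorem uel_eq (b a : S) : uel b a = a * (b⁻¹ * a * b)⁻¹ := by
  unfold uel; group

/-- the standing hypotheses of the replacement theorem -/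
structure Setup (A B : Subgroup S) (b : S) : Prop where
  comm : ∀ x ∈ A, ∀ y ∈ A, x * y = y * x
  normal : B.Normal
  der : ⁅B, B⁆ ≤ A
  hb : b ∈ B
  hbN : b ∈ Subgroup.normalizer ((Subgroup.normalizer (A : Set S) : Subgroup S) : Set S)

variable {A B : Subgroup S} {b : S}

/-- `D = A ∩ A^b` -/
def dsub (A : Subgroup S) (b : S) : Subgroup S := A ⊓ cj A b

namespace Setup

variable (h : Setup A B b)
include h

theorem conj_b_mem_N {n : S} (hn : n ∈ Subgroup.normalizer (A : Set S)) :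
    b * n * b⁻¹ ∈ Subgroup.normalizer (A : Set S) :=
  (Subgroup.mem_normalizer_iff.mp h.hbN n).mp hn

theorem conj_b_inv_mem_N {n : S} (hn : n ∈ Subgroup.normalizer (A : Set S)) :
    b⁻¹ * n * b ∈ Subgroup.normalizer (A : Set S) := by
  have := (Subgroup.mem_normalizer_iff.mp (Subgroup.inv_mem _ h.hbN) n).mp hn
  simpa using this

theorem cj_le_N : cj A b ≤ Subgroup.normalizer (A : Set S) := by
  intro x hx
  rw [mem_cj] at hx
  have h1 := h.conj_b_inv_mem_N (Subgroup.le_normalizer hx)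
  have : b⁻¹ * (b * x * b⁻¹) * b = x := by group
  rwa [this] at h1

/-- elements of `A^b` normalize `A` -/
theorem conj_mem_A {x a : S} (hx : x ∈ cj A b) (ha : a ∈ A) : x * a * x⁻¹ ∈ A :=
  (Subgroup.mem_normalizer_iff.mp (h.cj_le_N hx) a).mp ha

/-- elements of `A` normalize `A^b` -/
theorem conj_mem_cj' {a x : S} (ha : a ∈ A) (hx : x ∈ cj A b) : a * x * a⁻¹ ∈ cj A b := by
  rw [mem_cj] at hx ⊢
  have hn := h.conj_b_mem_N (Subgroup.le_normalizer ha)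
  have h1 := (Subgroup.mem_normalizer_iff.mp hn (b * x * b⁻¹)).mp hx
  have : b * (a * x * a⁻¹) * b⁻¹ = b * a * b⁻¹ * (b * x * b⁻¹) * (b * a * b⁻¹)⁻¹ := by group
  rw [this]; exact h1

theorem comm_mem_dsub {a x : S} (ha : a ∈ A) (hx : x ∈ cj A b) :
    a * x * a⁻¹ * x⁻¹ ∈ dsub A b := by
  constructor
  · have h1 := h.conj_mem_A hx (A.inv_mem ha)
    have : a * x * a⁻¹ * x⁻¹ = a * (x * a⁻¹ * x⁻¹) := by group
    rw [this]; exact A.mul_mem ha h1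
  · exact (cj A b).mul_mem (h.conj_mem_cj' ha hx) ((cj A b).inv_mem hx)

theorem dsub_comm_A {d a : S} (hd : d ∈ dsub A b) (ha : a ∈ A) : d * a = a * d :=
  h.comm d hd.1 a ha

theorem dsub_comm_cj {d x : S} (hd : d ∈ dsub A b) (hx : x ∈ cj A b) : d * x = x * d := by
  have h1 := mem_cj.mp hd.2
  have h2 := mem_cj.mp hx
  have h3 := h.comm _ h1 _ h2
  have e1 : d * x = b⁻¹ * ((b * d * b⁻¹) * (b * x * b⁻¹)) * b := by group
  have e2 : x * d = b⁻¹ * ((b * x * b⁻¹) * (b * d * b⁻¹)) * b := by group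
  rw [e1, e2, h3]

theorem der_le_dsub : ⁅B, B⁆ ≤ dsub A b := by
  have hBn := h.normal
  intro m hm
  refine ⟨h.der hm, mem_cj.mpr ?_⟩
  apply h.der
  have hn : (⁅B, B⁆ : Subgroup S).Normal := Subgroup.commutator_normal B B
  exact hn.conj_mem m hm b

theorem comm_mem_der {x y : S} (hx : x ∈ B) (hy : y ∈ B) : x * y * x⁻¹ * y⁻¹ ∈ ⁅B, B⁆ := by
  have := Subgroup.commutator_mem_commutator hx hy
  rwa [commutatorElement_def] at this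

theorem inf_le_dsub : A ⊓ B ≤ dsub A b := by
  have hBn := h.normal
  rintro w ⟨hwA, hwB⟩
  refine ⟨hwA, mem_cj.mpr ?_⟩
  have h1 : b * w * b⁻¹ * w⁻¹ ∈ A := h.der (h.comm_mem_der h.hb hwB)
  have : b * w * b⁻¹ = b * w * b⁻¹ * w⁻¹ * w := by group
  rw [this]; exact A.mul_mem h1 hwA

/-- `b⁻¹ w b ∈ A` for `w ∈ A ∩ B` -/
theorem conj_inv_mem_A_of_inf {w : S} (hwA : w ∈ A) (hwB : w ∈ B) : b⁻¹ * w * b ∈ A := by
  have hBn := h.normal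
  have h1 : b⁻¹ * w * b * w⁻¹ ∈ A := by
    have := h.der (h.comm_mem_der (B.inv_mem h.hb) hwB)
    simpa using this
  have : b⁻¹ * w * b = b⁻¹ * w * b * w⁻¹ * w := by group
  rw [this]; exact A.mul_mem h1 hwA

theorem dsub_conj_b_inv {d : S} (hd : d ∈ dsub A b) : b⁻¹ * d * b ∈ dsub A b := by
  have hBn := h.normal
  refine ⟨?_, conj_mem_cj hd.1⟩
  -- d = b⁻¹ a' b with a' ∈ A
  set a' := b * d * b⁻¹ with ha'
  have ha'A : a' ∈ A := mem_cj.mp hd.2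
  -- w = a'⁻¹ d ∈ A ∩ B
  have hwA : a'⁻¹ * d ∈ A := A.mul_mem (A.inv_mem ha'A) hd.1
  have hwB : a'⁻¹ * d ∈ B := by
    have e : a'⁻¹ * d = (b * d⁻¹ * b⁻¹ * d) := by rw [ha']; group
    rw [e]
    have h1 : d⁻¹ * b⁻¹ * d ∈ B := by
      have := h.normal.conj_mem b⁻¹ (B.inv_mem h.hb) d⁻¹
      simpa using this
    have e2 : b * d⁻¹ * b⁻¹ * d = b * (d⁻¹ * b⁻¹ * d) := by group
    rw [e2]; exact B.mul_mem h.hb h1
  have h2 := h.conj_inv_mem_A_of_inf hwA hwB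
  have e : b⁻¹ * d * b = d * (b⁻¹ * (a'⁻¹ * d) * b) := by rw [ha']; group
  rw [e]; exact A.mul_mem hd.1 h2

theorem dsub_conj_b {d : S} (hd : d ∈ dsub A b) : b * d * b⁻¹ ∈ dsub A b := by
  have hBn := h.normal
  have ha'A : b * d * b⁻¹ ∈ A := mem_cj.mp hd.2
  refine ⟨ha'A, mem_cj.mpr ?_⟩
  -- a' = d w' with w' = d⁻¹ b d b⁻¹ ∈ A ∩ B
  have hwA : d⁻¹ * (b * d * b⁻¹) ∈ A := A.mul_mem (A.inv_mem hd.1) ha'A
  have hwB : d⁻¹ * (b * d * b⁻¹) ∈ B := by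
    have h1 : d⁻¹ * b * d ∈ B := by
      have := h.normal.conj_mem b h.hb d⁻¹
      simpa using this
    have e2 : d⁻¹ * (b * d * b⁻¹) = (d⁻¹ * b * d) * b⁻¹ := by group
    rw [e2]; exact B.mul_mem h1 (B.inv_mem h.hb)
  have h3 : b * (d⁻¹ * (b * d * b⁻¹)) * b⁻¹ ∈ A := by
    have h1 : b * (d⁻¹ * (b * d * b⁻¹)) * b⁻¹ * (d⁻¹ * (b * d * b⁻¹))⁻¹ ∈ A :=
      h.der (h.comm_mem_der h.hb hwB)
    have : b * (d⁻¹ * (b * d * b⁻¹)) * b⁻¹ =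
        b * (d⁻¹ * (b * d * b⁻¹)) * b⁻¹ * (d⁻¹ * (b * d * b⁻¹))⁻¹ * (d⁻¹ * (b * d * b⁻¹)) := by
      group
    rw [this]; exact A.mul_mem h1 hwA
  have e : b * (b * d * b⁻¹) * b⁻¹ = (b * d * b⁻¹) * (b * (d⁻¹ * (b * d * b⁻¹)) * b⁻¹) := by group
  rw [e]; exact A.mul_mem ha'A h3

theorem uel_mem_B {a : S} : uel b a ∈ B := by
  have h1 : a * b⁻¹ * a⁻¹ ∈ B := h.normal.conj_mem b⁻¹ (B.inv_mem h.hb) a
  exact B.mul_mem h1 h.hb

theorem uel_mem_N {a : S} (ha : a ∈ A) : uel b a ∈ Subgroup.normalizer (A : Set S) := by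
  rw [uel_eq]
  exact Subgroup.mul_mem _ (Subgroup.le_normalizer ha)
    (Subgroup.inv_mem _ (h.cj_le_N (conj_mem_cj ha)))

theorem dsub_comm_uel {d a : S} (hd : d ∈ dsub A b) (ha : a ∈ A) : d * uel b a = uel b a * d := by
  rw [uel_eq]
  have h1 := h.dsub_comm_A hd ha
  have h2 : d * (b⁻¹ * a * b)⁻¹ = (b⁻¹ * a * b)⁻¹ * d :=
    h.dsub_comm_cj hd ((cj A b).inv_mem (conj_mem_cj ha))
  calc d * (a * (b⁻¹ * a * b)⁻¹) = (d * a) * (b⁻¹ * a * b)⁻¹ := (mul_assoc d a _).symm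
    _ = (a * d) * (b⁻¹ * a * b)⁻¹ := by rw [h1]
    _ = a * (d * (b⁻¹ * a * b)⁻¹) := mul_assoc a d _
    _ = a * ((b⁻¹ * a * b)⁻¹ * d) := by rw [h2]
    _ = a * (b⁻¹ * a * b)⁻¹ * d := (mul_assoc a _ d).symm

/-- `u(a₁a₂) = u(a₁) u(a₂) d` with `d ∈ D` -/
theorem uel_mul {a₁ a₂ : S} (ha₁ : a₁ ∈ A) (ha₂ : a₂ ∈ A) :
    ∃ d ∈ dsub A b, uel b (a₁ * a₂) = uel b a₁ * uel b a₂ * d := by
  refine ⟨(uel b a₁ * uel b a₂)⁻¹ * uel b (a₁ * a₂), ?_, by group⟩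
  -- compute: (u₁ u₂)⁻¹ u₁₂ = a₂⁻¹ x a₂ x⁻¹ conjugated suitably
  obtain ⟨x, hx⟩ : ∃ x, x = b⁻¹ * a₁ * b := ⟨_, rfl⟩
  obtain ⟨y, hy⟩ : ∃ y, y = b⁻¹ * a₂ * b := ⟨_, rfl⟩
  have hxc : x ∈ cj A b := by rw [hx]; exact conj_mem_cj ha₁
  have hyc : y ∈ cj A b := by rw [hy]; exact conj_mem_cj ha₂
  have hcomm : x * y = y * x := by
    have h1 := mem_cj.mp hxc
    have h2 := mem_cj.mp hyc
    have h3 := h.comm _ h1 _ h2
    have e1 : x * y = b⁻¹ * ((b * x * b⁻¹) * (b * y * b⁻¹)) * b := by group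
    have e2 : y * x = b⁻¹ * ((b * y * b⁻¹) * (b * x * b⁻¹)) * b := by group
    rw [e1, e2, h3]
  have e0 : (uel b a₁ * uel b a₂)⁻¹ * uel b (a₁ * a₂) =
      y * a₂⁻¹ * x * a₂ * (x * y)⁻¹ := by
    rw [uel_eq, uel_eq, uel_eq, hx, hy]; group
  have e : (uel b a₁ * uel b a₂)⁻¹ * uel b (a₁ * a₂) =
      y * (a₂⁻¹ * x * a₂ * x⁻¹) * y⁻¹ := by
    rw [e0, hcomm]; group
  rw [e]
  have h1 : a₂⁻¹ * x * a₂ * x⁻¹ ∈ dsub A b := by
    have := h.comm_mem_dsub (A.inv_mem ha₂) hxc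
    simpa using this
  have h2 := h.dsub_comm_cj h1 hyc
  have : y * (a₂⁻¹ * x * a₂ * x⁻¹) * y⁻¹ = a₂⁻¹ * x * a₂ * x⁻¹ := by
    rw [← h2]; group
  rw [this]; exact h1

end Setup

end Repl

end Cfsg.Agent.Lib.Lead
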