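import Mathlib
import Cfsg.Agent.Lib.Lead.Replacement1

set_option autoImplicit false

namespace Cfsg.Agent.Lib.Lead

namespace Repl

open scoped commutatorElement

variable {S : Type*} [Group S] {A B : Subgroup S} {b : S}

theorem uel_one (b : S) : uel b 1 = 1 := by simp [uel]

namespace Setup

variable (h : Setup A B b)
include h

/-- `u(a)⁻¹ = u(a⁻¹) d` -/
theorem uel_inv {a : S} (ha : a ∈ A) :
    ∃ d ∈ dsub A b, (uel b a)⁻¹ = uel b a⁻¹ * d := by
  obtain ⟨d, hd, he⟩ := h.uel_mul ha (A.inv_mem ha)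
  rw [mul_inv_cancel, uel_one] at he
  refine ⟨d, hd, ?_⟩
  have : (uel b a)⁻¹ = (uel b a)⁻¹ * (uel b a * uel b a⁻¹ * d) := by rw [← he, mul_one]
  rw [this]; group

/-- the subgroup `A* = D [A, b]`, as the set of all `u(a) d` -/
def astar : Subgroup S where
  carrier := {x | ∃ a ∈ A, ∃ d ∈ dsub A b, x = uel b a * d}
  one_mem' := ⟨1, A.one_mem, 1, (dsub A b).one_mem, by rw [uel_one, one_mul]⟩
  mul_mem' := by
    rintro _ _ ⟨a₁, ha₁, d₁, hd₁, rfl⟩ ⟨a₂, ha₂, d₂, hd₂, rfl⟩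
    obtain ⟨d, hd, he⟩ := h.uel_mul ha₁ ha₂
    refine ⟨a₁ * a₂, A.mul_mem ha₁ ha₂, d⁻¹ * d₁ * d₂,
      (dsub A b).mul_mem ((dsub A b).mul_mem ((dsub A b).inv_mem hd) hd₁) hd₂, ?_⟩
    have hc := h.dsub_comm_uel hd₁ ha₂
    rw [he]
    calc uel b a₁ * d₁ * (uel b a₂ * d₂) = uel b a₁ * (d₁ * uel b a₂) * d₂ := by group
      _ = uel b a₁ * (uel b a₂ * d₁) * d₂ := by rw [hc]
      _ = uel b a₁ * uel b a₂ * d * (d⁻¹ * d₁ * d₂) := by group
  inv_mem' := by
    rintro _ ⟨a, ha, d, hd, rfl⟩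
    obtain ⟨d', hd', he⟩ := h.uel_inv ha
    refine ⟨a⁻¹, A.inv_mem ha, d' * d⁻¹, (dsub A b).mul_mem hd' ((dsub A b).inv_mem hd), ?_⟩
    have hc := h.dsub_comm_uel ((dsub A b).inv_mem hd) ha
    have : (uel b a * d)⁻¹ = (uel b a)⁻¹ * d⁻¹ := by
      have : uel b a * d = d * uel b a := by
        have := h.dsub_comm_uel hd ha
        exact this.symm
      rw [this]; group
    rw [this, he]; group

theorem mem_astar {x : S} : x ∈ h.astar ↔ ∃ a ∈ A, ∃ d ∈ dsub A b, x = uel b a * d := Iff.rfl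

theorem uel_mem_astar {a : S} (ha : a ∈ A) : uel b a ∈ h.astar :=
  ⟨a, ha, 1, (dsub A b).one_mem, by rw [mul_one]⟩

theorem dsub_le_astar : dsub A b ≤ h.astar := fun d hd =>
  ⟨1, A.one_mem, d, hd, by rw [uel_one, one_mul]⟩

theorem astar_eq :
    h.astar = (A ⊓ A.map (MulAut.conj (b⁻¹)).toMonoidHom) ⊔
      Subgroup.closure {g : S | ∃ a ∈ A, g = a * b⁻¹ * a⁻¹ * b} := by
  apply le_antisymm
  · rintro _ ⟨a, ha, d, hd, rfl⟩
    refine Subgroup.mul_mem _ (Subgroup.mem_sup_right (Subgroup.subset_closure ⟨a, ha, rfl⟩))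
      (Subgroup.mem_sup_left hd)
  · apply sup_le
    · exact h.dsub_le_astar
    · rw [Subgroup.closure_le]
      rintro _ ⟨a, ha, rfl⟩
      exact h.uel_mem_astar ha

/-- `u(c) ∈ D ↔ c ∈ D` -/
theorem uel_mem_dsub_iff {c : S} (hc : c ∈ A) : uel b c ∈ dsub A b ↔ c ∈ dsub A b := by
  constructor
  · intro hd
    refine ⟨hc, ?_⟩
    have h1 : c = uel b c * (b⁻¹ * c * b) := by rw [uel_eq]; group
    rw [h1]
    exact (cj A b).mul_mem hd.2 (conj_mem_cj hc)
  · intro hd
    rw [uel_eq]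
    exact (dsub A b).mul_mem hd ((dsub A b).inv_mem (h.dsub_conj_b_inv hd))

theorem uel_rel_iff {a a' : S} (ha : a ∈ A) (ha' : a' ∈ A) :
    (uel b a)⁻¹ * uel b a' ∈ dsub A b ↔ a⁻¹ * a' ∈ dsub A b := by
  have hc : a⁻¹ * a' ∈ A := A.mul_mem (A.inv_mem ha) ha'
  obtain ⟨d, hd, he⟩ := h.uel_mul ha hc
  have e1 : a * (a⁻¹ * a') = a' := by group
  rw [e1] at he
  have e2 : (uel b a)⁻¹ * uel b a' = uel b (a⁻¹ * a') * d := by rw [he]; group
  rw [e2, ← h.uel_mem_dsub_iff hc]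
  constructor
  · intro h1
    have := (dsub A b).mul_mem h1 ((dsub A b).inv_mem hd)
    simpa using this
  · intro h1
    exact (dsub A b).mul_mem h1 hd

theorem card_astar [Finite S] : Nat.card h.astar = Nat.card A := by
  set DA : Subgroup A := (dsub A b).subgroupOf A with hDA
  set DS : Subgroup h.astar := (dsub A b).subgroupOf h.astar with hDS
  let f : A → h.astar := fun a => ⟨uel b a, h.uel_mem_astar a.2⟩
  have hrel : ∀ a a' : A, (f a)⁻¹ * f a' ∈ DS ↔ a⁻¹ * a' ∈ DA := by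
    intro a a'
    rw [hDS, hDA, Subgroup.mem_subgroupOf, Subgroup.mem_subgroupOf]
    exact h.uel_rel_iff a.2 a'.2
  let g : (A ⧸ DA) → (h.astar ⧸ DS) := Quotient.map' f (by
    intro a a' hr
    rw [QuotientGroup.leftRel_apply] at hr ⊢
    exact (hrel a a').mpr hr)
  have hg : ∀ a : A, g (QuotientGroup.mk a) = QuotientGroup.mk (f a) := fun a => rfl
  have hinj : Function.Injective g := by
    intro x y
    induction x using QuotientGroup.induction_on with
    | H a =>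
    induction y using QuotientGroup.induction_on with
    | H a' =>
    intro hxy
    rw [hg, hg, QuotientGroup.eq] at hxy
    rw [QuotientGroup.eq]
    exact (hrel a a').mp hxy
  have hsurj : Function.Surjective g := by
    intro y
    induction y using QuotientGroup.induction_on with
    | H x =>
    obtain ⟨a, ha, d, hd, hx⟩ := h.mem_astar.mp x.2
    refine ⟨QuotientGroup.mk ⟨a, ha⟩, ?_⟩
    rw [hg, QuotientGroup.eq, hDS, Subgroup.mem_subgroupOf]
    show (uel b a)⁻¹ * (x : S) ∈ dsub A b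
    rw [hx]
    have : (uel b a)⁻¹ * (uel b a * d) = d := by group
    rw [this]; exact hd
  have hcard : Nat.card (A ⧸ DA) = Nat.card (h.astar ⧸ DS) :=
    Nat.card_congr (Equiv.ofBijective g ⟨hinj, hsurj⟩)
  have h1 := Subgroup.card_eq_card_quotient_mul_card_subgroup DA
  have h2 := Subgroup.card_eq_card_quotient_mul_card_subgroup DS
  have h3 : Nat.card DA = Nat.card (dsub A b) := by
    rw [hDA]
    exact Nat.card_congr (Subgroup.subgroupOfEquivOfLe (inf_le_left : dsub A b ≤ A)).toEquiv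
  have h4 : Nat.card DS = Nat.card (dsub A b) := by
    rw [hDS]
    exact Nat.card_congr (Subgroup.subgroupOfEquivOfLe h.dsub_le_astar).toEquiv
  rw [h2, h1, hcard, h3, h4]

end Setup

end Repl

end Cfsg.Agent.Lib.Lead
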