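import Mathlib
import Cfsg.Agent.Lib.Lead.Replacement2

set_option autoImplicit false

namespace Cfsg.Agent.Lib.Lead

namespace Repl

open scoped commutatorElement

variable {S : Type*} [Group S] {A B : Subgroup S} {b : S}

theorem mem_normalizer_of_conj {K : Subgroup S} {n : S} (h1 : ∀ x ∈ K, n * x * n⁻¹ ∈ K)
    (h2 : ∀ x ∈ K, n⁻¹ * x * n ∈ K) : n ∈ Subgroup.normalizer (K : Set S) := by
  rw [Subgroup.mem_normalizer_iff]
  intro x
  constructor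
  · exact h1 x
  · intro hx
    have := h2 _ hx
    have e : n⁻¹ * (n * x * n⁻¹) * n = x := by group
    rwa [e] at this

namespace Setup

variable (h : Setup A B b)
include h

theorem astar_le_normalizer : h.astar ≤ Subgroup.normalizer (A : Set S) := by
  rintro _ ⟨a, ha, d, hd, rfl⟩
  exact Subgroup.mul_mem _ (h.uel_mem_N ha) (Subgroup.le_normalizer hd.1)

theorem der_le_astar : ⁅B, B⁆ ≤ h.astar := le_trans h.der_le_dsub h.dsub_le_astar

theorem conj_A_astar {a₀ x : S} (ha₀ : a₀ ∈ A) (hx : x ∈ h.astar) : a₀ * x * a₀⁻¹ ∈ h.astar := by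
  obtain ⟨a, ha, d, hd, rfl⟩ := hx
  obtain ⟨y, hy⟩ : ∃ y, y = b⁻¹ * a * b := ⟨_, rfl⟩
  have hyc : y ∈ cj A b := by rw [hy]; exact conj_mem_cj ha
  have h1 : y * a₀ * y⁻¹ * a₀⁻¹ ∈ dsub A b := by
    have := (dsub A b).inv_mem (h.comm_mem_dsub ha₀ hyc)
    have e : (a₀ * y * a₀⁻¹ * y⁻¹)⁻¹ = y * a₀ * y⁻¹ * a₀⁻¹ := by group
    rwa [e] at this
  have hcomm : a⁻¹ * a₀ * a = a₀ := by
    rw [mul_assoc, h.comm a₀ ha₀ a ha, ← mul_assoc, inv_mul_cancel, one_mul]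
  have hda : a₀ * d * a₀⁻¹ = d := by
    rw [← h.dsub_comm_A hd ha₀, mul_inv_cancel_right]
  refine ⟨a, ha, (y * a₀ * y⁻¹ * a₀⁻¹) * d, (dsub A b).mul_mem h1 hd, ?_⟩
  have e1 : a₀ * (uel b a * d) * a₀⁻¹ = (a₀ * uel b a * a₀⁻¹) * (a₀ * d * a₀⁻¹) := by group
  have e2 : a₀ * uel b a * a₀⁻¹ = uel b a * (y * (a⁻¹ * a₀ * a) * y⁻¹ * a₀⁻¹) := by
    rw [uel_eq, hy]; group
  rw [e1, e2, hcomm, hda, mul_assoc]

theorem A_le_normalizer_astar : A ≤ Subgroup.normalizer (h.astar : Set S) := by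
  intro a₀ ha₀
  apply mem_normalizer_of_conj
  · intro x hx; exact h.conj_A_astar ha₀ hx
  · intro x hx
    have := h.conj_A_astar (A.inv_mem ha₀) hx
    simpa using this

theorem conj_b_uel {a : S} (ha : a ∈ A) :
    (∃ m ∈ dsub A b, b * uel b a * b⁻¹ = uel b a * m) ∧
    (∃ m ∈ dsub A b, b⁻¹ * uel b a * b = uel b a * m) := by
  have hu : uel b a ∈ B := h.uel_mem_B
  constructor
  · refine ⟨(uel b a)⁻¹ * (b * uel b a * b⁻¹), ?_, by group⟩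
    apply h.der_le_dsub
    have := h.comm_mem_der (B.inv_mem hu) h.hb
    simpa [mul_assoc] using this
  · refine ⟨(uel b a)⁻¹ * (b⁻¹ * uel b a * b), ?_, by group⟩
    apply h.der_le_dsub
    have := h.comm_mem_der (B.inv_mem hu) (B.inv_mem h.hb)
    simpa [mul_assoc] using this

theorem b_mem_normalizer_astar : b ∈ Subgroup.normalizer (h.astar : Set S) := by
  apply mem_normalizer_of_conj
  · rintro _ ⟨a, ha, d, hd, rfl⟩
    obtain ⟨m, hm, he⟩ := (h.conj_b_uel ha).1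
    refine ⟨a, ha, m * (b * d * b⁻¹), (dsub A b).mul_mem hm (h.dsub_conj_b hd), ?_⟩
    have e1 : b * (uel b a * d) * b⁻¹ = (b * uel b a * b⁻¹) * (b * d * b⁻¹) := by group
    rw [e1, he, mul_assoc]
  · rintro _ ⟨a, ha, d, hd, rfl⟩
    obtain ⟨m, hm, he⟩ := (h.conj_b_uel ha).2
    refine ⟨a, ha, m * (b⁻¹ * d * b), (dsub A b).mul_mem hm (h.dsub_conj_b_inv hd), ?_⟩
    have e1 : b⁻¹ * (uel b a * d) * b = (b⁻¹ * uel b a * b) * (b⁻¹ * d * b) := by group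
    rw [e1, he, mul_assoc]

theorem conj_N_dsub {n d : S} (hn : n ∈ Subgroup.normalizer (A : Set S)) (hd : d ∈ dsub A b) :
    n * d * n⁻¹ ∈ dsub A b := by
  refine ⟨(Subgroup.mem_normalizer_iff.mp hn d).mp hd.1, mem_cj.mpr ?_⟩
  have hn' := h.conj_b_mem_N hn
  have h1 := (Subgroup.mem_normalizer_iff.mp hn' (b * d * b⁻¹)).mp (mem_cj.mp hd.2)
  have e : b * (n * d * n⁻¹) * b⁻¹ = b * n * b⁻¹ * (b * d * b⁻¹) * (b * n * b⁻¹)⁻¹ := by group
  rw [e]; exact h1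

theorem conj_N_astar {n x : S} (hn : n ∈ Subgroup.normalizer (A : Set S)) (hx : x ∈ h.astar) :
    n * x * n⁻¹ ∈ h.astar := by
  obtain ⟨a, ha, d, hd, rfl⟩ := hx
  have hBn := h.normal
  obtain ⟨a₁, ha₁e⟩ : ∃ a₁, a₁ = n * a * n⁻¹ := ⟨_, rfl⟩
  have ha₁ : a₁ ∈ A := by rw [ha₁e]; exact (Subgroup.mem_normalizer_iff.mp hn a).mp ha
  obtain ⟨e, hee⟩ : ∃ e, e = b⁻¹ * n * b * n⁻¹ := ⟨_, rfl⟩
  have heB : e ∈ B := by
    have h1 : n * b * n⁻¹ ∈ B := hBn.conj_mem b h.hb n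
    have e1 : e = b⁻¹ * (n * b * n⁻¹) := by rw [hee]; group
    rw [e1]; exact B.mul_mem (B.inv_mem h.hb) h1
  have heN : e ∈ Subgroup.normalizer (A : Set S) := by
    have h1 := h.conj_b_inv_mem_N hn
    have e1 : e = (b⁻¹ * n * b) * n⁻¹ := by rw [hee]
    rw [e1]; exact Subgroup.mul_mem _ h1 (Subgroup.inv_mem _ hn)
  -- w₁ = a₁ e⁻¹ a₁⁻¹ e ∈ A ∩ B
  have hw₁A : a₁ * e⁻¹ * a₁⁻¹ * e ∈ A := by
    have h1 : e⁻¹ * a₁⁻¹ * e ∈ A := by
      have := (Subgroup.mem_normalizer_iff.mp (Subgroup.inv_mem _ heN) a₁⁻¹).mp (A.inv_mem ha₁)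
      simpa using this
    have e1 : a₁ * e⁻¹ * a₁⁻¹ * e = a₁ * (e⁻¹ * a₁⁻¹ * e) := by group
    rw [e1]; exact A.mul_mem ha₁ h1
  have hw₁B : a₁ * e⁻¹ * a₁⁻¹ * e ∈ B := by
    have h1 : a₁ * e⁻¹ * a₁⁻¹ ∈ B := hBn.conj_mem e⁻¹ (B.inv_mem heB) a₁
    exact B.mul_mem h1 heB
  have hw₁ : a₁ * e⁻¹ * a₁⁻¹ * e ∈ dsub A b := h.inf_le_dsub ⟨hw₁A, hw₁B⟩
  have hm₁ : (uel b a₁)⁻¹ * e⁻¹ * uel b a₁ * e ∈ dsub A b := by
    apply h.der_le_dsub
    have := h.comm_mem_der (B.inv_mem (h.uel_mem_B (a := a₁))) (B.inv_mem heB)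
    simpa using this
  have hd' := h.conj_N_dsub hn hd
  refine ⟨a₁, ha₁, (a₁ * e⁻¹ * a₁⁻¹ * e) * ((uel b a₁)⁻¹ * e⁻¹ * uel b a₁ * e) * (n * d * n⁻¹),
    (dsub A b).mul_mem ((dsub A b).mul_mem hw₁ hm₁) hd', ?_⟩
  have hc := h.dsub_comm_uel hw₁ ha₁
  have e1 : n * (uel b a * d) * n⁻¹ =
      (a₁ * e⁻¹ * a₁⁻¹ * e) * uel b a₁ * ((uel b a₁)⁻¹ * e⁻¹ * uel b a₁ * e) * (n * d * n⁻¹) := by
    rw [ha₁e, hee]; unfold uel; group
  rw [e1, hc]; group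

theorem N_le_normalizer_astar :
    Subgroup.normalizer (A : Set S) ≤ Subgroup.normalizer (h.astar : Set S) := by
  intro n hn
  apply mem_normalizer_of_conj
  · intro x hx; exact h.conj_N_astar hn hx
  · intro x hx
    have := h.conj_N_astar (Subgroup.inv_mem _ hn) hx
    simpa using this

theorem inf_le_astar_inf : A ⊓ B ≤ h.astar ⊓ B :=
  le_inf (le_trans h.inf_le_dsub h.dsub_le_astar) inf_le_right

theorem exists_uel_not_mem [Finite S] (hbA : b ∉ Subgroup.normalizer (A : Set S)) :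
    ∃ a ∈ A, uel b a ∉ A := by
  by_contra hcon
  push_neg at hcon
  apply hbA
  have h1 : b⁻¹ ∈ Subgroup.normalizer (A : Set S) := by
    apply Subgroup.mem_normalizer_fintype
    intro a ha
    have h2 := hcon a⁻¹ (A.inv_mem ha)
    have e : b⁻¹ * a * b⁻¹⁻¹ = a * uel b a⁻¹ := by unfold uel; group
    rw [e]; exact A.mul_mem ha h2
  have := Subgroup.inv_mem _ h1
  simpa using this

theorem inf_lt_astar_inf [Finite S] (hbA : b ∉ Subgroup.normalizer (A : Set S)) :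
    A ⊓ B < h.astar ⊓ B := by
  refine lt_of_le_of_ne h.inf_le_astar_inf ?_
  intro heq
  obtain ⟨a, ha, hna⟩ := h.exists_uel_not_mem hbA
  have h1 : uel b a ∈ h.astar ⊓ B := ⟨h.uel_mem_astar ha, h.uel_mem_B⟩
  rw [← heq] at h1
  exact hna h1.1

theorem astar_inf_lt (hnot : ¬ B ≤ Subgroup.normalizer (A : Set S)) : h.astar ⊓ B < B := by
  refine lt_of_le_of_ne inf_le_right ?_
  intro heq
  apply hnot
  rw [← heq]
  exact le_trans inf_le_left h.astar_le_normalizer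

theorem normalizer_lt [Finite S] (hbA : b ∉ Subgroup.normalizer (A : Set S)) :
    Subgroup.normalizer (A : Set S) < Subgroup.normalizer (h.astar : Set S) := by
  refine lt_of_le_of_ne h.N_le_normalizer_astar ?_
  intro heq
  apply hbA
  rw [heq]
  exact h.b_mem_normalizer_astar

end Setup

end Repl

end Cfsg.Agent.Lib.Lead
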