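import Mathlib
import Cfsg.Agent.Lib.Lead.Replacement3

set_option autoImplicit false

namespace Cfsg.Agent.Lib.Lead

namespace Repl

open scoped commutatorElement

section Abstract

variable {G : Type*} [Group G]

/-- the Jacobi identity when the relevant commutators and their conjugates commute -/
theorem jacobi_metabelian (M : Subgroup G) (hMn : M.Normal)
    (hMab : ∀ m ∈ M, ∀ m' ∈ M, m * m' = m' * m) (x y z : G)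
    (hxy : ⁅x, y⁆ ∈ M) (hyz : ⁅y, z⁆ ∈ M) (hzx : ⁅z, x⁆ ∈ M) :
    ⁅⁅x, y⁆, z⁆ * ⁅⁅y, z⁆, x⁆ * ⁅⁅z, x⁆, y⁆ = 1 := by
  obtain ⟨P, hP⟩ : ∃ P, P = ⁅x, y⁆ := ⟨_, rfl⟩
  obtain ⟨Q, hQ⟩ : ∃ Q, Q = ⁅y, z⁆ := ⟨_, rfl⟩
  obtain ⟨R, hR⟩ : ∃ R, R = ⁅z, x⁆ := ⟨_, rfl⟩
  rw [← hP, ← hQ, ← hR]
  have hPM : P ∈ M := hP ▸ hxy
  have hQM : Q ∈ M := hQ ▸ hyz
  have hRM : R ∈ M := hR ▸ hzx
  -- free identity
  have key : x * Q * x⁻¹ * R⁻¹ = P * (y * R⁻¹ * y⁻¹ * Q) * P⁻¹ * ⁅P, z⁆ := by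
    rw [hP, hQ, hR]
    simp only [commutatorElement_def]
    group
  have hyR : y * R⁻¹ * y⁻¹ ∈ M := hMn.conj_mem _ (M.inv_mem hRM) y
  have hxQ : x * Q * x⁻¹ ∈ M := hMn.conj_mem _ hQM x
  have h1 : P * (y * R⁻¹ * y⁻¹ * Q) * P⁻¹ = y * R⁻¹ * y⁻¹ * Q := by
    rw [hMab P hPM _ (M.mul_mem hyR hQM), mul_inv_cancel_right]
  rw [h1] at key
  have hPz : ⁅P, z⁆ = (y * R⁻¹ * y⁻¹ * Q)⁻¹ * (x * Q * x⁻¹ * R⁻¹) := by
    rw [key]; group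
  have hQx : ⁅Q, x⁆ = Q * (x * Q * x⁻¹)⁻¹ := by
    rw [commutatorElement_def]; group
  have hRy : ⁅R, y⁆ = R * (y * R⁻¹ * y⁻¹) := by
    rw [commutatorElement_def]; group
  rw [hPz, hQx, hRy]
  -- now everything is in the abelian group M
  letI : CommGroup M :=
    { (inferInstance : Group M) with
      mul_comm := fun a b => Subtype.ext (hMab a a.2 b b.2) }
  have hcomm : ∀ (q r q' r' : M), (r' * q)⁻¹ * (q' * r⁻¹) * (q * q'⁻¹) * (r * r') = 1 := by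
    intro q r q' r'
    have : ∀ (a b c d : Additive M), -(d + a) + (c + -b) + (a + -c) + (b + d) = 0 := by
      intros; abel
    exact this (Additive.ofMul q) (Additive.ofMul r) (Additive.ofMul q') (Additive.ofMul r')
  have := congrArg Subtype.val (hcomm ⟨Q, hQM⟩ ⟨R, hRM⟩ ⟨x * Q * x⁻¹, hxQ⟩ ⟨y * R⁻¹ * y⁻¹, hyR⟩)
  simpa using this

/-- invariance of a commutator under an endomorphism: first consequence -/
theorem conj_comm_eq_of_fix (σ : G →* G) (c u w : G) (hσc : σ c = u * c) (hσw : σ w = w)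
    (huw : u * w = w * u) (hfix : σ ⁅c, w⁆ = ⁅c, w⁆) : u * ⁅c, w⁆ * u⁻¹ = ⁅c, w⁆ := by
  have h1 : σ ⁅c, w⁆ = ⁅u * c, w⁆ := by
    rw [map_commutatorElement, hσc, hσw]
  rw [hfix] at h1
  have h2 : ⁅u * c, w⁆ = u * ⁅c, w⁆ * u⁻¹ * (u * w * u⁻¹ * w⁻¹) := by
    simp only [commutatorElement_def]; group
  rw [h2, huw, mul_inv_cancel_right, mul_inv_cancel, mul_one] at h1
  exact h1.symm

/-- invariance of a commutator under an endomorphism: second consequence -/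
theorem comm_expand_of_fix (σ : G →* G) (c u u' z : G) (hσc : σ c = u * c)
    (hσu' : σ u' = u' * z) (huz : u * z = z * u)
    (h1 : u' * ⁅c, z⁆ * u'⁻¹ = ⁅c, z⁆) (h2 : u * ⁅c, z⁆ * u⁻¹ = ⁅c, z⁆)
    (hfix : σ ⁅c, u'⁆ = ⁅c, u'⁆) :
    ⁅c, u'⁆ = (u * ⁅c, u'⁆ * u⁻¹) * ⁅c, z⁆ * ⁅u, u'⁆ := by
  have e1 : σ ⁅c, u'⁆ = ⁅u * c, u' * z⁆ := by
    rw [map_commutatorElement, hσc, hσu']
  rw [hfix] at e1
  have e2 : ⁅u * c, u' * z⁆ =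
      u * ⁅c, u'⁆ * u⁻¹ * (u * (u' * ⁅c, z⁆ * u'⁻¹) * u⁻¹) * (⁅u, u'⁆ * (u' * (u * z * u⁻¹ * z⁻¹) * u'⁻¹)) := by
    simp only [commutatorElement_def]; group
  calc ⁅c, u'⁆ = ⁅u * c, u' * z⁆ := e1
    _ = u * ⁅c, u'⁆ * u⁻¹ * (u * (u' * ⁅c, z⁆ * u'⁻¹) * u⁻¹) *
          (⁅u, u'⁆ * (u' * (u * z * u⁻¹ * z⁻¹) * u'⁻¹)) := e2
    _ = (u * ⁅c, u'⁆ * u⁻¹) * ⁅c, z⁆ * ⁅u, u'⁆ := by
      rw [h1, h2, huz, mul_inv_cancel_right, mul_inv_cancel, mul_one, mul_inv_cancel, mul_one]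

/-- the final piece of linear algebra in the abelian group -/
theorem final_linear {X : Type*} [CommGroup X] (m₁ m₁u m₂ m₂u k l t tc : X)
    (E1 : m₁ = m₁u * k * t) (E2 : m₂ = m₂u * (k * l) * t⁻¹)
    (E3 : m₂ * m₂u⁻¹ * (t * tc⁻¹) * (m₁⁻¹ * m₁u) = 1) (E4 : l = tc⁻¹ * t) : tc * tc = 1 := by
  subst E1 E2 E4
  have key : ∀ (a b c d e : Additive X),
      (b + (c + (-e + d)) + -d) + -b + (d + -e) + (-(a + c + d) + a) = -(e + e) := by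
    intros; abel
  have h1 := key (Additive.ofMul m₁u) (Additive.ofMul m₂u) (Additive.ofMul k) (Additive.ofMul t)
    (Additive.ofMul tc)
  have h2 : m₂u * (k * (tc⁻¹ * t)) * t⁻¹ * m₂u⁻¹ * (t * tc⁻¹) * ((m₁u * k * t)⁻¹ * m₁u) =
      (tc * tc)⁻¹ := h1
  rw [h2] at E3
  exact inv_eq_one.mp E3

end Abstract

end Repl

end Cfsg.Agent.Lib.Lead
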