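import Mathlib
import Cfsg.Agent.Lib.Lead.Replacement4

set_option autoImplicit false

namespace Cfsg.Agent.Lib.Lead

namespace Repl

open scoped commutatorElement

variable {S : Type*} [Group S] {A B : Subgroup S} {b : S}

namespace Setup

variable (h : Setup A B b)
include h

theorem der_le_B : ⁅B, B⁆ ≤ B := by
  rw [Subgroup.commutator_le]
  intro x hx y hy
  rw [commutatorElement_def]
  exact B.mul_mem (B.mul_mem (B.mul_mem hx hy) (B.inv_mem hx)) (B.inv_mem hy)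

theorem conj_A_der {a₀ m : S} (ha₀ : a₀ ∈ A) (hm : m ∈ ⁅B, B⁆) : a₀ * m * a₀⁻¹ = m := by
  rw [h.comm a₀ ha₀ m (h.der hm), mul_inv_cancel_right]

/-- `u(a)⁻¹ (a₀ u(a) a₀⁻¹) ∈ D` -/
theorem conj_A_uel {a₀ a : S} (ha₀ : a₀ ∈ A) (ha : a ∈ A) :
    (uel b a)⁻¹ * (a₀ * uel b a * a₀⁻¹) ∈ dsub A b := by
  obtain ⟨y, hy⟩ : ∃ y, y = b⁻¹ * a * b := ⟨_, rfl⟩
  have hyc : y ∈ cj A b := by rw [hy]; exact conj_mem_cj ha
  have h1 : y * a₀ * y⁻¹ * a₀⁻¹ ∈ dsub A b := by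
    have := (dsub A b).inv_mem (h.comm_mem_dsub ha₀ hyc)
    have e : (a₀ * y * a₀⁻¹ * y⁻¹)⁻¹ = y * a₀ * y⁻¹ * a₀⁻¹ := by group
    rwa [e] at this
  have hcomm : a⁻¹ * a₀ * a = a₀ := by
    rw [mul_assoc, h.comm a₀ ha₀ a ha, ← mul_assoc, inv_mul_cancel, one_mul]
  have e2 : (uel b a)⁻¹ * (a₀ * uel b a * a₀⁻¹) = y * (a⁻¹ * a₀ * a) * y⁻¹ * a₀⁻¹ := by
    rw [uel_eq, hy]; group
  rw [e2, hcomm]; exact h1

theorem conj_A_uel_mem_B {a₀ a : S} :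
    (uel b a)⁻¹ * (a₀ * uel b a * a₀⁻¹) ∈ B :=
  B.mul_mem (B.inv_mem h.uel_mem_B) (h.normal.conj_mem _ h.uel_mem_B a₀)

/-- `u(a₀)` centralizes `[b⁻¹, w]` for `w ∈ D ∩ B` -/
theorem uel_conj_comm {a₀ w : S} (ha₀ : a₀ ∈ A) (hw : w ∈ dsub A b) (hwB : w ∈ B) :
    uel b a₀ * ⁅b⁻¹, w⁆ * (uel b a₀)⁻¹ = ⁅b⁻¹, w⁆ := by
  apply conj_comm_eq_of_fix (MulAut.conj a₀).toMonoidHom b⁻¹ (uel b a₀) w
  · show a₀ * b⁻¹ * a₀⁻¹ = uel b a₀ * b⁻¹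
    unfold uel; group
  · show a₀ * w * a₀⁻¹ = w
    rw [h.comm a₀ ha₀ w hw.1, mul_inv_cancel_right]
  · exact (h.dsub_comm_uel hw ha₀).symm
  · show a₀ * ⁅b⁻¹, w⁆ * a₀⁻¹ = ⁅b⁻¹, w⁆
    exact h.conj_A_der ha₀ (Subgroup.commutator_mem_commutator (B.inv_mem h.hb) hwB)

/-- the expansion identity for a pair `a, a'` -/
theorem comm_expand {a a' : S} (ha : a ∈ A) (ha' : a' ∈ A) :
    ⁅b⁻¹, uel b a'⁆ = (uel b a * ⁅b⁻¹, uel b a'⁆ * (uel b a)⁻¹) *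
      ⁅b⁻¹, (uel b a')⁻¹ * (a * uel b a' * a⁻¹)⁆ * ⁅uel b a, uel b a'⁆ := by
  have hz := h.conj_A_uel ha ha'
  have hzB : (uel b a')⁻¹ * (a * uel b a' * a⁻¹) ∈ B := h.conj_A_uel_mem_B
  apply comm_expand_of_fix (MulAut.conj a).toMonoidHom b⁻¹ (uel b a) (uel b a')
    ((uel b a')⁻¹ * (a * uel b a' * a⁻¹))
  · show a * b⁻¹ * a⁻¹ = uel b a * b⁻¹
    unfold uel; group
  · show a * uel b a' * a⁻¹ = uel b a' * ((uel b a')⁻¹ * (a * uel b a' * a⁻¹))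
    group
  · exact (h.dsub_comm_uel hz ha).symm
  · exact h.uel_conj_comm ha' hz hzB
  · exact h.uel_conj_comm ha hz hzB
  · show a * ⁅b⁻¹, uel b a'⁆ * a⁻¹ = ⁅b⁻¹, uel b a'⁆
    exact h.conj_A_der ha (Subgroup.commutator_mem_commutator (B.inv_mem h.hb) h.uel_mem_B)

/-- the two `z`-elements differ by the commutator -/
theorem zhat_eq {a a' : S} (ha : a ∈ A) (ha' : a' ∈ A) :
    (uel b a)⁻¹ * (a' * uel b a * a'⁻¹) =
      ((uel b a')⁻¹ * (a * uel b a' * a⁻¹)) * ⁅uel b a, uel b a'⁆⁻¹ := by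
  obtain ⟨z, hz⟩ : ∃ z, z = (uel b a')⁻¹ * (a * uel b a' * a⁻¹) := ⟨_, rfl⟩
  have hzD : z ∈ dsub A b := by rw [hz]; exact h.conj_A_uel ha ha'
  obtain ⟨t, ht⟩ : ∃ t, t = ⁅uel b a, uel b a'⁆ := ⟨_, rfl⟩
  have htM : t ∈ ⁅B, B⁆ := by
    rw [ht]; exact Subgroup.commutator_mem_commutator h.uel_mem_B h.uel_mem_B
  have htD : t ∈ dsub A b := h.der_le_dsub htM
  -- a' u a'⁻¹ = u' z u u'⁻¹
  have e1 : a' * uel b a * a'⁻¹ = uel b a' * z * uel b a * (uel b a')⁻¹ := by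
    have hc : a'⁻¹ * a⁻¹ * a' = a⁻¹ := by
      have := h.comm a⁻¹ (A.inv_mem ha) a' ha'
      rw [mul_assoc, this, ← mul_assoc, inv_mul_cancel, one_mul]
    have e2 : uel b a' * z * uel b a * (uel b a')⁻¹ =
        a * a' * b⁻¹ * (a'⁻¹ * a⁻¹ * a') * b * a'⁻¹ := by
      rw [hz]; unfold uel; group
    rw [e2, hc, h.comm a ha a' ha']
    unfold uel; group
  have hzu : z * uel b a = uel b a * z := h.dsub_comm_uel hzD ha
  have hzu' : z * uel b a' = uel b a' * z := h.dsub_comm_uel hzD ha'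
  have htu : t * uel b a = uel b a * t := h.dsub_comm_uel htD ha
  have htz : t * z = z * t := h.comm t htD.1 z hzD.1
  rw [← hz, ← ht, e1]
  -- u⁻¹ u' z u u'⁻¹ = z t⁻¹
  have e3 : (uel b a)⁻¹ * (uel b a' * z * uel b a * (uel b a')⁻¹) =
      (uel b a)⁻¹ * (uel b a' * (z * uel b a) * (uel b a')⁻¹) := by group
  rw [e3, hzu]
  have e4 : (uel b a)⁻¹ * (uel b a' * (uel b a * z) * (uel b a')⁻¹) =
      (uel b a)⁻¹ * (uel b a' * uel b a * (z * (uel b a')⁻¹)) := by group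
  have hzu'i : z * (uel b a')⁻¹ = (uel b a')⁻¹ * z := by
    have : (uel b a')⁻¹ * (z * uel b a') * (uel b a')⁻¹ = (uel b a')⁻¹ * (uel b a' * z) * (uel b a')⁻¹ := by
      rw [hzu']
    have e5 : (uel b a')⁻¹ * (z * uel b a') * (uel b a')⁻¹ = (uel b a')⁻¹ * z := by group
    have e6 : (uel b a')⁻¹ * (uel b a' * z) * (uel b a')⁻¹ = z * (uel b a')⁻¹ := by group
    rw [e5, e6] at this
    exact this.symm
  rw [e4, hzu'i]
  have e7 : (uel b a)⁻¹ * (uel b a' * uel b a * ((uel b a')⁻¹ * z)) =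
      (uel b a)⁻¹ * t⁻¹ * uel b a * z := by
    rw [ht, commutatorElement_def]; group
  rw [e7]
  have htiu : (uel b a)⁻¹ * t⁻¹ * uel b a = t⁻¹ := by
    have : t⁻¹ * uel b a = uel b a * t⁻¹ := by
      have e8 : t⁻¹ * uel b a = t⁻¹ * (uel b a * t) * t⁻¹ := by group
      rw [e8, ← htu]; group
    rw [mul_assoc, this, ← mul_assoc, inv_mul_cancel, one_mul]
  rw [htiu]
  have : t⁻¹ * z = z * t⁻¹ := by
    have e9 : t⁻¹ * z = t⁻¹ * (z * t) * t⁻¹ := by group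
    rw [e9, ← htz]; group
  exact this

end Setup

end Repl

end Cfsg.Agent.Lib.Lead
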