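import Mathlib
import Cfsg.Agent.Lib.Lead.Replacement5
import Cfsg.Agent.Lib.Lead.Special

set_option autoImplicit false

namespace Cfsg.Agent.Lib.Lead

namespace Repl

open scoped commutatorElement

variable {S : Type*} [Group S] {A B : Subgroup S} {b : S}

namespace Setup

variable (h : Setup A B b)
include h

/-- the generators of `[A, b]` commute when squares detect the identity -/
theorem uel_comm_of_odd (hodd : ∀ t : S, t * t = 1 → t = 1) {a a' : S} (ha : a ∈ A)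
    (ha' : a' ∈ A) : uel b a * uel b a' = uel b a' * uel b a := by
  have hBn := h.normal
  obtain ⟨u, hu⟩ : ∃ u, u = uel b a := ⟨_, rfl⟩
  obtain ⟨u', hu'⟩ : ∃ u', u' = uel b a' := ⟨_, rfl⟩
  obtain ⟨c, hc⟩ : ∃ c, c = b⁻¹ := ⟨_, rfl⟩
  have huB : u ∈ B := by rw [hu]; exact h.uel_mem_B
  have hu'B : u' ∈ B := by rw [hu']; exact h.uel_mem_B
  have hcB : c ∈ B := by rw [hc]; exact B.inv_mem h.hb
  obtain ⟨z, hz⟩ : ∃ z, z = u'⁻¹ * (a * u' * a⁻¹) := ⟨_, rfl⟩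
  have hzD : z ∈ dsub A b := by rw [hz, hu']; exact h.conj_A_uel ha ha'
  have hzB : z ∈ B := by rw [hz, hu']; exact h.conj_A_uel_mem_B
  obtain ⟨t, ht⟩ : ∃ t, t = ⁅u, u'⁆ := ⟨_, rfl⟩
  have hMn : (⁅B, B⁆ : Subgroup S).Normal := Subgroup.commutator_normal B B
  have htM : t ∈ ⁅B, B⁆ := by rw [ht]; exact Subgroup.commutator_mem_commutator huB hu'B
  have htB : t ∈ B := h.der_le_B htM
  have E1 : ⁅c, u'⁆ = (u * ⁅c, u'⁆ * u⁻¹) * ⁅c, z⁆ * t := by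
    rw [hc, hu, hu', hz, ht, hu, hu']; exact h.comm_expand ha ha'
  have E2' : ⁅c, u⁆ = (u' * ⁅c, u⁆ * u'⁻¹) * ⁅c, z * t⁻¹⁆ * ⁅u', u⁆ := by
    have := h.comm_expand ha' ha
    rw [h.zhat_eq ha ha'] at this
    rw [hc, hu, hu', hz, ht, hu, hu']; exact this
  have hl : ⁅c, z * t⁻¹⁆ = ⁅c, z⁆ * ⁅c, t⁻¹⁆ := by
    have e1 : ⁅c, z * t⁻¹⁆ = ⁅c, z⁆ * (z * ⁅c, t⁻¹⁆ * z⁻¹) := by
      simp only [commutatorElement_def]; group
    have hm : ⁅c, t⁻¹⁆ ∈ ⁅B, B⁆ := Subgroup.commutator_mem_commutator hcB (B.inv_mem htB)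
    rw [e1, h.conj_A_der hzD.1 hm]
  have hti : ⁅u', u⁆ = t⁻¹ := by rw [ht]; simp only [commutatorElement_def]; group
  have E2 : ⁅c, u⁆ = (u' * ⁅c, u⁆ * u'⁻¹) * (⁅c, z⁆ * ⁅c, t⁻¹⁆) * t⁻¹ := by
    have E2'' := E2'
    rw [hti, hl] at E2''
    exact E2''
  have hm₁ : ⁅c, u'⁆ ∈ ⁅B, B⁆ := Subgroup.commutator_mem_commutator hcB hu'B
  have hm₂ : ⁅c, u⁆ ∈ ⁅B, B⁆ := Subgroup.commutator_mem_commutator hcB huB
  have hk : ⁅c, z⁆ ∈ ⁅B, B⁆ := Subgroup.commutator_mem_commutator hcB hzB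
  have hlM : ⁅c, t⁻¹⁆ ∈ ⁅B, B⁆ := Subgroup.commutator_mem_commutator hcB (B.inv_mem htB)
  have hm₁u : u * ⁅c, u'⁆ * u⁻¹ ∈ ⁅B, B⁆ := hMn.conj_mem _ hm₁ u
  have hm₂u : u' * ⁅c, u⁆ * u'⁻¹ ∈ ⁅B, B⁆ := hMn.conj_mem _ hm₂ u'
  have htc : c * t * c⁻¹ ∈ ⁅B, B⁆ := hMn.conj_mem _ htM c
  have hMab : ∀ m ∈ (⁅B, B⁆ : Subgroup S), ∀ m' ∈ (⁅B, B⁆ : Subgroup S), m * m' = m' * m :=
    fun m hm m' hm' => h.comm m (h.der hm) m' (h.der hm')
  have E3 : ⁅c, u⁆ * (u' * ⁅c, u⁆ * u'⁻¹)⁻¹ * (t * (c * t * c⁻¹)⁻¹) *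
      (⁅c, u'⁆⁻¹ * (u * ⁅c, u'⁆ * u⁻¹)) = 1 := by
    have hJ := jacobi_metabelian (⁅B, B⁆ : Subgroup S) hMn hMab c u u' hm₂
      (by rw [← ht]; exact htM) (Subgroup.commutator_mem_commutator hu'B hcB)
    have e1 : ⁅⁅c, u⁆, u'⁆ = ⁅c, u⁆ * (u' * ⁅c, u⁆ * u'⁻¹)⁻¹ := by
      rw [commutatorElement_def ⁅c, u⁆ u']; group
    have e2 : ⁅⁅u, u'⁆, c⁆ = t * (c * t * c⁻¹)⁻¹ := by
      rw [← ht, commutatorElement_def t c]; group
    have e3 : ⁅⁅u', c⁆, u⁆ = ⁅c, u'⁆⁻¹ * (u * ⁅c, u'⁆ * u⁻¹) := by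
      have : ⁅u', c⁆ = ⁅c, u'⁆⁻¹ := by simp only [commutatorElement_def]; group
      rw [this, commutatorElement_def ⁅c, u'⁆⁻¹ u]; group
    rw [e1, e2, e3] at hJ
    exact hJ
  have E4 : ⁅c, t⁻¹⁆ = (c * t * c⁻¹)⁻¹ * t := by
    rw [commutatorElement_def]; group
  let _inst : CommGroup (⁅B, B⁆ : Subgroup S) :=
    { (inferInstance : Group (⁅B, B⁆ : Subgroup S)) with
      mul_comm := fun x y => Subtype.ext (hMab x x.2 y y.2) }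
  have hfin := final_linear (X := (⁅B, B⁆ : Subgroup S)) ⟨_, hm₁⟩ ⟨_, hm₁u⟩ ⟨_, hm₂⟩ ⟨_, hm₂u⟩
    ⟨_, hk⟩ ⟨_, hlM⟩ ⟨_, htM⟩ ⟨_, htc⟩ (Subtype.ext E1) (Subtype.ext E2) (Subtype.ext E3)
    (Subtype.ext E4)
  have h2 : (c * t * c⁻¹) * (c * t * c⁻¹) = 1 := congrArg Subtype.val hfin
  have h3 : t * t = 1 := by
    have e : t * t = c⁻¹ * ((c * t * c⁻¹) * (c * t * c⁻¹)) * c := by group
    rw [e, h2]; group
  have h4 : t = 1 := hodd t h3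
  rw [ht, commutatorElement_eq_one_iff_mul_comm] at h4
  rw [← hu, ← hu']
  exact h4

/-- `A*` is abelian as soon as the generators `u(a)` commute -/
theorem astar_comm (hu : ∀ a ∈ A, ∀ a' ∈ A, uel b a * uel b a' = uel b a' * uel b a) :
    ∀ x ∈ h.astar, ∀ y ∈ h.astar, x * y = y * x := by
  rintro _ ⟨a, ha, d, hd, rfl⟩ _ ⟨a', ha', d', hd', rfl⟩
  have h1 := h.dsub_comm_uel hd ha'
  have h2 := h.dsub_comm_uel hd' ha
  have h3 := h.comm d hd.1 d' hd'.1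
  calc uel b a * d * (uel b a' * d') = uel b a * (d * uel b a') * d' := by group
    _ = uel b a * (uel b a' * d) * d' := by rw [h1]
    _ = (uel b a * uel b a') * (d * d') := by group
    _ = (uel b a' * uel b a) * (d' * d) := by rw [hu a ha a' ha', h3]
    _ = uel b a' * (uel b a * d') * d := by group
    _ = uel b a' * (d' * uel b a) * d := by rw [h2]
    _ = uel b a' * d' * (uel b a * d) := by group

theorem uel_comm_of_comm (hB : ∀ x ∈ B, ∀ y ∈ B, x * y = y * x) {a a' : S} :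
    uel b a * uel b a' = uel b a' * uel b a :=
  hB _ h.uel_mem_B _ h.uel_mem_B

end Setup

/-- power formula for two elements whose commutator commutes with both -/
theorem mul_pow_of_commute_comm {G : Type*} [Group G] (x y : G) (hx : Commute x ⁅y, x⁆)
    (hy : Commute y ⁅y, x⁆) (n : ℕ) :
    (x * y) ^ n = x ^ n * y ^ n * ⁅y, x⁆ ^ (n.choose 2) := by
  induction n with
  | zero => simp
  | succ n ih =>
    have hxk : ∀ k : ℕ, Commute x (⁅y, x⁆ ^ k) := fun k => hx.pow_right k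
    have hyk : ∀ k : ℕ, Commute y (⁅y, x⁆ ^ k) := fun k => hy.pow_right k
    have h1 : y ^ n * x = x * y ^ n * ⁅y, x⁆ ^ n := by
      have h2 : ⁅y ^ n, x⁆ = ⁅y, x⁆ ^ n := commutatorElement_pow_left y x hy.symm n
      have h3 : y ^ n * x = ⁅y ^ n, x⁆ * x * y ^ n := by rw [commutatorElement_def]; group
      rw [h3, h2, mul_assoc, ← ((hxk n).mul_left ((hyk n).pow_left n)).eq]
    have hch : (n + 1).choose 2 = n.choose 2 + n := by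
      rw [Nat.choose_succ_succ' n 1, Nat.choose_one_right, add_comm]
    have hxyk : ∀ k : ℕ, Commute (x * y) (⁅y, x⁆ ^ k) := fun k => (hxk k).mul_left (hyk k)
    calc (x * y) ^ (n + 1) = (x * y) ^ n * (x * y) := pow_succ _ _
      _ = x ^ n * y ^ n * ⁅y, x⁆ ^ (n.choose 2) * (x * y) := by rw [ih]
      _ = x ^ n * y ^ n * (x * y) * ⁅y, x⁆ ^ (n.choose 2) := by
        rw [mul_assoc (x ^ n * y ^ n), ← (hxyk (n.choose 2)).eq, ← mul_assoc]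
      _ = x ^ n * (y ^ n * x) * y * ⁅y, x⁆ ^ (n.choose 2) := by group
      _ = x ^ n * (x * y ^ n * ⁅y, x⁆ ^ n) * y * ⁅y, x⁆ ^ (n.choose 2) := by rw [h1]
      _ = x ^ n * x * y ^ n * (⁅y, x⁆ ^ n * y) * ⁅y, x⁆ ^ (n.choose 2) := by group
      _ = x ^ n * x * y ^ n * (y * ⁅y, x⁆ ^ n) * ⁅y, x⁆ ^ (n.choose 2) := by rw [(hyk n).eq]
      _ = (x ^ n * x) * (y ^ n * y) * (⁅y, x⁆ ^ n * ⁅y, x⁆ ^ (n.choose 2)) := by
        simp only [mul_assoc]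
      _ = x ^ (n + 1) * y ^ (n + 1) * ⁅y, x⁆ ^ ((n + 1).choose 2) := by
        rw [← pow_succ, ← pow_succ, ← pow_add, hch, add_comm (n.choose 2) n]

end Repl

end Cfsg.Agent.Lib.Lead
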