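import Mathlib
import Cfsg.Agent.Lib.Lead.Replacement6

set_option autoImplicit false

namespace Cfsg.Agent.Lib.Lead

namespace Repl

open scoped commutatorElement

variable {S : Type*} [Group S] {A B : Subgroup S} {b : S}

theorem eq_one_of_sq_of_odd {p : ℕ} [hp : Fact p.Prime] (hp2 : p ≠ 2) (hS : IsPGroup p S)
    (t : S) (ht : t * t = 1) : t = 1 := by
  obtain ⟨k, hk⟩ := hS t
  have h1 : orderOf t ∣ 2 := orderOf_dvd_of_pow_eq_one (by rw [pow_two]; exact ht)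
  have h2 : orderOf t ∣ p ^ k := orderOf_dvd_of_pow_eq_one hk
  have h3 : Nat.Coprime 2 (p ^ k) :=
    Nat.Coprime.pow_right k ((Nat.coprime_primes Nat.prime_two hp.out).mpr (Ne.symm hp2))
  have h4 : orderOf t = 1 := Nat.eq_one_of_dvd_coprimes h3 h1 h2
  exact orderOf_eq_one_iff.mp h4

theorem pow_choose_eq_one_of_odd {p : ℕ} [hp : Fact p.Prime] (hp2 : p ≠ 2) (hS : IsPGroup p S)
    (e : S) (n : ℕ) (he : e ^ n = 1) : e ^ (n.choose 2) = 1 := by
  obtain ⟨k, hk⟩ := hS e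
  have h1 : orderOf e ∣ n := orderOf_dvd_of_pow_eq_one he
  have h2 : orderOf e ∣ p ^ k := orderOf_dvd_of_pow_eq_one hk
  obtain ⟨j, _, hj⟩ := (Nat.dvd_prime_pow hp.out).mp h2
  have h3 : Nat.Coprime (orderOf e) 2 := by
    rw [hj]
    exact Nat.Coprime.pow_left j ((Nat.coprime_primes hp.out Nat.prime_two).mpr hp2)
  have h4 : n.choose 2 * 2 = n * (n - 1) := by
    rw [Nat.choose_two_right]
    exact Nat.div_mul_cancel (Nat.even_mul_pred_self n).two_dvd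
  have h5 : orderOf e ∣ n.choose 2 * 2 := by
    rw [h4]; exact Dvd.dvd.mul_right h1 _
  have h6 : orderOf e ∣ n.choose 2 := Nat.Coprime.dvd_of_dvd_mul_right h3 h5
  exact orderOf_dvd_iff_pow_eq_one.mp h6

namespace Setup

variable (h : Setup A B b)
include h

theorem astar_pow_eq_one {p : ℕ} [hp : Fact p.Prime] (hp2 : p ≠ 2) (hS : IsPGroup p S) (n : ℕ)
    (hn : ∀ a ∈ A, a ^ n = 1) : ∀ x ∈ h.astar, x ^ n = 1 := by
  rintro _ ⟨a, ha, d, hd, rfl⟩
  have hcud : Commute (uel b a) d := (h.dsub_comm_uel hd ha).symm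
  rw [hcud.mul_pow, hn d hd.1, mul_one, uel_eq]
  obtain ⟨y, hy⟩ : ∃ y, y = (b⁻¹ * a * b)⁻¹ := ⟨_, rfl⟩
  rw [← hy]
  have hyc : y ∈ cj A b := by rw [hy]; exact (cj A b).inv_mem (conj_mem_cj ha)
  have heD : ⁅y, a⁆ ∈ dsub A b := by
    have := (dsub A b).inv_mem (h.comm_mem_dsub ha hyc)
    have e : (a * y * a⁻¹ * y⁻¹)⁻¹ = ⁅y, a⁆ := by rw [commutatorElement_def]; group
    rwa [e] at this
  have hxc : Commute a ⁅y, a⁆ := (h.dsub_comm_A heD ha).symm
  have hyc' : Commute y ⁅y, a⁆ := (h.dsub_comm_cj heD hyc).symm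
  rw [mul_pow_of_commute_comm a y hxc hyc' n, hn a ha, one_mul]
  have hyn : y ^ n = 1 := by
    rw [hy, inv_pow]
    have : (b⁻¹ * a * b) ^ n = b⁻¹ * a ^ n * b := by
      have := map_pow (MulAut.conj b⁻¹) a n
      simpa [MulAut.conj_apply] using this.symm
    rw [this, hn a ha]; group
  rw [hyn, one_mul]
  exact pow_choose_eq_one_of_odd hp2 hS _ n (hn _ heD.1)

end Setup

/-- Glauberman's replacement theorem, explicit form -/
theorem replacement [Finite S] {p : ℕ} [Fact p.Prime] (hS : IsPGroup p S) (B : Subgroup S)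
    [hBn : B.Normal] (hB2 : p = 2 → ∀ x ∈ B, ∀ y ∈ B, x * y = y * x) (A : Subgroup S)
    (hA : ∀ x ∈ A, ∀ y ∈ A, x * y = y * x) (hBA : ⁅B, B⁆ ≤ A)
    (hnot : ¬ B ≤ Subgroup.normalizer (A : Set S)) (b : S) (hb : b ∈ B)
    (hbN : b ∈ Subgroup.normalizer ((Subgroup.normalizer (A : Set S) : Subgroup S) : Set S))
    (hbA : b ∉ Subgroup.normalizer (A : Set S)) :
    ∃ Astar : Subgroup S,
      Astar = (A ⊓ A.map (MulAut.conj (b⁻¹)).toMonoidHom) ⊔
        Subgroup.closure {g : S | ∃ a ∈ A, g = a * b⁻¹ * a⁻¹ * b} ∧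
      Nat.card Astar = Nat.card A ∧ (∀ x ∈ Astar, ∀ y ∈ Astar, x * y = y * x) ∧
      ⁅B, B⁆ ≤ Astar ∧ A ⊓ B < Astar ⊓ B ∧ Astar ⊓ B < B ∧
      A ≤ Subgroup.normalizer (Astar : Set S) ∧ Astar ≤ Subgroup.normalizer (A : Set S) ∧
      b ∈ Subgroup.normalizer (Astar : Set S) ∧
      Subgroup.normalizer (A : Set S) < Subgroup.normalizer (Astar : Set S) ∧
      (p ≠ 2 → ∀ n : ℕ, (∀ a ∈ A, a ^ n = 1) → ∀ x ∈ Astar, x ^ n = 1) := by
  have h : Setup A B b := ⟨hA, hBn, hBA, hb, hbN⟩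
  refine ⟨h.astar, h.astar_eq, h.card_astar, ?_, h.der_le_astar, h.inf_lt_astar_inf hbA,
    h.astar_inf_lt hnot, h.A_le_normalizer_astar, h.astar_le_normalizer,
    h.b_mem_normalizer_astar, h.normalizer_lt hbA, ?_⟩
  · apply h.astar_comm
    intro a ha a' ha'
    by_cases hp2 : p = 2
    · exact h.uel_comm_of_comm (hB2 hp2)
    · exact h.uel_comm_of_odd (eq_one_of_sq_of_odd hp2 hS) ha ha'
  · intro hp2 n hn
    exact h.astar_pow_eq_one hp2 hS n hn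

end Repl

end Cfsg.Agent.Lib.Lead
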