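import Mathlib

set_option autoImplicit false

namespace Cfsg.Agent.Lib.Lead

namespace ZJ

variable {G : Type*} [Group G]

/-- abelian of exponent dividing `n` (`n = 0`: just abelian) -/
def AbelExp (n : ℕ) (A : Subgroup G) : Prop :=
  (∀ x ∈ A, ∀ y ∈ A, x * y = y * x) ∧ ∀ a ∈ A, a ^ n = 1

theorem abelExp_bot (n : ℕ) : AbelExp n (⊥ : Subgroup G) := by
  constructor
  · intro x hx y hy
    rw [Subgroup.mem_bot] at hx hy
    rw [hx, hy]
  · intro a ha
    rw [Subgroup.mem_bot] at ha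
    rw [ha, one_pow]

theorem AbelExp.mono {n : ℕ} {A B : Subgroup G} (hA : AbelExp n A) (hBA : B ≤ A) : AbelExp n B :=
  ⟨fun x hx y hy => hA.1 x (hBA hx) y (hBA hy), fun a ha => hA.2 a (hBA ha)⟩

theorem AbelExp.sup {n : ℕ} {A X : Subgroup G} (hA : AbelExp n A) (hX : AbelExp n X)
    (hc : ∀ x ∈ X, ∀ a ∈ A, x * a = a * x) : AbelExp n (A ⊔ X) := by
  have hcl : A ⊔ X = Subgroup.closure ((A : Set G) ∪ X) := by
    rw [Subgroup.closure_union, Subgroup.closure_eq, Subgroup.closure_eq]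
  have hgen : ∀ x ∈ ((A : Set G) ∪ X), ∀ y ∈ ((A : Set G) ∪ X), x * y = y * x := by
    rintro x (hx | hx) y (hy | hy)
    · exact hA.1 x hx y hy
    · exact (hc y hy x hx).symm
    · exact hc x hx y hy
    · exact hX.1 x hx y hy
  have hcomm : ∀ x ∈ Subgroup.closure ((A : Set G) ∪ X),
      ∀ y ∈ Subgroup.closure ((A : Set G) ∪ X), x * y = y * x := by
    intro x hx y hy
    letI := Subgroup.closureCommGroupOfComm hgen
    have := mul_comm (⟨x, hx⟩ : Subgroup.closure ((A : Set G) ∪ X)) ⟨y, hy⟩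
    exact congrArg Subtype.val this
  rw [hcl]
  refine ⟨hcomm, ?_⟩
  intro a ha
  induction ha using Subgroup.closure_induction with
  | mem x hx =>
    rcases hx with hx | hx
    · exact hA.2 x hx
    · exact hX.2 x hx
  | one => exact one_pow n
  | mul x y hx hy ihx ihy =>
    have : Commute x y := hcomm x hx y hy
    rw [this.mul_pow, ihx, ihy, one_mul]
  | inv x hx ih => rw [inv_pow, ih, inv_one]

theorem AbelExp.map {n : ℕ} {A : Subgroup G} (hA : AbelExp n A) (φ : G ≃* G) :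
    AbelExp n (A.map φ.toMonoidHom) := by
  constructor
  · rintro _ ⟨x, hx, rfl⟩ _ ⟨y, hy, rfl⟩
    show φ x * φ y = φ y * φ x
    rw [← map_mul, ← map_mul, hA.1 x hx y hy]
  · rintro _ ⟨x, hx, rfl⟩
    show (φ x) ^ n = 1
    rw [← map_pow, hA.2 x hx, map_one]

/-- members of largest order among the `AbelExp n` subgroups of `T` -/
def maxIn (n : ℕ) (T : Subgroup G) : Set (Subgroup G) :=
  {A | A ≤ T ∧ AbelExp n A ∧ ∀ B : Subgroup G, B ≤ T → AbelExp n B → Nat.card B ≤ Nat.card A}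

/-- the intersection of all members of `maxIn n T` -/
def wsub (n : ℕ) (T : Subgroup G) : Subgroup G := sInf (maxIn n T)

theorem mem_wsub {n : ℕ} {T : Subgroup G} {x : G} : x ∈ wsub n T ↔ ∀ A ∈ maxIn n T, x ∈ A :=
  Subgroup.mem_sInf

theorem wsub_le_of_mem {n : ℕ} {T A : Subgroup G} (hA : A ∈ maxIn n T) : wsub n T ≤ A :=
  sInf_le hA

section Finite
variable [Finite G]

/-- among finitely many subgroups satisfying a satisfiable predicate, one maximizes any
natural-valued function -/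
theorem exists_max_subgroup (P : Subgroup G → Prop) (f : Subgroup G → ℕ) (h : ∃ A, P A) :
    ∃ A, P A ∧ ∀ B, P B → f B ≤ f A := by
  obtain ⟨A₀, hA₀⟩ := h
  haveI : Nonempty {A : Subgroup G // P A} := ⟨⟨A₀, hA₀⟩⟩
  obtain ⟨⟨A, hA⟩, hmax⟩ := Finite.exists_max (fun A : {A : Subgroup G // P A} => f A.1)
  exact ⟨A, hA, fun B hB => hmax ⟨B, hB⟩⟩

theorem maxIn_nonempty (n : ℕ) (T : Subgroup G) : ∃ A, A ∈ maxIn n T := by
  obtain ⟨A, hA, hmax⟩ := exists_max_subgroup (fun A : Subgroup G => A ≤ T ∧ AbelExp n A)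
    (fun A => Nat.card A) ⟨⊥, bot_le, abelExp_bot n⟩
  exact ⟨A, hA.1, hA.2, fun B hBT hB => hmax B ⟨hBT, hB⟩⟩

theorem wsub_le (n : ℕ) (T : Subgroup G) : wsub n T ≤ T := by
  obtain ⟨A, hA⟩ := maxIn_nonempty n T
  exact le_trans (wsub_le_of_mem hA) hA.1

theorem abelExp_wsub (n : ℕ) (T : Subgroup G) : AbelExp n (wsub n T) := by
  obtain ⟨A, hA⟩ := maxIn_nonempty n T
  exact hA.2.1.mono (wsub_le_of_mem hA)

/-- a commuting `AbelExp n` subgroup of `T` lies in every member of `maxIn n T` -/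
theorem le_of_centralizes {n : ℕ} {T A X : Subgroup G} (hA : A ∈ maxIn n T) (hXT : X ≤ T)
    (hX : AbelExp n X) (hc : ∀ x ∈ X, ∀ a ∈ A, x * a = a * x) : X ≤ A := by
  have h1 : AbelExp n (A ⊔ X) := hA.2.1.sup hX hc
  have h2 : Nat.card (A ⊔ X : Subgroup G) ≤ Nat.card A := hA.2.2 _ (sup_le hA.1 hXT) h1
  have h3 : A = A ⊔ X := Subgroup.eq_of_le_of_card_ge le_sup_left h2
  rw [h3]; exact le_sup_right

theorem le_wsub_of_centralizes {n : ℕ} {T X : Subgroup G} (hXT : X ≤ T) (hX : AbelExp n X)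
    (hc : ∀ A ∈ maxIn n T, ∀ x ∈ X, ∀ a ∈ A, x * a = a * x) : X ≤ wsub n T := by
  intro x hx
  rw [mem_wsub]
  intro A hA
  exact le_of_centralizes hA hXT hX (hc A hA) hx

/-- if `B` lies in every member, it lies in `wsub` -/
theorem le_wsub_of_le_all {n : ℕ} {T B : Subgroup G} (h : ∀ A ∈ maxIn n T, B ≤ A) :
    B ≤ wsub n T := fun _ hx => mem_wsub.mpr fun A hA => h A hA hx

theorem mem_maxIn_of_le {n : ℕ} {T T₁ A A₀ : Subgroup G} (hT : T₁ ≤ T) (hA₀ : A₀ ∈ maxIn n T)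
    (hA₀T : A₀ ≤ T₁) (hA : A ∈ maxIn n T₁) : A ∈ maxIn n T := by
  refine ⟨le_trans hA.1 hT, hA.2.1, fun B hBT hB => ?_⟩
  exact le_trans (hA₀.2.2 B hBT hB) (hA.2.2 A₀ hA₀T hA₀.2.1)

theorem mem_maxIn_sub {n : ℕ} {T T₁ A : Subgroup G} (hT : T₁ ≤ T) (hA : A ∈ maxIn n T)
    (hAT : A ≤ T₁) : A ∈ maxIn n T₁ :=
  ⟨hAT, hA.2.1, fun B hBT hB => hA.2.2 B (le_trans hBT hT) hB⟩

theorem wsub_le_wsub {n : ℕ} {T T₁ A₀ : Subgroup G} (hT : T₁ ≤ T) (hA₀ : A₀ ∈ maxIn n T)
    (hA₀T : A₀ ≤ T₁) : wsub n T ≤ wsub n T₁ := by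
  intro x hx
  rw [mem_wsub] at hx ⊢
  intro A hA
  exact hx A (mem_maxIn_of_le hT hA₀ hA₀T hA)

theorem map_symm_map (φ : G ≃* G) (T : Subgroup G) :
    (T.map φ.toMonoidHom).map φ.symm.toMonoidHom = T := by
  ext x
  constructor
  · rintro ⟨_, ⟨y, hy, rfl⟩, rfl⟩
    simpa using hy
  · intro hx
    exact ⟨φ x, ⟨x, hx, rfl⟩, by simp⟩

theorem map_mem_maxIn {n : ℕ} {T A : Subgroup G} (φ : G ≃* G) (hA : A ∈ maxIn n T) :
    A.map φ.toMonoidHom ∈ maxIn n (T.map φ.toMonoidHom) := by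
  refine ⟨Subgroup.map_mono hA.1, hA.2.1.map φ, fun B hBT hB => ?_⟩
  have h1 : B.map φ.symm.toMonoidHom ≤ T := by
    have := Subgroup.map_mono (f := φ.symm.toMonoidHom) hBT
    rwa [map_symm_map] at this
  have h2 := hA.2.2 _ h1 (hB.map φ.symm)
  rw [Subgroup.card_map_of_injective φ.symm.injective] at h2
  rw [Subgroup.card_map_of_injective φ.injective]
  exact h2

theorem map_wsub (n : ℕ) (T : Subgroup G) (φ : G ≃* G) :
    (wsub n T).map φ.toMonoidHom = wsub n (T.map φ.toMonoidHom) := by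
  apply le_antisymm
  · rintro _ ⟨x, hx, rfl⟩
    rw [SetLike.mem_coe] at hx
    rw [mem_wsub] at hx ⊢
    intro A' hA'
    have h1 := map_mem_maxIn φ.symm hA'
    rw [map_symm_map] at h1
    obtain ⟨y, hy, hyx⟩ := hx _ h1
    have : φ x = y := by
      have := congrArg φ hyx
      simpa using this.symm
    show φ x ∈ A'
    rw [this]; exact hy
  · intro y hy
    rw [mem_wsub] at hy
    refine ⟨φ.symm y, ?_, by simp⟩
    rw [SetLike.mem_coe, mem_wsub]
    intro A hA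
    obtain ⟨a, ha, hay⟩ := hy _ (map_mem_maxIn φ hA)
    have : φ.symm y = a := by
      rw [← hay]; simp
    rw [this]; exact ha

/-- elements normalizing `T` normalize `wsub n T` -/
theorem normalizer_le_normalizer_wsub (n : ℕ) (T : Subgroup G) :
    Subgroup.normalizer (T : Set G) ≤ Subgroup.normalizer (wsub n T : Set G) := by
  intro g hg
  have h1 : T.map (MulAut.conj g).toMonoidHom = T := by
    ext x
    constructor
    · rintro ⟨y, hy, rfl⟩
      exact (Subgroup.mem_normalizer_iff.mp hg y).mp hy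
    · intro hx
      refine ⟨g⁻¹ * x * g, ?_, by simp [MulAut.conj_apply, mul_assoc]⟩
      have := (Subgroup.mem_normalizer_iff.mp (Subgroup.inv_mem _ hg) x).mp hx
      simpa using this
  have h2 := map_wsub n T (MulAut.conj g)
  rw [h1] at h2
  rw [Subgroup.mem_normalizer_iff]
  intro x
  constructor
  · intro hx
    rw [← h2]
    exact ⟨x, hx, rfl⟩
  · intro hx
    rw [← h2] at hx
    obtain ⟨y, hy, hyx⟩ := hx
    have : y = x := by
      have h3 : g * y * g⁻¹ = g * x * g⁻¹ := hyx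
      have h4 : y = g⁻¹ * (g * y * g⁻¹) * g := by group
      rw [h4, h3]; group
    rw [← this]; exact hy

end Finite

end ZJ

end Cfsg.Agent.Lib.Lead
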