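import Mathlib
import Cfsg.Agent.Lib.Lead.ZJ1
import Cfsg.Agent.Lib.Lead.Replacement7
import Cfsg.Agent.Lib.Helper2.Schmidt

set_option autoImplicit false

namespace Cfsg.Agent.Lib.Lead

namespace ZJ

open scoped commutatorElement Pointwise

/-- if the normal subgroup `B` of a `p`-group does not normalize `A`, some element of `B`
normalizes `N(A)` but not `A` -/
theorem exists_normalizing {S : Type*} [Group S] [Finite S] {p : ℕ} [Fact p.Prime]
    (hS : IsPGroup p S) (B : Subgroup S) [B.Normal] (A : Subgroup S)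
    (hnot : ¬ B ≤ Subgroup.normalizer (A : Set S)) :
    ∃ b ∈ B, b ∈ Subgroup.normalizer ((Subgroup.normalizer (A : Set S) : Subgroup S) : Set S) ∧
      b ∉ Subgroup.normalizer (A : Set S) := by
  set N := Subgroup.normalizer (A : Set S) with hN
  set K : Subgroup S := B ⊔ N with hK
  have hNK : N < K := by
    apply lt_of_le_of_ne le_sup_right
    intro h
    apply hnot
    have : B ≤ K := le_sup_left
    exact this.trans (le_of_eq h.symm)
  have hKnil : Group.IsNilpotent K := (hS.to_subgroup K).isNilpotent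
  have h1 := Cfsg.Agent.Lib.Helper2.Schmidt.nilpotent_normalizer_grows K N hKnil hNK
  obtain ⟨k, hk, hkN⟩ := SetLike.exists_of_lt h1
  obtain ⟨hkK, hknorm⟩ := Subgroup.mem_inf.mp hk
  have hkK' : k ∈ ((B ⊔ N : Subgroup S) : Set S) := hkK
  rw [Subgroup.normal_mul] at hkK'
  obtain ⟨b, hb, n, hn, hbn⟩ := hkK'
  have hbk : b = k * n⁻¹ := by rw [← hbn]; group
  refine ⟨b, hb, ?_, ?_⟩
  · rw [hbk]
    exact Subgroup.mul_mem _ hknorm (Subgroup.inv_mem _ (Subgroup.le_normalizer hn))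
  · intro hbN
    apply hkN
    rw [← hbn]
    exact Subgroup.mul_mem _ hbN hn

variable {G : Type*} [Group G] [Finite G]

/-- the replacement theorem inside a `p`-subgroup `T` of `G`, for the family `maxIn n D` -/
theorem replacement_sub {p : ℕ} [Fact p.Prime] (hp2 : p ≠ 2) (n : ℕ) (T D B A : Subgroup G)
    (hT : IsPGroup p T) (hDT : D ≤ T) (hBT : B ≤ T)
    (hTD : T ≤ Subgroup.normalizer (D : Set G)) (hTB : T ≤ Subgroup.normalizer (B : Set G))
    (hA : A ∈ maxIn n D) (hBA : ⁅B, B⁆ ≤ A) (hnot : ¬ B ≤ Subgroup.normalizer (A : Set G)) :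
    ∃ Astar ∈ maxIn n D, ⁅B, B⁆ ≤ Astar ∧ A ⊓ B < Astar ⊓ B ∧ Astar ⊓ B < B ∧
      Astar ≤ Subgroup.normalizer (A : Set G) := by
  have hι : Function.Injective T.subtype := T.subtype_injective
  have hAT : A ≤ T := le_trans hA.1 hDT
  have hA'map : (A.subgroupOf T).map T.subtype = A := Subgroup.map_subgroupOf_eq_of_le hAT
  have hB'map : (B.subgroupOf T).map T.subtype = B := Subgroup.map_subgroupOf_eq_of_le hBT
  haveI hB'n : (B.subgroupOf T).Normal := (Subgroup.normal_subgroupOf_iff_le_normalizer hBT).mpr hTB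
  haveI hD'n : (D.subgroupOf T).Normal := (Subgroup.normal_subgroupOf_iff_le_normalizer hDT).mpr hTD
  have hA'c : ∀ x ∈ A.subgroupOf T, ∀ y ∈ A.subgroupOf T, x * y = y * x := fun x hx y hy =>
    Subtype.ext (hA.2.1.1 x (Subgroup.mem_subgroupOf.mp hx) y (Subgroup.mem_subgroupOf.mp hy))
  have hBA' : ⁅B.subgroupOf T, B.subgroupOf T⁆ ≤ A.subgroupOf T := by
    rw [Subgroup.commutator_le]
    intro x hx y hy
    rw [Subgroup.mem_subgroupOf]
    have : ((⁅x, y⁆ : T) : G) = ⁅(x : G), (y : G)⁆ := by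
      simp [commutatorElement_def]
    rw [this]
    exact hBA (Subgroup.commutator_mem_commutator (Subgroup.mem_subgroupOf.mp hx)
      (Subgroup.mem_subgroupOf.mp hy))
  have hnot' : ¬ B.subgroupOf T ≤ Subgroup.normalizer ((A.subgroupOf T : Subgroup T) : Set T) := by
    rw [← Subgroup.subgroupOf_normalizer_eq hAT]
    intro hle
    apply hnot
    intro x hx
    have h1 : (⟨x, hBT hx⟩ : T) ∈ B.subgroupOf T := Subgroup.mem_subgroupOf.mpr hx
    exact Subgroup.mem_subgroupOf.mp (hle h1)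
  obtain ⟨b, hb, hbN, hbA⟩ := exists_normalizing hT (B.subgroupOf T) (A.subgroupOf T) hnot'
  obtain ⟨Astar', hdef, h1, h2, h3, h4, h5, h6, h7, h8, h9, h10⟩ :=
    Repl.replacement hT (B.subgroupOf T) (fun h => absurd h hp2) (A.subgroupOf T) hA'c hBA' hnot'
      b hb hbN hbA
  have hA'D' : A.subgroupOf T ≤ D.subgroupOf T := by
    intro x hx
    exact Subgroup.mem_subgroupOf.mpr (hA.1 (Subgroup.mem_subgroupOf.mp hx))
  have hAstarD' : Astar' ≤ D.subgroupOf T := by
    rw [hdef]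
    apply sup_le
    · exact le_trans inf_le_left hA'D'
    · rw [Subgroup.closure_le]
      rintro _ ⟨a, ha, rfl⟩
      have h11 : b⁻¹ * a⁻¹ * b ∈ D.subgroupOf T := by
        have := hD'n.conj_mem a⁻¹ ((D.subgroupOf T).inv_mem (hA'D' ha)) b⁻¹
        simpa using this
      have e : a * b⁻¹ * a⁻¹ * b = a * (b⁻¹ * a⁻¹ * b) := by group
      rw [e]
      exact (D.subgroupOf T).mul_mem (hA'D' ha) h11
  have hcardA : Nat.card A = Nat.card (A.subgroupOf T) := by
    conv_lhs => rw [← hA'map]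
    exact Subgroup.card_map_of_injective hι
  refine ⟨Astar'.map T.subtype, ⟨?_, ⟨?_, ?_⟩, ?_⟩, ?_, ?_, ?_, ?_⟩
  · rintro _ ⟨x, hx, rfl⟩
    exact Subgroup.mem_subgroupOf.mp (hAstarD' hx)
  · rintro _ ⟨x, hx, rfl⟩ _ ⟨y, hy, rfl⟩
    have := congrArg Subtype.val (h2 x hx y hy)
    simpa using this
  · rintro _ ⟨x, hx, rfl⟩
    have h11 := h10 hp2 n (fun a ha => Subtype.ext (by
      rw [Subgroup.coe_pow, Subgroup.coe_one]
      exact hA.2.1.2 a (Subgroup.mem_subgroupOf.mp ha))) x hx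
    have := congrArg Subtype.val h11
    simpa using this
  · intro B₀ hB₀D hB₀
    rw [Subgroup.card_map_of_injective hι, h1, ← hcardA]
    exact hA.2.2 B₀ hB₀D hB₀
  · rw [← hB'map, ← Subgroup.map_commutator]
    exact Subgroup.map_mono h3
  · conv_lhs => rw [← hA'map, ← hB'map]
    conv_rhs => rw [← hB'map]
    rw [← Subgroup.map_inf _ _ _ hι, ← Subgroup.map_inf _ _ _ hι]
    exact (Subgroup.map_lt_map_iff_of_injective hι).mpr h4
  · conv_lhs => rw [← hB'map]
    conv_rhs => rw [← hB'map]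
    rw [← Subgroup.map_inf _ _ _ hι]
    exact (Subgroup.map_lt_map_iff_of_injective hι).mpr h5
  · rintro _ ⟨x, hx, rfl⟩
    have h11 := h7 hx
    rw [← Subgroup.subgroupOf_normalizer_eq hAT] at h11
    exact Subgroup.mem_subgroupOf.mp h11

end ZJ

end Cfsg.Agent.Lib.Lead
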