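import Mathlib
import Cfsg.Prelude.Def_PLocal
import Cfsg.Agent.Lib.Lead.ZJ2

set_option autoImplicit false

namespace Cfsg.Agent.Lib.Lead

namespace ZJ

open scoped commutatorElement

theorem isMulCommutative_iff {G : Type*} [Group G] (A : Subgroup G) :
    IsMulCommutative A ↔ ∀ x ∈ A, ∀ y ∈ A, x * y = y * x := by
  constructor
  · intro h x hx y hy
    exact congrArg Subtype.val (h.is_comm.comm ⟨x, hx⟩ ⟨y, hy⟩)
  · intro h
    exact ⟨⟨fun x y => Subtype.ext (h x x.2 y y.2)⟩⟩

/-- type-level version of the family -/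
def maxAE (n : ℕ) (P : Type*) [Group P] : Set (Subgroup P) :=
  {A | AbelExp n A ∧ ∀ B : Subgroup P, AbelExp n B → Nat.card B ≤ Nat.card A}

theorem maxAbelianSubgroups_eq (P : Type*) [Group P] : Cfsg.maxAbelianSubgroups P = maxAE 0 P := by
  ext A
  simp only [Cfsg.maxAbelianSubgroups, maxAE, AbelExp, Set.mem_setOf_eq, pow_zero, implies_true,
    and_true, isMulCommutative_iff]

theorem maxElementaryAbelianSubgroups_eq (p : ℕ) (P : Type*) [Group P] :
    Cfsg.maxElementaryAbelianSubgroups p P = maxAE p P := by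
  ext A
  simp only [Cfsg.maxElementaryAbelianSubgroups, Cfsg.IsElementaryAbelian, maxAE, AbelExp,
    Set.mem_setOf_eq, isMulCommutative_iff]

section
variable {G : Type*} [Group G]

theorem abelExp_subgroupOf {n : ℕ} {B D : Subgroup G} (hB : AbelExp n B) :
    AbelExp n (B.subgroupOf D) := by
  constructor
  · intro x hx y hy
    exact Subtype.ext (hB.1 x (Subgroup.mem_subgroupOf.mp hx) y (Subgroup.mem_subgroupOf.mp hy))
  · intro a ha
    apply Subtype.ext
    rw [Subgroup.coe_pow, Subgroup.coe_one]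
    exact hB.2 a (Subgroup.mem_subgroupOf.mp ha)

theorem abelExp_map_subtype {n : ℕ} {D : Subgroup G} {B : Subgroup D} (hB : AbelExp n B) :
    AbelExp n (B.map D.subtype) := by
  constructor
  · rintro _ ⟨x, hx, rfl⟩ _ ⟨y, hy, rfl⟩
    have := congrArg Subtype.val (hB.1 x hx y hy)
    simpa using this
  · rintro _ ⟨x, hx, rfl⟩
    have := congrArg Subtype.val (hB.2 x hx)
    simpa using this

theorem image_maxAE (n : ℕ) (D : Subgroup G) :
    Set.image (fun A : Subgroup D => A.map D.subtype) (maxAE n D) = maxIn n D := by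
  have hι : Function.Injective D.subtype := D.subtype_injective
  ext A
  constructor
  · rintro ⟨A', hA', rfl⟩
    refine ⟨Subgroup.map_subtype_le A', abelExp_map_subtype hA'.1, fun B₀ hB₀D hB₀ => ?_⟩
    have h1 := hA'.2 (B₀.subgroupOf D) (abelExp_subgroupOf hB₀)
    have h2 : Nat.card (B₀.subgroupOf D) = Nat.card B₀ := by
      conv_rhs => rw [← Subgroup.map_subgroupOf_eq_of_le hB₀D]
      exact (Subgroup.card_map_of_injective hι).symm
    show Nat.card B₀ ≤ Nat.card (A'.map D.subtype)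
    rw [Subgroup.card_map_of_injective hι, ← h2]
    exact h1
  · intro hA
    refine ⟨A.subgroupOf D, ⟨abelExp_subgroupOf hA.2.1, fun B' hB' => ?_⟩,
      Subgroup.map_subgroupOf_eq_of_le hA.1⟩
    have h1 := hA.2.2 (B'.map D.subtype) (Subgroup.map_subtype_le B') (abelExp_map_subtype hB')
    rw [Subgroup.card_map_of_injective hι] at h1
    have h2 : Nat.card (A.subgroupOf D) = Nat.card A := by
      conv_rhs => rw [← Subgroup.map_subgroupOf_eq_of_le hA.1]
      exact (Subgroup.card_map_of_injective hι).symm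
    rw [h2]; exact h1

end

/-- the replacement property of the families `maxIn n D` -/
theorem replacement_property {S : Type*} [Group S] [Finite S] {p : ℕ} [Fact p.Prime]
    (hS : IsPGroup p S) (hp : p ≠ 2) (n : ℕ) (D : Subgroup S) [hDn : D.Normal]
    (B : Subgroup S) [hBn : B.Normal]
    (hU : ∃ U ∈ maxIn n D, ⁅B, B⁆ ≤ U ∧ ¬ B ≤ U) :
    ∃ A ∈ maxIn n D, ⁅B, B⁆ ≤ A ∧ ¬ B ≤ A ∧ B ≤ Subgroup.normalizer (A : Set S) := by
  obtain ⟨A, ⟨hA, hBA, hnBA⟩, hmax⟩ := exists_max_subgroup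
    (fun U : Subgroup S => U ∈ maxIn n D ∧ ⁅B, B⁆ ≤ U ∧ ¬ B ≤ U)
    (fun U => Nat.card (U ⊓ B : Subgroup S)) (by
      obtain ⟨U, h1, h2, h3⟩ := hU
      exact ⟨U, h1, h2, h3⟩)
  refine ⟨A, hA, hBA, hnBA, ?_⟩
  by_contra hnot
  have hTn : ∀ K : Subgroup S, K.Normal → (⊤ : Subgroup S) ≤ Subgroup.normalizer (K : Set S) := by
    intro K hK
    rw [Subgroup.normalizer_eq_top_iff.mpr hK]
  obtain ⟨Astar, h1, h2, h3, h4, _⟩ := replacement_sub hp n ⊤ D B A (hS.to_subgroup ⊤) le_top
    le_top (hTn D hDn) (hTn B hBn) hA hBA hnot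
  have h5 : ¬ B ≤ Astar := by
    intro hle
    have : Astar ⊓ B = B := inf_eq_right.mpr hle
    rw [this] at h4
    exact lt_irrefl _ h4
  have h6 := hmax Astar ⟨h1, h2, h5⟩
  have h7 : A ⊓ B = Astar ⊓ B := Subgroup.eq_of_le_of_card_ge h3.le h6
  rw [h7] at h3
  exact lt_irrefl _ h3

end ZJ

end Cfsg.Agent.Lib.Lead
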