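import Mathlib
import Cfsg.Prelude.Def_PLocal
import Cfsg.Agent.Lib.Lead.ZJ3
import Cfsg.Agent.Lib.Helper9.PCore
import Cfsg.Agent.Lib.Helper9.Hyperfocal1

set_option autoImplicit false

namespace Cfsg.Agent.Lib.Lead

namespace ZJ

open scoped commutatorElement

variable {G : Type*} [Group G]

/-- the preimage in `G` of `O_p(G / C_G(B))` -/
def stabPre (p : ℕ) (B : Subgroup G) [B.Normal] : Subgroup G :=
  (Cfsg.pCore p (G ⧸ Subgroup.centralizer (B : Set G))).comap
    (QuotientGroup.mk' (Subgroup.centralizer (B : Set G)))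

instance stabPre_normal (p : ℕ) (B : Subgroup G) [B.Normal] : (stabPre p B).Normal := by
  unfold stabPre
  haveI := Cfsg.Agent.Lib.Helper9.pCore_normal' (G := G ⧸ Subgroup.centralizer (B : Set G)) p
  infer_instance

theorem centralizer_le_stabPre (p : ℕ) (B : Subgroup G) [B.Normal] :
    Subgroup.centralizer (B : Set G) ≤ stabPre p B := by
  intro c hc
  unfold stabPre
  rw [Subgroup.mem_comap]
  have : (QuotientGroup.mk' (Subgroup.centralizer (B : Set G))) c = 1 :=
    (QuotientGroup.eq_one_iff c).mpr hc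
  rw [this]; exact Subgroup.one_mem _

/-- quadratic action puts an abelian subgroup inside `stabPre` -/
theorem le_stabPre_of_quadratic {p : ℕ} (B : Subgroup G) [B.Normal] (hst : Cfsg.IsPStableOn p B)
    (A : Subgroup G) (hA : ∀ x ∈ A, ∀ y ∈ A, x * y = y * x)
    (hBA : B ≤ Subgroup.normalizer (A : Set G)) : A ≤ stabPre p B := by
  intro a ha
  unfold stabPre
  rw [Subgroup.mem_comap]
  apply hst a
  have h1 : ⁅B, Subgroup.zpowers a⁆ ≤ A := by
    rw [Subgroup.commutator_le]
    intro x hx y hy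
    have hyA : y ∈ A := (Subgroup.zpowers_le.mpr ha) hy
    rw [commutatorElement_def]
    have h2 : x * y * x⁻¹ ∈ A := (Subgroup.mem_normalizer_iff.mp (hBA hx) y).mp hyA
    exact A.mul_mem h2 (A.inv_mem hyA)
  rw [eq_bot_iff]
  calc ⁅⁅B, Subgroup.zpowers a⁆, Subgroup.zpowers a⁆ ≤ ⁅A, A⁆ :=
        Subgroup.commutator_mono h1 (Subgroup.zpowers_le.mpr ha)
    _ ≤ ⊥ := by
        rw [Subgroup.commutator_le]
        intro x hx y hy
        rw [Subgroup.mem_bot, commutatorElement_eq_one_iff_mul_comm]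
        exact hA x hx y hy

section Finite
variable [Finite G] {p : ℕ} [hp : Fact p.Prime]

theorem relIndex_centralizer_stabPre (B : Subgroup G) [B.Normal] :
    ∃ m : ℕ, (Subgroup.centralizer (B : Set G)).relIndex (stabPre p B) = p ^ m := by
  set C := Subgroup.centralizer (B : Set G) with hC
  have hsurj : Function.Surjective (QuotientGroup.mk' C) := QuotientGroup.mk'_surjective C
  have h1 : C = (⊥ : Subgroup (G ⧸ C)).comap (QuotientGroup.mk' C) := by
    have := QuotientGroup.ker_mk' C
    rw [MonoidHom.ker] at this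
    exact this.symm
  have h2 : C.relIndex (stabPre p B) = Nat.card (Cfsg.pCore p (G ⧸ C)) := by
    conv_lhs => rw [h1]
    rw [Subgroup.relIndex_comap, Subgroup.relIndex_bot_left]
    unfold stabPre
    rw [Subgroup.map_comap_eq_self_of_surjective hsurj]
  rw [h2]
  exact IsPGroup.iff_card.mp (Cfsg.Agent.Lib.Helper9.pCore_isPGroup' p)

/-- the Frattini factorization `G = N_G(S ∩ X) C_G(B)` -/
theorem normalizer_sup_centralizer_eq_top (S : Sylow p G) (B : Subgroup G) [B.Normal] :
    Subgroup.normalizer (((S : Subgroup G) ⊓ stabPre p B : Subgroup G) : Set G) ⊔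
      Subgroup.centralizer (B : Set G) = ⊤ := by
  set X := stabPre p B with hX
  set C := Subgroup.centralizer (B : Set G) with hC
  set P₁ : Subgroup G := (S : Subgroup G) ⊓ X with hP₁
  obtain ⟨T, hT⟩ := Cfsg.Agent.Lib.Helper9.exists_sylow_map_eq_inf S X
  have hfr : Subgroup.normalizer (P₁ : Set G) ⊔ X = ⊤ := by
    have := Sylow.normalizer_sup_eq_top T
    rw [hT] at this
    exact this
  -- X ≤ P₁ ⊔ C
  have hXle : X ≤ P₁ ⊔ C := by
    rw [← Subgroup.relIndex_eq_one]
    have h1 : (P₁ ⊔ C).relIndex X ∣ P₁.relIndex X := Subgroup.relIndex_dvd_of_le_left X le_sup_left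
    have h2 : (P₁ ⊔ C).relIndex X ∣ C.relIndex X := Subgroup.relIndex_dvd_of_le_left X le_sup_right
    obtain ⟨m, hm⟩ := relIndex_centralizer_stabPre (p := p) B
    rw [← hC, ← hX] at hm
    rw [hm] at h2
    have h3 : ¬ p ∣ P₁.relIndex X := by
      have h4 : P₁.subgroupOf X = (T : Subgroup X) := by
        rw [hP₁, ← hT]
        exact Subgroup.comap_map_eq_self_of_injective X.subtype_injective _
      rw [Subgroup.relIndex, h4]
      exact T.not_dvd_index
    obtain ⟨j, _, hj⟩ := (Nat.dvd_prime_pow hp.out).mp h2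
    rcases Nat.eq_zero_or_pos j with h0 | hpos
    · rw [hj, h0, pow_zero]
    · exfalso
      apply h3
      refine dvd_trans ?_ h1
      rw [hj]
      exact dvd_pow_self p hpos.ne'
  rw [eq_top_iff, ← hfr]
  apply sup_le le_sup_left
  refine le_trans hXle (sup_le ?_ le_sup_right)
  exact le_trans Subgroup.le_normalizer le_sup_left

end Finite

end ZJ

end Cfsg.Agent.Lib.Lead
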