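import Mathlib
import Cfsg.Agent.Lib.Lead.ZJ4

set_option autoImplicit false

namespace Cfsg.Agent.Lib.Lead

namespace ZJ

open scoped commutatorElement

variable {G : Type*} [Group G]

/-- if `[W, B] ≤ K` with `K`, `B` normal then `[W^G, B] ≤ K` -/
theorem commutator_normalClosure_le (K B W : Subgroup G) [hK : K.Normal] [hB : B.Normal]
    (h : ⁅W, B⁆ ≤ K) : ⁅Subgroup.normalClosure (W : Set G), B⁆ ≤ K := by
  let X : Subgroup G :=
    { carrier := {x | ∀ y ∈ B, ⁅x, y⁆ ∈ K}
      one_mem' := by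
        intro y _
        rw [commutatorElement_one_left]; exact K.one_mem
      mul_mem' := by
        intro x₁ x₂ h₁ h₂ y hy
        have e : ⁅x₁ * x₂, y⁆ = x₁ * ⁅x₂, y⁆ * x₁⁻¹ * ⁅x₁, y⁆ := by
          simp only [commutatorElement_def]; group
        rw [e]
        exact K.mul_mem (hK.conj_mem _ (h₂ y hy) x₁) (h₁ y hy)
      inv_mem' := by
        intro x h₁ y hy
        have e : ⁅x⁻¹, y⁆ = x⁻¹ * ⁅x, y⁆⁻¹ * x⁻¹⁻¹ := by
          simp only [commutatorElement_def]; group
        rw [e]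
        exact hK.conj_mem _ (K.inv_mem (h₁ y hy)) x⁻¹ }
  have hXn : X.Normal := by
    constructor
    intro x hx g y hy
    have e : ⁅g * x * g⁻¹, y⁆ = g * ⁅x, g⁻¹ * y * g⁻¹⁻¹⁆ * g⁻¹ := by
      simp only [commutatorElement_def]; group
    rw [e]
    exact hK.conj_mem _ (hx _ (hB.conj_mem y hy g⁻¹)) g
  have hWX : W ≤ X := fun w hw y hy => h (Subgroup.commutator_mem_commutator hw hy)
  have h1 : Subgroup.normalClosure (W : Set G) ≤ X := Subgroup.normalClosure_le_normal hWX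
  rw [Subgroup.commutator_le]
  intro x hx y hy
  exact h1 hx y hy

theorem commutator_lt_of_isPGroup {p : ℕ} [Fact p.Prime] {B : Subgroup G} (hBp : IsPGroup p B)
    (hB : B ≠ ⊥) [Finite G] : ⁅B, B⁆ < B := by
  haveI : Nontrivial B := (Subgroup.nontrivial_iff_ne_bot B).mpr hB
  haveI : Group.IsSolvable B := by
    haveI := hBp.isNilpotent
    infer_instance
  have h := Group.IsSolvable.commutator_lt_top_of_nontrivial B
  have h2 := (Subgroup.map_lt_map_iff_of_injective B.subtype_injective).mpr h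
  rw [_root_.commutator_def, Subgroup.map_commutator, ← MonoidHom.range_eq_map,
    B.range_subtype] at h2
  exact h2

section Finite
variable [Finite G] {p : ℕ} [hp : Fact p.Prime]

/-- the replacement property inside a `p`-subgroup, with a side condition -/
theorem replacement_property_sub (hp2 : p ≠ 2) (n : ℕ) (T D B : Subgroup G)
    (hT : IsPGroup p T) (hDT : D ≤ T) (hBT : B ≤ T)
    (hTD : T ≤ Subgroup.normalizer (D : Set G)) (hTB : T ≤ Subgroup.normalizer (B : Set G))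
    (Pr : Subgroup G → Prop) (hPr : ∀ A' : Subgroup G, A' ⊓ B < B → Pr A')
    (hU : ∃ U ∈ maxIn n D, ⁅B, B⁆ ≤ U ∧ Pr U) :
    ∃ A ∈ maxIn n D, ⁅B, B⁆ ≤ A ∧ Pr A ∧ B ≤ Subgroup.normalizer (A : Set G) := by
  obtain ⟨A, ⟨hA, hBA, hPA⟩, hmax⟩ := exists_max_subgroup
    (fun U : Subgroup G => U ∈ maxIn n D ∧ ⁅B, B⁆ ≤ U ∧ Pr U)
    (fun U => Nat.card (U ⊓ B : Subgroup G)) (by
      obtain ⟨U, h1, h2, h3⟩ := hU
      exact ⟨U, h1, h2, h3⟩)
  refine ⟨A, hA, hBA, hPA, ?_⟩
  by_contra hnot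
  obtain ⟨Astar, h1, h2, h3, h4, _⟩ := replacement_sub hp2 n T D B A hT hDT hBT hTD hTB hA hBA hnot
  have h6 := hmax Astar ⟨h1, h2, hPr Astar h4⟩
  have h7 : A ⊓ B = Astar ⊓ B := Subgroup.eq_of_le_of_card_ge h3.le h6
  rw [h7] at h3
  exact lt_irrefl _ h3

/-- the key lemma: `W(S) ∩ B` is normal for every normal `p`-subgroup `B` -/
theorem wsub_inf_normal (hp2 : p ≠ 2) (n : ℕ) (S : Sylow p G)
    (hst : ∀ (P : Subgroup G) [P.Normal], IsPGroup p P → Cfsg.IsPStableOn p P) :
    ∀ (k : ℕ) (B : Subgroup G), B.Normal → IsPGroup p B → Nat.card B = k →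
      (wsub n (S : Subgroup G) ⊓ B).Normal := by
  intro k
  induction k using Nat.strong_induction_on with
  | _ k ih =>
  intro B hBn hBp hk
  haveI := hBn
  set W := wsub n (S : Subgroup G) with hW
  by_cases hB1 : B = ⊥
  · rw [hB1, inf_bot_eq]; infer_instance
  have hBS : B ≤ S := hBp.le_sylow_of_normal S
  have hSNB : (S : Subgroup G) ≤ Subgroup.normalizer (B : Set G) := by
    rw [Subgroup.normalizer_eq_top_iff.mpr hBn]; exact le_top
  have hSW : (S : Subgroup G) ≤ Subgroup.normalizer (W : Set G) :=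
    le_trans Subgroup.le_normalizer (normalizer_le_normalizer_wsub n (S : Subgroup G))
  set L := Subgroup.normalClosure ((W ⊓ B : Subgroup G) : Set G) with hL
  have hLB : L ≤ B := Subgroup.normalClosure_le_normal inf_le_right
  have hWbL : W ⊓ B ≤ L := Subgroup.subset_normalClosure
  have hcardlt : ∀ {M : Subgroup G}, M < B → Nat.card M < k := by
    intro M hM
    rw [← hk]
    have h1 := Subgroup.card_le_of_le hM.le
    rcases lt_or_eq_of_le h1 with h | h
    · exact h
    · exact absurd (Subgroup.eq_of_le_of_card_ge hM.le h.ge) hM.ne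
  by_cases hLeq : L = B
  swap
  · have hlt : L < B := lt_of_le_of_ne hLB hLeq
    have h1 := ih _ (hcardlt hlt) L Subgroup.normalClosure_normal (hBp.to_le hLB) rfl
    have h2 : W ⊓ L = W ⊓ B :=
      le_antisymm (inf_le_inf_left _ hLB) (le_inf inf_le_left hWbL)
    rw [← h2]; exact h1
  -- now `B` is the normal closure of `W ⊓ B`
  have hder_lt : ⁅B, B⁆ < B := commutator_lt_of_isPGroup hBp hB1
  haveI hdern : (⁅B, B⁆ : Subgroup G).Normal := Subgroup.commutator_normal B B
  haveI hKn : (W ⊓ ⁅B, B⁆).Normal :=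
    ih _ (hcardlt hder_lt) ⁅B, B⁆ hdern (hBp.to_le hder_lt.le) rfl
  have hWbB : ⁅W ⊓ B, B⁆ ≤ W ⊓ ⁅B, B⁆ := by
    apply le_inf
    · rw [Subgroup.commutator_le]
      intro w hw y hy
      rw [commutatorElement_def]
      have h1 : y * w⁻¹ * y⁻¹ ∈ W :=
        (Subgroup.mem_normalizer_iff.mp (hSW (hBS hy)) w⁻¹).mp (W.inv_mem hw.1)
      have e : w * y * w⁻¹ * y⁻¹ = w * (y * w⁻¹ * y⁻¹) := by group
      rw [e]; exact W.mul_mem hw.1 h1
    · exact Subgroup.commutator_mono inf_le_right le_rfl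
  have hBB : ⁅B, B⁆ ≤ W ⊓ ⁅B, B⁆ := by
    have := commutator_normalClosure_le (W ⊓ ⁅B, B⁆) B (W ⊓ B) hWbB
    rw [← hL, hLeq] at this
    exact this
  have hBW : ⁅B, B⁆ ≤ W := le_trans hBB inf_le_left
  have hderA : ∀ A ∈ maxIn n (S : Subgroup G), ⁅B, B⁆ ≤ A := fun A hA =>
    le_trans hBW (wsub_le_of_mem hA)
  -- a member normalized by `B`
  obtain ⟨U₀, hU₀⟩ := maxIn_nonempty n (S : Subgroup G)
  obtain ⟨A₀, hA₀, -, -, hBA₀⟩ := replacement_property_sub hp2 n (S : Subgroup G) (S : Subgroup G)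
    B S.isPGroup' le_rfl hBS Subgroup.le_normalizer hSNB (fun _ => True) (fun _ _ => trivial)
    ⟨U₀, hU₀, hderA U₀ hU₀, trivial⟩
  have hstB := hst B hBp
  have hA₀X : A₀ ≤ stabPre p B := le_stabPre_of_quadratic B hstB A₀ hA₀.2.1.1 hBA₀
  set P₁ : Subgroup G := (S : Subgroup G) ⊓ stabPre p B with hP₁
  have hA₀P₁ : A₀ ≤ P₁ := le_inf hA₀.1 hA₀X
  have hWW₁ : W ≤ wsub n P₁ := wsub_le_wsub inf_le_left hA₀ hA₀P₁
  have hfact := normalizer_sup_centralizer_eq_top S B
  rw [← hP₁] at hfact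
  -- `W₁ = W(P₁) ∩ B` is normal
  have hW₁n : (wsub n P₁ ⊓ B).Normal := by
    rw [← Subgroup.normalizer_eq_top_iff, eq_top_iff, ← hfact]
    apply sup_le
    · refine le_trans ?_ Subgroup.inf_normalizer_le_normalizer_inf
      apply le_inf (normalizer_le_normalizer_wsub n P₁)
      rw [Subgroup.normalizer_eq_top_iff.mpr hBn]; exact le_top
    · intro c hc
      have hcx : ∀ x ∈ B, c * x * c⁻¹ = x := by
        intro x hx
        have := (Subgroup.mem_centralizer_iff.mp hc) x hx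
        rw [← this, mul_inv_cancel_right]
      rw [Subgroup.mem_normalizer_iff]
      intro x
      constructor
      · intro hx
        rw [hcx x hx.2]; exact hx
      · intro hx
        have h1 : c⁻¹ * (c * x * c⁻¹) * c⁻¹⁻¹ = c * x * c⁻¹ := by
          have h2 := hcx _ hx.2
          have hc' : c⁻¹ ∈ Subgroup.centralizer (B : Set G) := Subgroup.inv_mem _ hc
          have := (Subgroup.mem_centralizer_iff.mp hc') _ hx.2
          rw [← this, mul_inv_cancel_right]
        have e : c⁻¹ * (c * x * c⁻¹) * c⁻¹⁻¹ = x := by group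
        rw [e] at h1
        rw [h1]; exact hx
  have hBW₁ : B ≤ wsub n P₁ := by
    have h1 : L ≤ wsub n P₁ ⊓ B :=
      Subgroup.normalClosure_le_normal (inf_le_inf_right _ hWW₁)
    rw [hLeq] at h1
    exact le_trans h1 inf_le_left
  have hBab : ⁅B, B⁆ = ⊥ := by
    rw [eq_bot_iff, Subgroup.commutator_le]
    intro x hx y hy
    rw [Subgroup.mem_bot, commutatorElement_eq_one_iff_mul_comm]
    exact (abelExp_wsub n P₁).1 x (hBW₁ hx) y (hBW₁ hy)
  -- every member contains `B`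
  have hall : ∀ A ∈ maxIn n (S : Subgroup G), B ≤ A := by
    by_contra hcon
    push_neg at hcon
    obtain ⟨U, hU, hBU⟩ := hcon
    obtain ⟨A, hA, -, hnBA, hBA⟩ := replacement_property_sub hp2 n (S : Subgroup G)
      (S : Subgroup G) B S.isPGroup' le_rfl hBS Subgroup.le_normalizer hSNB
      (fun A => ¬ B ≤ A) (by
        intro A' hlt hle
        rw [inf_eq_right.mpr hle] at hlt
        exact lt_irrefl _ hlt)
      ⟨U, hU, by rw [hBab]; exact bot_le, hBU⟩
    apply hnBA
    have hAX : A ≤ stabPre p B := le_stabPre_of_quadratic B hstB A hA.2.1.1 hBA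
    have hAP₁ : A ≤ P₁ := le_inf hA.1 hAX
    have hAm : A ∈ maxIn n P₁ := mem_maxIn_sub inf_le_left hA hAP₁
    exact le_trans hBW₁ (wsub_le_of_mem hAm)
  have hBWfinal : B ≤ W := le_wsub_of_le_all hall
  rw [inf_eq_right.mpr hBWfinal]
  exact hBn

end Finite

end ZJ

end Cfsg.Agent.Lib.Lead
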