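import Mathlib
import Cfsg.Agent.Lib.Lead.ZJ5

set_option autoImplicit false

namespace Cfsg.Agent.Lib.Lead

namespace ZJ

open scoped commutatorElement Pointwise

variable {G : Type*} [Group G]

section Finite
variable [Finite G] {p : ℕ} [hp : Fact p.Prime]

theorem stabPre_isPGroup (Q : Subgroup G) [Q.Normal] (hQ : IsPGroup p Q)
    (hc : Subgroup.centralizer (Q : Set G) ≤ Q) : IsPGroup p (stabPre p Q) := by
  rintro ⟨x, hx⟩
  unfold stabPre at hx
  rw [Subgroup.mem_comap] at hx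
  have hO : IsPGroup p (Cfsg.pCore p (G ⧸ Subgroup.centralizer (Q : Set G))) :=
    Cfsg.Agent.Lib.Helper9.pCore_isPGroup' p
  obtain ⟨k, hk⟩ := hO ⟨_, hx⟩
  have hk' : (QuotientGroup.mk' (Subgroup.centralizer (Q : Set G)) x) ^ p ^ k = 1 := by
    have := congrArg Subtype.val hk
    simpa using this
  rw [← map_pow, QuotientGroup.mk'_apply, QuotientGroup.eq_one_iff] at hk'
  obtain ⟨j, hj⟩ := hQ ⟨_, hc hk'⟩
  have hj' : (x ^ p ^ k) ^ p ^ j = 1 := by
    have := congrArg Subtype.val hj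
    simpa using this
  refine ⟨k + j, Subtype.ext ?_⟩
  rw [Subgroup.coe_pow, Subgroup.coe_one, pow_add, pow_mul]
  exact hj'

/-- the ZJ-theorem for the families `maxIn n S`: normality -/
theorem wsub_normal (hp2 : p ≠ 2) (n : ℕ)
    (hc : Subgroup.centralizer (Cfsg.pCore p G : Set G) ≤ Cfsg.pCore p G)
    (hst : ∀ (P : Subgroup G) [P.Normal], IsPGroup p P → Cfsg.IsPStableOn p P) (S : Sylow p G) :
    (wsub n (S : Subgroup G)).Normal := by
  haveI hQn : (Cfsg.pCore p G).Normal := Cfsg.Agent.Lib.Helper9.pCore_normal' p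
  have hQ : IsPGroup p (Cfsg.pCore p G) := Cfsg.Agent.Lib.Helper9.pCore_isPGroup' p
  have hQS : Cfsg.pCore p G ≤ S := Cfsg.Agent.Lib.Helper9.pCore_le_sylow S
  have hSW : (S : Subgroup G) ≤ Subgroup.normalizer (wsub n (S : Subgroup G) : Set G) :=
    le_trans Subgroup.le_normalizer (normalizer_le_normalizer_wsub n (S : Subgroup G))
  have h1 : wsub n (S : Subgroup G) ≤ stabPre p (Cfsg.pCore p G) :=
    le_stabPre_of_quadratic (Cfsg.pCore p G) (hst _ hQ) _ (abelExp_wsub n _).1 (le_trans hQS hSW)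
  have h2 : stabPre p (Cfsg.pCore p G) ≤ Cfsg.pCore p G :=
    Cfsg.Agent.Lib.Helper9.le_pCore (stabPre_normal p _) (stabPre_isPGroup _ hQ hc)
  have h3 := wsub_inf_normal hp2 n S hst _ (Cfsg.pCore p G) hQn hQ rfl
  rw [inf_eq_left.mpr (le_trans h1 h2)] at h3
  exact h3

/-- the ZJ-theorem for the families `maxIn n S`: characteristic -/
theorem wsub_characteristic (hp2 : p ≠ 2) (n : ℕ)
    (hc : Subgroup.centralizer (Cfsg.pCore p G : Set G) ≤ Cfsg.pCore p G)
    (hst : ∀ (P : Subgroup G) [P.Normal], IsPGroup p P → Cfsg.IsPStableOn p P) (S : Sylow p G) :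
    (wsub n (S : Subgroup G)).Characteristic := by
  have hn := wsub_normal hp2 n hc hst S
  rw [Subgroup.characteristic_iff_map_eq]
  intro φ
  rw [map_wsub]
  have hcard : Nat.card ((S : Subgroup G).map φ.toMonoidHom) =
      p ^ (Nat.card G).factorization p := by
    rw [Subgroup.card_map_of_injective φ.injective]
    exact S.card_eq_multiplicity
  obtain ⟨g, hg⟩ := MulAction.exists_smul_eq G S (Sylow.ofCard _ hcard)
  have h1 : ((S : Subgroup G).map φ.toMonoidHom) = (S : Subgroup G).map (MulAut.conj g).toMonoidHom := by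
    have := congrArg (fun P : Sylow p G => (P : Subgroup G)) hg
    simp only [Sylow.coe_subgroup_smul, Sylow.coe_ofCard] at this
    rw [← this]
    rfl
  rw [h1, ← map_wsub]
  ext x
  constructor
  · rintro ⟨y, hy, rfl⟩
    exact hn.conj_mem y hy g
  · intro hx
    refine ⟨g⁻¹ * x * g, ?_, by simp [MulAut.conj_apply, mul_assoc]⟩
    have := hn.conj_mem x hx g⁻¹
    simpa using this

end Finite

/-! ### bridging to the definitions of the statements -/

section Bridge
variable [Finite G]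

theorem le_mapJ {n : ℕ} {T A : Subgroup G} (hA : A ∈ maxIn n T) :
    A ≤ (sSup (maxAE n T)).map T.subtype := by
  rw [← image_maxAE] at hA
  obtain ⟨A', hA', rfl⟩ := hA
  exact Subgroup.map_mono (le_sSup hA')

theorem mapJ_le {n : ℕ} {T K : Subgroup G} (h : ∀ A ∈ maxIn n T, A ≤ K) :
    (sSup (maxAE n T)).map T.subtype ≤ K := by
  rw [Subgroup.map_le_iff_le_comap]
  apply sSup_le
  intro A' hA'
  rw [← Subgroup.map_le_iff_le_comap]
  apply h
  rw [← image_maxAE]
  exact ⟨A', hA', rfl⟩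

theorem abelExp_zpowers {n : ℕ} (x : G) (hx : x ^ n = 1) : AbelExp n (Subgroup.zpowers x) := by
  constructor
  · intro a ha b hb
    obtain ⟨i, rfl⟩ := Subgroup.mem_zpowers_iff.mp ha
    obtain ⟨j, rfl⟩ := Subgroup.mem_zpowers_iff.mp hb
    rw [← zpow_add, ← zpow_add, add_comm]
  · intro a ha
    obtain ⟨i, rfl⟩ := Subgroup.mem_zpowers_iff.mp ha
    rw [← zpow_natCast, ← zpow_mul, mul_comm, zpow_mul, zpow_natCast, hx, one_zpow]

/-- `x ∈ Z(J_n(T))` with `x ^ n = 1` lies in `wsub n T` -/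
theorem mem_wsub_of_mem_center {n : ℕ} {T : Subgroup G} {x : G}
    (hxJ : x ∈ (sSup (maxAE n T)).map T.subtype)
    (hxC : x ∈ Subgroup.centralizer (((sSup (maxAE n T)).map T.subtype : Subgroup G) : Set G))
    (hxn : x ^ n = 1) : x ∈ wsub n T := by
  have hJT : (sSup (maxAE n T)).map T.subtype ≤ T := Subgroup.map_subtype_le _
  have h1 : Subgroup.zpowers x ≤ wsub n T := by
    apply le_wsub_of_centralizes (Subgroup.zpowers_le.mpr (hJT hxJ)) (abelExp_zpowers x hxn)
    intro A hA y hy a ha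
    obtain ⟨i, rfl⟩ := Subgroup.mem_zpowers_iff.mp hy
    have h2 : a * x = x * a := (Subgroup.mem_centralizer_iff.mp hxC) a (le_mapJ hA ha)
    have h3 : Commute x a := h2.symm
    exact (h3.zpow_left i).eq
  exact h1 (Subgroup.mem_zpowers x)

theorem mem_center_of_mem_wsub {n : ℕ} {T : Subgroup G} {x : G} (hx : x ∈ wsub n T) :
    x ∈ (sSup (maxAE n T)).map T.subtype ∧
    x ∈ Subgroup.centralizer (((sSup (maxAE n T)).map T.subtype : Subgroup G) : Set G) ∧
    x ^ n = 1 := by
  obtain ⟨A₀, hA₀⟩ := maxIn_nonempty n T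
  refine ⟨le_mapJ hA₀ (wsub_le_of_mem hA₀ hx), ?_, (abelExp_wsub n T).2 x hx⟩
  have h1 : (sSup (maxAE n T)).map T.subtype ≤ Subgroup.centralizer ({x} : Set G) := by
    apply mapJ_le
    intro A hA a ha
    rw [Subgroup.mem_centralizer_singleton_iff]
    exact hA.2.1.1 a ha x (wsub_le_of_mem hA hx)
  rw [Subgroup.mem_centralizer_iff]
  intro j hj
  exact Subgroup.mem_centralizer_singleton_iff.mp (h1 hj)

theorem centerThompsonAOf_eq (T : Subgroup G) : Cfsg.centerThompsonAOf T = wsub 0 T := by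
  unfold Cfsg.centerThompsonAOf Cfsg.thompsonSubgroupAOf Cfsg.thompsonSubgroupA
  rw [maxAbelianSubgroups_eq]
  ext x
  constructor
  · rintro ⟨h1, h2⟩
    exact mem_wsub_of_mem_center h1 h2 (pow_zero x)
  · intro hx
    obtain ⟨h1, h2, -⟩ := mem_center_of_mem_wsub hx
    exact ⟨h1, h2⟩

theorem omegaCenterThompson_map_eq (p : ℕ) (T : Subgroup G) :
    (Cfsg.omegaCenterThompson p T).map T.subtype = wsub p T := by
  unfold Cfsg.omegaCenterThompson Cfsg.omegaOne Cfsg.thompsonSubgroup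
  rw [maxElementaryAbelianSubgroups_eq]
  apply le_antisymm
  · rw [Subgroup.map_le_iff_le_comap, Subgroup.closure_le]
    rintro x ⟨⟨hxJ, hxC⟩, hxp⟩
    show (x : G) ∈ wsub p T
    apply mem_wsub_of_mem_center
    · exact ⟨x, hxJ, rfl⟩
    · rw [Subgroup.mem_centralizer_iff]
      rintro _ ⟨j, hj, rfl⟩
      have := (Subgroup.mem_centralizer_iff.mp hxC) j hj
      have := congrArg Subtype.val this
      simpa using this
    · have := congrArg Subtype.val hxp
      simpa using this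
  · intro y hy
    obtain ⟨h1, h2, h3⟩ := mem_center_of_mem_wsub hy
    obtain ⟨x, hxJ, rfl⟩ := h1
    refine ⟨x, Subgroup.subset_closure ⟨⟨hxJ, ?_⟩, ?_⟩, rfl⟩
    · show x ∈ Subgroup.centralizer ((sSup (maxAE p T) : Subgroup T) : Set T)
      rw [Subgroup.mem_centralizer_iff]
      intro j hj
      have := (Subgroup.mem_centralizer_iff.mp h2) (T.subtype j) ⟨j, hj, rfl⟩
      exact Subtype.ext this
    · exact Subtype.ext h3

end Bridge

end ZJ

end Cfsg.Agent.Lib.Lead
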