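import Mathlib
import Cfsg.Agent.Lib.Lead.ZJ6

set_option autoImplicit false

namespace Cfsg.Agent.Lib.Lead

namespace ZJ

open scoped commutatorElement

variable {G : Type*} [Group G]

section Finite
variable [Finite G] {p : ℕ} [hp : Fact p.Prime]

/-- the abstract quadratic-action hypothesis used by the `ZJ`-argument -/
def QuadHyp (p : ℕ) (G : Type*) [Group G] : Prop :=
  ∀ (B : Subgroup G) [B.Normal], IsPGroup p B → ∀ A : Subgroup G, IsPGroup p A →
    (∀ x ∈ A, ∀ y ∈ A, x * y = y * x) → B ≤ Subgroup.normalizer (A : Set G) → A ≤ stabPre p B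

theorem quadHyp_of_isPStableOn
    (hst : ∀ (P : Subgroup G) [P.Normal], IsPGroup p P → Cfsg.IsPStableOn p P) : QuadHyp p G := by
  intro B _ hB A _ hA hBA
  exact le_stabPre_of_quadratic B (hst B hB) A hA hBA

/-- strong closure in the form used here -/
def SClosed (D S : Subgroup G) : Prop :=
  D ≤ S ∧ ∀ x ∈ D, ∀ g : G, g * x * g⁻¹ ∈ S → g * x * g⁻¹ ∈ D

theorem sClosed_self (S : Subgroup G) : SClosed S S := ⟨le_rfl, fun _ _ _ h => h⟩

theorem SClosed.le_normalizer {D S : Subgroup G} (h : SClosed D S) :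
    S ≤ Subgroup.normalizer (D : Set G) := by
  intro s hs
  apply Subgroup.mem_normalizer_fintype
  intro x hx
  exact h.2 x hx s (S.mul_mem (S.mul_mem hs (h.1 hx)) (S.inv_mem hs))

theorem SClosed.inf_normal {D S : Subgroup G} (h : SClosed D S) (B : Subgroup G) [hB : B.Normal]
    (hBS : B ≤ S) : (D ⊓ B).Normal := by
  constructor
  intro x hx g
  have h1 : g * x * g⁻¹ ∈ B := hB.conj_mem x hx.2 g
  exact ⟨h.2 x hx.1 g (hBS h1), h1⟩

/-- normalizers of `S ⊓ X` (for `X` normal) normalize `D ⊓ X` -/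
theorem SClosed.normalizer_inf_le {D S : Subgroup G} (h : SClosed D S) (X : Subgroup G) :
    Subgroup.normalizer ((S ⊓ X : Subgroup G) : Set G) ≤
      Subgroup.normalizer ((D ⊓ X : Subgroup G) : Set G) := by
  intro g hg
  apply Subgroup.mem_normalizer_fintype
  intro x hx
  have h1 : g * x * g⁻¹ ∈ S ⊓ X :=
    (Subgroup.mem_normalizer_iff.mp hg x).mp ⟨h.1 hx.1, hx.2⟩
  exact ⟨h.2 x hx.1 g h1.1, h1.2⟩

/-- the key lemma, general form: `W(D) ∩ B` is normal for every normal `p`-subgroup `B ≤ D` -/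
theorem wsub_inf_normal_gen (hp2 : p ≠ 2) (n : ℕ) (S : Sylow p G) (D : Subgroup G)
    (hD : SClosed D (S : Subgroup G)) (hq : QuadHyp p G) :
    ∀ (k : ℕ) (B : Subgroup G), B.Normal → IsPGroup p B → B ≤ D → Nat.card B = k →
      (wsub n D ⊓ B).Normal := by
  intro k
  induction k using Nat.strong_induction_on with
  | _ k ih =>
  intro B hBn hBp hBD hk
  haveI := hBn
  set W := wsub n D with hW
  by_cases hB1 : B = ⊥
  · rw [hB1, inf_bot_eq]; infer_instance
  have hDS : D ≤ S := hD.1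
  have hDp : IsPGroup p D := S.isPGroup'.to_le hDS
  have hDNB : D ≤ Subgroup.normalizer (B : Set G) := by
    rw [Subgroup.normalizer_eq_top_iff.mpr hBn]; exact le_top
  have hDW : D ≤ Subgroup.normalizer (W : Set G) :=
    le_trans Subgroup.le_normalizer (normalizer_le_normalizer_wsub n D)
  set L := Subgroup.normalClosure ((W ⊓ B : Subgroup G) : Set G) with hL
  have hLB : L ≤ B := Subgroup.normalClosure_le_normal inf_le_right
  have hWbL : W ⊓ B ≤ L := Subgroup.subset_normalClosure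
  have hcardlt : ∀ {M : Subgroup G}, M < B → Nat.card M < k := by
    intro M hM
    rw [← hk]
    have h1 := Subgroup.card_le_of_le hM.le
    rcases lt_or_eq_of_le h1 with h | h
    · exact h
    · exact absurd (Subgroup.eq_of_le_of_card_ge hM.le h.ge) hM.ne
  by_cases hLeq : L = B
  swap
  · have hlt : L < B := lt_of_le_of_ne hLB hLeq
    have h1 := ih _ (hcardlt hlt) L Subgroup.normalClosure_normal (hBp.to_le hLB)
      (le_trans hLB hBD) rfl
    have h2 : W ⊓ L = W ⊓ B :=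
      le_antisymm (inf_le_inf_left _ hLB) (le_inf inf_le_left hWbL)
    rw [← h2]; exact h1
  -- now `B` is the normal closure of `W ⊓ B`
  have hder_lt : ⁅B, B⁆ < B := commutator_lt_of_isPGroup hBp hB1
  haveI hdern : (⁅B, B⁆ : Subgroup G).Normal := Subgroup.commutator_normal B B
  haveI hKn : (W ⊓ ⁅B, B⁆).Normal :=
    ih _ (hcardlt hder_lt) ⁅B, B⁆ hdern (hBp.to_le hder_lt.le) (le_trans hder_lt.le hBD) rfl
  have hWbB : ⁅W ⊓ B, B⁆ ≤ W ⊓ ⁅B, B⁆ := by
    apply le_inf
    · rw [Subgroup.commutator_le]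
      intro w hw y hy
      rw [commutatorElement_def]
      have h1 : y * w⁻¹ * y⁻¹ ∈ W :=
        (Subgroup.mem_normalizer_iff.mp (hDW (hBD hy)) w⁻¹).mp (W.inv_mem hw.1)
      have e : w * y * w⁻¹ * y⁻¹ = w * (y * w⁻¹ * y⁻¹) := by group
      rw [e]; exact W.mul_mem hw.1 h1
    · exact Subgroup.commutator_mono inf_le_right le_rfl
  have hBB : ⁅B, B⁆ ≤ W ⊓ ⁅B, B⁆ := by
    have := commutator_normalClosure_le (W ⊓ ⁅B, B⁆) B (W ⊓ B) hWbB
    rw [← hL, hLeq] at this
    exact this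
  have hBW : ⁅B, B⁆ ≤ W := le_trans hBB inf_le_left
  have hderA : ∀ A ∈ maxIn n D, ⁅B, B⁆ ≤ A := fun A hA =>
    le_trans hBW (wsub_le_of_mem hA)
  -- a member normalized by `B`
  obtain ⟨U₀, hU₀⟩ := maxIn_nonempty n D
  obtain ⟨A₀, hA₀, -, -, hBA₀⟩ := replacement_property_sub hp2 n D D
    B hDp le_rfl hBD Subgroup.le_normalizer hDNB (fun _ => True) (fun _ _ => trivial)
    ⟨U₀, hU₀, hderA U₀ hU₀, trivial⟩
  have hA₀X : A₀ ≤ stabPre p B := hq B hBp A₀ (hDp.to_le hA₀.1) hA₀.2.1.1 hBA₀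
  set P₁ : Subgroup G := D ⊓ stabPre p B with hP₁
  have hA₀P₁ : A₀ ≤ P₁ := le_inf hA₀.1 hA₀X
  have hWW₁ : W ≤ wsub n P₁ := wsub_le_wsub inf_le_left hA₀ hA₀P₁
  have hfact := normalizer_sup_centralizer_eq_top S B
  -- `W₁ = W(P₁) ∩ B` is normal
  have hW₁n : (wsub n P₁ ⊓ B).Normal := by
    rw [← Subgroup.normalizer_eq_top_iff, eq_top_iff, ← hfact]
    apply sup_le
    · refine le_trans (hD.normalizer_inf_le (stabPre p B)) ?_
      refine le_trans ?_ Subgroup.inf_normalizer_le_normalizer_inf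
      apply le_inf (normalizer_le_normalizer_wsub n P₁)
      rw [Subgroup.normalizer_eq_top_iff.mpr hBn]; exact le_top
    · intro c hc
      have hcx : ∀ x ∈ B, c * x * c⁻¹ = x := by
        intro x hx
        have := (Subgroup.mem_centralizer_iff.mp hc) x hx
        rw [← this, mul_inv_cancel_right]
      rw [Subgroup.mem_normalizer_iff]
      intro x
      constructor
      · intro hx
        rw [hcx x hx.2]; exact hx
      · intro hx
        have h1 : c⁻¹ * (c * x * c⁻¹) * c⁻¹⁻¹ = c * x * c⁻¹ := by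
          have hc' : c⁻¹ ∈ Subgroup.centralizer (B : Set G) := Subgroup.inv_mem _ hc
          have := (Subgroup.mem_centralizer_iff.mp hc') _ hx.2
          rw [← this, mul_inv_cancel_right]
        have e : c⁻¹ * (c * x * c⁻¹) * c⁻¹⁻¹ = x := by group
        rw [e] at h1
        rw [h1]; exact hx
  have hBW₁ : B ≤ wsub n P₁ := by
    have h1 : L ≤ wsub n P₁ ⊓ B :=
      Subgroup.normalClosure_le_normal (inf_le_inf_right _ hWW₁)
    rw [hLeq] at h1
    exact le_trans h1 inf_le_left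
  have hBab : ⁅B, B⁆ = ⊥ := by
    rw [eq_bot_iff, Subgroup.commutator_le]
    intro x hx y hy
    rw [Subgroup.mem_bot, commutatorElement_eq_one_iff_mul_comm]
    exact (abelExp_wsub n P₁).1 x (hBW₁ hx) y (hBW₁ hy)
  -- every member contains `B`
  have hall : ∀ A ∈ maxIn n D, B ≤ A := by
    by_contra hcon
    push_neg at hcon
    obtain ⟨U, hU, hBU⟩ := hcon
    obtain ⟨A, hA, -, hnBA, hBA⟩ := replacement_property_sub hp2 n D
      D B hDp le_rfl hBD Subgroup.le_normalizer hDNB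
      (fun A => ¬ B ≤ A) (by
        intro A' hlt hle
        rw [inf_eq_right.mpr hle] at hlt
        exact lt_irrefl _ hlt)
      ⟨U, hU, by rw [hBab]; exact bot_le, hBU⟩
    apply hnBA
    have hAX : A ≤ stabPre p B := hq B hBp A (hDp.to_le hA.1) hA.2.1.1 hBA
    have hAP₁ : A ≤ P₁ := le_inf hA.1 hAX
    have hAm : A ∈ maxIn n P₁ := mem_maxIn_sub inf_le_left hA hAP₁
    exact le_trans hBW₁ (wsub_le_of_mem hAm)
  have hBWfinal : B ≤ W := le_wsub_of_le_all hall
  rw [inf_eq_right.mpr hBWfinal]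
  exact hBn

/-- the ZJ-theorem, general form: normality of `W(D)` for `D` strongly closed in a Sylow
`p`-subgroup -/
theorem wsub_normal_gen (hp2 : p ≠ 2) (n : ℕ)
    (hc : Subgroup.centralizer (Cfsg.pCore p G : Set G) ≤ Cfsg.pCore p G)
    (S : Sylow p G) (D : Subgroup G) (hD : SClosed D (S : Subgroup G)) (hq : QuadHyp p G) :
    (wsub n D).Normal := by
  haveI hQn : (Cfsg.pCore p G).Normal := Cfsg.Agent.Lib.Helper9.pCore_normal' p
  have hQ : IsPGroup p (Cfsg.pCore p G) := Cfsg.Agent.Lib.Helper9.pCore_isPGroup' p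
  have hQS : Cfsg.pCore p G ≤ S := Cfsg.Agent.Lib.Helper9.pCore_le_sylow S
  have hSW : (S : Subgroup G) ≤ Subgroup.normalizer (wsub n D : Set G) :=
    le_trans hD.le_normalizer (normalizer_le_normalizer_wsub n D)
  have hWp : IsPGroup p (wsub n D) := S.isPGroup'.to_le (le_trans (wsub_le n D) hD.1)
  have h1 : wsub n D ≤ stabPre p (Cfsg.pCore p G) :=
    hq (Cfsg.pCore p G) hQ _ hWp (abelExp_wsub n _).1 (le_trans hQS hSW)
  have h2 : stabPre p (Cfsg.pCore p G) ≤ Cfsg.pCore p G :=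
    Cfsg.Agent.Lib.Helper9.le_pCore (stabPre_normal p _) (stabPre_isPGroup _ hQ hc)
  haveI hBn : (D ⊓ Cfsg.pCore p G).Normal := hD.inf_normal _ hQS
  have h3 := wsub_inf_normal_gen hp2 n S D hD hq _ (D ⊓ Cfsg.pCore p G) hBn
    (hQ.to_le inf_le_right) inf_le_left rfl
  rw [inf_eq_left.mpr (le_inf (wsub_le n D) (le_trans h1 h2))] at h3
  exact h3

end Finite

end ZJ

end Cfsg.Agent.Lib.Lead
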