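import Mathlib
import Cfsg.Prelude.Def_LocalEven
import Cfsg.Agent.Lib.Lead.ZJ7

set_option autoImplicit false

namespace Cfsg.Agent.Lib.Lead

namespace ZJ

open scoped commutatorElement

variable {G : Type*} [Group G]

/-- an abelian subgroup normalized by `B` acts quadratically on `B`, elementwise -/
theorem quadratic_of_normalizes (B A : Subgroup G)
    (hA : ∀ x ∈ A, ∀ y ∈ A, x * y = y * x)
    (hBA : B ≤ Subgroup.normalizer (A : Set G)) (a : G) (ha : a ∈ A) :
    ⁅⁅B, Subgroup.zpowers a⁆, Subgroup.zpowers a⁆ = ⊥ := by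
  have h1 : ⁅B, Subgroup.zpowers a⁆ ≤ A := by
    rw [Subgroup.commutator_le]
    intro x hx y hy
    have hyA : y ∈ A := (Subgroup.zpowers_le.mpr ha) hy
    rw [commutatorElement_def]
    have h2 : x * y * x⁻¹ ∈ A := (Subgroup.mem_normalizer_iff.mp (hBA hx) y).mp hyA
    exact A.mul_mem h2 (A.inv_mem hyA)
  rw [eq_bot_iff]
  calc ⁅⁅B, Subgroup.zpowers a⁆, Subgroup.zpowers a⁆ ≤ ⁅A, A⁆ :=
        Subgroup.commutator_mono h1 (Subgroup.zpowers_le.mpr ha)
    _ ≤ ⊥ := by
        rw [Subgroup.commutator_le]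
        intro x hx y hy
        rw [Subgroup.mem_bot, commutatorElement_eq_one_iff_mul_comm]
        exact hA x hx y hy

/-- `[B, A, A] = 1` for an abelian subgroup `A` normalized by `B` -/
theorem quadratic_of_normalizes' (B A : Subgroup G)
    (hA : ∀ x ∈ A, ∀ y ∈ A, x * y = y * x)
    (hBA : B ≤ Subgroup.normalizer (A : Set G)) : ⁅⁅B, A⁆, A⁆ = ⊥ := by
  have h1 : ⁅B, A⁆ ≤ A := by
    rw [Subgroup.commutator_le]
    intro x hx y hyA
    rw [commutatorElement_def]
    have h2 : x * y * x⁻¹ ∈ A := (Subgroup.mem_normalizer_iff.mp (hBA hx) y).mp hyA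
    exact A.mul_mem h2 (A.inv_mem hyA)
  rw [eq_bot_iff]
  calc ⁅⁅B, A⁆, A⁆ ≤ ⁅A, A⁆ := Subgroup.commutator_mono h1 le_rfl
    _ ≤ ⊥ := by
        rw [Subgroup.commutator_le]
        intro x hx y hy
        rw [Subgroup.mem_bot, commutatorElement_eq_one_iff_mul_comm]
        exact hA x hx y hy

section Finite
variable [Finite G] {p : ℕ} [hp : Fact p.Prime]

/-- images of `O_p` under surjective homomorphisms lie in `O_p` -/
theorem pCore_map_le_of_surjective {H : Type*} [Group H] (f : G →* H)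
    (hf : Function.Surjective f) : (Cfsg.pCore p G).map f ≤ Cfsg.pCore p H := by
  apply Cfsg.Agent.Lib.Helper9.le_pCore
  · exact (Cfsg.Agent.Lib.Helper9.pCore_normal' p).map f hf
  · exact (Cfsg.Agent.Lib.Helper9.pCore_isPGroup' p).map f

/-- the canonical map `N_G(B)/C_N(B) → G/C_G(B)` -/
noncomputable def normQuotMap (B : Subgroup G) [B.Normal] :
    (↥(Subgroup.normalizer (B : Set G)) ⧸
      (Subgroup.centralizer (B : Set G)).subgroupOf (Subgroup.normalizer (B : Set G))) →*
    G ⧸ Subgroup.centralizer (B : Set G) :=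
  QuotientGroup.map _ _ (Subgroup.normalizer (B : Set G)).subtype (fun _ hx => hx)

theorem normQuotMap_mk (B : Subgroup G) [B.Normal] (x : ↥(Subgroup.normalizer (B : Set G))) :
    normQuotMap B (QuotientGroup.mk x) =
      (QuotientGroup.mk (x : G) : G ⧸ Subgroup.centralizer (B : Set G)) := rfl

theorem normQuotMap_surjective (B : Subgroup G) [hB : B.Normal] :
    Function.Surjective (normQuotMap B) := by
  intro y
  obtain ⟨g, rfl⟩ := QuotientGroup.mk_surjective y
  have hg : g ∈ Subgroup.normalizer (B : Set G) := by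
    rw [Subgroup.normalizer_eq_top_iff.mpr hB]; trivial
  exact ⟨QuotientGroup.mk ⟨g, hg⟩, rfl⟩

/-- transfer from `O_p(N_G(B)/C_G(B))` to `stabPre p B` for normal `B` -/
theorem mem_stabPre_of_mem_pCore (B : Subgroup G) [hB : B.Normal] (a : G)
    (ha : a ∈ Subgroup.normalizer (B : Set G))
    (h : (QuotientGroup.mk (⟨a, ha⟩ : ↥(Subgroup.normalizer (B : Set G))) :
        ↥(Subgroup.normalizer (B : Set G)) ⧸
          (Subgroup.centralizer (B : Set G)).subgroupOf (Subgroup.normalizer (B : Set G))) ∈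
      Cfsg.pCore p _) : a ∈ stabPre p B := by
  unfold stabPre
  rw [Subgroup.mem_comap]
  have h1 := pCore_map_le_of_surjective (p := p) (normQuotMap B) (normQuotMap_surjective B)
  exact h1 ⟨_, h, rfl⟩

theorem quadHyp_of_isNormalizerPStable (hst : Cfsg.IsNormalizerPStable p G) : QuadHyp p G := by
  intro B hBn hB A _ hA hBA a ha
  have haN : a ∈ Subgroup.normalizer (B : Set G) := by
    rw [Subgroup.normalizer_eq_top_iff.mpr hBn]; trivial
  exact mem_stabPre_of_mem_pCore B a haN
    (hst B hB a haN (quadratic_of_normalizes B A hA hBA a ha))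

end Finite

theorem omegaOne_centerThompsonOf_eq [Finite G] (p : ℕ) (T : Subgroup G) :
    Cfsg.omegaOne p (Cfsg.centerThompsonOf p T) = wsub p T := by
  unfold Cfsg.omegaOne Cfsg.centerThompsonOf Cfsg.thompsonSubgroupOf Cfsg.thompsonSubgroup
  rw [maxElementaryAbelianSubgroups_eq]
  apply le_antisymm
  · rw [Subgroup.closure_le]
    rintro x ⟨⟨hxJ, hxC⟩, hxp⟩
    exact mem_wsub_of_mem_center hxJ hxC hxp
  · intro y hy
    obtain ⟨h1, h2, h3⟩ := mem_center_of_mem_wsub hy
    exact Subgroup.subset_closure ⟨⟨h1, h2⟩, h3⟩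

theorem sClosed_of_isStronglyClosed {D S : Subgroup G} (h : Cfsg.IsStronglyClosed D S) :
    SClosed D S := h

end ZJ

end Cfsg.Agent.Lib.Lead
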