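import Mathlib
import Cfsg.Agent.Lib.Lead.ZJ8

set_option autoImplicit false

namespace Cfsg.Agent.Lib.Lead

namespace ZJ

variable {G H : Type*} [Group G] [Group H]

/-- images of `AbelExp n` subgroups -/
theorem AbelExp.map_hom {n : ℕ} {A : Subgroup G} (hA : AbelExp n A) (f : G →* H) :
    AbelExp n (A.map f) := by
  constructor
  · rintro _ ⟨x, hx, rfl⟩ _ ⟨y, hy, rfl⟩
    rw [← map_mul, ← map_mul, hA.1 x hx y hy]
  · rintro _ ⟨x, hx, rfl⟩
    rw [← map_pow, hA.2 x hx, map_one]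

theorem abelExp_of_map {n : ℕ} {A T : Subgroup G} (f : G →* H) (hf : Set.InjOn f T)
    (hAT : A ≤ T) (hA : AbelExp n (A.map f)) : AbelExp n A := by
  constructor
  · intro x hx y hy
    apply hf (T.mul_mem (hAT hx) (hAT hy)) (T.mul_mem (hAT hy) (hAT hx))
    rw [map_mul, map_mul]
    exact hA.1 _ ⟨x, hx, rfl⟩ _ ⟨y, hy, rfl⟩
  · intro a ha
    apply hf (T.pow_mem (hAT ha) n) T.one_mem
    rw [map_pow, map_one]
    exact hA.2 _ ⟨a, ha, rfl⟩

theorem card_map_of_injOn {A T : Subgroup G} (f : G →* H) (hf : Set.InjOn f T) (hAT : A ≤ T) :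
    Nat.card (A.map f) = Nat.card A := by
  have : Function.Injective (f.comp A.subtype) := by
    intro x y hxy
    exact Subtype.ext (hf (hAT x.2) (hAT y.2) hxy)
  have h1 : A.map f = (f.comp A.subtype).range := by
    rw [MonoidHom.range_comp, Subgroup.range_subtype]
  rw [h1]
  exact (Nat.card_congr (MonoidHom.ofInjective this).toEquiv).symm

theorem map_comap_inf_eq {T : Subgroup G} (f : G →* H) {B' : Subgroup H} (hB' : B' ≤ T.map f) :
    (B'.comap f ⊓ T).map f = B' := by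
  apply le_antisymm
  · rintro _ ⟨x, hx, rfl⟩
    exact hx.1
  · intro y hy
    obtain ⟨x, hx, rfl⟩ := hB' hy
    exact ⟨x, ⟨hy, hx⟩, rfl⟩

section Finite
variable [Finite G] [Finite H]

theorem map_mem_maxIn_of_injOn {n : ℕ} {T A : Subgroup G} (f : G →* H) (hf : Set.InjOn f T)
    (hA : A ∈ maxIn n T) : A.map f ∈ maxIn n (T.map f) := by
  refine ⟨Subgroup.map_mono hA.1, hA.2.1.map_hom f, fun B' hB'T hB' => ?_⟩
  have h1 := map_comap_inf_eq f hB'T
  have h2 : AbelExp n (B'.comap f ⊓ T) := abelExp_of_map f hf inf_le_right (by rw [h1]; exact hB')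
  have h3 := hA.2.2 _ inf_le_right h2
  rw [← h1, card_map_of_injOn f hf inf_le_right, card_map_of_injOn f hf hA.1]
  exact h3

theorem exists_of_mem_maxIn_map {n : ℕ} {T : Subgroup G} {A' : Subgroup H} (f : G →* H)
    (hf : Set.InjOn f T) (hA' : A' ∈ maxIn n (T.map f)) :
    ∃ A ∈ maxIn n T, A.map f = A' := by
  have h1 := map_comap_inf_eq f hA'.1
  refine ⟨A'.comap f ⊓ T, ⟨inf_le_right, ?_, ?_⟩, h1⟩
  · exact abelExp_of_map f hf inf_le_right (by rw [h1]; exact hA'.2.1)
  · intro B hBT hB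
    have h2 := hA'.2.2 (B.map f) (Subgroup.map_mono hBT) (hB.map_hom f)
    rw [card_map_of_injOn f hf hBT] at h2
    have h3 : Nat.card A' = Nat.card (A'.comap f ⊓ T : Subgroup G) := by
      conv_lhs => rw [← h1]
      exact card_map_of_injOn f hf inf_le_right
    rw [← h3]; exact h2

/-- transport of `wsub` along a homomorphism injective on `T` -/
theorem wsub_map_of_injOn (n : ℕ) (T : Subgroup G) (f : G →* H) (hf : Set.InjOn f T) :
    (wsub n T).map f = wsub n (T.map f) := by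
  apply le_antisymm
  · rintro _ ⟨x, hx, rfl⟩
    rw [SetLike.mem_coe, mem_wsub] at hx
    rw [mem_wsub]
    intro A' hA'
    obtain ⟨A, hA, rfl⟩ := exists_of_mem_maxIn_map f hf hA'
    exact ⟨x, hx A hA, rfl⟩
  · intro y hy
    obtain ⟨x, hxT, rfl⟩ := wsub_le n (T.map f) hy
    refine ⟨x, ?_, rfl⟩
    rw [SetLike.mem_coe, mem_wsub]
    intro A hA
    rw [mem_wsub] at hy
    obtain ⟨a, ha, hax⟩ := hy _ (map_mem_maxIn_of_injOn f hf hA)
    have : a = x := hf (hA.1 ha) hxT hax
    rw [← this]; exact ha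

theorem wsub_map_of_injective (n : ℕ) (T : Subgroup G) (f : G →* H)
    (hf : Function.Injective f) : (wsub n T).map f = wsub n (T.map f) :=
  wsub_map_of_injOn n T f (hf.injOn)

end Finite

end ZJ

end Cfsg.Agent.Lib.Lead
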