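import Mathlib
import Cfsg.Prelude.Def_Local
import Cfsg.Agent.Lib.Lead.ZJ9
import Cfsg.Agent.Lib.Helper2.PConstrained

set_option autoImplicit false

namespace Cfsg.Agent.Lib.Lead

namespace ZJ

open scoped commutatorElement

variable {G : Type*} [Group G] [Finite G] {p : ℕ} [hp : Fact p.Prime]

/-- `IsPStable` gives the quadratic hypothesis when `O_{p'}(G) = 1` -/
theorem quadHyp_of_isPStable_of_bot (hO : Cfsg.pPrimeCore p G = ⊥) (hs : Cfsg.IsPStable p G) :
    QuadHyp p G := by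
  intro B hBn hB A hAp hA hBA a ha
  have haN : a ∈ Subgroup.normalizer (B : Set G) := by
    rw [Subgroup.normalizer_eq_top_iff.mpr hBn]; trivial
  apply mem_stabPre_of_mem_pCore B a haN
  have hBle : B ≤ Cfsg.pPrimePCore p G := by
    rw [Cfsg.Agent.Lib.Helper2.PConstrained.pPrimePCore_eq_pCore_of_bot hO]
    exact Cfsg.Agent.Lib.Helper9.le_pCore hBn hB
  have hnorm : (Cfsg.pPrimeCore p G ⊔ B).Normal := by
    rw [hO, bot_sup_eq]; exact hBn
  have h := hs.2.2 A B hAp hB (fun a _ x hx => hBn.conj_mem x hx a) hBle hnorm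
    (quadratic_of_normalizes' B A hA hBA)
  apply h
  exact ⟨⟨a, haN⟩, Subgroup.mem_subgroupOf.mpr ha, rfl⟩

/-- the ZJ-theorem for a group with `O_{p'} = 1` that is `p`-constrained and `p`-stable -/
theorem wsub_normal_of_local (hp2 : p ≠ 2) (n : ℕ) (hO : Cfsg.pPrimeCore p G = ⊥)
    (hc : Cfsg.IsPConstrained p G) (hs : Cfsg.IsPStable p G) (S : Sylow p G) :
    (wsub n (S : Subgroup G)).Normal :=
  wsub_normal_gen hp2 n
    ((Cfsg.Agent.Lib.Helper2.PConstrained.isPConstrained_iff_of_bot hO).mp hc) S _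
    (sClosed_self _) (quadHyp_of_isPStable_of_bot hO hs)

end ZJ

end Cfsg.Agent.Lib.Lead
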