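import Mathlib
import Cfsg.Agent.Lib.Lead.ZJ10

set_option autoImplicit false

namespace Cfsg.Agent.Lib.Lead

namespace ZJ

open scoped commutatorElement

variable {G : Type*} [Group G] [Finite G] {p : ℕ} [hp : Fact p.Prime]

/-- the ZJ-theorem inside a local subgroup `N`, read in `G` -/
theorem le_normalizer_wsub_of_local (hp2 : p ≠ 2) (n : ℕ) (N : Subgroup G)
    (hO : Cfsg.pPrimeCore p ↥N = ⊥) (hc : Cfsg.IsPConstrained p ↥N)
    (hs : Cfsg.IsPStable p ↥N) (R' : Sylow p ↥N) :
    N ≤ Subgroup.normalizer (wsub n ((R' : Subgroup ↥N).map N.subtype) : Set G) := by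
  have hn := wsub_normal_of_local hp2 n hO hc hs R'
  have e := wsub_map_of_injective n (R' : Subgroup ↥N) N.subtype N.subtype_injective
  intro g hg
  apply Subgroup.mem_normalizer_fintype
  intro x hx
  rw [← e] at hx ⊢
  obtain ⟨x', hx', rfl⟩ := hx
  exact ⟨⟨g, hg⟩ * x' * ⟨g, hg⟩⁻¹, hn.conj_mem x' hx' ⟨g, hg⟩, rfl⟩

/-- `W(T)` is nontrivial for a nontrivial `p`-group `T` -/
theorem wsub_ne_bot (n : ℕ) (hn : p ∣ n) (T : Subgroup G) (hT : IsPGroup p T) (hT1 : T ≠ ⊥) :
    wsub n T ≠ ⊥ := by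
  haveI : Nontrivial T := (Subgroup.nontrivial_iff_ne_bot T).mpr hT1
  haveI hZn : Nontrivial (Subgroup.center T) := hT.center_nontrivial
  have hZp : IsPGroup p (Subgroup.center T) := hT.to_subgroup _
  obtain ⟨k, hk⟩ := IsPGroup.iff_card.mp hZp
  have hk0 : k ≠ 0 := by
    rintro rfl
    rw [pow_zero] at hk
    have := Finite.one_lt_card (α := Subgroup.center T)
    omega
  have hdvd : p ∣ Nat.card (Subgroup.center T) := by
    rw [hk]; exact dvd_pow_self p hk0
  obtain ⟨z, hz⟩ := exists_prime_orderOf_dvd_card' p hdvd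
  have hz1 : (z : T) ≠ 1 := by
    intro h
    have : z = 1 := Subtype.ext h
    rw [this, orderOf_one] at hz
    exact hp.out.one_lt.ne hz
  have hzp : ((z : T) : G) ^ p = 1 := by
    have h1 : z ^ p = 1 := by rw [← hz]; exact pow_orderOf_eq_one z
    have h2 := congrArg (fun w : Subgroup.center T => ((w : T) : G)) h1
    simpa using h2
  have hzn : ((z : T) : G) ^ n = 1 := by
    obtain ⟨m, rfl⟩ := hn
    rw [pow_mul, hzp, one_pow]
  have hzT : ((z : T) : G) ∈ T := (z : T).2
  have hcomm : ∀ a ∈ T, ((z : T) : G) * a = a * ((z : T) : G) := by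
    intro a ha
    have h1 := (Subgroup.mem_center_iff.mp z.2) ⟨a, ha⟩
    have h2 := congrArg (fun w : T => (w : G)) h1
    simpa using h2.symm
  have hle : Subgroup.zpowers ((z : T) : G) ≤ wsub n T := by
    apply le_wsub_of_centralizes (Subgroup.zpowers_le.mpr hzT) (abelExp_zpowers _ hzn)
    intro A hA y hy a ha
    obtain ⟨i, rfl⟩ := Subgroup.mem_zpowers_iff.mp hy
    have h3 : Commute ((z : T) : G) a := hcomm a (hA.1 ha)
    exact (h3.zpow_left i).eq
  intro hbot
  rw [hbot] at hle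
  have := hle (Subgroup.mem_zpowers _)
  rw [Subgroup.mem_bot] at this
  apply hz1
  exact Subtype.ext this

end ZJ

end Cfsg.Agent.Lib.Lead
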