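import Mathlib
import Cfsg.Agent.Lib.Lead.ZJ11
import Cfsg.Agent.Lib.Helper3.Basic
import Cfsg.Agent.Lib.Helper2.Schmidt

set_option autoImplicit false

namespace Cfsg.Agent.Lib.Lead

namespace ZJ

open scoped commutatorElement Pointwise

variable {G : Type*} [Group G]

theorem conj_mem_normalizer_smul [Finite G] (Q : Subgroup G) (m g : G)
    (hg : g ∈ Subgroup.normalizer (Q : Set G)) :
    m * g * m⁻¹ ∈ Subgroup.normalizer ((MulAut.conj m • Q : Subgroup G) : Set G) := by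
  apply Subgroup.mem_normalizer_fintype
  intro x hx
  rw [SetLike.mem_coe] at hx
  show _ ∈ (MulAut.conj m • Q : Subgroup G)
  rw [Cfsg.Agent.Lib.Helper3.mem_conj_smul_iff] at hx ⊢
  have h1 := (Subgroup.mem_normalizer_iff.mp hg (m⁻¹ * x * m)).mp hx
  have e : m⁻¹ * (m * g * m⁻¹ * x * (m * g * m⁻¹)⁻¹) * m = g * (m⁻¹ * x * m) * g⁻¹ := by group
  rw [e]; exact h1

theorem card_lt_of_lt [Finite G] {A B : Subgroup G} (h : A < B) : Nat.card A < Nat.card B := by
  have h1 := Subgroup.card_le_of_le h.le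
  rcases lt_or_eq_of_le h1 with h2 | h2
  · exact h2
  · exact absurd (Subgroup.eq_of_le_of_card_ge h.le h2.ge) h.ne

variable [Finite G] {p : ℕ} [hp : Fact p.Prime]

/-- if all `p`-locals have `O_{p'} = 1`, are `p`-constrained and `p`-stable (`p` odd), then
`N_G(Z(J(P)))` contains the normalizer of every nontrivial subgroup of `P` -/
theorem local_control (hp2 : p ≠ 2) (n : ℕ) (hn : p ∣ n)
    (hloc : ∀ Q : Subgroup G, IsPGroup p Q → Q ≠ ⊥ →
      Cfsg.pPrimeCore p ↥(Subgroup.normalizer (Q : Set G)) = ⊥ ∧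
      Cfsg.IsPConstrained p ↥(Subgroup.normalizer (Q : Set G)) ∧
      Cfsg.IsPStable p ↥(Subgroup.normalizer (Q : Set G)))
    (P : Sylow p G) (Q : Subgroup G) (hQP : Q ≤ (P : Subgroup G)) (hQ1 : Q ≠ ⊥) :
    Subgroup.normalizer (Q : Set G) ≤
      Subgroup.normalizer (wsub n (P : Subgroup G) : Set G) := by
  set M := Subgroup.normalizer (wsub n (P : Subgroup G) : Set G) with hM
  by_contra hcon
  obtain ⟨Q₀, ⟨hQ₀P, hQ₀1, hQ₀M⟩, hmax⟩ := exists_max_subgroup
    (fun Q : Subgroup G => Q ≤ (P : Subgroup G) ∧ Q ≠ ⊥ ∧ ¬ Subgroup.normalizer (Q : Set G) ≤ M)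
    (fun Q => Nat.card ((P : Subgroup G) ⊓ Subgroup.normalizer (Q : Set G) : Subgroup G))
    ⟨Q, hQP, hQ1, hcon⟩
  set N := Subgroup.normalizer (Q₀ : Set G) with hN
  set R₀ : Subgroup G := (P : Subgroup G) ⊓ N with hR₀
  have hQ₀p : IsPGroup p Q₀ := P.isPGroup'.to_le hQ₀P
  obtain ⟨hO, hc, hs⟩ := hloc Q₀ hQ₀p hQ₀1
  have hQ₀R₀ : Q₀ ≤ R₀ := le_inf hQ₀P Subgroup.le_normalizer
  have hR₀p : IsPGroup p R₀ := P.isPGroup'.to_le inf_le_left
  have hPM : (P : Subgroup G) ≤ M :=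
    le_trans Subgroup.le_normalizer (normalizer_le_normalizer_wsub n (P : Subgroup G))
  -- `R₀ ≠ P`
  have hne : R₀ ≠ (P : Subgroup G) := by
    intro h
    have hPN : (P : Subgroup G) ≤ N := by rw [← h]; exact inf_le_right
    have hmap : ((P.subtype hPN : Sylow p ↥N) : Subgroup ↥N).map N.subtype = (P : Subgroup G) := by
      rw [Sylow.coe_subtype]
      exact Subgroup.map_subgroupOf_eq_of_le hPN
    have := le_normalizer_wsub_of_local hp2 n N hO hc hs (P.subtype hPN)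
    rw [hmap] at this
    exact hQ₀M this
  have hlt : R₀ < (P : Subgroup G) := lt_of_le_of_ne inf_le_left hne
  have hPnil : Group.IsNilpotent (P : Subgroup G) := P.isPGroup'.isNilpotent
  have hgrow : R₀ < (P : Subgroup G) ⊓ Subgroup.normalizer (R₀ : Set G) :=
    Cfsg.Agent.Lib.Helper2.Schmidt.nilpotent_normalizer_grows _ R₀ hPnil hlt
  set K := wsub n R₀ with hK
  have hK1 : K ≠ ⊥ := wsub_ne_bot n hn R₀ hR₀p (ne_bot_of_le_ne_bot hQ₀1 hQ₀R₀)
  have hKP : K ≤ (P : Subgroup G) := le_trans (wsub_le n R₀) inf_le_left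
  have hNR₀K : Subgroup.normalizer (R₀ : Set G) ≤ Subgroup.normalizer (K : Set G) :=
    normalizer_le_normalizer_wsub n R₀
  have hKM : Subgroup.normalizer (K : Set G) ≤ M := by
    by_contra h
    have h1 := hmax K ⟨hKP, hK1, h⟩
    have h2 : R₀ < (P : Subgroup G) ⊓ Subgroup.normalizer (K : Set G) :=
      lt_of_lt_of_le hgrow (inf_le_inf_left _ hNR₀K)
    have h3 := card_lt_of_lt h2
    exact absurd h1 (not_le.mpr h3)
  have hNR₀M : Subgroup.normalizer (R₀ : Set G) ≤ M := le_trans hNR₀K hKM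
  -- a Sylow subgroup of `N` containing `R₀`
  have hR₀N : R₀ ≤ N := inf_le_right
  obtain ⟨R', hR'⟩ := (hR₀p.comap_subtype : IsPGroup p (R₀.subgroupOf N)).exists_le_sylow
  set R : Subgroup G := (R' : Subgroup ↥N).map N.subtype with hR
  have hR₀R : R₀ ≤ R := by
    intro x hx
    exact ⟨⟨x, hR₀N hx⟩, hR' (Subgroup.mem_subgroupOf.mpr hx), rfl⟩
  have hRN : R ≤ N := Subgroup.map_subtype_le _
  have hRp : IsPGroup p R := R'.isPGroup'.map _
  have hloc' := le_normalizer_wsub_of_local hp2 n N hO hc hs R'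
  rw [← hR] at hloc'
  by_cases hRR₀ : R = R₀
  · rw [hRR₀] at hloc'
    exact hQ₀M (le_trans hloc' hKM)
  · have hlt2 : R₀ < R := lt_of_le_of_ne hR₀R (Ne.symm hRR₀)
    have hRnil : Group.IsNilpotent R := hRp.isNilpotent
    have hgrow2 : R₀ < R ⊓ Subgroup.normalizer (R₀ : Set G) :=
      Cfsg.Agent.Lib.Helper2.Schmidt.nilpotent_normalizer_grows R R₀ hRnil hlt2
    set T : Subgroup G := R ⊓ Subgroup.normalizer (R₀ : Set G) with hT
    have hTM : T ≤ M := le_trans inf_le_right hNR₀M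
    have hTp : IsPGroup p T := hRp.to_le inf_le_left
    have hTN : T ≤ N := le_trans inf_le_left hRN
    obtain ⟨m, hmM, hmT⟩ :=
      Cfsg.Agent.Lib.Helper3.exists_conj_le_of_le_sylow P M T hPM hTp hTM
    have hQ₀T : Q₀ ≤ T := le_trans hQ₀R₀ hgrow2.le
    have hQ₂P : (MulAut.conj m • Q₀ : Subgroup G) ≤ (P : Subgroup G) := by
      intro x hx
      apply hmT
      rw [Cfsg.Agent.Lib.Helper3.mem_conj_smul_iff] at hx ⊢
      exact hQ₀T hx
    have hQ₂1 : (MulAut.conj m • Q₀ : Subgroup G) ≠ ⊥ := by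
      intro h
      apply hQ₀1
      rw [eq_bot_iff]
      intro x hx
      have h1 := Cfsg.Agent.Lib.Helper3.conj_mem_conj_smul Q₀ m x hx
      rw [h, Subgroup.mem_bot] at h1
      rw [Subgroup.mem_bot]
      have e : x = m⁻¹ * (m * x * m⁻¹) * m := by group
      rw [e, h1]; group
    have hQ₂M : ¬ Subgroup.normalizer ((MulAut.conj m • Q₀ : Subgroup G) : Set G) ≤ M := by
      intro h
      apply hQ₀M
      intro g hg
      have h1 := h (conj_mem_normalizer_smul Q₀ m g hg)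
      have e : g = m⁻¹ * (m * g * m⁻¹) * m := by group
      rw [e]
      exact M.mul_mem (M.mul_mem (M.inv_mem hmM) h1) hmM
    have h1 := hmax _ ⟨hQ₂P, hQ₂1, hQ₂M⟩
    have hsub : (MulAut.conj m • T : Subgroup G) ≤
        (P : Subgroup G) ⊓ Subgroup.normalizer ((MulAut.conj m • Q₀ : Subgroup G) : Set G) := by
      apply le_inf hmT
      intro y hy
      rw [Cfsg.Agent.Lib.Helper3.mem_conj_smul_iff] at hy
      have h2 := conj_mem_normalizer_smul Q₀ m _ (hTN hy)
      have e : m * (m⁻¹ * y * m) * m⁻¹ = y := by group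
      rw [e] at h2
      exact h2
    have hcardT : Nat.card (MulAut.conj m • T : Subgroup G) = Nat.card T := by
      rw [← Cfsg.Agent.Lib.Helper3.map_conj_eq_smul]
      exact Subgroup.card_map_of_injective (MulAut.conj m).injective
    have h2 := Subgroup.card_le_of_le hsub
    have h3 := card_lt_of_lt hgrow2
    rw [hcardT] at h2
    omega

end ZJ

end Cfsg.Agent.Lib.Lead
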