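import Mathlib
import Cfsg.Agent.Lib.Lead.ZJ13

set_option autoImplicit false

namespace Cfsg.Agent.Lib.Lead

namespace ZJ

open scoped commutatorElement Pointwise

variable {G : Type*} [Group G] [Finite G] {p : ℕ} [hp : Fact p.Prime]

/-- Glauberman's factorization `G = O_{p'}(G) N_G(W(P))` for `p`-constrained `p`-stable groups -/
theorem zj_factorization (hp2 : p ≠ 2) (n : ℕ) (hc : Cfsg.IsPConstrained p G)
    (hs : Cfsg.IsPStable p G) (P : Sylow p G) :
    Cfsg.pPrimeCore p G ⊔ Subgroup.normalizer (wsub n (P : Subgroup G) : Set G) = ⊤ := by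
  classical
  set K := Cfsg.pPrimeCore p G with hK
  set π := QuotientGroup.mk' K with hπ
  have hπs : Function.Surjective π := QuotientGroup.mk'_surjective K
  have hcq := Cfsg.Agent.Lib.Helper2.PConstrained.isPConstrained_iff_quot.mp hc
  have hq := quadHyp_quot_of_isPStable hs
  have hnb := wsub_normal_gen hp2 n hcq (P.mapSurjective hπs) _ (sClosed_self _) hq
  rw [Sylow.coe_mapSurjective] at hnb
  have hinj : Set.InjOn π ((P : Subgroup G) : Set G) := injOn_mk_of_isPGroup P.isPGroup'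
  rw [← wsub_map_of_injOn n (P : Subgroup G) π hinj] at hnb
  set W := wsub n (P : Subgroup G) with hW
  have hWP : W ≤ (P : Subgroup G) := wsub_le n _
  have hPN : (P : Subgroup G) ≤ Subgroup.normalizer (W : Set G) :=
    le_trans Subgroup.le_normalizer (normalizer_le_normalizer_wsub n (P : Subgroup G))
  rw [eq_top_iff]
  intro g _
  -- the conjugate of `W` by `g` lies in `P K`
  have hπconj : ∀ (h : G) (w : G), w ∈ W → π (h * w * h⁻¹) ∈ W.map π := by
    intro h w hw
    have := hnb.conj_mem (π w) ⟨w, hw, rfl⟩ (π h)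
    rw [map_mul, map_mul, map_inv]
    exact this
  have hle : (MulAut.conj g • W : Subgroup G) ≤ (P : Subgroup G) ⊔ K := by
    intro x hx
    rw [Cfsg.Agent.Lib.Helper3.mem_conj_smul_iff] at hx
    have h1 := hπconj g _ hx
    have e : g * (g⁻¹ * x * g) * g⁻¹ = x := by group
    rw [e] at h1
    obtain ⟨w, hw, hwx⟩ := h1
    have h2 : w⁻¹ * x ∈ K := QuotientGroup.eq.mp hwx
    have e2 : x = w * (w⁻¹ * x) := by group
    rw [e2]
    exact Subgroup.mul_mem _ (Subgroup.mem_sup_left (hWP hw)) (Subgroup.mem_sup_right h2)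
  have hWp : IsPGroup p W := P.isPGroup'.to_le hWP
  obtain ⟨y, hy, hyT⟩ := Cfsg.Agent.Lib.Helper3.exists_conj_le_of_le_sylow P
    ((P : Subgroup G) ⊔ K) (MulAut.conj g • W) le_sup_left
    (Cfsg.Agent.Lib.Helper3.isPGroup_conj_smul hWp g) hle
  have hyg : y * g ∈ Subgroup.normalizer (W : Set G) := by
    apply Subgroup.mem_normalizer_fintype
    intro w hw
    rw [SetLike.mem_coe] at hw
    have h1 : y * g * w * (y * g)⁻¹ ∈ (P : Subgroup G) := by
      apply hyT
      rw [Cfsg.Agent.Lib.Helper3.mem_conj_smul_iff, Cfsg.Agent.Lib.Helper3.mem_conj_smul_iff]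
      have e : g⁻¹ * (y⁻¹ * (y * g * w * (y * g)⁻¹) * y) * g = w := by group
      rw [e]; exact hw
    obtain ⟨w', hw', hww⟩ := hπconj (y * g) w hw
    have h2 : w' = y * g * w * (y * g)⁻¹ := hinj (hWP hw') h1 hww
    show y * g * w * (y * g)⁻¹ ∈ W
    rw [← h2]; exact hw'
  have hyinv : y⁻¹ ∈ K ⊔ (P : Subgroup G) := by
    rw [sup_comm]; exact Subgroup.inv_mem _ hy
  obtain ⟨k, hk, u, hu, hku⟩ := Subgroup.mem_sup_of_normal_left.mp hyinv
  have e : g = k * (u * (y * g)) := by
    rw [← mul_assoc, hku]; group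
  rw [e]
  exact Subgroup.mul_mem _ (Subgroup.mem_sup_left hk)
    (Subgroup.mem_sup_right (Subgroup.mul_mem _ (hPN hu) hyg))

end ZJ

end Cfsg.Agent.Lib.Lead
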