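import Mathlib
import Cfsg.Agent.Lib.Lead.ZJ14

set_option autoImplicit false

namespace Cfsg.Agent.Lib.Lead

namespace ZJ

open scoped commutatorElement Pointwise

variable {G : Type*} [Group G] [Finite G] {p : ℕ} [hp : Fact p.Prime]

/-- the third clause of `Cfsg.IsPStable`, isolated -/
def Stab22 (p : ℕ) (G : Type*) [Group G] : Prop :=
  ∀ A P : Subgroup G, IsPGroup p A → IsPGroup p P →
    (∀ a ∈ A, ∀ x ∈ P, a * x * a⁻¹ ∈ P) → P ≤ Cfsg.pPrimePCore p G →
    (Cfsg.pPrimeCore p G ⊔ P).Normal → ⁅⁅P, A⁆, A⁆ = ⊥ →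
      (A.subgroupOf (Subgroup.normalizer (P : Set G))).map
          (QuotientGroup.mk' ((Subgroup.centralizer (P : Set G)).subgroupOf
            (Subgroup.normalizer (P : Set G))))
        ≤ Cfsg.pCore p _

omit [Finite G] hp in
theorem stab22_of_isPStable (hs : Cfsg.IsPStable p G) : Stab22 p G := hs.2.2

omit [Finite G] hp in
theorem stab22_of_isNormalizerPStable (hs : Cfsg.IsNormalizerPStable p G) : Stab22 p G := by
  intro A P _ hP _ _ _ hquad
  rintro _ ⟨⟨a, haN⟩, ha, rfl⟩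
  rw [SetLike.mem_coe, Subgroup.mem_subgroupOf] at ha
  apply hs P hP a haN
  rw [eq_bot_iff, ← hquad]
  have hza : Subgroup.zpowers a ≤ A := Subgroup.zpowers_le.mpr ha
  exact Subgroup.commutator_mono (Subgroup.commutator_mono le_rfl hza) hza

/-- the abstract stability hypothesis gives the quadratic hypothesis for `G / O_{p'}(G)` -/
theorem quadHyp_quot_of_stab22 (hs : Stab22 p G) :
    QuadHyp p (G ⧸ Cfsg.pPrimeCore p G) := by
  classical
  set K := Cfsg.pPrimeCore p G with hK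
  set π := QuotientGroup.mk' K with hπ
  have hπs : Function.Surjective π := QuotientGroup.mk'_surjective K
  have hKc : (Nat.card K).Coprime p := Cfsg.Agent.Lib.Helper6.pPrimeCore_coprime p
  intro Bb hBn hBp Ab hAp hAc hBA ab hab
  have hABp : IsPGroup p (Ab ⊔ Bb : Subgroup (G ⧸ K)) := hAp.to_sup_of_normal_right hBp
  obtain ⟨Sb, hSb⟩ := hABp.exists_le_sylow
  obtain ⟨S, rfl⟩ := Sylow.mapSurjective_surjective hπs p Sb
  rw [Sylow.coe_mapSurjective] at hSb
  have hSp : IsPGroup p (S : Subgroup G) := S.isPGroup'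
  have hinj : Set.InjOn π ((S : Subgroup G) : Set G) := injOn_mk_of_isPGroup hSp
  have hSK : (S : Subgroup G) ⊓ K = ⊥ :=
    Cfsg.Agent.Lib.Helper6.isPGroup_inf_coprime_eq_bot hKc hSp
  set Bh : Subgroup G := Bb.comap π with hBh
  haveI hBhn : Bh.Normal := by rw [hBh]; infer_instance
  set P₀ : Subgroup G := (S : Subgroup G) ⊓ Bh with hP₀
  set A₁ : Subgroup G := (S : Subgroup G) ⊓ Ab.comap π with hA₁
  have hP₀p : IsPGroup p P₀ := hSp.to_le inf_le_left
  have hA₁p : IsPGroup p A₁ := hSp.to_le inf_le_left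
  have hπP₀ : P₀.map π = Bb := by
    apply le_antisymm
    · rintro _ ⟨x, hx, rfl⟩
      exact hx.2
    · intro b hb
      obtain ⟨s, hs, rfl⟩ := hSb (Subgroup.mem_sup_right hb)
      exact ⟨s, ⟨hs, hb⟩, rfl⟩
  have hπA₁ : A₁.map π = Ab := by
    apply le_antisymm
    · rintro _ ⟨x, hx, rfl⟩
      exact hx.2
    · intro a ha
      obtain ⟨s, hs, rfl⟩ := hSb (Subgroup.mem_sup_left ha)
      exact ⟨s, ⟨hs, ha⟩, rfl⟩
  have hnorm : ∀ a ∈ A₁, ∀ x ∈ P₀, a * x * a⁻¹ ∈ P₀ := by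
    intro a ha x hx
    exact ⟨(S : Subgroup G).mul_mem ((S : Subgroup G).mul_mem ha.1 hx.1)
      ((S : Subgroup G).inv_mem ha.1), hBhn.conj_mem x hx.2 a⟩
  have hA₁N : A₁ ≤ Subgroup.normalizer (P₀ : Set G) := by
    intro a ha
    apply Subgroup.mem_normalizer_fintype
    intro x hx
    exact hnorm a ha x hx
  have hP₀le : P₀ ≤ Cfsg.pPrimePCore p G := by
    intro x hx
    rw [Cfsg.Agent.Lib.Helper2.PConstrained.pPrimePCore_def, Subgroup.mem_comap]
    exact Cfsg.Agent.Lib.Helper9.le_pCore hBn hBp hx.2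
  have hKP₀ : K ⊔ P₀ = Bh := by
    apply le_antisymm
    · apply sup_le
      · intro k hk
        rw [hBh, Subgroup.mem_comap]
        have : π k = 1 := (QuotientGroup.eq_one_iff k).mpr hk
        rw [this]; exact Bb.one_mem
      · exact inf_le_right
    · intro x hx
      have h1 : π x ∈ P₀.map π := by rw [hπP₀]; exact hx
      obtain ⟨y, hy, hyx⟩ := h1
      have h2 : y⁻¹ * x ∈ K := QuotientGroup.eq.mp hyx
      have e : x = (y * (y⁻¹ * x) * y⁻¹) * y := by group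
      rw [e]
      exact Subgroup.mul_mem _
        (Subgroup.mem_sup_left ((inferInstance : K.Normal).conj_mem _ h2 y))
        (Subgroup.mem_sup_right hy)
  have hnormal : (Cfsg.pPrimeCore p G ⊔ P₀).Normal := by
    rw [← hK, hKP₀]; exact hBhn
  have hquad : ⁅⁅P₀, A₁⁆, A₁⁆ = ⊥ := by
    have hle1 : ⁅P₀, A₁⁆ ≤ (S : Subgroup G) := by
      rw [Subgroup.commutator_le]
      intro x hx y hy
      exact (S : Subgroup G).mul_mem ((S : Subgroup G).mul_mem
        ((S : Subgroup G).mul_mem hx.1 hy.1) ((S : Subgroup G).inv_mem hx.1))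
        ((S : Subgroup G).inv_mem hy.1)
    have hle2 : ⁅⁅P₀, A₁⁆, A₁⁆ ≤ (S : Subgroup G) := by
      rw [Subgroup.commutator_le]
      intro x hx y hy
      exact (S : Subgroup G).mul_mem ((S : Subgroup G).mul_mem
        ((S : Subgroup G).mul_mem (hle1 hx) hy.1) ((S : Subgroup G).inv_mem (hle1 hx)))
        ((S : Subgroup G).inv_mem hy.1)
    have hle3 : ⁅⁅P₀, A₁⁆, A₁⁆ ≤ K := by
      have h1 : (⁅⁅P₀, A₁⁆, A₁⁆).map π = ⊥ := by
        rw [Subgroup.map_commutator, Subgroup.map_commutator, hπP₀, hπA₁]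
        exact quadratic_of_normalizes' Bb Ab hAc hBA
      intro x hx
      have h2 : π x ∈ (⁅⁅P₀, A₁⁆, A₁⁆).map π := ⟨x, hx, rfl⟩
      rw [h1, Subgroup.mem_bot] at h2
      exact (QuotientGroup.eq_one_iff x).mp h2
    rw [eq_bot_iff, ← hSK]
    exact le_inf hle2 hle3
  have hst := hs A₁ P₀ hA₁p hP₀p hnorm hP₀le hnormal hquad
  -- the Frattini factorization `G = N_G(P₀) K`
  set N₀ := Subgroup.normalizer (P₀ : Set G) with hN₀
  have hfr : N₀ ⊔ K = ⊤ := by
    obtain ⟨T, hT⟩ := Cfsg.Agent.Lib.Helper9.exists_sylow_map_eq_inf S Bh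
    have h1 := Sylow.normalizer_sup_eq_top T
    rw [hT, ← hP₀, ← hN₀] at h1
    rw [eq_top_iff, ← h1]
    apply sup_le le_sup_left
    rw [← hKP₀]
    exact sup_le le_sup_right (le_trans Subgroup.le_normalizer le_sup_left)
  -- the comparison map
  have hker : (Subgroup.centralizer (P₀ : Set G)).subgroupOf N₀ ≤
      (Subgroup.centralizer (Bb : Set (G ⧸ K))).comap (π.comp N₀.subtype) := by
    intro c hc
    rw [Subgroup.mem_subgroupOf] at hc
    rw [Subgroup.mem_comap, Subgroup.mem_centralizer_iff]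
    intro b hb
    rw [SetLike.mem_coe, ← hπP₀] at hb
    obtain ⟨x, hx, rfl⟩ := hb
    show π x * π (c : G) = π (c : G) * π x
    rw [← map_mul, ← map_mul, (Subgroup.mem_centralizer_iff.mp hc) x hx]
  set ψ := QuotientGroup.map ((Subgroup.centralizer (P₀ : Set G)).subgroupOf N₀)
    (Subgroup.centralizer (Bb : Set (G ⧸ K))) (π.comp N₀.subtype) hker with hψ
  have hψs : Function.Surjective ψ := by
    intro y
    obtain ⟨gb, rfl⟩ := QuotientGroup.mk_surjective y
    obtain ⟨g, rfl⟩ := hπs gb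
    have hg : g ∈ N₀ ⊔ K := by rw [hfr]; trivial
    obtain ⟨n, hn, k, hk, rfl⟩ := Subgroup.mem_sup_of_normal_right.mp hg
    refine ⟨QuotientGroup.mk ⟨n, hn⟩, ?_⟩
    show (QuotientGroup.mk (π n) : (G ⧸ K) ⧸ Subgroup.centralizer (Bb : Set (G ⧸ K))) = _
    have : π (n * k) = π n := by
      rw [map_mul]
      have : π k = 1 := (QuotientGroup.eq_one_iff k).mpr hk
      rw [this, mul_one]
    rw [this]
  have hcore := pCore_map_le_of_surjective (p := p) ψ hψs
  -- the element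
  rw [← hπA₁] at hab
  obtain ⟨a₁, ha₁, rfl⟩ := hab
  have ha₁N : a₁ ∈ N₀ := hA₁N ha₁
  have h1 : (QuotientGroup.mk' ((Subgroup.centralizer (P₀ : Set G)).subgroupOf N₀))
      (⟨a₁, ha₁N⟩ : ↥N₀) ∈ Cfsg.pCore p _ := by
    apply hst
    exact ⟨⟨a₁, ha₁N⟩, Subgroup.mem_subgroupOf.mpr ha₁, rfl⟩
  have h2 := hcore ⟨_, h1, rfl⟩
  unfold stabPre
  rw [Subgroup.mem_comap]
  exact h2

end ZJ

end Cfsg.Agent.Lib.Lead
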