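import Mathlib
import Cfsg.Agent.Lib.Lead.ZJ15

set_option autoImplicit false

namespace Cfsg.Agent.Lib.Lead

namespace ZJ

open scoped commutatorElement Pointwise

variable {G : Type*} [Group G] [Finite G] {p : ℕ} [hp : Fact p.Prime]

/-- strong closure passes to `G / O_{p'}(G)` -/
theorem sClosed_map_mk (P : Sylow p G) (D : Subgroup G) (hD : SClosed D (P : Subgroup G)) :
    SClosed (D.map (QuotientGroup.mk' (Cfsg.pPrimeCore p G)))
      ((P : Subgroup G).map (QuotientGroup.mk' (Cfsg.pPrimeCore p G))) := by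
  classical
  set K := Cfsg.pPrimeCore p G with hK
  set π := QuotientGroup.mk' K with hπ
  have hπs : Function.Surjective π := QuotientGroup.mk'_surjective K
  refine ⟨Subgroup.map_mono hD.1, ?_⟩
  rintro _ ⟨x, hx, rfl⟩ gb hgb
  obtain ⟨g, rfl⟩ := hπs gb
  obtain ⟨s, hs, hsx⟩ := hgb
  -- `g x g⁻¹ ∈ P K`
  have h1 : s⁻¹ * (g * x * g⁻¹) ∈ K := by
    apply QuotientGroup.eq.mp
    show π s = π (g * x * g⁻¹)
    rw [hsx, map_mul, map_mul, map_inv]
  have hmem : g * x * g⁻¹ ∈ (P : Subgroup G) ⊔ K := by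
    have e : g * x * g⁻¹ = s * (s⁻¹ * (g * x * g⁻¹)) := by group
    rw [e]
    exact Subgroup.mul_mem _ (Subgroup.mem_sup_left hs) (Subgroup.mem_sup_right h1)
  have hDp : IsPGroup p D := P.isPGroup'.to_le hD.1
  have hXp : IsPGroup p (Subgroup.zpowers (g * x * g⁻¹)) :=
    Cfsg.Agent.Lib.Helper3.isPGroup_zpowers_of_mem
      (Cfsg.Agent.Lib.Helper3.isPGroup_conj_smul hDp g)
      (Cfsg.Agent.Lib.Helper3.conj_mem_conj_smul D g x hx)
  obtain ⟨c, hc, hcX⟩ := Cfsg.Agent.Lib.Helper3.exists_conj_le_of_le_sylow P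
    ((P : Subgroup G) ⊔ K) (Subgroup.zpowers (g * x * g⁻¹)) le_sup_left hXp
    (Subgroup.zpowers_le.mpr hmem)
  have hy : c * (g * x * g⁻¹) * c⁻¹ ∈ (P : Subgroup G) :=
    hcX (Cfsg.Agent.Lib.Helper3.conj_mem_conj_smul _ c _ (Subgroup.mem_zpowers _))
  have hyD : c * (g * x * g⁻¹) * c⁻¹ ∈ D := by
    have e : c * (g * x * g⁻¹) * c⁻¹ = (c * g) * x * (c * g)⁻¹ := by group
    rw [e] at hy ⊢
    exact hD.2 x hx (c * g) hy
  obtain ⟨s', hs', k, hk, rfl⟩ := Subgroup.mem_sup_of_normal_right.mp hc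
  have hπk : π k = 1 := (QuotientGroup.eq_one_iff k).mpr hk
  set y := s' * k * (g * x * g⁻¹) * (s' * k)⁻¹ with hy'
  have hz : s'⁻¹ * y * s'⁻¹⁻¹ ∈ D := by
    apply hD.2 y hyD s'⁻¹
    exact (P : Subgroup G).mul_mem ((P : Subgroup G).mul_mem ((P : Subgroup G).inv_mem hs') hy)
      ((P : Subgroup G).inv_mem ((P : Subgroup G).inv_mem hs'))
  refine ⟨s'⁻¹ * y * s'⁻¹⁻¹, hz, ?_⟩
  rw [hy']
  simp only [map_mul, map_inv, hπk, mul_one, inv_inv]
  group

/-- Glauberman's factorization for strongly closed subgroups -/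
theorem zj_factorization_gen (hp2 : p ≠ 2) (n : ℕ) (hc : Cfsg.IsPConstrained p G)
    (hs : Stab22 p G) (P : Sylow p G) (D : Subgroup G) (hD : SClosed D (P : Subgroup G)) :
    Cfsg.pPrimeCore p G ⊔ Subgroup.normalizer (wsub n D : Set G) = ⊤ := by
  classical
  set K := Cfsg.pPrimeCore p G with hK
  set π := QuotientGroup.mk' K with hπ
  have hπs : Function.Surjective π := QuotientGroup.mk'_surjective K
  have hcq := Cfsg.Agent.Lib.Helper2.PConstrained.isPConstrained_iff_quot.mp hc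
  have hq := quadHyp_quot_of_stab22 hs
  have hDb := sClosed_map_mk P D hD
  rw [← Sylow.coe_mapSurjective hπs P] at hDb
  have hnb := wsub_normal_gen hp2 n hcq (P.mapSurjective hπs) _ hDb hq
  have hinjP : Set.InjOn π ((P : Subgroup G) : Set G) := injOn_mk_of_isPGroup P.isPGroup'
  have hinj : Set.InjOn π (D : Set G) := hinjP.mono hD.1
  rw [← wsub_map_of_injOn n D π hinj] at hnb
  set W := wsub n D with hW
  have hWD : W ≤ D := wsub_le n _
  have hWP : W ≤ (P : Subgroup G) := le_trans hWD hD.1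
  have hPN : (P : Subgroup G) ≤ Subgroup.normalizer (W : Set G) :=
    le_trans hD.le_normalizer (normalizer_le_normalizer_wsub n D)
  rw [eq_top_iff]
  intro g _
  have hπconj : ∀ (h : G) (w : G), w ∈ W → π (h * w * h⁻¹) ∈ W.map π := by
    intro h w hw
    have := hnb.conj_mem (π w) ⟨w, hw, rfl⟩ (π h)
    rw [map_mul, map_mul, map_inv]
    exact this
  have hle : (MulAut.conj g • W : Subgroup G) ≤ (P : Subgroup G) ⊔ K := by
    intro x hx
    rw [Cfsg.Agent.Lib.Helper3.mem_conj_smul_iff] at hx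
    have h1 := hπconj g _ hx
    have e : g * (g⁻¹ * x * g) * g⁻¹ = x := by group
    rw [e] at h1
    obtain ⟨w, hw, hwx⟩ := h1
    have h2 : w⁻¹ * x ∈ K := QuotientGroup.eq.mp hwx
    have e2 : x = w * (w⁻¹ * x) := by group
    rw [e2]
    exact Subgroup.mul_mem _ (Subgroup.mem_sup_left (hWP hw)) (Subgroup.mem_sup_right h2)
  have hWp : IsPGroup p W := P.isPGroup'.to_le hWP
  obtain ⟨y, hy, hyT⟩ := Cfsg.Agent.Lib.Helper3.exists_conj_le_of_le_sylow P
    ((P : Subgroup G) ⊔ K) (MulAut.conj g • W) le_sup_left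
    (Cfsg.Agent.Lib.Helper3.isPGroup_conj_smul hWp g) hle
  have hyg : y * g ∈ Subgroup.normalizer (W : Set G) := by
    apply Subgroup.mem_normalizer_fintype
    intro w hw
    rw [SetLike.mem_coe] at hw
    have h1 : y * g * w * (y * g)⁻¹ ∈ (P : Subgroup G) := by
      apply hyT
      rw [Cfsg.Agent.Lib.Helper3.mem_conj_smul_iff, Cfsg.Agent.Lib.Helper3.mem_conj_smul_iff]
      have e : g⁻¹ * (y⁻¹ * (y * g * w * (y * g)⁻¹) * y) * g = w := by group
      rw [e]; exact hw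
    obtain ⟨w', hw', hww⟩ := hπconj (y * g) w hw
    have h2 : w' = y * g * w * (y * g)⁻¹ := hinjP (hWP hw') h1 hww
    show y * g * w * (y * g)⁻¹ ∈ W
    rw [← h2]; exact hw'
  have hyinv : y⁻¹ ∈ K ⊔ (P : Subgroup G) := by
    rw [sup_comm]; exact Subgroup.inv_mem _ hy
  obtain ⟨k, hk, u, hu, hku⟩ := Subgroup.mem_sup_of_normal_left.mp hyinv
  have e : g = k * (u * (y * g)) := by
    rw [← mul_assoc, hku]; group
  rw [e]
  exact Subgroup.mul_mem _ (Subgroup.mem_sup_left hk)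
    (Subgroup.mem_sup_right (Subgroup.mul_mem _ (hPN hu) hyg))

end ZJ

end Cfsg.Agent.Lib.Lead
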