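import Mathlib
import Cfsg.Agent.Lib.Lead.GT5
import Cfsg.Agent.Lib.Lead.ZJ16
import Cfsg.Agent.Lib.Lead.CoprimeTools
import Cfsg.Agent.Lib.Lead.CoprimeSylow

set_option autoImplicit false

namespace Cfsg.Agent.Lib.Lead

namespace GT

open scoped Pointwise

universe u

/-- the axioms of a section functor, in the form used by Thompson's reduction -/
structure IsSecFunctor (p : ℕ) (W : ∀ (X : Type u) [Group X], Subgroup X → Subgroup X) : Prop where
  le : ∀ (X : Type u) [Group X] [Finite X] (D : Subgroup X), IsPGroup p D → W X D ≤ D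
  ne_bot : ∀ (X : Type u) [Group X] [Finite X] (D : Subgroup X), IsPGroup p D → D ≠ ⊥ → W X D ≠ ⊥
  map : ∀ (X Y : Type u) [Group X] [Group Y] [Finite X] [Finite Y] (f : X →* Y) (D : Subgroup X),
    IsPGroup p D → Set.InjOn f (D : Set X) → W Y (D.map f) = (W X D).map f

section

variable {p : ℕ} [hpf : Fact p.Prime] {W : ∀ (X : Type u) [Group X], Subgroup X → Subgroup X}

theorem IsSecFunctor.normalizer_le (hW : IsSecFunctor p W) {X : Type u} [Group X] [Finite X]
    (D : Subgroup X) (hD : IsPGroup p D) :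
    Subgroup.normalizer (D : Set X) ≤ Subgroup.normalizer (W X D : Set X) := by
  intro g hg
  rw [mem_normalizer_iff_conj_smul] at hg ⊢
  have h1 := hW.map X X (MulAut.conj g).toMonoidHom D hD
    (Set.injOn_of_injective (MulAut.conj g).injective)
  have h2 : D.map (MulAut.conj g).toMonoidHom = D := hg
  rw [h2] at h1
  exact h1.symm

theorem IsSecFunctor.restrict (hW : IsSecFunctor p W) {X : Type u} [Group X] [Finite X]
    (M : Subgroup X) (D' : Subgroup M) (hD' : IsPGroup p D') :
    W X (D'.map M.subtype) = (W M D').map M.subtype :=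
  hW.map M X M.subtype D' hD' (Set.injOn_of_injective M.subtype_injective)

/-- the normalizer of the functor value inside a subgroup -/
theorem IsSecFunctor.pnilp_restrict (hW : IsSecFunctor p W) {X : Type u} [Group X] [Finite X]
    (M : Subgroup X) (D' : Subgroup M) (hD' : IsPGroup p D')
    (h : PNilp p (Subgroup.normalizer (W X (D'.map M.subtype) : Set X))) :
    PNilp p (Subgroup.normalizer (W M D' : Set M)) := by
  rw [hW.restrict M D' hD'] at h
  set U := W M D' with hU
  have hle : (Subgroup.normalizer (U : Set M)).map M.subtype ≤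
      Subgroup.normalizer ((U.map M.subtype : Subgroup X) : Set X) :=
    Subgroup.le_normalizer_map M.subtype
  let f : Subgroup.normalizer (U : Set M) →* Subgroup.normalizer ((U.map M.subtype : Subgroup X) : Set X) :=
    MonoidHom.codRestrict (M.subtype.comp (Subgroup.normalizer (U : Set M)).subtype) _
      (fun x => hle ⟨x.1, x.2, rfl⟩)
  apply h.of_injective f
  intro x y hxy
  have := congrArg Subtype.val hxy
  exact Subtype.ext (Subtype.ext this)

/-- transport along an isomorphism -/
theorem IsSecFunctor.pnilp_equiv (hW : IsSecFunctor p W) {X Y : Type u} [Group X] [Group Y]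
    [Finite X] [Finite Y] (e : X ≃* Y) (D : Subgroup X) (hD : IsPGroup p D)
    (h : PNilp p (Subgroup.normalizer (W X D : Set X))) :
    PNilp p (Subgroup.normalizer (W Y (D.map e.toMonoidHom) : Set Y)) := by
  rw [hW.map X Y e.toMonoidHom D hD (Set.injOn_of_injective e.injective),
    ← Subgroup.map_equiv_normalizer_eq]
  exact h.of_equiv ((Subgroup.normalizer (W X D : Set X)).equivMapOfInjective e.toMonoidHom
    e.injective)

/-- normalizers of `p`-subgroups in a quotient by a normal `p'`-subgroup -/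
theorem normalizer_map_mk {X : Type u} [Group X] [Finite X] (R : Subgroup X) [hR : R.Normal]
    (hRc : (Nat.card R).Coprime p) (U : Subgroup X) (hU : IsPGroup p U) :
    Subgroup.normalizer ((U.map (QuotientGroup.mk' R) : Subgroup (X ⧸ R)) : Set (X ⧸ R)) =
      (Subgroup.normalizer (U : Set X)).map (QuotientGroup.mk' R) := by
  apply le_antisymm
  · intro gb hgb
    obtain ⟨g, rfl⟩ := QuotientGroup.mk'_surjective R gb
    obtain ⟨a, ha⟩ := IsPGroup.iff_card.mp hU
    have hUR : U ≤ Subgroup.normalizer (R : Set X) := by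
      rw [Subgroup.normalizer_eq_top_iff.mpr hR]; exact le_top
    have hdisj : U ⊓ R = ⊥ := by
      apply (Subgroup.disjoint_of_coprime_natCard _).eq_bot
      rw [ha]; exact Nat.Coprime.pow_left a hRc.symm
    have hcard : Nat.card (U ⊔ R : Subgroup X) = p ^ a * Nat.card R := by
      rw [card_sup_of_disjoint U R hUR hdisj, ha]
    have hr : ¬ p ∣ Nat.card R := fun hd =>
      hpf.out.one_lt.ne' (Nat.eq_one_of_dvd_coprimes hRc hd (dvd_refl p))
    have hconj : (MulAut.conj g • U : Subgroup X) ≤ U ⊔ R := by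
      intro x hx
      rw [Cfsg.Agent.Lib.Helper3.mem_conj_smul_iff] at hx
      have h1 : QuotientGroup.mk' R (g * (g⁻¹ * x * g) * g⁻¹) ∈ U.map (QuotientGroup.mk' R) := by
        have := (Subgroup.mem_normalizer_iff.mp hgb (QuotientGroup.mk' R (g⁻¹ * x * g))).mp
          ⟨_, hx, rfl⟩
        rw [map_mul, map_mul, map_inv]
        exact this
      have e : g * (g⁻¹ * x * g) * g⁻¹ = x := by group
      rw [e] at h1
      obtain ⟨u, hu, hux⟩ := h1
      have h2 : u⁻¹ * x ∈ R := QuotientGroup.eq.mp hux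
      have e2 : x = u * (u⁻¹ * x) := by group
      rw [e2]
      exact Subgroup.mul_mem _ (Subgroup.mem_sup_left hu) (Subgroup.mem_sup_right h2)
    obtain ⟨y, hy, hyU⟩ := sylow_conj_in_subgroup p a (Nat.card R) (U ⊔ R) (MulAut.conj g • U) U
      hconj le_sup_left (by rw [card_conj_smul, ha]) ha hcard hr
    have hyg : y * g ∈ Subgroup.normalizer (U : Set X) := by
      rw [mem_normalizer_iff_conj_smul, map_mul, mul_smul]
      exact hyU
    obtain ⟨u, hu, r, hr', hur⟩ := Subgroup.mem_sup_of_normal_right.mp hy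
    have hrg : r * g ∈ Subgroup.normalizer (U : Set X) := by
      have : r * g = u⁻¹ * (y * g) := by rw [← hur]; group
      rw [this]
      exact Subgroup.mul_mem _ (Subgroup.inv_mem _ (Subgroup.le_normalizer hu)) hyg
    refine ⟨r * g, hrg, ?_⟩
    rw [map_mul]
    have : QuotientGroup.mk' R r = 1 := (QuotientGroup.eq_one_iff r).mpr hr'
    rw [this, one_mul]
  · exact Subgroup.le_normalizer_map _

theorem injOn_mk_of_coprime {X : Type u} [Group X] [Finite X] (R : Subgroup X) [R.Normal]
    (hRc : (Nat.card R).Coprime p) (D : Subgroup X) (hD : IsPGroup p D) :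
    Set.InjOn (QuotientGroup.mk' R) (D : Set X) := by
  intro x hx y hy hxy
  have h1 : x⁻¹ * y ∈ R := QuotientGroup.eq.mp hxy
  have h2 : x⁻¹ * y ∈ D ⊓ R := ⟨D.mul_mem (D.inv_mem hx) hy, h1⟩
  have hdisj : D ⊓ R = ⊥ := by
    obtain ⟨a, ha⟩ := IsPGroup.iff_card.mp hD
    apply (Subgroup.disjoint_of_coprime_natCard _).eq_bot
    rw [ha]; exact Nat.Coprime.pow_left a hRc.symm
  rw [hdisj, Subgroup.mem_bot] at h2
  calc x = x * (x⁻¹ * y) * y⁻¹ * y := by rw [h2]; group
    _ = y := by group

/-- the normalizer of the functor value in a quotient by a normal `p'`-subgroup -/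
theorem IsSecFunctor.pnilp_quot_coprime (hW : IsSecFunctor p W) {X : Type u} [Group X] [Finite X]
    (R : Subgroup X) [R.Normal] (hRc : (Nat.card R).Coprime p) (D : Subgroup X)
    (hD : IsPGroup p D) (h : PNilp p (Subgroup.normalizer (W X D : Set X))) :
    PNilp p (Subgroup.normalizer
      (W (X ⧸ R) (D.map (QuotientGroup.mk' R)) : Set (X ⧸ R))) := by
  rw [hW.map X (X ⧸ R) (QuotientGroup.mk' R) D hD (injOn_mk_of_coprime R hRc D hD),
    normalizer_map_mk R hRc (W X D) (hD.to_le (hW.le X D hD))]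
  exact h.of_surjective ((QuotientGroup.mk' R).subgroupMap _)
    ((QuotientGroup.mk' R).subgroupMap_surjective _)

end

section SClosed

variable {X : Type*} [Group X]

theorem sClosed_inf_of_le {D T R : Subgroup X} (h : ZJ.SClosed D T) (hR : R ≤ T) :
    ZJ.SClosed (D ⊓ R) R :=
  ⟨inf_le_right, fun x hx g hg => ⟨h.2 x hx.1 g (hR hg), hg⟩⟩

theorem sClosed_subgroupOf {D T : Subgroup X} (h : ZJ.SClosed D T) (M : Subgroup X) :
    ZJ.SClosed (D.subgroupOf M) (T.subgroupOf M) := by
  refine ⟨fun x hx => h.1 hx, ?_⟩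
  intro x hx g hg
  exact h.2 x.1 hx g.1 hg

theorem sClosed_map_equiv {Y : Type*} [Group Y] {D T : Subgroup X} (h : ZJ.SClosed D T)
    (e : X ≃* Y) : ZJ.SClosed (D.map e.toMonoidHom) (T.map e.toMonoidHom) := by
  refine ⟨Subgroup.map_mono h.1, ?_⟩
  rintro _ ⟨x, hx, rfl⟩ g hg
  obtain ⟨g₀, rfl⟩ := e.surjective g
  obtain ⟨t, ht, hte⟩ := hg
  have h1 : t = g₀ * x * g₀⁻¹ := by
    apply e.injective
    rw [map_mul, map_mul, map_inv]
    exact hte
  refine ⟨g₀ * x * g₀⁻¹, h.2 x hx g₀ (h1 ▸ ht), ?_⟩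
  rw [map_mul, map_mul, map_inv]
  rfl

/-- strong closure passes to the quotient by a normal subgroup contained in `T` -/
theorem sClosed_map_mk_of_le {D T : Subgroup X} (h : ZJ.SClosed D T) (H : Subgroup X) [H.Normal]
    (hHT : H ≤ T) :
    ZJ.SClosed (D.map (QuotientGroup.mk' H)) (T.map (QuotientGroup.mk' H)) := by
  refine ⟨Subgroup.map_mono h.1, ?_⟩
  rintro _ ⟨x, hx, rfl⟩ gb hgb
  obtain ⟨g, rfl⟩ := QuotientGroup.mk'_surjective H gb
  obtain ⟨t, ht, hte⟩ := hgb
  have h1 : t⁻¹ * (g * x * g⁻¹) ∈ H := by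
    apply QuotientGroup.eq.mp
    have := hte
    rw [← map_inv, ← map_mul, ← map_mul] at this
    exact this
  have h2 : g * x * g⁻¹ ∈ T := by
    have : g * x * g⁻¹ = t * (t⁻¹ * (g * x * g⁻¹)) := by group
    rw [this]
    exact T.mul_mem ht (hHT h1)
  refine ⟨g * x * g⁻¹, h.2 x hx g h2, ?_⟩
  rw [map_mul, map_mul, map_inv]

end SClosed

end GT

end Cfsg.Agent.Lib.Lead
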