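import Mathlib
import Cfsg.Agent.Lib.Lead.GT6
import Cfsg.Agent.Lib.Lead.ZJ12

set_option autoImplicit false

namespace Cfsg.Agent.Lib.Lead

namespace GT

open scoped Pointwise

universe u

section Reduction

variable {p : ℕ} [hpf : Fact p.Prime]

/-- admissible pairs: `D` strongly closed in the Sylow subgroup `T`, and `D = T` in the mode `φ` -/
def Adm (φ : Prop) {X : Type*} [Group X] (T : Sylow p X) (D : Subgroup X) : Prop :=
  ZJ.SClosed D (T : Subgroup X) ∧ (φ → D = (T : Subgroup X))

/-- the statement proved by induction -/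
def Holds (p : ℕ) (W : ∀ (X : Type u) [Group X], Subgroup X → Subgroup X)
    (C : ∀ (X : Type u) [Group X], Prop) (φ : Prop) (Y : Type u) [Group Y] : Prop :=
  C Y → ∀ (T : Sylow p Y) (D : Subgroup Y), Adm φ T D →
    PNilp p (Subgroup.normalizer (W Y D : Set Y)) → PNilp p Y

/-- a minimal counterexample -/
structure MinCE (p : ℕ) (W : ∀ (X : Type u) [Group X], Subgroup X → Subgroup X)
    (C : ∀ (X : Type u) [Group X], Prop) (φ : Prop) (X : Type u) [Group X] : Prop where
  mem : C X
  not_nilp : ¬ PNilp p X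
  smaller : ∀ (Y : Type u) [Group Y] [Finite Y], Nat.card Y < Nat.card X → Holds p W C φ Y

/-- the `p`-part of a number -/
def pp (p n : ℕ) : ℕ := p ^ (n.factorization p)

theorem card_le_pp {X : Type*} [Group X] [Finite X] {Q : Subgroup X} (hQ : IsPGroup p Q) :
    Nat.card Q ≤ pp p (Nat.card X) := by
  obtain ⟨a, ha⟩ := IsPGroup.iff_card.mp hQ
  have h1 : p ^ a ∣ Nat.card X := ha ▸ Subgroup.card_subgroup_dvd_card Q
  rw [ha]
  unfold pp
  apply Nat.pow_le_pow_right hpf.out.pos
  exact (hpf.out.pow_dvd_iff_le_factorization Nat.card_pos.ne').mp h1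

theorem card_le_pp_of_le {X : Type*} [Group X] [Finite X] {Q M : Subgroup X} (hQ : IsPGroup p Q)
    (hQM : Q ≤ M) : Nat.card Q ≤ pp p (Nat.card M) := by
  have h := card_le_pp (X := M) (Q := Q.subgroupOf M)
    (hQ.comap_of_injective M.subtype M.subtype_injective)
  rwa [card_subgroupOf_of_le hQM] at h

theorem pp_mono {a b : ℕ} (hab : a ∣ b) (hb : b ≠ 0) : pp p a ≤ pp p b := by
  unfold pp
  apply Nat.pow_le_pow_right hpf.out.pos
  have ha : a ≠ 0 := fun h => hb (by rw [h] at hab; exact Nat.eq_zero_of_zero_dvd hab)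
  exact (Nat.factorization_le_iff_dvd ha hb).mpr hab p

theorem sylow_card_eq_pp {X : Type*} [Group X] [Finite X] (T : Sylow p X) :
    Nat.card (T : Subgroup X) = pp p (Nat.card X) :=
  T.card_eq_multiplicity

variable {W : ∀ (X : Type u) [Group X], Subgroup X → Subgroup X}
  {C : ∀ (X : Type u) [Group X], Prop} {φ : Prop}

/-- transport of an admissible pair to another Sylow subgroup -/
theorem exists_adm_over (hW : IsSecFunctor p W) {X : Type u} [Group X] [Finite X]
    (T : Sylow p X) (D : Subgroup X) (hAdm : Adm φ T D)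
    (hN : PNilp p (Subgroup.normalizer (W X D : Set X))) (T₁ : Sylow p X) :
    ∃ D₁ : Subgroup X, Adm φ T₁ D₁ ∧ PNilp p (Subgroup.normalizer (W X D₁ : Set X)) := by
  obtain ⟨x, hx⟩ := MulAction.exists_smul_eq X T T₁
  have hT₁ : (T₁ : Subgroup X) = (T : Subgroup X).map (MulAut.conj x).toMonoidHom := by
    rw [← hx, Sylow.coe_subgroup_smul]; rfl
  refine ⟨D.map (MulAut.conj x).toMonoidHom, ⟨?_, ?_⟩, ?_⟩
  · rw [hT₁]; exact sClosed_map_equiv hAdm.1 (MulAut.conj x)
  · intro h; rw [hT₁, hAdm.2 h]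
  · exact hW.pnilp_equiv (MulAut.conj x) D (T.isPGroup'.to_le hAdm.1.1) hN

/-- proper subgroups containing a Sylow subgroup carrying an admissible pair have normal
`p`-complements -/
theorem MinCE.pnilp_of_ge_sylow (hW : IsSecFunctor p W)
    (hsub : ∀ (X : Type u) [Group X] [Finite X], C X → ∀ M : Subgroup X, C M)
    {X : Type u} [Group X] [Finite X] (hmc : MinCE p W C φ X)
    (T : Sylow p X) (D : Subgroup X) (hAdm : Adm φ T D)
    (hN : PNilp p (Subgroup.normalizer (W X D : Set X))) (M : Subgroup X)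
    (hTM : (T : Subgroup X) ≤ M) (hM : M ≠ ⊤) : PNilp p M := by
  have hcard : Nat.card M < Nat.card X := by
    have := ZJ.card_lt_of_lt (lt_top_iff_ne_top.mpr hM)
    rwa [Subgroup.card_top] at this
  have hDM : D ≤ M := hAdm.1.1.trans hTM
  have hDp : IsPGroup p (D.subgroupOf M) :=
    (T.isPGroup'.to_le hAdm.1.1).comap_of_injective M.subtype M.subtype_injective
  apply hmc.smaller M hcard (hsub X hmc.mem M) (T.subtype hTM) (D.subgroupOf M)
  · refine ⟨?_, ?_⟩
    · rw [Sylow.coe_subtype]; exact sClosed_subgroupOf hAdm.1 M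
    · intro h; rw [Sylow.coe_subtype, hAdm.2 h]
  · apply hW.pnilp_restrict M (D.subgroupOf M) hDp
    rw [Subgroup.map_subgroupOf_eq_of_le hDM]
    exact hN

/-- the maximal choice of a `p`-local subgroup without normal `p`-complement -/
theorem exists_max_local {X : Type u} [Group X] [Finite X] (h : ¬ PNilp p X) :
    ∃ H : Subgroup X, IsPGroup p H ∧ H ≠ ⊥ ∧ ¬ PNilp p (Subgroup.normalizer (H : Set X)) ∧
      ∀ H' : Subgroup X, IsPGroup p H' → H' ≠ ⊥ → ¬ PNilp p (Subgroup.normalizer (H' : Set X)) →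
        pp p (Nat.card (Subgroup.normalizer (H' : Set X))) ≤
            pp p (Nat.card (Subgroup.normalizer (H : Set X))) ∧
          (pp p (Nat.card (Subgroup.normalizer (H' : Set X))) =
            pp p (Nat.card (Subgroup.normalizer (H : Set X))) → Nat.card H' ≤ Nat.card H) := by
  obtain ⟨H, ⟨hHp, hH1, hHN⟩, hmax⟩ := ZJ.exists_max_subgroup
    (fun H : Subgroup X => IsPGroup p H ∧ H ≠ ⊥ ∧ ¬ PNilp p (Subgroup.normalizer (H : Set X)))
    (fun H => pp p (Nat.card (Subgroup.normalizer (H : Set X))) * (Nat.card X + 1) + Nat.card H)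
    (exists_local_of_not_pnilp h)
  refine ⟨H, hHp, hH1, hHN, ?_⟩
  intro H' hp' h1' hN'
  have hm := hmax H' ⟨hp', h1', hN'⟩
  have hc1 : Nat.card H ≤ Nat.card X := Subgroup.card_le_card_group H
  have hc2 : Nat.card H' ≤ Nat.card X := Subgroup.card_le_card_group H'
  set a' := pp p (Nat.card (Subgroup.normalizer (H' : Set X)))
  set a := pp p (Nat.card (Subgroup.normalizer (H : Set X)))
  constructor
  · by_contra hlt
    push_neg at hlt
    have : (a + 1) * (Nat.card X + 1) ≤ a' * (Nat.card X + 1) :=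
      Nat.mul_le_mul_right _ hlt
    nlinarith
  · intro heq
    rw [heq] at hm
    omega

end Reduction

end GT

end Cfsg.Agent.Lib.Lead
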