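import Mathlib
import Cfsg.Agent.Lib.Lead.GT7
import Cfsg.Agent.Lib.Lead.Nilpotent
import Cfsg.Agent.Lib.Helper2.Schmidt

set_option autoImplicit false

namespace Cfsg.Agent.Lib.Lead

namespace GT

open scoped Pointwise

universe u

section Reduction

variable {p : ℕ} [hpf : Fact p.Prime]

/-- a maximal `p`-local obstruction -/
structure MaxLocal (p : ℕ) {X : Type*} [Group X] (H : Subgroup X) : Prop where
  pg : IsPGroup p H
  ne : H ≠ ⊥
  notN : ¬ PNilp p (Subgroup.normalizer (H : Set X))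
  max : ∀ H' : Subgroup X, IsPGroup p H' → H' ≠ ⊥ →
    ¬ PNilp p (Subgroup.normalizer (H' : Set X)) →
      pp p (Nat.card (Subgroup.normalizer (H' : Set X))) ≤
          pp p (Nat.card (Subgroup.normalizer (H : Set X))) ∧
        (pp p (Nat.card (Subgroup.normalizer (H' : Set X))) =
          pp p (Nat.card (Subgroup.normalizer (H : Set X))) → Nat.card H' ≤ Nat.card H)

theorem exists_maxLocal {X : Type u} [Group X] [Finite X] (h : ¬ PNilp p X) :
    ∃ H : Subgroup X, MaxLocal p H := by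
  obtain ⟨H, h1, h2, h3, h4⟩ := exists_max_local h
  exact ⟨H, h1, h2, h3, h4⟩

variable {W : ∀ (X : Type u) [Group X], Subgroup X → Subgroup X}
  {C : ∀ (X : Type u) [Group X], Prop} {φ : Prop}

theorem MinCE.ne_bot_of_adm (hW : IsSecFunctor p W) {X : Type u} [Group X] [Finite X]
    (hmc : MinCE p W C φ X) (T : Sylow p X) (D : Subgroup X) (hAdm : Adm φ T D)
    (hN : PNilp p (Subgroup.normalizer (W X D : Set X))) : D ≠ ⊥ := by
  rintro rfl
  have h1 : W X ⊥ = ⊥ := le_bot_iff.mp (hW.le X ⊥ (IsPGroup.of_bot))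
  apply hmc.not_nilp
  apply pnilp_of_eq_top _ hN
  rw [h1, Subgroup.normalizer_eq_top_iff]
  infer_instance

/-- Step 3 of the reduction: the maximal obstruction is normal -/
theorem MinCE.normalizer_eq_top (hW : IsSecFunctor p W)
    (hsub : ∀ (X : Type u) [Group X] [Finite X], C X → ∀ M : Subgroup X, C M)
    {X : Type u} [Group X] [Finite X] (hmc : MinCE p W C φ X)
    (T : Sylow p X) (D : Subgroup X) (hAdm : Adm φ T D)
    (hN : PNilp p (Subgroup.normalizer (W X D : Set X)))
    (H : Subgroup X) (hH : MaxLocal p H) : Subgroup.normalizer (H : Set X) = ⊤ := by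
  by_contra hNtop
  set N := Subgroup.normalizer (H : Set X) with hNdef
  obtain ⟨R₀⟩ : Nonempty (Sylow p N) := inferInstance
  set R : Subgroup X := (R₀ : Subgroup N).map N.subtype with hR
  have hRp : IsPGroup p R := R₀.isPGroup'.map _
  have hRN : R ≤ N := by
    rintro x ⟨y, -, rfl⟩; exact y.2
  have hR₀ : R.subgroupOf N = (R₀ : Subgroup N) :=
    Subgroup.comap_map_eq_self_of_injective N.subtype_injective _
  have hRcard : Nat.card R = pp p (Nat.card N) := by
    rw [hR, Subgroup.card_map_of_injective N.subtype_injective]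
    exact sylow_card_eq_pp R₀
  obtain ⟨T₁, hRT₁⟩ := hRp.exists_le_sylow
  obtain ⟨D₁, hAdm₁, hN₁⟩ := exists_adm_over hW T D hAdm hN T₁
  have hD₁T : D₁ ≤ (T₁ : Subgroup X) := hAdm₁.1.1
  have hD₁p : IsPGroup p D₁ := T₁.isPGroup'.to_le hD₁T
  have hD₁ne : D₁ ≠ ⊥ := hmc.ne_bot_of_adm hW T₁ D₁ hAdm₁ hN₁
  have hT₁D₁ : (T₁ : Subgroup X) ≤ Subgroup.normalizer (D₁ : Set X) := hAdm₁.1.le_normalizer
  -- `H ≤ R`
  have hHN : H ≤ N := Subgroup.le_normalizer
  have hHR : H ≤ R := by
    haveI hn : (H.subgroupOf N).Normal := Subgroup.normal_in_normalizer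
    have h1 : H.subgroupOf N ≤ (R₀ : Subgroup N) :=
      IsPGroup.le_sylow_of_normal (N := H.subgroupOf N)
        (hH.pg.comap_of_injective N.subtype N.subtype_injective) R₀
    intro x hx
    exact ⟨⟨x, hHN hx⟩, h1 hx, rfl⟩
  -- `R = T₁ ⊓ N`
  have hRTN : R = (T₁ : Subgroup X) ⊓ N := by
    have hle : R ≤ (T₁ : Subgroup X) ⊓ N := le_inf hRT₁ hRN
    apply Subgroup.eq_of_le_of_card_ge hle
    rw [hRcard]
    exact card_le_pp_of_le (T₁.isPGroup'.to_le inf_le_left) inf_le_right
  -- a central element of `T₁` in `D₁`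
  have hD₂ne : D₁ ⊓ R ≠ ⊥ := by
    haveI : (D₁.subgroupOf (T₁ : Subgroup X)).Normal :=
      Subgroup.normal_subgroupOf_of_le_normalizer hT₁D₁
    haveI : Group.IsNilpotent (T₁ : Subgroup X) := T₁.isPGroup'.isNilpotent
    have hne : D₁.subgroupOf (T₁ : Subgroup X) ≠ ⊥ := by
      intro h
      apply hD₁ne
      rw [Subgroup.subgroupOf_eq_bot] at h
      rw [← inf_eq_left.mpr hD₁T]
      exact disjoint_iff.mp h
    have h1 := inf_center_ne_bot (D₁.subgroupOf (T₁ : Subgroup X)) hne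
    obtain ⟨⟨z, hz⟩, hz1⟩ := (Subgroup.ne_bot_iff_exists_ne_one).mp h1
    have hzD : (z : X) ∈ D₁ := hz.1
    have hzc : ∀ t : (T₁ : Subgroup X), t * z = z * t := fun t =>
      (Subgroup.mem_center_iff.mp hz.2) t
    have hzN : (z : X) ∈ N := by
      rw [hNdef, Subgroup.mem_normalizer_iff]
      intro h
      constructor
      · intro hh
        have := hzc ⟨h, hRT₁ (hHR hh)⟩
        have e : (z : X) * h * (z : X)⁻¹ = h := by
          have h2 : h * (z : X) = (z : X) * h := congrArg Subtype.val this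
          rw [← h2, mul_inv_cancel_right]
        rw [e]; exact hh
      · intro hh
        have h3 : (z : X) * h * (z : X)⁻¹ ∈ (T₁ : Subgroup X) := hRT₁ (hHR hh)
        have := hzc ⟨(z : X) * h * (z : X)⁻¹, h3⟩
        have h2 : (z : X) * h * (z : X)⁻¹ * (z : X) = (z : X) * ((z : X) * h * (z : X)⁻¹) :=
          congrArg Subtype.val this
        have e : h = (z : X) * h * (z : X)⁻¹ := by
          have : (z : X) * h = (z : X) * ((z : X) * h * (z : X)⁻¹) := by
            rw [← h2]; group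
          exact mul_left_cancel this
        rw [e]; exact hh
    intro hbot
    have hmem : (z : X) ∈ D₁ ⊓ R := by
      rw [hRTN]
      exact ⟨hzD, z.2, hzN⟩
    rw [hbot, Subgroup.mem_bot] at hmem
    apply hz1
    exact Subtype.ext (Subtype.ext hmem)
  set D₂ := D₁ ⊓ R with hD₂
  have hD₂p : IsPGroup p D₂ := hRp.to_le inf_le_right
  have hD₂N : D₂ ≤ N := inf_le_right.trans hRN
  -- apply minimality to `N`
  have hcard : Nat.card N < Nat.card X := by
    have := ZJ.card_lt_of_lt (lt_top_iff_ne_top.mpr hNtop)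
    rwa [Subgroup.card_top] at this
  have hAdmN : Adm φ R₀ (D₂.subgroupOf N) := by
    refine ⟨?_, ?_⟩
    · rw [← hR₀]
      exact sClosed_subgroupOf (sClosed_inf_of_le hAdm₁.1 hRT₁) N
    · intro h
      rw [← hR₀, hD₂, hAdm₁.2 h, inf_eq_right.mpr hRT₁]
  have hnot : ¬ PNilp p (Subgroup.normalizer (W X D₂ : Set X)) := by
    intro hcon
    apply hH.notN
    apply hmc.smaller N hcard (hsub X hmc.mem N) R₀ (D₂.subgroupOf N) hAdmN
    apply hW.pnilp_restrict N (D₂.subgroupOf N)
      (hD₂p.comap_of_injective N.subtype N.subtype_injective)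
    rw [Subgroup.map_subgroupOf_eq_of_le hD₂N]
    exact hcon
  set H₁ := W X D₂ with hH₁
  have hH₁p : IsPGroup p H₁ := hD₂p.to_le (hW.le X D₂ hD₂p)
  have hH₁ne : H₁ ≠ ⊥ := hW.ne_bot X D₂ hD₂p hD₂ne
  have hM1 := (hH.max H₁ hH₁p hH₁ne hnot).1
  -- the normalizer of `R` in `T₁`
  set NT := (T₁ : Subgroup X) ⊓ Subgroup.normalizer (R : Set X) with hNT
  have hNTle : NT ≤ Subgroup.normalizer (H₁ : Set X) := by
    refine le_trans ?_ (hW.normalizer_le D₂ hD₂p)
    refine le_trans ?_ Subgroup.inf_normalizer_le_normalizer_inf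
    exact le_inf (inf_le_left.trans hT₁D₁) inf_le_right
  have hNTcard : Nat.card NT ≤ Nat.card R := by
    rw [hRcard]
    exact le_trans (card_le_pp_of_le (T₁.isPGroup'.to_le inf_le_left) hNTle) hM1
  have hRNT : R ≤ NT := le_inf hRT₁ Subgroup.le_normalizer
  have hNTeq : NT = R := (Subgroup.eq_of_le_of_card_ge hRNT hNTcard).symm
  have hRT : R = (T₁ : Subgroup X) := by
    by_contra hne
    have hlt : R < (T₁ : Subgroup X) := lt_of_le_of_ne hRT₁ hne
    have := Cfsg.Agent.Lib.Helper2.Schmidt.nilpotent_normalizer_grows (T₁ : Subgroup X) R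
      T₁.isPGroup'.isNilpotent hlt
    rw [← hNT, hNTeq] at this
    exact lt_irrefl _ this
  apply hnot
  rw [hH₁, hD₂, hRT, inf_eq_left.mpr hD₁T]
  exact hN₁

end Reduction

end GT

end Cfsg.Agent.Lib.Lead
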