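import Mathlib
import Cfsg.Agent.Lib.Lead.GT8

set_option autoImplicit false

namespace Cfsg.Agent.Lib.Lead

namespace GT

open scoped Pointwise

universe u

section Reduction

variable {p : ℕ} [hpf : Fact p.Prime]
  {W : ∀ (X : Type u) [Group X], Subgroup X → Subgroup X}
  {C : ∀ (X : Type u) [Group X], Prop} {φ : Prop}

/-- Step 4: the maximal obstruction is `O_p(X)` -/
theorem MinCE.maxLocal_pCore (hW : IsSecFunctor p W)
    (hsub : ∀ (X : Type u) [Group X] [Finite X], C X → ∀ M : Subgroup X, C M)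
    {X : Type u} [Group X] [Finite X] (hmc : MinCE p W C φ X)
    (T : Sylow p X) (D : Subgroup X) (hAdm : Adm φ T D)
    (hN : PNilp p (Subgroup.normalizer (W X D : Set X))) : MaxLocal p (Cfsg.pCore p X) := by
  obtain ⟨H, hH⟩ := exists_maxLocal hmc.not_nilp
  have hNH := hmc.normalizer_eq_top hW hsub T D hAdm hN H hH
  have hHn : H.Normal := Subgroup.normalizer_eq_top_iff.mp hNH
  have hHle : H ≤ Cfsg.pCore p X := Cfsg.Agent.Lib.Helper9.le_pCore hHn hH.pg
  haveI hQn : (Cfsg.pCore p X).Normal := Cfsg.Agent.Lib.Helper9.pCore_normal' p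
  have hQp : IsPGroup p (Cfsg.pCore p X) := Cfsg.Agent.Lib.Helper9.pCore_isPGroup' p
  have hQne : Cfsg.pCore p X ≠ ⊥ := by
    intro h
    apply hH.ne
    rw [eq_bot_iff, ← h]; exact hHle
  have hNQ : Subgroup.normalizer (Cfsg.pCore p X : Set X) = ⊤ :=
    Subgroup.normalizer_eq_top_iff.mpr hQn
  have hQnot : ¬ PNilp p (Subgroup.normalizer (Cfsg.pCore p X : Set X)) := fun h =>
    hmc.not_nilp (pnilp_of_eq_top hNQ h)
  have h2 := (hH.max _ hQp hQne hQnot).2 (by rw [hNQ, hNH])
  have heq : H = Cfsg.pCore p X := Subgroup.eq_of_le_of_card_ge hHle h2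
  rw [← heq]; exact hH

theorem MinCE.not_le_pCore (hW : IsSecFunctor p W)
    {X : Type u} [Group X] [Finite X] (hmc : MinCE p W C φ X)
    (T : Sylow p X) (D : Subgroup X) (hAdm : Adm φ T D)
    (hN : PNilp p (Subgroup.normalizer (W X D : Set X))) : ¬ D ≤ Cfsg.pCore p X := by
  intro hle
  haveI hQn : (Cfsg.pCore p X).Normal := Cfsg.Agent.Lib.Helper9.pCore_normal' p
  have hDn : (D ⊓ Cfsg.pCore p X).Normal :=
    hAdm.1.inf_normal _ (Cfsg.Agent.Lib.Helper9.pCore_le_sylow T)
  rw [inf_eq_left.mpr hle] at hDn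
  have hDp : IsPGroup p D := T.isPGroup'.to_le hAdm.1.1
  have h1 : Subgroup.normalizer (W X D : Set X) = ⊤ := by
    rw [eq_top_iff, ← Subgroup.normalizer_eq_top_iff.mpr hDn]
    exact hW.normalizer_le D hDp
  exact hmc.not_nilp (pnilp_of_eq_top h1 hN)

/-- Step 5: the quotient by `O_p(X)` has a normal `p`-complement -/
theorem MinCE.quot_pnilp (hW : IsSecFunctor p W)
    (hsub : ∀ (X : Type u) [Group X] [Finite X], C X → ∀ M : Subgroup X, C M)
    (hquot : ∀ (X : Type u) [Group X] [Finite X], C X → ∀ (R : Subgroup X) [R.Normal], C (X ⧸ R))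
    {X : Type u} [Group X] [Finite X] (hmc : MinCE p W C φ X)
    (T : Sylow p X) (D : Subgroup X) (hAdm : Adm φ T D)
    (hN : PNilp p (Subgroup.normalizer (W X D : Set X))) :
    PNilp p (X ⧸ Cfsg.pCore p X) := by
  have hML := hmc.maxLocal_pCore hW hsub T D hAdm hN
  set H := Cfsg.pCore p X with hHdef
  haveI hHn : H.Normal := Cfsg.Agent.Lib.Helper9.pCore_normal' p
  have hHp : IsPGroup p H := Cfsg.Agent.Lib.Helper9.pCore_isPGroup' p
  have hHT : H ≤ (T : Subgroup X) := Cfsg.Agent.Lib.Helper9.pCore_le_sylow T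
  set f := QuotientGroup.mk' H with hf
  have hfs : Function.Surjective f := QuotientGroup.mk'_surjective H
  have hHcard : 1 < Nat.card H := by
    rcases Nat.lt_or_ge 1 (Nat.card H) with h | h
    · exact h
    · exfalso
      have hpos : 0 < Nat.card H := Nat.card_pos
      have : Nat.card H = 1 := by omega
      exact hML.ne (Subgroup.card_eq_one.mp this)
  have hcard : Nat.card (X ⧸ H) < Nat.card X := by
    have h1 := card_quotient_mul H
    have h2 : 0 < Nat.card (X ⧸ H) := Nat.card_pos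
    nlinarith
  have hDp : IsPGroup p D := T.isPGroup'.to_le hAdm.1.1
  have hAdm' : Adm φ (T.mapSurjective hfs) (D.map f) := by
    refine ⟨?_, ?_⟩
    · rw [Sylow.coe_mapSurjective]; exact sClosed_map_mk_of_le hAdm.1 H hHT
    · intro h; rw [Sylow.coe_mapSurjective, hAdm.2 h]
  apply hmc.smaller (X ⧸ H) hcard (hquot X hmc.mem H) (T.mapSurjective hfs) (D.map f) hAdm'
  set Wb := W (X ⧸ H) (D.map f) with hWb
  have hDbp : IsPGroup p (D.map f) := hDp.map f
  have hDbne : D.map f ≠ ⊥ := by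
    intro h
    rw [Subgroup.map_eq_bot_iff, QuotientGroup.ker_mk'] at h
    exact hmc.not_le_pCore hW T D hAdm hN h
  have hWbne : Wb ≠ ⊥ := hW.ne_bot _ _ hDbp hDbne
  have hWbp : IsPGroup p Wb := hDbp.to_le (hW.le _ _ hDbp)
  set L := Wb.comap f with hL
  have hLcard : Nat.card L = Nat.card Wb * Nat.card H := card_comap_mk H Wb
  have hLp : IsPGroup p L := by
    obtain ⟨a, ha⟩ := IsPGroup.iff_card.mp hWbp
    obtain ⟨b, hb⟩ := IsPGroup.iff_card.mp hHp
    apply IsPGroup.of_card (n := a + b)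
    rw [hLcard, ha, hb, pow_add]
  have hWbcard : 1 < Nat.card Wb := by
    rcases Nat.lt_or_ge 1 (Nat.card Wb) with h | h
    · exact h
    · exfalso
      have hpos : 0 < Nat.card Wb := Nat.card_pos
      have : Nat.card Wb = 1 := by omega
      exact hWbne (Subgroup.card_eq_one.mp this)
  have hLgt : Nat.card H < Nat.card L := by
    rw [hLcard]
    have : 0 < Nat.card H := Nat.card_pos
    nlinarith
  have hLne : L ≠ ⊥ := by
    intro h
    rw [h, Subgroup.card_bot] at hLgt
    have : 0 < Nat.card H := Nat.card_pos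
    omega
  have hNL : Subgroup.normalizer (L : Set X) = (Subgroup.normalizer (Wb : Set (X ⧸ H))).comap f :=
    (Subgroup.comap_normalizer_eq_of_surjective Wb hfs).symm
  have hTL : (T : Subgroup X) ≤ Subgroup.normalizer (L : Set X) := by
    rw [hNL]
    intro t ht
    rw [Subgroup.mem_comap]
    have h1 : f t ∈ ((T.mapSurjective hfs : Sylow p (X ⧸ H)) : Subgroup (X ⧸ H)) := by
      rw [Sylow.coe_mapSurjective]; exact ⟨t, ht, rfl⟩
    exact hW.normalizer_le (D.map f) hDbp (hAdm'.1.le_normalizer h1)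
  have hNLp : PNilp p (Subgroup.normalizer (L : Set X)) := by
    by_contra hcon
    obtain ⟨h1, h2⟩ := hML.max L hLp hLne hcon
    have h3 : Nat.card (T : Subgroup X) ≤ pp p (Nat.card (Subgroup.normalizer (L : Set X))) :=
      card_le_pp_of_le T.isPGroup' hTL
    have h4 : pp p (Nat.card (Subgroup.normalizer (H : Set X))) ≤ pp p (Nat.card X) :=
      pp_mono (Subgroup.card_subgroup_dvd_card _) Nat.card_pos.ne'
    rw [sylow_card_eq_pp] at h3
    have h5 := h2 (le_antisymm h1 (le_trans h4 h3))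
    omega
  have hmap : Subgroup.normalizer (Wb : Set (X ⧸ H)) =
      (Subgroup.normalizer (L : Set X)).map f := by
    rw [hNL, Subgroup.map_comap_eq_self_of_surjective hfs]
  rw [hmap]
  exact hNLp.of_surjective (f.subgroupMap _) (f.subgroupMap_surjective _)

end Reduction

end GT

end Cfsg.Agent.Lib.Lead
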