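import Mathlib
import Cfsg.Agent.Lib.Lead.GT9
import Cfsg.Agent.Lib.Lead.PComplement

set_option autoImplicit false

namespace Cfsg.Agent.Lib.Lead

namespace GT

open scoped Pointwise commutatorElement

universe u

section Reduction

variable {p : ℕ} [hpf : Fact p.Prime]
  {W : ∀ (X : Type u) [Group X], Subgroup X → Subgroup X}
  {C : ∀ (X : Type u) [Group X], Prop} {φ : Prop}

/-- Step 6: `O_{p'}(X) = 1` -/
theorem MinCE.pPrimeCore_eq_bot (hW : IsSecFunctor p W)
    (hquot : ∀ (X : Type u) [Group X] [Finite X], C X → ∀ (R : Subgroup X) [R.Normal], C (X ⧸ R))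
    {X : Type u} [Group X] [Finite X] (hmc : MinCE p W C φ X)
    (T : Sylow p X) (D : Subgroup X) (hAdm : Adm φ T D)
    (hN : PNilp p (Subgroup.normalizer (W X D : Set X))) : Cfsg.pPrimeCore p X = ⊥ := by
  by_contra hne
  set R := Cfsg.pPrimeCore p X with hRdef
  haveI hRn : R.Normal := (Cfsg.Agent.Lib.Helper6.pPrimeCore_mem_set p).1
  have hRc : (Nat.card R).Coprime p := Cfsg.Agent.Lib.Helper6.pPrimeCore_coprime p
  set f := QuotientGroup.mk' R with hf
  have hfs : Function.Surjective f := QuotientGroup.mk'_surjective R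
  have hRcard : 1 < Nat.card R := by
    rcases Nat.lt_or_ge 1 (Nat.card R) with h | h
    · exact h
    · exfalso
      have hpos : 0 < Nat.card R := Nat.card_pos
      have : Nat.card R = 1 := by omega
      exact hne (Subgroup.card_eq_one.mp this)
  have hcard : Nat.card (X ⧸ R) < Nat.card X := by
    have h1 := card_quotient_mul R
    have h2 : 0 < Nat.card (X ⧸ R) := Nat.card_pos
    nlinarith
  have hDp : IsPGroup p D := T.isPGroup'.to_le hAdm.1.1
  have hAdm' : Adm φ (T.mapSurjective hfs) (D.map f) := by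
    refine ⟨?_, ?_⟩
    · rw [Sylow.coe_mapSurjective]; exact ZJ.sClosed_map_mk T D hAdm.1
    · intro h; rw [Sylow.coe_mapSurjective, hAdm.2 h]
  apply hmc.not_nilp
  apply PNilp.of_quotient_coprime R hRc
  exact hmc.smaller (X ⧸ R) hcard (hquot X hmc.mem R) (T.mapSurjective hfs) (D.map f) hAdm'
    (hW.pnilp_quot_coprime R hRc D hDp hN)

/-- Hall–Higman's lemma in the case needed: if `O_{p'}(X) = 1` and `X / O_p(X)` has a normal
`p`-complement then `C_X(O_p(X)) ≤ O_p(X)` -/
theorem centralizer_pCore_le_of {X : Type u} [Group X] [Finite X]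
    (hO : Cfsg.pPrimeCore p X = ⊥) (hq : PNilp p (X ⧸ Cfsg.pCore p X)) :
    Subgroup.centralizer (Cfsg.pCore p X : Set X) ≤ Cfsg.pCore p X := by
  set H := Cfsg.pCore p X with hHdef
  haveI hHn : H.Normal := Cfsg.Agent.Lib.Helper9.pCore_normal' p
  have hHp : IsPGroup p H := Cfsg.Agent.Lib.Helper9.pCore_isPGroup' p
  set f := QuotientGroup.mk' H with hf
  have hfs : Function.Surjective f := QuotientGroup.mk'_surjective H
  obtain ⟨Kb, hKbn, hKbc, k, hk⟩ := hq
  haveI := hKbn
  set K := Kb.comap f with hK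
  have hHK : H ≤ K := by
    intro h hh
    rw [hK, Subgroup.mem_comap]
    have : f h = 1 := (QuotientGroup.eq_one_iff h).mpr hh
    rw [this]; exact Kb.one_mem
  set Cn := Subgroup.centralizer (H : Set X) with hCn
  haveI hCnn : Cn.Normal := Subgroup.normal_centralizer
  set Y := Cn ⊓ K with hY
  haveI hYn : Y.Normal := inferInstance
  -- `Y ≤ H`
  have hYH : Y ≤ H := by
    set Z := Cn ⊓ H with hZ
    have hZY : Z ≤ Y := inf_le_inf_left _ hHK
    have hYH' : Y ⊓ H = Z := by
      rw [hY, hZ, inf_assoc, inf_eq_right.mpr hHK]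
    have hZp : IsPGroup p (Z.subgroupOf Y) :=
      (hHp.to_le inf_le_right).comap_of_injective Y.subtype Y.subtype_injective
    have hidx : ¬ p ∣ (Z.subgroupOf Y).index := by
      have h1 := card_map_mk_mul H Y
      rw [hYH'] at h1
      have h2 : Nat.card (Y.map f) ∣ Nat.card Kb := by
        apply Subgroup.card_dvd_of_le
        rintro _ ⟨y, hy, rfl⟩
        exact hy.2
      have h3 : (Z.subgroupOf Y).index = Nat.card (Y.map f) := by
        have h4 := (Z.subgroupOf Y).card_mul_index
        rw [card_subgroupOf_of_le hZY, ← h1, mul_comm] at h4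
        exact Nat.eq_of_mul_eq_mul_right Nat.card_pos h4
      rw [h3]
      intro hd
      have := Nat.Coprime.coprime_dvd_left h2 hKbc
      exact hpf.out.one_lt.ne' (Nat.eq_one_of_dvd_coprimes this hd (dvd_refl p))
    have hcent : Subgroup.normalizer ((hZp.toSylow hidx : Sylow p Y) : Set Y) ≤
        Subgroup.centralizer ((hZp.toSylow hidx : Sylow p Y) : Set Y) := by
      intro y _
      rw [Subgroup.mem_centralizer_iff]
      intro z hz
      have hz' : (z : X) ∈ H := by
        have : z ∈ Z.subgroupOf Y := hz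
        exact this.2
      have hy' : (y : X) ∈ Cn := y.2.1
      apply Subtype.ext
      exact (Subgroup.mem_centralizer_iff.mp hy') z hz'
    have hnpc := hasNormalPComplement_of_normalizer_le_centralizer (hZp.toSylow hidx) hcent
    obtain ⟨Q, hQn, hQc, j, hj⟩ := pnilp_iff.mpr hnpc
    haveI := hQn
    have hQXn : (Q.map Y.subtype).Normal := by
      refine ⟨?_⟩
      rintro _ ⟨q, hq, rfl⟩ x
      have hmem : x * (q : X) * x⁻¹ ∈ Y := hYn.conj_mem _ q.2 x
      refine ⟨⟨_, hmem⟩, ?_, rfl⟩
      apply mem_of_coprime_orderOf Q ⟨j, hj⟩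
      have h1 : orderOf (⟨x * q * x⁻¹, hmem⟩ : Y) = orderOf q := by
        rw [← Subgroup.orderOf_coe, ← Subgroup.orderOf_coe q]
        have := orderOf_injective (MulAut.conj x).toMonoidHom (MulAut.conj x).injective (q : X)
        simpa using this
      rw [h1]
      have h2 : orderOf q ∣ Nat.card Q := by
        have := orderOf_dvd_natCard (⟨q, hq⟩ : Q)
        rwa [Subgroup.orderOf_mk] at this
      exact Nat.Coprime.coprime_dvd_left h2 hQc
    have hQXc : (Nat.card (Q.map Y.subtype)).Coprime p := by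
      rw [Subgroup.card_map_of_injective Y.subtype_injective]; exact hQc
    have hQbot : Q.map Y.subtype = ⊥ := by
      rw [eq_bot_iff, ← hO]
      exact Cfsg.Agent.Lib.Helper6.le_pPrimeCore hQXn hQXc
    have hQbot' : Q = ⊥ := (Subgroup.map_eq_bot_iff_of_injective Q Y.subtype_injective).mp hQbot
    have hYp : IsPGroup p Y := by
      apply IsPGroup.of_card (n := j)
      rw [← hj, hQbot', Subgroup.index_bot]
    exact Cfsg.Agent.Lib.Helper9.le_pCore hYn hYp
  -- `C` is a `p`-group
  have hCp : IsPGroup p Cn := by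
    obtain ⟨b, hb⟩ := IsPGroup.iff_card.mp hHp
    rintro ⟨c, hc⟩
    refine ⟨k + b, ?_⟩
    apply Subtype.ext
    rw [Subgroup.coe_pow, Subgroup.coe_one]
    have h1 : (f c) ^ (p ^ k) ∈ Kb := by
      rw [← hk]; exact Kb.pow_index_mem (f c)
    have h2 : c ^ p ^ k ∈ Y := by
      refine Subgroup.mem_inf.mpr ⟨Cn.pow_mem hc _, ?_⟩
      rw [hK, Subgroup.mem_comap, map_pow]
      exact h1
    have h3 : c ^ p ^ k ∈ H := hYH h2
    have h4 : (⟨c ^ p ^ k, h3⟩ : H) ^ (p ^ b) = 1 := by
      rw [← hb]; exact pow_card_eq_one'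
    have h5 := congrArg Subtype.val h4
    rw [Subgroup.coe_pow, Subgroup.coe_one] at h5
    rw [pow_add, pow_mul]
    exact h5
  exact Cfsg.Agent.Lib.Helper9.le_pCore hCnn hCp

end Reduction

end GT

end Cfsg.Agent.Lib.Lead
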