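import Mathlib

set_option autoImplicit false

namespace Cfsg.Agent.Lib.Lead

namespace GT

section RingLemma

variable {R : Type*} [Ring R] {p : ℕ} [hpf : Fact p.Prime] [CharP R p]

theorem eq_zero_of_pow_eq_self {u : R} {q : ℕ} (hq : 2 ≤ q) (h1 : u ^ q = u) (h2 : u * u = 0) :
    u = 0 := by
  rw [← h1]
  obtain ⟨j, rfl⟩ := Nat.exists_eq_add_of_le hq
  rw [pow_add, pow_two, h2, zero_mul]

theorem exists_frob {m : ℕ} (hm : m.Coprime p) :
    ∃ k : ℕ, 2 ≤ p ^ k ∧ ∀ t : R, t ^ m = 1 → t ^ p ^ k = t := by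
  have hp := hpf.out
  have hm0 : 0 < m := by
    rcases Nat.eq_zero_or_pos m with h | h
    · exfalso
      rw [h, Nat.coprime_zero_left] at hm
      exact hp.one_lt.ne' hm
    · exact h
  have hk : 0 < m.totient := Nat.totient_pos.mpr hm0
  refine ⟨m.totient, ?_, ?_⟩
  · calc 2 ≤ p := hp.two_le
      _ = p ^ 1 := (pow_one p).symm
      _ ≤ p ^ m.totient := Nat.pow_le_pow_right hp.pos hk
  · intro t ht
    have h1 : p ^ m.totient ≡ 1 [MOD m] := Nat.ModEq.pow_totient hm.symm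
    have h2 : m ∣ p ^ m.totient - 1 := (Nat.modEq_iff_dvd' (Nat.one_le_pow _ _ hp.pos)).mp h1.symm
    obtain ⟨j, hj⟩ := h2
    have h3 : p ^ m.totient = 1 + m * j := by
      have := Nat.one_le_pow m.totient p hp.pos
      omega
    rw [h3, pow_add, pow_one, pow_mul, ht, one_pow, mul_one]

theorem ntn_eq_zero (hp2 : p ≠ 2) {m : ℕ} (hm : m.Coprime p) (n t : R) (hn : n * n = 0)
    (ht : t ^ m = 1)
    (h1 : Commute t ((1 + n) * t * (1 - n))) (h2 : Commute t ((1 - n) * t * (1 + n)))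
    (h12 : Commute ((1 + n) * t * (1 - n)) ((1 - n) * t * (1 + n))) : n * t * n = 0 := by
  have hp := hpf.out
  obtain ⟨k, hk2, hk⟩ := exists_frob (R := R) hm
  have hxx' : (1 + n) * (1 - n) = 1 := by
    have : (1 + n) * (1 - n) = 1 - n * n := by noncomm_ring
    rw [this, hn, sub_zero]
  have hx'x : (1 - n) * (1 + n) = 1 := by
    have : (1 - n) * (1 + n) = 1 - n * n := by noncomm_ring
    rw [this, hn, sub_zero]
  let u : Rˣ := ⟨1 + n, 1 - n, hxx', hx'x⟩
  let u' : Rˣ := ⟨1 - n, 1 + n, hx'x, hxx'⟩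
  set t₁ := (1 + n) * t * (1 - n) with ht₁
  set t₂ := (1 - n) * t * (1 + n) with ht₂
  have ht₁m : t₁ ^ m = 1 := by
    have := Units.conj_pow u t m
    have e : t₁ = (u : R) * t * ((u⁻¹ : Rˣ) : R) := rfl
    rw [e, this, ht, mul_one]
    exact u.mul_inv
  have ht₂m : t₂ ^ m = 1 := by
    have := Units.conj_pow u' t m
    have e : t₂ = (u' : R) * t * ((u'⁻¹ : Rˣ) : R) := rfl
    rw [e, this, ht, mul_one]
    exact u'.mul_inv
  set d₁ := t₁ - t with hd₁
  set d₂ := t₂ - t with hd₂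
  have hd₁q : d₁ ^ p ^ k = d₁ := by
    rw [hd₁, sub_pow_char_pow_of_commute _ _ h1.symm, hk t₁ ht₁m, hk t ht]
  have hd₂q : d₂ ^ p ^ k = d₂ := by
    rw [hd₂, sub_pow_char_pow_of_commute _ _ h2.symm, hk t₂ ht₂m, hk t ht]
  have hcomm : Commute d₁ d₂ := by
    apply Commute.sub_left
    · apply Commute.sub_right h12 h1.symm
    · apply Commute.sub_right h2 (Commute.refl t)
  set E := n * t * n with hE
  have hsum : d₁ + d₂ = -(E + E) := by
    rw [hd₁, hd₂, ht₁, ht₂, hE]
    noncomm_ring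
  have hEE : E * E = 0 := by
    have : E * E = n * t * (n * n) * t * n := by rw [hE]; noncomm_ring
    rw [this, hn]; simp
  have hsq : (d₁ + d₂) * (d₁ + d₂) = 0 := by
    rw [hsum]
    have : -(E + E) * -(E + E) = (E * E) + (E * E) + (E * E) + (E * E) := by noncomm_ring
    rw [this, hEE]; simp
  have hq : (d₁ + d₂) ^ p ^ k = d₁ + d₂ := by
    rw [add_pow_char_pow_of_commute _ _ hcomm, hd₁q, hd₂q]
  have h0 : d₁ + d₂ = 0 := eq_zero_of_pow_eq_self hk2 hq hsq
  have h2E : E + E = 0 := by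
    rw [hsum] at h0
    exact neg_eq_zero.mp h0
  obtain ⟨j, hj⟩ : ∃ j, p = 2 * j + 1 := by
    rcases hp.eq_two_or_odd' with h | h
    · exact absurd h hp2
    · obtain ⟨j, hj⟩ := h; exact ⟨j, hj⟩
  have hpE : p • E = 0 := by
    rw [nsmul_eq_mul, CharP.cast_eq_zero, zero_mul]
  rw [hj, add_nsmul, one_nsmul, mul_nsmul, two_nsmul, h2E, nsmul_zero, zero_add] at hpE
  exact hpE

theorem commute_of_quadratic (hp2 : p ≠ 2) {m : ℕ} (hm : m.Coprime p) (n t : R) (hn : n * n = 0)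
    (ht : t ^ m = 1)
    (h1 : Commute t ((1 + n) * t * (1 - n))) (h2 : Commute t ((1 - n) * t * (1 + n)))
    (h12 : Commute ((1 + n) * t * (1 - n)) ((1 - n) * t * (1 + n))) : n * t = t * n := by
  have hp := hpf.out
  obtain ⟨k, hk2, hk⟩ := exists_frob (R := R) hm
  have hxx' : (1 + n) * (1 - n) = 1 := by
    have : (1 + n) * (1 - n) = 1 - n * n := by noncomm_ring
    rw [this, hn, sub_zero]
  have hx'x : (1 - n) * (1 + n) = 1 := by
    have : (1 - n) * (1 + n) = 1 - n * n := by noncomm_ring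
    rw [this, hn, sub_zero]
  have hE : n * t * n = 0 := ntn_eq_zero hp2 hm n t hn ht h1 h2 h12
  -- the same for `t * t`
  have e1 : (1 + n) * (t * t) * (1 - n) = ((1 + n) * t * (1 - n)) * ((1 + n) * t * (1 - n)) := by
    have : ((1 + n) * t * (1 - n)) * ((1 + n) * t * (1 - n))
        = (1 + n) * t * ((1 - n) * (1 + n)) * t * (1 - n) := by noncomm_ring
    rw [this, hx'x]; noncomm_ring
  have e2 : (1 - n) * (t * t) * (1 + n) = ((1 - n) * t * (1 + n)) * ((1 - n) * t * (1 + n)) := by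
    have : ((1 - n) * t * (1 + n)) * ((1 - n) * t * (1 + n))
        = (1 - n) * t * ((1 + n) * (1 - n)) * t * (1 + n) := by noncomm_ring
    rw [this, hxx']; noncomm_ring
  have hE2 : n * (t * t) * n = 0 := by
    apply ntn_eq_zero hp2 hm n (t * t) hn
    · rw [(Commute.refl t).mul_pow, ht, one_mul]
    · rw [e1]; exact (h1.mul_left h1).mul_right (h1.mul_left h1)
    · rw [e2]; exact (h2.mul_left h2).mul_right (h2.mul_left h2)
    · rw [e1, e2]; exact (h12.mul_left h12).mul_right (h12.mul_left h12)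
  set t₁ := (1 + n) * t * (1 - n) with ht₁
  have ht₁m : t₁ ^ m = 1 := by
    let u : Rˣ := ⟨1 + n, 1 - n, hxx', hx'x⟩
    have := Units.conj_pow u t m
    have e : t₁ = (u : R) * t * ((u⁻¹ : Rˣ) : R) := rfl
    rw [e, this, ht, mul_one]
    exact u.mul_inv
  set d := t₁ - t with hd
  have hdq : d ^ p ^ k = d := by
    rw [hd, sub_pow_char_pow_of_commute _ _ h1.symm, hk t₁ ht₁m, hk t ht]
  have hdval : d = n * t - t * n := by
    have : d = n * t - t * n - n * t * n := by rw [hd, ht₁]; noncomm_ring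
    rw [this, hE, sub_zero]
  have hdd : d * d = 0 := by
    have : d * d = (n * t * n) * t - n * (t * t) * n - t * (n * n) * t + t * (n * t * n) := by
      rw [hdval]; noncomm_ring
    rw [this, hE, hE2, hn]; simp
  have h0 : d = 0 := eq_zero_of_pow_eq_self hk2 hdq hdd
  rw [hdval] at h0
  exact sub_eq_zero.mp h0

end RingLemma

end GT

end Cfsg.Agent.Lib.Lead
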