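import Mathlib
import Cfsg.Agent.Lib.Lead.GT1

set_option autoImplicit false

namespace Cfsg.Agent.Lib.Lead

namespace GT

section Irr

variable {V : Type*} [CommGroup V]

/-- the additive endomorphism attached to an automorphism -/
def toEnd (γ : MulAut V) : AddMonoid.End (Additive V) := MonoidHom.toAdditive γ.toMonoidHom

theorem toEnd_apply (γ : MulAut V) (x : Additive V) :
    toEnd γ x = Additive.ofMul (γ (Additive.toMul x)) := rfl

theorem toEnd_mul (γ δ : MulAut V) : toEnd (γ * δ) = toEnd γ * toEnd δ := by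
  ext x; rfl

theorem toEnd_one : toEnd (1 : MulAut V) = 1 := by
  ext x; rfl

theorem toEnd_pow (γ : MulAut V) (k : ℕ) : toEnd (γ ^ k) = toEnd γ ^ k := by
  induction k with
  | zero => rw [pow_zero, pow_zero, toEnd_one]
  | succ k ih => rw [pow_succ, pow_succ, toEnd_mul, ih]

theorem toEnd_injective : Function.Injective (toEnd (V := V)) := by
  intro γ δ h
  ext v
  have := DFunLike.congr_fun h (Additive.ofMul v)
  rw [toEnd_apply, toEnd_apply] at this
  exact this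

/-- irreducibility of `V` under a group of automorphisms -/
def Irr (Γ : Subgroup (MulAut V)) : Prop :=
  ∀ U : Subgroup V, (∀ γ ∈ Γ, ∀ v ∈ U, γ v ∈ U) → U = ⊥ ∨ U = ⊤

variable [Finite V] {p : ℕ} [hpf : Fact p.Prime]

theorem eq_bot_of_normal_pgroup (hV : IsPGroup p V) [Nontrivial V] (Γ Q : Subgroup (MulAut V))
    (hirr : Irr Γ) (hQ : IsPGroup p Q) (hnorm : ∀ γ ∈ Γ, ∀ π ∈ Q, γ * π * γ⁻¹ ∈ Q) : Q = ⊥ := by
  let U : Subgroup V :=
    { carrier := {v | ∀ π ∈ Q, π v = v}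
      one_mem' := fun π _ => map_one π
      mul_mem' := by
        intro a b ha hb π hπ
        rw [map_mul, ha π hπ, hb π hπ]
      inv_mem' := by
        intro a ha π hπ
        rw [map_inv, ha π hπ] }
  have hUinv : ∀ γ ∈ Γ, ∀ v ∈ U, γ v ∈ U := by
    intro γ hγ v hv π hπ
    have h1 : γ⁻¹ * π * γ⁻¹⁻¹ ∈ Q := hnorm γ⁻¹ (Γ.inv_mem hγ) π hπ
    have h2 := hv _ h1
    have h3 : (γ⁻¹ * π * γ⁻¹⁻¹) v = γ⁻¹ (π (γ v)) := by
      rw [inv_inv]; rfl
    rw [h3] at h2
    have h4 : γ (γ⁻¹ (π (γ v))) = π (γ v) := by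
      show (γ * γ⁻¹) (π (γ v)) = _
      rw [mul_inv_cancel]; rfl
    rw [← h4, h2]
  have hUne : U ≠ ⊥ := by
    have hdvd : p ∣ Nat.card V := by
      obtain ⟨k, hk⟩ := IsPGroup.iff_card.mp hV
      have hk0 : k ≠ 0 := by
        rintro rfl
        rw [pow_zero] at hk
        have : Subsingleton V := (Nat.card_eq_one_iff_unique.mp hk).1
        exact not_subsingleton V this
      rw [hk]; exact dvd_pow_self p hk0
    have h1 : (1 : V) ∈ MulAction.fixedPoints Q V := by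
      intro π
      show (π : MulAut V) 1 = 1
      exact map_one _
    obtain ⟨b, hb, hne⟩ := hQ.exists_fixed_point_of_prime_dvd_card_of_fixed_point V hdvd h1
    intro hbot
    have hbU : b ∈ U := by
      intro π hπ
      exact hb ⟨π, hπ⟩
    rw [hbot, Subgroup.mem_bot] at hbU
    exact hne hbU.symm
  rcases hirr U hUinv with h | h
  · exact absurd h hUne
  · rw [eq_bot_iff]
    intro π hπ
    rw [Subgroup.mem_bot]
    ext v
    have : v ∈ U := by rw [h]; exact Subgroup.mem_top v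
    exact this π hπ

theorem charP_end (hVp : ∀ v : V, v ^ p = 1) [Nontrivial V] :
    CharP (AddMonoid.End (Additive V)) p := by
  haveI : Nontrivial (AddMonoid.End (Additive V)) := by
    obtain ⟨v, hv⟩ := exists_ne (1 : V)
    refine ⟨⟨0, 1, ?_⟩⟩
    intro h
    have := DFunLike.congr_fun h (Additive.ofMul v)
    apply hv
    have h2 : (Additive.ofMul v) = 0 := this.symm
    exact h2
  rw [CharP.charP_iff_prime_eq_zero hpf.out]
  ext x
  rw [AddMonoid.End.natCast_apply]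
  show Additive.ofMul ((Additive.toMul x) ^ p) = 0
  rw [hVp]; rfl

theorem quadratic_trivial (hp2 : p ≠ 2) (hVp : ∀ v : V, v ^ p = 1) [Nontrivial V]
    (Γ K T : Subgroup (MulAut V)) (hT : T ≤ Γ)
    (hfac : ∀ γ ∈ Γ, ∃ k ∈ K, ∃ t ∈ T, γ = k * t)
    (hKn : ∀ γ ∈ Γ, ∀ k ∈ K, γ * k * γ⁻¹ ∈ K)
    (hKab : ∀ a ∈ K, ∀ b ∈ K, a * b = b * a)
    (hKm : ∀ k ∈ K, ∃ m : ℕ, m.Coprime p ∧ k ^ m = 1)
    (hTp : IsPGroup p T) (hirr : Irr Γ)
    (γ : MulAut V) (hγ : γ ∈ Γ) (hquad : ∀ v, γ (γ v) * v = γ v * γ v) : γ = 1 := by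
  have hp := hpf.out
  haveI : CharP (AddMonoid.End (Additive V)) p := charP_end hVp
  have hV : IsPGroup p V := fun v => ⟨1, by rw [pow_one]; exact hVp v⟩
  set n : AddMonoid.End (Additive V) := toEnd γ - 1 with hn
  have hnn : n * n = 0 := by
    ext x
    have h := hquad (Additive.toMul x)
    show toEnd γ (toEnd γ x - x) - (toEnd γ x - x) = 0
    rw [map_sub, toEnd_apply, toEnd_apply]
    have h' : Additive.ofMul (γ (γ (Additive.toMul x))) + x
        = Additive.ofMul (γ (Additive.toMul x)) + Additive.ofMul (γ (Additive.toMul x)) :=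
      congrArg Additive.ofMul h
    have e : Additive.toMul (Additive.ofMul (γ (Additive.toMul x))) = γ (Additive.toMul x) := rfl
    rw [e]
    have h'' := eq_sub_of_add_eq h'
    rw [h'']; abel
  have h1n : 1 + n = toEnd γ := by rw [hn]; abel
  have hinv : 1 - n = toEnd γ⁻¹ := by
    have hxx' : (1 + n) * (1 - n) = 1 := by
      rw [add_mul, one_mul, mul_sub, mul_one, hnn, sub_zero, sub_add_cancel]
    have h2 : toEnd γ⁻¹ * toEnd γ = 1 := by rw [← toEnd_mul, inv_mul_cancel, toEnd_one]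
    calc 1 - n = (toEnd γ⁻¹ * toEnd γ) * (1 - n) := by rw [h2, one_mul]
      _ = toEnd γ⁻¹ * ((1 + n) * (1 - n)) := by rw [h1n, mul_assoc]
      _ = toEnd γ⁻¹ := by rw [hxx', mul_one]
  -- `γ` commutes with `K`
  have hcomm : ∀ y ∈ K, γ * y = y * γ := by
    intro y hy
    have hy1 : γ * y * γ⁻¹ ∈ K := hKn γ hγ y hy
    have hy2 : γ⁻¹ * y * γ ∈ K := by
      have := hKn γ⁻¹ (Γ.inv_mem hγ) y hy
      rwa [inv_inv] at this
    have e1 : (1 + n) * toEnd y * (1 - n) = toEnd (γ * y * γ⁻¹) := by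
      rw [h1n, hinv, toEnd_mul, toEnd_mul]
    have e2 : (1 - n) * toEnd y * (1 + n) = toEnd (γ⁻¹ * y * γ) := by
      rw [h1n, hinv, toEnd_mul, toEnd_mul]
    obtain ⟨m, hm, hym⟩ := hKm y hy
    have key := commute_of_quadratic (p := p) hp2 hm n (toEnd y) hnn
      (by rw [← toEnd_pow, hym, toEnd_one])
      (by rw [e1]; show toEnd y * toEnd _ = toEnd _ * toEnd y
          rw [← toEnd_mul, ← toEnd_mul, hKab y hy _ hy1])
      (by rw [e2]; show toEnd y * toEnd _ = toEnd _ * toEnd y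
          rw [← toEnd_mul, ← toEnd_mul, hKab y hy _ hy2])
      (by rw [e1, e2]; show toEnd _ * toEnd _ = toEnd _ * toEnd _
          rw [← toEnd_mul, ← toEnd_mul, hKab _ hy1 _ hy2])
    apply toEnd_injective
    rw [toEnd_mul, toEnd_mul, ← h1n]
    rw [add_mul, mul_add, one_mul, mul_one, key]
  obtain ⟨k, hk, t, ht, hkt⟩ := hfac γ hγ
  have hkΓ : k ∈ Γ := by
    have : k = γ * t⁻¹ := by rw [hkt, mul_inv_cancel_right]
    rw [this]; exact Γ.mul_mem hγ (Γ.inv_mem (hT ht))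
  have htcomm : ∀ y ∈ K, t * y = y * t := by
    intro y hy
    have ht' : t = k⁻¹ * γ := by rw [hkt, inv_mul_cancel_left]
    rw [ht', mul_assoc, hcomm y hy, ← mul_assoc, ← mul_assoc]
    congr 1
    have := hKab k hk y hy
    calc k⁻¹ * y = k⁻¹ * (y * k) * k⁻¹ := by group
      _ = k⁻¹ * (k * y) * k⁻¹ := by rw [this]
      _ = y * k⁻¹ := by group
  set Q : Subgroup (MulAut V) := T ⊓ Subgroup.centralizer (K : Set (MulAut V)) with hQdef
  have htQ : t ∈ Q := by
    refine Subgroup.mem_inf.mpr ⟨ht, ?_⟩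
    rw [Subgroup.mem_centralizer_iff]
    intro y hy
    exact (htcomm y hy).symm
  have hQnorm : ∀ δ ∈ Γ, ∀ π ∈ Q, δ * π * δ⁻¹ ∈ Q := by
    intro δ hδ π hπ
    obtain ⟨k', hk', t', ht', hδ'⟩ := hfac δ hδ
    have hπc : ∀ y ∈ K, y * π = π * y := fun y hy =>
      (Subgroup.mem_centralizer_iff.mp hπ.2) y hy
    have h1 : t' * π * t'⁻¹ ∈ Q := by
      refine Subgroup.mem_inf.mpr ⟨T.mul_mem (T.mul_mem ht' hπ.1) (T.inv_mem ht'), ?_⟩
      rw [Subgroup.mem_centralizer_iff]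
      intro y hy
      have hy' : t'⁻¹ * y * t' ∈ K := by
        have := hKn t'⁻¹ (Γ.inv_mem (hT ht')) y hy
        rwa [inv_inv] at this
      have h2 := hπc _ hy'
      calc y * (t' * π * t'⁻¹) = t' * ((t'⁻¹ * y * t') * π) * t'⁻¹ := by group
        _ = t' * (π * (t'⁻¹ * y * t')) * t'⁻¹ := by rw [h2]
        _ = t' * π * t'⁻¹ * y := by group
    have h3 : δ * π * δ⁻¹ = t' * π * t'⁻¹ := by
      have h4 := (Subgroup.mem_centralizer_iff.mp h1.2) k' hk'
      rw [hδ']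
      calc k' * t' * π * (k' * t')⁻¹ = (k' * (t' * π * t'⁻¹)) * k'⁻¹ := by group
        _ = ((t' * π * t'⁻¹) * k') * k'⁻¹ := by rw [h4]
        _ = t' * π * t'⁻¹ := by group
    rw [h3]; exact h1
  have hQbot : Q = ⊥ :=
    eq_bot_of_normal_pgroup hV Γ Q hirr (hTp.to_le inf_le_left) hQnorm
  have ht1 : t = 1 := by
    rw [hQbot, Subgroup.mem_bot] at htQ
    exact htQ
  rw [ht1, mul_one] at hkt
  obtain ⟨m, hm, hkm⟩ := hKm k hk
  have hγm : γ ^ m = 1 := by rw [hkt]; exact hkm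
  have hγp : γ ^ p = 1 := by
    apply toEnd_injective
    rw [toEnd_pow, toEnd_one, ← h1n, add_pow_char_of_commute _ (Commute.one_left n), one_pow]
    have : n ^ p = 0 := by
      obtain ⟨j, hj⟩ := Nat.exists_eq_add_of_le hp.two_le
      rw [hj, pow_add, pow_two, hnn, zero_mul]
    rw [this, add_zero]
  have := (pow_gcd_eq_one (a := γ) (m := m) (n := p)).mpr ⟨hγm, hγp⟩
  rw [Nat.Coprime.gcd_eq_one hm, pow_one] at this
  exact this

end Irr

end GT

end Cfsg.Agent.Lib.Lead
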