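import Mathlib
import Cfsg.Agent.Lib.Lead.GT2
import Cfsg.Agent.Lib.Lead.ZJ5
import Cfsg.Agent.Lib.Helper3.PComp7

set_option autoImplicit false

namespace Cfsg.Agent.Lib.Lead

namespace GT

open scoped commutatorElement

section IrrCase

variable {N : Type*} [Group N] [Finite N] {p : ℕ} [hpf : Fact p.Prime]

/-- a minimal normal `p`-subgroup is elementary abelian -/
theorem minNormal_elemAbelian (V : Subgroup N) [hVn : V.Normal] (hVp : IsPGroup p V) (hV1 : V ≠ ⊥)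
    (hVmin : ∀ U : Subgroup N, U.Normal → U ≤ V → U = ⊥ ∨ U = V) :
    (∀ a ∈ V, ∀ b ∈ V, a * b = b * a) ∧ ∀ v ∈ V, v ^ p = 1 := by
  have hcomm : ∀ a ∈ V, ∀ b ∈ V, a * b = b * a := by
    have hlt := ZJ.commutator_lt_of_isPGroup hVp hV1
    rcases hVmin ⁅V, V⁆ (Subgroup.commutator_normal V V) hlt.le with h | h
    · intro a ha b hb
      have : ⁅a, b⁆ ∈ ⁅V, V⁆ := Subgroup.commutator_mem_commutator ha hb
      rw [h, Subgroup.mem_bot, commutatorElement_eq_one_iff_mul_comm] at this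
      exact this
    · exact absurd h hlt.ne
  refine ⟨hcomm, ?_⟩
  let K : Subgroup N :=
    { carrier := {x | x ∈ V ∧ x ^ p = 1}
      one_mem' := ⟨V.one_mem, one_pow p⟩
      mul_mem' := by
        rintro a b ⟨ha, hap⟩ ⟨hb, hbp⟩
        refine ⟨V.mul_mem ha hb, ?_⟩
        have : Commute a b := hcomm a ha b hb
        rw [this.mul_pow, hap, hbp, one_mul]
      inv_mem' := by
        rintro a ⟨ha, hap⟩
        exact ⟨V.inv_mem ha, by rw [inv_pow, hap, inv_one]⟩ }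
  have hKn : K.Normal := by
    refine ⟨fun x hx g => ?_⟩
    obtain ⟨hxM, hxp⟩ := hx
    exact ⟨hVn.conj_mem x hxM g, by rw [conj_pow, hxp]; group⟩
  have hKV : K ≤ V := fun x hx => hx.1
  have hdvd : p ∣ Nat.card V := by
    obtain ⟨k, hk⟩ := IsPGroup.iff_card.mp hVp
    have hk0 : k ≠ 0 := by
      rintro rfl
      rw [pow_zero] at hk
      exact hV1 (Subgroup.card_eq_one.mp hk)
    rw [hk]; exact dvd_pow_self p hk0
  obtain ⟨z, hz⟩ := exists_prime_orderOf_dvd_card' p hdvd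
  rcases hVmin K hKn hKV with h | h
  · exfalso
    have hzK : (z : N) ∈ K := by
      refine ⟨z.2, ?_⟩
      have : z ^ p = 1 := by rw [← hz]; exact pow_orderOf_eq_one z
      exact_mod_cast congrArg Subtype.val this
    rw [h, Subgroup.mem_bot] at hzK
    have : z = 1 := Subtype.ext hzK
    rw [this, orderOf_one] at hz
    exact hpf.out.one_lt.ne hz
  · intro v hv
    rw [← h] at hv
    exact hv.2

/-- the irreducible case: a quadratic element centralizes a minimal normal `p`-subgroup -/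
theorem irr_case (hp2 : p ≠ 2) (H K V : Subgroup N) [hHn : H.Normal] [hKn : K.Normal]
    [hVn : V.Normal]
    (hH : IsPGroup p H) (hKK : ⁅K, K⁆ ≤ H) (hKH : ∀ y ∈ K, ∃ m : ℕ, m.Coprime p ∧ y ^ m ∈ H)
    (hNK : IsPGroup p (N ⧸ K)) (hVp : IsPGroup p V)
    (hV1 : V ≠ ⊥) (hVmin : ∀ U : Subgroup N, U.Normal → U ≤ V → U = ⊥ ∨ U = V)
    (g : N) (hg : ∀ v ∈ V, ⁅⁅v, g⁆, g⁆ = 1) : g ∈ Subgroup.centralizer (V : Set N) := by
  obtain ⟨hVab, hVexp⟩ := minNormal_elemAbelian V hVp hV1 hVmin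
  letI : CommGroup V :=
    { (inferInstance : Group V) with mul_comm := fun a b => Subtype.ext (hVab a a.2 b b.2) }
  haveI : Nontrivial V := (Subgroup.nontrivial_iff_ne_bot V).mpr hV1
  let ρ : N →* MulAut V := MulAut.conjNormal
  have hρ : ∀ (x : N) (v : V), ((ρ x v : V) : N) = x * v * x⁻¹ := fun x v =>
    MulAut.conjNormal_apply x v
  obtain ⟨T⟩ : Nonempty (Sylow p N) := inferInstance
  set Γ : Subgroup (MulAut V) := ρ.range with hΓ
  set K' : Subgroup (MulAut V) := K.map ρ with hK'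
  set T' : Subgroup (MulAut V) := (T : Subgroup N).map ρ with hT'
  have hirr : Irr Γ := by
    intro U hU
    have hUn : (U.map V.subtype).Normal := by
      refine ⟨fun x hx y => ?_⟩
      obtain ⟨u, hu, rfl⟩ := hx
      refine ⟨ρ y u, hU (ρ y) ⟨y, rfl⟩ u hu, ?_⟩
      exact hρ y u
    have hUV : U.map V.subtype ≤ V := by
      rintro x ⟨u, -, rfl⟩
      exact u.2
    rcases hVmin _ hUn hUV with h | h
    · left
      exact (Subgroup.map_eq_bot_iff_of_injective U V.subtype_injective).mp h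
    · right
      rw [eq_top_iff]
      intro v _
      have : (v : N) ∈ U.map V.subtype := by rw [h]; exact v.2
      obtain ⟨u, hu, huv⟩ := this
      have : u = v := Subtype.ext huv
      rw [← this]; exact hu
  have hVp' : IsPGroup p V := hVp
  -- `H` acts trivially
  have hρH : ∀ h ∈ H, ρ h = 1 := by
    have hbot : H.map ρ = ⊥ := by
      apply eq_bot_of_normal_pgroup hVp' Γ (H.map ρ) hirr (hH.map ρ)
      rintro γ ⟨x, rfl⟩ π ⟨h, hh, rfl⟩
      refine ⟨x * h * x⁻¹, hHn.conj_mem h hh x, ?_⟩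
      rw [map_mul, map_mul, map_inv]
    intro h hh
    have : ρ h ∈ H.map ρ := ⟨h, hh, rfl⟩
    rw [hbot, Subgroup.mem_bot] at this
    exact this
  have hfac : ∀ γ ∈ Γ, ∃ k ∈ K', ∃ t ∈ T', γ = k * t := by
    rintro γ ⟨x, rfl⟩
    have hsup := Cfsg.Agent.Lib.Helper3.sup_sylow_eq_top_of_isPGroup_quotient K hNK T
    have hx : x ∈ ((K ⊔ (T : Subgroup N) : Subgroup N) : Set N) := by
      rw [hsup]; exact Set.mem_univ x
    rw [Subgroup.normal_mul] at hx
    obtain ⟨k, hk, t, ht, rfl⟩ := Set.mem_mul.mp hx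
    exact ⟨ρ k, ⟨k, hk, rfl⟩, ρ t, ⟨t, ht, rfl⟩, map_mul ρ k t⟩
  have hKn' : ∀ γ ∈ Γ, ∀ k ∈ K', γ * k * γ⁻¹ ∈ K' := by
    rintro γ ⟨x, rfl⟩ k ⟨y, hy, rfl⟩
    refine ⟨x * y * x⁻¹, hKn.conj_mem y hy x, ?_⟩
    rw [map_mul, map_mul, map_inv]
  have hKab : ∀ a ∈ K', ∀ b ∈ K', a * b = b * a := by
    rintro a ⟨y₁, hy₁, rfl⟩ b ⟨y₂, hy₂, rfl⟩
    have h1 : ⁅y₁, y₂⁆ ∈ H := hKK (Subgroup.commutator_mem_commutator hy₁ hy₂)
    have h2 := hρH _ h1
    have e : y₁ * y₂ = ⁅y₁, y₂⁆ * (y₂ * y₁) := by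
      rw [commutatorElement_def]; group
    rw [← map_mul, ← map_mul, e, map_mul, h2, one_mul]
  have hKm : ∀ k ∈ K', ∃ m : ℕ, m.Coprime p ∧ k ^ m = 1 := by
    rintro k ⟨y, hy, rfl⟩
    obtain ⟨m, hm, hym⟩ := hKH y hy
    exact ⟨m, hm, by rw [← map_pow, hρH _ hym]⟩
  have hTp : IsPGroup p T' := T.isPGroup'.map ρ
  have hquad : ∀ v : V, ρ g (ρ g v) * v = ρ g v * ρ g v := by
    intro v
    apply Subtype.ext
    rw [Subgroup.coe_mul, Subgroup.coe_mul, hρ, hρ]
    have hc := hg v v.2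
    rw [commutatorElement_eq_one_iff_mul_comm] at hc
    set a : N := g * (v : N) * g⁻¹ with ha
    have haV : a ∈ V := hVn.conj_mem v v.2 g
    have hav : a * (v : N) = (v : N) * a := hVab a haV v v.2
    have hc' : (v : N) * a⁻¹ * g = g * ((v : N) * a⁻¹) := by
      have e : ⁅(v : N), g⁆ = (v : N) * a⁻¹ := by
        rw [commutatorElement_def, ha]; group
      rw [e] at hc
      exact hc
    have h3 : g * a * g⁻¹ = a * (v : N)⁻¹ * a := by
      have h4 : g * ((v : N) * a⁻¹) * g⁻¹ = (v : N) * a⁻¹ := by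
        rw [← hc', mul_inv_cancel_right]
      have h5 : g * ((v : N) * a⁻¹) * g⁻¹ = a * (g * a * g⁻¹)⁻¹ := by
        rw [ha]; group
      rw [h5] at h4
      have h6 : g * a * g⁻¹ = ((v : N) * a⁻¹)⁻¹ * a := by
        rw [← h4]; group
      rw [h6]; group
    rw [h3]
    calc a * (v : N)⁻¹ * a * v = a * (v : N)⁻¹ * (a * v) := by group
      _ = a * (v : N)⁻¹ * (v * a) := by rw [hav]
      _ = a * a := by group
  have hone := quadratic_trivial (p := p) hp2 (fun v => Subtype.ext (by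
      rw [Subgroup.coe_pow]; exact hVexp v v.2)) Γ K' T'
    (by rintro t ⟨x, -, rfl⟩; exact ⟨x, rfl⟩) hfac hKn' hKab hKm hTp hirr (ρ g) ⟨g, rfl⟩ hquad
  rw [Subgroup.mem_centralizer_iff]
  intro v hv
  have h1 := hρ g ⟨v, hv⟩
  rw [hone] at h1
  have h2 : v = g * v * g⁻¹ := h1
  calc v * g = (g * v * g⁻¹) * g := by rw [← h2]
    _ = g * v := by group

end IrrCase

end GT

end Cfsg.Agent.Lib.Lead
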