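import Mathlib
import Cfsg.Agent.Lib.Lead.GT3
import Cfsg.Agent.Lib.Lead.ZJ8
import Cfsg.Agent.Lib.Lead.HallTools
import Cfsg.Agent.Lib.Helper2.CoreFree
import Cfsg.Prelude.Def_LocalEven

set_option autoImplicit false

namespace Cfsg.Agent.Lib.Lead

namespace GT

open scoped commutatorElement

universe u

/-- the shape of the groups occurring in Thompson's reduction: a normal `p`-subgroup `H`, a normal
subgroup `K` with `K/H` an abelian `p'`-group (if `H ≤ K`), and `N/K` a `p`-group -/
structure Shape (p : ℕ) {N : Type*} [Group N] (H K : Subgroup N) : Prop where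
  nH : H.Normal
  nK : K.Normal
  pH : IsPGroup p H
  comm : ⁅K, K⁆ ≤ H
  cop : ∀ y ∈ K, ∃ m : ℕ, m.Coprime p ∧ y ^ m ∈ H
  quot : ∀ x : N, ∃ j : ℕ, x ^ (p ^ j) ∈ K

section ShapeBasic

variable {p : ℕ} {N : Type*} [Group N] {H K : Subgroup N}

theorem Shape.comap (hs : Shape p H K) {M : Type*} [Group M] (f : M →* N)
    (hf : Function.Injective f) : Shape p (H.comap f) (K.comap f) := by
  haveI := hs.nH
  haveI := hs.nK
  refine ⟨inferInstance, inferInstance, ?_, ?_, ?_, ?_⟩
  · exact hs.pH.comap_of_injective f hf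
  · rw [Subgroup.commutator_le]
    intro a ha b hb
    rw [Subgroup.mem_comap, map_commutatorElement]
    exact hs.comm (Subgroup.commutator_mem_commutator ha hb)
  · intro y hy
    obtain ⟨m, hm, hym⟩ := hs.cop (f y) hy
    exact ⟨m, hm, by rw [Subgroup.mem_comap, map_pow]; exact hym⟩
  · intro x
    obtain ⟨j, hj⟩ := hs.quot (f x)
    exact ⟨j, by rw [Subgroup.mem_comap, map_pow]; exact hj⟩

theorem Shape.subgroupOf (hs : Shape p H K) (M : Subgroup N) :
    Shape p (H.subgroupOf M) (K.subgroupOf M) :=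
  hs.comap M.subtype M.subtype_injective

theorem Shape.map (hs : Shape p H K) {M : Type*} [Group M] (f : N →* M)
    (hf : Function.Surjective f) : Shape p (H.map f) (K.map f) := by
  haveI := hs.nH
  haveI := hs.nK
  refine ⟨Subgroup.Normal.map inferInstance f hf, Subgroup.Normal.map inferInstance f hf, ?_, ?_,
    ?_, ?_⟩
  · exact hs.pH.map f
  · rw [← Subgroup.map_commutator]
    exact Subgroup.map_mono hs.comm
  · rintro y ⟨x, hx, rfl⟩
    obtain ⟨m, hm, hym⟩ := hs.cop x hx
    exact ⟨m, hm, ⟨x ^ m, hym, map_pow f x m⟩⟩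
  · intro y
    obtain ⟨x, rfl⟩ := hf y
    obtain ⟨j, hj⟩ := hs.quot x
    exact ⟨j, ⟨x ^ p ^ j, hj, map_pow f x _⟩⟩

theorem Shape.isPGroup_quot (hs : Shape p H K) [hK : K.Normal] : IsPGroup p (N ⧸ K) := by
  intro x
  induction x using QuotientGroup.induction_on with
  | H x =>
    obtain ⟨j, hj⟩ := hs.quot x
    exact ⟨j, by rw [← QuotientGroup.mk_pow]; exact (QuotientGroup.eq_one_iff _).mpr hj⟩

end ShapeBasic

section PS

variable {p : ℕ} [hpf : Fact p.Prime]

/-- elementwise form of quadratic action -/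
theorem quad_elementwise {N : Type*} [Group N] (B : Subgroup N) (g : N)
    (h : ⁅⁅B, Subgroup.zpowers g⁆, Subgroup.zpowers g⁆ = ⊥) : ∀ b ∈ B, ⁅⁅b, g⁆, g⁆ = 1 := by
  intro b hb
  have hg : g ∈ Subgroup.zpowers g := Subgroup.mem_zpowers g
  have h1 : ⁅⁅b, g⁆, g⁆ ∈ ⁅⁅B, Subgroup.zpowers g⁆, Subgroup.zpowers g⁆ :=
    Subgroup.commutator_mem_commutator (Subgroup.commutator_mem_commutator hb hg) hg
  rw [h, Subgroup.mem_bot] at h1
  exact h1

/-- the main induction: a quadratic element lies in a normal subgroup all of whose `p'`-elements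
centralize `B` -/
theorem ps_main (hp2 : p ≠ 2) : ∀ (k : ℕ) (N : Type u) [Group N] [Finite N] (H K B : Subgroup N),
    Shape p H K → B.Normal → IsPGroup p B → Nat.card B = k → ∀ g : N,
    (∀ b ∈ B, ⁅⁅b, g⁆, g⁆ = 1) →
    ∃ M : Subgroup N, M.Normal ∧ g ∈ M ∧
      ∀ w ∈ M, (orderOf w).Coprime p → w ∈ Subgroup.centralizer (B : Set N) := by
  intro k
  induction k using Nat.strong_induction_on with
  | _ k ih =>
  intro N _ _ H K B hs hBn hBp hk g hg
  haveI := hBn
  haveI := hs.nH
  haveI := hs.nK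
  by_cases hB1 : B = ⊥
  · refine ⟨⊤, inferInstance, Subgroup.mem_top g, ?_⟩
    intro w _ _
    rw [hB1, Subgroup.mem_centralizer_iff]
    intro b hb
    rw [SetLike.mem_coe, Subgroup.mem_bot] at hb
    rw [hb, one_mul, mul_one]
  obtain ⟨V, hVB, hVn, hV1, hVmin⟩ := Cfsg.Agent.Lib.Helper2.exists_minNormal_le B hB1
  haveI := hVn
  have hVp : IsPGroup p V := hBp.to_le hVB
  have hgV : g ∈ Subgroup.centralizer (V : Set N) :=
    irr_case hp2 H K V hs.pH hs.comm hs.cop hs.isPGroup_quot hVp hV1 hVmin g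
      (fun v hv => hg v (hVB hv))
  -- pass to the quotient
  set f := QuotientGroup.mk' V with hf
  have hfs : Function.Surjective f := QuotientGroup.mk'_surjective V
  have hcard : Nat.card (B.map f) < k := by
    have h1 := card_map_mk_of_le V B hVB
    rw [← hk, ← h1]
    have h2 : 1 < Nat.card V := by
      rcases Nat.lt_or_ge 1 (Nat.card V) with h | h
      · exact h
      · exfalso
        have hpos : 0 < Nat.card V := Nat.card_pos
        have : Nat.card V = 1 := by omega
        exact hV1 (Subgroup.card_eq_one.mp this)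
    have h3 : 0 < Nat.card (B.map f) := Nat.card_pos
    nlinarith
  obtain ⟨M', hM'n, hgM', hM'c⟩ := ih _ hcard (N ⧸ V) (H.map f) (K.map f) (B.map f)
    (hs.map f hfs) (Subgroup.Normal.map hBn f hfs) (hBp.map f) rfl (f g) (by
      rintro b ⟨b₀, hb₀, rfl⟩
      rw [← map_commutatorElement, ← map_commutatorElement, hg b₀ hb₀, map_one])
  haveI := hM'n
  refine ⟨M'.comap f ⊓ Subgroup.centralizer (V : Set N), inferInstance,
    Subgroup.mem_inf.mpr ⟨hgM', hgV⟩, ?_⟩
  intro w hw hwo
  obtain ⟨hw1, hw2⟩ := Subgroup.mem_inf.mp hw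
  have hfw : f w ∈ Subgroup.centralizer ((B.map f : Subgroup (N ⧸ V)) : Set (N ⧸ V)) := by
    apply hM'c (f w) hw1
    exact Nat.Coprime.coprime_dvd_left (orderOf_map_dvd f w) hwo
  rw [Subgroup.mem_centralizer_iff]
  intro b hb
  set c : N := w * b * w⁻¹ * b⁻¹ with hc
  have hcV : c ∈ V := by
    have h1 := (Subgroup.mem_centralizer_iff.mp hfw) (f b) ⟨b, hb, rfl⟩
    have h2 : f c = 1 := by
      rw [hc, map_mul, map_mul, map_mul, map_inv, map_inv, ← h1]
      group
    rw [← QuotientGroup.eq_one_iff]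
    exact h2
  have hwc : c * w = w * c := (Subgroup.mem_centralizer_iff.mp hw2) c hcV
  have hpow : ∀ j : ℕ, w ^ j * b * (w ^ j)⁻¹ = c ^ j * b := by
    intro j
    induction j with
    | zero => simp
    | succ j ihj =>
      have hwcj : w * c ^ j = c ^ j * w := by
        have : Commute w c := hwc.symm
        exact (this.pow_right j)
      calc w ^ (j + 1) * b * (w ^ (j + 1))⁻¹ = w * (w ^ j * b * (w ^ j)⁻¹) * w⁻¹ := by
            rw [pow_succ']; group
        _ = w * (c ^ j * b) * w⁻¹ := by rw [ihj]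
        _ = (w * c ^ j) * w⁻¹ * (w * b * w⁻¹) := by group
        _ = (c ^ j * w) * w⁻¹ * (w * b * w⁻¹) := by rw [hwcj]
        _ = c ^ j * (w * b * w⁻¹ * b⁻¹) * b := by group
        _ = c ^ j * c * b := by rw [← hc]
        _ = c ^ (j + 1) * b := by rw [pow_succ]
  have h1 := hpow (orderOf w)
  rw [pow_orderOf_eq_one, one_mul, inv_one, mul_one] at h1
  have hc1 : c ^ orderOf w = 1 := by
    have : c ^ orderOf w * b = 1 * b := by rw [one_mul]; exact h1.symm
    exact mul_right_cancel this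
  have hcone : c = 1 := by
    obtain ⟨j, hj⟩ := (hVp ⟨c, hcV⟩)
    have hj' : c ^ p ^ j = 1 := by
      have := congrArg Subtype.val hj
      simpa using this
    have h2 := (pow_gcd_eq_one (a := c) (m := orderOf w) (n := p ^ j)).mpr ⟨hc1, hj'⟩
    rw [Nat.Coprime.gcd_eq_one (Nat.Coprime.pow_right j hwo), pow_one] at h2
    exact h2
  have : w * b * w⁻¹ * b⁻¹ = 1 := by rw [← hc]; exact hcone
  calc b * w = (w * b * w⁻¹ * b⁻¹) * (b * w) := by rw [this, one_mul]
    _ = w * b := by group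

/-- from `ps_main` to membership in `O_p` of the quotient -/
theorem mem_pCore_quot_of {L : Type*} [Group L] [Finite L] (C M : Subgroup L) [hC : C.Normal]
    [hM : M.Normal] (h : ∀ w ∈ M, (orderOf w).Coprime p → w ∈ C) (g : L) (hg : g ∈ M) :
    (QuotientGroup.mk' C g) ∈ Cfsg.pCore p (L ⧸ C) := by
  have hn : (M.map (QuotientGroup.mk' C)).Normal :=
    Subgroup.Normal.map hM _ (QuotientGroup.mk'_surjective C)
  have hpg : IsPGroup p (M.map (QuotientGroup.mk' C)) := by
    rintro ⟨x, w, hw, rfl⟩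
    have ho : orderOf w ≠ 0 := (orderOf_pos w).ne'
    obtain ⟨e, n', hn', hon⟩ := Nat.exists_eq_pow_mul_and_not_dvd ho p hpf.out.ne_one
    refine ⟨e, ?_⟩
    apply Subtype.ext
    rw [Subgroup.coe_pow, Subgroup.coe_one]
    show (QuotientGroup.mk' C w) ^ p ^ e = 1
    rw [← map_pow]
    apply (QuotientGroup.eq_one_iff _).mpr
    apply h _ (M.pow_mem hw _)
    have h1 : orderOf (w ^ p ^ e) ∣ n' := by
      apply orderOf_dvd_of_pow_eq_one
      rw [← pow_mul, ← hon, pow_orderOf_eq_one]
    have h2 : n'.Coprime p := (Nat.Prime.coprime_iff_not_dvd hpf.out).mpr hn' |>.symm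
    exact Nat.Coprime.coprime_dvd_left h1 h2
  exact Cfsg.Agent.Lib.Helper9.le_pCore hn hpg ⟨g, hg, rfl⟩

theorem quadHyp_of_shape (hp2 : p ≠ 2) {N : Type u} [Group N] [Finite N] (H K : Subgroup N)
    (hs : Shape p H K) : ZJ.QuadHyp p N := by
  intro B hBn hB A _ hA hBA a ha
  have hq := quad_elementwise B a (ZJ.quadratic_of_normalizes B A hA hBA a ha)
  obtain ⟨M, hMn, haM, hMc⟩ := ps_main hp2 _ N H K B hs hBn hB rfl a hq
  haveI := hMn
  unfold ZJ.stabPre
  rw [Subgroup.mem_comap]
  exact mem_pCore_quot_of (Subgroup.centralizer (B : Set N)) M hMc a haM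

theorem isNormalizerPStable_of_shape (hp2 : p ≠ 2) {N : Type u} [Group N] [Finite N]
    (H K : Subgroup N) (hs : Shape p H K) : Cfsg.IsNormalizerPStable p N := by
  intro P hP g hg hquad
  set L := Subgroup.normalizer (P : Set N) with hL
  have hq := quad_elementwise P g hquad
  have hBn : (P.subgroupOf L).Normal := Subgroup.normal_in_normalizer
  obtain ⟨M, hMn, hgM, hMc⟩ := ps_main hp2 _ L (H.subgroupOf L) (K.subgroupOf L)
    (P.subgroupOf L) (hs.subgroupOf L) hBn (hP.comap_of_injective L.subtype L.subtype_injective)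
    rfl ⟨g, hg⟩ (by
      intro b hb
      apply Subtype.ext
      have := hq b.1 hb
      simp only [commutatorElement_def] at this
      simp only [commutatorElement_def, Subgroup.coe_mul, Subgroup.coe_inv, Subgroup.coe_one]
      exact this)
  haveI := hMn
  refine mem_pCore_quot_of ((Subgroup.centralizer (P : Set N)).subgroupOf L) M ?_ ⟨g, hg⟩ hgM
  intro w hw hwo
  have h1 := hMc w hw hwo
  rw [Subgroup.mem_subgroupOf, Subgroup.mem_centralizer_iff]
  intro b hb
  have hbL : b ∈ L := Subgroup.le_normalizer hb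
  have h2 := (Subgroup.mem_centralizer_iff.mp h1) ⟨b, hbL⟩ hb
  exact congrArg Subtype.val h2

end PS

end GT

end Cfsg.Agent.Lib.Lead
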