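import Mathlib
import Cfsg.Agent.Lib.Lead.GT10
import Cfsg.Agent.Lib.Lead.GT4
import Cfsg.Agent.Lib.Lead.CoprimeSylow2

set_option autoImplicit false

namespace Cfsg.Agent.Lib.Lead

namespace GT

open scoped Pointwise commutatorElement

universe u

section Reduction

variable {p : ℕ} [hpf : Fact p.Prime]
  {W : ∀ (X : Type u) [Group X], Subgroup X → Subgroup X}
  {C : ∀ (X : Type u) [Group X], Prop} {φ : Prop}

/-- the Sylow subgroup is a maximal subgroup -/
theorem MinCE.isCoatom (hW : IsSecFunctor p W)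
    (hsub : ∀ (X : Type u) [Group X] [Finite X], C X → ∀ M : Subgroup X, C M)
    {X : Type u} [Group X] [Finite X] (hmc : MinCE p W C φ X)
    (T : Sylow p X) (D : Subgroup X) (hAdm : Adm φ T D)
    (hN : PNilp p (Subgroup.normalizer (W X D : Set X)))
    (hcent : Subgroup.centralizer (Cfsg.pCore p X : Set X) ≤ Cfsg.pCore p X) :
    IsCoatom (T : Subgroup X) := by
  set H := Cfsg.pCore p X with hHdef
  haveI hHn : H.Normal := Cfsg.Agent.Lib.Helper9.pCore_normal' p
  have hHp : IsPGroup p H := Cfsg.Agent.Lib.Helper9.pCore_isPGroup' p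
  have hHT : H ≤ (T : Subgroup X) := Cfsg.Agent.Lib.Helper9.pCore_le_sylow T
  constructor
  · intro htop
    apply hmc.not_nilp
    apply PNilp.of_isPGroup
    have := T.isPGroup'
    rw [htop] at this
    exact this.of_equiv Subgroup.topEquiv
  · intro M hTM
    by_contra hM
    have hMp := hmc.pnilp_of_ge_sylow hW hsub T D hAdm hN M hTM.le hM
    obtain ⟨Km, hKmn, hKmc, j, hj⟩ := id hMp
    have hKbot : Km = ⊥ := by
      rw [eq_bot_iff]
      intro g hg
      rw [Subgroup.mem_bot]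
      have hgo : (orderOf g).Coprime p := by
        have h2 : orderOf g ∣ Nat.card Km := by
          have := orderOf_dvd_natCard (⟨g, hg⟩ : Km)
          rwa [Subgroup.orderOf_mk] at this
        exact Nat.Coprime.coprime_dvd_left h2 hKmc
      have hHMn : (H.subgroupOf M).Normal := inferInstance
      have h1 := hMp.centralizes (H.subgroupOf M)
        (hHp.comap_of_injective M.subtype M.subtype_injective) g
        (by rw [Subgroup.normalizer_eq_top_iff.mpr hHMn]; exact Subgroup.mem_top _) hgo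
      have h2 : (g : X) ∈ Subgroup.centralizer (H : Set X) := by
        rw [Subgroup.mem_centralizer_iff] at h1 ⊢
        intro h hh
        have := h1 ⟨h, hTM.le (hHT hh)⟩ hh
        exact congrArg Subtype.val this
      have h3 : (g : X) ∈ H := hcent h2
      obtain ⟨b, hb⟩ := hHp ⟨(g : X), h3⟩
      have hb' : (g : X) ^ p ^ b = 1 := by
        have := congrArg Subtype.val hb
        simpa using this
      have h4 : orderOf (g : X) ∣ p ^ b := orderOf_dvd_of_pow_eq_one hb'
      rw [Subgroup.orderOf_coe] at h4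
      have h5 : orderOf g = 1 :=
        Nat.eq_one_of_dvd_coprimes (Nat.Coprime.pow_right b hgo) (dvd_refl _) h4
      exact orderOf_eq_one_iff.mp h5
    have hMpg : IsPGroup p M := by
      apply IsPGroup.of_card (n := j)
      rw [← hj, hKbot, Subgroup.index_bot]
    have hcard : Nat.card M ≤ Nat.card (T : Subgroup X) := by
      rw [sylow_card_eq_pp]; exact card_le_pp hMpg
    exact hTM.ne (Subgroup.eq_of_le_of_card_ge hTM.le hcard)

/-- a normal `p'`-subgroup of a group in which a Sylow `p`-subgroup is maximal is abelian -/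
theorem abelian_of_coatom_sylow {Y : Type u} [Group Y] [Finite Y] (Kb : Subgroup Y) [hKn : Kb.Normal]
    (hKc : (Nat.card Kb).Coprime p) (T : Sylow p Y) (hT : IsCoatom (T : Subgroup Y)) :
    ∀ a ∈ Kb, ∀ b ∈ Kb, a * b = b * a := by
  by_cases hK1 : Kb = ⊥
  · intro a ha b hb
    rw [hK1, Subgroup.mem_bot] at ha hb
    rw [ha, hb]
  have hcardne : Nat.card Kb ≠ 1 := fun h => hK1 (Subgroup.card_eq_one.mp h)
  obtain ⟨q, hq, hqd⟩ := Nat.exists_prime_and_dvd hcardne
  haveI : Fact q.Prime := ⟨hq⟩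
  obtain ⟨a, r, hr, hKar⟩ := Nat.exists_eq_pow_mul_and_not_dvd (Nat.card_pos (α := Kb)).ne' q
    hq.ne_one
  have ha0 : a ≠ 0 := by
    rintro rfl
    rw [pow_zero, one_mul] at hKar
    exact hr (hKar ▸ hqd)
  obtain ⟨P', hP'⟩ := Sylow.exists_subgroup_card_pow_prime q (n := a) (G := Kb)
    (by rw [hKar]; exact dvd_mul_right _ _)
  set P := P'.map Kb.subtype with hP
  have hPK : P ≤ Kb := by
    rintro x ⟨y, -, rfl⟩; exact y.2
  have hPcard : Nat.card P = q ^ a := by
    rw [hP, Subgroup.card_map_of_injective Kb.subtype_injective]; exact hP'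
  have hTK : (T : Subgroup Y) ≤ Subgroup.normalizer (Kb : Set Y) := by
    rw [Subgroup.normalizer_eq_top_iff.mpr hKn]; exact le_top
  obtain ⟨n, hn⟩ := IsPGroup.iff_card.mp T.isPGroup'
  have hcop : (Nat.card (T : Subgroup Y)).Coprime (Nat.card Kb) := by
    rw [hn]; exact Nat.Coprime.pow_left n hKc.symm
  haveI : Group.IsNilpotent (T : Subgroup Y) := T.isPGroup'.isNilpotent
  obtain ⟨x, hxK, hxT⟩ := coprime_invariant_sylow_exists_aux (T : Subgroup Y) Kb hTK hcop
    (Or.inl inferInstance) q a r P hPK hPcard hKar hr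
  set Q := (MulAut.conj x • P : Subgroup Y) with hQ
  have hQcard : Nat.card Q = q ^ a := by rw [hQ, card_conj_smul, hPcard]
  have hQK : Q ≤ Kb := by
    intro y hy
    rw [hQ, Cfsg.Agent.Lib.Helper3.mem_conj_smul_iff] at hy
    have h1 := hKn.conj_mem _ (hPK hy) x
    have e : x * (x⁻¹ * y * x) * x⁻¹ = y := by group
    rwa [e] at h1
  have hdisjK : (T : Subgroup Y) ⊓ Kb = ⊥ := (Subgroup.disjoint_of_coprime_natCard hcop).eq_bot
  have hdisjQ : (T : Subgroup Y) ⊓ Q = ⊥ := by
    rw [eq_bot_iff, ← hdisjK]; exact inf_le_inf_left _ hQK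
  have hQne : Q ≠ ⊥ := by
    intro h
    rw [h, Subgroup.card_bot] at hQcard
    have : 1 < q ^ a := Nat.one_lt_pow ha0 hq.one_lt
    omega
  -- `T ⊔ Q = ⊤`
  have hTQ : (T : Subgroup Y) ⊔ Q = ⊤ := by
    apply hT.2
    apply lt_of_le_of_ne le_sup_left
    intro h
    have hQT : Q ≤ (T : Subgroup Y) := by rw [h]; exact le_sup_right
    apply hQne
    rw [eq_bot_iff, ← hdisjQ]
    exact le_inf hQT le_rfl
  have hTKtop : (T : Subgroup Y) ⊔ Kb = ⊤ := by
    rw [eq_top_iff, ← hTQ]; exact sup_le_sup_left hQK _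
  have hc1 := card_sup_of_disjoint (T : Subgroup Y) Q hxT hdisjQ
  have hc2 := card_sup_of_disjoint (T : Subgroup Y) Kb hTK hdisjK
  rw [hTQ] at hc1
  rw [hTKtop] at hc2
  have hKQ : Nat.card Kb = Nat.card Q := by
    have : Nat.card (T : Subgroup Y) * Nat.card Kb = Nat.card (T : Subgroup Y) * Nat.card Q := by
      rw [← hc1, ← hc2]
    exact Nat.eq_of_mul_eq_mul_left Nat.card_pos this
  have hKq : IsPGroup q Kb := by
    apply IsPGroup.of_card (n := a); rw [hKQ, hQcard]
  -- the derived subgroup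
  have hlt := ZJ.commutator_lt_of_isPGroup hKq hK1
  haveI hdn : (⁅Kb, Kb⁆ : Subgroup Y).Normal := Subgroup.commutator_normal Kb Kb
  have hTK' : (T : Subgroup Y) ≤ Subgroup.normalizer ((⁅Kb, Kb⁆ : Subgroup Y) : Set Y) := by
    rw [Subgroup.normalizer_eq_top_iff.mpr hdn]; exact le_top
  have hdisjK' : (T : Subgroup Y) ⊓ ⁅Kb, Kb⁆ = ⊥ := by
    rw [eq_bot_iff, ← hdisjK]; exact inf_le_inf_left _ hlt.le
  have hc3 := card_sup_of_disjoint (T : Subgroup Y) ⁅Kb, Kb⁆ hTK' hdisjK'
  have hne_top : (T : Subgroup Y) ⊔ ⁅Kb, Kb⁆ ≠ ⊤ := by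
    intro h
    rw [h] at hc3
    have h4 := ZJ.card_lt_of_lt hlt
    have h5 : 0 < Nat.card (T : Subgroup Y) := Nat.card_pos
    rw [hc2] at hc3
    have := Nat.eq_of_mul_eq_mul_left h5 hc3
    omega
  have hder : (⁅Kb, Kb⁆ : Subgroup Y) ≤ (T : Subgroup Y) := by
    by_contra hcon
    apply hne_top
    apply hT.2
    apply lt_of_le_of_ne le_sup_left
    intro h
    apply hcon
    rw [h]; exact le_sup_right
  have hbot : (⁅Kb, Kb⁆ : Subgroup Y) = ⊥ := by
    rw [eq_bot_iff, ← hdisjK']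
    exact le_inf hder le_rfl
  intro a ha b hb
  have : ⁅a, b⁆ ∈ (⁅Kb, Kb⁆ : Subgroup Y) := Subgroup.commutator_mem_commutator ha hb
  rw [hbot, Subgroup.mem_bot, commutatorElement_eq_one_iff_mul_comm] at this
  exact this

end Reduction

end GT

end Cfsg.Agent.Lib.Lead
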