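import Mathlib
import Cfsg.Agent.Lib.Lead.GT11

set_option autoImplicit false

namespace Cfsg.Agent.Lib.Lead

namespace GT

open scoped Pointwise commutatorElement

universe u

section Reduction

variable {p : ℕ} [hpf : Fact p.Prime]
  {W : ∀ (X : Type u) [Group X], Subgroup X → Subgroup X}
  {C : ∀ (X : Type u) [Group X], Prop} {φ : Prop}

/-- the structure of a minimal counterexample -/
structure MCStruct (p : ℕ) {X : Type*} [Group X] (T : Sylow p X) (D : Subgroup X) : Prop where
  opp : Cfsg.pPrimeCore p X = ⊥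
  cent : Subgroup.centralizer (Cfsg.pCore p X : Set X) ≤ Cfsg.pCore p X
  quotNilp : PNilp p (X ⧸ Cfsg.pCore p X)
  coatom : IsCoatom (T : Subgroup X)
  notle : ¬ D ≤ Cfsg.pCore p X
  shape : ∃ K : Subgroup X, Shape p (Cfsg.pCore p X) K ∧ Cfsg.pCore p X ≤ K

theorem shape_of_coatom {X : Type u} [Group X] [Finite X] (T : Sylow p X)
    (hco : IsCoatom (T : Subgroup X)) (hq : PNilp p (X ⧸ Cfsg.pCore p X)) :
    ∃ K : Subgroup X, Shape p (Cfsg.pCore p X) K ∧ Cfsg.pCore p X ≤ K := by
  set H := Cfsg.pCore p X with hHdef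
  haveI hHn : H.Normal := Cfsg.Agent.Lib.Helper9.pCore_normal' p
  have hHp : IsPGroup p H := Cfsg.Agent.Lib.Helper9.pCore_isPGroup' p
  have hHT : H ≤ (T : Subgroup X) := Cfsg.Agent.Lib.Helper9.pCore_le_sylow T
  set f := QuotientGroup.mk' H with hf
  have hfs : Function.Surjective f := QuotientGroup.mk'_surjective H
  obtain ⟨Kb, hKbn, hKbc, k, hk⟩ := hq
  haveI := hKbn
  have hcoat : IsCoatom ((T.mapSurjective hfs : Sylow p (X ⧸ H)) : Subgroup (X ⧸ H)) := by
    rw [Sylow.coe_mapSurjective]
    constructor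
    · intro htop
      apply hco.1
      have h1 := comap_map_mk H (T : Subgroup X)
      rw [htop, Subgroup.comap_top, sup_eq_left.mpr hHT] at h1
      exact h1.symm
    · intro Mb hMb
      have hTM : (T : Subgroup X) ≤ Mb.comap f := by
        intro t ht
        rw [Subgroup.mem_comap]
        exact hMb.le ⟨t, ht, rfl⟩
      have hne : (T : Subgroup X) ≠ Mb.comap f := by
        intro h
        apply hMb.ne
        rw [h, Subgroup.map_comap_eq_self_of_surjective hfs]
      have h2 := hco.2 _ (lt_of_le_of_ne hTM hne)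
      have h3 := Subgroup.map_comap_eq_self_of_surjective hfs Mb
      rw [h2, Subgroup.map_top_of_surjective f hfs] at h3
      exact h3.symm
  have hab := abelian_of_coatom_sylow Kb hKbc (T.mapSurjective hfs) hcoat
  refine ⟨Kb.comap f, ⟨hHn, inferInstance, hHp, ?_, ?_, ?_⟩, ?_⟩
  · rw [Subgroup.commutator_le]
    intro a ha b hb
    have h1 : f ⁅a, b⁆ = 1 := by
      rw [map_commutatorElement, commutatorElement_eq_one_iff_mul_comm]
      exact hab _ ha _ hb
    exact (QuotientGroup.eq_one_iff _).mp h1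
  · intro y hy
    refine ⟨Nat.card Kb, hKbc, ?_⟩
    apply (QuotientGroup.eq_one_iff _).mp
    have h1 : (⟨f y, hy⟩ : Kb) ^ Nat.card Kb = 1 := pow_card_eq_one'
    have h2 := congrArg Subtype.val h1
    rw [Subgroup.coe_pow, Subgroup.coe_one] at h2
    show f (y ^ Nat.card Kb) = 1
    rw [map_pow]; exact h2
  · intro x
    refine ⟨k, ?_⟩
    rw [Subgroup.mem_comap, map_pow, ← hk]
    exact Kb.pow_index_mem (f x)
  · intro h hh
    rw [Subgroup.mem_comap]
    have : f h = 1 := (QuotientGroup.eq_one_iff h).mpr hh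
    rw [this]; exact Kb.one_mem

theorem MinCE.struct (hW : IsSecFunctor p W)
    (hsub : ∀ (X : Type u) [Group X] [Finite X], C X → ∀ M : Subgroup X, C M)
    (hquot : ∀ (X : Type u) [Group X] [Finite X], C X → ∀ (R : Subgroup X) [R.Normal], C (X ⧸ R))
    {X : Type u} [Group X] [Finite X] (hmc : MinCE p W C φ X)
    (T : Sylow p X) (D : Subgroup X) (hAdm : Adm φ T D)
    (hN : PNilp p (Subgroup.normalizer (W X D : Set X))) : MCStruct p T D := by
  have h1 := hmc.pPrimeCore_eq_bot hW hquot T D hAdm hN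
  have h2 := hmc.quot_pnilp hW hsub hquot T D hAdm hN
  have h3 := centralizer_pCore_le_of h1 h2
  have h4 := hmc.isCoatom hW hsub T D hAdm hN h3
  exact ⟨h1, h3, h2, h4, hmc.not_le_pCore hW T D hAdm hN, shape_of_coatom T h4 h2⟩

/-- Thompson's reduction: it suffices to exclude minimal counterexamples of the special
structure -/
theorem reduction (hW : IsSecFunctor p W)
    (hsub : ∀ (X : Type u) [Group X] [Finite X], C X → ∀ M : Subgroup X, C M)
    (hquot : ∀ (X : Type u) [Group X] [Finite X], C X → ∀ (R : Subgroup X) [R.Normal], C (X ⧸ R))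
    (hloc : ∀ (X : Type u) [Group X] [Finite X], MinCE p W C φ X → ∀ (T : Sylow p X)
      (D : Subgroup X), Adm φ T D → PNilp p (Subgroup.normalizer (W X D : Set X)) →
      MCStruct p T D → False) :
    ∀ (X : Type u) [Group X] [Finite X], Holds p W C φ X := by
  have key : ∀ (n : ℕ) (X : Type u) [Group X] [Finite X], Nat.card X = n → Holds p W C φ X := by
    intro n
    induction n using Nat.strong_induction_on with
    | _ n ih =>
    intro X _ _ hn hC T D hAdm hN
    by_contra hX
    have hmc : MinCE p W C φ X :=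
      ⟨hC, hX, fun Y _ _ hlt => ih (Nat.card Y) (hn ▸ hlt) Y rfl⟩
    exact hloc X hmc T D hAdm hN (hmc.struct hW hsub hquot T D hAdm hN)
  intro X _ _
  exact key _ X rfl

end Reduction

end GT

end Cfsg.Agent.Lib.Lead
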