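import Mathlib
import Cfsg.Agent.Lib.Lead.GT12
import Cfsg.Agent.Lib.Lead.ZJ11

set_option autoImplicit false

namespace Cfsg.Agent.Lib.Lead

namespace GT

open scoped Pointwise commutatorElement

universe u

section

variable {p : ℕ} [hpf : Fact p.Prime]

theorem isSecFunctor_wsub (n : ℕ) (hn : p ∣ n) :
    IsSecFunctor.{u} p (fun (X : Type u) [Group X] (D : Subgroup X) => ZJ.wsub n D) where
  le := fun X _ _ D _ => ZJ.wsub_le n D
  ne_bot := fun X _ _ D hD hD1 => ZJ.wsub_ne_bot n hn D hD hD1
  map := fun X Y _ _ _ _ f D _ hinj => (ZJ.wsub_map_of_injOn n D f hinj).symm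

/-- the Glauberman–Thompson normal `p`-complement theorem for `W(D)`, `D` strongly closed -/
theorem glauberman_thompson (hp2 : p ≠ 2) (n : ℕ) (hn : p ∣ n) {X : Type u} [Group X] [Finite X]
    (T : Sylow p X) (D : Subgroup X) (hD : ZJ.SClosed D (T : Subgroup X))
    (hN : PNilp p (Subgroup.normalizer (ZJ.wsub n D : Set X))) : PNilp p X := by
  have hW := isSecFunctor_wsub.{u} (p := p) n hn
  have key := reduction (p := p) (C := fun _ _ => True) (φ := False) hW
    (fun _ _ _ _ _ => trivial) (fun _ _ _ _ _ _ => trivial) (by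
      intro X _ _ hmc T D hAdm hN hs
      obtain ⟨K, hK, -⟩ := hs.shape
      have hq := quadHyp_of_shape hp2 (Cfsg.pCore p X) K hK
      have hnorm : (ZJ.wsub n D).Normal := ZJ.wsub_normal_gen hp2 n hs.cent T D hAdm.1 hq
      apply hmc.not_nilp
      exact pnilp_of_eq_top (Subgroup.normalizer_eq_top_iff.mpr hnorm) hN)
  exact key X trivial T D ⟨hD, fun h => h.elim⟩ hN

end

end GT

end Cfsg.Agent.Lib.Lead
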