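import Mathlib
import Cfsg.Agent.Lib.Lead.Fpf2
import Cfsg.Agent.Lib.Lead.GT13
import Cfsg.Agent.Lib.Helper2.NilpHall
import Cfsg.Agent.Lib.Helper2.CoreFree
import Cfsg.Agent.Lib.Helper6.PCore
import Cfsg.Agent.S0031
import Cfsg.Agent.S0043

set_option autoImplicit false

namespace Cfsg.Agent.Lib.Lead

namespace Fpf

open scoped commutatorElement

universe u

section

variable {G : Type u} [Group G] [Finite G]

theorem exists_invariant_sylow {r : ℕ} {φ : G →* G} (h : FpfData r φ) (hr : 0 < r) (p : ℕ)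
    [Fact p.Prime] : ∃ P : Sylow p G, ∀ x ∈ (P : Subgroup G), φ x ∈ (P : Subgroup G) := by
  obtain ⟨P, hP⟩ := Cfsg.Agent.S0031.result (h.equiv hr) h.fpf p
  refine ⟨P, fun x hx => ?_⟩
  have : φ x ∈ (P : Subgroup G).map ((h.equiv hr : G ≃* G) : G →* G) := ⟨x, hx, rfl⟩
  rwa [hP] at this

/-- nilpotent groups have normal `p`-complements -/
theorem pnilp_of_isNilpotent {p : ℕ} [Fact p.Prime] (hG : Group.IsNilpotent G) : GT.PNilp p G := by
  apply GT.pnilp_iff.mpr
  apply hasNormalPComplement_iff_plocalCentral.mpr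
  intro D hD g hg hgo
  have hcop : (Nat.card (Subgroup.zpowers g)).Coprime (Nat.card D) := by
    obtain ⟨k, hk⟩ := IsPGroup.iff_card.mp hD
    rw [hk, Nat.card_zpowers]
    exact Nat.Coprime.pow_right k hgo
  have h1 := Cfsg.Agent.Lib.Helper2.NilpHall.commutator_eq_bot_of_nilpotent_coprime
    (⊤ : Subgroup G) D (Subgroup.zpowers g) le_top le_top (Subgroup.zpowers_le.mpr hg) hcop
  rw [Subgroup.commutator_eq_bot_iff_le_centralizer] at h1
  rw [Subgroup.mem_centralizer_iff]
  intro d hd
  exact (Subgroup.mem_centralizer_iff.mp (h1 hd) g (Subgroup.mem_zpowers g)).symm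

theorem sylow_normal_of_isNilpotent (hG : Group.IsNilpotent G) {q : ℕ} [Fact q.Prime]
    (P : Sylow q G) : (P : Subgroup G).Normal :=
  Sylow.normal_of_normalizerCondition normalizerCondition_of_isNilpotent P

/-- the solvable case of Thompson's theorem -/
theorem nilpotent_of_solvable {r : ℕ} (hr : r.Prime) {φ : G →* G} (h : FpfData r φ)
    [hsolv : Group.IsSolvable G]
    (hsub : ∀ M : Subgroup G, M ≠ ⊤ → (∀ m ∈ M, φ m ∈ M) → Group.IsNilpotent M)
    (hquot : ∀ (N : Subgroup G) [N.Normal], N ≠ ⊥ → (∀ n ∈ N, φ n ∈ N) →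
      Group.IsNilpotent (G ⧸ N)) : Group.IsNilpotent G := by
  classical
  by_cases htriv : Subsingleton G
  · infer_instance
  haveI : Nontrivial G := not_subsingleton_iff_nontrivial.mp htriv
  obtain ⟨N₀, hN₀n, hN₀1, hN₀min⟩ := Cfsg.Agent.Lib.Helper2.exists_minNormal (G := G)
  haveI := hN₀n
  obtain ⟨-, p, hp, hN₀p⟩ := Cfsg.Agent.S0043.result N₀ hN₀1 hN₀min
  haveI : Fact p.Prime := ⟨hp⟩
  have hN₀pg : IsPGroup p N₀ := by
    intro x
    refine ⟨1, ?_⟩
    apply Subtype.ext
    rw [pow_one, Subgroup.coe_pow, Subgroup.coe_one]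
    exact hN₀p x x.2
  set H := Cfsg.pCore p G with hHdef
  haveI hHn : H.Normal := Cfsg.Agent.Lib.Helper9.pCore_normal' p
  have hHp : IsPGroup p H := Cfsg.Agent.Lib.Helper9.pCore_isPGroup' p
  have hH1 : H ≠ ⊥ := by
    intro hb
    apply hN₀1
    rw [eq_bot_iff, ← hb]
    exact Cfsg.Agent.Lib.Helper9.le_pCore hN₀n hN₀pg
  have hHφ : ∀ x ∈ H, φ x ∈ H := by
    intro x hx
    have := Cfsg.Agent.Lib.Helper6.pCore_map_equiv p (h.equiv hr.pos)
    rw [← hHdef] at this
    rw [← this]
    exact ⟨x, hx, rfl⟩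
  have hHmap : H.map φ = H := map_eq_of_invariant h hr.pos H hHφ
  set V := H ⊓ Subgroup.centralizer (H : Set G) with hVdef
  haveI hVn : V.Normal := inferInstance
  have hVab : ∀ a ∈ V, ∀ b ∈ V, a * b = b * a := by
    intro a ha b hb
    exact (Subgroup.mem_centralizer_iff.mp hb.2 a ha.1)
  have hVp : IsPGroup p V := hHp.to_le inf_le_left
  have hV1 : V ≠ ⊥ := by
    haveI : Nontrivial H := (Subgroup.nontrivial_iff_ne_bot H).mpr hH1
    have := hHp.center_nontrivial
    obtain ⟨⟨z, hz⟩, hz1⟩ := exists_ne (1 : Subgroup.center H)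
    intro hb
    have hzV : (z : G) ∈ V := by
      refine Subgroup.mem_inf.mpr ⟨z.2, ?_⟩
      rw [Subgroup.mem_centralizer_iff]
      intro x hx
      have := (Subgroup.mem_center_iff.mp hz) ⟨x, hx⟩
      exact congrArg Subtype.val this
    rw [hb, Subgroup.mem_bot] at hzV
    apply hz1
    exact Subtype.ext (Subtype.ext hzV)
  have hVφ : ∀ v ∈ V, φ v ∈ V := by
    intro v hv
    have hv' := Subgroup.mem_inf.mp hv
    refine Subgroup.mem_inf.mpr ⟨hHφ v hv'.1, ?_⟩
    rw [Subgroup.mem_centralizer_iff]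
    intro x hx
    rw [SetLike.mem_coe, ← hHmap] at hx
    obtain ⟨x₀, hx₀, rfl⟩ := hx
    rw [← map_mul, ← map_mul, Subgroup.mem_centralizer_iff.mp hv'.2 x₀ hx₀]
  have hGV : Group.IsNilpotent (G ⧸ V) := hquot V hV1 hVφ
  set f := QuotientGroup.mk' V with hf
  have hfs : Function.Surjective f := QuotientGroup.mk'_surjective V
  -- every Sylow subgroup is normal
  have hall : ∀ (q : ℕ) [Fact q.Prime] (P : Sylow q G), (P : Subgroup G).Normal := by
    intro q hq P
    obtain ⟨Pq, hPq⟩ := exists_invariant_sylow h hr.pos q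
    suffices hn : (Pq : Subgroup G).Normal by
      obtain ⟨g, hg⟩ := MulAction.exists_smul_eq G Pq P
      rw [← hg, Sylow.smul_eq_of_normal]
      exact hn
    have hbn : ((Pq.mapSurjective hfs : Sylow q (G ⧸ V)) : Subgroup (G ⧸ V)).Normal :=
      sylow_normal_of_isNilpotent hGV _
    rw [Sylow.coe_mapSurjective] at hbn
    have hLn : ((Pq : Subgroup G) ⊔ V).Normal := by
      rw [← comap_map_mk]
      exact Subgroup.Normal.comap hbn f
    by_cases hqp : q = p
    · subst hqp
      have hVP : V ≤ (Pq : Subgroup G) := hVp.le_sylow_of_normal Pq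
      rwa [sup_eq_left.mpr hVP] at hLn
    · set L := (Pq : Subgroup G) ⊔ V with hL
      have hQL : (Pq : Subgroup G) ≤ L := le_sup_left
      have hLφ : ∀ x ∈ L, φ x ∈ L := by
        intro x hx
        have hx' : x ∈ ((Pq : Subgroup G) ⊔ V : Subgroup G) := hx
        rw [← SetLike.mem_coe, Subgroup.mul_normal] at hx'
        obtain ⟨a, ha, b, hb, rfl⟩ := Set.mem_mul.mp hx'
        rw [map_mul]
        exact Subgroup.mul_mem _ (Subgroup.mem_sup_left (hPq a ha))
          (Subgroup.mem_sup_right (hVφ b hb))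
      by_cases hLtop : L = ⊤
      · -- `Q` centralizes `V`
        have hcop : (Nat.card (Pq : Subgroup G)).Coprime (Nat.card V) := by
          obtain ⟨a, ha⟩ := IsPGroup.iff_card.mp Pq.isPGroup'
          obtain ⟨b, hb⟩ := IsPGroup.iff_card.mp hVp
          rw [ha, hb]
          exact Nat.Coprime.pow a b ((Nat.coprime_primes hq.out hp).mpr hqp)
        have hcent := centralizes_of_coprime hr h V (Pq : Subgroup G) hVab hVφ hPq hcop
        refine ⟨?_⟩
        intro n hn g
        have hg : g ∈ ((Pq : Subgroup G) ⊔ V : Subgroup G) := by rw [← hL, hLtop]; trivial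
        rw [← SetLike.mem_coe, Subgroup.mul_normal] at hg
        obtain ⟨a, ha, b, hb, rfl⟩ := Set.mem_mul.mp hg
        have h1 : b * n * b⁻¹ = n := by
          have := hcent b hb n hn
          rw [← this, mul_inv_cancel_right]
        have e : a * b * n * (a * b)⁻¹ = a * (b * n * b⁻¹) * a⁻¹ := by group
        rw [e, h1]
        exact Subgroup.mul_mem _ (Subgroup.mul_mem _ ha hn) (Subgroup.inv_mem _ ha)
      · have hLnil : Group.IsNilpotent L := hsub L hLtop hLφ
        have hQ'n : ((Pq.subtype hQL : Sylow q L) : Subgroup L).Normal :=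
          sylow_normal_of_isNilpotent hLnil _
        haveI hQ'c : ((Pq.subtype hQL : Sylow q L) : Subgroup L).Characteristic :=
          Sylow.characteristic_of_normal _ hQ'n
        haveI := hLn
        have h3 : (((Pq.subtype hQL : Sylow q L) : Subgroup L).map L.subtype).Normal :=
          ConjAct.normal_of_characteristic_of_normal
        rw [Sylow.coe_subtype, Subgroup.map_subgroupOf_eq_of_le hQL] at h3
        exact h3
  exact ((isNilpotent_of_finite_tfae (G := G)).out 3 0).mp (fun q hq P => @hall q hq P)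

end

end Fpf

end Cfsg.Agent.Lib.Lead
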