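import Mathlib
import Cfsg.Prelude.Def_SolvableStructure
import Cfsg.Agent.Lib.Helper2.NilpHall
import Cfsg.Agent.Lib.Helper2.Schmidt2

set_option autoImplicit false

namespace Cfsg.Agent.Lib.Lead.MaxNilp

open scoped commutatorElement

section
variable {G : Type*} [Group G] [Finite G]

/-- a normal Sylow subgroup contains every `p`-subgroup -/
theorem le_of_normal_sylow {p : ℕ} [Fact p.Prime] (P : Sylow p G) [hP : (P : Subgroup G).Normal]
    {A : Subgroup G} (hA : IsPGroup p A) : A ≤ P := by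
  obtain ⟨Q, hQ⟩ := hA.exists_le_sylow
  obtain ⟨g, hg⟩ := MulAction.exists_smul_eq G P Q
  have : Q = P := by rw [← hg]; exact Sylow.smul_eq_of_normal
  rw [← this]; exact hQ

/-- in a nilpotent subgroup a `p`-element commutes with every `p'`-element -/
theorem commute_of_nilpotent {L : Subgroup G} (hL : Group.IsNilpotent L) {p : ℕ} [Fact p.Prime]
    {d g : G} (hd : d ∈ L) (hg : g ∈ L) (hdp : IsPGroup p (Subgroup.zpowers d))
    (hgp : (orderOf g).Coprime p) : d * g = g * d := by
  haveI := hL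
  let P : Sylow p L := default
  haveI hPn : (P : Subgroup L).Normal := inferInstance
  set S : Subgroup G := (P : Subgroup L).map L.subtype with hS
  have hSL : S ≤ L := Subgroup.map_subtype_le _
  have hdS : d ∈ S := by
    have h1 : IsPGroup p (Subgroup.zpowers (⟨d, hd⟩ : L)) := by
      have : Subgroup.zpowers (⟨d, hd⟩ : L) = (Subgroup.zpowers d).subgroupOf L := by
        ext x
        rw [Subgroup.mem_subgroupOf, Subgroup.mem_zpowers_iff, Subgroup.mem_zpowers_iff]
        constructor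
        · rintro ⟨k, rfl⟩; exact ⟨k, by simp⟩
        · rintro ⟨k, hk⟩; exact ⟨k, Subtype.ext (by simpa using hk)⟩
      rw [this]; exact hdp.comap_subtype
    have h2 := le_of_normal_sylow P h1 (Subgroup.mem_zpowers _)
    exact ⟨⟨d, hd⟩, h2, rfl⟩
  have hSp : IsPGroup p S := P.2.map _
  have hT : Subgroup.zpowers g ≤ L := Subgroup.zpowers_le.mpr hg
  have hTS : Subgroup.zpowers g ≤ Subgroup.normalizer (S : Set G) := by
    refine hT.trans ?_
    rw [hS]
    intro x hx
    rw [Subgroup.mem_normalizer_iff]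
    intro y
    constructor
    · rintro ⟨y', hy', rfl⟩
      refine ⟨⟨x, hx⟩ * y' * ⟨x, hx⟩⁻¹, hPn.conj_mem y' hy' ⟨x, hx⟩, rfl⟩
    · rintro ⟨z, hz, hzy⟩
      have hyL : y ∈ L := by
        have h1 : x * y * x⁻¹ ∈ L := by rw [← hzy]; exact z.2
        have : y = x⁻¹ * (x * y * x⁻¹) * x := by group
        rw [this]
        exact L.mul_mem (L.mul_mem (L.inv_mem hx) h1) hx
      refine ⟨⟨y, hyL⟩, ?_, rfl⟩
      have h1 := hPn.conj_mem z hz ⟨x, hx⟩⁻¹
      have h2 : (⟨x, hx⟩ : L)⁻¹ * z * (⟨x, hx⟩ : L)⁻¹⁻¹ = ⟨y, hyL⟩ := by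
        apply Subtype.ext
        simp only [Subgroup.coe_mul, Subgroup.coe_inv, inv_inv]
        have hzy' : (z : G) = x * y * x⁻¹ := hzy
        rw [hzy']; group
      rwa [h2] at h1
  have hcop : (Nat.card (Subgroup.zpowers g)).Coprime (Nat.card S) := by
    rw [Nat.card_zpowers]
    obtain ⟨n, hn⟩ := IsPGroup.iff_card.mp hSp
    rw [hn]; exact Nat.Coprime.pow_right n hgp
  have h := Cfsg.Agent.Lib.Helper2.NilpHall.commutator_eq_bot_of_nilpotent_coprime L S
    (Subgroup.zpowers g) hSL hT hTS hcop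
  have h1 : ⁅d, g⁆ ∈ ⁅S, Subgroup.zpowers g⁆ :=
    Subgroup.commutator_mem_commutator hdS (Subgroup.mem_zpowers g)
  rw [h, Subgroup.mem_bot] at h1
  exact commutatorElement_eq_one_iff_mul_comm.mp h1

end

end Cfsg.Agent.Lib.Lead.MaxNilp
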