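import Mathlib
import Cfsg.Agent.Lib.Lead.Zass2
import Cfsg.Agent.Lib.Lead.Nilpotent
import Cfsg.Agent.S0033

set_option autoImplicit false

/-! Zassenhaus groups with large two-point stabilizer: the kernel is elementary abelian. -/

namespace Cfsg.Agent.Lib.Lead

namespace Zass

open MulAction
open scoped Pointwise

section main
variable {G Ω : Type*} [Group G] [MulAction G Ω]

theorem large_d [Finite G] [Fintype Ω] (hZ : Cfsg.IsZassenhausGroup G Ω) {a b : Ω} (hab : a ≠ b)
    (hd : Fintype.card Ω - 2 ≤ 2 * Nat.card ↥(stabilizer G a ⊓ stabilizer G b))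
    (F : Subgroup G) (hFle : F ≤ stabilizer G a)
    (hFn : (F.subgroupOf (stabilizer G a)).Normal)
    (hreg : ∀ y z : Ω, y ≠ a → z ≠ a → ∃! u : F, (u : G) • y = z) :
    IsMulCommutative F ∧ ∃ p f : ℕ, p.Prime ∧ (∀ u ∈ F, u ^ p = 1) ∧
      Fintype.card Ω = p ^ f + 1 := by
  classical
  have Z := zdata_of hZ
  obtain ⟨-, -, -, h4, -⟩ := hZ
  have hba : b ≠ a := Ne.symm hab
  have hFfix : ∀ u ∈ F, u • a = a := fun u hu => hFle hu
  have hnorm : ∀ h : G, h • a = a → ∀ u ∈ F, h * u * h⁻¹ ∈ F := by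
    intro h hh u hu
    have h1 : (⟨u, hFle hu⟩ : stabilizer G a) ∈ F.subgroupOf (stabilizer G a) := by
      rw [Subgroup.mem_subgroupOf]; exact hu
    have h2 := hFn.conj_mem _ h1 ⟨h, hh⟩
    rw [Subgroup.mem_subgroupOf] at h2
    exact h2
  have hfreeF : ∀ u ∈ F, ∀ y : Ω, y ≠ a → u • y = y → u = 1 := by
    intro u hu y hy huy
    have h1 := (hreg y y hy hy).unique (y₁ := ⟨u, hu⟩) (y₂ := 1) huy (one_smul _ _)
    exact congrArg Subtype.val h1
  have hsemi : ∀ h : G, h • a = a → h • b = b → ∀ u ∈ F, u ≠ 1 → h * u * h⁻¹ = u → h = 1 := by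
    intro h hha hhb u hu hu1 hconj
    have hcomm : h * u = u * h := by
      have : h * u = (h * u * h⁻¹) * h := by group
      rw [this, hconj]
    have hub : u • b ≠ b := fun h' => hu1 (hfreeF u hu b hba h')
    have hua : a ≠ u • b := by
      intro h'
      apply hab
      have : u • a = u • b := by rw [hFfix u hu]; exact h'
      exact smul_left_cancel _ this
    apply Z.three h a b (u • b) hab (Ne.symm hub) hua hha hhb
    rw [← mul_smul, hcomm, mul_smul, hhb]
  -- the order of `F`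
  have hcardF : Nat.card F + 1 = Fintype.card Ω := by
    have h1 : Nat.card F = Nat.card ↥(({a} : Set Ω)ᶜ) := by
      apply Nat.card_congr
      refine Equiv.ofBijective (fun u => ⟨(u : G) • b, ?_⟩) ⟨?_, ?_⟩
      · show (u : G) • b ∈ ({a} : Set Ω)ᶜ
        rw [Set.mem_compl_iff, Set.mem_singleton_iff]
        intro h'
        apply hab
        have : (u : G) • a = (u : G) • b := by rw [hFfix _ u.2]; exact h'.symm
        exact smul_left_cancel _ this
      · intro u v huv
        have huv' : (u : G) • b = (v : G) • b := congrArg Subtype.val huv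
        exact (hreg b ((v : G) • b) hba (by
          intro h'
          apply hab
          have : (v : G) • a = (v : G) • b := by rw [hFfix _ v.2]; exact h'.symm
          exact smul_left_cancel _ this)).unique huv' rfl
      · rintro ⟨y, hy⟩
        rw [Set.mem_compl_iff, Set.mem_singleton_iff] at hy
        obtain ⟨u, hu, -⟩ := hreg b y hba hy
        exact ⟨u, Subtype.ext hu⟩
    have h2 := Set.ncard_add_ncard_compl ({a} : Set Ω)
    rw [Set.ncard_singleton, Nat.card_eq_fintype_card] at h2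
    rw [h1, Nat.card_coe_set_eq]
    omega
  -- invariant subgroups
  have hinv : ∀ C : Subgroup G, C ≤ F → C ≠ ⊥ →
      (∀ h : G, h • a = a → h • b = b → ∀ c ∈ C, h * c * h⁻¹ ∈ C) → C = F := by
    intro C hCF hC hCinv
    obtain ⟨⟨x, hx⟩, hx1⟩ := (Subgroup.ne_bot_iff_exists_ne_one).mp hC
    have hx1' : x ≠ 1 := fun h => hx1 (Subtype.ext h)
    have hle : Nat.card ↥(stabilizer G a ⊓ stabilizer G b) + 1 ≤ Nat.card C := by
      haveI : Fintype ↥(stabilizer G a ⊓ stabilizer G b) := Fintype.ofFinite _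
      rw [Nat.card_eq_fintype_card (α := ↥(stabilizer G a ⊓ stabilizer G b)),
        ← Fintype.card_option, ← Nat.card_eq_fintype_card]
      apply Nat.card_le_card_of_injective
        (fun o : Option ↥(stabilizer G a ⊓ stabilizer G b) =>
          match o with
          | none => (1 : C)
          | some h => ⟨(h : G) * x * (h : G)⁻¹, by
              have := h.2
              rw [Subgroup.mem_inf, mem_stabilizer_iff, mem_stabilizer_iff] at this
              exact hCinv _ this.1 this.2 x hx⟩)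
      intro o o' hoo
      have hmem : ∀ h : ↥(stabilizer G a ⊓ stabilizer G b), (h : G) • a = a ∧ (h : G) • b = b := by
        intro h
        have := h.2
        rw [Subgroup.mem_inf, mem_stabilizer_iff, mem_stabilizer_iff] at this
        exact this
      cases o with
      | none =>
        cases o' with
        | none => rfl
        | some h' =>
          exfalso
          have h1 : (1 : G) = (h' : G) * x * (h' : G)⁻¹ := congrArg Subtype.val hoo
          apply hx1'
          have : x = (h' : G)⁻¹ * ((h' : G) * x * (h' : G)⁻¹) * (h' : G) := by group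
          rw [this, ← h1]; group
      | some h =>
        cases o' with
        | none =>
          exfalso
          have h1 : (h : G) * x * (h : G)⁻¹ = 1 := congrArg Subtype.val hoo
          apply hx1'
          have : x = (h : G)⁻¹ * ((h : G) * x * (h : G)⁻¹) * (h : G) := by group
          rw [this, h1]; group
        | some h' =>
          have h1 : (h : G) * x * (h : G)⁻¹ = (h' : G) * x * (h' : G)⁻¹ :=
            congrArg Subtype.val hoo
          have h2 : ((h' : G)⁻¹ * (h : G)) * x * ((h' : G)⁻¹ * (h : G))⁻¹ = x := by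
            have : ((h' : G)⁻¹ * (h : G)) * x * ((h' : G)⁻¹ * (h : G))⁻¹ =
                (h' : G)⁻¹ * ((h : G) * x * (h : G)⁻¹) * (h' : G) := by group
            rw [this, h1]; group
          have h3 : (h' : G)⁻¹ * (h : G) = 1 := by
            apply hsemi _ _ _ x (hCF hx) hx1' h2
            · rw [mul_smul, (hmem h).1, inv_smul_eq_iff, (hmem h').1]
            · rw [mul_smul, (hmem h).2, inv_smul_eq_iff, (hmem h').2]
          congr 1
          apply Subtype.ext
          have : (h : G) = (h' : G) * ((h' : G)⁻¹ * (h : G)) := by group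
          rw [this, h3, mul_one]
    by_contra hne
    obtain ⟨m, hm⟩ := Subgroup.card_dvd_of_le hCF
    have hCpos : 0 < Nat.card C := Nat.card_pos
    have hFpos : 0 < Nat.card F := Nat.card_pos
    have hm1 : m ≠ 1 := by
      intro h
      rw [h, mul_one] at hm
      exact hne (Subgroup.eq_of_le_of_card_ge hCF hm.le)
    have hm0 : m ≠ 0 := by
      intro h
      rw [h, mul_zero] at hm
      omega
    have hm2 : 2 ≤ m := by omega
    have : 2 * Nat.card C ≤ Nat.card F := by
      rw [hm]; nlinarith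
    omega
  -- `H` is nontrivial
  obtain ⟨g₀, hg₀1, a', b', ha'b', hg₀a', hg₀b'⟩ := h4
  obtain ⟨x₀, hx₀a, hx₀b⟩ := Z.two ha'b' hab
  obtain ⟨h₀, hh₀⟩ : ∃ h₀ : G, h₀ = x₀ * g₀ * x₀⁻¹ := ⟨_, rfl⟩
  have hh₀1 : h₀ ≠ 1 := by
    intro h
    apply hg₀1
    have : g₀ = x₀⁻¹ * (x₀ * g₀ * x₀⁻¹) * x₀ := by group
    rw [this, ← hh₀, h]; group
  have hh₀a : h₀ • a = a := by
    rw [hh₀, mul_smul, mul_smul, inv_smul_eq_iff.mpr hx₀a.symm, hg₀a', hx₀a]
  have hh₀b : h₀ • b = b := by
    rw [hh₀, mul_smul, mul_smul, inv_smul_eq_iff.mpr hx₀b.symm, hg₀b', hx₀b]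
  obtain ⟨c, hc⟩ : ∃ c : Ω, h₀ • c ≠ c := by
    by_contra hcon
    push Not at hcon
    exact hh₀1 (Z.faith h₀ hcon)
  have hca : c ≠ a := by
    intro h; apply hc; rw [h]; exact hh₀a
  have hcb : c ≠ b := by
    intro h; apply hc; rw [h]; exact hh₀b
  obtain ⟨u₀, hu₀, -⟩ := hreg b c hba hca
  have hu₀1 : (u₀ : G) ≠ 1 := by
    intro h
    rw [h, one_smul] at hu₀
    exact hcb hu₀.symm
  have hHne : (stabilizer G a ⊓ stabilizer G b : Subgroup G) ≠ ⊥ := by
    rw [Subgroup.ne_bot_iff_exists_ne_one]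
    refine ⟨⟨h₀, ?_⟩, ?_⟩
    · rw [Subgroup.mem_inf, mem_stabilizer_iff, mem_stabilizer_iff]
      exact ⟨hh₀a, hh₀b⟩
    · intro h
      exact hh₀1 (congrArg Subtype.val h)
  have hdne : Nat.card ↥(stabilizer G a ⊓ stabilizer G b) ≠ 1 := by
    intro h
    exact hHne (Subgroup.card_eq_one.mp h)
  obtain ⟨q, hq, hqd⟩ := Nat.exists_prime_and_dvd hdne
  haveI : Fact q.Prime := ⟨hq⟩
  obtain ⟨h, hho⟩ := exists_prime_orderOf_dvd_card' q hqd
  have hhab : (h : G) • a = a ∧ (h : G) • b = b := by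
    have := h.2
    rw [Subgroup.mem_inf, mem_stabilizer_iff, mem_stabilizer_iff] at this
    exact this
  have hhoG : orderOf (h : G) = q := by rw [Subgroup.orderOf_coe]; exact hho
  have hh1 : (h : G) ≠ 1 := by
    intro h'
    rw [h', orderOf_one] at hhoG
    exact hq.one_lt.ne hhoG
  -- Thompson
  haveI := hFn
  let h' : stabilizer G a := ⟨(h : G), hhab.1⟩
  have hh'o : orderOf h' = q := by
    rw [← Subgroup.orderOf_coe]; exact hhoG
  let φ : MulAut ↥(F.subgroupOf (stabilizer G a)) := MulAut.conjNormal h'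
  have hφapply : ∀ u : ↥(F.subgroupOf (stabilizer G a)),
      (((φ u : ↥(F.subgroupOf (stabilizer G a))) : stabilizer G a) : G) =
        (h : G) * ((u : stabilizer G a) : G) * (h : G)⁻¹ := by
    intro u
    have := MulAut.conjNormal_apply (H := F.subgroupOf (stabilizer G a)) h' u
    have h2 := congrArg (fun z : stabilizer G a => (z : G)) this
    exact h2
  have hfpf : MonoidHom.FixedPointFree
      ((φ : ↥(F.subgroupOf (stabilizer G a)) ≃* ↥(F.subgroupOf (stabilizer G a))) :
        ↥(F.subgroupOf (stabilizer G a)) →* ↥(F.subgroupOf (stabilizer G a))) := by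
    intro u hu
    by_contra hu1
    have hu' : (h : G) * ((u : stabilizer G a) : G) * (h : G)⁻¹ = ((u : stabilizer G a) : G) := by
      rw [← hφapply u]
      have : φ u = u := hu
      rw [this]
    have huF : ((u : stabilizer G a) : G) ∈ F := Subgroup.mem_subgroupOf.mp u.2
    have hune : ((u : stabilizer G a) : G) ≠ 1 := by
      intro h''
      apply hu1
      apply Subtype.ext
      apply Subtype.ext
      exact h''
    exact hh1 (hsemi _ hhab.1 hhab.2 _ huF hune hu')
  have hφord : orderOf φ = q := by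
    apply orderOf_eq_prime
    · show (MulAut.conjNormal h') ^ q = 1
      rw [← map_pow, ← hh'o, pow_orderOf_eq_one, map_one]
    · intro hφ1
      have h1 : (⟨⟨(u₀ : G), hFle u₀.2⟩, Subgroup.mem_subgroupOf.mpr u₀.2⟩ :
          ↥(F.subgroupOf (stabilizer G a))) = 1 := by
        apply hfpf
        rw [show ((φ : ↥(F.subgroupOf (stabilizer G a)) ≃* ↥(F.subgroupOf (stabilizer G a))) :
          ↥(F.subgroupOf (stabilizer G a)) →* ↥(F.subgroupOf (stabilizer G a))) _ = φ _ from rfl,
          hφ1]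
        rfl
      apply hu₀1
      have h2 := congrArg (fun z : ↥(F.subgroupOf (stabilizer G a)) =>
        ((z : stabilizer G a) : G)) h1
      exact h2
  haveI hnil : Group.IsNilpotent ↥(F.subgroupOf (stabilizer G a)) :=
    Cfsg.Agent.S0033.result φ hfpf q hq hφord
  haveI : Nontrivial ↥(F.subgroupOf (stabilizer G a)) := by
    refine ⟨⟨⟨⟨(u₀ : G), hFle u₀.2⟩, Subgroup.mem_subgroupOf.mpr u₀.2⟩, 1, ?_⟩⟩
    intro h1
    apply hu₀1
    have h2 := congrArg (fun z : ↥(F.subgroupOf (stabilizer G a)) =>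
      ((z : stabilizer G a) : G)) h1
    exact h2
  obtain ⟨⟨z, hz⟩, hz1⟩ := (Subgroup.ne_bot_iff_exists_ne_one).mp
    (inf_center_ne_bot (⊤ : Subgroup ↥(F.subgroupOf (stabilizer G a))) top_ne_bot)
  have hzc : ∀ g : ↥(F.subgroupOf (stabilizer G a)), g * z = z * g :=
    Subgroup.mem_center_iff.mp hz.2
  obtain ⟨z₀, hz₀⟩ : ∃ z₀ : G, z₀ = ((z : stabilizer G a) : G) := ⟨_, rfl⟩
  have hz₀F : z₀ ∈ F := by rw [hz₀]; exact Subgroup.mem_subgroupOf.mp z.2
  have hz₀1 : z₀ ≠ 1 := by
    intro h''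
    apply hz1
    apply Subtype.ext
    apply Subtype.ext
    apply Subtype.ext
    rw [← hz₀]; exact h''
  have hz₀c : ∀ v ∈ F, v * z₀ = z₀ * v := by
    intro v hv
    have h1 := hzc ⟨⟨v, hFle hv⟩, Subgroup.mem_subgroupOf.mpr hv⟩
    have h2 := congrArg (fun z : ↥(F.subgroupOf (stabilizer G a)) =>
      ((z : stabilizer G a) : G)) h1
    rw [hz₀]
    exact h2
  -- `F` is abelian
  have hinvfix : ∀ h : G, h • a = a → h⁻¹ • a = a := by
    intro h hh
    rw [inv_smul_eq_iff, hh]
  have hC₁ : Subgroup.centralizer (F : Set G) ⊓ F = F := by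
    apply hinv _ inf_le_right
    · rw [Subgroup.ne_bot_iff_exists_ne_one]
      refine ⟨⟨z₀, ?_, hz₀F⟩, fun h'' => hz₀1 (congrArg Subtype.val h'')⟩
      exact Subgroup.mem_centralizer_iff.mpr hz₀c
    · intro k hka hkb c hc
      refine ⟨?_, hnorm k hka c hc.2⟩
      apply Subgroup.mem_centralizer_iff.mpr
      intro v hv
      have hw : k⁻¹ * v * k ∈ F := by
        have := hnorm k⁻¹ (hinvfix k hka) v hv
        rwa [inv_inv] at this
      have h1 := (Subgroup.mem_centralizer_iff.mp hc.1) _ hw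
      have e1 : v * (k * c * k⁻¹) = k * ((k⁻¹ * v * k) * c) * k⁻¹ := by group
      have e2 : k * c * k⁻¹ * v = k * (c * (k⁻¹ * v * k)) * k⁻¹ := by group
      rw [e1, e2, h1]
  have hFab : ∀ u ∈ F, ∀ v ∈ F, u * v = v * u := by
    intro u hu v hv
    have h1 : v ∈ Subgroup.centralizer (F : Set G) ⊓ F := by rw [hC₁]; exact hv
    exact (Subgroup.mem_centralizer_iff.mp h1.1) u hu
  refine ⟨⟨⟨fun u v => Subtype.ext (hFab u u.2 v v.2)⟩⟩, ?_⟩
  -- exponent `p`
  have hFne1 : Nat.card F ≠ 1 := by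
    intro h1
    have := Subgroup.card_eq_one.mp h1
    apply hu₀1
    obtain ⟨w, hw⟩ : ∃ w : G, w = (u₀ : G) := ⟨_, rfl⟩
    have h2 : w ∈ F := by rw [hw]; exact u₀.2
    rw [this, Subgroup.mem_bot] at h2
    rw [← hw]; exact h2
  obtain ⟨p, hp, hpd⟩ := Nat.exists_prime_and_dvd hFne1
  haveI : Fact p.Prime := ⟨hp⟩
  obtain ⟨y, hyo⟩ := exists_prime_orderOf_dvd_card' p hpd
  let C₂ : Subgroup G :=
    { carrier := {u | u ∈ F ∧ u ^ p = 1}
      mul_mem' := by
        rintro u v ⟨hu, hup⟩ ⟨hv, hvp⟩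
        refine ⟨F.mul_mem hu hv, ?_⟩
        have hc : Commute u v := hFab u hu v hv
        rw [hc.mul_pow, hup, hvp, one_mul]
      one_mem' := ⟨F.one_mem, one_pow p⟩
      inv_mem' := by
        rintro u ⟨hu, hup⟩
        exact ⟨F.inv_mem hu, by rw [inv_pow, hup, inv_one]⟩ }
  have hC₂mem : ∀ u : G, u ∈ C₂ ↔ u ∈ F ∧ u ^ p = 1 := fun u => Iff.rfl
  have hC₂ : C₂ = F := by
    apply hinv
    · intro u hu
      exact hu.1
    · rw [Subgroup.ne_bot_iff_exists_ne_one]
      have hyoG : orderOf (y : G) = p := by rw [Subgroup.orderOf_coe]; exact hyo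
      refine ⟨⟨(y : G), (hC₂mem _).mpr ⟨y.2, ?_⟩⟩, ?_⟩
      · rw [← hyoG]; exact pow_orderOf_eq_one _
      · intro h''
        have h3 : (y : G) = 1 := congrArg Subtype.val h''
        rw [h3, orderOf_one] at hyoG
        exact hp.one_lt.ne hyoG
    · intro k hka hkb c hc
      rw [hC₂mem] at hc ⊢
      refine ⟨hnorm k hka c hc.1, ?_⟩
      rw [conj_pow, hc.2, mul_one, mul_inv_cancel]
  have hexp : ∀ u ∈ F, u ^ p = 1 := by
    intro u hu
    have : u ∈ C₂ := by rw [hC₂]; exact hu
    exact this.2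
  have hPG : IsPGroup p F := by
    intro u
    refine ⟨1, ?_⟩
    apply Subtype.ext
    rw [pow_one, Subgroup.coe_pow, hexp _ u.2, Subgroup.coe_one]
  obtain ⟨f, hf⟩ := IsPGroup.iff_card.mp hPG
  exact ⟨p, f, hp, hexp, by omega⟩

end main

end Zass

end Cfsg.Agent.Lib.Lead
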