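import Mathlib

/-!
# Carve-out (T3) for S2362: in a 3-dimensional nondegenerate quadratic space (char ≠ 2), a
semisimple isometry commuting with a nontrivial unipotent isometry is `±1`
-/

set_option autoImplicit false
set_option linter.unusedSectionVars false

namespace Cfsg.Agent.Lib.Lead.S2362b

open QuadraticMap Module

variable {F : Type*} [Field F] {V : Type*} [AddCommGroup V] [Module F V]

/-- an isometry preserves the polar form -/
theorem polar_isometry (Q : QuadraticForm F V) (u : Module.End F V) (hu : ∀ x, Q (u x) = Q x)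
    (x y : V) : polar Q (u x) (u y) = polar Q x y := by
  unfold polar
  rw [← map_add, hu, hu, hu]

/-- if `ν = u - 1` has square zero for an isometry `u`, then `ν` is skew and `x ⊥ ν x` -/
theorem skew_of_sq_zero (h2 : (2 : F) ≠ 0) (Q : QuadraticForm F V) (u : Module.End F V)
    (hu : ∀ x, Q (u x) = Q x) (hν : ∀ x, (u - 1) ((u - 1) x) = 0) :
    (∀ x y, polar Q x ((u - 1) y) = - polar Q ((u - 1) x) y) ∧
      ∀ x, polar Q x ((u - 1) x) = 0 := by
  set ν : Module.End F V := u - 1 with hνdef
  have hux : ∀ x, u x = x + ν x := by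
    intro x
    rw [hνdef, LinearMap.sub_apply, Module.End.one_apply]
    abel
  have h1 : ∀ x y, polar Q x (ν y) + polar Q (ν x) y + polar Q (ν x) (ν y) = 0 := by
    intro x y
    have := polar_isometry Q u hu x y
    rw [hux x, hux y, polar_add_left, polar_add_right, polar_add_right] at this
    linear_combination this
  have h2' : ∀ x y, polar Q (ν x) (ν y) = 0 := by
    intro x y
    have := h1 x (ν y)
    rw [hν y] at this
    simpa [polar] using this
  have h3 : ∀ x y, polar Q x (ν y) = - polar Q (ν x) y := by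
    intro x y
    have := h1 x y
    rw [h2' x y, add_zero] at this
    linear_combination this
  refine ⟨h3, fun x => ?_⟩
  have h4 := h3 x x
  rw [polar_comm Q (ν x) x] at h4
  have h5 : (2 : F) * polar Q x (ν x) = 0 := by linear_combination h4
  exact (mul_eq_zero.1 h5).resolve_left h2

variable [FiniteDimensional F V]

/-- in dimension three, `(u - 1)^2 ≠ 0` for a nontrivial unipotent isometry -/
theorem sq_ne_zero_of_isometry (h2 : (2 : F) ≠ 0) (Q : QuadraticForm F V)
    (hQ : (QuadraticMap.polarBilin Q).Nondegenerate) (hdim : Module.finrank F V = 3)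
    (u : Module.End F V) (hu : ∀ x, Q (u x) = Q x) (hu1 : u ≠ 1) :
    ∃ v, (u - 1) ((u - 1) v) ≠ 0 := by
  by_contra hcon
  push Not at hcon
  obtain ⟨hskew, hperp⟩ := skew_of_sq_zero h2 Q u hu hcon
  set ν : Module.End F V := u - 1 with hνdef
  -- the range of `ν` has dimension at most one
  have hrk : LinearMap.range ν ≤ LinearMap.ker ν := by
    rintro _ ⟨x, rfl⟩
    exact LinearMap.mem_ker.2 (hcon x)
  have hsum := LinearMap.finrank_range_add_finrank_ker ν
  have hle := Submodule.finrank_mono hrk
  have hr1 : Module.finrank F (LinearMap.range ν) ≤ 1 := by omega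
  obtain ⟨v₀, hv₀⟩ := finrank_le_one_iff.1 hr1
  -- a nonzero value of `ν`
  have hν0 : ν ≠ 0 := by
    intro h
    apply hu1
    have : u - 1 = 0 := h
    exact sub_eq_zero.1 this
  obtain ⟨x₀, hx₀⟩ : ∃ x₀, ν x₀ ≠ 0 := by
    by_contra hall
    push Not at hall
    exact hν0 (LinearMap.ext hall)
  obtain ⟨c₁, hc₁⟩ := hv₀ ⟨ν x₀, LinearMap.mem_range_self ν x₀⟩
  have hc₁' : c₁ • (v₀ : V) = ν x₀ := congrArg Subtype.val hc₁
  have hc₁0 : c₁ ≠ 0 := by
    rintro rfl
    rw [zero_smul] at hc₁'
    exact hx₀ hc₁'.symm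
  -- `ν x₀` is orthogonal to everything
  apply hx₀
  apply hQ.1
  intro y
  obtain ⟨c₂, hc₂⟩ := hv₀ ⟨ν y, LinearMap.mem_range_self ν y⟩
  have hc₂' : c₂ • (v₀ : V) = ν y := congrArg Subtype.val hc₂
  have hy : ν y = (c₂ * c₁⁻¹) • ν x₀ := by
    rw [← hc₁', smul_smul, mul_assoc, inv_mul_cancel₀ hc₁0, mul_one, hc₂']
  rw [QuadraticMap.polarBilin_apply_apply]
  have h6 := hskew x₀ y
  rw [hy, polar_smul_right, hperp x₀, smul_zero] at h6
  have h7 : polar Q (ν x₀) y = 0 := by
    have := neg_eq_zero.1 h6.symm
    exact this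
  exact h7

/-- an endomorphism commuting with `ν` and killing `v` is zero when `v, ν v, ν² v` span -/
theorem eq_zero_of_commute_cyclic (ν d : Module.End F V) (hd : Commute d ν) (v : V)
    (hspan : Submodule.span F ({v, ν v, ν (ν v)} : Set V) = ⊤) (hdv : d v = 0) : d = 0 := by
  have h1 : ∀ x, d (ν x) = ν (d x) := fun x => by
    have := congrArg (fun f : Module.End F V => f x) hd.eq
    simpa using this
  apply LinearMap.ext_on hspan
  intro x hx
  rcases hx with rfl | rfl | rfl
  · rw [hdv, LinearMap.zero_apply]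
  · rw [h1, hdv, map_zero, LinearMap.zero_apply]
  · rw [h1, h1, hdv, map_zero, map_zero, LinearMap.zero_apply]

/-- `v, ν v, ν² v` span a three-dimensional space when `ν³ = 0` and `ν² v ≠ 0` -/
theorem span_cyclic_eq_top (hdim : Module.finrank F V = 3) (ν : Module.End F V)
    (hν3 : ∀ x, ν (ν (ν x)) = 0) (v : V) (hv : ν (ν v) ≠ 0) :
    Submodule.span F ({v, ν v, ν (ν v)} : Set V) = ⊤ := by
  have hli : LinearIndependent F ![v, ν v, ν (ν v)] := by
    rw [Fintype.linearIndependent_iff]
    intro g hg
    rw [Fin.sum_univ_three] at hg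
    simp only [Matrix.cons_val_zero, Matrix.cons_val_one, Matrix.cons_val_two,
      Matrix.head_cons, Matrix.tail_cons] at hg
    have e2 := congrArg (fun x => ν (ν x)) hg
    simp only [map_add, map_smul, hν3, smul_zero, add_zero, map_zero] at e2
    have g0 : g 0 = 0 := (smul_eq_zero.1 e2).resolve_right hv
    rw [g0, zero_smul, zero_add] at hg
    have e1 := congrArg (fun x => ν x) hg
    simp only [map_add, map_smul, hν3, smul_zero, add_zero, map_zero] at e1
    have g1 : g 1 = 0 := (smul_eq_zero.1 e1).resolve_right hv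
    rw [g1, zero_smul, zero_add] at hg
    have g2 : g 2 = 0 := (smul_eq_zero.1 hg).resolve_right hv
    intro i
    fin_cases i
    · exact g0
    · exact g1
    · exact g2
  have := hli.span_eq_top_of_card_eq_finrank' (by rw [Fintype.card_fin, hdim])
  rw [← this]
  congr 1
  ext x
  simp only [Set.mem_range, Set.mem_insert_iff, Set.mem_singleton_iff]
  constructor
  · rintro (rfl | rfl | rfl)
    · exact ⟨0, rfl⟩
    · exact ⟨1, rfl⟩
    · exact ⟨2, rfl⟩
  · rintro ⟨i, rfl⟩
    fin_cases i
    · left; rfl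
    · right; left; rfl
    · right; right; rfl

/-- (T3) -/
theorem scalar_of_commute_unipotent_three (h2 : (2 : F) ≠ 0)
    (Q : QuadraticForm F V)
    (hQ : (QuadraticMap.polarBilin Q).Nondegenerate) (hdim : Module.finrank F V = 3)
    (h u : Module.End F V) (hh : ∀ x, Q (h x) = Q x) (hu : ∀ x, Q (u x) = Q x)
    (hc : Commute h u) (hnil : IsNilpotent (u - 1)) (hu1 : u ≠ 1)
    (N : ℕ) (hN : (N : F) ≠ 0) (hhN : h ^ N = 1) :
    h = 1 ∨ h = -1 := by
  set ν : Module.End F V := u - 1 with hνdef
  -- `ν³ = 0`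
  have hν3' : ν ^ 3 = 0 := by
    obtain ⟨k, hk⟩ := hnil
    have h1 := Module.End.ker_pow_le_ker_pow_finrank ν k
    rw [hk, hdim, LinearMap.ker_zero] at h1
    exact LinearMap.ker_eq_top.1 (top_le_iff.1 h1)
  have hν3 : ∀ x, ν (ν (ν x)) = 0 := by
    intro x
    have := congrArg (fun f : Module.End F V => f x) hν3'
    simpa [pow_succ, Module.End.mul_apply] using this
  obtain ⟨v, hv⟩ := sq_ne_zero_of_isometry h2 Q hQ hdim u hu hu1
  have hspan := span_cyclic_eq_top hdim ν hν3 v hv
  -- coordinates of `h v`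
  have hhv : h v ∈ Submodule.span F ({v, ν v, ν (ν v)} : Set V) := by
    rw [hspan]
    exact Submodule.mem_top
  obtain ⟨α, β, γ, hαβγ⟩ := Submodule.mem_span_triple.1 hhv
  have hcν : Commute h ν := hc.sub_right (Commute.one_right h)
  set μ : Module.End F V := β • ν + γ • (ν * ν) with hμ
  have hμν : Commute μ ν := by
    rw [hμ]
    exact ((Commute.refl ν).smul_left β).add_left
      (((Commute.refl ν).mul_left (Commute.refl ν)).smul_left γ)
  -- `h = α + μ`
  have hd : h - (α • (1 : Module.End F V) + μ) = 0 := by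
    apply eq_zero_of_commute_cyclic ν _ _ v hspan
    · simp only [LinearMap.sub_apply, LinearMap.add_apply, LinearMap.smul_apply,
        Module.End.one_apply, hμ, Module.End.mul_apply, ← hαβγ]
      abel
    · exact hcν.sub_left (((Commute.one_left ν).smul_left α).add_left hμν)
  -- `μ` is nilpotent
  have hμnil : IsNilpotent μ := by
    have h1 : μ = ν * (β • (1 : Module.End F V) + γ • ν) := by
      rw [hμ, mul_add, mul_smul_comm, mul_smul_comm, mul_one]
    rw [h1]
    apply Commute.isNilpotent_mul_right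
    · exact ((Commute.one_right ν).smul_right β).add_right ((Commute.refl ν).smul_right γ)
    · exact ⟨3, hν3'⟩
  -- `h` is semisimple
  have hN0 : N ≠ 0 := by
    rintro rfl
    exact hN (by simp)
  have hss : h.IsSemisimple := by
    apply Module.End.isSemisimple_of_squarefree_aeval_eq_zero
      (p := Polynomial.X ^ N - Polynomial.C (1 : F))
    · exact (Polynomial.separable_X_pow_sub_C (1 : F) hN one_ne_zero).squarefree
    · simp [hhN]
  have hμeq : μ = h - algebraMap F (Module.End F V) α := by
    rw [Algebra.algebraMap_eq_smul_one]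
    have := sub_eq_zero.1 hd
    rw [this]
    abel
  have hμss : μ.IsSemisimple := by
    rw [hμeq]
    exact Module.End.isSemisimple_sub_algebraMap_iff.2 hss
  have hμ0 : μ = 0 := Module.End.eq_zero_of_isNilpotent_isSemisimple hμnil hμss
  have hhα : h = α • (1 : Module.End F V) := by
    have := sub_eq_zero.1 hd
    rw [this, hμ0, add_zero]
  -- `α² = 1`
  have hv0 : v ≠ 0 := by
    rintro rfl
    simp at hv
  obtain ⟨x, hx⟩ : ∃ x, Q x ≠ 0 := by
    by_contra hall
    push Not at hall
    apply hv0
    apply hQ.1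
    intro y
    rw [QuadraticMap.polarBilin_apply_apply]
    unfold polar
    rw [hall, hall, hall]
    simp
  have hα : α * α = 1 := by
    have h1 := hh x
    rw [hhα, LinearMap.smul_apply, Module.End.one_apply, QuadraticMap.map_smul] at h1
    have h3 : (α * α - 1) * Q x = 0 := by
      rw [sub_mul, one_mul, ← smul_eq_mul (α * α), h1, sub_self]
    exact sub_eq_zero.1 ((mul_eq_zero.1 h3).resolve_right hx)
  rcases mul_self_eq_one_iff.1 hα with h1 | h1
  · left
    rw [hhα, h1, one_smul]
  · right
    rw [hhα, h1, neg_one_smul]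

end Cfsg.Agent.Lib.Lead.S2362b
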