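import Mathlib

/-!
# Carve-out (S1) for S2362: sign of a permutation with uniform even cycle length
-/

set_option autoImplicit false

namespace Cfsg.Agent.Lib.Lead.S2362a

open Equiv Equiv.Perm

/-- every cycle length of `π` equals `N` -/
theorem mem_cycleType_eq {X : Type*} [Fintype X] [DecidableEq X] (π : Equiv.Perm X) (N : ℕ)
    (hπ : π ^ N = 1)
    (hfree : ∀ x, π x ≠ x → ∀ j : ℕ, (π ^ j) x = x → N ∣ j) {n : ℕ} (hn : n ∈ π.cycleType) :
    n = N := by
  rw [cycleType_def, Multiset.mem_map] at hn
  obtain ⟨c, hc, rfl⟩ := hn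
  have hc' : c ∈ π.cycleFactorsFinset := hc
  have hcyc : c.IsCycle := (mem_cycleFactorsFinset_iff.1 hc').1
  obtain ⟨x, hx⟩ := hcyc.nonempty_support
  have hcx : c = π.cycleOf x := cycle_is_cycleOf hx hc'
  have hon : π.IsCycleOn c.support := by
    rw [hcx]
    exact isCycleOn_support_cycleOf π x
  have hπx : π x ≠ x := by
    have h1 := (mem_cycleFactorsFinset_iff.1 hc').2 x hx
    rw [← h1]
    exact mem_support.1 hx
  show (c.support).card = N
  apply Nat.dvd_antisymm
  · have h1 : (π ^ N) x = x := by rw [hπ]; rfl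
    exact (hon.pow_apply_eq hx).1 h1
  · exact hfree x hπx _ (hon.pow_card_apply hx)

set_option linter.unusedVariables false in
/-- (S1) (`hN0` is not needed) -/
theorem sign_of_uniform_cycles {X : Type*} [Fintype X] [DecidableEq X] (π : Equiv.Perm X) (N : ℕ)
    (hN : Even N) (hN0 : 0 < N) (hπ : π ^ N = 1)
    (hfree : ∀ x, π x ≠ x → ∀ j : ℕ, (π ^ j) x = x → N ∣ j) :
    ∃ m : ℕ, m * N + (Finset.univ.filter (fun x => π x = x)).card = Fintype.card X ∧
      Equiv.Perm.sign π = (-1) ^ m := by
  have hrep : π.cycleType = Multiset.replicate (Multiset.card π.cycleType) N :=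
    Multiset.eq_replicate.2 ⟨rfl, fun n hn => mem_cycleType_eq π N hπ hfree hn⟩
  have hsum : π.cycleType.sum = Multiset.card π.cycleType * N := by
    conv_lhs => rw [hrep]
    rw [Multiset.sum_replicate, smul_eq_mul]
  refine ⟨Multiset.card π.cycleType, ?_, ?_⟩
  · rw [← hsum, sum_cycleType]
    have h1 : π.support = Finset.univ.filter (fun x => ¬ π x = x) := by
      ext x
      simp [mem_support]
    rw [h1, add_comm]
    exact Finset.card_filter_add_card_filter_not (fun x => π x = x)
  · rw [sign_of_cycleType, hsum, pow_add]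
    have h2 : Even (Multiset.card π.cycleType * N) := hN.mul_left _
    rw [h2.neg_one_pow, one_mul]

end Cfsg.Agent.Lib.Lead.S2362a
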