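import Mathlib

set_option autoImplicit false

namespace Cfsg.Agent.Lib.Lead

namespace Quad

variable (p : ℕ) [Fact p.Prime]
variable {Γ : Type*} [Group Γ]

section basic

variable {M : Type*} [AddCommGroup M] [Module (ZMod p) M]

/-- the image of the representation is a `p`-group -/
def IsPRep (ρ : Γ →* Module.End (ZMod p) M) : Prop := ∀ g : Γ, ∃ k : ℕ, ρ g ^ p ^ k = 1

/-- invariant submodules -/
def Inv (ρ : Γ →* Module.End (ZMod p) M) (U : Submodule (ZMod p) M) : Prop :=
  ∀ g : Γ, ∀ u ∈ U, ρ g u ∈ U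

variable {p}

/-- the subrepresentation on an invariant submodule -/
def subRep (ρ : Γ →* Module.End (ZMod p) M) (U : Submodule (ZMod p) M) (hU : Inv p ρ U) :
    Γ →* Module.End (ZMod p) U where
  toFun g := (ρ g).restrict (hU g)
  map_one' := by
    ext u
    simp [LinearMap.restrict_apply]
  map_mul' := by
    intro g h
    ext u
    simp [LinearMap.restrict_apply]

theorem subRep_apply (ρ : Γ →* Module.End (ZMod p) M) (U : Submodule (ZMod p) M) (hU : Inv p ρ U)
    (g : Γ) (u : U) : ((subRep ρ U hU g) u : M) = ρ g (u : M) := rfl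

/-- the quotient representation -/
def quotRep (ρ : Γ →* Module.End (ZMod p) M) (U : Submodule (ZMod p) M) (hU : Inv p ρ U) :
    Γ →* Module.End (ZMod p) (M ⧸ U) where
  toFun g := U.mapQ U (ρ g) (fun u hu => hU g u hu)
  map_one' := by
    apply Submodule.linearMap_qext
    ext m
    simp
  map_mul' := by
    intro g h
    apply Submodule.linearMap_qext
    ext m
    simp

theorem quotRep_apply (ρ : Γ →* Module.End (ZMod p) M) (U : Submodule (ZMod p) M)
    (hU : Inv p ρ U) (g : Γ) (m : M) :
    (quotRep ρ U hU g) (Submodule.Quotient.mk m) = Submodule.Quotient.mk (ρ g m) := rfl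

/-- powers of `1 + N` with `N² = 0` -/
theorem one_add_pow_of_sq_zero (N : Module.End (ZMod p) M) (hN : N * N = 0) (n : ℕ) :
    (1 + N) ^ n = 1 + (n : ZMod p) • N := by
  induction n with
  | zero => simp
  | succ n ih =>
    rw [pow_succ, ih, mul_add, mul_one, add_mul, one_mul, smul_mul_assoc, hN, smul_zero, add_zero,
      Nat.cast_succ, add_smul, one_smul, add_assoc]

theorem pow_p_eq_one_of_sq_zero (f : Module.End (ZMod p) M) (hN : (f - 1) * (f - 1) = 0) :
    f ^ p = 1 := by
  have : f = 1 + (f - 1) := by abel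
  rw [this, one_add_pow_of_sq_zero _ hN]
  simp

/-- extension of `p`-representations -/
theorem isPRep_of_sub_quot (ρ : Γ →* Module.End (ZMod p) M) (U : Submodule (ZMod p) M)
    (hU : Inv p ρ U) (h1 : IsPRep p (subRep ρ U hU)) (h2 : IsPRep p (quotRep ρ U hU)) :
    IsPRep p ρ := by
  intro g
  obtain ⟨k₁, hk₁⟩ := h1 g
  obtain ⟨k₂, hk₂⟩ := h2 g
  refine ⟨k₁ + k₂ + 1, ?_⟩
  set f := ρ g ^ p ^ (k₁ + k₂) with hf
  have hfρ : f = ρ (g ^ p ^ (k₁ + k₂)) := by rw [hf, map_pow]
  -- `f` is trivial on `U`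
  have hfU : ∀ u ∈ U, f u = u := by
    intro u hu
    have e : subRep ρ U hU (g ^ p ^ (k₁ + k₂)) = 1 := by
      rw [map_pow, pow_add, pow_mul, hk₁, one_pow]
    have := congrArg (fun φ => ((φ ⟨u, hu⟩ : U) : M)) e
    simp only [subRep_apply] at this
    rw [hfρ]
    exact this
  -- `f` is trivial on `M ⧸ U`
  have hfQ : ∀ m : M, f m - m ∈ U := by
    intro m
    have e : quotRep ρ U hU (g ^ p ^ (k₁ + k₂)) = 1 := by
      rw [map_pow, pow_add, mul_comm, pow_mul, hk₂, one_pow]
    have := congrArg (fun φ => φ (Submodule.Quotient.mk m)) e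
    simp only [quotRep_apply] at this
    rw [Module.End.one_apply, Submodule.Quotient.eq] at this
    rw [hfρ]
    exact this
  have hsq : (f - 1) * (f - 1) = 0 := by
    ext m
    simp only [Module.End.mul_apply, LinearMap.sub_apply, Module.End.one_apply,
      LinearMap.zero_apply]
    have h3 := hfU (f m - m) (hfQ m)
    rw [h3, sub_self]
  rw [pow_succ, pow_mul, ← hf]
  exact pow_p_eq_one_of_sq_zero f hsq

end basic

end Quad

end Cfsg.Agent.Lib.Lead
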