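import Mathlib
import Cfsg.Agent.Lib.Lead.Quad1

set_option autoImplicit false

universe u v

namespace Cfsg.Agent.Lib.Lead

namespace Quad

variable (p : ℕ) [Fact p.Prime]
variable {Γ : Type v} [Group Γ]

section irred

/-- irreducible representations -/
def Irred {M : Type u} [AddCommGroup M] [Module (ZMod p) M] (ρ : Γ →* Module.End (ZMod p) M) :
    Prop :=
  ∀ U : Submodule (ZMod p) M, Inv p ρ U → U = ⊥ ∨ U = ⊤

variable {p}

theorem quad_subRep {M : Type u} [AddCommGroup M] [Module (ZMod p) M]
    (ρ : Γ →* Module.End (ZMod p) M) (U : Submodule (ZMod p) M) (hU : Inv p ρ U) (x : Γ)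
    (hx : (ρ x - 1) * (ρ x - 1) = 0) :
    (subRep ρ U hU x - 1) * (subRep ρ U hU x - 1) = 0 := by
  ext u
  have := congrArg (fun φ => φ (u : M)) hx
  simp only [Module.End.mul_apply, LinearMap.sub_apply, Module.End.one_apply,
    LinearMap.zero_apply, map_sub] at this
  simp only [Module.End.mul_apply, LinearMap.sub_apply, Module.End.one_apply,
    LinearMap.zero_apply, map_sub, Submodule.coe_sub, subRep_apply, ZeroMemClass.coe_zero]
  exact this

theorem quad_quotRep {M : Type u} [AddCommGroup M] [Module (ZMod p) M]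
    (ρ : Γ →* Module.End (ZMod p) M) (U : Submodule (ZMod p) M) (hU : Inv p ρ U) (x : Γ)
    (hx : (ρ x - 1) * (ρ x - 1) = 0) :
    (quotRep ρ U hU x - 1) * (quotRep ρ U hU x - 1) = 0 := by
  apply Submodule.linearMap_qext
  ext m
  have := congrArg (fun φ => (Submodule.Quotient.mk (φ m) : M ⧸ U)) hx
  simp only [Module.End.mul_apply, LinearMap.sub_apply, Module.End.one_apply,
    LinearMap.zero_apply, map_sub] at this
  simp only [LinearMap.comp_apply, Submodule.mkQ_apply, Module.End.mul_apply,
    LinearMap.sub_apply, Module.End.one_apply, LinearMap.zero_apply, map_sub, quotRep_apply]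
  rw [Submodule.Quotient.mk_sub, Submodule.Quotient.mk_sub, Submodule.Quotient.mk_sub] at this
  exact this

/-- reduction to irreducible representations -/
theorem reduce_irreducible (x y : Γ) (C : Prop)
    (hirr : ∀ (M : Type u) [AddCommGroup M] [Module (ZMod p) M] [Finite M]
      (ρ : Γ →* Module.End (ZMod p) M), (ρ x - 1) * (ρ x - 1) = 0 → (ρ y - 1) * (ρ y - 1) = 0 →
      Irred p ρ → ¬ IsPRep p ρ → C) :
    ∀ (n : ℕ) (M : Type u) [AddCommGroup M] [Module (ZMod p) M] [Finite M]
      (ρ : Γ →* Module.End (ZMod p) M), Nat.card M = n → (ρ x - 1) * (ρ x - 1) = 0 →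
      (ρ y - 1) * (ρ y - 1) = 0 → ¬ IsPRep p ρ → C := by
  intro n
  induction n using Nat.strong_induction_on with
  | _ n ih =>
    intro M _ _ _ ρ hn hx hy hnp
    by_cases hI : Irred p ρ
    · exact hirr M ρ hx hy hI hnp
    · unfold Irred at hI
      push Not at hI
      obtain ⟨U, hU, hU0, hU1⟩ := hI
      haveI : Finite (M ⧸ U) := Finite.of_surjective _ (Submodule.Quotient.mk_surjective U)
      have hcard := Submodule.card_eq_card_quotient_mul_card U
      have hUpos : 0 < Nat.card U := Nat.card_pos
      have hQpos : 0 < Nat.card (M ⧸ U) := Nat.card_pos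
      have hU2 : 1 < Nat.card U := by
        rw [Finite.one_lt_card_iff_nontrivial]
        exact (Submodule.nontrivial_iff_ne_bot).mpr hU0
      have hQ2 : 1 < Nat.card (M ⧸ U) := by
        rw [Finite.one_lt_card_iff_nontrivial]
        exact Submodule.Quotient.nontrivial_iff.mpr hU1
      by_cases h1 : IsPRep p (subRep ρ U hU)
      · have h2 : ¬ IsPRep p (quotRep ρ U hU) := fun h2 => hnp (isPRep_of_sub_quot ρ U hU h1 h2)
        have hlt : Nat.card (M ⧸ U) < n := by
          rw [← hn, hcard]
          nlinarith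
        exact ih _ hlt (M ⧸ U) (quotRep ρ U hU) rfl (quad_quotRep ρ U hU x hx)
          (quad_quotRep ρ U hU y hy) h2
      · have hlt : Nat.card U < n := by
          rw [← hn, hcard]
          nlinarith
        exact ih _ hlt U (subRep ρ U hU) rfl (quad_subRep ρ U hU x hx)
          (quad_subRep ρ U hU y hy) h1

end irred

end Quad

end Cfsg.Agent.Lib.Lead
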