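import Mathlib
import Cfsg.Agent.Lib.Lead.Quad2

set_option autoImplicit false

universe u v w

namespace Cfsg.Agent.Lib.Lead

namespace Quad

open Matrix

section coords

variable {p : ℕ} [Fact p.Prime]
variable {Γ : Type v} [Group Γ]
variable {M : Type u} [AddCommGroup M] [Module (ZMod p) M]
variable {K : Type w} [Field K]

/-- the data of a two-dimensional structure over a field `K` acting on `M` -/
structure TwoDim (ρ : Γ →* Module.End (ZMod p) M) (x y : Γ)
    (j : K →+* Module.End (ZMod p) M) where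
  e1 : M
  e2 : M
  θ : K
  comm : ∀ (g : Γ) (k : K), ρ g * j k = j k * ρ g
  x1 : ρ x e1 = e1
  x2 : ρ x e2 = e2 + j θ e1
  y1 : ρ y e1 = e1 + e2
  y2 : ρ y e2 = e2
  e2_ne : e2 ≠ 0
  span : ∀ m : M, ∃ k1 k2 : K, m = j k1 e1 + j k2 e2

variable {ρ : Γ →* Module.End (ZMod p) M} {x y : Γ} {j : K →+* Module.End (ZMod p) M}

theorem TwoDim.eq_zero_of_smul (T : TwoDim ρ x y j) {k : K} {m : M} (h : j k m = 0) (hm : m ≠ 0) :
    k = 0 := by
  by_contra hk
  apply hm
  have : j k⁻¹ (j k m) = m := by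
    rw [← Module.End.mul_apply, ← map_mul, inv_mul_cancel₀ hk, map_one, Module.End.one_apply]
  rw [← this, h, map_zero]

/-- the operator `ρ y - 1` in coordinates -/
theorem TwoDim.b_apply (T : TwoDim ρ x y j) (k1 k2 : K) :
    (ρ y - 1) (j k1 T.e1 + j k2 T.e2) = j k1 T.e2 := by
  have h1 : ρ y (j k1 T.e1) = j k1 (ρ y T.e1) := by
    rw [← Module.End.mul_apply, T.comm, Module.End.mul_apply]
  have h2 : ρ y (j k2 T.e2) = j k2 (ρ y T.e2) := by
    rw [← Module.End.mul_apply, T.comm, Module.End.mul_apply]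
  rw [LinearMap.sub_apply, Module.End.one_apply, map_add, h1, h2, T.y1, T.y2, map_add]
  abel

theorem TwoDim.coord_zero (T : TwoDim ρ x y j) {k1 k2 : K}
    (h : j k1 T.e1 + j k2 T.e2 = 0) : k1 = 0 ∧ k2 = 0 := by
  have h1 := T.b_apply k1 k2
  rw [h, map_zero] at h1
  have hk1 : k1 = 0 := T.eq_zero_of_smul h1.symm T.e2_ne
  rw [hk1, map_zero, LinearMap.zero_apply, zero_add] at h
  exact ⟨hk1, T.eq_zero_of_smul h T.e2_ne⟩

theorem TwoDim.coord_unique (T : TwoDim ρ x y j) {k1 k2 k1' k2' : K}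
    (h : j k1 T.e1 + j k2 T.e2 = j k1' T.e1 + j k2' T.e2) : k1 = k1' ∧ k2 = k2' := by
  have : j (k1 - k1') T.e1 + j (k2 - k2') T.e2 = 0 := by
    rw [map_sub, map_sub, LinearMap.sub_apply, LinearMap.sub_apply]
    have := sub_eq_zero.mpr h
    rw [← this]
    abel
  obtain ⟨h1, h2⟩ := T.coord_zero this
  exact ⟨sub_eq_zero.mp h1, sub_eq_zero.mp h2⟩

/-- first coordinate -/
noncomputable def TwoDim.c1 (T : TwoDim ρ x y j) (m : M) : K := Classical.choose (T.span m)

/-- second coordinate -/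
noncomputable def TwoDim.c2 (T : TwoDim ρ x y j) (m : M) : K :=
  Classical.choose (Classical.choose_spec (T.span m))

theorem TwoDim.c_spec (T : TwoDim ρ x y j) (m : M) :
    m = j (T.c1 m) T.e1 + j (T.c2 m) T.e2 :=
  Classical.choose_spec (Classical.choose_spec (T.span m))

theorem TwoDim.c_eq (T : TwoDim ρ x y j) {m : M} {k1 k2 : K}
    (h : m = j k1 T.e1 + j k2 T.e2) : T.c1 m = k1 ∧ T.c2 m = k2 := by
  have := T.c_spec m
  rw [h] at this
  obtain ⟨h1, h2⟩ := T.coord_unique this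
  rw [h]
  exact ⟨h1.symm, h2.symm⟩

/-- the matrix of `ρ g` -/
noncomputable def TwoDim.mat (T : TwoDim ρ x y j) (g : Γ) : Matrix (Fin 2) (Fin 2) K :=
  !![T.c1 (ρ g T.e1), T.c1 (ρ g T.e2); T.c2 (ρ g T.e1), T.c2 (ρ g T.e2)]

theorem TwoDim.rho_apply (T : TwoDim ρ x y j) (g : Γ) (k1 k2 : K) :
    ρ g (j k1 T.e1 + j k2 T.e2) =
      j (T.c1 (ρ g T.e1) * k1 + T.c1 (ρ g T.e2) * k2) T.e1 +
      j (T.c2 (ρ g T.e1) * k1 + T.c2 (ρ g T.e2) * k2) T.e2 := by
  have h1 : ρ g (j k1 T.e1) = j k1 (ρ g T.e1) := by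
    rw [← Module.End.mul_apply, T.comm, Module.End.mul_apply]
  have h2 : ρ g (j k2 T.e2) = j k2 (ρ g T.e2) := by
    rw [← Module.End.mul_apply, T.comm, Module.End.mul_apply]
  rw [map_add, h1, h2]
  conv_lhs => rw [T.c_spec (ρ g T.e1), T.c_spec (ρ g T.e2)]
  simp only [map_add, map_mul, LinearMap.add_apply, Module.End.mul_apply]
  have hc : ∀ (k k' : K) (m : M), j k (j k' m) = j k' (j k m) := by
    intro k k' m
    rw [← Module.End.mul_apply, ← Module.End.mul_apply, ← map_mul, ← map_mul, mul_comm]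
  rw [hc k1, hc k1, hc k2, hc k2]
  abel

theorem TwoDim.mat_mul (T : TwoDim ρ x y j) (g h : Γ) : T.mat (g * h) = T.mat g * T.mat h := by
  have key : ∀ m : M, ρ (g * h) m =
      j (T.c1 (ρ g T.e1) * T.c1 (ρ h m) + T.c1 (ρ g T.e2) * T.c2 (ρ h m)) T.e1 +
      j (T.c2 (ρ g T.e1) * T.c1 (ρ h m) + T.c2 (ρ g T.e2) * T.c2 (ρ h m)) T.e2 := by
    intro m
    rw [map_mul, Module.End.mul_apply]
    conv_lhs => rw [T.c_spec (ρ h m)]
    exact T.rho_apply g _ _
  obtain ⟨h11, h21⟩ := T.c_eq (key T.e1)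
  obtain ⟨h12, h22⟩ := T.c_eq (key T.e2)
  unfold TwoDim.mat
  ext i k
  fin_cases i <;> fin_cases k
  · simpa [Matrix.mul_apply, Fin.sum_univ_two] using h11
  · simpa [Matrix.mul_apply, Fin.sum_univ_two] using h12
  · simpa [Matrix.mul_apply, Fin.sum_univ_two] using h21
  · simpa [Matrix.mul_apply, Fin.sum_univ_two] using h22

theorem TwoDim.mat_one (T : TwoDim ρ x y j) : T.mat 1 = 1 := by
  have h1 : ρ 1 T.e1 = j 1 T.e1 + j 0 T.e2 := by simp
  have h2 : ρ 1 T.e2 = j 0 T.e1 + j 1 T.e2 := by simp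
  obtain ⟨h11, h21⟩ := T.c_eq h1
  obtain ⟨h12, h22⟩ := T.c_eq h2
  unfold TwoDim.mat
  rw [h11, h21, h12, h22]
  exact Matrix.one_fin_two.symm

theorem TwoDim.mat_x (T : TwoDim ρ x y j) : T.mat x = !![1, T.θ; 0, 1] := by
  have h1 : ρ x T.e1 = j 1 T.e1 + j 0 T.e2 := by rw [T.x1]; simp
  have h2 : ρ x T.e2 = j T.θ T.e1 + j 1 T.e2 := by rw [T.x2]; simp [add_comm]
  obtain ⟨h11, h21⟩ := T.c_eq h1
  obtain ⟨h12, h22⟩ := T.c_eq h2
  unfold TwoDim.mat
  rw [h11, h21, h12, h22]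

theorem TwoDim.mat_y (T : TwoDim ρ x y j) : T.mat y = !![1, 0; 1, 1] := by
  have h1 : ρ y T.e1 = j 1 T.e1 + j 1 T.e2 := by rw [T.y1]; simp
  have h2 : ρ y T.e2 = j 0 T.e1 + j 1 T.e2 := by rw [T.y2]; simp
  obtain ⟨h11, h21⟩ := T.c_eq h1
  obtain ⟨h12, h22⟩ := T.c_eq h2
  unfold TwoDim.mat
  rw [h11, h21, h12, h22]

theorem TwoDim.det_mat (T : TwoDim ρ x y j) (hgen : Subgroup.closure {x, y} = ⊤) (g : Γ) :
    (T.mat g).det = 1 := by
  have hg : g ∈ Subgroup.closure {x, y} := by rw [hgen]; trivial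
  induction hg using Subgroup.closure_induction with
  | mem z hz =>
    rcases hz with rfl | hz
    · rw [T.mat_x]; simp [Matrix.det_fin_two]
    · rw [Set.mem_singleton_iff] at hz
      rw [hz, T.mat_y]; simp [Matrix.det_fin_two]
  | one => rw [T.mat_one, Matrix.det_one]
  | mul a b _ _ ha hb => rw [T.mat_mul, Matrix.det_mul, ha, hb, mul_one]
  | inv a _ ha =>
    have := T.mat_mul a⁻¹ a
    rw [inv_mul_cancel, T.mat_one] at this
    have h2 := congrArg Matrix.det this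
    rw [Matrix.det_one, Matrix.det_mul, ha, mul_one] at h2
    exact h2.symm

/-- the two-dimensional representation over `K` -/
noncomputable def TwoDim.hom (T : TwoDim ρ x y j) (hgen : Subgroup.closure {x, y} = ⊤) :
    Γ →* Matrix.SpecialLinearGroup (Fin 2) K where
  toFun g := ⟨T.mat g, T.det_mat hgen g⟩
  map_one' := Subtype.ext T.mat_one
  map_mul' g h := Subtype.ext (T.mat_mul g h)

theorem TwoDim.hom_eq_one_iff (T : TwoDim ρ x y j) (hgen : Subgroup.closure {x, y} = ⊤) (g : Γ) :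
    T.hom hgen g = 1 ↔ ρ g = 1 := by
  constructor
  · intro h
    have h' : T.mat g = 1 := congrArg Subtype.val h
    have h11 : T.c1 (ρ g T.e1) = 1 := by
      have := congrFun (congrFun h' 0) 0
      simpa [TwoDim.mat] using this
    have h12 : T.c1 (ρ g T.e2) = 0 := by
      have := congrFun (congrFun h' 0) 1
      simpa [TwoDim.mat] using this
    have h21 : T.c2 (ρ g T.e1) = 0 := by
      have := congrFun (congrFun h' 1) 0
      simpa [TwoDim.mat] using this
    have h22 : T.c2 (ρ g T.e2) = 1 := by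
      have := congrFun (congrFun h' 1) 1
      simpa [TwoDim.mat] using this
    ext m
    obtain ⟨k1, k2, rfl⟩ := T.span m
    rw [T.rho_apply, h11, h12, h21, h22]
    simp
  · intro h
    apply Subtype.ext
    show T.mat g = 1
    rw [← T.mat_one]
    unfold TwoDim.mat
    rw [h, map_one]

end coords

end Quad

end Cfsg.Agent.Lib.Lead
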