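import Mathlib

set_option autoImplicit false

namespace Cfsg.Agent.Lib.Lead

namespace SL2

open Matrix

variable {F : Type*} [Field F]

/-- `2 × 2` matrices -/
abbrev M2 (F : Type*) := Matrix (Fin 2) (Fin 2) F

/-- Cayley–Hamilton for `2 × 2` matrices -/
theorem mul_self_eq (g : M2 F) : g * g = g.trace • g - g.det • (1 : M2 F) := by
  rw [eta_fin_two g]
  simp [Matrix.trace_fin_two, Matrix.det_fin_two, Matrix.one_fin_two, Matrix.smul_of]
  constructor
  · constructor <;> ring
  · constructor <;> ring

/-- the commutant of a non-scalar `2 × 2` matrix -/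
theorem commutant (g h : M2 F) (hg : ∀ c : F, g ≠ c • (1 : M2 F))
    (hc : h * g = g * h) : ∃ a b : F, h = a • (1 : M2 F) + b • g := by
  have e00 := congrFun (congrFun hc 0) 0
  have e01 := congrFun (congrFun hc 0) 1
  have e10 := congrFun (congrFun hc 1) 0
  have e11 := congrFun (congrFun hc 1) 1
  simp only [Matrix.mul_apply, Fin.sum_univ_two] at e00 e01 e10 e11
  by_cases h1 : g 0 1 = 0
  · by_cases h2 : g 1 0 = 0
    · have h3 : g 0 0 ≠ g 1 1 := by
        intro h3
        apply hg (g 0 0)
        ext i j
        fin_cases i <;> fin_cases j <;> simp [h1, h2, h3]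
      have h3' : g 0 0 - g 1 1 ≠ 0 := sub_ne_zero.mpr h3
      refine ⟨h 0 0 - (h 0 0 - h 1 1) / (g 0 0 - g 1 1) * g 0 0,
        (h 0 0 - h 1 1) / (g 0 0 - g 1 1), ?_⟩
      have k1 : h 0 1 = 0 := by
        have : h 0 1 * (g 0 0 - g 1 1) = 0 := by rw [h1] at e01; linear_combination -e01
        rcases mul_eq_zero.mp this with h | h
        · exact h
        · exact absurd h h3'
      have k2 : h 1 0 = 0 := by
        have : h 1 0 * (g 0 0 - g 1 1) = 0 := by rw [h2] at e10; linear_combination e10
        rcases mul_eq_zero.mp this with h | h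
        · exact h
        · exact absurd h h3'
      ext i j
      fin_cases i <;> fin_cases j <;> simp [h1, h2, k1, k2] <;> field_simp <;> ring
    · refine ⟨h 0 0 - h 1 0 / g 1 0 * g 0 0, h 1 0 / g 1 0, ?_⟩
      ext i j
      fin_cases i <;> fin_cases j
      · simp
      · simp; field_simp; linear_combination e00
      · simp; field_simp
      · simp; field_simp; linear_combination e10
  · refine ⟨h 0 0 - h 0 1 / g 0 1 * g 0 0, h 0 1 / g 0 1, ?_⟩
    ext i j
    fin_cases i <;> fin_cases j
    · simp
    · simp; field_simp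
    · simp; field_simp; linear_combination -e00
    · simp; field_simp; linear_combination -e01

theorem commute_poly (g : M2 F) (a b a' b' : F) :
    (a • (1 : M2 F) + b • g) * (a' • (1 : M2 F) + b' • g) =
      (a' • (1 : M2 F) + b' • g) * (a • (1 : M2 F) + b • g) := by
  have : Commute (a • (1 : M2 F) + b • g) (a' • (1 : M2 F) + b' • g) := by
    apply Commute.add_left
    · exact (Commute.one_left _).smul_left a
    · apply Commute.smul_left
      apply Commute.add_right
      · exact (Commute.one_right _).smul_right a'
      · exact (Commute.refl g).smul_right b'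
  exact this

/-- matrices commuting with a non-scalar matrix commute with each other -/
theorem commute_of_commutant (g h k : M2 F) (hg : ∀ c : F, g ≠ c • (1 : M2 F))
    (hh : h * g = g * h) (hk : k * g = g * k) : h * k = k * h := by
  obtain ⟨a, b, rfl⟩ := commutant g h hg hh
  obtain ⟨a', b', rfl⟩ := commutant g k hg hk
  exact commute_poly g a b a' b'

theorem det_add_smul (g : M2 F) (a b : F) :
    (a • (1 : M2 F) + b • g).det = a ^ 2 + a * b * g.trace + b ^ 2 * g.det := by
  rw [eta_fin_two g]
  simp [Matrix.trace_fin_two, Matrix.det_fin_two, Matrix.one_fin_two, Matrix.smul_of]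
  ring

theorem trace_add_smul (g : M2 F) (a b : F) :
    (a • (1 : M2 F) + b • g).trace = 2 * a + b * g.trace := by
  rw [eta_fin_two g]
  simp [Matrix.trace_fin_two, Matrix.one_fin_two, Matrix.smul_of]
  ring

/-- a square-zero matrix has trace and determinant zero -/
theorem trace_det_of_sq_zero (N : M2 F) (h : N * N = 0) : N.trace = 0 ∧ N.det = 0 := by
  have hd : N.det = 0 := by
    have := congrArg Matrix.det h
    rw [Matrix.det_mul, Matrix.det_zero] at this
    exact mul_self_eq_zero.mp this
  refine ⟨?_, hd⟩
  have h1 := mul_self_eq N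
  rw [h, hd, zero_smul, sub_zero] at h1
  by_contra ht
  have h2 : N = 0 := by
    have := congrArg (fun X => (N.trace)⁻¹ • X) h1
    simp only [smul_zero, smul_smul, inv_mul_cancel₀ ht, one_smul] at this
    exact this.symm
  rw [h2] at ht
  exact ht (Matrix.trace_zero _ _)

theorem sq_zero_of_trace_det (N : M2 F) (h1 : N.trace = 0) (h2 : N.det = 0) : N * N = 0 := by
  rw [mul_self_eq, h1, h2, zero_smul, zero_smul, sub_zero]

/-- a nilpotent `2 × 2` matrix has square zero -/
theorem sq_zero_of_pow_eq_zero (N : M2 F) (k : ℕ) (h : N ^ k = 0) : N * N = 0 := by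
  have hd : N.det = 0 := by
    have := congrArg Matrix.det h
    rw [Matrix.det_pow, Matrix.det_zero] at this
    exact pow_eq_zero_iff (by
      rintro rfl
      rw [pow_zero] at h
      exact one_ne_zero h) |>.mp this
  have h1 : N * N = N.trace • N := by
    rw [mul_self_eq, hd, zero_smul, sub_zero]
  have h2 : ∀ j : ℕ, N ^ (j + 1) = N.trace ^ j • N := by
    intro j
    induction j with
    | zero => simp
    | succ j ih => rw [pow_succ, ih, smul_mul_assoc, h1, smul_smul, pow_succ]
  by_cases ht : N.trace = 0
  · rw [h1, ht, zero_smul]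
  · have hk : k ≠ 0 := by
      rintro rfl
      rw [pow_zero] at h
      exact one_ne_zero h
    obtain ⟨j, rfl⟩ := Nat.exists_eq_succ_of_ne_zero hk
    rw [Nat.succ_eq_add_one, h2 j] at h
    have hN : N = 0 := by
      have := congrArg (fun X => (N.trace ^ j)⁻¹ • X) h
      simp only [smul_zero, smul_smul, inv_mul_cancel₀ (pow_ne_zero j ht), one_smul] at this
      exact this
    rw [hN, mul_zero]

/-- powers of a unipotent matrix -/
theorem one_add_pow_of_sq_zero (N : M2 F) (h : N * N = 0) (k : ℕ) :
    (1 + N) ^ k = 1 + (k : F) • N := by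
  induction k with
  | zero => simp
  | succ k ih =>
    rw [pow_succ, ih, mul_add, mul_one, add_mul, one_mul, smul_mul_assoc, h, smul_zero, add_zero,
      Nat.cast_succ, add_smul, one_smul, add_assoc]

theorem mul_mul_of_det_zero (N M : M2 F) (hd : N.det = 0) : N * M * N = (N * M).trace • N := by
  rw [Matrix.det_fin_two] at hd
  ext i j
  fin_cases i <;> fin_cases j
  · simp [Matrix.mul_apply, Fin.sum_univ_two, Matrix.trace_fin_two]
    linear_combination (-(M 1 1)) * hd
  · simp [Matrix.mul_apply, Fin.sum_univ_two, Matrix.trace_fin_two]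
    linear_combination (M 0 1) * hd
  · simp [Matrix.mul_apply, Fin.sum_univ_two, Matrix.trace_fin_two]
    linear_combination (M 1 0) * hd
  · simp [Matrix.mul_apply, Fin.sum_univ_two, Matrix.trace_fin_two]
    linear_combination (-(M 0 0)) * hd

end SL2

end Cfsg.Agent.Lib.Lead
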