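import Mathlib
import Cfsg.Agent.Lib.Lead.SL2a

set_option autoImplicit false

namespace Cfsg.Agent.Lib.Lead

namespace SL2

open Matrix

variable {F : Type*} [Field F] {Γ : Type*} [Group Γ]

/-- the matrix of a group element -/
def mat (ι : Γ →* Matrix.SpecialLinearGroup (Fin 2) F) (g : Γ) : M2 F := (ι g : M2 F)

/-- the trace of a group element -/
def tr (ι : Γ →* Matrix.SpecialLinearGroup (Fin 2) F) (g : Γ) : F := (mat ι g).trace

section basic

variable (ι : Γ →* Matrix.SpecialLinearGroup (Fin 2) F)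

theorem mat_one : mat ι 1 = 1 := by
  unfold mat; rw [map_one]; rfl

theorem mat_mul (g h : Γ) : mat ι (g * h) = mat ι g * mat ι h := by
  unfold mat; rw [map_mul]; rfl

theorem mat_pow (g : Γ) (k : ℕ) : mat ι (g ^ k) = mat ι g ^ k := by
  unfold mat; rw [map_pow]; rfl

theorem det_mat (g : Γ) : (mat ι g).det = 1 := (ι g).2

theorem mat_inv (g : Γ) : mat ι g⁻¹ = tr ι g • (1 : M2 F) - mat ι g := by
  unfold tr mat
  rw [map_inv, Matrix.SpecialLinearGroup.coe_inv, Matrix.adjugate_fin_two]
  ext i j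
  fin_cases i <;> fin_cases j <;> simp [Matrix.trace_fin_two]

theorem mat_mul_self (g : Γ) : mat ι g * mat ι g = tr ι g • mat ι g - 1 := by
  rw [mul_self_eq, det_mat, one_smul]; rfl

theorem mat_injective (hι : Function.Injective ι) : Function.Injective (mat ι) := by
  intro g h hgh
  apply hι
  exact Subtype.ext hgh

theorem tr_one : tr ι 1 = 2 := by
  unfold tr; rw [mat_one, Matrix.trace_fin_two]; simp; norm_num

theorem tr_conj (g h : Γ) : tr ι (g * h * g⁻¹) = tr ι h := by
  unfold tr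
  rw [mat_mul, mat_mul, Matrix.trace_mul_cycle, ← mat_mul, ← mat_mul, inv_mul_cancel, one_mul]

theorem tr_inv (g : Γ) : tr ι g⁻¹ = tr ι g := by
  unfold tr
  rw [mat_inv, Matrix.trace_sub, Matrix.trace_smul, Matrix.trace_one]
  simp
  unfold tr
  ring

/-- the scalar elements -/
def Z : Subgroup Γ where
  carrier := {g | ∃ c : F, mat ι g = c • (1 : M2 F)}
  one_mem' := ⟨1, by rw [mat_one, one_smul]⟩
  mul_mem' := by
    rintro a b ⟨c, hc⟩ ⟨d, hd⟩
    refine ⟨c * d, ?_⟩
    rw [mat_mul, hc, hd, smul_mul_smul_comm, mul_one]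
  inv_mem' := by
    rintro a ⟨c, hc⟩
    refine ⟨c, ?_⟩
    rw [mat_inv]
    unfold tr
    rw [hc, Matrix.trace_smul, Matrix.trace_one]
    ext i j
    fin_cases i <;> fin_cases j <;> simp <;> ring

theorem mem_Z {g : Γ} : g ∈ Z ι ↔ ∃ c : F, mat ι g = c • (1 : M2 F) := Iff.rfl

theorem not_mem_Z {g : Γ} (hg : g ∉ Z ι) : ∀ c : F, mat ι g ≠ c • (1 : M2 F) := by
  intro c hc
  exact hg ⟨c, hc⟩

theorem Z_le_center (hι : Function.Injective ι) : Z ι ≤ Subgroup.center Γ := by
  rintro z ⟨c, hc⟩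
  rw [Subgroup.mem_center_iff]
  intro g
  apply mat_injective ι hι
  rw [mat_mul, mat_mul, hc]
  simp

theorem Z_normal (hι : Function.Injective ι) : (Z ι).Normal := by
  constructor
  intro z hz g
  have := Subgroup.mem_center_iff.mp (Z_le_center ι hι hz) g
  rw [this, mul_inv_cancel_right]
  exact hz

/-- centralizers of non-scalar elements are commutative -/
theorem centralizer_comm (hι : Function.Injective ι) {g : Γ} (hg : g ∉ Z ι) {h k : Γ}
    (hh : h * g = g * h) (hk : k * g = g * k) : h * k = k * h := by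
  apply mat_injective ι hι
  rw [mat_mul, mat_mul]
  apply commute_of_commutant (mat ι g) _ _ (not_mem_Z ι hg)
  · rw [← mat_mul, ← mat_mul, hh]
  · rw [← mat_mul, ← mat_mul, hk]

/-- the form of the elements commuting with a non-scalar element -/
theorem exists_mat_eq {g : Γ} (hg : g ∉ Z ι) {h : Γ}
    (hh : h * g = g * h) : ∃ a b : F, mat ι h = a • (1 : M2 F) + b • mat ι g := by
  apply commutant (mat ι g) _ (not_mem_Z ι hg)
  rw [← mat_mul, ← mat_mul, hh]

end basic

end SL2

end Cfsg.Agent.Lib.Lead
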