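import Mathlib
import Cfsg.Agent.Lib.Lead.SL2b

set_option autoImplicit false

namespace Cfsg.Agent.Lib.Lead

namespace SL2

open Matrix

variable {F : Type*} [Field F] {Γ : Type*} [Group Γ]

section nilpart

variable (ι : Γ →* Matrix.SpecialLinearGroup (Fin 2) F)

/-- the matrix of `g` minus one -/
def nil (g : Γ) : M2 F := mat ι g - 1

theorem mat_eq_one_add_nil (g : Γ) : mat ι g = 1 + nil ι g := by
  unfold nil; abel

theorem trace_nil (g : Γ) : (nil ι g).trace = tr ι g - 2 := by
  unfold nil tr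
  rw [Matrix.trace_sub, Matrix.trace_one]
  simp

theorem det_nil (g : Γ) : (nil ι g).det = 2 - tr ι g := by
  have h := det_mat ι g
  unfold nil tr
  rw [Matrix.det_fin_two] at h ⊢
  rw [Matrix.trace_fin_two]
  simp only [Matrix.sub_apply, Matrix.one_apply_eq, Matrix.one_apply_ne, ne_eq, Fin.reduceEq,
    not_false_eq_true, sub_zero]
  linear_combination h

theorem nil_mul_self_of_tr {g : Γ} (h : tr ι g = 2) : nil ι g * nil ι g = 0 :=
  sq_zero_of_trace_det _ (by rw [trace_nil, h, sub_self]) (by rw [det_nil, h, sub_self])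

theorem nil_one : nil ι 1 = 0 := by
  unfold nil; rw [mat_one, sub_self]

theorem nil_eq_zero_iff (hι : Function.Injective ι) {g : Γ} : nil ι g = 0 ↔ g = 1 := by
  constructor
  · intro h
    apply mat_injective ι hι
    rw [mat_one]
    unfold nil at h
    exact sub_eq_zero.mp h
  · rintro rfl
    exact nil_one ι

end nilpart

section charp

variable (p : ℕ) [Fact p.Prime] [CharP F p]
variable (ι : Γ →* Matrix.SpecialLinearGroup (Fin 2) F)

theorem two_ne_zero_of_odd (hp2 : p ≠ 2) : (2 : F) ≠ 0 := by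
  intro h
  have h2 : ((2 : ℕ) : F) = 0 := by exact_mod_cast h
  rw [CharP.cast_eq_zero_iff F p] at h2
  have := (Nat.prime_dvd_prime_iff_eq (Fact.out : p.Prime) Nat.prime_two).mp h2
  exact hp2 this

theorem pow_p_eq_one_of_tr_eq_two (hι : Function.Injective ι) {g : Γ} (h : tr ι g = 2) :
    g ^ p = 1 := by
  apply mat_injective ι hι
  rw [mat_pow, mat_one, mat_eq_one_add_nil, one_add_pow_of_sq_zero _ (nil_mul_self_of_tr ι h),
    CharP.cast_eq_zero, zero_smul, add_zero]

theorem nil_mul_self_of_pow {g : Γ} {k : ℕ} (h : g ^ (p ^ k) = 1) : nil ι g * nil ι g = 0 := by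
  apply sq_zero_of_pow_eq_zero _ (p ^ k)
  unfold nil
  rw [sub_pow_char_pow_of_commute p k (Commute.one_right _), one_pow, ← mat_pow, h, mat_one,
    sub_self]

theorem tr_eq_two_of_pow {g : Γ} {k : ℕ} (h : g ^ (p ^ k) = 1) : tr ι g = 2 := by
  have := (trace_det_of_sq_zero _ (nil_mul_self_of_pow p ι h)).1
  rw [trace_nil] at this
  exact sub_eq_zero.mp this

theorem tr_eq_two_of_pow_p {g : Γ} (h : g ^ p = 1) : tr ι g = 2 :=
  tr_eq_two_of_pow p ι (k := 1) (by rwa [pow_one])

theorem not_mem_Z_of_tr_two (hp2 : p ≠ 2) (hι : Function.Injective ι) {u : Γ} (h : tr ι u = 2)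
    (hu : u ≠ 1) : u ∉ Z ι := by
  rintro ⟨c, hc⟩
  apply hu
  apply mat_injective ι hι
  rw [mat_one, hc]
  unfold tr at h
  rw [hc, Matrix.trace_smul, Matrix.trace_one] at h
  simp only [Fintype.card_fin, Nat.cast_ofNat, smul_eq_mul] at h
  have h2 := two_ne_zero_of_odd (F := F) p hp2
  have : c = 1 := by
    have h3 : (c - 1) * 2 = 0 := by linear_combination h
    rcases mul_eq_zero.mp h3 with h4 | h4
    · exact sub_eq_zero.mp h4
    · exact absurd h4 h2
  rw [this, one_smul]

/-- elements of `Z` of `p`-power order are trivial -/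
theorem eq_one_of_mem_Z_of_tr_two (hp2 : p ≠ 2) (hι : Function.Injective ι) {u : Γ}
    (h : tr ι u = 2) (hu : u ∈ Z ι) : u = 1 := by
  by_contra h1
  exact not_mem_Z_of_tr_two p ι hp2 hι h h1 hu

/-- elements commuting with a nontrivial unipotent element have trace `± 2` -/
theorem tr_of_commute_unipotent {u h : Γ} (hu : tr ι u = 2) (huZ : u ∉ Z ι)
    (hh : h * u = u * h) : tr ι h = 2 ∨ tr ι h = -2 := by
  obtain ⟨a, b, hab⟩ := exists_mat_eq ι huZ hh
  have h1 : tr ι h = 2 * a + b * 2 := by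
    unfold tr at hu ⊢
    rw [hab, trace_add_smul, hu]
  have h2 : (a + b) ^ 2 = 1 := by
    have := det_mat ι h
    rw [hab, det_add_smul, det_mat] at this
    unfold tr at hu
    rw [hu] at this
    linear_combination this
  have h3 : (a + b - 1) * (a + b + 1) = 0 := by linear_combination h2
  rcases mul_eq_zero.mp h3 with h4 | h4
  · left; rw [h1]; linear_combination 2 * h4
  · right; rw [h1]; linear_combination 2 * h4

/-- an element of trace `-2` has `p`-th power equal to the scalar `-1` -/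
theorem mat_pow_p_of_tr_neg_two (hp2 : p ≠ 2) {h : Γ} (hh : tr ι h = -2) :
    mat ι (h ^ p) = (-1 : F) • (1 : M2 F) := by
  have hd := det_mat ι h
  set N : M2 F := -mat ι h - 1 with hN
  have hNt : N.trace = 0 := by
    rw [hN, Matrix.trace_sub, Matrix.trace_neg, Matrix.trace_one]
    unfold tr at hh
    rw [hh]; simp
  have hNd : N.det = 0 := by
    unfold tr at hh
    rw [Matrix.trace_fin_two] at hh
    rw [Matrix.det_fin_two] at hd
    rw [hN, Matrix.det_fin_two]
    simp only [Matrix.sub_apply, Matrix.neg_apply, Matrix.one_apply_eq, Matrix.one_apply_ne,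
      ne_eq, Fin.reduceEq, not_false_eq_true, sub_zero]
    linear_combination hd + hh
  have hsq := sq_zero_of_trace_det N hNt hNd
  have hm : mat ι h = (-1 : F) • (1 + N) := by
    rw [hN]; simp
  have hodd : Odd p := (Fact.out : p.Prime).odd_of_ne_two hp2
  rw [mat_pow, hm, smul_pow, one_add_pow_of_sq_zero N hsq, CharP.cast_eq_zero, zero_smul, add_zero,
    hodd.neg_one_pow]

theorem pow_p_mem_Z_of_tr_neg_two (hp2 : p ≠ 2) {h : Γ} (hh : tr ι h = -2) : h ^ p ∈ Z ι :=
  ⟨-1, mat_pow_p_of_tr_neg_two p ι hp2 hh⟩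

theorem tr_mul_of_mem_Z {z h : Γ} {c : F} (hz : mat ι z = c • (1 : M2 F)) :
    tr ι (z * h) = c * tr ι h := by
  unfold tr
  rw [mat_mul, hz, smul_mul_assoc, one_mul, Matrix.trace_smul, smul_eq_mul]

end charp

section punip

variable (p : ℕ)
variable (ι : Γ →* Matrix.SpecialLinearGroup (Fin 2) F)

/-- the `p`-elements commuting with a non-scalar element -/
def punip (hι : Function.Injective ι) (u : Γ) (hu : u ∉ Z ι) : Subgroup Γ where
  carrier := {h | h * u = u * h ∧ h ^ p = 1}
  one_mem' := ⟨by rw [one_mul, mul_one], one_pow _⟩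
  mul_mem' := by
    rintro a b ⟨ha, ha'⟩ ⟨hb, hb'⟩
    refine ⟨by rw [mul_assoc, hb, ← mul_assoc, ha, mul_assoc], ?_⟩
    have hc : Commute a b := centralizer_comm ι hι hu ha hb
    rw [hc.mul_pow, ha', hb', one_mul]
  inv_mem' := by
    rintro a ⟨ha, ha'⟩
    refine ⟨?_, by rw [inv_pow, ha', inv_one]⟩
    have : a⁻¹ * (a * u) * a⁻¹ = a⁻¹ * (u * a) * a⁻¹ := by rw [ha]
    rw [inv_mul_cancel_left, mul_assoc, mul_assoc, mul_inv_cancel, mul_one] at this
    exact this.symm

theorem mem_punip (hι : Function.Injective ι) (u : Γ) (hu : u ∉ Z ι) {h : Γ} :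
    h ∈ punip p ι hι u hu ↔ h * u = u * h ∧ h ^ p = 1 := Iff.rfl

theorem punip_isPGroup (hι : Function.Injective ι) (u : Γ) (hu : u ∉ Z ι) :
    IsPGroup p (punip p ι hι u hu) := by
  rintro ⟨h, hh⟩
  refine ⟨1, ?_⟩
  rw [pow_one]
  apply Subtype.ext
  simp only [Subgroup.coe_pow, Subgroup.coe_one]
  exact hh.2

end punip

end SL2

end Cfsg.Agent.Lib.Lead
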