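import Mathlib
import Cfsg.Agent.Lib.Lead.SL2c

set_option autoImplicit false

namespace Cfsg.Agent.Lib.Lead

namespace SL2

open Matrix

variable {F : Type*} [Field F] {Γ : Type*} [Group Γ]

section cen

variable (ι : Γ →* Matrix.SpecialLinearGroup (Fin 2) F)

/-- the centralizer of an element -/
def cen (g : Γ) : Subgroup Γ := Subgroup.centralizer {g}

omit [Field F] in
theorem mem_cen {g h : Γ} : h ∈ cen g ↔ h * g = g * h := by
  unfold cen
  rw [Subgroup.mem_centralizer_singleton_iff]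

omit [Field F] in
theorem self_mem_cen (g : Γ) : g ∈ cen g := mem_cen.mpr rfl

theorem Z_le_cen (hι : Function.Injective ι) (g : Γ) : Z ι ≤ cen g := by
  intro z hz
  rw [mem_cen]
  exact (Subgroup.mem_center_iff.mp (Z_le_center ι hι hz) g).symm

theorem cen_eq_of_mem (hι : Function.Injective ι) {g y : Γ} (hg : g ∉ Z ι) (hy : y ∉ Z ι)
    (h : y ∈ cen g) : cen y = cen g := by
  rw [mem_cen] at h
  ext x
  rw [mem_cen, mem_cen]
  constructor
  · intro hx
    -- x and g both commute with y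
    exact centralizer_comm ι hι hy hx h.symm
  · intro hx
    exact centralizer_comm ι hι hg hx h

omit [Field F] in
theorem mem_cen_conj {g h γ : Γ} : h ∈ cen (γ * g * γ⁻¹) ↔ γ⁻¹ * h * γ ∈ cen g := by
  rw [mem_cen, mem_cen]
  constructor
  · intro H
    have : γ⁻¹ * (h * (γ * g * γ⁻¹)) * γ = γ⁻¹ * (γ * g * γ⁻¹ * h) * γ := by rw [H]
    simp only [mul_assoc, inv_mul_cancel_left, inv_mul_cancel, mul_one] at this ⊢
    exact this
  · intro H
    have : γ * (γ⁻¹ * h * γ * g) * γ⁻¹ = γ * (g * (γ⁻¹ * h * γ)) * γ⁻¹ := by rw [H]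
    simp only [mul_assoc, mul_inv_cancel_left, mul_inv_cancel, mul_one] at this ⊢
    exact this

theorem conj_mem_Z_iff (hι : Function.Injective ι) {g γ : Γ} : γ * g * γ⁻¹ ∈ Z ι ↔ g ∈ Z ι := by
  constructor
  · intro h
    have := (Z_normal ι hι).conj_mem _ h γ⁻¹
    simpa [mul_assoc] using this
  · intro h
    exact (Z_normal ι hι).conj_mem _ h γ

/-- membership in the normalizer of the centralizer of a non-scalar element -/
theorem mem_normalizer_cen_iff (hι : Function.Injective ι) {g : Γ} (hg : g ∉ Z ι) {γ : Γ} :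
    γ ∈ Subgroup.normalizer (cen g : Set Γ) ↔ γ * g * γ⁻¹ ∈ cen g := by
  rw [Subgroup.mem_normalizer_iff]
  constructor
  · intro h
    exact (h g).mp (self_mem_cen g)
  · intro h x
    have hy : γ * g * γ⁻¹ ∉ Z ι := fun hh => hg ((conj_mem_Z_iff ι hι).mp hh)
    have e := cen_eq_of_mem ι hι hg hy h
    have h1 : γ⁻¹ * (γ * x * γ⁻¹) * γ = x := by group
    conv_rhs => rw [← e, mem_cen_conj, h1]

/-- generalization: any non-scalar element of the centralizer can be used as a test element -/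
theorem mem_normalizer_cen_of (hι : Function.Injective ι) {g : Γ} (hg : g ∉ Z ι) {b γ : Γ}
    (hb : b ∈ cen g) (hbZ : b ∉ Z ι) (h : γ * b * γ⁻¹ ∈ cen g) :
    γ ∈ Subgroup.normalizer (cen g : Set Γ) := by
  have e := cen_eq_of_mem ι hι hg hbZ hb
  rw [← e] at h ⊢
  exact (mem_normalizer_cen_iff ι hι hbZ).mpr h

end cen

section sylow

variable (p : ℕ) [Fact p.Prime] [CharP F p]
variable (ι : Γ →* Matrix.SpecialLinearGroup (Fin 2) F)

theorem sylow_tr (P : Sylow p Γ) {u : Γ} (hu : u ∈ P) : tr ι u = 2 := by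
  obtain ⟨k, hk⟩ := P.2 ⟨u, hu⟩
  apply tr_eq_two_of_pow p ι (k := k)
  have := congrArg Subtype.val hk
  simpa using this

theorem sylow_pow_p (hι : Function.Injective ι) (P : Sylow p Γ) {u : Γ} (hu : u ∈ P) :
    u ^ p = 1 :=
  pow_p_eq_one_of_tr_eq_two p ι hι (sylow_tr p ι P hu)

theorem sylow_not_mem_Z (hp2 : p ≠ 2) (hι : Function.Injective ι) (P : Sylow p Γ) {u : Γ}
    (hu : u ∈ P) (hu1 : u ≠ 1) : u ∉ Z ι :=
  not_mem_Z_of_tr_two p ι hp2 hι (sylow_tr p ι P hu) hu1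

variable [Finite Γ]

omit [CharP F p] in
theorem exists_central (P : Sylow p Γ) (hP : (P : Subgroup Γ) ≠ ⊥) :
    ∃ w ∈ P, w ≠ 1 ∧ ∀ u ∈ P, u * w = w * u := by
  haveI : Nontrivial (P : Subgroup Γ) := (Subgroup.nontrivial_iff_ne_bot _).mpr hP
  haveI := IsPGroup.center_nontrivial P.2
  obtain ⟨⟨w, hw⟩, hw1⟩ := exists_ne (1 : Subgroup.center (P : Subgroup Γ))
  refine ⟨(w : Γ), w.2, ?_, ?_⟩
  · intro h
    apply hw1
    apply Subtype.ext
    apply Subtype.ext
    exact h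
  · intro u hu
    have := Subgroup.mem_center_iff.mp hw ⟨u, hu⟩
    exact congrArg Subtype.val this

theorem sylow_eq_punip (hp2 : p ≠ 2) (hι : Function.Injective ι) (P : Sylow p Γ) {w : Γ}
    (hw : w ∈ P) (hw1 : w ≠ 1) (hc : ∀ u ∈ P, u * w = w * u) :
    punip p ι hι w (sylow_not_mem_Z p ι hp2 hι P hw hw1) = (P : Subgroup Γ) := by
  apply P.is_maximal' (punip_isPGroup p ι hι w _)
  intro u hu
  exact ⟨hc u hu, sylow_pow_p p ι hι P hu⟩

theorem sylow_commute (hp2 : p ≠ 2) (hι : Function.Injective ι) (P : Sylow p Γ) {u v : Γ}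
    (hu : u ∈ P) (hv : v ∈ P) : u * v = v * u := by
  by_cases hP : (P : Subgroup Γ) = ⊥
  · have hu' : u ∈ (P : Subgroup Γ) := hu
    have hv' : v ∈ (P : Subgroup Γ) := hv
    rw [hP, Subgroup.mem_bot] at hu' hv'
    rw [hu', hv']
  · obtain ⟨w, hw, hw1, hc⟩ := exists_central p P hP
    exact centralizer_comm ι hι (sylow_not_mem_Z p ι hp2 hι P hw hw1) (hc u hu) (hc v hv)

theorem mem_sylow_of_commute (hp2 : p ≠ 2) (hι : Function.Injective ι) (P : Sylow p Γ) {u v : Γ}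
    (hu : u ∈ P) (hu1 : u ≠ 1) (hv : v * u = u * v) (hvp : v ^ p = 1) : v ∈ P := by
  have hP : (P : Subgroup Γ) ≠ ⊥ := by
    intro h
    have hu' : u ∈ (P : Subgroup Γ) := hu
    rw [h, Subgroup.mem_bot] at hu'
    exact hu1 hu'
  obtain ⟨w, hw, hw1, hc⟩ := exists_central p P hP
  have e := sylow_eq_punip p ι hp2 hι P hw hw1 hc
  have : v ∈ punip p ι hι w (sylow_not_mem_Z p ι hp2 hι P hw hw1) := by
    refine ⟨?_, hvp⟩
    exact centralizer_comm ι hι (sylow_not_mem_Z p ι hp2 hι P hu hu1) hv (hc u hu).symm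
  rw [e] at this
  exact this

/-- Sylow `p`-subgroups are TI -/
theorem sylow_TI (hp2 : p ≠ 2) (hι : Function.Injective ι) (P Q : Sylow p Γ) {u : Γ}
    (hu : u ∈ P) (hu' : u ∈ Q) (hu1 : u ≠ 1) : P = Q := by
  have hPQ : (P : Subgroup Γ) ≤ Q := by
    intro v hv
    exact mem_sylow_of_commute p ι hp2 hι Q hu' hu1 (sylow_commute p ι hp2 hι P hv hu)
      (sylow_pow_p p ι hι P hv)
  have := P.is_maximal' Q.2 hPQ
  exact Sylow.ext this.symm

/-- a `p`-element normalizing a Sylow `p`-subgroup lies in it -/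
theorem mem_sylow_of_mem_normalizer (P : Sylow p Γ) {u : Γ}
    (hu : u ∈ Subgroup.normalizer (P : Set Γ)) (hup : u ^ p = 1) : u ∈ P := by
  have hz : IsPGroup p (Subgroup.zpowers u) := by
    rintro ⟨x, hx⟩
    refine ⟨1, ?_⟩
    obtain ⟨k, rfl⟩ := Subgroup.mem_zpowers_iff.mp hx
    apply Subtype.ext
    simp only [pow_one, Subgroup.coe_pow, Subgroup.coe_one]
    rw [← zpow_natCast, ← _root_.zpow_mul, mul_comm, _root_.zpow_mul, zpow_natCast, hup, _root_.one_zpow]
  have := IsPGroup.inf_normalizer_sylow hz P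
  have h1 : u ∈ Subgroup.zpowers u ⊓ Subgroup.normalizer (P : Set Γ) :=
    ⟨Subgroup.mem_zpowers u, hu⟩
  rw [this] at h1
  exact h1.2

/-- for `u ∈ P^#`, the normalizer of `P` is the set of `γ` conjugating `u` into `P` -/
theorem mem_normalizer_sylow_iff (hp2 : p ≠ 2) (hι : Function.Injective ι) (P : Sylow p Γ) {u : Γ}
    (hu : u ∈ P) (hu1 : u ≠ 1) {γ : Γ} :
    γ ∈ Subgroup.normalizer (P : Set Γ) ↔ γ * u * γ⁻¹ ∈ P := by
  constructor
  · intro h
    exact (Subgroup.mem_normalizer_iff.mp h u).mp hu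
  · intro h
    rw [← Sylow.smul_eq_iff_mem_normalizer]
    have h1 : γ * u * γ⁻¹ ∈ ((γ • P : Sylow p Γ) : Subgroup Γ) := by
      rw [Sylow.coe_subgroup_smul]
      have : γ * u * γ⁻¹ = MulAut.conj γ • u := by simp [MulAut.smul_def]
      rw [this, Subgroup.smul_mem_pointwise_smul_iff]
      exact hu
    have h2 : γ * u * γ⁻¹ ≠ 1 := by
      intro h3
      apply hu1
      have : γ⁻¹ * (γ * u * γ⁻¹) * γ = u := by group
      rw [← this, h3]; group
    exact sylow_TI p ι hp2 hι _ _ h1 h h2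

end sylow

end SL2

end Cfsg.Agent.Lib.Lead
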