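import Mathlib
import Cfsg.Agent.Lib.Lead.SL2d

set_option autoImplicit false

namespace Cfsg.Agent.Lib.Lead

namespace SL2

open Matrix

variable {F : Type*} [Field F] {Γ : Type*} [Group Γ]

section sylowcen

variable (p : ℕ) [Fact p.Prime] [CharP F p]
variable (ι : Γ →* Matrix.SpecialLinearGroup (Fin 2) F)
variable [Finite Γ]

theorem sylow_le_cen (hp2 : p ≠ 2) (hι : Function.Injective ι) (P : Sylow p Γ) {w : Γ}
    (hw : w ∈ P) : (P : Subgroup Γ) ≤ cen w := by
  intro u hu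
  rw [mem_cen]
  exact sylow_commute p ι hp2 hι P hu hw

theorem cen_sylow_elt (hp2 : p ≠ 2) (hι : Function.Injective ι) (P : Sylow p Γ) {w u : Γ}
    (hw : w ∈ P) (hw1 : w ≠ 1) (hu : u ∈ P) (hu1 : u ≠ 1) : cen u = cen w :=
  cen_eq_of_mem ι hι (sylow_not_mem_Z p ι hp2 hι P hw hw1) (sylow_not_mem_Z p ι hp2 hι P hu hu1)
    (sylow_le_cen p ι hp2 hι P hw hu)

theorem mem_sylow_iff_of_mem_cen (hp2 : p ≠ 2) (hι : Function.Injective ι) (P : Sylow p Γ)
    {w h : Γ} (hw : w ∈ P) (hw1 : w ≠ 1) (hh : h ∈ cen w) : h ∈ P ↔ h ^ p = 1 := by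
  constructor
  · intro h1
    exact sylow_pow_p p ι hι P h1
  · intro h1
    exact mem_sylow_of_commute p ι hp2 hι P hw hw1 (mem_cen.mp hh) h1

omit [Finite Γ] in
theorem conj_pow_eq_one {γ u : Γ} {k : ℕ} (h : u ^ k = 1) : (γ * u * γ⁻¹) ^ k = 1 := by
  rw [conj_pow, h, mul_one, mul_inv_cancel]

theorem normalizer_cen_eq (hp2 : p ≠ 2) (hι : Function.Injective ι) (P : Sylow p Γ) {w : Γ}
    (hw : w ∈ P) (hw1 : w ≠ 1) :
    Subgroup.normalizer (cen w : Set Γ) = Subgroup.normalizer (P : Set Γ) := by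
  ext γ
  rw [mem_normalizer_cen_iff ι hι (sylow_not_mem_Z p ι hp2 hι P hw hw1),
    mem_normalizer_sylow_iff p ι hp2 hι P hw hw1]
  constructor
  · intro h
    exact (mem_sylow_iff_of_mem_cen p ι hp2 hι P hw hw1 h).mpr
      (conj_pow_eq_one (sylow_pow_p p ι hι P hw))
  · intro h
    exact sylow_le_cen p ι hp2 hι P hw h

/-- `C(w) = Z × P` -/
theorem card_cen_sylow (hp2 : p ≠ 2) (hι : Function.Injective ι) (P : Sylow p Γ) {w : Γ}
    (hw : w ∈ P) (hw1 : w ≠ 1) :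
    Nat.card (cen w) = Nat.card (Z ι) * Nat.card (P : Subgroup Γ) := by
  have hwZ := sylow_not_mem_Z p ι hp2 hι P hw hw1
  rw [← Nat.card_prod]
  symm
  let f : (Z ι) × (P : Subgroup Γ) → cen w := fun x =>
    ⟨(x.1 : Γ) * (x.2 : Γ), (cen w).mul_mem (Z_le_cen ι hι w x.1.2)
      (sylow_le_cen p ι hp2 hι P hw x.2.2)⟩
  have hf : Function.Bijective f := by
    constructor
    · rintro ⟨⟨z, hz⟩, ⟨h, hh⟩⟩ ⟨⟨z', hz'⟩, ⟨h', hh'⟩⟩ e
      have e' : z * h = z' * h' := congrArg Subtype.val e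
      have e2 : z'⁻¹ * z = h' * h⁻¹ := by
        have : z'⁻¹ * (z * h) * h⁻¹ = z'⁻¹ * (z' * h') * h⁻¹ := by rw [e']
        rw [inv_mul_cancel_left, ← mul_assoc, mul_inv_cancel_right] at this
        exact this
      have h3 : h' * h⁻¹ ∈ P := (P : Subgroup Γ).mul_mem hh' ((P : Subgroup Γ).inv_mem hh)
      have h4 : z'⁻¹ * z ∈ Z ι := (Z ι).mul_mem ((Z ι).inv_mem hz') hz
      rw [e2] at h4
      have h5 := eq_one_of_mem_Z_of_tr_two p ι hp2 hι (sylow_tr p ι P h3) h4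
      have h6 : h' = h := by
        rw [mul_inv_eq_one] at h5
        exact h5
      have h7 : z' = z := by
        rw [h5, inv_mul_eq_one] at e2
        exact e2
      subst h6
      subst h7
      rfl
    · rintro ⟨h, hh⟩
      have hc := mem_cen.mp hh
      rcases tr_of_commute_unipotent ι (sylow_tr p ι P hw) hwZ hc with h2 | h2
      · have h3 : h ∈ P :=
          (mem_sylow_iff_of_mem_cen p ι hp2 hι P hw hw1 hh).mpr
            (pow_p_eq_one_of_tr_eq_two p ι hι h2)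
        refine ⟨(⟨1, (Z ι).one_mem⟩, ⟨h, h3⟩), ?_⟩
        apply Subtype.ext
        simp [f]
      · have hz := mat_pow_p_of_tr_neg_two p ι hp2 h2
        have hzZ : h ^ p ∈ Z ι := ⟨-1, hz⟩
        have h3 : tr ι (h ^ p * h) = 2 := by
          rw [tr_mul_of_mem_Z ι hz, h2]; ring
        have h4 : h ^ p * h ∈ cen w := (cen w).mul_mem (Z_le_cen ι hι w hzZ) hh
        have h5 : h ^ p * h ∈ P :=
          (mem_sylow_iff_of_mem_cen p ι hp2 hι P hw hw1 h4).mpr
            (pow_p_eq_one_of_tr_eq_two p ι hι h3)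
        have h6 : h ^ p * h ^ p = 1 := by
          apply mat_injective ι hι
          rw [mat_mul, hz, mat_one]
          simp
        refine ⟨(⟨h ^ p, hzZ⟩, ⟨h ^ p * h, h5⟩), ?_⟩
        apply Subtype.ext
        simp only [f]
        rw [← mul_assoc, h6, one_mul]
  exact Nat.card_congr (Equiv.ofBijective f hf)

end sylowcen

end SL2

end Cfsg.Agent.Lib.Lead
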