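import Mathlib
import Cfsg.Agent.Lib.Lead.SL2e

set_option autoImplicit false

namespace Cfsg.Agent.Lib.Lead

namespace SL2

open Matrix

variable {F : Type*} [Field F] {Γ : Type*} [Group Γ]

section general

variable [Finite Γ]

open Classical in
theorem natCard_subgroup_eq_filter [Fintype Γ] (H : Subgroup Γ) :
    Nat.card H = (Finset.univ.filter (fun x => x ∈ H)).card := by
  rw [Nat.card_eq_fintype_card, Fintype.card_subtype]

open Classical in
/-- fibre bound: if conjugation by elements of `N` maps `g` into a finite set `T`, then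
`|N| ≤ |C(g)| |T|` -/
theorem card_le_of_conj_maps (N : Subgroup Γ) (g : Γ) (T : Finset Γ)
    (h : ∀ γ ∈ N, γ * g * γ⁻¹ ∈ T) : Nat.card N ≤ Nat.card (cen g) * T.card := by
  haveI : Fintype Γ := Fintype.ofFinite Γ
  rw [natCard_subgroup_eq_filter, natCard_subgroup_eq_filter]
  apply Finset.card_le_mul_card_image_of_maps_to (f := fun γ => γ * g * γ⁻¹)
  · intro γ hγ
    rw [Finset.mem_filter] at hγ
    exact h γ hγ.2
  · intro b _
    by_cases hne : (Finset.filter (fun γ => γ * g * γ⁻¹ = b)
        (Finset.univ.filter (fun x => x ∈ N))).Nonempty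
    · obtain ⟨γ₀, hγ₀⟩ := hne
      rw [Finset.mem_filter, Finset.mem_filter] at hγ₀
      apply Finset.card_le_card_of_injOn (fun γ => γ₀⁻¹ * γ)
      · intro γ hγ
        rw [Finset.mem_coe, Finset.mem_filter, Finset.mem_filter] at hγ
        rw [Finset.mem_coe, Finset.mem_filter]
        refine ⟨Finset.mem_univ _, ?_⟩
        rw [mem_cen]
        have e : γ * g * γ⁻¹ = γ₀ * g * γ₀⁻¹ := by rw [hγ.2, hγ₀.2]
        have : γ₀⁻¹ * (γ * g * γ⁻¹) * γ = γ₀⁻¹ * (γ₀ * g * γ₀⁻¹) * γ := by rw [e]
        simp only [mul_assoc, inv_mul_cancel_left, inv_mul_cancel, mul_one] at this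
        simp only [mul_assoc]
        exact this
      · intro γ _ γ' _ e
        exact mul_left_cancel e
    · rw [Finset.not_nonempty_iff_eq_empty] at hne
      rw [hne, Finset.card_empty]
      exact Nat.zero_le _

end general

section stype

variable (ι : Γ →* Matrix.SpecialLinearGroup (Fin 2) F)

/-- an element of `C(g)` with the same trace as `g` is `g` or `g⁻¹`, if `tr(g)² ≠ 4` -/
theorem eq_or_eq_inv_of_tr_eq (hι : Function.Injective ι) (h2 : (2 : F) ≠ 0) {g y : Γ}
    (hg : g ∉ Z ι)
    (ht : tr ι g ^ 2 ≠ 4) (hy : y ∈ cen g) (hty : tr ι y = tr ι g) : y = g ∨ y = g⁻¹ := by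
  obtain ⟨a, b, hab⟩ := exists_mat_eq ι hg (mem_cen.mp hy)
  have E1 : 2 * a + b * tr ι g - tr ι g = 0 := by
    have : tr ι y = 2 * a + b * tr ι g := by
      unfold tr
      rw [hab, trace_add_smul]
    rw [← this, hty, sub_self]
  have E2 : a ^ 2 + a * b * tr ι g + b ^ 2 - 1 = 0 := by
    have := det_mat ι y
    rw [hab, det_add_smul, det_mat] at this
    unfold tr
    linear_combination this
  have E3 : (1 - b ^ 2) * (tr ι g ^ 2 - 4) = 0 := by
    linear_combination 4 * E2 - (2 * a + tr ι g * (1 - b) + 2 * b * tr ι g) * E1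
  have hb : (1 - b) * (1 + b) = 0 := by
    rcases mul_eq_zero.mp E3 with h | h
    · linear_combination h
    · exact absurd (sub_eq_zero.mp h) ht
  rcases mul_eq_zero.mp hb with h | h
  · left
    have hb1 : b = 1 := by linear_combination -h
    have ha : a = 0 := by
      have : 2 * a = 0 := by rw [hb1] at E1; linear_combination E1
      rcases mul_eq_zero.mp this with h3 | h3
      · exact absurd h3 h2
      · exact h3
    apply mat_injective ι hι
    rw [hab, ha, hb1, zero_smul, one_smul, zero_add]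
  · right
    have hb1 : b = -1 := by linear_combination h
    have ha : a = tr ι g := by
      have : 2 * (a - tr ι g) = 0 := by rw [hb1] at E1; linear_combination E1
      rcases mul_eq_zero.mp this with h3 | h3
      · exact absurd h3 h2
      · exact sub_eq_zero.mp h3
    apply mat_injective ι hι
    rw [hab, ha, hb1, mat_inv]
    simp [sub_eq_add_neg]

open Classical in
/-- `|N(C(g)) : C(g)| ≤ 2` for elements with `tr(g)² ≠ 4` -/
theorem card_normalizer_cen_stype [Finite Γ] (hι : Function.Injective ι) (h2 : (2 : F) ≠ 0)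
    {g : Γ} (hg : g ∉ Z ι) (ht : tr ι g ^ 2 ≠ 4) :
    Nat.card (Subgroup.normalizer (cen g : Set Γ)) = Nat.card (cen g) ∨
      Nat.card (Subgroup.normalizer (cen g : Set Γ)) = 2 * Nat.card (cen g) := by
  have h1 : Nat.card (Subgroup.normalizer (cen g : Set Γ)) ≤ Nat.card (cen g) * ({g, g⁻¹} : Finset Γ).card := by
    apply card_le_of_conj_maps
    intro γ hγ
    have hy := (mem_normalizer_cen_iff ι hι hg).mp hγ
    rcases eq_or_eq_inv_of_tr_eq ι hι h2 hg ht hy (tr_conj ι γ g) with h | h
    · rw [h]; simp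
    · rw [h]; simp
  have h3 : ({g, g⁻¹} : Finset Γ).card ≤ 2 := Finset.card_le_two
  have h4 : Nat.card (cen g) ∣ Nat.card (Subgroup.normalizer (cen g : Set Γ)) :=
    Subgroup.card_dvd_of_le Subgroup.le_normalizer
  obtain ⟨m, hm⟩ := h4
  have hpos : 0 < Nat.card (Subgroup.normalizer (cen g : Set Γ)) := Nat.card_pos
  have hpos' : 0 < Nat.card (cen g) := Nat.card_pos
  have hm1 : 1 ≤ m := by
    rcases Nat.eq_zero_or_pos m with h | h
    · rw [h, mul_zero] at hm; omega
    · exact h
  have hm2 : m ≤ 2 := by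
    by_contra hcon
    push_neg at hcon
    have : Nat.card (cen g) * 3 ≤ Nat.card (cen g) * m := Nat.mul_le_mul_left _ hcon
    have h5 : Nat.card (cen g) * ({g, g⁻¹} : Finset Γ).card ≤ Nat.card (cen g) * 2 :=
      Nat.mul_le_mul_left _ h3
    omega
  rcases (by omega : m = 1 ∨ m = 2) with h | h
  · left; rw [hm, h, mul_one]
  · right; rw [hm, h, mul_comm]

end stype

end SL2

end Cfsg.Agent.Lib.Lead
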