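import Mathlib
import Cfsg.Agent.Lib.Lead.SL2f

set_option autoImplicit false

namespace Cfsg.Agent.Lib.Lead

namespace SL2

open Matrix

variable {Γ : Type*} [Group Γ]

section count

variable [Finite Γ]

open Classical in
/-- counting the union of the conjugates of a TI-set -/
theorem card_conj_union (B : Set Γ) (N : Subgroup Γ)
    (h1 : ∀ ν ∈ N, ∀ b ∈ B, ν * b * ν⁻¹ ∈ B)
    (h2 : ∀ γ : Γ, ∀ b ∈ B, γ * b * γ⁻¹ ∈ B → γ ∈ N) :
    {y : Γ | ∃ γ : Γ, ∃ b ∈ B, y = γ * b * γ⁻¹}.ncard * Nat.card N = Nat.card Γ * B.ncard := by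
  haveI : Fintype Γ := Fintype.ofFinite Γ
  set Bf : Finset Γ := Finset.univ.filter (fun x => x ∈ B) with hBf
  set K : Finset Γ := Finset.univ.filter (fun y => ∃ γ : Γ, ∃ b ∈ B, y = γ * b * γ⁻¹) with hK
  have hB : B.ncard = Bf.card := by
    rw [Set.ncard_eq_toFinset_card']
    congr 1
    ext x
    simp [hBf]
  have hKc : {y : Γ | ∃ γ : Γ, ∃ b ∈ B, y = γ * b * γ⁻¹}.ncard = K.card := by
    rw [Set.ncard_eq_toFinset_card']
    congr 1
    ext x
    simp [hK]
  rw [hB, hKc, natCard_subgroup_eq_filter, Nat.card_eq_fintype_card, ← Finset.card_univ]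
  have hprod : (Finset.univ : Finset Γ).card * Bf.card = (Finset.univ ×ˢ Bf : Finset (Γ × Γ)).card :=
    (Finset.card_product _ _).symm
  rw [hprod]
  have hmaps : Set.MapsTo (fun x : Γ × Γ => x.1 * x.2 * x.1⁻¹)
      ((Finset.univ ×ˢ Bf : Finset (Γ × Γ)) : Set (Γ × Γ)) (K : Set Γ) := by
    rintro ⟨γ, b⟩ hx
    rw [Finset.mem_coe, Finset.mem_product] at hx
    rw [Finset.mem_coe, hK, Finset.mem_filter]
    refine ⟨Finset.mem_univ _, γ, b, ?_, rfl⟩
    have := hx.2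
    rw [hBf, Finset.mem_filter] at this
    exact this.2
  rw [Finset.card_eq_sum_card_fiberwise hmaps]
  have hfib : ∀ y ∈ K, (Finset.filter (fun x : Γ × Γ => x.1 * x.2 * x.1⁻¹ = y)
      (Finset.univ ×ˢ Bf)).card = (Finset.univ.filter (fun x => x ∈ N)).card := by
    intro y hy
    rw [hK, Finset.mem_filter] at hy
    obtain ⟨_, γ₀, b₀, hb₀, rfl⟩ := hy
    symm
    apply Finset.card_bij (fun ν _ => (γ₀ * ν, ν⁻¹ * b₀ * ν))
    · intro ν hν
      rw [Finset.mem_filter] at hν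
      rw [Finset.mem_filter, Finset.mem_product]
      refine ⟨⟨Finset.mem_univ _, ?_⟩, ?_⟩
      · rw [hBf, Finset.mem_filter]
        refine ⟨Finset.mem_univ _, ?_⟩
        have := h1 ν⁻¹ (N.inv_mem hν.2) b₀ hb₀
        rwa [inv_inv] at this
      · simp only
        group
    · intro ν _ ν' _ e
      have := congrArg Prod.fst e
      exact mul_left_cancel this
    · rintro ⟨γ, b⟩ hx
      rw [Finset.mem_filter, Finset.mem_product] at hx
      obtain ⟨⟨_, hb⟩, e⟩ := hx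
      rw [hBf, Finset.mem_filter] at hb
      simp only at e
      have hb' : b = (γ₀⁻¹ * γ)⁻¹ * b₀ * (γ₀⁻¹ * γ) := by
        have : γ⁻¹ * (γ * b * γ⁻¹) * γ = γ⁻¹ * (γ₀ * b₀ * γ₀⁻¹) * γ := by rw [e]
        rw [show γ⁻¹ * (γ * b * γ⁻¹) * γ = b by group] at this
        rw [this]; group
      have hν : γ₀⁻¹ * γ ∈ N := by
        have := h2 (γ₀⁻¹ * γ)⁻¹ b₀ hb₀ (by rw [inv_inv, ← hb']; exact hb.2)
        rwa [inv_mem_iff] at this
      refine ⟨γ₀⁻¹ * γ, ?_, ?_⟩
      · rw [Finset.mem_filter]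
        exact ⟨Finset.mem_univ _, hν⟩
      · rw [← hb', mul_inv_cancel_left]
  rw [Finset.sum_congr rfl hfib, Finset.sum_const, smul_eq_mul]

end count

end SL2

end Cfsg.Agent.Lib.Lead
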