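import Mathlib
import Cfsg.Agent.Lib.Lead.SL2g

set_option autoImplicit false

namespace Cfsg.Agent.Lib.Lead

namespace SL2

open Matrix

variable {F : Type*} [Field F] {Γ : Type*} [Group Γ]

section borel

variable (p : ℕ) [Fact p.Prime] [CharP F p]
variable (ι : Γ →* Matrix.SpecialLinearGroup (Fin 2) F)

omit [Fact p.Prime] [CharP F p] in
theorem nil_conj (γ u : Γ) : nil ι (γ * u * γ⁻¹) = mat ι γ * nil ι u * mat ι γ⁻¹ := by
  unfold nil
  rw [mat_mul, mat_mul, mul_sub, sub_mul, mul_one, ← mat_mul ι γ γ⁻¹, mul_inv_cancel, mat_one]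

omit [Fact p.Prime] [CharP F p] in
theorem mat_inv_mul (γ : Γ) : mat ι γ⁻¹ * mat ι γ = 1 := by
  rw [← mat_mul, inv_mul_cancel, mat_one]

omit [Fact p.Prime] [CharP F p] in
theorem mat_mul_inv (γ : Γ) : mat ι γ * mat ι γ⁻¹ = 1 := by
  rw [← mat_mul, mul_inv_cancel, mat_one]

omit [Fact p.Prime] [CharP F p] in
theorem not_scalar_of_sq_zero {N : M2 F} (hN : N ≠ 0) (hsq : N * N = 0) :
    ∀ c : F, N ≠ c • (1 : M2 F) := by
  intro c hc
  rw [hc] at hsq
  simp only [smul_mul_smul_comm, mul_one] at hsq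
  have h1 := congrFun (congrFun hsq 0) 0
  simp at h1
  apply hN
  rw [hc, h1, zero_smul]

variable [Finite Γ]

/-- the normalizer of `P` is the stabilizer of the line `Im (w - 1)`: a linear condition -/
theorem mem_normalizer_sylow_iff_trace (hp2 : p ≠ 2) (hι : Function.Injective ι) (P : Sylow p Γ)
    {w : Γ} (hw : w ∈ P) (hw1 : w ≠ 1) {γ : Γ} :
    γ ∈ Subgroup.normalizer (P : Set Γ) ↔ (nil ι w * mat ι γ).trace = 0 := by
  have hwZ := sylow_not_mem_Z p ι hp2 hι P hw hw1
  have hN0 : nil ι w ≠ 0 := fun h => hw1 ((nil_eq_zero_iff ι hι).mp h)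
  have hsq : nil ι w * nil ι w = 0 := nil_mul_self_of_tr ι (sylow_tr p ι P hw)
  have hdet : (nil ι w).det = 0 := (trace_det_of_sq_zero _ hsq).2
  have htr : (nil ι w).trace = 0 := (trace_det_of_sq_zero _ hsq).1
  have h2 := two_ne_zero_of_odd (F := F) p hp2
  have key : ∀ δ : Γ, nil ι w * mat ι δ * nil ι w = (nil ι w * mat ι δ).trace • nil ι w :=
    fun δ => mul_mul_of_det_zero _ _ hdet
  constructor
  · intro h
    have hy : γ * w * γ⁻¹ ∈ P := (mem_normalizer_sylow_iff p ι hp2 hι P hw hw1).mp h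
    have hyc : (γ * w * γ⁻¹) * w = w * (γ * w * γ⁻¹) := sylow_commute p ι hp2 hι P hy hw
    obtain ⟨a, b, hab⟩ := exists_mat_eq ι hwZ hyc
    have hny : nil ι (γ * w * γ⁻¹) = (a + b - 1) • (1 : M2 F) + b • nil ι w := by
      unfold nil
      rw [hab]
      simp only [smul_sub, sub_smul, add_smul, one_smul]
      abel
    have hysq : nil ι (γ * w * γ⁻¹) * nil ι (γ * w * γ⁻¹) = 0 :=
      nil_mul_self_of_tr ι (sylow_tr p ι P hy)
    have hytr := (trace_det_of_sq_zero _ hysq).1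
    rw [hny, trace_add_smul, htr, mul_zero, add_zero] at hytr
    have hab1 : a + b - 1 = 0 := by
      rcases mul_eq_zero.mp hytr with h3 | h3
      · exact absurd h3 h2
      · exact h3
    rw [hab1, zero_smul, zero_add, nil_conj] at hny
    -- mat γ * N * mat γ⁻¹ = b • N
    have h4 : mat ι γ * nil ι w = b • nil ι w * mat ι γ := by
      have := congrArg (fun X => X * mat ι γ) hny
      rw [mul_assoc, mat_inv_mul, mul_one] at this
      exact this
    have h5 : nil ι w * mat ι γ * nil ι w = 0 := by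
      rw [mul_assoc, h4, smul_mul_assoc, mul_smul_comm, ← mul_assoc, hsq, zero_mul, smul_zero]
    rw [key γ] at h5
    rcases smul_eq_zero.mp h5 with h6 | h6
    · exact h6
    · exact absurd h6 hN0
  · intro h
    have h5 : nil ι w * mat ι γ * nil ι w = 0 := by rw [key γ, h, zero_smul]
    have h6 : (nil ι w * mat ι γ⁻¹).trace = 0 := by
      rw [mat_inv, mul_sub, Matrix.trace_sub, h, sub_zero, mul_smul_comm, mul_one,
        Matrix.trace_smul, htr, smul_zero]
    have h7 : nil ι w * mat ι γ⁻¹ * nil ι w = 0 := by rw [key γ⁻¹, h6, zero_smul]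
    rw [mem_normalizer_sylow_iff p ι hp2 hι P hw hw1]
    have hc : nil ι (γ * w * γ⁻¹) * nil ι w = nil ι w * nil ι (γ * w * γ⁻¹) := by
      rw [nil_conj]
      have e1 : mat ι γ * nil ι w * mat ι γ⁻¹ * nil ι w = 0 := by
        rw [mul_assoc, mul_assoc, ← mul_assoc (nil ι w), h7, mul_zero]
      have e2 : nil ι w * (mat ι γ * nil ι w * mat ι γ⁻¹) = 0 := by
        rw [← mul_assoc, ← mul_assoc, h5, zero_mul]
      rw [e1, e2]
    have hyc : (γ * w * γ⁻¹) * w = w * (γ * w * γ⁻¹) := by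
      apply mat_injective ι hι
      rw [mat_mul ι (γ * w * γ⁻¹) w, mat_mul ι w, mat_eq_one_add_nil ι (γ * w * γ⁻¹),
        mat_eq_one_add_nil ι w]
      rw [add_mul, mul_add, mul_add, add_mul, mul_add, mul_add, hc]
      simp only [one_mul, mul_one]
      abel
    exact mem_sylow_of_commute p ι hp2 hι P hw hw1 hyc
      (conj_pow_eq_one (sylow_pow_p p ι hι P hw))

/-- centralizers of non-scalar elements of `N(P)` lie in `N(P)` -/
theorem cen_le_normalizer_sylow (hp2 : p ≠ 2) (hι : Function.Injective ι) (P : Sylow p Γ)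
    {w : Γ} (hw : w ∈ P) (hw1 : w ≠ 1) {γ : Γ} (hγ : γ ∈ Subgroup.normalizer (P : Set Γ))
    (hγZ : γ ∉ Z ι) : cen γ ≤ Subgroup.normalizer (P : Set Γ) := by
  intro h hh
  rw [mem_normalizer_sylow_iff_trace p ι hp2 hι P hw hw1] at hγ ⊢
  obtain ⟨a, b, hab⟩ := exists_mat_eq ι hγZ (mem_cen.mp hh)
  have hsq : nil ι w * nil ι w = 0 := nil_mul_self_of_tr ι (sylow_tr p ι P hw)
  have htr : (nil ι w).trace = 0 := (trace_det_of_sq_zero _ hsq).1
  rw [hab, mul_add, Matrix.trace_add, mul_smul_comm, mul_smul_comm, Matrix.trace_smul,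
    Matrix.trace_smul, mul_one, htr, hγ, smul_zero, smul_zero, add_zero]

end borel

end SL2

end Cfsg.Agent.Lib.Lead
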