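import Mathlib
import Cfsg.Agent.Lib.Lead.SL2h

set_option autoImplicit false

namespace Cfsg.Agent.Lib.Lead

namespace SL2

open Matrix

variable {F : Type*} [Field F] {Γ : Type*} [Group Γ]

section lamdef

variable (ι : Γ →* Matrix.SpecialLinearGroup (Fin 2) F)

open Classical in
/-- the eigenvalue of `γ` on the line `Im (w - 1)` -/
noncomputable def lam (w γ : Γ) : F :=
  if h : ∃ β : F, mat ι γ * nil ι w = β • nil ι w then Classical.choose h else 0

theorem lam_spec {w γ : Γ} (h : ∃ β : F, mat ι γ * nil ι w = β • nil ι w) :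
    mat ι γ * nil ι w = lam ι w γ • nil ι w := by
  unfold lam
  rw [dif_pos h]
  exact Classical.choose_spec h

theorem lam_unique (hι : Function.Injective ι) {w γ : Γ} (hw1 : w ≠ 1) {β : F}
    (h : mat ι γ * nil ι w = β • nil ι w) : lam ι w γ = β := by
  have hN0 : nil ι w ≠ 0 := fun h => hw1 ((nil_eq_zero_iff ι hι).mp h)
  have h1 := lam_spec ι ⟨β, h⟩
  rw [h] at h1
  have h2 : (β - lam ι w γ) • nil ι w = 0 := by rw [sub_smul, h1, sub_self]
  rcases smul_eq_zero.mp h2 with h3 | h3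
  · exact (sub_eq_zero.mp h3).symm
  · exact absurd h3 hN0

theorem lam_ne_zero (hι : Function.Injective ι) {w γ : Γ} (hw1 : w ≠ 1)
    (h : ∃ β : F, mat ι γ * nil ι w = β • nil ι w) : lam ι w γ ≠ 0 := by
  have hN0 : nil ι w ≠ 0 := fun h => hw1 ((nil_eq_zero_iff ι hι).mp h)
  intro h0
  have h1 := lam_spec ι h
  rw [h0, zero_smul] at h1
  apply hN0
  have := congrArg (fun X => mat ι γ⁻¹ * X) h1
  simp only [mul_zero] at this
  rw [← mul_assoc, mat_inv_mul, one_mul] at this
  exact this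

end lamdef

section lam

variable (p : ℕ) [Fact p.Prime] [CharP F p]
variable (ι : Γ →* Matrix.SpecialLinearGroup (Fin 2) F)
variable [Finite Γ]

/-- elements of `N(P)` act on the line `Im (w - 1)` by a scalar -/
theorem exists_lam (hp2 : p ≠ 2) (hι : Function.Injective ι) (P : Sylow p Γ)
    {w : Γ} (hw : w ∈ P) (hw1 : w ≠ 1) {γ : Γ} (hγ : γ ∈ Subgroup.normalizer (P : Set Γ)) :
    ∃ β : F, mat ι γ * nil ι w = β • nil ι w := by
  have hN0 : nil ι w ≠ 0 := fun h => hw1 ((nil_eq_zero_iff ι hι).mp h)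
  have hsq : nil ι w * nil ι w = 0 := nil_mul_self_of_tr ι (sylow_tr p ι P hw)
  have hdet : (nil ι w).det = 0 := (trace_det_of_sq_zero _ hsq).2
  have h := (mem_normalizer_sylow_iff_trace p ι hp2 hι P hw hw1).mp hγ
  have h5 : nil ι w * mat ι γ * nil ι w = 0 := by
    rw [mul_mul_of_det_zero _ _ hdet, h, zero_smul]
  have hc : (mat ι γ * nil ι w) * nil ι w = nil ι w * (mat ι γ * nil ι w) := by
    rw [mul_assoc, hsq, mul_zero, ← mul_assoc, h5]
  obtain ⟨a, b, hab⟩ := commutant (nil ι w) _ (not_scalar_of_sq_zero hN0 hsq) hc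
  have h6 : (mat ι γ * nil ι w) * nil ι w = 0 := by rw [mul_assoc, hsq, mul_zero]
  rw [hab, add_mul, smul_mul_assoc, smul_mul_assoc, one_mul, hsq, smul_zero, add_zero] at h6
  have ha : a = 0 := by
    rcases smul_eq_zero.mp h6 with h7 | h7
    · exact h7
    · exact absurd h7 hN0
  refine ⟨b, ?_⟩
  rw [hab, ha, zero_smul, zero_add]

/-- the eigenvalue character of `N(P)` -/
noncomputable def lamHom (hp2 : p ≠ 2) (hι : Function.Injective ι) (P : Sylow p Γ)
    {w : Γ} (hw : w ∈ P) (hw1 : w ≠ 1) : ↥(Subgroup.normalizer (P : Set Γ)) →* Fˣ where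
  toFun γ := Units.mk0 (lam ι w (γ : Γ))
    (lam_ne_zero ι hι hw1 (exists_lam p ι hp2 hι P hw hw1 γ.2))
  map_one' := by
    apply Units.ext
    simp only [Units.val_mk0, Units.val_one]
    apply lam_unique ι hι hw1
    simp only [Subgroup.coe_one]
    rw [mat_one, one_mul, one_smul]
  map_mul' := by
    intro γ δ
    apply Units.ext
    simp only [Units.val_mk0, Units.val_mul]
    apply lam_unique ι hι hw1
    simp only [Subgroup.coe_mul]
    rw [mat_mul, mul_assoc, lam_spec ι (exists_lam p ι hp2 hι P hw hw1 δ.2), mul_smul_comm,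
      lam_spec ι (exists_lam p ι hp2 hι P hw hw1 γ.2), smul_smul, mul_comm]

theorem lamHom_apply (hp2 : p ≠ 2) (hι : Function.Injective ι) (P : Sylow p Γ)
    {w : Γ} (hw : w ∈ P) (hw1 : w ≠ 1) (γ : ↥(Subgroup.normalizer (P : Set Γ))) :
    ((lamHom p ι hp2 hι P hw hw1 γ : Fˣ) : F) = lam ι w (γ : Γ) := rfl

theorem lamHom_eq_one_iff (hp2 : p ≠ 2) (hι : Function.Injective ι) (P : Sylow p Γ)
    {w : Γ} (hw : w ∈ P) (hw1 : w ≠ 1) (γ : ↥(Subgroup.normalizer (P : Set Γ))) :
    lamHom p ι hp2 hι P hw hw1 γ = 1 ↔ (γ : Γ) ∈ P := by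
  have hN0 : nil ι w ≠ 0 := fun h => hw1 ((nil_eq_zero_iff ι hι).mp h)
  have hwZ := sylow_not_mem_Z p ι hp2 hι P hw hw1
  have h2 := two_ne_zero_of_odd (F := F) p hp2
  have hsq : nil ι w * nil ι w = 0 := nil_mul_self_of_tr ι (sylow_tr p ι P hw)
  constructor
  · intro h
    have h1 : lam ι w (γ : Γ) = 1 := by
      rw [← lamHom_apply p ι hp2 hι P hw hw1, h, Units.val_one]
    have h3 := lam_spec ι (exists_lam p ι hp2 hι P hw hw1 γ.2)
    rw [h1, one_smul] at h3
    have h4 : nil ι (γ : Γ) * nil ι w = 0 := by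
      unfold nil at h3 ⊢
      rw [sub_mul, one_mul, h3, sub_self]
    have h5 : (nil ι (γ : Γ)).det = 0 := by
      by_contra hd
      apply hN0
      have := congrArg (fun X => (nil ι (γ : Γ)).adjugate * X) h4
      simp only [mul_zero] at this
      rw [← mul_assoc, Matrix.adjugate_mul, smul_mul_assoc, one_mul] at this
      rcases smul_eq_zero.mp this with h6 | h6
      · exact absurd h6 hd
      · exact h6
    rw [det_nil] at h5
    have h6 : tr ι (γ : Γ) = 2 := (sub_eq_zero.mp h5).symm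
    exact mem_sylow_of_mem_normalizer p P γ.2 (pow_p_eq_one_of_tr_eq_two p ι hι h6)
  · intro h
    apply Units.ext
    rw [lamHom_apply, Units.val_one]
    apply lam_unique ι hι hw1
    have hc : (γ : Γ) * w = w * (γ : Γ) := sylow_commute p ι hp2 hι P h hw
    obtain ⟨a, b, hab⟩ := exists_mat_eq ι hwZ hc
    have htr : tr ι (γ : Γ) = 2 * a + b * tr ι w := by
      unfold tr
      rw [hab, trace_add_smul]
    rw [sylow_tr p ι P h, sylow_tr p ι P hw] at htr
    have hab1 : a + b = 1 := by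
      have : 2 * (a + b - 1) = 0 := by linear_combination -htr
      rcases mul_eq_zero.mp this with h3 | h3
      · exact absurd h3 h2
      · linear_combination h3
    rw [hab, mat_eq_one_add_nil ι w, add_mul, smul_mul_assoc, smul_mul_assoc, one_mul, add_mul,
      one_mul, hsq, add_zero, ← add_smul, hab1]

end lam

end SL2

end Cfsg.Agent.Lib.Lead
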