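import Mathlib
import Cfsg.Agent.Lib.Lead.SL2i

set_option autoImplicit false

namespace Cfsg.Agent.Lib.Lead

namespace SL2

open Matrix

variable {F : Type*} [Field F] {Γ : Type*} [Group Γ]

section stypeelt

variable (p : ℕ) [Fact p.Prime] [CharP F p]
variable (ι : Γ →* Matrix.SpecialLinearGroup (Fin 2) F)
variable [Finite Γ]

theorem sylow_le_normalizer (P : Sylow p Γ) :
    (P : Subgroup Γ) ≤ Subgroup.normalizer (P : Set Γ) :=
  Subgroup.le_normalizer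

theorem card_ker_lamHom (hp2 : p ≠ 2) (hι : Function.Injective ι) (P : Sylow p Γ)
    {w : Γ} (hw : w ∈ P) (hw1 : w ≠ 1) :
    Nat.card (lamHom p ι hp2 hι P hw hw1).ker = Nat.card (P : Subgroup Γ) := by
  have e : (lamHom p ι hp2 hι P hw hw1).ker =
      (P : Subgroup Γ).subgroupOf (Subgroup.normalizer (P : Set Γ)) := by
    ext γ
    rw [MonoidHom.mem_ker, lamHom_eq_one_iff, Subgroup.mem_subgroupOf]
    rfl
  rw [e]
  exact Nat.card_congr (Subgroup.subgroupOfEquivOfLe (sylow_le_normalizer p P)).toEquiv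

theorem card_normalizer_eq (hp2 : p ≠ 2) (hι : Function.Injective ι) (P : Sylow p Γ)
    {w : Γ} (hw : w ∈ P) (hw1 : w ≠ 1) :
    Nat.card (Subgroup.normalizer (P : Set Γ)) =
      Nat.card (P : Subgroup Γ) * Nat.card (lamHom p ι hp2 hι P hw hw1).range := by
  rw [← card_ker_lamHom p ι hp2 hι P hw hw1, ← Subgroup.index_ker, Subgroup.card_mul_index]

/-- if `N(P) ≠ Z P` there is an `s`-type element `g₁ ∈ N(P)` with `|C(g₁)| |P| = |N(P)|` -/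
theorem exists_stype_of_lt (hp2 : p ≠ 2) (hι : Function.Injective ι) (P : Sylow p Γ)
    {w : Γ} (hw : w ∈ P) (hw1 : w ≠ 1)
    (hlt : Nat.card (cen w) < Nat.card (Subgroup.normalizer (P : Set Γ))) :
    ∃ g₁ ∈ Subgroup.normalizer (P : Set Γ), g₁ ∉ Z ι ∧ tr ι g₁ ^ 2 ≠ 4 ∧
      Nat.card (cen g₁) * Nat.card (P : Subgroup Γ) =
        Nat.card (Subgroup.normalizer (P : Set Γ)) := by
  set φ := lamHom p ι hp2 hι P hw hw1 with hφ
  have hfin : Finite φ.range := Finite.of_surjective φ.rangeRestrict φ.rangeRestrict_surjective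
  have hcyc : IsCyclic φ.range := isCyclic_subgroup_units _
  obtain ⟨⟨β₀, hβ₀⟩, hgen⟩ := IsCyclic.exists_generator (α := φ.range)
  obtain ⟨γ₁, hγ₁⟩ := hβ₀
  -- every element of `N(P)` is a power of `γ₁` modulo `P`
  have hpow : ∀ γ : ↥(Subgroup.normalizer (P : Set Γ)), ∃ i : ℤ, φ γ = φ (γ₁ ^ i) := by
    intro γ
    have h1 := hgen ⟨φ γ, ⟨γ, rfl⟩⟩
    obtain ⟨i, hi⟩ := Subgroup.mem_zpowers_iff.mp h1
    refine ⟨i, ?_⟩
    have h2 := congrArg Subtype.val hi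
    simp only [Subgroup.coe_zpow] at h2
    rw [map_zpow, hγ₁, h2]
  have hmodP : ∀ γ : ↥(Subgroup.normalizer (P : Set Γ)), ∃ i : ℤ,
      ((γ : Γ) * ((γ₁ : Γ) ^ i)⁻¹) ∈ P := by
    intro γ
    obtain ⟨i, hi⟩ := hpow γ
    refine ⟨i, ?_⟩
    have h1 : φ (γ * (γ₁ ^ i)⁻¹) = 1 := by
      rw [map_mul, map_inv, hi, mul_inv_cancel]
    have h2 := (lamHom_eq_one_iff p ι hp2 hι P hw hw1 _).mp h1
    simpa using h2
  have hwZ := sylow_not_mem_Z p ι hp2 hι P hw hw1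
  have hPc := sylow_le_cen p ι hp2 hι P hw
  -- `γ₁ ∉ C(w)`
  have hγ₁c : (γ₁ : Γ) ∉ cen w := by
    intro hc
    have hle : Subgroup.normalizer (P : Set Γ) ≤ cen w := by
      intro γ hγ
      obtain ⟨i, hi⟩ := hmodP ⟨γ, hγ⟩
      have h1 : γ = (γ * ((γ₁ : Γ) ^ i)⁻¹) * (γ₁ : Γ) ^ i := by group
      rw [h1]
      exact (cen w).mul_mem (hPc hi) ((cen w).zpow_mem hc i)
    have := Subgroup.card_le_of_le hle
    omega
  have hγ₁Z : (γ₁ : Γ) ∉ Z ι := fun h => hγ₁c (Z_le_cen ι hι w h)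
  have hγ₁t : tr ι (γ₁ : Γ) ^ 2 ≠ 4 := by
    intro h4
    have h5 : (tr ι (γ₁ : Γ) - 2) * (tr ι (γ₁ : Γ) + 2) = 0 := by linear_combination h4
    rcases mul_eq_zero.mp h5 with h6 | h6
    · have h7 : tr ι (γ₁ : Γ) = 2 := sub_eq_zero.mp h6
      apply hγ₁c
      apply hPc
      exact mem_sylow_of_mem_normalizer p P γ₁.2 (pow_p_eq_one_of_tr_eq_two p ι hι h7)
    · have h7 : tr ι (γ₁ : Γ) = -2 := by linear_combination h6
      have hz := mat_pow_p_of_tr_neg_two p ι hp2 h7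
      have hzZ : (γ₁ : Γ) ^ p ∈ Z ι := ⟨-1, hz⟩
      have h3 : tr ι ((γ₁ : Γ) ^ p * (γ₁ : Γ)) = 2 := by
        rw [tr_mul_of_mem_Z ι hz, h7]; ring
      have h8 : (γ₁ : Γ) ^ p * (γ₁ : Γ) ∈ Subgroup.normalizer (P : Set Γ) :=
        (Subgroup.normalizer (P : Set Γ)).mul_mem
          ((Subgroup.normalizer (P : Set Γ)).pow_mem γ₁.2 p) γ₁.2
      have h9 : (γ₁ : Γ) ^ p * (γ₁ : Γ) ∈ P :=
        mem_sylow_of_mem_normalizer p P h8 (pow_p_eq_one_of_tr_eq_two p ι hι h3)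
      apply hγ₁c
      have h10 : (γ₁ : Γ) = ((γ₁ : Γ) ^ p)⁻¹ * ((γ₁ : Γ) ^ p * (γ₁ : Γ)) := by group
      rw [h10]
      exact (cen w).mul_mem ((cen w).inv_mem (Z_le_cen ι hι w hzZ)) (hPc h9)
  have hcle := cen_le_normalizer_sylow p ι hp2 hι P hw hw1 γ₁.2 hγ₁Z
  refine ⟨γ₁, γ₁.2, hγ₁Z, hγ₁t, ?_⟩
  rw [card_normalizer_eq p ι hp2 hι P hw hw1, mul_comm]
  congr 1
  -- bijection between `C(γ₁)` and the range of `φ`
  let f : ↥(cen (γ₁ : Γ)) → ↥φ.range := fun x => ⟨φ ⟨x, hcle x.2⟩, ⟨_, rfl⟩⟩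
  have hf : Function.Bijective f := by
    constructor
    · rintro ⟨x, hx⟩ ⟨y, hy⟩ e
      have e1 : φ ⟨x, hcle hx⟩ = φ ⟨y, hcle hy⟩ := congrArg Subtype.val e
      have e2 : φ (⟨x, hcle hx⟩ * ⟨y, hcle hy⟩⁻¹) = 1 := by
        rw [map_mul, map_inv, e1, mul_inv_cancel]
      have e3 := (lamHom_eq_one_iff p ι hp2 hι P hw hw1 _).mp e2
      have e4 : x * y⁻¹ ∈ P := by simpa using e3
      have e5 : x * y⁻¹ ∈ cen (γ₁ : Γ) := (cen (γ₁ : Γ)).mul_mem hx ((cen (γ₁ : Γ)).inv_mem hy)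
      have e6 : x * y⁻¹ = 1 := by
        by_contra hne
        apply hγ₁c
        rw [← cen_sylow_elt p ι hp2 hι P hw hw1 e4 hne, mem_cen]
        exact (mem_cen.mp e5).symm
      apply Subtype.ext
      exact mul_inv_eq_one.mp e6
    · rintro ⟨β, γ, rfl⟩
      obtain ⟨i, hi⟩ := hpow γ
      refine ⟨⟨(γ₁ : Γ) ^ i, (cen (γ₁ : Γ)).zpow_mem (self_mem_cen _) i⟩, ?_⟩
      apply Subtype.ext
      simp only [f]
      rw [hi]
      congr 1
  exact Nat.card_congr (Equiv.ofBijective f hf)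

end stypeelt

end SL2

end Cfsg.Agent.Lib.Lead
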