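import Mathlib
import Cfsg.Agent.Lib.Lead.SL2j

set_option autoImplicit false

namespace Cfsg.Agent.Lib.Lead

namespace SL2

open Matrix

variable {F : Type*} [Field F] {Γ : Type*} [Group Γ]

section cls

variable (ι : Γ →* Matrix.SpecialLinearGroup (Fin 2) F)

/-- the union of the conjugates of `C(g) ∖ Z` -/
def cls (g : Γ) : Set Γ :=
  {y | ∃ γ : Γ, ∃ b ∈ ((cen g : Set Γ) \ (Z ι : Set Γ)), y = γ * b * γ⁻¹}

omit [Field F] in
theorem cen_conj_eq {a b : Γ} (h : cen a = cen b) (γ : Γ) :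
    cen (γ * a * γ⁻¹) = cen (γ * b * γ⁻¹) := by
  ext x
  rw [mem_cen_conj, mem_cen_conj, h]

theorem mem_cls_iff (hι : Function.Injective ι) {g y : Γ} (hg : g ∉ Z ι) :
    y ∈ cls ι g ↔ y ∉ Z ι ∧ ∃ γ : Γ, cen (γ * y * γ⁻¹) = cen g := by
  constructor
  · rintro ⟨γ, b, ⟨hb, hbZ⟩, rfl⟩
    refine ⟨fun h => hbZ ((conj_mem_Z_iff ι hι).mp h), γ⁻¹, ?_⟩
    have e : γ⁻¹ * (γ * b * γ⁻¹) * γ⁻¹⁻¹ = b := by group
    rw [e]
    exact cen_eq_of_mem ι hι hg hbZ hb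
  · rintro ⟨hy, γ, hγ⟩
    refine ⟨γ⁻¹, γ * y * γ⁻¹, ⟨?_, ?_⟩, by group⟩
    · rw [SetLike.mem_coe, ← hγ]
      exact self_mem_cen _
    · exact fun h => hy ((conj_mem_Z_iff ι hι).mp h)

theorem self_mem_cls (hι : Function.Injective ι) {g : Γ} (hg : g ∉ Z ι) : g ∈ cls ι g := by
  rw [mem_cls_iff ι hι hg]
  refine ⟨hg, 1, ?_⟩
  simp

theorem not_mem_Z_of_mem_cls (hι : Function.Injective ι) {g y : Γ} (hg : g ∉ Z ι)
    (hy : y ∈ cls ι g) : y ∉ Z ι :=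
  ((mem_cls_iff ι hι hg).mp hy).1

theorem cls_eq_of_mem (hι : Function.Injective ι) {g y : Γ} (hg : g ∉ Z ι)
    (hy : y ∈ cls ι g) : cls ι y = cls ι g := by
  obtain ⟨hyZ, γ, hγ⟩ := (mem_cls_iff ι hι hg).mp hy
  ext x
  rw [mem_cls_iff ι hι hg, mem_cls_iff ι hι hyZ]
  constructor
  · rintro ⟨hx, δ, hδ⟩
    refine ⟨hx, γ * δ, ?_⟩
    have := cen_conj_eq hδ γ
    rw [hγ] at this
    rw [← this]
    congr 1
    group
  · rintro ⟨hx, δ, hδ⟩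
    refine ⟨hx, γ⁻¹ * δ, ?_⟩
    have := cen_conj_eq (hδ.trans hγ.symm) γ⁻¹
    have e1 : γ⁻¹ * (γ * y * γ⁻¹) * γ⁻¹⁻¹ = y := by group
    rw [e1] at this
    rw [← this]
    congr 1
    group

theorem cls_disjoint (hι : Function.Injective ι) {g y : Γ} (hg : g ∉ Z ι) (hyZ : y ∉ Z ι)
    (hy : y ∉ cls ι g) : Disjoint (cls ι y) (cls ι g) := by
  rw [Set.disjoint_left]
  intro x hx1 hx2
  apply hy
  have e1 := cls_eq_of_mem ι hι hyZ hx1
  have e2 := cls_eq_of_mem ι hι hg hx2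
  rw [← e2, e1]
  exact self_mem_cls ι hι hyZ

theorem tr_of_mem_cls (hι : Function.Injective ι) {g y : Γ} (hg : g ∉ Z ι)
    (hy : y ∈ cls ι g) : ∃ b ∈ cen g, b ∉ Z ι ∧ tr ι y = tr ι b := by
  obtain ⟨γ, b, ⟨hb, hbZ⟩, rfl⟩ := hy
  exact ⟨b, hb, hbZ, tr_conj ι γ b⟩

variable [Finite Γ]

omit [Finite Γ] in
theorem natCard_subgroup_eq_ncard (H : Subgroup Γ) : Nat.card H = (H : Set Γ).ncard := by
  rw [← Nat.card_coe_set_eq]
  rfl

/-- the size of a class -/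
theorem card_cls (hι : Function.Injective ι) {g : Γ} (hg : g ∉ Z ι) :
    (cls ι g).ncard * Nat.card (Subgroup.normalizer (cen g : Set Γ)) =
      Nat.card Γ * (Nat.card (cen g) - Nat.card (Z ι)) := by
  have h := card_conj_union ((cen g : Set Γ) \ (Z ι : Set Γ))
    (Subgroup.normalizer (cen g : Set Γ)) ?_ ?_
  · have e : ((cen g : Set Γ) \ (Z ι : Set Γ)).ncard = Nat.card (cen g) - Nat.card (Z ι) := by
      rw [Set.ncard_diff (Z_le_cen ι hι g) (Set.toFinite _), natCard_subgroup_eq_ncard,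
        natCard_subgroup_eq_ncard]
    rw [e] at h
    exact h
  · rintro ν hν b ⟨hb, hbZ⟩
    refine ⟨?_, fun h => hbZ ((conj_mem_Z_iff ι hι).mp h)⟩
    exact (Subgroup.mem_normalizer_iff.mp hν b).mp hb
  · rintro γ b ⟨hb, hbZ⟩ ⟨h1, _⟩
    exact mem_normalizer_cen_of ι hι hg hb hbZ h1

end cls

end SL2

end Cfsg.Agent.Lib.Lead
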