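import Mathlib
import Cfsg.Agent.Lib.Lead.SL2k

set_option autoImplicit false

namespace Cfsg.Agent.Lib.Lead

namespace SL2

open Matrix

variable {F : Type*} [Field F] {Γ : Type*} [Group Γ]

section ptype

variable (p : ℕ) [Fact p.Prime] [CharP F p]
variable (ι : Γ →* Matrix.SpecialLinearGroup (Fin 2) F)
variable [Finite Γ]

/-- elements of the `p`-class have trace `± 2` -/
theorem tr_sq_of_mem_cls_sylow (hp2 : p ≠ 2) (hι : Function.Injective ι) (P : Sylow p Γ)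
    {w : Γ} (hw : w ∈ P) (hw1 : w ≠ 1) {y : Γ} (hy : y ∈ cls ι w) : tr ι y ^ 2 = 4 := by
  have hwZ := sylow_not_mem_Z p ι hp2 hι P hw hw1
  obtain ⟨b, hb, _, hby⟩ := tr_of_mem_cls ι hι hwZ hy
  rw [hby]
  rcases tr_of_commute_unipotent ι (sylow_tr p ι P hw) hwZ (mem_cen.mp hb) with h | h
  · rw [h]; norm_num
  · rw [h]; norm_num

/-- a nontrivial `p`-element lies in the `p`-class -/
theorem mem_cls_of_pow_p (hp2 : p ≠ 2) (hι : Function.Injective ι) (P : Sylow p Γ)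
    {w : Γ} (hw : w ∈ P) (hw1 : w ≠ 1) {u : Γ} (hu : u ^ p = 1) (hu1 : u ≠ 1) :
    ∃ γ : Γ, cen (γ * u * γ⁻¹) = cen w := by
  have hz : IsPGroup p (Subgroup.zpowers u) := by
    rintro ⟨x, hx⟩
    refine ⟨1, ?_⟩
    obtain ⟨k, rfl⟩ := Subgroup.mem_zpowers_iff.mp hx
    apply Subtype.ext
    simp only [pow_one, Subgroup.coe_pow, Subgroup.coe_one]
    rw [← zpow_natCast, ← _root_.zpow_mul, mul_comm, _root_.zpow_mul, zpow_natCast, hu,
      _root_.one_zpow]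
  obtain ⟨P', hP'⟩ := hz.exists_le_sylow
  obtain ⟨γ, hγ⟩ := MulAction.exists_smul_eq Γ P' P
  refine ⟨γ, ?_⟩
  have h1 : γ * u * γ⁻¹ ∈ ((γ • P' : Sylow p Γ) : Subgroup Γ) := by
    rw [Sylow.coe_subgroup_smul]
    have : γ * u * γ⁻¹ = MulAut.conj γ • u := by simp [MulAut.smul_def]
    rw [this, Subgroup.smul_mem_pointwise_smul_iff]
    exact hP' (Subgroup.mem_zpowers u)
  rw [hγ] at h1
  have h2 : γ * u * γ⁻¹ ≠ 1 := by
    intro h3
    apply hu1
    have : γ⁻¹ * (γ * u * γ⁻¹) * γ = u := by group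
    rw [← this, h3]; group
  exact cen_sylow_elt p ι hp2 hι P hw hw1 h1 h2

/-- a non-scalar element of trace `± 2` lies in the `p`-class -/
theorem mem_cls_of_tr_sq (hp2 : p ≠ 2) (hι : Function.Injective ι) (P : Sylow p Γ)
    {w : Γ} (hw : w ∈ P) (hw1 : w ≠ 1) {g : Γ} (hg : g ∉ Z ι) (ht : tr ι g ^ 2 = 4) :
    g ∈ cls ι w := by
  have hwZ := sylow_not_mem_Z p ι hp2 hι P hw hw1
  rw [mem_cls_iff ι hι hwZ]
  refine ⟨hg, ?_⟩
  have h5 : (tr ι g - 2) * (tr ι g + 2) = 0 := by linear_combination ht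
  rcases mul_eq_zero.mp h5 with h6 | h6
  · have h7 : tr ι g = 2 := sub_eq_zero.mp h6
    have hg1 : g ≠ 1 := by
      rintro rfl
      exact hg (Z ι).one_mem
    exact mem_cls_of_pow_p p ι hp2 hι P hw hw1 (pow_p_eq_one_of_tr_eq_two p ι hι h7) hg1
  · have h7 : tr ι g = -2 := by linear_combination h6
    have hz := mat_pow_p_of_tr_neg_two p ι hp2 h7
    have hzZ : g ^ p ∈ Z ι := ⟨-1, hz⟩
    have h3 : tr ι (g ^ p * g) = 2 := by
      rw [tr_mul_of_mem_Z ι hz, h7]; ring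
    have huZ : g ^ p * g ∉ Z ι := by
      intro h
      apply hg
      have : g = (g ^ p)⁻¹ * (g ^ p * g) := by group
      rw [this]
      exact (Z ι).mul_mem ((Z ι).inv_mem hzZ) h
    have hu1 : g ^ p * g ≠ 1 := by
      intro h
      rw [h] at huZ
      exact huZ (Z ι).one_mem
    obtain ⟨γ, hγ⟩ := mem_cls_of_pow_p p ι hp2 hι P hw hw1
      (pow_p_eq_one_of_tr_eq_two p ι hι h3) hu1
    refine ⟨γ, ?_⟩
    rw [← hγ]
    apply cen_conj_eq
    symm
    apply cen_eq_of_mem ι hι hg huZ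
    rw [mem_cen]
    group

end ptype

end SL2

end Cfsg.Agent.Lib.Lead
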