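import Mathlib
import Cfsg.Agent.Lib.Lead.SL2l

set_option autoImplicit false

namespace Cfsg.Agent.Lib.Lead

namespace SL2

open Matrix

variable {F : Type*} [Field F] {Γ : Type*} [Group Γ]

section sylowcount

variable (p : ℕ) [Fact p.Prime] [CharP F p]
variable (ι : Γ →* Matrix.SpecialLinearGroup (Fin 2) F)
variable [Finite Γ]

open Classical in
/-- the number of Sylow `p`-subgroups is `1` modulo `|P|` -/
theorem card_sylow_modEq (hp2 : p ≠ 2) (hι : Function.Injective ι) (P : Sylow p Γ) :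
    Nat.card (P : Subgroup Γ) ∣ Nat.card (Sylow p Γ) - 1 := by
  haveI : Fintype ↥(P : Subgroup Γ) := Fintype.ofFinite _
  haveI : Fintype (Sylow p Γ) := Fintype.ofFinite _
  haveI : ∀ u : ↥(P : Subgroup Γ), Fintype ↑(MulAction.fixedBy (Sylow p Γ) u) :=
    fun u => Fintype.ofFinite _
  haveI : Fintype (Quotient (MulAction.orbitRel ↥(P : Subgroup Γ) (Sylow p Γ))) :=
    Fintype.ofFinite _
  have hB := MulAction.sum_card_fixedBy_eq_card_orbits_mul_card_group ↥(P : Subgroup Γ)
    (Sylow p Γ)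
  have h1 : Fintype.card ↑(MulAction.fixedBy (Sylow p Γ) (1 : ↥(P : Subgroup Γ))) =
      Nat.card (Sylow p Γ) := by
    rw [Nat.card_eq_fintype_card]
    apply Fintype.card_congr
    refine ⟨fun x => x.1, fun Q => ⟨Q, ?_⟩, fun x => rfl, fun Q => rfl⟩
    rw [MulAction.mem_fixedBy, one_smul]
  have h2 : ∀ u ∈ (Finset.univ : Finset ↥(P : Subgroup Γ)).erase 1,
      Fintype.card ↑(MulAction.fixedBy (Sylow p Γ) u) = 1 := by
    intro u hu
    have hu1 : (u : Γ) ≠ 1 := by
      intro h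
      apply (Finset.mem_erase.mp hu).1
      exact Subtype.ext h
    rw [Fintype.card_eq_one_iff]
    refine ⟨⟨P, ?_⟩, ?_⟩
    · rw [MulAction.mem_fixedBy, Subgroup.smul_def, Sylow.smul_eq_iff_mem_normalizer]
      exact sylow_le_normalizer p P u.2
    · rintro ⟨Q, hQ⟩
      apply Subtype.ext
      rw [MulAction.mem_fixedBy, Subgroup.smul_def, Sylow.smul_eq_iff_mem_normalizer] at hQ
      have huQ : (u : Γ) ∈ Q :=
        mem_sylow_of_mem_normalizer p Q hQ (sylow_pow_p p ι hι P u.2)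
      exact (sylow_TI p ι hp2 hι P Q u.2 huQ hu1).symm
  rw [← Finset.add_sum_erase _ _ (Finset.mem_univ (1 : ↥(P : Subgroup Γ))), h1,
    Finset.sum_congr rfl h2, Finset.sum_const, smul_eq_mul, mul_one, Finset.card_erase_of_mem
    (Finset.mem_univ _), Finset.card_univ, ← Nat.card_eq_fintype_card] at hB
  have hq : 0 < Nat.card (P : Subgroup Γ) := Nat.card_pos
  have hn : 0 < Nat.card (Sylow p Γ) := Nat.card_pos
  -- n + (q - 1) = m * q
  set m := Fintype.card (Quotient (MulAction.orbitRel ↥(P : Subgroup Γ) (Sylow p Γ)))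
  have hm : 1 ≤ m := by
    rcases Nat.eq_zero_or_pos m with h | h
    · rw [h, zero_mul] at hB; omega
    · exact h
  refine ⟨m - 1, ?_⟩
  have : (m - 1) * Nat.card (P : Subgroup Γ) = m * Nat.card (P : Subgroup Γ) -
      Nat.card (P : Subgroup Γ) := by
    rw [Nat.sub_mul, one_mul]
  rw [mul_comm, this]
  omega

end sylowcount

end SL2

end Cfsg.Agent.Lib.Lead
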