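import Mathlib
import Cfsg.Agent.Lib.Lead.SL2m

set_option autoImplicit false

namespace Cfsg.Agent.Lib.Lead

namespace SL2

open Matrix

variable {F : Type*} [Field F] {Γ : Type*} [Group Γ]

section arith

/-- numerics, case `c = 1` -/
theorem arithB (k q e ε : ℕ) (hk : 1 ≤ k) (hq : 3 ≤ q) (he : 2 ≤ e) (hε : ε = 1 ∨ ε = 2)
    (h : (k * q) * ε * e + (1 + k * q) * q = (1 + k * q) * q * e) : k = 1 := by
  obtain ⟨e', rfl⟩ : ∃ e', e = e' + 1 := ⟨e - 1, by omega⟩
  have he' : 1 ≤ e' := by omega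
  have h1 : k * ε * (e' + 1) = (1 + k * q) * e' := by
    have hq0 : 0 < q := by omega
    apply Nat.eq_of_mul_eq_mul_left hq0
    nlinarith [h]
  rcases hε with rfl | rfl
  · exfalso
    have : k * q * e' ≥ k * 3 * e' := by
      apply Nat.mul_le_mul_right
      exact Nat.mul_le_mul_left _ hq
    nlinarith [Nat.mul_le_mul hk he']
  · by_contra hk1
    have hk2 : 2 ≤ k := by omega
    have h3 : k * q * e' ≥ k * 3 * e' := by
      apply Nat.mul_le_mul_right
      exact Nat.mul_le_mul_left _ hq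
    have h4 : e' + k * e' ≤ 2 * k := by nlinarith
    have h5 : e' = 1 := by
      by_contra h5
      have : 2 ≤ e' := by omega
      nlinarith [Nat.mul_le_mul hk2 this]
    subst h5
    have h6 : 4 * k = 1 + k * q := by linarith
    have h7 : k * q ≥ k * 3 := Nat.mul_le_mul_left _ hq
    have h8 : k * (q - 3) + 1 = k := by
      have : k * (q - 3) = k * q - k * 3 := Nat.mul_sub k q 3
      omega
    have h9 : q - 3 = 0 := by
      by_contra h9
      have : 1 ≤ q - 3 := by omega
      have : k * 1 ≤ k * (q - 3) := Nat.mul_le_mul_left _ this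
      omega
    rw [h9, mul_zero] at h8
    omega

/-- numerics, case `c ≥ 2` -/
theorem arithA (k q c e : ℕ) (hk : 1 ≤ k) (hq : 3 ≤ q) (hc : 2 ≤ c) (hcq : c + 1 ≤ q)
    (h : (1 + k * q) * c + 2 * k * e = e * (1 + k * q)) :
    k = 1 ∨ (k = 3 ∧ q = 3 ∧ c = 2 ∧ e = 5) := by
  have hec : c < e := by
    by_contra hcon
    push Not at hcon
    have : e * (1 + k * q) ≤ c * (1 + k * q) := Nat.mul_le_mul_right _ hcon
    have h2 : 0 < 2 * k * e := by
      have : 0 < e := by
        rcases Nat.eq_zero_or_pos e with h0 | h0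
        · subst h0; simp at h; omega
        · exact h0
      positivity
    nlinarith
  obtain ⟨j, rfl⟩ : ∃ j, e = c + j := ⟨e - c, by omega⟩
  have hj : 1 ≤ j := by omega
  have h1 : 2 * k * c + 2 * k * j = j + j * k * q := by nlinarith
  have h1z : (j : ℤ) = k * (2 * c + 2 * j - j * q) := by
    have := congrArg (Nat.cast : ℕ → ℤ) h1
    push_cast at this
    linarith
  set m : ℤ := 2 * c + 2 * j - j * q with hm
  have hmpos : 0 < m := by
    by_contra hcon
    push Not at hcon
    have : (k : ℤ) * m ≤ 0 := mul_nonpos_of_nonneg_of_nonpos (by positivity) hcon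
    have : (1 : ℤ) ≤ j := by exact_mod_cast hj
    linarith
  by_contra hfin
  push Not at hfin
  have hk2 : 2 ≤ k := by
    rcases hfin with ⟨h1', _⟩
    omega
  have h2 : (2 : ℤ) * c = m * (1 + k * (q - 2)) := by
    rw [hm]
    have : (j : ℤ) = k * m := h1z
    nlinarith
  have hq' : (3 : ℤ) ≤ q := by exact_mod_cast hq
  have hk' : (2 : ℤ) ≤ k := by exact_mod_cast hk2
  have hcq' : (c : ℤ) + 1 ≤ q := by exact_mod_cast hcq
  have hm1 : m = 1 := by
    by_contra hne
    have hm2 : 2 ≤ m := by omega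
    have : (1 : ℤ) + k * (q - 2) ≥ 1 + 2 * (q - 2) := by nlinarith
    have : m * (1 + k * (q - 2)) ≥ 2 * (1 + 2 * (q - 2)) := by nlinarith
    linarith
  rw [hm1, one_mul] at h2
  have h3 : (k : ℤ) * (q - 2) ≤ 2 * (q - 2) + 1 := by linarith
  have h4 : ((k : ℤ) - 2) * (q - 2) ≤ 1 := by linarith
  have hk3 : k ≤ 3 := by
    by_contra hcon
    push Not at hcon
    have : (4 : ℤ) ≤ k := by exact_mod_cast hcon
    nlinarith
  interval_cases k
  · push_cast at h2
    omega
  · have hq3 : q = 3 := by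
      by_contra hne
      have : (4 : ℤ) ≤ q := by
        have : 4 ≤ q := by omega
        exact_mod_cast this
      push_cast at h4
      linarith
    subst hq3
    push_cast at h2
    have hc2 : c = 2 := by omega
    subst hc2
    have hj3 : j = 3 := by
      have : (j : ℤ) = 3 * m := by exact_mod_cast h1z
      rw [hm1] at this
      omega
    subst hj3
    exact hfin.2 rfl rfl rfl rfl

end arith

section conjcard

omit [Field F] in
theorem card_cen_conj (γ y : Γ) : Nat.card (cen (γ * y * γ⁻¹)) = Nat.card (cen y) := by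
  symm
  apply Nat.card_congr
  refine ⟨fun x => ⟨γ * x * γ⁻¹, ?_⟩, fun x => ⟨γ⁻¹ * x * γ, ?_⟩, ?_, ?_⟩
  · rw [mem_cen_conj]
    have : γ⁻¹ * (γ * (x : Γ) * γ⁻¹) * γ = x := by group
    rw [this]
    exact x.2
  · exact mem_cen_conj.mp x.2
  · intro x
    apply Subtype.ext
    simp only
    group
  · intro x
    apply Subtype.ext
    simp only
    group

variable (ι : Γ →* Matrix.SpecialLinearGroup (Fin 2) F)

theorem card_normalizer_cen_conj (hι : Function.Injective ι) {y : Γ} (hy : y ∉ Z ι) (γ : Γ) :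
    Nat.card (Subgroup.normalizer (cen (γ * y * γ⁻¹) : Set Γ)) =
      Nat.card (Subgroup.normalizer (cen y : Set Γ)) := by
  have hy' : γ * y * γ⁻¹ ∉ Z ι := fun h => hy ((conj_mem_Z_iff ι hι).mp h)
  symm
  apply Nat.card_congr
  refine ⟨fun x => ⟨γ * x * γ⁻¹, ?_⟩, fun x => ⟨γ⁻¹ * x * γ, ?_⟩, ?_, ?_⟩
  · rw [mem_normalizer_cen_iff ι hι hy', mem_cen_conj]
    have : γ⁻¹ * (γ * (x : Γ) * γ⁻¹ * (γ * y * γ⁻¹) * (γ * (x : Γ) * γ⁻¹)⁻¹) * γ =
        (x : Γ) * y * (x : Γ)⁻¹ := by group
    rw [this]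
    exact (mem_normalizer_cen_iff ι hι hy).mp x.2
  · rw [mem_normalizer_cen_iff ι hι hy]
    have h := (mem_normalizer_cen_iff ι hι hy').mp x.2
    rw [mem_cen_conj] at h
    have : γ⁻¹ * ((x : Γ) * (γ * y * γ⁻¹) * (x : Γ)⁻¹) * γ =
        γ⁻¹ * (x : Γ) * γ * y * (γ⁻¹ * (x : Γ) * γ)⁻¹ := by group
    rw [this] at h
    exact h
  · intro x
    apply Subtype.ext
    simp only
    group
  · intro x
    apply Subtype.ext
    simp only
    group

theorem card_cen_of_mem_cls (hι : Function.Injective ι) {g y : Γ} (hg : g ∉ Z ι)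
    (hy : y ∈ cls ι g) : Nat.card (cen y) = Nat.card (cen g) ∧
      Nat.card (Subgroup.normalizer (cen y : Set Γ)) =
        Nat.card (Subgroup.normalizer (cen g : Set Γ)) := by
  obtain ⟨hyZ, γ, hγ⟩ := (mem_cls_iff ι hι hg).mp hy
  constructor
  · rw [← hγ, card_cen_conj]
  · rw [← hγ, card_normalizer_cen_conj ι hι hyZ]

end conjcard

end SL2

end Cfsg.Agent.Lib.Lead
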