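import Mathlib
import Cfsg.Agent.Lib.Lead.SL2n

set_option autoImplicit false

namespace Cfsg.Agent.Lib.Lead

namespace SL2

open Matrix

variable {F : Type*} [Field F] {Γ : Type*} [Group Γ]

section arith2

theorem arithB' (k q e' ε : ℕ) (hk : 1 ≤ k) (hq : 3 ≤ q) (he' : 1 ≤ e') (hε : ε = 1 ∨ ε = 2)
    (h : k * ε * (e' + 1) = (1 + k * q) * e') : k = 1 := by
  apply arithB k q (e' + 1) ε hk hq (by omega) hε
  have : k * q * ε * (e' + 1) = q * (k * ε * (e' + 1)) := by ring
  rw [this, h]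
  ring

theorem ar_sw (G NP n s_w m : ℕ) (hNP : 0 < NP) (hG : NP * n = G) (h : s_w * NP = G * m) :
    s_w = n * m := by
  have : NP * s_w = NP * (n * m) := by rw [← hG] at h; nlinarith
  exact Nat.eq_of_mul_eq_mul_left hNP this

theorem ar_C1 (z q' n k s_w rw G : ℕ)
    (hG : z * (q' + 1) * n = G) (hn : n = 1 + k * (q' + 1)) (hsw : s_w = n * (z * q'))
    (hrw : rw + s_w + z = G) : rw = z * k * (q' + 1) := by
  subst hsw hn
  nlinarith

theorem ar_C2 (z q k ε e' s₂ G n : ℕ) (hz : 0 < z) (hq : 0 < q)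
    (hG : z * q * n = G) (hn : n = 1 + k * q)
    (hs₂ : s₂ = z * k * q) (h : s₂ * (ε * ((e' + 1) * z)) = G * (e' * z)) :
    k * ε * (e' + 1) = (1 + k * q) * e' := by
  subst hs₂ hn
  rw [← hG] at h
  have h1 : (z * z * q) * (k * ε * (e' + 1)) = (z * z * q) * ((1 + k * q) * e') := by nlinarith
  exact Nat.eq_of_mul_eq_mul_left (by positivity) h1

theorem ar_D0 (z q' c n s_w rw G : ℕ)
    (hG : z * (q' + 1) * c * n = G) (hsw : s_w = n * (z * q'))
    (hrw : rw + s_w + z = G) : rw + z + n * z * q' = z * (q' + 1) * c * n := by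
  subst hsw
  rw [hG]
  linarith

theorem ar_D1 (z q' c' n k s₁ rw r G : ℕ) (hz : 0 < z)
    (hG : z * (q' + 1) * (c' + 1) * n = G) (hn : n = 1 + k * (q' + 1))
    (hrw : rw + z + n * z * q' = z * (q' + 1) * (c' + 1) * n)
    (hs₁ : s₁ * (z * (c' + 1)) = G * (z * c')) (hr : r + s₁ = rw) :
    r = z * k * (q' + 1) := by
  have h1 : s₁ = z * (q' + 1) * n * c' := by
    have : (z * (c' + 1)) * s₁ = (z * (c' + 1)) * (z * (q' + 1) * n * c') := by
      rw [← hG] at hs₁; nlinarith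
    exact Nat.eq_of_mul_eq_mul_left (by positivity) this
  subst h1 hn
  nlinarith

theorem ar_D2 (z q' c' n s₁ rw r G : ℕ) (hz : 0 < z)
    (hG : z * (q' + 1) * (c' + 1) * n = G)
    (hrw : rw + z + n * z * q' = z * (q' + 1) * (c' + 1) * n)
    (hs₁ : s₁ * (2 * (z * (c' + 1))) = G * (z * c')) (hr : r + s₁ = rw) :
    2 * r + 2 * z = z * n * ((q' + 1) * c' + 2) := by
  have h1 : 2 * s₁ = z * (q' + 1) * n * c' := by
    have : (z * (c' + 1)) * (2 * s₁) = (z * (c' + 1)) * (z * (q' + 1) * n * c') := by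
      rw [← hG] at hs₁; nlinarith
    exact Nat.eq_of_mul_eq_mul_left (by positivity) this
  nlinarith

theorem ar_D3 (z q c' n k e' r G : ℕ) (hz : 0 < z) (hq : 0 < q)
    (hG : z * q * (c' + 1) * n = G) (hn : n = 1 + k * q)
    (hr : 2 * r + 2 * z = z * n * (q * c' + 2))
    (h : r * (2 * ((e' + 1) * z)) = G * (e' * z)) :
    (1 + k * q) * (c' + 1) + 2 * k * (e' + 1) = (e' + 1) * (1 + k * q) := by
  rw [← hG] at h
  have h1 : 2 * r * (e' + 1) = z * q * (c' + 1) * n * e' := by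
    have : z * (2 * r * (e' + 1)) = z * (z * q * (c' + 1) * n * e') := by nlinarith
    exact Nat.eq_of_mul_eq_mul_left hz this
  have h2 : (z * n * (q * c' + 2)) * (e' + 1) = z * q * (c' + 1) * n * e' + 2 * z * (e' + 1) := by
    nlinarith
  have h3 : n * (q * c' + 2) * (e' + 1) = q * (c' + 1) * n * e' + 2 * (e' + 1) := by
    have : z * (n * (q * c' + 2) * (e' + 1)) = z * (q * (c' + 1) * n * e' + 2 * (e' + 1)) := by
      nlinarith
    exact Nat.eq_of_mul_eq_mul_left hz this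
  subst hn
  have h4 : q * ((1 + k * q) * (c' + 1) + 2 * k * (e' + 1)) = q * ((e' + 1) * (1 + k * q)) := by
    nlinarith
  exact Nat.eq_of_mul_eq_mul_left hq h4

theorem ar_small (z q c' n r G : ℕ) (hz : 0 < z) (hq : 3 ≤ q)
    (hG : z * q * (c' + 1) * n = G) (hr : 2 * r + 2 * z = z * n * (q * c' + 2)) :
    2 * r < G := by
  have h1 : z * n * (q * c' + 2) ≤ z * n * (q * c' + q) := by
    apply Nat.mul_le_mul_left
    omega
  have h2 : z * n * (q * c' + q) = G := by rw [← hG]; ring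
  omega

theorem ar_ne (z q c' n r : ℕ) (hz : 0 < z) (hq : 3 ≤ q) (hc : 1 ≤ c') (hn : 2 ≤ n)
    (hr : 2 * r + 2 * z = z * n * (q * c' + 2)) : 0 < r := by
  by_contra hcon
  have h0 : r = 0 := by omega
  subst h0
  have h1 : 3 ≤ q * c' := by
    calc 3 = 3 * 1 := by norm_num
      _ ≤ q * c' := Nat.mul_le_mul hq hc
  have h2 : 2 * 5 ≤ n * (q * c' + 2) := Nat.mul_le_mul hn (by omega)
  have h3 : z * (2 * 5) ≤ z * (n * (q * c' + 2)) := Nat.mul_le_mul_left _ h2
  have h4 : z * (n * (q * c' + 2)) = z * n * (q * c' + 2) := by ring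
  omega

theorem ar_eps1 (z q c' k : ℕ) (hz : 0 < z) (hq : 3 ≤ q) (hc : 1 ≤ c') (hk : 1 ≤ k)
    (h4 : z * q * (c' + 1) * (1 + k * q) ≤ 4 * (z * k * q)) : False := by
  have h6 : (c' + 1) * (1 + k * q) ≤ 4 * k := by
    have : (z * q) * ((c' + 1) * (1 + k * q)) ≤ (z * q) * (4 * k) := by
      calc (z * q) * ((c' + 1) * (1 + k * q)) = z * q * (c' + 1) * (1 + k * q) := by ring
        _ ≤ 4 * (z * k * q) := h4
        _ = (z * q) * (4 * k) := by ring
    exact Nat.le_of_mul_le_mul_left this (by positivity)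
  have h7 : 2 * (1 + k * 3) ≤ (c' + 1) * (1 + k * q) := by
    apply Nat.mul_le_mul (by omega)
    have : k * 3 ≤ k * q := Nat.mul_le_mul_left _ hq
    omega
  omega

theorem ar_smallC (z q k : ℕ) (hz : 0 < z) (hq : 3 ≤ q) (hk : 1 ≤ k) :
    2 * (z * k * q) < z * q * (1 + k * q) := by
  have h1 : 2 * k < 1 + k * q := by
    have : k * 3 ≤ k * q := Nat.mul_le_mul_left _ hq
    omega
  have h2 : (z * q) * (2 * k) < (z * q) * (1 + k * q) :=
    Nat.mul_lt_mul_of_pos_left h1 (by positivity)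
  calc 2 * (z * k * q) = (z * q) * (2 * k) := by ring
    _ < (z * q) * (1 + k * q) := h2
    _ = z * q * (1 + k * q) := by ring

end arith2

section bounds

variable (ι : Γ →* Matrix.SpecialLinearGroup (Fin 2) F)
variable [Finite Γ]

/-- `|C(g)| = e |Z|` with `e ≥ 2` for non-scalar `g` -/
theorem exists_card_cen (hι : Function.Injective ι) {g : Γ} (hg : g ∉ Z ι) :
    ∃ e' : ℕ, 1 ≤ e' ∧ Nat.card (cen g) = (e' + 1) * Nat.card (Z ι) := by
  obtain ⟨e, he⟩ := Subgroup.card_dvd_of_le (Z_le_cen ι hι g)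
  have hz : 0 < Nat.card (Z ι) := Nat.card_pos
  have hlt : Nat.card (Z ι) < Nat.card (cen g) := by
    rw [natCard_subgroup_eq_ncard, natCard_subgroup_eq_ncard]
    apply Set.ncard_lt_ncard _ (Set.toFinite _)
    refine ⟨Z_le_cen ι hι g, ?_⟩
    intro h
    exact hg (h (self_mem_cen g))
  have he2 : 2 ≤ e := by
    by_contra hcon
    push Not at hcon
    have : e = 0 ∨ e = 1 := by omega
    rcases this with rfl | rfl
    · rw [mul_zero] at he; omega
    · rw [mul_one] at he; omega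
  refine ⟨e - 1, by omega, ?_⟩
  rw [he, mul_comm]
  congr 1
  omega

/-- classes of `s`-type elements are large -/
theorem card_cls_ge (hι : Function.Injective ι) (h2 : (2 : F) ≠ 0) {g : Γ} (hg : g ∉ Z ι)
    (ht : tr ι g ^ 2 ≠ 4) : Nat.card Γ ≤ 4 * (cls ι g).ncard := by
  obtain ⟨e', he', he⟩ := exists_card_cen ι hι hg
  have hz : 0 < Nat.card (Z ι) := Nat.card_pos
  have hc := card_cls ι hι hg
  rw [he] at hc
  have e1 : (e' + 1) * Nat.card (Z ι) - Nat.card (Z ι) = e' * Nat.card (Z ι) := by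
    rw [add_mul, one_mul]; omega
  rw [e1] at hc
  set s := (cls ι g).ncard
  set z := Nat.card (Z ι)
  set G := Nat.card Γ
  rcases card_normalizer_cen_stype ι hι h2 hg ht with h | h
  · rw [h, he] at hc
    -- s (e'+1) z = G e' z
    have h3 : s * (e' + 1) = G * e' := by
      have : z * (s * (e' + 1)) = z * (G * e') := by nlinarith
      exact Nat.eq_of_mul_eq_mul_left hz this
    nlinarith
  · rw [h, he] at hc
    have h3 : 2 * s * (e' + 1) = G * e' := by
      have : z * (2 * s * (e' + 1)) = z * (G * e') := by nlinarith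
      exact Nat.eq_of_mul_eq_mul_left hz this
    nlinarith

theorem card_cls_ge' (hι : Function.Injective ι) {g : Γ} (hg : g ∉ Z ι)
    (hN : Nat.card (Subgroup.normalizer (cen g : Set Γ)) = Nat.card (cen g)) :
    Nat.card Γ ≤ 2 * (cls ι g).ncard := by
  obtain ⟨e', he', he⟩ := exists_card_cen ι hι hg
  have hz : 0 < Nat.card (Z ι) := Nat.card_pos
  have hc := card_cls ι hι hg
  rw [hN, he] at hc
  have e1 : (e' + 1) * Nat.card (Z ι) - Nat.card (Z ι) = e' * Nat.card (Z ι) := by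
    rw [add_mul, one_mul]; omega
  rw [e1] at hc
  set s := (cls ι g).ncard
  set z := Nat.card (Z ι)
  set G := Nat.card Γ
  have h3 : s * (e' + 1) = G * e' := by
    have : z * (s * (e' + 1)) = z * (G * e') := by nlinarith
    exact Nat.eq_of_mul_eq_mul_left hz this
  nlinarith

/-- a small union of classes is a single class -/
theorem cls_eq_of_small (hι : Function.Injective ι) (h2 : (2 : F) ≠ 0) (R : Set Γ)
    (hR : ∀ y ∈ R, y ∉ Z ι ∧ tr ι y ^ 2 ≠ 4 ∧ cls ι y ⊆ R)
    (hsmall : 2 * R.ncard < Nat.card Γ) {g : Γ} (hg : g ∈ R) : cls ι g = R := by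
  by_contra hne
  obtain ⟨hgZ, hgt, hgR⟩ := hR g hg
  have : ∃ y ∈ R, y ∉ cls ι g := by
    by_contra hcon
    push Not at hcon
    exact hne (Set.Subset.antisymm hgR hcon)
  obtain ⟨y, hyR, hy⟩ := this
  obtain ⟨hyZ, hyt, hyR'⟩ := hR y hyR
  have hd := cls_disjoint ι hι hgZ hyZ hy
  have h1 := Set.ncard_union_eq hd (Set.toFinite _) (Set.toFinite _)
  have h3 : (cls ι y ∪ cls ι g).ncard ≤ R.ncard :=
    Set.ncard_le_ncard (Set.union_subset hyR' hgR) (Set.toFinite _)
  have h4 := card_cls_ge ι hι h2 hgZ hgt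
  have h5 := card_cls_ge ι hι h2 hyZ hyt
  omega

end bounds

end SL2

end Cfsg.Agent.Lib.Lead
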