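import Mathlib
import Cfsg.Agent.Lib.Lead.SL2o

set_option autoImplicit false

namespace Cfsg.Agent.Lib.Lead

namespace SL2

open Matrix

variable {F : Type*} [Field F] {Γ : Type*} [Group Γ]

section main

variable (p : ℕ) [Fact p.Prime] [CharP F p]
variable (ι : Γ →* Matrix.SpecialLinearGroup (Fin 2) F)
variable [Finite Γ]

omit [CharP F p] in
theorem three_le_card_sylow (hp2 : p ≠ 2) (P : Sylow p Γ) {w : Γ} (hw : w ∈ P) (hw1 : w ≠ 1) :
    3 ≤ Nat.card (P : Subgroup Γ) := by
  obtain ⟨m, hm⟩ := IsPGroup.exists_card_eq P.2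
  have hp : p.Prime := Fact.out
  have hp3 : 3 ≤ p := by
    have := hp.two_le
    omega
  have hm1 : m ≠ 0 := by
    rintro rfl
    rw [pow_zero] at hm
    have := Subgroup.eq_bot_of_card_eq _ hm
    apply hw1
    have hw' : w ∈ (P : Subgroup Γ) := hw
    rw [this, Subgroup.mem_bot] at hw'
    exact hw'
  rw [hm]
  calc 3 ≤ p := hp3
    _ = p ^ 1 := (pow_one p).symm
    _ ≤ p ^ m := Nat.pow_le_pow_right hp.pos (by omega)

open Classical in
/-- `|N(P)| ≤ |C(w)| (|P| - 1)` -/
theorem card_normalizer_le (hp2 : p ≠ 2) (hι : Function.Injective ι) (P : Sylow p Γ) {w : Γ}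
    (hw : w ∈ P) (hw1 : w ≠ 1) :
    Nat.card (Subgroup.normalizer (P : Set Γ)) ≤
      Nat.card (cen w) * (Nat.card (P : Subgroup Γ) - 1) := by
  haveI : Fintype Γ := Fintype.ofFinite Γ
  have h := card_le_of_conj_maps (Subgroup.normalizer (P : Set Γ)) w
    ((Finset.univ.filter (fun x => x ∈ (P : Subgroup Γ))).erase 1) ?_
  · rw [Finset.card_erase_of_mem, ← natCard_subgroup_eq_filter] at h
    · exact h
    · rw [Finset.mem_filter]
      exact ⟨Finset.mem_univ _, (P : Subgroup Γ).one_mem⟩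
  · intro γ hγ
    rw [Finset.mem_erase, Finset.mem_filter]
    refine ⟨?_, Finset.mem_univ _, ?_⟩
    · intro h3
      apply hw1
      have : γ⁻¹ * (γ * w * γ⁻¹) * γ = w := by group
      rw [← this, h3]; group
    · exact (mem_normalizer_sylow_iff p ι hp2 hι P hw hw1).mp hγ

end main

end SL2

end Cfsg.Agent.Lib.Lead
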