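import Mathlib
import Cfsg.Agent.Lib.Lead.SL2p

set_option autoImplicit false

namespace Cfsg.Agent.Lib.Lead

namespace SL2

open Matrix

variable {F : Type*} [Field F] {Γ : Type*} [Group Γ]

section main

variable (p : ℕ) [Fact p.Prime] [CharP F p]
variable (ι : Γ →* Matrix.SpecialLinearGroup (Fin 2) F)
variable [Finite Γ]

/-- the exceptional configuration (`SL(2,5)` in characteristic three) -/
def Exceptional (w : Γ) : Prop :=
  Nat.card Γ = 60 * Nat.card (Z ι) ∧
    ∃ g₁ : Γ, g₁ ∉ Z ι ∧ tr ι g₁ ^ 2 ≠ 4 ∧ Nat.card (cen g₁) = 2 * Nat.card (Z ι) ∧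
      Nat.card (Subgroup.normalizer (cen g₁ : Set Γ)) = 4 * Nat.card (Z ι) ∧
      ∀ y : Γ, y ∉ Z ι → y ∉ cls ι w → y ∉ cls ι g₁ → Nat.card (cen y) = 5 * Nat.card (Z ι)

set_option maxHeartbeats 1600000 in
/-- the main counting theorem: either `N(P)` is transitive on the other Sylow subgroups, or we are
in the exceptional configuration -/
theorem count_main (hp2 : p ≠ 2) (hι : Function.Injective ι) (P : Sylow p Γ) {w : Γ}
    (hw : w ∈ P) (hw1 : w ≠ 1) (hn : 1 < Nat.card (Sylow p Γ)) :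
    Nat.card (Sylow p Γ) = 1 + Nat.card (P : Subgroup Γ) ∨
      (Nat.card (P : Subgroup Γ) = 3 ∧ Exceptional ι w) := by
  have h2 := two_ne_zero_of_odd (F := F) p hp2
  have hwZ := sylow_not_mem_Z p ι hp2 hι P hw hw1
  have hq3 := three_le_card_sylow p hp2 P hw hw1
  have hcw := card_cen_sylow p ι hp2 hι P hw hw1
  have hNw := normalizer_cen_eq p ι hp2 hι P hw hw1
  have hmod := card_sylow_modEq p ι hp2 hι P
  have hle := card_normalizer_le p ι hp2 hι P hw hw1
  have hclsw := card_cls ι hι hwZ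
  rw [hNw, hcw] at hclsw
  rw [hcw] at hle
  have hdvd : Nat.card (cen w) ∣ Nat.card (Subgroup.normalizer (P : Set Γ)) := by
    rw [← hNw]
    exact Subgroup.card_dvd_of_le Subgroup.le_normalizer
  rw [hcw] at hdvd
  have hG : Nat.card (Subgroup.normalizer (P : Set Γ)) * Nat.card (Sylow p Γ) = Nat.card Γ := by
    rw [Sylow.card_eq_index_normalizer P]
    exact Subgroup.card_mul_index _
  have hX : ((Z ι : Set Γ)ᶜ).ncard + Nat.card (Z ι) = Nat.card Γ := by
    rw [natCard_subgroup_eq_ncard, add_comm]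
    exact Set.ncard_add_ncard_compl _
  -- the complement of `Z ∪ cls w`
  set Rw : Set Γ := {y | y ∉ Z ι ∧ y ∉ cls ι w} with hRw_def
  have hRw_eq : Rw = (Z ι : Set Γ)ᶜ \ cls ι w := by
    ext y
    simp [hRw_def]
  have hclsw_sub : cls ι w ⊆ (Z ι : Set Γ)ᶜ := fun y hy => not_mem_Z_of_mem_cls ι hι hwZ hy
  have hRwcard : Rw.ncard + (cls ι w).ncard = ((Z ι : Set Γ)ᶜ).ncard := by
    rw [hRw_eq]
    exact Set.ncard_diff_add_ncard_of_subset hclsw_sub (Set.toFinite _)
  have hRw : ∀ y ∈ Rw, y ∉ Z ι ∧ tr ι y ^ 2 ≠ 4 ∧ cls ι y ⊆ Rw := by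
    rintro y ⟨hyZ, hyw⟩
    refine ⟨hyZ, fun ht => hyw (mem_cls_of_tr_sq p ι hp2 hι P hw hw1 hyZ ht), ?_⟩
    intro x hx
    refine ⟨not_mem_Z_of_mem_cls ι hι hyZ hx, fun hxw => ?_⟩
    exact Set.disjoint_left.mp (cls_disjoint ι hι hwZ hyZ hyw) hx hxw
  -- names
  set z := Nat.card (Z ι) with hz_def
  set q := Nat.card (P : Subgroup Γ) with hq_def
  set G := Nat.card Γ with hG_def
  set NP := Nat.card (Subgroup.normalizer (P : Set Γ)) with hNP_def
  set n := Nat.card (Sylow p Γ) with hn_def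
  set s_w := (cls ι w).ncard with hsw_def
  have hz : 0 < z := Nat.card_pos
  have hNPpos : 0 < NP := Nat.card_pos
  obtain ⟨k, hk⟩ := hmod
  have hnk : n = 1 + k * q := by rw [mul_comm k q]; omega
  have hk1 : 1 ≤ k := by
    rcases Nat.eq_zero_or_pos k with h | h
    · rw [h, zero_mul] at hnk; omega
    · exact h
  obtain ⟨q', hq'⟩ : ∃ q', q = q' + 1 := ⟨q - 1, by omega⟩
  obtain ⟨c, hc⟩ := hdvd
  have hc1 : 1 ≤ c := by
    rcases Nat.eq_zero_or_pos c with h | h
    · rw [h, mul_zero] at hc; omega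
    · exact h
  have hcq : c + 1 ≤ q := by
    rw [hc] at hle
    have : c ≤ q - 1 := Nat.le_of_mul_le_mul_left hle (by positivity)
    omega
  have hzq : z * q - z = z * q' := by rw [hq', mul_add, mul_one]; omega
  rw [hzq] at hclsw
  have hsw : s_w = n * (z * q') := ar_sw G NP n s_w (z * q') hNPpos hG hclsw
  have hrw : Rw.ncard + s_w + z = G := by omega
  rcases Nat.lt_or_ge 1 c with hc2 | hc2
  swap
  · -- case c = 1
    have hc1' : c = 1 := by omega
    rw [hc1', mul_one] at hc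
    have hG' : z * (q' + 1) * n = G := by rw [← hq', ← hc]; exact hG
    have hrwc := ar_C1 z q' n k s_w Rw.ncard G hG' (by rw [← hq']; exact hnk) hsw hrw
    rw [← hq'] at hrwc
    have hne : Rw.Nonempty := by
      rw [← Set.ncard_pos (Set.toFinite _), hrwc]
      have : 0 < q := by omega
      positivity
    obtain ⟨g₂, hg₂⟩ := hne
    obtain ⟨hg₂Z, hg₂t, _⟩ := hRw g₂ hg₂
    have hsmall : 2 * Rw.ncard < Nat.card Γ := by
      rw [hrwc, ← hG_def, ← hG', ← hq', hnk]
      exact ar_smallC z q k hz hq3 hk1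
    have hcls := cls_eq_of_small ι hι h2 Rw hRw hsmall hg₂
    obtain ⟨e', he', he⟩ := exists_card_cen ι hι hg₂Z
    have hc2 := card_cls ι hι hg₂Z
    rw [hcls, hrwc, he] at hc2
    have e1 : (e' + 1) * z - z = e' * z := by rw [add_mul, one_mul]; omega
    rw [e1] at hc2
    left
    have hε : ∃ ε, (ε = 1 ∨ ε = 2) ∧
        Nat.card (Subgroup.normalizer (cen g₂ : Set Γ)) = ε * ((e' + 1) * z) := by
      rcases card_normalizer_cen_stype ι hι h2 hg₂Z hg₂t with h | h
      · exact ⟨1, Or.inl rfl, by rw [h, he, one_mul]⟩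
      · exact ⟨2, Or.inr rfl, by rw [h, he]⟩
    obtain ⟨ε, hε, hN⟩ := hε
    rw [hN] at hc2
    have hfin := ar_C2 z q k ε e' (z * k * q) G n hz (by omega) (by rw [← hc]; exact hG) hnk rfl hc2
    have := arithB' k q e' ε hk1 hq3 he' hε hfin
    rw [hnk, this, one_mul]
  · -- case c ≥ 2
    obtain ⟨c', hc'⟩ : ∃ c', c = c' + 1 := ⟨c - 1, by omega⟩
    have hc'1 : 1 ≤ c' := by omega
    have hlt : Nat.card (cen w) < Nat.card (Subgroup.normalizer (P : Set Γ)) := by
      rw [hcw, ← hNP_def, hc]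
      have : 0 < z * q := by positivity
      nlinarith
    obtain ⟨g₁, hg₁N, hg₁Z, hg₁t, hg₁c⟩ := exists_stype_of_lt p ι hp2 hι P hw hw1 hlt
    rw [← hNP_def, ← hq_def, hc] at hg₁c
    have ha₁ : Nat.card (cen g₁) = z * c := by
      have : q * Nat.card (cen g₁) = q * (z * c) := by nlinarith
      exact Nat.eq_of_mul_eq_mul_left (by omega) this
    have hg₁w : g₁ ∉ cls ι w := fun h =>
      hg₁t (tr_sq_of_mem_cls_sylow p ι hp2 hι P hw hw1 h)
    have hg₁Rw : g₁ ∈ Rw := ⟨hg₁Z, hg₁w⟩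
    have hcls₁_sub : cls ι g₁ ⊆ Rw := (hRw g₁ hg₁Rw).2.2
    set R : Set Γ := {y | y ∈ Rw ∧ y ∉ cls ι g₁} with hR_def
    have hR_eq : R = Rw \ cls ι g₁ := by
      ext y
      simp [hR_def]
    have hRcard : R.ncard + (cls ι g₁).ncard = Rw.ncard := by
      rw [hR_eq]
      exact Set.ncard_diff_add_ncard_of_subset hcls₁_sub (Set.toFinite _)
    have hR : ∀ y ∈ R, y ∉ Z ι ∧ tr ι y ^ 2 ≠ 4 ∧ cls ι y ⊆ R := by
      rintro y ⟨hyRw, hy₁⟩
      obtain ⟨hyZ, hyt, hysub⟩ := hRw y hyRw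
      refine ⟨hyZ, hyt, ?_⟩
      intro x hx
      refine ⟨hysub hx, fun hx₁ => ?_⟩
      exact Set.disjoint_left.mp (cls_disjoint ι hι hg₁Z hyZ hy₁) hx hx₁
    have hG' : z * (q' + 1) * (c' + 1) * n = G := by rw [← hq', ← hc', ← hc]; exact hG
    have hrw' := ar_D0 z q' c n s_w Rw.ncard G (by rw [← hq', ← hc]; exact hG) hsw hrw
    rw [hc'] at hrw'
    have hcls₁ := card_cls ι hι hg₁Z
    rw [ha₁] at hcls₁
    have e1 : z * c - z = z * c' := by rw [hc', mul_add, mul_one]; omega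
    rw [e1] at hcls₁
    have hqpos : 0 < q := by omega
    rcases card_normalizer_cen_stype ι hι h2 hg₁Z hg₁t with hN₁ | hN₁
    · -- ε₁ = 1 : impossible
      exfalso
      rw [hN₁, ha₁, hc'] at hcls₁
      have hr := ar_D1 z q' c' n k (cls ι g₁).ncard Rw.ncard R.ncard G hz hG'
        (by rw [← hq']; exact hnk) hrw' hcls₁ hRcard
      rw [← hq'] at hr
      have hne : R.Nonempty := by
        rw [← Set.ncard_pos (Set.toFinite _), hr]
        positivity
      obtain ⟨g₂, hg₂⟩ := hne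
      obtain ⟨hg₂Z, hg₂t, hg₂sub⟩ := hR g₂ hg₂
      have h4 := card_cls_ge ι hι h2 hg₂Z hg₂t
      have h5 : (cls ι g₂).ncard ≤ R.ncard := Set.ncard_le_ncard hg₂sub (Set.toFinite _)
      rw [hr] at h5
      rw [← hG_def, ← hG', ← hq', hnk] at h4
      exact ar_eps1 z q c' k hz hq3 hc'1 hk1 (le_trans h4 (Nat.mul_le_mul_left 4 h5))
    · -- ε₁ = 2
      rw [hN₁, ha₁, hc'] at hcls₁
      have hr := ar_D2 z q' c' n (cls ι g₁).ncard Rw.ncard R.ncard G hz hG' hrw' hcls₁ hRcard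
      rw [← hq'] at hr
      have hn2 : 2 ≤ n := by omega
      have hne : R.Nonempty := by
        rw [← Set.ncard_pos (Set.toFinite _)]
        exact ar_ne z q c' n R.ncard hz hq3 hc'1 hn2 hr
      obtain ⟨g₂, hg₂⟩ := hne
      obtain ⟨hg₂Z, hg₂t, hg₂sub⟩ := hR g₂ hg₂
      have hsmall : 2 * R.ncard < Nat.card Γ := by
        rw [← hG_def]
        exact ar_small z q c' n R.ncard G hz hq3 (by rw [← hc', ← hc]; exact hG) hr
      have hcls := cls_eq_of_small ι hι h2 R hR hsmall hg₂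
      obtain ⟨e', he', he⟩ := exists_card_cen ι hι hg₂Z
      have hN₂ : Nat.card (Subgroup.normalizer (cen g₂ : Set Γ)) = 2 * Nat.card (cen g₂) := by
        rcases card_normalizer_cen_stype ι hι h2 hg₂Z hg₂t with h | h
        · exfalso
          have := card_cls_ge' ι hι hg₂Z h
          rw [hcls] at this
          omega
        · exact h
      have hc2' := card_cls ι hι hg₂Z
      rw [hcls, hN₂, he] at hc2'
      have e2 : (e' + 1) * z - z = e' * z := by rw [add_mul, one_mul]; omega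
      rw [e2] at hc2'
      have hfin := ar_D3 z q c' n k e' R.ncard G hz hqpos (by rw [← hc', ← hc]; exact hG) hnk
        hr hc2'
      rw [← hc'] at hfin
      rcases arithA k q c (e' + 1) hk1 hq3 hc2 hcq hfin with hk | ⟨hk3, hq3', hc2', he5⟩
      · left
        rw [hnk, hk, one_mul]
      · right
        refine ⟨hq3', ?_, g₁, hg₁Z, hg₁t, ?_, ?_, ?_⟩
        · rw [← hG_def, ← hG, hc, hnk, hk3, hq3', hc2']
          ring
        · rw [ha₁, hc2', mul_comm]
        · rw [hN₁, ha₁, hc2']; ring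
        · intro y hyZ hyw hy₁
          have hyR : y ∈ R := ⟨⟨hyZ, hyw⟩, hy₁⟩
          rw [← hcls] at hyR
          rw [(card_cen_of_mem_cls ι hι hg₂Z hyR).1, he, he5]

end main

end SL2

end Cfsg.Agent.Lib.Lead
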