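import Mathlib
import Cfsg.Agent.Lib.Lead.SL2q

set_option autoImplicit false

namespace Cfsg.Agent.Lib.Lead

namespace SL2

open Matrix

variable {F : Type*} [Field F] {Γ : Type*} [Group Γ]

section matlemma

/-- the key computation: if the conjugates `(1+A) B (1-A)` and `(1+B) A (1-B)` of two
square-zero matrices commute, then `tr (A B) = 1` -/
theorem trace_eq_one_of_commute (h2 : (2 : F) ≠ 0) (A B : M2 F) (hA : A * A = 0)
    (hB : B * B = 0) (hA0 : A ≠ 0) (hB0 : B ≠ 0) (hτ : (A * B).trace ≠ 0)
    (hc : ((1 + A) * B * (1 - A)) * ((1 + B) * A * (1 - B)) =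
      ((1 + B) * A * (1 - B)) * ((1 + A) * B * (1 - A))) : (A * B).trace = 1 := by
  set τ := (A * B).trace with hτ_def
  have hdA : A.det = 0 := (trace_det_of_sq_zero A hA).2
  have hdB : B.det = 0 := (trace_det_of_sq_zero B hB).2
  have htA : A.trace = 0 := (trace_det_of_sq_zero A hA).1
  have htB : B.trace = 0 := (trace_det_of_sq_zero B hB).1
  have hABA : A * B * A = τ • A := mul_mul_of_det_zero A B hdA
  have hBAB : B * A * B = τ • B := by
    have := mul_mul_of_det_zero B A hdB
    rw [Matrix.trace_mul_comm] at this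
    exact this
  set X := (1 + A) * B * (1 - A) with hX
  set Y := (1 + B) * A * (1 - B) with hY
  have hXe : X = B + A * B - B * A - τ • A := by
    rw [hX]
    simp only [add_mul, mul_sub, mul_add, one_mul, mul_one, sub_mul]
    rw [hABA]
    abel
  have hYe : Y = A + B * A - A * B - τ • B := by
    rw [hY]
    simp only [add_mul, mul_sub, mul_add, one_mul, mul_one, sub_mul]
    rw [hBAB]
    abel
  have hUA : (1 - A) * (1 + A) = 1 := by
    simp only [sub_mul, mul_add, one_mul, mul_one, hA]
    abel
  have hUB : (1 - B) * (1 + B) = 1 := by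
    simp only [sub_mul, mul_add, one_mul, mul_one, hB]
    abel
  have hXX : X * X = 0 := by
    rw [hX]
    calc (1 + A) * B * (1 - A) * ((1 + A) * B * (1 - A))
        = (1 + A) * B * ((1 - A) * (1 + A)) * B * (1 - A) := by simp only [mul_assoc]
      _ = 0 := by rw [hUA, mul_one, mul_assoc (1 + A), hB, mul_zero, zero_mul]
  have hYY : Y * Y = 0 := by
    rw [hY]
    calc (1 + B) * A * (1 - B) * ((1 + B) * A * (1 - B))
        = (1 + B) * A * ((1 - B) * (1 + B)) * A * (1 - B) := by simp only [mul_assoc]
      _ = 0 := by rw [hUB, mul_one, mul_assoc (1 + B), hA, mul_zero, zero_mul]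
  have hUA' : (1 + A) * (1 - A) = 1 := by
    simp only [add_mul, mul_sub, one_mul, mul_one, hA]
    abel
  have hX0 : X ≠ 0 := by
    intro h
    apply hB0
    have : (1 - A) * X * (1 + A) = 0 := by rw [h, mul_zero, zero_mul]
    rw [hX] at this
    have e : (1 - A) * ((1 + A) * B * (1 - A)) * (1 + A) =
        ((1 - A) * (1 + A)) * B * ((1 - A) * (1 + A)) := by simp only [mul_assoc]
    rw [e, hUA, one_mul, mul_one] at this
    exact this
  obtain ⟨α, β, hαβ⟩ := commutant X Y (not_scalar_of_sq_zero hX0 hXX) hc.symm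
  have htX : X.trace = 0 := (trace_det_of_sq_zero X hXX).1
  have htY : Y.trace = 0 := (trace_det_of_sq_zero Y hYY).1
  have hα : α = 0 := by
    have := htY
    rw [hαβ, trace_add_smul, htX, mul_zero, add_zero] at this
    rcases mul_eq_zero.mp this with h | h
    · exact absurd h h2
    · exact h
  rw [hα, zero_smul, zero_add] at hαβ
  -- multiply on the left by `A`
  have hAY : A * Y = τ • A - τ • (A * B) := by
    rw [hYe]
    simp only [mul_sub, mul_add, ← mul_assoc, hA, zero_mul, hABA, mul_smul_comm]
    abel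
  have hAX : A * X = A * B - τ • A := by
    rw [hXe]
    simp only [mul_sub, mul_add, ← mul_assoc, hA, zero_mul, hABA, mul_smul_comm, smul_zero]
    abel
  have h3 : τ • A - τ • (A * B) = β • (A * B - τ • A) := by
    rw [← hAY, ← hAX, hαβ, mul_smul_comm]
  -- multiply on the right by `A`
  have h4 : (τ • A - τ • (A * B)) * A = (β • (A * B - τ • A)) * A := by rw [h3]
  simp only [sub_mul, smul_mul_assoc, hA, hABA, smul_zero, zero_sub, sub_zero, smul_smul] at h4
  -- h4 : -(τ * τ) • A = (β * τ) • A
  have h5 : (β * τ + τ * τ) • A = 0 := by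
    rw [add_smul, ← h4]
    simp
  have h6 : β = -τ := by
    rcases smul_eq_zero.mp h5 with h | h
    · have : (β + τ) * τ = 0 := by linear_combination h
      rcases mul_eq_zero.mp this with h' | h'
      · linear_combination h'
      · exact absurd h' hτ
    · exact absurd h hA0
  rw [h6] at h3
  -- τ A - τ AB = -τ AB + τ² A
  have h7 : (τ * (1 - τ)) • A = 0 := by
    have : τ • A - τ • (A * B) - (-τ) • (A * B - τ • A) = 0 := sub_eq_zero.mpr h3
    rw [← this]
    module
  rcases smul_eq_zero.mp h7 with h | h
  · rcases mul_eq_zero.mp h with h' | h'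
    · exact absurd h' hτ
    · linear_combination -h'
  · exact absurd h hA0

end matlemma

end SL2

end Cfsg.Agent.Lib.Lead
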