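import Mathlib
import Cfsg.Agent.Lib.Lead.SL2r

set_option autoImplicit false

namespace Cfsg.Agent.Lib.Lead

namespace SL2

open Matrix

variable {F : Type*} [Field F] {Γ : Type*} [Group Γ]

section transitive

variable (p : ℕ) [Fact p.Prime] [CharP F p]
variable (ι : Γ →* Matrix.SpecialLinearGroup (Fin 2) F)

omit [Fact p.Prime] [CharP F p] in
theorem conj_mem_smul_sylow (P : Sylow p Γ) {g u : Γ} (hu : u ∈ P) :
    g * u * g⁻¹ ∈ ((g • P : Sylow p Γ) : Subgroup Γ) := by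
  rw [Sylow.coe_subgroup_smul]
  have : g * u * g⁻¹ = MulAut.conj g • u := by simp [MulAut.smul_def]
  rw [this, Subgroup.smul_mem_pointwise_smul_iff]
  exact hu

omit [Fact p.Prime] [CharP F p] in
theorem conj_ne_one {g u : Γ} (hu : u ≠ 1) : g * u * g⁻¹ ≠ 1 := by
  intro h3
  apply hu
  have : g⁻¹ * (g * u * g⁻¹) * g = u := by group
  rw [← this, h3]; group

omit [Fact p.Prime] [CharP F p] in
theorem mat_inv_of_tr_two {u : Γ} (hu : tr ι u = 2) : mat ι u⁻¹ = 1 - nil ι u := by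
  rw [mat_inv, hu]
  unfold nil
  rw [two_smul]
  abel

variable [Finite Γ]

/-- the generic case: `P` is transitive on the other Sylow subgroups -/
theorem good_pair_of_transitive (hp2 : p ≠ 2) (hι : Function.Injective ι) (P Q : Sylow p Γ)
    (hPQ : P ≠ Q) {w : Γ} (hw : w ∈ P) (hw1 : w ≠ 1)
    (hn : Nat.card (Sylow p Γ) = 1 + Nat.card (P : Subgroup Γ)) :
    ∃ u v : Γ, u ^ p = 1 ∧ v ^ p = 1 ∧ tr ι (u * v) = 3 := by
  have h2 := two_ne_zero_of_odd (F := F) p hp2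
  obtain ⟨g, hg⟩ := MulAction.exists_smul_eq Γ P Q
  have hu : g * w * g⁻¹ ∈ Q := by
    have := conj_mem_smul_sylow p P (g := g) hw
    rw [hg] at this
    exact this
  have hu1 : g * w * g⁻¹ ≠ 1 := conj_ne_one hw1
  set u := g * w * g⁻¹ with hu_def
  -- the map `v ↦ v • Q`
  have hmapne : ∀ v : ↥(P : Subgroup Γ), (v : Γ) • Q ∈ ({P}ᶜ : Set (Sylow p Γ)) := by
    intro v hv
    rw [Set.mem_singleton_iff] at hv
    apply hPQ
    have h1 : (v : Γ)⁻¹ • P = P := by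
      rw [Sylow.smul_eq_iff_mem_normalizer]
      exact sylow_le_normalizer p P ((P : Subgroup Γ).inv_mem v.2)
    have h3 : Q = (v : Γ)⁻¹ • ((v : Γ) • Q) := by rw [smul_smul, inv_mul_cancel, one_smul]
    rw [hv, h1] at h3
    exact h3.symm
  let f : ↥(P : Subgroup Γ) → ↥({P}ᶜ : Set (Sylow p Γ)) := fun v => ⟨(v : Γ) • Q, hmapne v⟩
  have hf : Function.Injective f := by
    intro v v' e
    have e1 : (v : Γ) • Q = (v' : Γ) • Q := congrArg Subtype.val e
    have e2 : ((v' : Γ)⁻¹ * (v : Γ)) • Q = Q := by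
      rw [← smul_smul, e1, smul_smul, inv_mul_cancel, one_smul]
    rw [Sylow.smul_eq_iff_mem_normalizer] at e2
    have e3 : (v' : Γ)⁻¹ * (v : Γ) ∈ P :=
      (P : Subgroup Γ).mul_mem ((P : Subgroup Γ).inv_mem v'.2) v.2
    have e4 : (v' : Γ)⁻¹ * (v : Γ) ∈ Q :=
      mem_sylow_of_mem_normalizer p Q e2 (sylow_pow_p p ι hι P e3)
    have e5 : (v' : Γ)⁻¹ * (v : Γ) = 1 := by
      by_contra hne
      exact hPQ (sylow_TI p ι hp2 hι P Q e3 e4 hne)
    apply Subtype.ext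
    exact (inv_mul_eq_one.mp e5).symm
  have hcard : Nat.card ↥({P}ᶜ : Set (Sylow p Γ)) ≤ Nat.card ↥(P : Subgroup Γ) := by
    rw [Nat.card_coe_set_eq, Set.ncard_compl, Set.ncard_singleton, hn]
    omega
  have hbij := hf.bijective_of_nat_card_le hcard
  -- `u • P ≠ P`
  have huP : u • P ∈ ({P}ᶜ : Set (Sylow p Γ)) := by
    intro h
    rw [Set.mem_singleton_iff, Sylow.smul_eq_iff_mem_normalizer] at h
    have := mem_sylow_of_mem_normalizer p P h (sylow_pow_p p ι hι Q hu)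
    exact hPQ (sylow_TI p ι hp2 hι P Q this hu hu1)
  obtain ⟨v, hv⟩ := hbij.2 ⟨u • P, huP⟩
  have hvQ : (v : Γ) • Q = u • P := congrArg Subtype.val hv
  have hv1 : (v : Γ) ≠ 1 := by
    intro h
    rw [h, one_smul] at hvQ
    apply hPQ
    have h1 : u⁻¹ • Q = Q := by
      rw [Sylow.smul_eq_iff_mem_normalizer]
      exact sylow_le_normalizer p Q ((Q : Subgroup Γ).inv_mem hu)
    rw [← h1, hvQ, smul_smul, inv_mul_cancel, one_smul]
  -- the two commuting elements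
  have ha : u * (v : Γ) * u⁻¹ ∈ ((u • P : Sylow p Γ) : Subgroup Γ) := conj_mem_smul_sylow p P v.2
  have hb : (v : Γ) * u * (v : Γ)⁻¹ ∈ ((u • P : Sylow p Γ) : Subgroup Γ) := by
    rw [← hvQ]
    exact conj_mem_smul_sylow p Q hu
  have hab := sylow_commute p ι hp2 hι (u • P) ha hb
  -- matrices
  have htu := sylow_tr p ι Q hu
  have htv := sylow_tr p ι P v.2
  have hA : nil ι u * nil ι u = 0 := nil_mul_self_of_tr ι htu
  have hB : nil ι (v : Γ) * nil ι (v : Γ) = 0 := nil_mul_self_of_tr ι htv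
  have hA0 : nil ι u ≠ 0 := fun h => hu1 ((nil_eq_zero_iff ι hι).mp h)
  have hB0 : nil ι (v : Γ) ≠ 0 := fun h => hv1 ((nil_eq_zero_iff ι hι).mp h)
  have htA : (nil ι u).trace = 0 := (trace_det_of_sq_zero _ hA).1
  have htB : (nil ι (v : Γ)).trace = 0 := (trace_det_of_sq_zero _ hB).1
  have hτ : (nil ι u * nil ι (v : Γ)).trace ≠ 0 := by
    intro h
    have h1 : (nil ι u * mat ι (v : Γ)).trace = 0 := by
      rw [mat_eq_one_add_nil ι (v : Γ), mul_add, mul_one, Matrix.trace_add, htA, h, add_zero]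
    have h3 := (mem_normalizer_sylow_iff_trace p ι hp2 hι Q hu hu1).mpr h1
    have h4 := mem_sylow_of_mem_normalizer p Q h3 (sylow_pow_p p ι hι P v.2)
    exact hPQ (sylow_TI p ι hp2 hι P Q v.2 h4 hv1)
  have hX : nil ι (u * (v : Γ) * u⁻¹) = (1 + nil ι u) * nil ι (v : Γ) * (1 - nil ι u) := by
    rw [nil_conj, mat_eq_one_add_nil ι u, mat_inv_of_tr_two ι htu]
  have hY : nil ι ((v : Γ) * u * (v : Γ)⁻¹) =
      (1 + nil ι (v : Γ)) * nil ι u * (1 - nil ι (v : Γ)) := by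
    rw [nil_conj, mat_eq_one_add_nil ι (v : Γ), mat_inv_of_tr_two ι htv]
  have hc : nil ι (u * (v : Γ) * u⁻¹) * nil ι ((v : Γ) * u * (v : Γ)⁻¹) =
      nil ι ((v : Γ) * u * (v : Γ)⁻¹) * nil ι (u * (v : Γ) * u⁻¹) := by
    have := congrArg (mat ι) hab
    rw [mat_mul ι (u * (v : Γ) * u⁻¹) ((v : Γ) * u * (v : Γ)⁻¹),
      mat_mul ι ((v : Γ) * u * (v : Γ)⁻¹) (u * (v : Γ) * u⁻¹),
      mat_eq_one_add_nil ι (u * (v : Γ) * u⁻¹),
      mat_eq_one_add_nil ι ((v : Γ) * u * (v : Γ)⁻¹)] at this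
    simp only [add_mul, mul_add, one_mul, mul_one] at this
    have h5 : ∀ a b c d : M2 F, 1 + a + (b + c) = 1 + b + (a + d) → c = d := by
      intro a b c d h
      have h6 : 1 + a + (b + c) = (1 + a + b) + c := by abel
      have h7 : 1 + b + (a + d) = (1 + a + b) + d := by abel
      rw [h6, h7] at h
      exact add_left_cancel h
    exact h5 _ _ _ _ this
  rw [hX, hY] at hc
  have hτ1 := trace_eq_one_of_commute h2 _ _ hA hB hA0 hB0 hτ hc
  refine ⟨u, (v : Γ), sylow_pow_p p ι hι Q hu, sylow_pow_p p ι hι P v.2, ?_⟩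
  unfold tr
  rw [mat_mul, mat_eq_one_add_nil ι u, mat_eq_one_add_nil ι (v : Γ)]
  simp only [add_mul, mul_add, one_mul, mul_one, Matrix.trace_add, Matrix.trace_one, htA, htB,
    hτ1]
  simp
  norm_num

end transitive

end SL2

end Cfsg.Agent.Lib.Lead
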