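import Mathlib
import Cfsg.Agent.Lib.Lead.SL2s

set_option autoImplicit false

namespace Cfsg.Agent.Lib.Lead

namespace SL2

open Matrix

variable {F : Type*} [Field F] {Γ : Type*} [Group Γ]

section prelim

variable (ι : Γ →* Matrix.SpecialLinearGroup (Fin 2) F)

/-- involutions are scalar -/
theorem mem_Z_of_sq_eq_one (h2 : (2 : F) ≠ 0) {b : Γ} (hb : b ^ 2 = 1) : b ∈ Z ι := by
  have h1 : mat ι b * mat ι b = 1 := by rw [← mat_mul, ← pow_two, hb, mat_one]
  rw [mat_mul_self] at h1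
  have h3 : tr ι b • mat ι b = (2 : F) • (1 : M2 F) := by
    rw [two_smul]
    exact sub_eq_iff_eq_add.mp h1
  have ht : tr ι b ≠ 0 := by
    intro h0
    rw [h0, zero_smul] at h3
    have := congrFun (congrFun h3 0) 0
    simp at this
    exact h2 this.symm
  refine ⟨2 / tr ι b, ?_⟩
  have := congrArg (fun X => (tr ι b)⁻¹ • X) h3
  simp only [smul_smul, inv_mul_cancel₀ ht, one_smul] at this
  rw [this, div_eq_inv_mul]

theorem sq_eq_one_of_mem_Z (hι : Function.Injective ι) {b : Γ} (hb : b ∈ Z ι) : b ^ 2 = 1 := by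
  obtain ⟨c, hc⟩ := hb
  apply mat_injective ι hι
  rw [mat_pow, mat_one, hc, smul_pow, one_pow]
  have hd := det_mat ι b
  rw [hc, Matrix.det_smul, Matrix.det_one, mul_one] at hd
  simp only [Fintype.card_fin] at hd
  rw [hd, one_smul]

open Classical in
theorem card_Z_dvd_two (hι : Function.Injective ι) [Finite Γ] : Nat.card (Z ι) ∣ 2 := by
  have hle : Nat.card (Z ι) ≤ 2 := by
    have : Nat.card Bool = 2 := by simp
    rw [← this]
    apply Nat.card_le_card_of_injective (fun z : Z ι => decide (mat ι (z : Γ) 0 0 = 1))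
    rintro ⟨a, ha⟩ ⟨b, hb⟩ e
    simp only [decide_eq_decide] at e
    obtain ⟨c, hc⟩ := ha
    obtain ⟨d, hd⟩ := hb
    have hc2 : c ^ 2 = 1 := by
      have h := det_mat ι a
      rw [hc, Matrix.det_smul, Matrix.det_one, mul_one] at h
      simpa using h
    have hd2 : d ^ 2 = 1 := by
      have h := det_mat ι b
      rw [hd, Matrix.det_smul, Matrix.det_one, mul_one] at h
      simpa using h
    have hca : mat ι a 0 0 = c := by rw [hc]; simp
    have hdb : mat ι b 0 0 = d := by rw [hd]; simp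
    rw [hca, hdb] at e
    apply Subtype.ext
    apply mat_injective ι hι
    rw [hc, hd]
    congr 1
    have hc' : (c - 1) * (c + 1) = 0 := by linear_combination hc2
    have hd' : (d - 1) * (d + 1) = 0 := by linear_combination hd2
    rcases mul_eq_zero.mp hc' with h | h
    · have h1 : c = 1 := sub_eq_zero.mp h
      rw [h1, e.mp h1]
    · rcases mul_eq_zero.mp hd' with h' | h'
      · have h1 : d = 1 := sub_eq_zero.mp h'
        rw [h1, e.mpr h1]
      · have h1 : c = -1 := by linear_combination h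
        have h1' : d = -1 := by linear_combination h'
        rw [h1, h1']
  have hpos : 0 < Nat.card (Z ι) := Nat.card_pos
  have : Nat.card (Z ι) = 1 ∨ Nat.card (Z ι) = 2 := by omega
  rcases this with h | h <;> rw [h] <;> norm_num

omit [Field F] in
theorem pow_card_subgroup_eq_one (H : Subgroup Γ) {b : Γ} (hb : b ∈ H) : b ^ Nat.card H = 1 := by
  have h := pow_card_eq_one' (x := (⟨b, hb⟩ : ↥H))
  have h' := congrArg Subtype.val h
  rw [Subgroup.coe_pow, Subgroup.coe_one] at h'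
  exact h'

omit [Field F] in
theorem pow_eq_one_of_add {b : Γ} {m n : ℕ} (h1 : b ^ (m + n) = 1) (h2 : b ^ m = 1) :
    b ^ n = 1 := by
  rw [pow_add, h2, one_mul] at h1
  exact h1

omit [Field F] in
theorem sq_eq_one_of_pow_dvd_two {b : Γ} {z : ℕ} (hz : z ∣ 2) (h : b ^ z = 1) : b ^ 2 = 1 := by
  obtain ⟨m, hm⟩ := hz
  rw [hm, pow_mul, h, one_pow]

theorem conj_mem_cls {g y : Γ} (hy : y ∈ cls ι g)
    (γ : Γ) : γ * y * γ⁻¹ ∈ cls ι g := by
  obtain ⟨δ, b, hb, rfl⟩ := hy
  exact ⟨γ * δ, b, hb, by group⟩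

theorem mem_normalizer_cen_conj (hι : Function.Injective ι) {y : Γ} (hy : y ∉ Z ι) (γ x : Γ) :
    x ∈ Subgroup.normalizer (cen (γ * y * γ⁻¹) : Set Γ) ↔
      γ⁻¹ * x * γ ∈ Subgroup.normalizer (cen y : Set Γ) := by
  have hy' : γ * y * γ⁻¹ ∉ Z ι := fun h => hy ((conj_mem_Z_iff ι hι).mp h)
  rw [mem_normalizer_cen_iff ι hι hy', mem_normalizer_cen_iff ι hι hy, mem_cen_conj]
  have : γ⁻¹ * (x * (γ * y * γ⁻¹) * x⁻¹) * γ = γ⁻¹ * x * γ * y * (γ⁻¹ * x * γ)⁻¹ := by group
  rw [this]

end prelim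

end SL2

end Cfsg.Agent.Lib.Lead
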