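import Mathlib
import Cfsg.Agent.Lib.Lead.SL2t

set_option autoImplicit false

namespace Cfsg.Agent.Lib.Lead

namespace SL2

open Matrix

variable {F : Type*} [Field F] {Γ : Type*} [Group Γ]

section exceptional

variable (p : ℕ) [Fact p.Prime] [CharP F p]
variable (ι : Γ →* Matrix.SpecialLinearGroup (Fin 2) F)
variable [Finite Γ]

set_option maxHeartbeats 1600000 in
/-- the exceptional case: a subgroup `SL(2,3)` -/
theorem good_pair_of_exceptional (hp2 : p ≠ 2) (hι : Function.Injective ι) (P : Sylow p Γ)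
    {w : Γ} (hw : w ∈ P) (hw1 : w ≠ 1) (hq : Nat.card (P : Subgroup Γ) = 3)
    (hE : Exceptional ι w) : ∃ u v : Γ, u ^ p = 1 ∧ v ^ p = 1 ∧ tr ι (u * v) = 3 := by
  have h2 := two_ne_zero_of_odd (F := F) p hp2
  have hp3 : p = 3 := by
    obtain ⟨m, hm⟩ := IsPGroup.exists_card_eq P.2
    rw [hq] at hm
    have hm0 : m ≠ 0 := by
      rintro rfl
      simp at hm
    have : p ∣ 3 := by
      rw [hm]
      exact dvd_pow_self p hm0
    exact (Nat.prime_dvd_prime_iff_eq Fact.out Nat.prime_three).mp this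
  obtain ⟨hG, g₁, hg₁Z, hg₁t, hc₁, hN₁, hrest⟩ := hE
  have hz2 := card_Z_dvd_two ι hι
  have hzpos : 0 < Nat.card (Z ι) := Nat.card_pos
  have hz12 : Nat.card (Z ι) = 1 ∨ Nat.card (Z ι) = 2 := (Nat.dvd_prime Nat.prime_two).mp hz2
  set z := Nat.card (Z ι) with hz_def
  set S := Subgroup.normalizer (cen g₁ : Set Γ) with hS
  -- E2 : elements of `S ∖ Z` lie in the class of `g₁`
  have hE2 : ∀ b ∈ S, b ∉ Z ι → b ∈ cls ι g₁ := by
    intro b hb hbZ
    by_contra hb₁
    have hb4 : b ^ (4 * z) = 1 := by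
      have := pow_card_subgroup_eq_one S hb
      rw [hN₁] at this
      exact this
    have hbz : b ^ z = 1 := by
      by_cases hbw : b ∈ cls ι w
      · have ht := tr_sq_of_mem_cls_sylow p ι hp2 hι P hw hw1 hbw
        have h3z : b ^ (3 * z) = 1 := by
          have h5 : (tr ι b - 2) * (tr ι b + 2) = 0 := by linear_combination ht
          rcases mul_eq_zero.mp h5 with h6 | h6
          · have := pow_p_eq_one_of_tr_eq_two p ι hι (sub_eq_zero.mp h6)
            rw [hp3] at this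
            rw [pow_mul, this, one_pow]
          · have h7 : tr ι b = -2 := by linear_combination h6
            have hmem := pow_p_mem_Z_of_tr_neg_two p ι hp2 h7
            rw [hp3] at hmem
            have h9 := pow_card_subgroup_eq_one (Z ι) hmem
            rw [pow_mul]
            exact h9
        exact pow_eq_one_of_add (m := 3 * z) (n := z)
          (by rw [show 3 * z + z = 4 * z by ring]; exact hb4) h3z
      · have h5 := hrest b hbZ hbw hb₁
        have h5z : b ^ (5 * z) = 1 := by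
          have := pow_card_subgroup_eq_one (cen b) (self_mem_cen b)
          rw [h5] at this
          exact this
        exact pow_eq_one_of_add (m := 4 * z) (n := z)
          (by rw [show 4 * z + z = 5 * z by ring]; exact h5z) hb4
    exact hbZ (mem_Z_of_sq_eq_one ι h2 (sq_eq_one_of_pow_dvd_two hz2 hbz))
  -- E3 : `S / Z` is abelian
  have hZS : Z ι ≤ S := le_trans (Z_le_cen ι hι g₁) Subgroup.le_normalizer
  have hcomm : ∀ s ∈ S, ∀ b ∈ S, s * b * s⁻¹ * b⁻¹ ∈ Z ι := by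
    haveI := Z_normal ι hι
    have hcardq : Nat.card (↥S ⧸ (Z ι).subgroupOf S) = 2 ^ 2 := by
      have h1 := Subgroup.card_eq_card_quotient_mul_card_subgroup ((Z ι).subgroupOf S)
      have h3 : Nat.card ((Z ι).subgroupOf S) = z :=
        Nat.card_congr (Subgroup.subgroupOfEquivOfLe hZS).toEquiv
      rw [h3, hN₁] at h1
      have : Nat.card (↥S ⧸ (Z ι).subgroupOf S) = 4 :=
        Nat.eq_of_mul_eq_mul_right hzpos h1.symm
      rw [this]
      norm_num
    haveI : Fact (Nat.Prime 2) := ⟨Nat.prime_two⟩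
    have hcm := IsPGroup.isMulCommutative_of_card_eq_prime_sq hcardq
    intro s hs b hb
    have := mul_comm' (QuotientGroup.mk (⟨b⁻¹, S.inv_mem hb⟩ : ↥S) : ↥S ⧸ (Z ι).subgroupOf S)
      (QuotientGroup.mk ⟨s⁻¹, S.inv_mem hs⟩)
    rw [← QuotientGroup.mk_mul, ← QuotientGroup.mk_mul, QuotientGroup.eq,
      Subgroup.mem_subgroupOf] at this
    have e : s * b * s⁻¹ * b⁻¹ = ((⟨b⁻¹, S.inv_mem hb⟩ * ⟨s⁻¹, S.inv_mem hs⟩ : ↥S)⁻¹ *
        (⟨s⁻¹, S.inv_mem hs⟩ * ⟨b⁻¹, S.inv_mem hb⟩ : ↥S) : ↥S) := by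
      simp only [Subgroup.coe_mul, Subgroup.coe_inv]
      group
    rw [e]
    exact this
  have hSN : ∀ b ∈ S, b ∉ Z ι → Subgroup.normalizer (cen b : Set Γ) = S := by
    intro b hb hbZ
    symm
    apply Subgroup.eq_of_le_of_card_ge
    · intro s hs
      rw [mem_normalizer_cen_iff ι hι hbZ, mem_cen]
      have hz2' := hcomm s hs b hb
      have hcen := Subgroup.mem_center_iff.mp (Z_le_center ι hι hz2')
      have e : s * b * s⁻¹ = (s * b * s⁻¹ * b⁻¹) * b := by group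
      rw [e, ← mul_assoc b, hcen b]
    · rw [(card_cen_of_mem_cls ι hι hg₁Z (hE2 b hb hbZ)).2]
  -- E4 : counting
  have hcount := card_conj_union ((S : Set Γ) \ (Z ι : Set Γ)) (Subgroup.normalizer (S : Set Γ))
    ?_ ?_
  rotate_left
  · rintro ν hν b ⟨hb, hbZ⟩
    exact ⟨(Subgroup.mem_normalizer_iff.mp hν b).mp hb,
      fun h => hbZ ((conj_mem_Z_iff ι hι).mp h)⟩
  · rintro γ b ⟨hb, hbZ⟩ ⟨hy, hyZ⟩
    have hSb := hSN b hb hbZ
    have hSy := hSN _ hy hyZ
    rw [Subgroup.mem_normalizer_iff]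
    intro h
    have h1 : γ⁻¹ * (γ * h * γ⁻¹) * γ = h := by group
    conv_rhs => rw [← hSy, mem_normalizer_cen_conj ι hι hbZ, hSb, h1]
  have hKeq : {y : Γ | ∃ γ : Γ, ∃ b ∈ ((S : Set Γ) \ (Z ι : Set Γ)), y = γ * b * γ⁻¹} =
      cls ι g₁ := by
    ext y
    constructor
    · rintro ⟨γ, b, ⟨hb, hbZ⟩, rfl⟩
      exact conj_mem_cls ι (hE2 b hb hbZ) γ
    · rintro ⟨γ, b, ⟨hb, hbZ⟩, rfl⟩
      exact ⟨γ, b, ⟨Subgroup.le_normalizer hb, hbZ⟩, rfl⟩
  have hBcard : ((S : Set Γ) \ (Z ι : Set Γ)).ncard = 3 * z := by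
    rw [Set.ncard_diff hZS (Set.toFinite _), ← natCard_subgroup_eq_ncard,
      ← natCard_subgroup_eq_ncard, hN₁]
    omega
  rw [hKeq, hBcard, hG] at hcount
  have hcls₁ := card_cls ι hι hg₁Z
  rw [hN₁, hc₁, hG] at hcls₁
  have hs : (cls ι g₁).ncard = 15 * z := by
    have e1 : 2 * z - z = z := by omega
    rw [e1] at hcls₁
    have : (4 * z) * (cls ι g₁).ncard = (4 * z) * (15 * z) := by nlinarith
    exact Nat.eq_of_mul_eq_mul_left (by positivity) this
  rw [hs] at hcount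
  have hM : Nat.card (Subgroup.normalizer (S : Set Γ)) = 12 * z := by
    have : (15 * z) * Nat.card (Subgroup.normalizer (S : Set Γ)) = (15 * z) * (12 * z) := by
      nlinarith
    exact Nat.eq_of_mul_eq_mul_left (by positivity) this
  -- E5 : an element of order three normalizing `S`
  haveI : Fact (Nat.Prime 3) := ⟨Nat.prime_three⟩
  have h3dvd : 3 ∣ Nat.card (Subgroup.normalizer (S : Set Γ)) := ⟨4 * z, by rw [hM]; ring⟩
  obtain ⟨x, hx⟩ := exists_prime_orderOf_dvd_card' 3 h3dvd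
  have hu3 : (x : Γ) ^ 3 = 1 := by
    have h := pow_orderOf_eq_one x
    rw [hx] at h
    have h' := congrArg Subtype.val h
    rw [Subgroup.coe_pow, Subgroup.coe_one] at h'
    exact h'
  have hord : orderOf (x : Γ) = 3 := by
    rw [Subgroup.orderOf_coe, hx]
  set u := (x : Γ) with hu_def
  have hg₁S : g₁ ∈ S := Subgroup.le_normalizer (self_mem_cen g₁)
  -- E6
  have hjS : u * g₁ * u⁻¹ ∈ S := (Subgroup.mem_normalizer_iff.mp x.2 g₁).mp hg₁S
  have hjc : u * g₁ * u⁻¹ ∉ cen g₁ := by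
    intro h
    have huS : u ∈ S := (mem_normalizer_cen_iff ι hι hg₁Z).mpr h
    have h4 : u ^ (4 * z) = 1 := by
      have := pow_card_subgroup_eq_one S huS
      rw [hN₁] at this
      exact this
    have hdvd := orderOf_dvd_of_pow_eq_one h4
    rw [hord] at hdvd
    rcases hz12 with h1 | h1 <;> rw [h1] at hdvd <;> omega
  -- E7
  have huv : u * (g₁ * u⁻¹ * g₁⁻¹) = (u * g₁ * u⁻¹) * g₁⁻¹ := by group
  have hbS : u * (g₁ * u⁻¹ * g₁⁻¹) ∈ S := by
    rw [huv]
    exact S.mul_mem hjS (S.inv_mem hg₁S)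
  have hbZ : u * (g₁ * u⁻¹ * g₁⁻¹) ∉ Z ι := by
    intro h
    apply hjc
    have e : u * g₁ * u⁻¹ = (u * (g₁ * u⁻¹ * g₁⁻¹)) * g₁ := by group
    rw [e]
    exact (cen g₁).mul_mem (Z_le_cen ι hι g₁ h) (self_mem_cen g₁)
  set b := u * (g₁ * u⁻¹ * g₁⁻¹) with hb_def
  have hbcls := hE2 b hbS hbZ
  have hbc : Nat.card (cen b) = 2 * z := by
    rw [(card_cen_of_mem_cls ι hι hg₁Z hbcls).1, hc₁]
  have hb4 : b ^ 4 = 1 := by
    have h6 := pow_card_subgroup_eq_one (cen b) (self_mem_cen b)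
    rw [hbc] at h6
    rcases hz12 with h1 | h1
    · rw [h1] at h6
      rw [show 4 = 2 * 1 * 2 by norm_num, pow_mul, h6, one_pow]
    · rw [h1] at h6
      exact h6
  have hb2Z : b ^ 2 ∈ Z ι := by
    apply mem_Z_of_sq_eq_one ι h2
    rw [← pow_mul]
    exact hb4
  have htr0 : tr ι b = 0 := by
    by_contra ht
    apply hbZ
    obtain ⟨c, hc⟩ := hb2Z
    rw [mat_pow, pow_two, mat_mul_self] at hc
    have h3 : tr ι b • mat ι b = (c + 1) • (1 : M2 F) := by
      rw [add_smul, one_smul, ← hc]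
      abel
    refine ⟨(tr ι b)⁻¹ * (c + 1), ?_⟩
    have := congrArg (fun X => (tr ι b)⁻¹ • X) h3
    simp only [smul_smul, inv_mul_cancel₀ ht, one_smul] at this
    exact this
  refine ⟨u, g₁ * u⁻¹ * g₁⁻¹, ?_, ?_, ?_⟩
  · rw [hp3]; exact hu3
  · rw [hp3]
    apply conj_pow_eq_one
    rw [inv_pow, hu3, inv_one]
  · rw [← hb_def, htr0]
    have : ((3 : ℕ) : F) = 0 := by
      have := CharP.cast_eq_zero F p
      rw [hp3] at this
      exact this
    rw [← this]
    norm_num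

end exceptional

end SL2

end Cfsg.Agent.Lib.Lead
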