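import Mathlib
import Cfsg.Agent.Lib.Lead.SL2u

set_option autoImplicit false

namespace Cfsg.Agent.Lib.Lead

namespace SL2

open Matrix

variable {F : Type*} [Field F] {Γ : Type*} [Group Γ]

section final

variable (p : ℕ) [Fact p.Prime] [CharP F p]
variable (ι : Γ →* Matrix.SpecialLinearGroup (Fin 2) F)
variable [Finite Γ]

/-- **Part I**: a finite subgroup of `SL₂(F)` (`char F = p` odd) with at least two Sylow
`p`-subgroups contains two elements `u, v` of order `p` with `tr (u v) = 3`. -/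
theorem exists_good_pair (hp2 : p ≠ 2) (hι : Function.Injective ι)
    (h : ∃ P Q : Sylow p Γ, P ≠ Q) :
    ∃ u v : Γ, u ^ p = 1 ∧ v ^ p = 1 ∧ tr ι (u * v) = 3 := by
  obtain ⟨P, Q, hPQ⟩ := h
  have hP : (P : Subgroup Γ) ≠ ⊥ := by
    intro hb
    apply hPQ
    apply Sylow.ext
    have h1 : Nat.card (P : Subgroup Γ) = 1 := by rw [hb]; exact Subgroup.card_bot
    have h2 : Nat.card (Q : Subgroup Γ) = 1 := by
      rw [Sylow.card_eq_multiplicity] at h1 ⊢
      exact h1
    rw [hb, Subgroup.eq_bot_of_card_eq _ h2]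
  obtain ⟨w, hw, hw1, _⟩ := exists_central p P hP
  have hn : 1 < Nat.card (Sylow p Γ) := by
    rw [Finite.one_lt_card_iff_nontrivial]
    exact ⟨⟨P, Q, hPQ⟩⟩
  rcases count_main p ι hp2 hι P hw hw1 hn with h1 | ⟨h1, h2⟩
  · exact good_pair_of_transitive p ι hp2 hι P Q hPQ hw hw1 h1
  · exact good_pair_of_exceptional p ι hp2 hι P hw hw1 h1 h2

end final

end SL2

end Cfsg.Agent.Lib.Lead
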