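import Mathlib
import Cfsg.Agent.Lib.Lead.SL2v

set_option autoImplicit false

namespace Cfsg.Agent.Lib.Lead

namespace SL2

open Matrix

section gens

variable {K : Type*} [CommRing K]

/-- upper unitriangular element -/
def xs (s : K) : Matrix.SpecialLinearGroup (Fin 2) K :=
  ⟨!![1, s; 0, 1], by simp [Matrix.det_fin_two]⟩

/-- lower unitriangular element -/
def ys (c : K) : Matrix.SpecialLinearGroup (Fin 2) K :=
  ⟨!![1, 0; c, 1], by simp [Matrix.det_fin_two]⟩

theorem xs_add (s t : K) : xs (s + t) = xs s * xs t := by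
  apply Subtype.ext
  show !![1, s + t; 0, 1] = !![1, s; 0, 1] * !![1, t; 0, 1]
  ext i j
  fin_cases i <;> fin_cases j <;> simp [Matrix.mul_apply, Fin.sum_univ_two, add_comm]

theorem ys_add (s t : K) : ys (s + t) = ys s * ys t := by
  apply Subtype.ext
  show !![1, 0; s + t, 1] = !![1, 0; s, 1] * !![1, 0; t, 1]
  ext i j
  fin_cases i <;> fin_cases j <;> simp [Matrix.mul_apply, Fin.sum_univ_two, add_comm]

theorem xs_zero : xs (0 : K) = 1 := by
  apply Subtype.ext
  show !![1, (0 : K); 0, 1] = 1
  ext i j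
  fin_cases i <;> fin_cases j <;> simp

theorem ys_zero : ys (0 : K) = 1 := by
  apply Subtype.ext
  show !![1, (0 : K); 0, 1] = 1
  ext i j
  fin_cases i <;> fin_cases j <;> simp

theorem xs_natCast (n : ℕ) : xs (n : K) = xs 1 ^ n := by
  induction n with
  | zero => simp [xs_zero]
  | succ n ih => rw [Nat.cast_succ, xs_add, ih, pow_succ]

theorem ys_natCast (n : ℕ) : ys (n : K) = ys 1 ^ n := by
  induction n with
  | zero => simp [ys_zero]
  | succ n ih => rw [Nat.cast_succ, ys_add, ih, pow_succ]

end gens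

section field

variable {K : Type*} [Field K]

/-- `SL₂` of a field is generated by the elementary matrices -/
theorem mem_closure_xs_ys (M : Matrix.SpecialLinearGroup (Fin 2) K) :
    M ∈ Subgroup.closure (Set.range (xs : K → _) ∪ Set.range (ys : K → _)) := by
  have hx : ∀ s : K, xs s ∈ Subgroup.closure (Set.range (xs : K → _) ∪ Set.range (ys : K → _)) :=
    fun s => Subgroup.subset_closure (Or.inl ⟨s, rfl⟩)
  have hy : ∀ s : K, ys s ∈ Subgroup.closure (Set.range (xs : K → _) ∪ Set.range (ys : K → _)) :=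
    fun s => Subgroup.subset_closure (Or.inr ⟨s, rfl⟩)
  have key : ∀ N : Matrix.SpecialLinearGroup (Fin 2) K, (N : Matrix (Fin 2) (Fin 2) K) 1 0 ≠ 0 →
      N ∈ Subgroup.closure (Set.range (xs : K → _) ∪ Set.range (ys : K → _)) := by
    intro N hc
    have hd : (N : Matrix (Fin 2) (Fin 2) K) 0 0 * (N : Matrix (Fin 2) (Fin 2) K) 1 1 -
        (N : Matrix (Fin 2) (Fin 2) K) 0 1 * (N : Matrix (Fin 2) (Fin 2) K) 1 0 = 1 := by
      have := N.2
      rw [Matrix.det_fin_two] at this
      exact this
    set a := (N : Matrix (Fin 2) (Fin 2) K) 0 0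
    set b := (N : Matrix (Fin 2) (Fin 2) K) 0 1
    set c := (N : Matrix (Fin 2) (Fin 2) K) 1 0
    set d := (N : Matrix (Fin 2) (Fin 2) K) 1 1
    have e : N = xs ((a - 1) / c) * ys c * xs ((d - 1) / c) := by
      apply Subtype.ext
      show (N : Matrix (Fin 2) (Fin 2) K) =
        !![1, (a - 1) / c; 0, 1] * !![1, 0; c, 1] * !![1, (d - 1) / c; 0, 1]
      ext i j
      fin_cases i <;> fin_cases j
      · show a = _
        simp [Matrix.mul_apply, Fin.sum_univ_two]
        field_simp
        ring
      · show b = _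
        simp [Matrix.mul_apply, Fin.sum_univ_two]
        field_simp
        linear_combination -hd
      · show c = _
        simp [Matrix.mul_apply, Fin.sum_univ_two]
      · show d = _
        simp [Matrix.mul_apply, Fin.sum_univ_two]
        field_simp
        ring
    rw [e]
    exact Subgroup.mul_mem _ (Subgroup.mul_mem _ (hx _) (hy _)) (hx _)
  by_cases hc : (M : Matrix (Fin 2) (Fin 2) K) 1 0 = 0
  · have hd : (M : Matrix (Fin 2) (Fin 2) K) 0 0 * (M : Matrix (Fin 2) (Fin 2) K) 1 1 -
        (M : Matrix (Fin 2) (Fin 2) K) 0 1 * (M : Matrix (Fin 2) (Fin 2) K) 1 0 = 1 := by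
      have := M.2
      rw [Matrix.det_fin_two] at this
      exact this
    have ha : (M : Matrix (Fin 2) (Fin 2) K) 0 0 ≠ 0 := by
      intro h
      rw [h, hc] at hd
      simp at hd
    have h1 : ys 1 * M ∈ Subgroup.closure (Set.range (xs : K → _) ∪ Set.range (ys : K → _)) := by
      apply key
      show (!![1, 0; (1 : K), 1] * (M : Matrix (Fin 2) (Fin 2) K)) 1 0 ≠ 0
      simp [Matrix.mul_apply, Fin.sum_univ_two, hc, ha]
    have h2 : M = (ys 1)⁻¹ * (ys 1 * M) := by group
    rw [h2]
    exact Subgroup.mul_mem _ (Subgroup.inv_mem _ (hy 1)) h1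
  · exact key M hc

end field

section zmod

variable (p : ℕ) [Fact p.Prime]

/-- `SL₂(𝔽_p)` is generated by the two standard elements -/
theorem closure_xs_ys_zmod :
    Subgroup.closure ({xs (1 : ZMod p), ys (1 : ZMod p)} :
      Set (Matrix.SpecialLinearGroup (Fin 2) (ZMod p))) = ⊤ := by
  rw [eq_top_iff]
  intro M _
  have h := mem_closure_xs_ys M
  have hle : Subgroup.closure (Set.range (xs : ZMod p → _) ∪ Set.range (ys : ZMod p → _)) ≤
      Subgroup.closure ({xs (1 : ZMod p), ys (1 : ZMod p)} :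
        Set (Matrix.SpecialLinearGroup (Fin 2) (ZMod p))) := by
    rw [Subgroup.closure_le]
    rintro N (⟨s, rfl⟩ | ⟨s, rfl⟩)
    · rw [← ZMod.natCast_zmod_val s, xs_natCast]
      exact Subgroup.pow_mem _ (Subgroup.subset_closure (by simp)) _
    · rw [← ZMod.natCast_zmod_val s, ys_natCast]
      exact Subgroup.pow_mem _ (Subgroup.subset_closure (by simp)) _
  exact hle h

end zmod

end SL2

end Cfsg.Agent.Lib.Lead
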