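import Mathlib
import Cfsg.Agent.Lib.Lead.SL2w

set_option autoImplicit false

namespace Cfsg.Agent.Lib.Lead

namespace SL2

open Matrix

variable {F : Type*} [Field F]

section basis

/-- a basis adapted to a pair of square-zero matrices with `tr (A B) = 1` -/
theorem exists_basis (A B : M2 F) (hA : A * A = 0) (hB : B * B = 0) (hτ : (A * B).trace = 1) :
    ∃ g : M2 F, g.det ≠ 0 ∧ A * g = g * !![0, 1; 0, 0] ∧ B * g = g * !![0, 0; 1, 0] := by
  have hdA : A.det = 0 := (trace_det_of_sq_zero A hA).2
  have hABA : A * B * A = A := by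
    rw [mul_mul_of_det_zero A B hdA, hτ, one_smul]
  have hA0 : A ≠ 0 := by
    rintro rfl
    simp at hτ
  have : ∃ i j, A i j ≠ 0 := by
    by_contra hcon
    push Not at hcon
    apply hA0
    ext i j
    exact hcon i j
  obtain ⟨i₀, j, hij⟩ := this
  have hAAj : ∀ i, A i 0 * A 0 j + A i 1 * A 1 j = 0 := by
    intro i
    have := congrFun (congrFun hA i) j
    simpa [Matrix.mul_apply, Fin.sum_univ_two] using this
  have hABAj : ∀ i, A i 0 * (B * A) 0 j + A i 1 * (B * A) 1 j = A i j := by
    intro i
    have := congrFun (congrFun hABA i) j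
    rw [mul_assoc] at this
    rw [Matrix.mul_apply, Fin.sum_univ_two] at this
    exact this
  have hBBAj : ∀ i, B i 0 * (B * A) 0 j + B i 1 * (B * A) 1 j = 0 := by
    intro i
    have h1 : B * (B * A) = 0 := by rw [← mul_assoc, hB, zero_mul]
    have := congrFun (congrFun h1 i) j
    rw [Matrix.mul_apply, Fin.sum_univ_two] at this
    exact this
  have hBAj : ∀ i, B i 0 * A 0 j + B i 1 * A 1 j = (B * A) i j := by
    intro i
    rw [Matrix.mul_apply, Fin.sum_univ_two]
  set g : M2 F := !![A 0 j, (B * A) 0 j; A 1 j, (B * A) 1 j] with hg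
  have hAg : A * g = g * !![0, 1; 0, 0] := by
    ext i k
    fin_cases i <;> fin_cases k
    · simpa [hg, Matrix.mul_apply, Fin.sum_univ_two] using hAAj 0
    · simpa [hg, Matrix.mul_apply, Fin.sum_univ_two] using hABAj 0
    · simpa [hg, Matrix.mul_apply, Fin.sum_univ_two] using hAAj 1
    · simpa [hg, Matrix.mul_apply, Fin.sum_univ_two] using hABAj 1
  have hBg : B * g = g * !![0, 0; 1, 0] := by
    ext i k
    fin_cases i <;> fin_cases k
    · simpa [hg, Matrix.mul_apply, Fin.sum_univ_two] using hBAj 0
    · simpa [hg, Matrix.mul_apply, Fin.sum_univ_two] using hBBAj 0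
    · simpa [hg, Matrix.mul_apply, Fin.sum_univ_two] using hBAj 1
    · simpa [hg, Matrix.mul_apply, Fin.sum_univ_two] using hBBAj 1
  refine ⟨g, ?_, hAg, hBg⟩
  intro hdet
  obtain ⟨w, hw0, hw⟩ := Matrix.exists_mulVec_eq_zero_iff.mpr hdet
  have h1 : (A * g) *ᵥ w = 0 := by
    rw [← Matrix.mulVec_mulVec, hw, Matrix.mulVec_zero]
  rw [hAg] at h1
  have hw1 : w 1 = 0 := by
    have := congrFun h1 i₀
    simp only [Matrix.mulVec, dotProduct, Fin.sum_univ_two, Matrix.mul_apply, hg] at this
    fin_cases i₀
    · simp at this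
      rcases this with h | h
      · exact absurd h hij
      · exact h
    · simp at this
      rcases this with h | h
      · exact absurd h hij
      · exact h
  have hw0' : w 0 = 0 := by
    have := congrFun hw i₀
    simp only [Matrix.mulVec, dotProduct, Fin.sum_univ_two, hg, hw1] at this
    fin_cases i₀
    · simp at this
      rcases this with h | h
      · exact absurd h hij
      · exact h
    · simp at this
      rcases this with h | h
      · exact absurd h hij
      · exact h
  apply hw0
  ext k
  fin_cases k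
  · exact hw0'
  · exact hw1

end basis

end SL2

end Cfsg.Agent.Lib.Lead
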