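import Mathlib
import Cfsg.Agent.Lib.Lead.SL2x

set_option autoImplicit false

namespace Cfsg.Agent.Lib.Lead

namespace SL2

open Matrix

variable {F : Type*} [Field F]

section conj

variable (p : ℕ) [Fact p.Prime] [CharP F p]

/-- conjugation of `SL₂(𝔽_p)` into `SL₂(F)` by an invertible matrix -/
noncomputable def conjMap (g : M2 F) (hg : g.det ≠ 0) :
    Matrix.SpecialLinearGroup (Fin 2) (ZMod p) →* Matrix.SpecialLinearGroup (Fin 2) F where
  toFun M := ⟨g * (ZMod.castHom (dvd_refl p) F).mapMatrix (M : Matrix (Fin 2) (Fin 2) (ZMod p)) *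
      g⁻¹, by
    rw [Matrix.det_mul, Matrix.det_mul, Matrix.det_nonsing_inv, Ring.inverse_eq_inv',
      ← RingHom.map_det, M.2, map_one, mul_one, mul_inv_cancel₀ hg]⟩
  map_one' := by
    apply Subtype.ext
    show g * (ZMod.castHom (dvd_refl p) F).mapMatrix (1 : Matrix (Fin 2) (Fin 2) (ZMod p)) * g⁻¹ = 1
    rw [map_one, mul_one, Matrix.mul_nonsing_inv g (isUnit_iff_ne_zero.mpr hg)]
  map_mul' := by
    intro M N
    apply Subtype.ext
    show g * (ZMod.castHom (dvd_refl p) F).mapMatrix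
        ((M : Matrix (Fin 2) (Fin 2) (ZMod p)) * (N : Matrix (Fin 2) (Fin 2) (ZMod p))) * g⁻¹ =
      (g * (ZMod.castHom (dvd_refl p) F).mapMatrix (M : Matrix (Fin 2) (Fin 2) (ZMod p)) * g⁻¹) *
      (g * (ZMod.castHom (dvd_refl p) F).mapMatrix (N : Matrix (Fin 2) (Fin 2) (ZMod p)) * g⁻¹)
    rw [map_mul]
    have h1 : g⁻¹ * g = 1 := Matrix.nonsing_inv_mul g (isUnit_iff_ne_zero.mpr hg)
    calc g * ((ZMod.castHom (dvd_refl p) F).mapMatrix (M : Matrix (Fin 2) (Fin 2) (ZMod p)) *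
          (ZMod.castHom (dvd_refl p) F).mapMatrix (N : Matrix (Fin 2) (Fin 2) (ZMod p))) * g⁻¹
        = g * (ZMod.castHom (dvd_refl p) F).mapMatrix (M : Matrix (Fin 2) (Fin 2) (ZMod p)) *
          (1 : M2 F) *
          (ZMod.castHom (dvd_refl p) F).mapMatrix (N : Matrix (Fin 2) (Fin 2) (ZMod p)) * g⁻¹ := by
          simp only [mul_one, mul_assoc]
      _ = _ := by
          rw [← h1]
          simp only [mul_assoc]

theorem conjMap_coe (g : M2 F) (hg : g.det ≠ 0) (M : Matrix.SpecialLinearGroup (Fin 2) (ZMod p)) :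
    ((conjMap p g hg M : Matrix.SpecialLinearGroup (Fin 2) F) : M2 F) =
      g * (ZMod.castHom (dvd_refl p) F).mapMatrix (M : Matrix (Fin 2) (Fin 2) (ZMod p)) * g⁻¹ :=
  rfl

theorem conjMap_injective (g : M2 F) (hg : g.det ≠ 0) : Function.Injective (conjMap p g hg) := by
  intro M N h
  have h0 := congrArg Subtype.val h
  have h' : g * (ZMod.castHom (dvd_refl p) F).mapMatrix (M : Matrix (Fin 2) (Fin 2) (ZMod p)) *
      g⁻¹ = g * (ZMod.castHom (dvd_refl p) F).mapMatrix (N : Matrix (Fin 2) (Fin 2) (ZMod p)) *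
      g⁻¹ := h0
  have h1 : g⁻¹ * g = 1 := Matrix.nonsing_inv_mul g (isUnit_iff_ne_zero.mpr hg)
  have h2 : (ZMod.castHom (dvd_refl p) F).mapMatrix (M : Matrix (Fin 2) (Fin 2) (ZMod p)) =
      (ZMod.castHom (dvd_refl p) F).mapMatrix (N : Matrix (Fin 2) (Fin 2) (ZMod p)) := by
    have hcancel : ∀ X : M2 F, g⁻¹ * (g * X * g⁻¹) * g = X := by
      intro X
      calc g⁻¹ * (g * X * g⁻¹) * g = (g⁻¹ * g) * X * (g⁻¹ * g) := by simp only [mul_assoc]
        _ = X := by rw [h1, one_mul, mul_one]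
    rw [← hcancel ((ZMod.castHom (dvd_refl p) F).mapMatrix (M : Matrix (Fin 2) (Fin 2) (ZMod p))),
      h', hcancel]
  apply Subtype.ext
  ext i j
  have := congrFun (congrFun h2 i) j
  simp only [RingHom.mapMatrix_apply, Matrix.map_apply] at this
  exact (ZMod.castHom (dvd_refl p) F).injective this

/-- **Part I′**: two unipotent elements `U, V` of `SL₂(F)` with `tr ((U-1)(V-1)) = 1`
generate a copy of `SL₂(𝔽_p)`. -/
theorem closure_pair_iso (U V : Matrix.SpecialLinearGroup (Fin 2) F)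
    (hA : ((U : M2 F) - 1) * ((U : M2 F) - 1) = 0)
    (hB : ((V : M2 F) - 1) * ((V : M2 F) - 1) = 0)
    (hτ : (((U : M2 F) - 1) * ((V : M2 F) - 1)).trace = 1) :
    Nonempty (↥(Subgroup.closure ({U, V} : Set (Matrix.SpecialLinearGroup (Fin 2) F))) ≃*
      Matrix.SpecialLinearGroup (Fin 2) (ZMod p)) := by
  obtain ⟨g, hg, hAg, hBg⟩ := exists_basis _ _ hA hB hτ
  have h1 : g * g⁻¹ = 1 := Matrix.mul_nonsing_inv g (isUnit_iff_ne_zero.mpr hg)
  have hU : conjMap p g hg (xs 1) = U := by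
    apply Subtype.ext
    rw [conjMap_coe]
    have e : (ZMod.castHom (dvd_refl p) F).mapMatrix
        ((xs (1 : ZMod p) : Matrix.SpecialLinearGroup (Fin 2) (ZMod p)) :
          Matrix (Fin 2) (Fin 2) (ZMod p)) = 1 + !![0, 1; 0, 0] := by
      ext i j
      fin_cases i <;> fin_cases j <;> simp [xs]
    rw [e, mul_add, mul_one, ← hAg, add_mul, h1, mul_assoc, h1, mul_one]
    abel
  have hV : conjMap p g hg (ys 1) = V := by
    apply Subtype.ext
    rw [conjMap_coe]
    have e : (ZMod.castHom (dvd_refl p) F).mapMatrix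
        ((ys (1 : ZMod p) : Matrix.SpecialLinearGroup (Fin 2) (ZMod p)) :
          Matrix (Fin 2) (Fin 2) (ZMod p)) = 1 + !![0, 0; 1, 0] := by
      ext i j
      fin_cases i <;> fin_cases j <;> simp [ys]
    rw [e, mul_add, mul_one, ← hBg, add_mul, h1, mul_assoc, h1, mul_one]
    abel
  have hrange : (conjMap p g hg).range =
      Subgroup.closure ({U, V} : Set (Matrix.SpecialLinearGroup (Fin 2) F)) := by
    rw [MonoidHom.range_eq_map, ← closure_xs_ys_zmod p, MonoidHom.map_closure, Set.image_pair,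
      hU, hV]
  exact ⟨(MulEquiv.subgroupCongr hrange.symm).trans
    (MonoidHom.ofInjective (conjMap_injective p g hg)).symm⟩

end conj

end SL2

end Cfsg.Agent.Lib.Lead
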