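import Mathlib
import Cfsg.Agent.Lib.Lead.SL2y

set_option autoImplicit false

namespace Cfsg.Agent.Lib.Lead

namespace SL2

open Matrix

variable {F : Type*} [Field F] {Γ : Type*} [Group Γ]

section dickson

variable (p : ℕ) [Fact p.Prime] [CharP F p]
variable (ι : Γ →* Matrix.SpecialLinearGroup (Fin 2) F)
variable [Finite Γ]

/-- **Dickson-type theorem**: a finite group with a faithful two-dimensional representation in odd
characteristic `p` and at least two Sylow `p`-subgroups contains a copy of `SL₂(𝔽_p)`. -/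
theorem exists_sl2_subgroup (hp2 : p ≠ 2) (hι : Function.Injective ι)
    (h : ∃ P Q : Sylow p Γ, P ≠ Q) :
    ∃ K : Subgroup Γ, Nonempty (↥K ≃* Matrix.SpecialLinearGroup (Fin 2) (ZMod p)) := by
  obtain ⟨u, v, hu, hv, huv⟩ := exists_good_pair p ι hp2 hι h
  have htu := tr_eq_two_of_pow_p p ι hu
  have htv := tr_eq_two_of_pow_p p ι hv
  have hA : nil ι u * nil ι u = 0 := nil_mul_self_of_tr ι htu
  have hB : nil ι v * nil ι v = 0 := nil_mul_self_of_tr ι htv
  have htA : (nil ι u).trace = 0 := (trace_det_of_sq_zero _ hA).1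
  have htB : (nil ι v).trace = 0 := (trace_det_of_sq_zero _ hB).1
  have hτ : (nil ι u * nil ι v).trace = 1 := by
    unfold tr at huv
    rw [mat_mul, mat_eq_one_add_nil ι u, mat_eq_one_add_nil ι v] at huv
    simp only [add_mul, mul_add, one_mul, mul_one, Matrix.trace_add, Matrix.trace_one, htA,
      htB] at huv
    simp only [Fintype.card_fin, Nat.cast_ofNat, add_zero, zero_add] at huv
    linear_combination huv
  obtain ⟨e⟩ := closure_pair_iso p (ι u) (ι v) hA hB hτ
  refine ⟨Subgroup.closure {u, v}, ⟨?_⟩⟩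
  have hmap : Subgroup.map ι (Subgroup.closure {u, v}) = Subgroup.closure {ι u, ι v} := by
    rw [MonoidHom.map_closure, Set.image_pair]
  exact ((Subgroup.equivMapOfInjective _ ι hι).trans (MulEquiv.subgroupCongr hmap)).trans e

end dickson

end SL2

end Cfsg.Agent.Lib.Lead
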