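import Mathlib
import Cfsg.Agent.Lib.Lead.Quad3
import Cfsg.Agent.Lib.Lead.SL2z

set_option autoImplicit false

universe u v

namespace Cfsg.Agent.Lib.Lead

namespace Quad

open Matrix

/-- the group has a section isomorphic to `SL₂(𝔽_p)` -/
def HasSL2Section (p : ℕ) [Fact p.Prime] (Γ : Type v) [Group Γ] : Prop :=
  ∃ (K L : Subgroup Γ) (_ : (L.subgroupOf K).Normal),
    Nonempty ((↥K ⧸ L.subgroupOf K) ≃* Matrix.SpecialLinearGroup (Fin 2) (ZMod p))

section gens

variable {p : ℕ} [Fact p.Prime]
variable {Γ : Type v} [Group Γ]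
variable {M : Type u} [AddCommGroup M] [Module (ZMod p) M]
variable (ρ : Γ →* Module.End (ZMod p) M) (x y : Γ)

theorem rho_inv_mul (g : Γ) : ρ g⁻¹ * ρ g = 1 := by
  rw [← map_mul, inv_mul_cancel, map_one]

theorem rho_mul_inv (g : Γ) : ρ g * ρ g⁻¹ = 1 := by
  rw [← map_mul, mul_inv_cancel, map_one]

/-- commuting with the generators implies commuting with everything -/
theorem commute_of_gens (hgen : Subgroup.closure {x, y} = ⊤) (f : Module.End (ZMod p) M)
    (hfx : ρ x * f = f * ρ x) (hfy : ρ y * f = f * ρ y) (g : Γ) : ρ g * f = f * ρ g := by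
  have hg : g ∈ Subgroup.closure {x, y} := by rw [hgen]; trivial
  induction hg using Subgroup.closure_induction with
  | mem z hz =>
    rcases hz with rfl | hz
    · exact hfx
    · rw [Set.mem_singleton_iff] at hz
      rw [hz]; exact hfy
  | one => rw [map_one, one_mul, mul_one]
  | mul a b _ _ ha hb => rw [map_mul, mul_assoc, hb, ← mul_assoc, ha, mul_assoc]
  | inv a _ ha =>
    calc ρ a⁻¹ * f = ρ a⁻¹ * f * (ρ a * ρ a⁻¹) := by rw [rho_mul_inv, mul_one]
      _ = ρ a⁻¹ * (f * ρ a) * ρ a⁻¹ := by simp only [mul_assoc]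
      _ = ρ a⁻¹ * (ρ a * f) * ρ a⁻¹ := by rw [ha]
      _ = (ρ a⁻¹ * ρ a) * f * ρ a⁻¹ := by simp only [mul_assoc]
      _ = f * ρ a⁻¹ := by rw [rho_inv_mul, one_mul]

/-- a subspace invariant under the generators is invariant -/
theorem inv_of_gens [Finite M] (hgen : Subgroup.closure {x, y} = ⊤) (U : Submodule (ZMod p) M)
    (hx : ∀ u ∈ U, ρ x u ∈ U) (hy : ∀ u ∈ U, ρ y u ∈ U) : Inv p ρ U := by
  intro g
  have hg : g ∈ Subgroup.closure {x, y} := by rw [hgen]; trivial
  induction hg using Subgroup.closure_induction with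
  | mem z hz =>
    rcases hz with rfl | hz
    · exact hx
    · rw [Set.mem_singleton_iff] at hz
      rw [hz]; exact hy
  | one => intro u hu; rw [map_one]; exact hu
  | mul a b _ _ ha hb =>
    intro u hu
    rw [map_mul, Module.End.mul_apply]
    exact ha _ (hb u hu)
  | inv a _ ha =>
    intro u hu
    let φ : U → U := fun w => ⟨ρ a w, ha w w.2⟩
    have hφ : Function.Injective φ := by
      intro w w' e
      have e' : ρ a (w : M) = ρ a (w' : M) := congrArg Subtype.val e
      have := congrArg (ρ a⁻¹) e'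
      rw [← Module.End.mul_apply, ← Module.End.mul_apply, rho_inv_mul, Module.End.one_apply,
        Module.End.one_apply] at this
      exact Subtype.ext this
    obtain ⟨w, hw⟩ := (Finite.injective_iff_surjective.mp hφ) ⟨u, hu⟩
    have hw' : ρ a (w : M) = u := congrArg Subtype.val hw
    rw [← hw', ← Module.End.mul_apply, rho_inv_mul, Module.End.one_apply]
    exact w.2

end gens

end Quad

end Cfsg.Agent.Lib.Lead
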