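import Mathlib
import Cfsg.Agent.Lib.Lead.Quad4

set_option autoImplicit false

universe u v

namespace Cfsg.Agent.Lib.Lead

namespace Quad

open Matrix

section field

variable {p : ℕ} [Fact p.Prime]
variable {Γ : Type v} [Group Γ]
variable {M : Type u} [AddCommGroup M] [Module (ZMod p) M]
variable (ρ : Γ →* Module.End (ZMod p) M) (x y : Γ)

set_option maxHeartbeats 1600000 in
/-- in the irreducible case there is a field `K` of characteristic `p` and a two-dimensional
`K`-structure on `M` -/
theorem exists_twoDim [Finite M] (hgen : Subgroup.closure {x, y} = ⊤)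
    (hx : (ρ x - 1) * (ρ x - 1) = 0) (hy : (ρ y - 1) * (ρ y - 1) = 0)
    (hI : Irred p ρ) (hnp : ¬ IsPRep p ρ) :
    ∃ (K : Type u) (_ : Field K) (_ : CharP K p) (j : K →+* Module.End (ZMod p) M),
      Nonempty (TwoDim ρ x y j) := by
  classical
  set a := ρ x - 1 with ha_def
  set b := ρ y - 1 with hb_def
  have hρx : ρ x = 1 + a := by rw [ha_def]; abel
  have hρy : ρ y = 1 + b := by rw [hb_def]; abel
  have hMnt : Nontrivial M := by
    by_contra h
    rw [not_nontrivial_iff_subsingleton] at h
    apply hnp
    intro g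
    exact ⟨0, by ext m; exact Subsingleton.elim _ _⟩
  have hinv : ∀ U : Submodule (ZMod p) M, (∀ u ∈ U, a u ∈ U) → (∀ u ∈ U, b u ∈ U) →
      U = ⊥ ∨ U = ⊤ := by
    intro U hUa hUb
    apply hI
    apply inv_of_gens ρ x y hgen U
    · intro u hu
      rw [hρx, LinearMap.add_apply, Module.End.one_apply]
      exact U.add_mem hu (hUa u hu)
    · intro u hu
      rw [hρy, LinearMap.add_apply, Module.End.one_apply]
      exact U.add_mem hu (hUb u hu)
  set D := Subalgebra.centralizer (ZMod p) ({a, b} : Set (Module.End (ZMod p) M)) with hD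
  have hDmem : ∀ f, f ∈ D ↔ a * f = f * a ∧ b * f = f * b := by
    intro f
    rw [hD, Subalgebra.mem_centralizer_iff]
    simp
  -- Schur's lemma
  have hschur : ∀ f ∈ D, f ≠ 0 → Function.Injective f := by
    intro f hf hf0
    obtain ⟨hfa, hfb⟩ := (hDmem f).mp hf
    have hka : ∀ u ∈ LinearMap.ker f, a u ∈ LinearMap.ker f := by
      intro u hu
      rw [LinearMap.mem_ker] at hu ⊢
      have : f (a u) = a (f u) := by
        rw [← Module.End.mul_apply, ← hfa, Module.End.mul_apply]
      rw [this, hu, map_zero]
    have hkb : ∀ u ∈ LinearMap.ker f, b u ∈ LinearMap.ker f := by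
      intro u hu
      rw [LinearMap.mem_ker] at hu ⊢
      have : f (b u) = b (f u) := by
        rw [← Module.End.mul_apply, ← hfb, Module.End.mul_apply]
      rw [this, hu, map_zero]
    rcases hinv (LinearMap.ker f) hka hkb with h | h
    · exact LinearMap.ker_eq_bot.mp h
    · exfalso
      apply hf0
      exact LinearMap.ker_eq_top.mp h
  haveI : Finite (Module.End (ZMod p) M) :=
    Finite.of_injective (fun f => (f : M → M)) DFunLike.coe_injective
  haveI : Finite ↥D := inferInstance
  haveI : Nontrivial ↥D := by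
    refine ⟨⟨0, 1, fun h => ?_⟩⟩
    have h' : (0 : Module.End (ZMod p) M) = 1 := congrArg Subtype.val h
    obtain ⟨m, hm⟩ := exists_ne (0 : M)
    apply hm
    have := congrArg (fun φ : Module.End (ZMod p) M => φ m) h'
    simpa using this.symm
  haveI : NoZeroDivisors ↥D := by
    refine ⟨?_⟩
    intro f g hfg
    by_contra hcon
    push Not at hcon
    have hf0 : (f : Module.End (ZMod p) M) ≠ 0 := fun h => hcon.1 (Subtype.ext h)
    have hinj := hschur f f.2 hf0
    apply hcon.2
    apply Subtype.ext
    ext m
    have h1 : (f : Module.End (ZMod p) M) ((g : Module.End (ZMod p) M) m) = 0 := by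
      have := congrArg (fun φ : ↥D => (φ : Module.End (ZMod p) M) m) hfg
      simpa using this
    have h2 : (g : Module.End (ZMod p) M) m = 0 := hinj (by rw [h1, map_zero])
    simpa using h2
  haveI : IsDomain ↥D := NoZeroDivisors.to_isDomain _
  haveI : Fintype ↥D := Fintype.ofFinite _
  letI instDR : DivisionRing ↥D := Fintype.divisionRingOfIsDomain ↥D
  letI instF : Field ↥D := littleWedderburn ↥D
  let j : ↥D →+* Module.End (ZMod p) M :=
    { toFun := fun f => (f : Module.End (ZMod p) M)
      map_one' := rfl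
      map_mul' := fun _ _ => rfl
      map_zero' := rfl
      map_add' := fun _ _ => rfl }
  have hj : ∀ f : ↥D, j f = (f : Module.End (ZMod p) M) := fun f => rfl
  have hθmem : a * b + b * a ∈ D := by
    rw [hDmem]
    constructor
    · rw [mul_add, add_mul, ← mul_assoc a a b, hx, zero_mul, mul_assoc b a a, hx, mul_zero,
        zero_add, add_zero, mul_assoc]
    · rw [mul_add, add_mul, ← mul_assoc b b a, hy, zero_mul, mul_assoc a b b, hy, mul_zero,
        add_zero, zero_add, mul_assoc]
  -- `b a ≠ 0`
  have hba : b * a ≠ 0 := by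
    intro hba
    have ha0 : a = 0 := by
      have hra : ∀ u ∈ LinearMap.range a, a u ∈ LinearMap.range a := by
        rintro u ⟨m, rfl⟩
        rw [← Module.End.mul_apply, hx]
        exact Submodule.zero_mem _
      have hrb : ∀ u ∈ LinearMap.range a, b u ∈ LinearMap.range a := by
        rintro u ⟨m, rfl⟩
        rw [← Module.End.mul_apply, hba]
        exact Submodule.zero_mem _
      rcases hinv (LinearMap.range a) hra hrb with h | h
      · exact LinearMap.range_eq_bot.mp h
      · ext m
        have : m ∈ LinearMap.range a := by rw [h]; trivial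
        obtain ⟨m', rfl⟩ := this
        rw [← Module.End.mul_apply, hx]
        simp
    have hb0 : b = 0 := by
      have hka : ∀ u ∈ LinearMap.ker b, a u ∈ LinearMap.ker b := by
        intro u _
        rw [ha0]
        exact Submodule.zero_mem _
      have hkb : ∀ u ∈ LinearMap.ker b, b u ∈ LinearMap.ker b := by
        intro u hu
        rw [LinearMap.mem_ker] at hu
        rw [hu]
        exact Submodule.zero_mem _
      rcases hinv (LinearMap.ker b) hka hkb with h | h
      · have hinj : Function.Injective b := LinearMap.ker_eq_bot.mp h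
        ext m
        apply hinj
        rw [← Module.End.mul_apply, hy]
        simp
      · exact LinearMap.ker_eq_top.mp h
    apply hnp
    have hker : ρ.ker = ⊤ := by
      rw [eq_top_iff, ← hgen, Subgroup.closure_le]
      rintro z (rfl | hz)
      · show ρ z = 1
        rw [hρx, ha0, add_zero]
      · rw [Set.mem_singleton_iff] at hz
        show ρ z = 1
        rw [hz, hρy, hb0, add_zero]
    intro g
    refine ⟨0, ?_⟩
    have : g ∈ ρ.ker := by rw [hker]; trivial
    rw [pow_zero, pow_one]
    exact this
  obtain ⟨m₀, hm₀⟩ : ∃ m, b (a m) ≠ 0 := by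
    by_contra h
    push Not at h
    apply hba
    ext m
    simpa using h m
  set e1 := a m₀ with he1
  set e2 := b e1 with he2
  have hae1 : a e1 = 0 := by
    rw [he1, ← Module.End.mul_apply, hx]; rfl
  have hbe2 : b e2 = 0 := by
    rw [he2, ← Module.End.mul_apply, hy]; rfl
  have hae2 : a e2 = (a * b + b * a) e1 := by
    rw [LinearMap.add_apply, Module.End.mul_apply, Module.End.mul_apply, hae1, map_zero, add_zero]
  have hDa : ∀ k : ↥D, ∀ m : M, a (j k m) = j k (a m) := by
    intro k m
    have := ((hDmem _).mp k.2).1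
    rw [hj, ← Module.End.mul_apply, this, Module.End.mul_apply]
  have hDb : ∀ k : ↥D, ∀ m : M, b (j k m) = j k (b m) := by
    intro k m
    have := ((hDmem _).mp k.2).2
    rw [hj, ← Module.End.mul_apply, this, Module.End.mul_apply]
  have hspan : ∀ m : M, ∃ k1 k2 : ↥D, m = j k1 e1 + j k2 e2 := by
    let W : Submodule (ZMod p) M :=
      { carrier := {m | ∃ k1 k2 : ↥D, m = j k1 e1 + j k2 e2}
        add_mem' := by
          rintro m m' ⟨k1, k2, rfl⟩ ⟨k1', k2', rfl⟩
          refine ⟨k1 + k1', k2 + k2', ?_⟩
          rw [map_add, map_add, LinearMap.add_apply, LinearMap.add_apply]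
          abel
        zero_mem' := ⟨0, 0, by simp⟩
        smul_mem' := by
          rintro c m ⟨k1, k2, rfl⟩
          refine ⟨⟨c • (k1 : Module.End (ZMod p) M), D.smul_mem k1.2 c⟩,
            ⟨c • (k2 : Module.End (ZMod p) M), D.smul_mem k2.2 c⟩, ?_⟩
          rw [smul_add, hj, hj, hj, hj]
          simp only [LinearMap.smul_apply] }
    have hWa : ∀ u ∈ W, a u ∈ W := by
      rintro u ⟨k1, k2, rfl⟩
      refine ⟨k2 * ⟨a * b + b * a, hθmem⟩, 0, ?_⟩
      rw [map_add, hDa, hDa, hae1, map_zero, zero_add, hae2, map_zero, LinearMap.zero_apply,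
        add_zero, map_mul, Module.End.mul_apply]
      rfl
    have hWb : ∀ u ∈ W, b u ∈ W := by
      rintro u ⟨k1, k2, rfl⟩
      refine ⟨0, k1, ?_⟩
      rw [map_add, hDb, hDb, hbe2, map_zero, add_zero, map_zero, LinearMap.zero_apply, zero_add]
    have hW : W = ⊤ := by
      rcases hinv W hWa hWb with h | h
      · exfalso
        apply hm₀
        have : e2 ∈ W := ⟨0, 1, by simp⟩
        rw [h, Submodule.mem_bot] at this
        exact this
      · exact h
    intro m
    have : m ∈ W := by rw [hW]; trivial
    exact this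
  have hcomm : ∀ (g : Γ) (k : ↥D), ρ g * j k = j k * ρ g := by
    intro g k
    obtain ⟨hka, hkb⟩ := (hDmem _).mp k.2
    apply commute_of_gens ρ x y hgen
    · rw [hρx, hj, add_mul, mul_add, one_mul, mul_one, hka]
    · rw [hρy, hj, add_mul, mul_add, one_mul, mul_one, hkb]
  let T : TwoDim ρ x y j :=
    { e1 := e1
      e2 := e2
      θ := ⟨a * b + b * a, hθmem⟩
      comm := hcomm
      x1 := by rw [hρx, LinearMap.add_apply, Module.End.one_apply, hae1, add_zero]
      x2 := by rw [hρx, LinearMap.add_apply, Module.End.one_apply, hae2]; rfl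
      y1 := by rw [hρy, LinearMap.add_apply, Module.End.one_apply]
      y2 := by rw [hρy, LinearMap.add_apply, Module.End.one_apply, hbe2, add_zero]
      e2_ne := hm₀
      span := hspan }
  have hchar : CharP ↥D p :=
    charP_of_injective_algebraMap (algebraMap (ZMod p) ↥D).injective p
  exact ⟨↥D, instF, hchar, j, ⟨T⟩⟩

/-- in the irreducible case there is a field `K` of characteristic `p` and a homomorphism
`Γ → SL₂(K)` with the same kernel as `ρ` -/
theorem exists_twoDim_hom [Finite M] (hgen : Subgroup.closure {x, y} = ⊤)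
    (hx : (ρ x - 1) * (ρ x - 1) = 0) (hy : (ρ y - 1) * (ρ y - 1) = 0)
    (hI : Irred p ρ) (hnp : ¬ IsPRep p ρ) :
    ∃ (K : Type u) (_ : Field K) (_ : CharP K p)
      (ι : Γ →* Matrix.SpecialLinearGroup (Fin 2) K), ∀ g : Γ, ι g = 1 ↔ ρ g = 1 := by
  obtain ⟨K, instF, hchar, j, ⟨T⟩⟩ := exists_twoDim ρ x y hgen hx hy hI hnp
  exact ⟨K, instF, hchar, T.hom hgen, T.hom_eq_one_iff hgen⟩

end field

end Quad

end Cfsg.Agent.Lib.Lead
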