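import Mathlib
import Cfsg.Agent.Lib.Lead.Quad5

set_option autoImplicit false

universe u v

namespace Cfsg.Agent.Lib.Lead

namespace Quad

open Matrix

section main

variable {p : ℕ} [Fact p.Prime]
variable {Γ : Type v} [Group Γ]

/-- pulling back a subgroup of a quotient -/
theorem hasSL2Section_of_quotient (N : Subgroup Γ) [N.Normal] (Kbar : Subgroup (Γ ⧸ N))
    (e : ↥Kbar ≃* Matrix.SpecialLinearGroup (Fin 2) (ZMod p)) : HasSL2Section p Γ := by
  refine ⟨Kbar.comap (QuotientGroup.mk' N), N, inferInstance, ⟨?_⟩⟩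
  set φ := (QuotientGroup.mk' N).subgroupComap Kbar with hφ
  have hsurj : Function.Surjective φ :=
    MonoidHom.subgroupComap_surjective_of_surjective _ _ (QuotientGroup.mk'_surjective N)
  have hker : φ.ker = N.subgroupOf (Kbar.comap (QuotientGroup.mk' N)) := by
    ext k
    rw [MonoidHom.mem_ker, Subgroup.mem_subgroupOf]
    constructor
    · intro h
      have h' : ((k : Γ) : Γ ⧸ N) = 1 := congrArg Subtype.val h
      exact (QuotientGroup.eq_one_iff _).mp h'
    · intro h
      apply Subtype.ext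
      exact (QuotientGroup.eq_one_iff _).mpr h
  exact ((QuotientGroup.quotientMulEquivOfEq hker.symm).trans
    (QuotientGroup.quotientKerEquivOfSurjective φ hsurj)).trans e

variable {M : Type u} [AddCommGroup M] [Module (ZMod p) M]
variable (ρ : Γ →* Module.End (ZMod p) M) (x y : Γ)

theorem hasSL2Section_of_irred [Finite Γ] [Finite M] (hp2 : p ≠ 2)
    (hgen : Subgroup.closure {x, y} = ⊤)
    (hx : (ρ x - 1) * (ρ x - 1) = 0) (hy : (ρ y - 1) * (ρ y - 1) = 0)
    (hI : Irred p ρ) (hnp : ¬ IsPRep p ρ) : HasSL2Section p Γ := by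
  obtain ⟨K, instF, hchar, ι, hι⟩ := exists_twoDim_hom ρ x y hgen hx hy hI hnp
  have hιbar : Function.Injective (QuotientGroup.kerLift ι) := QuotientGroup.kerLift_injective ι
  have hpow : ∀ z : Γ, (ρ z - 1) * (ρ z - 1) = 0 → ((z : Γ ⧸ ι.ker)) ^ p = 1 := by
    intro z hz
    rw [← QuotientGroup.mk_pow, QuotientGroup.eq_one_iff, MonoidHom.mem_ker, hι, map_pow]
    exact pow_p_eq_one_of_sq_zero _ hz
  have h2S : ∃ P Q : Sylow p (Γ ⧸ ι.ker), P ≠ Q := by
    by_contra hcon
    push Not at hcon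
    apply hnp
    obtain ⟨P⟩ : Nonempty (Sylow p (Γ ⧸ ι.ker)) := inferInstance
    have hmem : ∀ z : Γ ⧸ ι.ker, z ^ p = 1 → z ∈ P := by
      intro z hz
      have hzp : IsPGroup p (Subgroup.zpowers z) := by
        rintro ⟨w, hw⟩
        refine ⟨1, ?_⟩
        obtain ⟨k, rfl⟩ := Subgroup.mem_zpowers_iff.mp hw
        apply Subtype.ext
        simp only [pow_one, Subgroup.coe_pow, Subgroup.coe_one]
        rw [← zpow_natCast, ← _root_.zpow_mul, mul_comm, _root_.zpow_mul, zpow_natCast, hz,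
          _root_.one_zpow]
      obtain ⟨Q, hQ⟩ := hzp.exists_le_sylow
      rw [hcon Q P] at hQ
      exact hQ (Subgroup.mem_zpowers z)
    have htop : ∀ g : Γ, (g : Γ ⧸ ι.ker) ∈ P := by
      intro g
      have hg : g ∈ Subgroup.closure {x, y} := by rw [hgen]; trivial
      induction hg using Subgroup.closure_induction with
      | mem z hz =>
        rcases hz with rfl | hz
        · exact hmem _ (hpow _ hx)
        · rw [Set.mem_singleton_iff] at hz
          rw [hz]
          exact hmem _ (hpow _ hy)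
      | one => exact (P : Subgroup (Γ ⧸ ι.ker)).one_mem
      | mul a b _ _ ha hb =>
        rw [QuotientGroup.mk_mul]
        exact (P : Subgroup (Γ ⧸ ι.ker)).mul_mem ha hb
      | inv a _ ha =>
        rw [QuotientGroup.mk_inv]
        exact (P : Subgroup (Γ ⧸ ι.ker)).inv_mem ha
    intro g
    obtain ⟨k, hk⟩ := P.2 ⟨(g : Γ ⧸ ι.ker), htop g⟩
    refine ⟨k, ?_⟩
    have h1 : ((g : Γ ⧸ ι.ker)) ^ p ^ k = 1 := by
      have := congrArg Subtype.val hk
      simpa using this
    rw [← QuotientGroup.mk_pow, QuotientGroup.eq_one_iff, MonoidHom.mem_ker, hι, map_pow] at h1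
    exact h1
  obtain ⟨Kbar, ⟨e⟩⟩ := SL2.exists_sl2_subgroup p (QuotientGroup.kerLift ι) hp2 hιbar h2S
  exact hasSL2Section_of_quotient ι.ker Kbar e

/-- **Part II (abstract form)**: a finite group generated by two elements acting quadratically on
a finite `𝔽_p`-module, whose image is not a `p`-group, has a section `SL₂(𝔽_p)`. -/
theorem hasSL2Section_of_quadratic [Finite Γ] [Finite M] (hp2 : p ≠ 2)
    (hgen : Subgroup.closure {x, y} = ⊤)
    (hx : (ρ x - 1) * (ρ x - 1) = 0) (hy : (ρ y - 1) * (ρ y - 1) = 0)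
    (hnp : ¬ IsPRep p ρ) : HasSL2Section p Γ :=
  reduce_irreducible x y (HasSL2Section p Γ)
    (fun M' _ _ _ ρ' hx' hy' hI' hnp' => hasSL2Section_of_irred ρ' x y hp2 hgen hx' hy' hI' hnp')
    (Nat.card M) M ρ rfl hx hy hnp

end main

end Quad

end Cfsg.Agent.Lib.Lead
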