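import Mathlib
import Cfsg.Agent.Lib.Lead.Quad6
import Cfsg.Agent.S0199

set_option autoImplicit false

universe u v

namespace Cfsg.Agent.Lib.Lead

namespace Quad

open Matrix

section transfer

variable {p : ℕ} [Fact p.Prime]
variable {Γ : Type v} [Group Γ]

/-- a section of a subgroup is a section of the group, lying inside the subgroup -/
theorem exists_section_le (S : Subgroup Γ) (h : HasSL2Section p ↥S) :
    ∃ (K L : Subgroup Γ) (_ : (L.subgroupOf K).Normal), K ≤ S ∧
      Nonempty ((↥K ⧸ L.subgroupOf K) ≃* Matrix.SpecialLinearGroup (Fin 2) (ZMod p)) := by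
  obtain ⟨K', L', hL', ⟨e⟩⟩ := h
  set K : Subgroup Γ := K'.map S.subtype with hK
  set L : Subgroup Γ := L'.map S.subtype with hL
  let f : ↥K' ≃* ↥K := Subgroup.equivMapOfInjective K' S.subtype S.subtype_injective
  have hmap : (L'.subgroupOf K').map f.toMonoidHom = L.subgroupOf K := by
    ext k
    rw [Subgroup.mem_map, Subgroup.mem_subgroupOf]
    constructor
    · rintro ⟨a, ha, rfl⟩
      rw [Subgroup.mem_subgroupOf] at ha
      exact ⟨(a : ↥S), ha, rfl⟩
    · rintro ⟨l, hl, hlk⟩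
      obtain ⟨k', hk', hk'k⟩ := k.2
      have hlk' : l = k' := by
        apply S.subtype_injective
        rw [hlk, hk'k]
      refine ⟨⟨k', hk'⟩, ?_, ?_⟩
      · rw [Subgroup.mem_subgroupOf]
        subst hlk'; exact hl
      · apply Subtype.ext
        exact hk'k
  have hnorm : (L.subgroupOf K).Normal := by
    rw [← hmap]
    exact Subgroup.Normal.map hL' _ f.surjective
  refine ⟨K, L, hnorm, ?_, ⟨?_⟩⟩
  · rintro _ ⟨k', _, rfl⟩
    exact k'.2
  · exact (QuotientGroup.congr (L'.subgroupOf K') (L.subgroupOf K) f hmap).symm.trans e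

theorem hasSL2Section_of_subgroup (S : Subgroup Γ) (h : HasSL2Section p ↥S) :
    HasSL2Section p Γ := by
  obtain ⟨K, L, hL, _, e⟩ := exists_section_le S h
  exact ⟨K, L, hL, e⟩

end transfer

section elt

variable {p : ℕ} [Fact p.Prime]
variable {Γ : Type v} [Group Γ]
variable {M : Type u} [AddCommGroup M] [Module (ZMod p) M]
variable (ρ : Γ →* Module.End (ZMod p) M)

theorem quad_conj (x g : Γ) (hx : (ρ x - 1) * (ρ x - 1) = 0) :
    (ρ (g * x * g⁻¹) - 1) * (ρ (g * x * g⁻¹) - 1) = 0 := by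
  have h1 : ρ (g * x * g⁻¹) - 1 = ρ g * (ρ x - 1) * ρ g⁻¹ := by
    rw [map_mul, map_mul, mul_sub, sub_mul, mul_one, rho_mul_inv]
  rw [h1]
  calc ρ g * (ρ x - 1) * ρ g⁻¹ * (ρ g * (ρ x - 1) * ρ g⁻¹)
      = ρ g * (ρ x - 1) * (ρ g⁻¹ * ρ g) * (ρ x - 1) * ρ g⁻¹ := by simp only [mul_assoc]
    _ = ρ g * ((ρ x - 1) * (ρ x - 1)) * ρ g⁻¹ := by rw [rho_inv_mul, mul_one]; simp only [mul_assoc]
    _ = 0 := by rw [hx, mul_zero, zero_mul]

/-- **Part II, element form**: if `x` acts quadratically and lies in no normal subgroup acting as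
a `p`-group, then the group has a section `SL₂(𝔽_p)`. -/
theorem hasSL2Section_of_quadratic_elt [Finite Γ] [Finite M] (hp2 : p ≠ 2) (x : Γ)
    (hx : (ρ x - 1) * (ρ x - 1) = 0)
    (hN : ∀ N : Subgroup Γ, N.Normal → (∀ g ∈ N, ∃ k : ℕ, ρ g ^ p ^ k = 1) → x ∉ N) :
    HasSL2Section p Γ := by
  classical
  by_contra hcon
  -- every pair `x, g x g⁻¹` generates a group acting as a `p`-group
  have hpair : ∀ g : Γ, ∀ h ∈ Subgroup.closure {x, g * x * g⁻¹}, ∃ k : ℕ, ρ h ^ p ^ k = 1 := by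
    intro g
    by_contra hg
    apply hcon
    set S : Subgroup Γ := Subgroup.closure {x, g * x * g⁻¹} with hS
    have hxS : x ∈ S := Subgroup.subset_closure (Set.mem_insert _ _)
    have hyS : g * x * g⁻¹ ∈ S :=
      Subgroup.subset_closure (Set.mem_insert_of_mem _ (Set.mem_singleton _))
    apply hasSL2Section_of_subgroup S
    apply hasSL2Section_of_quadratic (ρ.comp S.subtype) ⟨x, hxS⟩ ⟨g * x * g⁻¹, hyS⟩ hp2
    · have h1 : Subgroup.closure (((↑) : ↥S → Γ) ⁻¹' {x, g * x * g⁻¹}) = ⊤ :=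
        Subgroup.closure_closure_coe_preimage
      rw [← h1]
      congr 1
      ext z
      simp only [Set.mem_insert_iff, Set.mem_singleton_iff, Set.mem_preimage]
      constructor
      · rintro (rfl | rfl)
        · left; rfl
        · right; rfl
      · rintro (h | h)
        · left; exact Subtype.ext h
        · right; exact Subtype.ext h
    · exact hx
    · exact quad_conj ρ x g hx
    · intro hrep
      apply hg
      intro h hh
      exact hrep ⟨h, hh⟩
  -- Baer–Suzuki in `Γ ⧸ ker ρ`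
  let π := QuotientGroup.mk' ρ.ker
  have hker : ∀ h : Γ, ∀ k : ℕ, (π h) ^ p ^ k = 1 ↔ ρ h ^ p ^ k = 1 := by
    intro h k
    rw [← map_pow, ← map_pow]
    exact (QuotientGroup.eq_one_iff _).trans MonoidHom.mem_ker
  set X : Subgroup (Γ ⧸ ρ.ker) := Subgroup.zpowers (π x) with hX
  have hBS' : ∀ gbar : Γ ⧸ ρ.ker, IsPGroup p ↥(X ⊔ X.map (MulAut.conj gbar).toMonoidHom) := by
    intro gbar
    obtain ⟨g, rfl⟩ := QuotientGroup.mk'_surjective ρ.ker gbar
    have hle : X ⊔ X.map (MulAut.conj (π g)).toMonoidHom ≤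
        (Subgroup.closure {x, g * x * g⁻¹}).map π := by
      apply sup_le
      · rw [hX, Subgroup.zpowers_le]
        exact ⟨x, Subgroup.subset_closure (Set.mem_insert _ _), rfl⟩
      · rw [hX, MonoidHom.map_zpowers, Subgroup.zpowers_le]
        refine ⟨g * x * g⁻¹, Subgroup.subset_closure
          (Set.mem_insert_of_mem _ (Set.mem_singleton _)), ?_⟩
        simp [π]
    rintro ⟨z, hz⟩
    obtain ⟨h, hh, rfl⟩ := hle hz
    obtain ⟨k, hk⟩ := hpair g h hh
    refine ⟨k, ?_⟩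
    apply Subtype.ext
    rw [Subgroup.coe_pow, Subgroup.coe_one]
    exact (hker h k).mpr hk
  have hXp : IsPGroup p X := by
    have h1 := hBS' 1
    intro z
    obtain ⟨k, hk⟩ := h1 ⟨(z : Γ ⧸ ρ.ker), Subgroup.mem_sup_left z.2⟩
    refine ⟨k, ?_⟩
    apply Subtype.ext
    have h2 := congrArg Subtype.val hk
    rw [Subgroup.coe_pow, Subgroup.coe_one] at h2 ⊢
    exact h2
  obtain ⟨Nbar, hNn, hNp, hXN⟩ := Cfsg.Agent.S0199.result X hXp hBS'
  refine hN (Nbar.comap π) (hNn.comap π) ?_ ?_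
  · intro g hg
    obtain ⟨k, hk⟩ := hNp ⟨π g, hg⟩
    refine ⟨k, ?_⟩
    rw [← hker]
    simpa using congrArg Subtype.val hk
  · exact hXN (Subgroup.mem_zpowers (π x))

end elt

end Quad

end Cfsg.Agent.Lib.Lead
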