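import Mathlib
import Cfsg.Agent.Lib.Lead.Quad7

set_option autoImplicit false

universe u v

namespace Cfsg.Agent.Lib.Lead

namespace Quad

open Matrix

section action

variable {p : ℕ} [Fact p.Prime]
variable {Γ : Type v} [Group Γ]
variable {A : Type u} [CommGroup A]

/-- the linear representation attached to an action on an abelian group of exponent `p` -/
noncomputable def linRep [Module (ZMod p) (Additive A)] (φ : Γ →* MulAut A) :
    Γ →* Module.End (ZMod p) (Additive A) where
  toFun g := AddMonoidHom.toZModLinearMap p (MonoidHom.toAdditive (φ g).toMonoidHom)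
  map_one' := by
    apply LinearMap.ext
    intro a
    rw [map_one]
    rfl
  map_mul' g h := by
    apply LinearMap.ext
    intro a
    simp only [map_mul]
    rfl

theorem linRep_apply [Module (ZMod p) (Additive A)] (φ : Γ →* MulAut A) (g : Γ)
    (a : Additive A) : linRep (p := p) φ g a = Additive.ofMul (φ g a.toMul) := rfl

theorem linRep_pow_apply [Module (ZMod p) (Additive A)] (φ : Γ →* MulAut A) (g : Γ) (n : ℕ)
    (a : Additive A) : (linRep (p := p) φ g ^ n) a = Additive.ofMul ((φ g ^ n) a.toMul) := by
  rw [← map_pow, ← map_pow, linRep_apply]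

/-- **Part II, action form**: a finite group acting on a finite abelian group of exponent `p`
(`p` odd), with an element `x` acting quadratically that lies in no normal subgroup acting as
a `p`-group, has a section `SL₂(𝔽_p)`. -/
theorem hasSL2Section_of_action [Finite Γ] [Finite A] (hp2 : p ≠ 2) (hA : ∀ a : A, a ^ p = 1)
    (φ : Γ →* MulAut A) (x : Γ) (hx : ∀ a : A, φ x (φ x a / a) = φ x a / a)
    (hN : ∀ N : Subgroup Γ, N.Normal → (∀ g ∈ N, ∃ k : ℕ, φ g ^ p ^ k = 1) → x ∉ N) :
    HasSL2Section p Γ := by
  let _ : Module (ZMod p) (Additive A) := AddCommGroup.zmodModule (by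
    intro a
    change Additive.ofMul (a.toMul ^ p) = 0
    rw [hA]; rfl)
  have : Finite (Additive A) := inferInstanceAs (Finite A)
  apply hasSL2Section_of_quadratic_elt (linRep (p := p) φ) hp2 x
  · apply LinearMap.ext
    intro a
    rw [Module.End.mul_apply, LinearMap.sub_apply, LinearMap.sub_apply, Module.End.one_apply,
      linRep_apply, LinearMap.zero_apply, Module.End.one_apply, linRep_apply]
    have h1 := hx a.toMul
    rw [sub_eq_zero]
    change Additive.ofMul (φ x (φ x a.toMul / a.toMul)) = Additive.ofMul (φ x a.toMul / a.toMul)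
    rw [h1]
  · intro N hNn hNp
    apply hN N hNn
    intro g hg
    obtain ⟨k, hk⟩ := hNp g hg
    refine ⟨k, ?_⟩
    apply MulEquiv.ext
    intro a
    have h1 := linRep_pow_apply (p := p) φ g (p ^ k) (Additive.ofMul a)
    rw [hk] at h1
    exact (congrArg Additive.toMul h1).symm

end action

end Quad

end Cfsg.Agent.Lib.Lead
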