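import Mathlib
import Cfsg.Agent.Lib.Lead.Quad8

set_option autoImplicit false

universe u

namespace Cfsg.Agent.Lib.Lead

namespace Quad

open Matrix

section subgroups

variable {p : ℕ} [Fact p.Prime]
variable {G : Type u} [Group G]

/-- conjugation action of a subgroup `H ≤ N_G(V)` on `V` -/
def conjAct (V H : Subgroup G) (hHV : H ≤ Subgroup.normalizer (V : Set G)) : ↥H →* MulAut ↥V where
  toFun g :=
    { toFun := fun v => ⟨(g : G) * v * (g : G)⁻¹,
        (Subgroup.mem_normalizer_iff.mp (hHV g.2) v).mp v.2⟩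
      invFun := fun v => ⟨(g : G)⁻¹ * v * (g : G),
        (Subgroup.mem_normalizer_iff''.mp (hHV g.2) v).mp v.2⟩
      left_inv := by
        intro v
        apply Subtype.ext
        simp only
        group
      right_inv := by
        intro v
        apply Subtype.ext
        simp only
        group
      map_mul' := by
        intro v w
        apply Subtype.ext
        simp only [Subgroup.coe_mul]
        group }
  map_one' := by
    apply MulEquiv.ext
    intro v
    apply Subtype.ext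
    simp
  map_mul' := by
    intro g h
    apply MulEquiv.ext
    intro v
    apply Subtype.ext
    simp only [Subgroup.coe_mul, MulEquiv.coe_mk, Equiv.coe_fn_mk, MulAut.mul_apply, _root_.mul_inv_rev]
    group

theorem conjAct_apply (V H : Subgroup G) (hHV : H ≤ Subgroup.normalizer (V : Set G)) (g : ↥H)
    (v : ↥V) : ((conjAct V H hHV g v : ↥V) : G) = (g : G) * v * (g : G)⁻¹ := rfl

theorem conjAct_pow_apply (V H : Subgroup G) (hHV : H ≤ Subgroup.normalizer (V : Set G)) (g : ↥H)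
    (n : ℕ) (v : ↥V) : (((conjAct V H hHV g ^ n) v : ↥V) : G) = (g : G) ^ n * v * ((g : G) ^ n)⁻¹ := by
  rw [← map_pow, conjAct_apply, Subgroup.coe_pow]

/-- **Part II for subgroups**: `H` normalizes the elementary abelian `p`-subgroup `V`, `x ∈ H`
acts quadratically on `V`, and `x` lies in no `H`-invariant subgroup of `H` acting on `V` as a
`p`-group.  Then `H` has a section `SL₂(𝔽_p)`. -/
theorem section_of_quadratic [Finite G] (hp : p ≠ 2) (V H : Subgroup G)
    (hcomm : ∀ a ∈ V, ∀ b ∈ V, a * b = b * a) (hexp : ∀ a ∈ V, a ^ p = 1)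
    (hHV : H ≤ Subgroup.normalizer (V : Set G)) (x : G) (hxH : x ∈ H)
    (hquad : ∀ v ∈ V, x * (x * v * x⁻¹ * v⁻¹) * x⁻¹ = x * v * x⁻¹ * v⁻¹)
    (hN : ∀ N : Subgroup G, N ≤ H → (∀ g ∈ H, ∀ n ∈ N, g * n * g⁻¹ ∈ N) →
      (∀ n ∈ N, ∃ k : ℕ, ∀ v ∈ V, n ^ p ^ k * v = v * n ^ p ^ k) → x ∉ N) :
    ∃ (K L : Subgroup G) (_ : (L.subgroupOf K).Normal), K ≤ H ∧
      Nonempty ((↥K ⧸ L.subgroupOf K) ≃* Matrix.SpecialLinearGroup (Fin 2) (ZMod p)) := by
  classical
  apply exists_section_le H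
  let _ : CommGroup ↥V :=
    { (inferInstance : Group ↥V) with
      mul_comm := fun a b => Subtype.ext (hcomm a a.2 b b.2) }
  apply hasSL2Section_of_action hp (A := ↥V) (fun a => Subtype.ext (by simpa using hexp a a.2))
    (conjAct V H hHV) ⟨x, hxH⟩
  · intro a
    apply Subtype.ext
    have h1 := hquad a a.2
    simp only [conjAct_apply, div_eq_mul_inv, Subgroup.coe_mul, Subgroup.coe_inv]
    exact h1
  · intro N hNn hNp hxN
    refine hN (N.map H.subtype) ?_ ?_ ?_ ⟨⟨x, hxH⟩, hxN, rfl⟩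
    · rintro _ ⟨n, _, rfl⟩
      exact n.2
    · rintro g hg _ ⟨n, hn, rfl⟩
      exact ⟨⟨g, hg⟩ * n * ⟨g, hg⟩⁻¹, hNn.conj_mem n hn ⟨g, hg⟩, rfl⟩
    · rintro _ ⟨n, hn, rfl⟩
      obtain ⟨k, hk⟩ := hNp n hn
      refine ⟨k, ?_⟩
      intro v hv
      have h1 := conjAct_pow_apply V H hHV n (p ^ k) ⟨v, hv⟩
      rw [hk] at h1
      simp only [MulAut.one_apply, Subgroup.subtype_apply] at h1 ⊢
      calc (n : G) ^ p ^ k * v = (n : G) ^ p ^ k * v * ((n : G) ^ p ^ k)⁻¹ * (n : G) ^ p ^ k := by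
            group
        _ = v * (n : G) ^ p ^ k := by rw [← h1]

end subgroups

end Quad

end Cfsg.Agent.Lib.Lead
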