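import Mathlib
import Cfsg.Agent.Lib.Lead.Quad9

set_option autoImplicit false

universe u v

namespace Cfsg.Agent.Lib.Lead

namespace Quad

section subquot

variable {Γ : Type v} [Group Γ]
variable {P : Type u} [Group P]

/-- restriction of an action by automorphisms to an invariant subgroup -/
def subAct (φ : Γ →* MulAut P) (Q : Subgroup P) (hQ : ∀ g a, a ∈ Q → φ g a ∈ Q) :
    Γ →* MulAut ↥Q where
  toFun g :=
    { toFun := fun a => ⟨φ g a, hQ g a a.2⟩
      invFun := fun a => ⟨φ g⁻¹ a, hQ g⁻¹ a a.2⟩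
      left_inv := by
        intro a
        apply Subtype.ext
        change φ g⁻¹ (φ g a) = a
        rw [← MulAut.mul_apply, ← map_mul, inv_mul_cancel, map_one, MulAut.one_apply]
      right_inv := by
        intro a
        apply Subtype.ext
        change φ g (φ g⁻¹ a) = a
        rw [← MulAut.mul_apply, ← map_mul, mul_inv_cancel, map_one, MulAut.one_apply]
      map_mul' := by
        intro a b
        apply Subtype.ext
        change φ g (a * b) = φ g a * φ g b
        rw [map_mul] }
  map_one' := by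
    apply MulEquiv.ext
    intro a
    apply Subtype.ext
    change φ 1 a = a
    rw [map_one, MulAut.one_apply]
  map_mul' := by
    intro g h
    apply MulEquiv.ext
    intro a
    apply Subtype.ext
    change φ (g * h) a = φ g (φ h a)
    rw [map_mul, MulAut.mul_apply]

theorem subAct_apply (φ : Γ →* MulAut P) (Q : Subgroup P) (hQ : ∀ g a, a ∈ Q → φ g a ∈ Q)
    (g : Γ) (a : ↥Q) : ((subAct φ Q hQ g a : ↥Q) : P) = φ g a := rfl

theorem map_eq_of_inv (φ : Γ →* MulAut P) (Q : Subgroup P) (hQ : ∀ g a, a ∈ Q → φ g a ∈ Q)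
    (g : Γ) : Q.map ((φ g : P ≃* P) : P →* P) = Q := by
  apply le_antisymm
  · rintro _ ⟨a, ha, rfl⟩
    exact hQ g a ha
  · intro a ha
    refine ⟨φ g⁻¹ a, hQ g⁻¹ a ha, ?_⟩
    change φ g (φ g⁻¹ a) = a
    rw [← MulAut.mul_apply, ← map_mul, mul_inv_cancel, map_one, MulAut.one_apply]

/-- induced action on the quotient by an invariant normal subgroup -/
def quotAct (φ : Γ →* MulAut P) (Q : Subgroup P) [Q.Normal]
    (hQ : ∀ g a, a ∈ Q → φ g a ∈ Q) : Γ →* MulAut (P ⧸ Q) where
  toFun g := QuotientGroup.congr Q Q (φ g) (map_eq_of_inv φ Q hQ g)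
  map_one' := by
    apply MulEquiv.ext
    intro a
    induction a using QuotientGroup.induction_on with
    | H a =>
      rw [QuotientGroup.congr_mk, map_one, MulAut.one_apply, MulAut.one_apply]
  map_mul' := by
    intro g h
    apply MulEquiv.ext
    intro a
    induction a using QuotientGroup.induction_on with
    | H a =>
      rw [MulAut.mul_apply, QuotientGroup.congr_mk, QuotientGroup.congr_mk, QuotientGroup.congr_mk,
        map_mul, MulAut.mul_apply]

theorem quotAct_mk (φ : Γ →* MulAut P) (Q : Subgroup P) [Q.Normal]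
    (hQ : ∀ g a, a ∈ Q → φ g a ∈ Q) (g : Γ) (a : P) :
    quotAct φ Q hQ g (a : P ⧸ Q) = ((φ g a : P) : P ⧸ Q) :=
  QuotientGroup.congr_mk Q Q (φ g) (map_eq_of_inv φ Q hQ g) a

/-- an automorphism acting trivially on `Q` and on `P ⧸ Q` has order dividing `|Q|` -/
theorem pow_card_eq_one_of_stab [Finite P] (f : MulAut P) (Q : Subgroup P)
    (h1 : ∀ a ∈ Q, f a = a) (h2 : ∀ a : P, a⁻¹ * f a ∈ Q) : f ^ Nat.card Q = 1 := by
  have key : ∀ (n : ℕ) (a : P), (f ^ n) a = a * (a⁻¹ * f a) ^ n := by
    intro n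
    induction n with
    | zero => intro a; simp
    | succ n ih =>
      intro a
      rw [pow_succ', MulAut.mul_apply, ih, map_mul, map_pow, h1 _ (h2 a), pow_succ']
      simp only [mul_assoc, mul_inv_cancel_left]
  apply MulEquiv.ext
  intro a
  rw [key, MulAut.one_apply]
  have : (a⁻¹ * f a) ^ Nat.card Q = 1 := by
    have := pow_card_eq_one' (G := ↥Q) (x := ⟨a⁻¹ * f a, h2 a⟩)
    exact congrArg Subtype.val this
  rw [this, mul_one]

end subquot

end Quad

end Cfsg.Agent.Lib.Lead
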