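import Mathlib
import Cfsg.Agent.Lib.Lead.Quad10

set_option autoImplicit false

universe u v

namespace Cfsg.Agent.Lib.Lead

namespace Quad

section pgroup

variable {p : ℕ} [Fact p.Prime]
variable {Γ : Type v} [Group Γ]

/-- combine normal subgroups acting as `p`-groups on `Q` and on `P ⧸ Q` -/
theorem step_sub_quot {P : Type u} [Group P] [Finite P] (hP : IsPGroup p P) (φ : Γ →* MulAut P)
    (x : Γ) (Q : Subgroup P) [Q.Normal] (hQ : ∀ g a, a ∈ Q → φ g a ∈ Q)
    (h1 : ∃ N : Subgroup Γ, N.Normal ∧ x ∈ N ∧ ∀ g ∈ N, ∃ k : ℕ, subAct φ Q hQ g ^ p ^ k = 1)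
    (h2 : ∃ N : Subgroup Γ, N.Normal ∧ x ∈ N ∧ ∀ g ∈ N, ∃ k : ℕ, quotAct φ Q hQ g ^ p ^ k = 1) :
    ∃ N : Subgroup Γ, N.Normal ∧ x ∈ N ∧ ∀ g ∈ N, ∃ k : ℕ, φ g ^ p ^ k = 1 := by
  obtain ⟨N1, hN1n, hx1, hN1⟩ := h1
  obtain ⟨N2, hN2n, hx2, hN2⟩ := h2
  refine ⟨N1 ⊓ N2, inferInstance, ⟨hx1, hx2⟩, ?_⟩
  rintro g ⟨hg1, hg2⟩
  obtain ⟨k1, hk1⟩ := hN1 g hg1
  obtain ⟨k2, hk2⟩ := hN2 g hg2
  obtain ⟨m, hm⟩ := (hP.to_subgroup Q).exists_card_eq
  refine ⟨k1 + k2 + m, ?_⟩
  set f : MulAut P := φ g ^ p ^ (k1 + k2) with hf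
  have hf' : f = φ (g ^ p ^ (k1 + k2)) := by rw [hf, map_pow]
  have hs : subAct φ Q hQ (g ^ p ^ (k1 + k2)) = 1 := by
    rw [map_pow, pow_add, pow_mul, hk1, one_pow]
  have hq : quotAct φ Q hQ (g ^ p ^ (k1 + k2)) = 1 := by
    rw [map_pow, pow_add, mul_comm, pow_mul, hk2, one_pow]
  have hfix : ∀ a ∈ Q, f a = a := by
    intro a ha
    have h := subAct_apply φ Q hQ (g ^ p ^ (k1 + k2)) ⟨a, ha⟩
    rw [hs, MulAut.one_apply] at h
    rw [hf']
    exact h.symm
  have hmod : ∀ a : P, a⁻¹ * f a ∈ Q := by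
    intro a
    have h := quotAct_mk φ Q hQ (g ^ p ^ (k1 + k2)) a
    rw [hq, MulAut.one_apply] at h
    rw [hf']
    exact QuotientGroup.eq.mp h
  have := pow_card_eq_one_of_stab f Q hfix hmod
  rw [hm, hf, ← pow_mul, ← pow_add] at this
  exact this

theorem card_sub_lt {P : Type u} [Group P] [Finite P] (Q : Subgroup P) (hQ : Q ≠ ⊤) :
    Nat.card ↥Q < Nat.card P := by
  by_contra hcon
  push Not at hcon
  exact hQ (Subgroup.eq_top_of_le_card Q hcon)

theorem card_quot_lt {P : Type u} [Group P] [Finite P] (Q : Subgroup P) [Q.Normal] (hQ : Q ≠ ⊥) :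
    Nat.card (P ⧸ Q) < Nat.card P := by
  have h1 : Nat.card P = Nat.card (P ⧸ Q) * Nat.card ↥Q := Subgroup.card_eq_card_quotient_mul_card_subgroup Q
  have h2 : 1 < Nat.card ↥Q := by
    rw [Subgroup.one_lt_card_iff_ne_bot]; exact hQ
  have h3 : 0 < Nat.card (P ⧸ Q) := Nat.card_pos
  nlinarith

/-- **Part II for `p`-groups**: if `Γ` has no section `SL₂(𝔽_p)`, then any element acting
quadratically on a finite `p`-group lies in a normal subgroup acting as a `p`-group. -/
theorem exists_normal_of_quadratic_pgroup [Finite Γ] (hp2 : p ≠ 2) (hns : ¬ HasSL2Section p Γ) :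
    ∀ (n : ℕ) (P : Type u) [Group P] [Finite P], Nat.card P = n → IsPGroup p P →
      ∀ (φ : Γ →* MulAut P) (x : Γ), (∀ a : P, φ x (φ x a / a) = φ x a / a) →
        ∃ N : Subgroup Γ, N.Normal ∧ x ∈ N ∧ ∀ g ∈ N, ∃ k : ℕ, φ g ^ p ^ k = 1 := by
  intro n
  induction n using Nat.strong_induction_on with
  | _ n ih =>
  intro P _ _ hn hP φ x hx
  -- the reduction step along an invariant normal subgroup
  have red : ∀ (Q : Subgroup P) [Q.Normal], (∀ g a, a ∈ Q → φ g a ∈ Q) → Q ≠ ⊥ → Q ≠ ⊤ →
      ∃ N : Subgroup Γ, N.Normal ∧ x ∈ N ∧ ∀ g ∈ N, ∃ k : ℕ, φ g ^ p ^ k = 1 := by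
    intro Q _ hQ hQb hQt
    apply step_sub_quot hP φ x Q hQ
    · apply ih (Nat.card ↥Q) (by rw [← hn]; exact card_sub_lt Q hQt) ↥Q rfl (hP.to_subgroup Q)
      intro a
      apply Subtype.ext
      simp only [div_eq_mul_inv, Subgroup.coe_mul, Subgroup.coe_inv, subAct_apply]
      have := hx a
      simp only [div_eq_mul_inv] at this
      exact this
    · apply ih (Nat.card (P ⧸ Q)) (by rw [← hn]; exact card_quot_lt Q hQb) (P ⧸ Q) rfl
        (hP.to_quotient Q)
      intro a
      induction a using QuotientGroup.induction_on with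
      | H a =>
        rw [quotAct_mk, ← QuotientGroup.mk_div, quotAct_mk, hx a]
  by_cases hcomm : ∀ a b : P, a * b = b * a
  · by_cases hexp : ∀ a : P, a ^ p = 1
    · -- elementary abelian
      by_contra hcon
      apply hns
      letI : CommGroup P := { (inferInstance : Group P) with mul_comm := hcomm }
      apply hasSL2Section_of_action hp2 (A := P) hexp φ x hx
      intro N hNn hNp hxN
      exact hcon ⟨N, hNn, hxN, hNp⟩
    · -- abelian, not of exponent `p`
      push Not at hexp
      obtain ⟨a0, ha0⟩ := hexp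
      letI : CommGroup P := { (inferInstance : Group P) with mul_comm := hcomm }
      let Q : Subgroup P := (powMonoidHom p : P →* P).ker
      haveI : Q.Normal := inferInstance
      apply red Q
      · intro g a ha
        rw [MonoidHom.mem_ker, powMonoidHom_apply] at ha ⊢
        rw [← map_pow, ha, map_one]
      · -- `Q ≠ ⊥` by Cauchy
        have hP1 : Nontrivial P := by
          refine ⟨a0, 1, ?_⟩
          rintro rfl
          exact ha0 (one_pow _)
        have hdvd : p ∣ Nat.card P := by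
          obtain ⟨m, hm⟩ := hP.exists_card_eq
          have hm0 : m ≠ 0 := by
            rintro rfl
            rw [pow_zero] at hm
            have := Finite.one_lt_card (α := P)
            omega
          rw [hm]
          exact dvd_pow_self p hm0
        obtain ⟨b, hb⟩ := exists_prime_orderOf_dvd_card' p hdvd
        intro hbot
        have hbQ : b ∈ Q := by
          rw [MonoidHom.mem_ker, powMonoidHom_apply, ← hb, pow_orderOf_eq_one]
        rw [hbot, Subgroup.mem_bot] at hbQ
        rw [hbQ, orderOf_one] at hb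
        exact (Fact.out : p.Prime).one_lt.ne hb
      · intro htop
        have : a0 ∈ Q := by rw [htop]; trivial
        rw [MonoidHom.mem_ker, powMonoidHom_apply] at this
        exact ha0 this
  · -- non-abelian: use the centre
    push Not at hcomm
    obtain ⟨a0, b0, hab⟩ := hcomm
    have hP1 : Nontrivial P := by
      refine ⟨a0, 1, ?_⟩
      rintro rfl
      apply hab
      rw [one_mul, mul_one]
    apply red (Subgroup.center P)
    · intro g a ha
      rw [Subgroup.mem_center_iff] at ha ⊢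
      intro b
      have h1 : b = φ g (φ g⁻¹ b) := by
        rw [← MulAut.mul_apply, ← map_mul, mul_inv_cancel, map_one, MulAut.one_apply]
      rw [h1, ← map_mul, ← map_mul, ha]
    · haveI := hP.center_nontrivial
      intro hbot
      have := Subgroup.nontrivial_iff_ne_bot (Subgroup.center P) |>.mp inferInstance
      exact this hbot
    · intro htop
      apply hab
      have : b0 ∈ Subgroup.center P := by rw [htop]; trivial
      rw [Subgroup.mem_center_iff] at this
      exact this a0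

end pgroup

end Quad

end Cfsg.Agent.Lib.Lead
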