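import Mathlib
import Cfsg.Agent.Lib.Lead.Quad11

set_option autoImplicit false

universe u

namespace Cfsg.Agent.Lib.Lead

namespace Quad

section subgroups

variable {p : ℕ} [Fact p.Prime]
variable {G : Type u} [Group G]

/-- **Part II for subgroups, `p`-group version**: `H` normalizes the `p`-subgroup `P`, `x ∈ H`
acts quadratically on `P`, and `x` lies in no `H`-invariant subgroup of `H` acting on `P` as a
`p`-group.  Then `H` has a section `SL₂(𝔽_p)`. -/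
theorem hasSL2Section_of_quadratic_pgroup [Finite G] (hp : p ≠ 2) (P H : Subgroup G)
    (hP : IsPGroup p ↥P)
    (hHP : H ≤ Subgroup.normalizer (P : Set G)) (x : G) (hxH : x ∈ H)
    (hquad : ∀ v ∈ P, x * (x * v * x⁻¹ * v⁻¹) * x⁻¹ = x * v * x⁻¹ * v⁻¹)
    (hN : ∀ N : Subgroup G, N ≤ H → (∀ g ∈ H, ∀ n ∈ N, g * n * g⁻¹ ∈ N) →
      (∀ n ∈ N, ∃ k : ℕ, ∀ v ∈ P, n ^ p ^ k * v = v * n ^ p ^ k) → x ∉ N) :
    HasSL2Section p ↥H := by
  classical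
  by_contra hns
  obtain ⟨N, hNn, hxN, hNp⟩ := exists_normal_of_quadratic_pgroup hp hns (Nat.card ↥P) ↥P rfl hP
    (conjAct P H hHP) ⟨x, hxH⟩ (by
      intro a
      apply Subtype.ext
      have h1 := hquad a a.2
      simp only [conjAct_apply, div_eq_mul_inv, Subgroup.coe_mul, Subgroup.coe_inv]
      exact h1)
  refine hN (N.map H.subtype) ?_ ?_ ?_ ⟨⟨x, hxH⟩, hxN, rfl⟩
  · rintro _ ⟨n, _, rfl⟩
    exact n.2
  · rintro g hg _ ⟨n, hn, rfl⟩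
    exact ⟨⟨g, hg⟩ * n * ⟨g, hg⟩⁻¹, hNn.conj_mem n hn ⟨g, hg⟩, rfl⟩
  · rintro _ ⟨n, hn, rfl⟩
    obtain ⟨k, hk⟩ := hNp n hn
    refine ⟨k, ?_⟩
    intro v hv
    have h1 := conjAct_pow_apply P H hHP n (p ^ k) ⟨v, hv⟩
    rw [hk] at h1
    simp only [MulAut.one_apply, Subgroup.subtype_apply] at h1 ⊢
    calc (n : G) ^ p ^ k * v = (n : G) ^ p ^ k * v * ((n : G) ^ p ^ k)⁻¹ * (n : G) ^ p ^ k := by
          group
      _ = v * (n : G) ^ p ^ k := by rw [← h1]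

theorem section_of_quadratic_pgroup [Finite G] (hp : p ≠ 2) (P H : Subgroup G)
    (hP : IsPGroup p ↥P)
    (hHP : H ≤ Subgroup.normalizer (P : Set G)) (x : G) (hxH : x ∈ H)
    (hquad : ∀ v ∈ P, x * (x * v * x⁻¹ * v⁻¹) * x⁻¹ = x * v * x⁻¹ * v⁻¹)
    (hN : ∀ N : Subgroup G, N ≤ H → (∀ g ∈ H, ∀ n ∈ N, g * n * g⁻¹ ∈ N) →
      (∀ n ∈ N, ∃ k : ℕ, ∀ v ∈ P, n ^ p ^ k * v = v * n ^ p ^ k) → x ∉ N) :
    ∃ (K L : Subgroup G) (_ : (L.subgroupOf K).Normal), K ≤ H ∧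
      Nonempty ((↥K ⧸ L.subgroupOf K) ≃* Matrix.SpecialLinearGroup (Fin 2) (ZMod p)) :=
  exists_section_le H (hasSL2Section_of_quadratic_pgroup hp P H hP hHP x hxH hquad hN)

end subgroups

end Quad

end Cfsg.Agent.Lib.Lead
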