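import Mathlib
import Cfsg.Agent.Lib.Lead.Quad12
import Cfsg.Prelude.Def_Solvable

set_option autoImplicit false

universe u

namespace Cfsg.Agent.Lib.Lead

namespace Quad

open scoped commutatorElement

section stable

variable {p : ℕ} [Fact p.Prime]
variable {G : Type u} [Group G]

/-- quadratic action from the double commutator condition -/
theorem quad_of_commutator (P : Subgroup G) (g : G)
    (hq : ⁅⁅P, Subgroup.zpowers g⁆, Subgroup.zpowers g⁆ = ⊥) :
    ∀ v ∈ P, g * (g * v * g⁻¹ * v⁻¹) * g⁻¹ = g * v * g⁻¹ * v⁻¹ := by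
  intro v hv
  have hc : g * v * g⁻¹ * v⁻¹ ∈ ⁅P, Subgroup.zpowers g⁆ := by
    have h1 : ⁅v, g⁆ ∈ ⁅P, Subgroup.zpowers g⁆ :=
      Subgroup.commutator_mem_commutator hv (Subgroup.mem_zpowers g)
    have h2 := Subgroup.inv_mem _ h1
    rw [commutatorElement_inv] at h2
    exact h2
  have h3 : ⁅g * v * g⁻¹ * v⁻¹, g⁆ ∈ ⁅⁅P, Subgroup.zpowers g⁆, Subgroup.zpowers g⁆ :=
    Subgroup.commutator_mem_commutator hc (Subgroup.mem_zpowers g)
  rw [hq, Subgroup.mem_bot, commutatorElement_eq_one_iff_mul_comm] at h3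
  rw [← h3, mul_assoc, mul_inv_cancel, mul_one]

/-- **p-stability from the absence of `SL₂(p)`**: if `N_G(P)` has no section `SL₂(𝔽_p)`
(`p` odd, `P` a `p`-subgroup), then every element of `N_G(P)` acting quadratically on `P` maps
into `O_p(N_G(P)/C_G(P))`. -/
theorem mem_pCore_of_not_hasSL2Section [Finite G] (hp : p ≠ 2) (P : Subgroup G) (hP : IsPGroup p ↥P)
    (g : G) (hg : g ∈ Subgroup.normalizer (P : Set G))
    (hq : ⁅⁅P, Subgroup.zpowers g⁆, Subgroup.zpowers g⁆ = ⊥)
    (hns : ¬ HasSL2Section p ↥(Subgroup.normalizer (P : Set G))) :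
    (QuotientGroup.mk (s := (Subgroup.centralizer (P : Set G)).subgroupOf
        (Subgroup.normalizer (P : Set G))) (⟨g, hg⟩ : ↥(Subgroup.normalizer (P : Set G)))) ∈
      Cfsg.pCore p (↥(Subgroup.normalizer (P : Set G)) ⧸
        (Subgroup.centralizer (P : Set G)).subgroupOf (Subgroup.normalizer (P : Set G))) := by
  classical
  by_contra hcon
  apply hns
  set H := Subgroup.normalizer (P : Set G) with hH
  set C := (Subgroup.centralizer (P : Set G)).subgroupOf H with hC
  refine hasSL2Section_of_quadratic_pgroup hp P H hP le_rfl g hg (quad_of_commutator P g hq) ?_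
  intro N hNH hNn hNp hgN
  apply hcon
  -- the image of `N` in `H ⧸ C` is a normal `p`-subgroup
  set Nbar : Subgroup (↥H ⧸ C) := (N.subgroupOf H).map (QuotientGroup.mk' C) with hNbar
  have hNnorm : (N.subgroupOf H).Normal := by
    constructor
    intro n hn h
    rw [Subgroup.mem_subgroupOf] at hn ⊢
    exact hNn h h.2 n hn
  have hNbarn : Nbar.Normal := Subgroup.Normal.map hNnorm _ (QuotientGroup.mk'_surjective C)
  have hNbarp : IsPGroup p ↥Nbar := by
    rintro ⟨_, n, hn, rfl⟩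
    rw [SetLike.mem_coe, Subgroup.mem_subgroupOf] at hn
    obtain ⟨k, hk⟩ := hNp _ hn
    refine ⟨k, ?_⟩
    apply Subtype.ext
    rw [Subgroup.coe_pow, Subgroup.coe_one]
    change (QuotientGroup.mk' C n) ^ p ^ k = 1
    rw [← map_pow, QuotientGroup.mk'_apply, QuotientGroup.eq_one_iff, hC, Subgroup.mem_subgroupOf,
      Subgroup.coe_pow]
    intro v hv
    exact (hk v hv).symm
  have hle : Nbar ≤ Cfsg.pCore p (↥H ⧸ C) := le_sSup ⟨hNbarn, hNbarp⟩
  apply hle
  exact ⟨⟨g, hg⟩, by rw [SetLike.mem_coe, Subgroup.mem_subgroupOf]; exact hgN, rfl⟩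

theorem mem_pCore_of_no_section [Finite G] (hp : p ≠ 2) (P : Subgroup G) (hP : IsPGroup p ↥P)
    (g : G) (hg : g ∈ Subgroup.normalizer (P : Set G))
    (hq : ⁅⁅P, Subgroup.zpowers g⁆, Subgroup.zpowers g⁆ = ⊥)
    (hns : ¬ ∃ (K L : Subgroup G) (_ : (L.subgroupOf K).Normal),
      K ≤ Subgroup.normalizer (P : Set G) ∧
      Nonempty ((↥K ⧸ L.subgroupOf K) ≃* Matrix.SpecialLinearGroup (Fin 2) (ZMod p))) :
    (QuotientGroup.mk (s := (Subgroup.centralizer (P : Set G)).subgroupOf
        (Subgroup.normalizer (P : Set G))) (⟨g, hg⟩ : ↥(Subgroup.normalizer (P : Set G)))) ∈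
      Cfsg.pCore p (↥(Subgroup.normalizer (P : Set G)) ⧸
        (Subgroup.centralizer (P : Set G)).subgroupOf (Subgroup.normalizer (P : Set G))) :=
  mem_pCore_of_not_hasSL2Section hp P hP g hg hq (fun h => hns (exists_section_le _ h))

end stable

end Quad

end Cfsg.Agent.Lib.Lead
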