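import Mathlib
import Cfsg.Agent.Lib.Lead.Quad13
import Cfsg.Agent.Lib.Helper6.Amalgam4
import Cfsg.Agent.Lib.Helper9.Sections

set_option autoImplicit false

universe u v

namespace Cfsg.Agent.Lib.Lead

namespace Quad

open Cfsg.Agent.Lib.Helper6 Cfsg.Agent.Lib.Helper9

section lift

variable {p : ℕ} [Fact p.Prime]

/-- lifting a `p`-subgroup and its normalizer through a surjection (Frattini argument) -/
theorem exists_lift_normalizer {X : Type u} {Y : Type v} [Group X] [Finite X] [Group Y]
    (f : X →* Y) (hf : Function.Surjective f) (Qb : Subgroup Y) (hQ : IsPGroup p ↥Qb) :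
    ∃ T : Subgroup X, IsPGroup p ↥T ∧ T.map f = Qb ∧
      (Subgroup.normalizer (T : Set X)).map f = Subgroup.normalizer (Qb : Set Y) := by
  classical
  set N : Subgroup X := Qb.comap f with hN
  set G1 : Subgroup X := (Subgroup.normalizer (Qb : Set Y)).comap f with hG1
  obtain ⟨S⟩ : Nonempty (Sylow p ↥N) := inferInstance
  set T : Subgroup X := (S : Subgroup ↥N).map N.subtype with hT
  have hTsyl : IsSylowOf p N T := isSylowOf_of_sylow S
  have hTN : T ≤ N := hTsyl.1
  have hTp : IsPGroup p ↥T := hTsyl.2.1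
  -- the image of `T` is `Qb`
  have hTmap : T.map f = Qb := by
    apply le_antisymm
    · rintro _ ⟨t, ht, rfl⟩
      exact hTN ht
    · -- restrict `f` to `N → Qb`
      let fN : ↥N →* ↥Qb := (f.comp N.subtype).codRestrict Qb (fun n => n.2)
      have hfN : Function.Surjective fN := by
        rintro ⟨y, hy⟩
        obtain ⟨x, rfl⟩ := hf y
        exact ⟨⟨x, hy⟩, rfl⟩
      have h1 : ((S.mapSurjective hfN : Sylow p ↥Qb) : Subgroup ↥Qb) = ⊤ := by
        have hQtop : IsPGroup p ↥(⊤ : Subgroup ↥Qb) := hQ.to_subgroup ⊤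
        exact ((S.mapSurjective hfN).is_maximal' hQtop le_top).symm
      rw [Sylow.coe_mapSurjective] at h1
      intro y hy
      have : (⟨y, hy⟩ : ↥Qb) ∈ (S : Subgroup ↥N).map fN := by rw [h1]; trivial
      obtain ⟨n, hn, hny⟩ := this
      refine ⟨(n : X), ⟨n, hn, rfl⟩, ?_⟩
      exact congrArg Subtype.val hny
  refine ⟨T, hTp, hTmap, ?_⟩
  apply le_antisymm
  · rw [← hTmap]
    exact Subgroup.le_normalizer_map f
  · intro y hy
    obtain ⟨x, rfl⟩ := hf y
    have hxG1 : x ∈ G1 := hy
    have hNG1 : N ≤ G1 := by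
      intro n hn
      exact Subgroup.le_normalizer (show f n ∈ Qb from hn)
    have hnorm : ∀ g ∈ G1, ∀ n ∈ N, g * n * g⁻¹ ∈ N := by
      intro g hg n hn
      change f (g * n * g⁻¹) ∈ Qb
      rw [map_mul, map_mul, map_inv]
      exact (Subgroup.mem_normalizer_iff.mp hg (f n)).mp hn
    obtain ⟨l, hl, b, hb, hxlb⟩ := frattini_isSylowOf hNG1 hnorm hTsyl x hxG1
    have hfl : f l ∈ T.map f := by rw [hTmap]; exact hl
    obtain ⟨t, ht, htl⟩ := hfl
    refine ⟨t * b, ?_, ?_⟩
    · exact Subgroup.mul_mem _ (Subgroup.le_normalizer ht) hb.2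
    · rw [map_mul, htl, hxlb, map_mul]

end lift

section sections

variable {p : ℕ} [Fact p.Prime]

theorem hasSL2Section_iff_isSectionOf {Γ : Type u} [Group Γ] :
    HasSL2Section p Γ ↔ IsSectionOf (Matrix.SpecialLinearGroup (Fin 2) (ZMod p)) Γ :=
  involves_iff_isSectionOf

/-- the normalizer of a subgroup of `↥K` is a section of the normalizer of its image in `G` -/
theorem isSectionOf_normalizer_map {G : Type u} [Group G] (K : Subgroup G) (T : Subgroup ↥K) :
    IsSectionOf ↥(Subgroup.normalizer (T : Set ↥K))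
      ↥(Subgroup.normalizer ((T.map K.subtype : Subgroup G) : Set G)) := by
  have hle : ∀ x : ↥(Subgroup.normalizer (T : Set ↥K)),
      ((x : ↥K) : G) ∈ Subgroup.normalizer ((T.map K.subtype : Subgroup G) : Set G) := by
    intro x
    exact Subgroup.le_normalizer_map K.subtype ⟨(x : ↥K), x.2, rfl⟩
  let j : ↥(Subgroup.normalizer (T : Set ↥K)) →*
      ↥(Subgroup.normalizer ((T.map K.subtype : Subgroup G) : Set G)) :=
    (K.subtype.comp (Subgroup.normalizer (T : Set ↥K)).subtype).codRestrict _ hle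
  have hj : Function.Injective j := by
    intro a b hab
    have h1 : ((a : ↥K) : G) = ((b : ↥K) : G) :=
      congrArg (fun z : ↥(Subgroup.normalizer ((T.map K.subtype : Subgroup G) : Set G)) => (z : G)) hab
    exact Subtype.ext (Subtype.ext h1)
  exact (isSectionOf_of_mulEquiv (MulEquiv.refl _)).of_injective j hj

/-- the normalizer of the image of a `p`-subgroup is a section of the normalizer of a lift -/
theorem exists_lift_isSectionOf {X : Type u} {Y : Type v} [Group X] [Finite X] [Group Y]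
    (f : X →* Y) (hf : Function.Surjective f) (Qb : Subgroup Y) (hQ : IsPGroup p ↥Qb) :
    ∃ T : Subgroup X, IsPGroup p ↥T ∧ T.map f = Qb ∧
      IsSectionOf ↥(Subgroup.normalizer (Qb : Set Y)) ↥(Subgroup.normalizer (T : Set X)) := by
  obtain ⟨T, hTp, hTmap, hTn⟩ := exists_lift_normalizer f hf Qb hQ
  refine ⟨T, hTp, hTmap, ⊤, ?_, ?_⟩
  · exact ((f.comp (Subgroup.normalizer (T : Set X)).subtype).codRestrict
      (Subgroup.normalizer (Qb : Set Y)) (fun x => by
        rw [← hTn]; exact ⟨(x : X), x.2, rfl⟩)).comp (⊤ : Subgroup _).subtype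
  · rintro ⟨y, hy⟩
    rw [← hTn] at hy
    obtain ⟨x, hx, rfl⟩ := hy
    exact ⟨⟨⟨x, hx⟩, trivial⟩, rfl⟩

end sections

end Quad

end Cfsg.Agent.Lib.Lead
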