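import Mathlib
import Cfsg.Agent.Lib.Helper2.SL2PSolv
import Cfsg.Agent.Lib.Helper3.SL23

set_option autoImplicit false

/-!
Finite solvable groups are `p`-solvable; solvable groups have no section `SL₂(p)` for `p ≥ 5`, and
groups with abelian Sylow `2`-subgroups have no section `SL₂(3)`.
-/

namespace Cfsg.Agent.Lib.Lead

namespace SolvPSolv

universe u

open Cfsg
open scoped commutatorElement

/-- extension: `N` normal of order a power of `p` or prime to `p`, `G/N` `p`-solvable -/
theorem isPSolvable_of_quotient {G : Type u} [Group G] [Finite G] {p : ℕ} [Fact p.Prime]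
    (N : Subgroup G) [hN : N.Normal]
    (hNc : (∃ m : ℕ, Nat.card N = p ^ m) ∨ (Nat.card N).Coprime p)
    (hq : IsPSolvable p (G ⧸ N)) : IsPSolvable p G := by
  obtain ⟨n, H, h0, hn, hmono, hnormal, hfac⟩ := hq
  set f := QuotientGroup.mk' N with hf
  have hfs : Function.Surjective f := QuotientGroup.mk'_surjective N
  refine ⟨n + 1, Fin.cons ⊥ (fun i => (H i).comap f), ?_, ?_, ?_, ?_, ?_⟩
  · rfl
  · have : Fin.last (n + 1) = (Fin.last n).succ := rfl
    rw [this, Fin.cons_succ, hn, Subgroup.comap_top]
  · intro i j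
    refine Fin.cases ?_ (fun i' => ?_) i
    · intro _
      simp only [Fin.cons_zero]; exact bot_le
    · refine Fin.cases ?_ (fun j' => ?_) j
      · intro hij
        exact absurd hij (not_le.mpr (Fin.succ_pos i'))
      · intro hij
        simp only [Fin.cons_succ]
        exact Subgroup.comap_mono (hmono (Fin.succ_le_succ_iff.mp hij))
  · intro i
    refine Fin.cases ?_ (fun i' => ?_) i
    · simp only [Fin.cons_zero]; infer_instance
    · simp only [Fin.cons_succ]
      exact (hnormal i').comap f
  · intro i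
    refine Fin.cases ?_ (fun i' => ?_) i
    · have h1 : (Fin.cons ⊥ (fun i => (H i).comap f) : Fin (n + 2) → Subgroup G)
          (Fin.castSucc (0 : Fin (n + 1))) = ⊥ := rfl
      have h2 : (Fin.cons ⊥ (fun i => (H i).comap f) : Fin (n + 2) → Subgroup G)
          (Fin.succ (0 : Fin (n + 1))) = N := by
        rw [Fin.cons_succ, h0, hf]
        ext x
        simp
      rw [h1, h2, Subgroup.relIndex_bot_left]
      exact hNc
    · have h1 : (Fin.cons ⊥ (fun i => (H i).comap f) : Fin (n + 2) → Subgroup G)
          (Fin.castSucc i'.succ) = (H i'.castSucc).comap f := by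
        have : Fin.castSucc i'.succ = (Fin.castSucc i').succ := rfl
        rw [this, Fin.cons_succ]
      have h2 : (Fin.cons ⊥ (fun i => (H i).comap f) : Fin (n + 2) → Subgroup G)
          (Fin.succ i'.succ) = (H i'.succ).comap f := by
        rw [Fin.cons_succ]
      rw [h1, h2, Subgroup.relIndex_comap, Subgroup.map_comap_eq_self_of_surjective hfs]
      exact hfac i'

/-- a nontrivial finite solvable group has a nontrivial normal subgroup of prime-power order -/
theorem exists_normal_prime_power {G : Type u} [Group G] [Finite G] [hs : Group.IsSolvable G]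
    [Nontrivial G] :
    ∃ (N : Subgroup G) (q : ℕ), N.Normal ∧ N ≠ ⊥ ∧ q.Prime ∧ ∀ x ∈ N, x ^ q = 1 := by
  classical
  obtain ⟨n, hn⟩ := hs.solvable
  have hex : ∃ k, derivedSeries G k = ⊥ := ⟨n, hn⟩
  set k := Nat.find hex with hk
  have hk0 : k ≠ 0 := by
    intro h0
    have := Nat.find_spec hex
    rw [← hk, h0, derivedSeries_zero] at this
    exact top_ne_bot this
  obtain ⟨j, hj⟩ := Nat.exists_eq_succ_of_ne_zero hk0
  have hA1 : derivedSeries G j ≠ ⊥ := by
    intro h
    have := Nat.find_min' hex h
    omega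
  have hA2 : derivedSeries G (j + 1) = ⊥ := by
    have := Nat.find_spec hex
    rwa [← hk, hj] at this
  set A := derivedSeries G j with hA
  have hAn : A.Normal := derivedSeries_normal G j
  have hAc : ∀ a ∈ A, ∀ b ∈ A, a * b = b * a := by
    intro a ha b hb
    have h1 : ⁅a, b⁆ ∈ derivedSeries G (j + 1) := by
      rw [derivedSeries_succ]
      exact Subgroup.commutator_mem_commutator ha hb
    rw [hA2, Subgroup.mem_bot, commutatorElement_eq_one_iff_mul_comm] at h1
    exact h1
  have hAnt : Nontrivial A := (Subgroup.nontrivial_iff_ne_bot A).mpr hA1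
  have hcard : 1 < Nat.card A := Finite.one_lt_card
  obtain ⟨q, hq, hqd⟩ := Nat.exists_prime_and_dvd (by omega : Nat.card A ≠ 1)
  haveI : Fact q.Prime := ⟨hq⟩
  obtain ⟨a, ha⟩ := exists_prime_orderOf_dvd_card' q hqd
  let N : Subgroup G :=
    { carrier := {x | x ∈ A ∧ x ^ q = 1}
      one_mem' := ⟨A.one_mem, one_pow q⟩
      mul_mem' := by
        rintro x y ⟨hx, hxq⟩ ⟨hy, hyq⟩
        refine ⟨A.mul_mem hx hy, ?_⟩
        have : Commute x y := hAc x hx y hy
        rw [this.mul_pow, hxq, hyq, one_mul]
      inv_mem' := by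
        rintro x ⟨hx, hxq⟩
        exact ⟨A.inv_mem hx, by rw [inv_pow, hxq, inv_one]⟩ }
  refine ⟨N, q, ⟨?_⟩, ?_, hq, fun x hx => hx.2⟩
  · rintro x ⟨hx, hxq⟩ g
    refine ⟨hAn.conj_mem x hx g, ?_⟩
    rw [conj_pow, hxq, mul_one, mul_inv_cancel]
  · intro hbot
    have haN : (a : G) ∈ N := by
      refine ⟨a.2, ?_⟩
      have h1 : a ^ q = 1 := by rw [← ha]; exact pow_orderOf_eq_one a
      have := congrArg Subtype.val h1
      simpa using this
    rw [hbot, Subgroup.mem_bot] at haN
    have h2 : a = 1 := Subtype.ext haN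
    rw [h2, orderOf_one] at ha
    exact hq.one_lt.ne ha

theorem isPSolvable_of_isSolvable (p : ℕ) [Fact p.Prime] :
    ∀ (n : ℕ) (G : Type u) [Group G] [Finite G] [Group.IsSolvable G], Nat.card G = n → IsPSolvable p G := by
  intro n
  induction n using Nat.strong_induction_on with
  | _ n ih =>
  intro G _ _ _ hn
  by_cases hnt : Nontrivial G
  · obtain ⟨N, q, hNn, hN1, hq, hNq⟩ := exists_normal_prime_power (G := G)
    haveI := hNn
    haveI : Fact q.Prime := ⟨hq⟩
    have hNp : IsPGroup q N := by
      intro x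
      refine ⟨1, ?_⟩
      apply Subtype.ext
      rw [pow_one, Subgroup.coe_pow, Subgroup.coe_one]
      exact hNq x x.2
    have hlt : Nat.card (G ⧸ N) < n := by
      rw [← hn, ← Subgroup.index_eq_card, ← Subgroup.card_mul_index N]
      have hNc : 1 < Nat.card N := by
        haveI : Nontrivial N := (Subgroup.nontrivial_iff_ne_bot N).mpr hN1
        exact Finite.one_lt_card
      have hpos : 0 < N.index := Nat.pos_of_ne_zero Subgroup.index_ne_zero_of_finite
      nlinarith
    have hq' := ih _ hlt (G ⧸ N) rfl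
    apply isPSolvable_of_quotient N _ hq'
    obtain ⟨m, hm⟩ := IsPGroup.iff_card.mp hNp
    by_cases hqp : q = p
    · left; exact ⟨m, by rw [hm, hqp]⟩
    · right
      rw [hm]
      exact Nat.Coprime.pow_left m ((Nat.coprime_primes hq Fact.out).mpr hqp)
  · rw [not_nontrivial_iff_subsingleton] at hnt
    refine ⟨0, fun _ => ⊥, rfl, ?_, fun _ _ _ => le_rfl, fun _ => inferInstance, fun i => i.elim0⟩
    exact Subsingleton.elim _ _

theorem isPSolvable_of_isSolvable' (p : ℕ) [Fact p.Prime] (G : Type u) [Group G] [Finite G]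
    [Group.IsSolvable G] : IsPSolvable p G :=
  isPSolvable_of_isSolvable p _ G rfl

end SolvPSolv

end Cfsg.Agent.Lib.Lead
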