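import Mathlib
import Cfsg.Agent.Lib.Lead.FrobNPC5

set_option autoImplicit false
open Pointwise

namespace Cfsg.Agent.Lib.Lead

universe u

section
variable {G : Type u} [Group G] [Finite G]

/-- a Hall subgroup has a normal complement as soon as, for every prime `p` dividing its order,
there is a normal subgroup of index the `p`-part meeting `H` in a `p'`-group -/
theorem hall_normal_complement_of_key (H : Subgroup G)
    (key : ∀ p ∈ (Nat.card H).primeFactors, ∃ N : Subgroup G, N.Normal ∧
      N.index = p ^ (Nat.card H).factorization p ∧ ¬ p ∣ Nat.card (N ⊓ H : Subgroup G)) :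
    ∃ N : Subgroup G, N.Normal ∧ N.IsComplement' H := by
  classical
  have hH0 : Nat.card H ≠ 0 := Nat.card_pos.ne'
  choose N hN using key
  let f : (Nat.card H).primeFactors → Subgroup G := fun p => N p.1 p.2
  refine ⟨⨅ p, f p, ?_, ?_⟩
  · haveI : ∀ p, (f p).Normal := fun p => (hN p.1 p.2).1
    exact Subgroup.normal_iInf_normal inferInstance
  · have hdisj : Disjoint (⨅ p, f p) H := by
      rw [Subgroup.disjoint_def]
      intro x hxN hxH
      rw [← orderOf_eq_one_iff, Nat.eq_one_iff_not_exists_prime_dvd]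
      intro q hq hqx
      have hqH : q ∣ Nat.card H := hqx.trans (Subgroup.orderOf_dvd_natCard H hxH)
      have hqm : q ∈ (Nat.card H).primeFactors := Nat.mem_primeFactors.mpr ⟨hq, hqH, hH0⟩
      have h1 : x ∈ (f ⟨q, hqm⟩ ⊓ H : Subgroup G) :=
        ⟨(Subgroup.mem_iInf.mp hxN) ⟨q, hqm⟩, hxH⟩
      exact (hN q hqm).2.2 (hqx.trans (Subgroup.orderOf_dvd_natCard _ h1))
    apply Subgroup.isComplement'_of_card_mul_and_disjoint _ hdisj
    have h1 : (⨅ p, f p).index ≤ Nat.card H := by
      refine (Subgroup.index_iInf_le f).trans (le_of_eq ?_)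
      have : ∀ p : (Nat.card H).primeFactors, (f p).index = (p : ℕ) ^ (Nat.card H).factorization p :=
        fun p => (hN p.1 p.2).2.1
      simp only [this]
      exact (Nat.prod_primeFactors_coe_pow_factorization hH0).symm
    have h2 := card_mul_card_le (⨅ p, f p) H
    rw [hdisj.eq_bot, Subgroup.card_bot, mul_one] at h2
    have h3 := (⨅ p, f p).card_mul_index
    apply le_antisymm h2
    calc Nat.card G = Nat.card ↥(⨅ p, f p) * (⨅ p, f p).index := h3.symm
      _ ≤ Nat.card ↥(⨅ p, f p) * Nat.card H := Nat.mul_le_mul_left _ h1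

end

section
variable {H : Type u} [Group H] [Finite H]

/-- in a finite nilpotent group, `p'`-elements normalising a `p`-subgroup centralise it -/
theorem plocalCentral_of_isNilpotent [Group.IsNilpotent H] (p : ℕ) [hp : Fact p.Prime] :
    PLocalCentral p H := by
  intro D hD g hg hcop
  classical
  have hle : Subgroup.zpowers g ≤ Subgroup.centralizer (D : Set H) := by
    apply Cfsg.Agent.Lib.Helper3.Gen.le_of_forall_sylow_le
    intro q hq
    obtain ⟨S⟩ : Nonempty (Sylow q (Subgroup.zpowers g)) := inferInstance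
    refine ⟨S, ?_⟩
    by_cases hqp : q = p
    · subst hqp
      have h1 : Nat.card (S : Subgroup (Subgroup.zpowers g)) ∣ orderOf g := by
        rw [← Nat.card_zpowers]; exact Subgroup.card_subgroup_dvd_card _
      obtain ⟨k, hk⟩ := IsPGroup.iff_card.mp S.2
      have h2 : Nat.card (S : Subgroup (Subgroup.zpowers g)) = 1 := by
        have h3 : (Nat.card (S : Subgroup (Subgroup.zpowers g))).Coprime q :=
          Nat.Coprime.coprime_dvd_left h1 hcop
        rw [hk] at h3 ⊢
        rcases Nat.eq_zero_or_pos k with h0 | h0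
        · rw [h0, pow_zero]
        · exfalso
          have h4 : q ∣ q ^ k := dvd_pow_self q h0.ne'
          exact hq.out.one_lt.ne' (Nat.eq_one_of_dvd_coprimes h3 h4 dvd_rfl)
      rw [Subgroup.card_eq_one.mp h2, Subgroup.map_bot]
      exact bot_le
    · have hS' : IsPGroup q ((S : Subgroup (Subgroup.zpowers g)).map (Subgroup.zpowers g).subtype) :=
        S.2.map _
      obtain ⟨Q, hQ⟩ := hS'.exists_le_sylow
      obtain ⟨P, hP⟩ := hD.exists_le_sylow
      have hdisj : Disjoint (P : Subgroup H) (Q : Subgroup H) :=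
        IsPGroup.disjoint_of_ne p q (Ne.symm hqp) _ _ P.2 Q.2
      intro s hs
      rw [Subgroup.mem_centralizer_iff]
      intro d hd
      exact (Subgroup.commute_of_normal_of_disjoint _ _ inferInstance inferInstance hdisj d s
        (hP hd) (hQ hs)).eq
  exact hle (Subgroup.mem_zpowers g)

end

section
variable {G : Type u} [Group G] [Finite G]

/-- a nilpotent Hall subgroup in which `G`-conjugate elements are already conjugate has a
normal complement -/
theorem nilpotent_hall_normal_complement (H : Subgroup G) (hH : Group.IsNilpotent H)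
    (hHall : Nat.Coprime (Nat.card H) H.index)
    (hyp : ∀ x ∈ H, ∀ y ∈ H, (∃ g : G, g * x * g⁻¹ = y) → ∃ h ∈ H, h * x * h⁻¹ = y) :
    ∃ N : Subgroup G, N.Normal ∧ N.IsComplement' H := by
  classical
  apply hall_normal_complement_of_key H
  intro p hp
  have : Fact p.Prime := ⟨Nat.prime_of_mem_primeFactors hp⟩
  have hpH : p ∣ Nat.card H := Nat.dvd_of_mem_primeFactors hp
  obtain ⟨P, hPH⟩ := exists_sylow_le_of_hall H hHall p hpH
  have hctlH : ControlsOwnFusion ((P.subtype hPH : Sylow p H) : Subgroup H) :=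
    (plocalCentral_of_isNilpotent p).control (P.subtype hPH)
  have hctl : ControlsOwnFusion (P : Subgroup G) := by
    intro x hx g hgx
    obtain ⟨h, hh, hhx⟩ := hyp x (hPH hx) (g * x * g⁻¹) (hPH hgx) ⟨g, rfl⟩
    have hx' : (⟨x, hPH hx⟩ : H) ∈ ((P.subtype hPH : Sylow p H) : Subgroup H) := by
      rw [Sylow.coe_subtype, Subgroup.mem_subgroupOf]; exact hx
    have hhx' : (⟨h, hh⟩ : H) * ⟨x, hPH hx⟩ * (⟨h, hh⟩ : H)⁻¹ ∈
        ((P.subtype hPH : Sylow p H) : Subgroup H) := by
      rw [Sylow.coe_subtype, Subgroup.mem_subgroupOf]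
      show h * x * h⁻¹ ∈ (P : Subgroup G)
      rw [hhx]; exact hgx
    obtain ⟨u, hu, hux⟩ := hctlH _ hx' _ hhx'
    rw [Sylow.coe_subtype, Subgroup.mem_subgroupOf] at hu
    refine ⟨u, hu, ?_⟩
    have := congrArg Subtype.val hux
    rw [← hhx]
    simpa using this
  obtain ⟨K, hKn, hKc⟩ := exists_normal_complement_of_control (Nat.card G) G rfl P hctl
  refine ⟨K, hKn, ?_, ?_⟩
  · rw [hKc.symm.index_eq_card, P.card_eq_multiplicity,
      factorization_card_of_hall H hHall p (Nat.prime_of_mem_primeFactors hp) hpH]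
  · intro hdvd
    have h1 : Nat.card (K ⊓ H : Subgroup G) ∣ Nat.card K := Subgroup.card_dvd_of_le inf_le_left
    have h2 := card_coprime_of_isComplement' P K hKc
    have h3 : p ∣ Nat.card K := hdvd.trans h1
    exact (Nat.Prime.coprime_iff_not_dvd (Nat.prime_of_mem_primeFactors hp)).mp h2.symm h3

end

end Cfsg.Agent.Lib.Lead
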