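import Mathlib
import Cfsg.Agent.Lib.Lead.NilpHallCompl

set_option autoImplicit false
open Pointwise

namespace Cfsg.Agent.Lib.Lead

section
variable {G : Type*} [Group G] [Finite G]

/-- A Frobenius complement contains no Frobenius subgroup. -/
theorem FrobData.false_of_frob_subgroup {H K : Subgroup G} (h : FrobData H K) (A : Subgroup G)
    (hAH : A ≤ H) (D : Subgroup A) (hD : Cfsg.IsFrobeniusComplement D) : False := by
  classical
  obtain ⟨W, hWne, hWK, hHW, hWc⟩ := h.exists_invariant_abelian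
  have hAW : A ≤ Subgroup.normalizer (W : Set G) := hAH.trans hHW
  open scoped IsMulCommutative in
  have key : ∀ w : W, w ^ D.index = 1 := by
    intro w
    refine frob_norm_pow (conjAutHom W A hAW) ?_ D hD w
    intro x hx v hv
    have h1 : (x : G) * v * (x : G)⁻¹ = v := congrArg Subtype.val hv
    have h2 : (x : G) * v = v * x := by
      have := congrArg (· * (x : G)) h1
      simpa using this
    have hx1 : (x : G) ≠ 1 := fun h0 => hx (Subtype.ext h0)
    exact Subtype.ext (h.fpf (hAH x.2) hx1 (hWK v.2) h2)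
  apply hWne
  rw [Subgroup.eq_bot_iff_forall]
  intro w hw
  have h1 := key ⟨w, hw⟩
  have h2 : orderOf (⟨w, hw⟩ : W) ∣ D.index := orderOf_dvd_of_pow_eq_one h1
  have h3 : orderOf (⟨w, hw⟩ : W) ∣ Nat.card K :=
    (orderOf_dvd_natCard _).trans (Subgroup.card_dvd_of_le hWK)
  have h4 : D.index ∣ Nat.card H :=
    (Subgroup.index_dvd_card D).trans (Subgroup.card_dvd_of_le hAH)
  have h5 : orderOf (⟨w, hw⟩ : W) = 1 :=
    Nat.eq_one_of_dvd_coprimes h.coprime h3 (h2.trans h4)
  rw [orderOf_eq_one_iff] at h5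
  exact congrArg Subtype.val h5

/-- An element of prime order `q` of a Frobenius complement has nontrivial centraliser in every
nontrivial invariant `q'`-subgroup of the complement. -/
theorem FrobData.exists_fixed_of_prime {H K : Subgroup G} (h : FrobData H K) (c : G) (hcH : c ∈ H)
    (q : ℕ) (hq : q.Prime) (hc : orderOf c = q) (M : Subgroup G) (hMH : M ≤ H) (hM1 : M ≠ ⊥)
    (hcM : c ∈ Subgroup.normalizer (M : Set G)) (hqM : ¬ q ∣ Nat.card M) :
    ∃ m ∈ M, m ≠ 1 ∧ c * m = m * c := by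
  classical
  by_contra hcon
  push Not at hcon
  have : Fact q.Prime := ⟨hq⟩
  set Q := Subgroup.zpowers c with hQ
  have hQcard : Nat.card Q = q := by rw [Nat.card_zpowers, hc]
  have hQM : Q ≤ Subgroup.normalizer (M : Set G) := (Subgroup.zpowers_le).mpr hcM
  have hcop : (Nat.card Q).Coprime (Nat.card M) := by
    rw [hQcard]; exact (Nat.Prime.coprime_iff_not_dvd hq).mpr hqM
  have hdisj : Q ⊓ M = ⊥ := (Subgroup.disjoint_of_coprime_natCard hcop).eq_bot
  set A := Q ⊔ M with hA
  have hQA : Q ≤ A := le_sup_left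
  have hMA : M ≤ A := le_sup_right
  have hAH : A ≤ H := sup_le ((Subgroup.zpowers_le).mpr hcH) hMH
  have hc1 : c ≠ 1 := by
    intro h0
    rw [h0, orderOf_one] at hc
    exact hq.one_lt.ne hc
  -- every element of A is a product
  have hAmem : ∀ y ∈ A, ∃ u ∈ Q, ∃ m ∈ M, y = u * m := by
    intro y hy
    have h1 : (A : Set G) = (Q : Set G) * (M : Set G) := by
      rw [hA]
      apply coe_sup_of_mul_comm
      ext z
      constructor
      · rintro ⟨u, hu, m, hm, rfl⟩
        refine ⟨u * m * u⁻¹, ?_, u, hu, by group⟩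
        exact (Subgroup.mem_normalizer_iff.mp (hQM hu) m).mp hm
      · rintro ⟨m, hm, u, hu, rfl⟩
        refine ⟨u, hu, u⁻¹ * m * u, ?_, by group⟩
        have := (Subgroup.mem_normalizer_iff.mp (hQM (Q.inv_mem hu)) m).mp hm
        simpa using this
    have h2 : y ∈ (A : Set G) := hy
    rw [h1] at h2
    obtain ⟨u, hu, m, hm, rfl⟩ := h2
    exact ⟨u, hu, m, hm, rfl⟩
  refine h.false_of_frob_subgroup A hAH (Q.subgroupOf A) ⟨?_, ?_, ?_⟩
  · intro h0
    apply hc1
    have h1 : (⟨c, hQA (Subgroup.mem_zpowers c)⟩ : A) ∈ Q.subgroupOf A :=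
      Subgroup.mem_subgroupOf.mpr (Subgroup.mem_zpowers c)
    rw [h0, Subgroup.mem_bot] at h1
    exact congrArg Subtype.val h1
  · intro h0
    rw [Subgroup.subgroupOf_eq_top] at h0
    apply hM1
    rw [eq_bot_iff, ← hdisj]
    exact le_inf (hMA.trans h0) le_rfl
  · intro y hy
    rw [Subgroup.eq_bot_iff_forall]
    intro z hz
    by_contra hz1
    obtain ⟨hzQ, hzy⟩ := Subgroup.mem_inf.mp hz
    rw [Subgroup.mem_subgroupOf] at hzQ
    rw [mem_conj_smul_iff, Subgroup.mem_subgroupOf] at hzy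
    -- z generates Q
    have hz1' : (z : G) ≠ 1 := fun h0 => hz1 (Subtype.ext h0)
    have hzgen : Subgroup.zpowers (z : G) = Q := by
      apply Subgroup.eq_of_le_of_card_ge ((Subgroup.zpowers_le).mpr hzQ)
      rw [hQcard, Nat.card_zpowers]
      have h1 : orderOf (z : G) ∣ q := by
        rw [← hQcard]
        exact (Subgroup.orderOf_dvd_natCard Q hzQ)
      rcases (Nat.dvd_prime hq).mp h1 with h2 | h2
      · exact absurd (orderOf_eq_one_iff.mp h2) hz1'
      · exact h2.ge
    -- y⁻¹ c y ∈ Q hence ... decompose y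
    obtain ⟨u, hu, m, hm, hyum⟩ := hAmem (y : G) y.2
    have hmQ : ∀ v ∈ Q, m⁻¹ * v * m ∈ Q := by
      -- conjugation by y⁻¹ maps z into Q, so maps Q into Q
      intro v hv
      have h1 : ∀ v ∈ Q, (y : G)⁻¹ * v * (y : G) ∈ Q := by
        intro v hv
        rw [← hzgen] at hv
        obtain ⟨i, rfl⟩ := Subgroup.mem_zpowers_iff.mp hv
        have h2 : (y : G)⁻¹ * (z : G) ^ i * (y : G) = ((y : G)⁻¹ * (z : G) * (y : G)) ^ i := by
          have := map_zpow (MulAut.conj (y : G)⁻¹) (z : G) i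
          simpa [MulAut.conj_apply] using this
        rw [h2]
        have h3 : (y : G)⁻¹ * (z : G) * (y : G) ∈ Q := by
          have := hzy
          simpa using this
        exact Q.zpow_mem h3 i
      have h2 := h1 (u * v * u⁻¹) (Q.mul_mem (Q.mul_mem hu hv) (Q.inv_mem hu))
      rw [hyum] at h2
      have h3 : (u * m)⁻¹ * (u * v * u⁻¹) * (u * m) = m⁻¹ * v * m := by group
      rw [h3] at h2
      exact h2
    -- m commutes with c
    have hmc : c * m = m * c := by
      have h1 : m⁻¹ * c * m ∈ Q := hmQ c (Subgroup.mem_zpowers c)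
      have h2 : m⁻¹ * c * m * c⁻¹ ∈ M := by
        have h3 : c * m * c⁻¹ ∈ M := (Subgroup.mem_normalizer_iff.mp hcM m).mp hm
        have h4 : m⁻¹ * c * m * c⁻¹ = m⁻¹ * (c * m * c⁻¹) := by group
        rw [h4]
        exact M.mul_mem (M.inv_mem hm) h3
      have h5 : m⁻¹ * c * m * c⁻¹ ∈ Q ⊓ M :=
        Subgroup.mem_inf.mpr ⟨Q.mul_mem h1 (Q.inv_mem (Subgroup.mem_zpowers c)), h2⟩
      rw [hdisj, Subgroup.mem_bot] at h5
      have h6 : c * m = m * (m⁻¹ * c * m * c⁻¹) * c := by group
      rw [h6, h5, mul_one]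
    have hm1 : m = 1 := by
      by_contra hne
      exact hcon m hm hne hmc
    apply hy
    rw [Subgroup.mem_subgroupOf, hyum, hm1, mul_one]
    exact hu

end

end Cfsg.Agent.Lib.Lead
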