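import Mathlib
import Cfsg.Agent.Lib.Lead.FrobCenter1

set_option autoImplicit false
open Pointwise
open scoped IsMulCommutative

namespace Cfsg.Agent.Lib.Lead

section
variable {G : Type*} [Group G] [Finite G]

/-- An element of prime order `q` of a Frobenius complement centralises every abelian
`q'`-subgroup of the complement that it normalises. -/
theorem FrobData.prime_centralizes_abelian {H K : Subgroup G} (h : FrobData H K) (c : G)
    (hcH : c ∈ H) (q : ℕ) (hq : q.Prime) (hc : orderOf c = q) (N : Subgroup G) (hNH : N ≤ H)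
    [hNc : IsMulCommutative N] (hcN : c ∈ Subgroup.normalizer (N : Set G))
    (hqN : ¬ q ∣ Nat.card N) : ∀ n ∈ N, c * n = n * c := by
  classical
  set φ := conjHom N c hcN with hφ
  let θ : N →* N := φ / MonoidHom.id N
  have hθ : ∀ g, θ g = φ g / g := fun g => rfl
  have hcq : c ^ q = 1 := by rw [← hc]; exact pow_orderOf_eq_one c
  have hφq : ∀ b, φ^[q] b = b := by
    intro b
    apply Subtype.ext
    rw [iterate_conjHom_coe, hcq, one_mul, inv_one, mul_one]
  set M₁ : Subgroup G := θ.range.map N.subtype with hM₁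
  have hM₁N : M₁ ≤ N := Subgroup.map_subtype_le _
  have hfix : ∀ m ∈ M₁, c * m = m * c → m = 1 := by
    rintro _ ⟨m', ⟨g, rfl⟩, rfl⟩ hcm
    have h1 : φ (θ g) = θ g := by
      apply Subtype.ext
      rw [conjHom_coe]
      have : c * ((θ g : N) : G) = ((θ g : N) : G) * c := hcm
      rw [this, mul_inv_cancel_right]
    have h2 : ∀ i : ℕ, φ^[i] (θ g) = φ^[i + 1] g / φ^[i] g := by
      intro i
      rw [hθ, iterate_map_div, ← Function.iterate_succ_apply]
    have h3 : (θ g) ^ q = 1 := by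
      have h4 : ∏ i ∈ Finset.range q, φ^[i] (θ g) = (θ g) ^ q := by
        have : ∀ i, φ^[i] (θ g) = θ g := fun i => Function.iterate_fixed h1 i
        rw [Finset.prod_congr rfl (fun i _ => this i), Finset.prod_const, Finset.card_range]
      rw [← h4, Finset.prod_congr rfl (fun i _ => h2 i)]
      have h8 : ∏ i ∈ Finset.range q, φ^[i + 1] g / φ^[i] g = φ^[q] g / φ^[0] g :=
        Finset.prod_range_div (fun i => φ^[i] g) q
      rw [h8, hφq, Function.iterate_zero, id_eq, div_self']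
    have h5 : orderOf (θ g) ∣ q := orderOf_dvd_of_pow_eq_one h3
    have h6 : orderOf (θ g) ∣ Nat.card N := orderOf_dvd_natCard _
    have h7 : orderOf (θ g) = 1 :=
      Nat.eq_one_of_dvd_coprimes ((Nat.Prime.coprime_iff_not_dvd hq).mpr hqN) h5 h6
    rw [orderOf_eq_one_iff] at h7
    show ((θ g : N) : G) = 1
    rw [h7]; rfl
  have hcM₁ : c ∈ Subgroup.normalizer (M₁ : Set G) := by
    rw [mem_normalizer_iff_conj_smul]
    apply Subgroup.eq_of_le_of_card_ge
    · rintro y hy
      rw [mem_conj_smul_iff] at hy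
      obtain ⟨m', ⟨g, rfl⟩, hm'⟩ := hy
      have h1 : y = c * ((θ g : N) : G) * c⁻¹ := by
        have : ((θ g : N) : G) = c⁻¹ * y * c := hm'
        rw [this]; group
      have h2 : φ (θ g) = θ (φ g) := by
        rw [hθ, hθ, map_div]
      refine ⟨θ (φ g), ⟨φ g, rfl⟩, ?_⟩
      rw [← h2, h1]
      rfl
    · rw [card_conj_smul]
  have hqM₁ : ¬ q ∣ Nat.card M₁ := fun h0 => hqN (h0.trans (Subgroup.card_dvd_of_le hM₁N))
  have hM₁bot : M₁ = ⊥ := by
    by_contra hne
    obtain ⟨m, hm, hm1, hcm⟩ :=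
      h.exists_fixed_of_prime c hcH q hq hc M₁ (hM₁N.trans hNH) hne hcM₁ hqM₁
    exact hm1 (hfix m hm hcm)
  intro n hn
  have h1 : ((θ ⟨n, hn⟩ : N) : G) ∈ M₁ := ⟨θ ⟨n, hn⟩, ⟨⟨n, hn⟩, rfl⟩, rfl⟩
  rw [hM₁bot, Subgroup.mem_bot] at h1
  have h2 : θ ⟨n, hn⟩ = 1 := Subtype.ext h1
  rw [hθ, div_eq_one] at h2
  have h3 := congrArg Subtype.val h2
  rw [conjHom_coe] at h3
  have h4 : c * n * c⁻¹ = n := h3
  calc c * n = c * n * c⁻¹ * c := by group
    _ = n * c := by rw [h4]

end

end Cfsg.Agent.Lib.Lead
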