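import Mathlib
import Cfsg.Agent.Lib.Lead.FrobCenter2

set_option autoImplicit false
open Pointwise

namespace Cfsg.Agent.Lib.Lead

section
variable {G : Type*} [Group G] [Finite G]

/-- an involution of a Frobenius complement inverts the kernel -/
theorem FrobData.involution_inverts {H K : Subgroup G} (h : FrobData H K) (t : G) (htH : t ∈ H)
    (ht : orderOf t = 2) : ∀ k ∈ K, t * k * t⁻¹ = k⁻¹ := by
  classical
  have hKn := h.normal
  have ht1 : t ≠ 1 := by
    intro h0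
    rw [h0, orderOf_one] at ht
    omega
  have htt : t * t = 1 := by
    have := pow_orderOf_eq_one t
    rw [ht, sq] at this
    exact this
  have htinv : t⁻¹ = t := inv_eq_of_mul_eq_one_left htt
  let κ : K → K := fun k => ⟨(k : G)⁻¹ * (t * k * t⁻¹), K.mul_mem (K.inv_mem k.2) (hKn.conj_mem _ k.2 t)⟩
  have hκ : Function.Injective κ := by
    intro k k' hkk
    have h1 : (k : G)⁻¹ * (t * k * t⁻¹) = (k' : G)⁻¹ * (t * k' * t⁻¹) := congrArg Subtype.val hkk
    have h2 : t * ((k' : G) * (k : G)⁻¹) = ((k' : G) * (k : G)⁻¹) * t := by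
      have h3 : (k' : G) * (k : G)⁻¹ = t * k' * t⁻¹ * (t * k * t⁻¹)⁻¹ := by
        have : (k' : G) * ((k : G)⁻¹ * (t * k * t⁻¹)) = t * k' * t⁻¹ := by rw [h1]; group
        calc (k' : G) * (k : G)⁻¹ = (k' : G) * ((k : G)⁻¹ * (t * k * t⁻¹)) * (t * k * t⁻¹)⁻¹ := by group
          _ = _ := by rw [this]
      have h4 : t * k' * t⁻¹ * (t * k * t⁻¹)⁻¹ = t * ((k' : G) * (k : G)⁻¹) * t⁻¹ := by group
      rw [h4] at h3
      calc t * ((k' : G) * (k : G)⁻¹) = t * ((k' : G) * (k : G)⁻¹) * t⁻¹ * t := by group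
        _ = _ := by rw [← h3]
    have h5 := h.fpf htH ht1 (K.mul_mem k'.2 (K.inv_mem k.2)) h2
    apply Subtype.ext
    have : (k : G) = ((k' : G) * (k : G)⁻¹)⁻¹ * k' := by group
    rw [this, h5]; group
  have hsurj : Function.Surjective κ := Finite.injective_iff_surjective.mp hκ
  intro k hk
  obtain ⟨k₀, hk₀⟩ := hsurj ⟨k, hk⟩
  have h1 : (k₀ : G)⁻¹ * (t * k₀ * t⁻¹) = k := congrArg Subtype.val hk₀
  rw [← h1, htinv]
  have h2 : t * ((k₀ : G)⁻¹ * (t * ↑k₀ * t)) * t = t * (k₀ : G)⁻¹ * t * k₀ * (t * t) := by group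
  have h3 : ((k₀ : G)⁻¹ * (t * ↑k₀ * t))⁻¹ = t⁻¹ * (k₀ : G)⁻¹ * t⁻¹ * k₀ := by group
  rw [h2, h3, htt, mul_one, htinv]

/-- a Frobenius complement has at most one involution -/
theorem FrobData.involution_unique {H K : Subgroup G} (h : FrobData H K) (t t' : G)
    (htH : t ∈ H) (ht'H : t' ∈ H) (ht : orderOf t = 2) (ht' : orderOf t' = 2) : t = t' := by
  have h1 := h.involution_inverts t htH ht
  have h2 := h.involution_inverts t' ht'H ht'
  obtain ⟨k, hkK, hk1⟩ : ∃ k ∈ K, k ≠ 1 := by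
    by_contra hall
    push Not at hall
    exact h.ne_bot ((Subgroup.eq_bot_iff_forall K).mpr hall)
  have htt : t * t = 1 := by
    have := pow_orderOf_eq_one t
    rw [ht, sq] at this
    exact this
  by_contra hne
  have h3 : t * t' ≠ 1 := by
    intro h0
    apply hne
    have : t' = t⁻¹ := (eq_inv_of_mul_eq_one_right h0)
    rw [this, inv_eq_of_mul_eq_one_left htt]
  have h4 : t * t' * k = k * (t * t') := by
    have e1 := h2 k hkK
    have e2 := h1 k⁻¹ (K.inv_mem hkK)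
    rw [inv_inv] at e2
    have : t * t' * k * (t * t')⁻¹ = t * (t' * k * t'⁻¹) * t⁻¹ := by group
    have e3 : t * t' * k * (t * t')⁻¹ = k := by rw [this, e1, e2]
    calc t * t' * k = t * t' * k * (t * t')⁻¹ * (t * t') := by group
      _ = _ := by rw [e3]
  exact hk1 (h.fpf (H.mul_mem htH ht'H) h3 hkK h4)

end

end Cfsg.Agent.Lib.Lead
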