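import Mathlib
import Cfsg.Agent.Lib.Lead.FrobCenter3

set_option autoImplicit false
open Pointwise

namespace Cfsg.Agent.Lib.Lead

section
variable {G : Type*} [Group G] [Finite G]

/-- an odd order Frobenius complement is a Z-group -/
theorem FrobData.isZGroup_of_odd {H K : Subgroup G} (h : FrobData H K)
    (hodd : ¬ 2 ∣ Nat.card H) : IsZGroup H := by
  refine ⟨fun p hp P => ?_⟩
  have : Fact p.Prime := ⟨hp⟩
  rcases (h.uniqueOrderP_sylow P).main P.2 with h1 | ⟨hp2, n, ⟨e⟩⟩
  · exact h1
  · exfalso
    apply hodd
    have h2 : Nat.card P = 4 * 2 ^ n := by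
      rw [Nat.card_congr e.toEquiv, Nat.card_eq_fintype_card, QuaternionGroup.card]
    have h3 : 2 ∣ Nat.card P := by rw [h2]; exact Dvd.intro _ (by ring : 2 * (2 * 2 ^ n) = 4 * 2 ^ n)
    exact h3.trans (Subgroup.card_subgroup_dvd_card _)

/-- **A Frobenius complement has nontrivial centre.** -/
theorem FrobData.center_ne_bot {H K : Subgroup G} (h : FrobData H K) :
    Subgroup.center H ≠ ⊥ := by
  classical
  by_cases heven : 2 ∣ Nat.card H
  · -- the unique involution is central
    obtain ⟨t, ht⟩ := exists_prime_orderOf_dvd_card' (G := H) 2 heven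
    intro h0
    have ht1 : t ≠ 1 := by
      intro h1
      rw [h1, orderOf_one] at ht
      omega
    apply ht1
    have htc : t ∈ Subgroup.center H := by
      rw [Subgroup.mem_center_iff]
      intro x
      have h1 : orderOf ((x : G) * t * (x : G)⁻¹) = 2 := by
        rw [orderOf_conj', Subgroup.orderOf_coe, ht]
      have h2 := h.involution_unique (t : G) ((x : G) * t * (x : G)⁻¹) t.2
        (H.mul_mem (H.mul_mem x.2 t.2) (H.inv_mem x.2)) (by rw [Subgroup.orderOf_coe, ht]) h1
      apply Subtype.ext
      show (x : G) * t = t * x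
      calc (x : G) * t = (x : G) * t * (x : G)⁻¹ * x := by group
        _ = t * x := by rw [← h2]
    rw [h0, Subgroup.mem_bot] at htc
    exact htc
  · -- odd order: Z-group
    have hZ : IsZGroup H := h.isZGroup_of_odd heven
    have hnt : Nontrivial H := (Subgroup.nontrivial_iff_ne_bot H).mpr h.frob.1
    set N := commutator H with hN
    have hNcyc : IsCyclic N := IsZGroup.isCyclic_commutator H
    have hcop := IsZGroup.coprime_commutator_index H
    have hlt : N < ⊤ := IsZGroup.commutator_lt H
    obtain ⟨C, hC⟩ := Subgroup.exists_right_complement'_of_coprime hcop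
    have hC1 : C ≠ ⊥ := by
      intro h0
      rw [h0, Subgroup.isComplement'_bot_right] at hC
      exact hlt.ne hC
    have hCcomm : ∀ a b : C, a * b = b * a := by
      intro a b
      let e : H ⧸ N ≃* C := hC.symm.QuotientMulEquiv
      apply e.symm.injective
      rw [map_mul, map_mul]
      have hab : ∀ u v : Abelianization H, u * v = v * u := fun u v => mul_comm u v
      exact hab (e.symm a) (e.symm b)
    have hCcard1 : Nat.card C ≠ 1 := fun h0 => hC1 (Subgroup.card_eq_one.mp h0)
    obtain ⟨q, hq, hqC⟩ := Nat.exists_prime_and_dvd hCcard1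
    have : Fact q.Prime := ⟨hq⟩
    obtain ⟨c₀, hc₀⟩ := exists_prime_orderOf_dvd_card' (G := C) q hqC
    have hqN : ¬ q ∣ Nat.card N := by
      intro h0
      have h1 : Nat.card C = N.index := hC.symm.index_eq_card.symm
      rw [h1] at hqC
      exact (Nat.Prime.coprime_iff_not_dvd hq).mp
        (Nat.Coprime.coprime_dvd_left hqC hcop.symm) h0
    -- transport to G
    set N' : Subgroup G := N.map H.subtype with hN'
    have hN'H : N' ≤ H := Subgroup.map_subtype_le _
    have hNc : IsMulCommutative N := ⟨⟨fun a b => (IsCyclic.commGroup (α := N)).mul_comm a b⟩⟩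
    have hN'c : IsMulCommutative N' := Subgroup.map_isMulCommutative _ _
    have hord : orderOf (((c₀ : H) : G)) = q := by
      rw [Subgroup.orderOf_coe, Subgroup.orderOf_coe, hc₀]
    have hnorm : ((c₀ : H) : G) ∈ Subgroup.normalizer (N' : Set G) := by
      have hNn : N.Normal := by rw [hN]; infer_instance
      rw [mem_normalizer_iff_conj_smul]
      apply Subgroup.eq_of_le_of_card_ge
      · intro y hy
        rw [mem_conj_smul_iff] at hy
        obtain ⟨n, hn, hny⟩ := hy
        have h1 := hNn.conj_mem n hn (c₀ : H)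
        refine ⟨(c₀ : H) * n * (c₀ : H)⁻¹, h1, ?_⟩
        show ((c₀ : H) : G) * (n : G) * ((c₀ : H) : G)⁻¹ = y
        have : (n : G) = ((c₀ : H) : G)⁻¹ * y * ((c₀ : H) : G) := hny
        rw [this]; group
      · rw [card_conj_smul]
    have hqN' : ¬ q ∣ Nat.card N' := by rw [hN', card_map_subtype]; exact hqN
    have hcent := h.prime_centralizes_abelian ((c₀ : H) : G) (c₀ : H).2 q hq hord N' hN'H hnorm hqN'
    -- `c₀` is central
    intro h0
    have hc₀1 : (c₀ : H) ≠ 1 := by
      intro h1
      have h2 : c₀ = 1 := Subtype.ext h1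
      rw [h2, orderOf_one] at hc₀
      exact hq.one_lt.ne hc₀
    apply hc₀1
    have hcen : (c₀ : H) ∈ Subgroup.center H := by
      rw [Subgroup.mem_center_iff]
      intro x
      have hx : x ∈ N ⊔ C := by rw [hC.sup_eq_top]; trivial
      have hNn : N.Normal := by rw [hN]; infer_instance
      obtain ⟨n, hn, c, hcC, rfl⟩ := Subgroup.mem_sup_of_normal_left.mp hx
      have e1 : (c₀ : H) * n = n * (c₀ : H) := by
        apply Subtype.ext
        exact hcent (n : G) ⟨n, hn, rfl⟩
      have e2 : (c₀ : H) * c = c * (c₀ : H) := by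
        have := hCcomm c₀ ⟨c, hcC⟩
        exact congrArg Subtype.val this
      calc n * c * (c₀ : H) = n * (c * (c₀ : H)) := by group
        _ = n * ((c₀ : H) * c) := by rw [e2]
        _ = (n * (c₀ : H)) * c := by group
        _ = ((c₀ : H) * n) * c := by rw [e1]
        _ = (c₀ : H) * (n * c) := by group
    rw [h0, Subgroup.mem_bot] at hcen
    exact hcen

end

end Cfsg.Agent.Lib.Lead
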