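import Mathlib
import Cfsg.Agent.Lib.Lead.FrobCenter4

set_option autoImplicit false
open Pointwise

namespace Cfsg.Agent.Lib.Lead

universe u

section
variable {M : Type u} [Group M] [Finite M] {p : ℕ} [hp : Fact p.Prime]

/-- a normal `p`-subgroup of index prime to `p` is the unique Sylow `p`-subgroup -/
theorem sylow_eq_of_normal_coprime_index (D : Subgroup M) [hDn : D.Normal] (hD : IsPGroup p D)
    (hidx : Nat.Coprime D.index p) (S : Sylow p M) : (S : Subgroup M) = D := by
  have hnd : ¬ p ∣ D.index := (Nat.Prime.coprime_iff_not_dvd hp.out).mp hidx.symm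
  have hT : ((hD.toSylow hnd : Sylow p M) : Subgroup M) = D := IsPGroup.toSylow_coe hD hnd
  have hTn : ((hD.toSylow hnd : Sylow p M) : Subgroup M).Normal := by rw [hT]; exact hDn
  haveI := Sylow.unique_of_normal (hD.toSylow hnd) hTn
  rw [← hT, Subsingleton.elim S (hD.toSylow hnd)]

/-- A finite group with a normal `p`-subgroup `D` of index prime to `p` and abelian quotient, in
which `p'`-elements centralise the `p`-subgroups they normalise, is nilpotent. -/
theorem isNilpotent_of_plocalCentral_of_abelian_quot (D : Subgroup M) [hDn : D.Normal]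
    (hD : IsPGroup p D) (hidx : Nat.Coprime D.index p)
    (hab : ∀ a b : M, a * b * a⁻¹ * b⁻¹ ∈ D) (h : PLocalCentral p M) :
    Group.IsNilpotent M := by
  refine (Group.isNilpotent_of_finite_tfae.out 0 3 rfl rfl).mpr ?_
  intro q hq S
  by_cases hqp : q = p
  · subst hqp
    rw [sylow_eq_of_normal_coprime_index D hD hidx S]
    exact hDn
  · have hqp' : Nat.Coprime q p := (Nat.coprime_primes hq.out hp.out).mpr hqp
    refine ⟨fun s hs m => ?_⟩
    have hc : m * s * m⁻¹ * s⁻¹ ∈ D := hab m s
    obtain ⟨k, hk⟩ := (IsPGroup.iff_orderOf.mp S.2) ⟨s, hs⟩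
    have hk' : orderOf s = q ^ k := by rw [← hk]; exact (Subgroup.orderOf_coe (⟨s, hs⟩ : (S : Subgroup M)))
    have hscop : Nat.Coprime (orderOf s) p := by rw [hk']; exact Nat.Coprime.pow_left k hqp'
    have hsN : s ∈ Subgroup.normalizer (D : Set M) := by
      rw [Subgroup.normalizer_eq_top]; exact Subgroup.mem_top s
    have hsC := h D hD s hsN hscop
    rw [Subgroup.mem_centralizer_iff] at hsC
    set c := m * s * m⁻¹ * s⁻¹ with hcdef
    have hcomm : Commute c s := hsC c hc
    have h1 : m * s * m⁻¹ = c * s := by rw [hcdef]; group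
    have h2 : (m * s * m⁻¹) ^ (q ^ k) = 1 := by
      rw [conj_pow, ← hk', pow_orderOf_eq_one]; group
    rw [h1, hcomm.mul_pow, ← hk', pow_orderOf_eq_one, mul_one] at h2
    have h3 : orderOf c ∣ orderOf s := orderOf_dvd_of_pow_eq_one h2
    obtain ⟨j, hj⟩ := (IsPGroup.iff_orderOf.mp hD) ⟨c, hc⟩
    have hj' : orderOf c = p ^ j := by rw [← hj]; exact (Subgroup.orderOf_coe (⟨c, hc⟩ : D))
    have h4 : orderOf c = 1 := by
      have h5 : Nat.Coprime (orderOf c) (orderOf c) := by
        apply Nat.Coprime.coprime_dvd_left h3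
        rw [hj']
        exact Nat.Coprime.pow_right j hscop
      exact (Nat.coprime_self _).mp h5
    have h6 : c = 1 := orderOf_eq_one_iff.mp h4
    rw [h1, h6, one_mul]
    exact hs

/-- structure of a group that is minimal subject to failing `PLocalCentral` -/
theorem exists_normal_sylow_of_minimal_non_plocal
    (h1 : ¬ PLocalCentral p M) (h2 : ∀ H : Subgroup M, H ≠ ⊤ → PLocalCentral p H) :
    ∃ D : Subgroup M, D.Normal ∧ IsPGroup p D ∧ Nat.Coprime D.index p ∧
      ∀ a b : M, a * b * a⁻¹ * b⁻¹ ∈ D := by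
  unfold PLocalCentral at h1
  push_neg at h1
  obtain ⟨D, hD, g, hg, hcop, hgC⟩ := h1
  have htop : D ⊔ Subgroup.zpowers g = ⊤ := by
    by_contra hne
    have h3 := h2 _ hne
    set L := D ⊔ Subgroup.zpowers g with hL
    have hgL : g ∈ L := (le_sup_right : Subgroup.zpowers g ≤ L) (Subgroup.mem_zpowers g)
    have hDL : D ≤ L := le_sup_left
    have hgn : (⟨g, hgL⟩ : L) ∈ Subgroup.normalizer ((D.subgroupOf L : Subgroup L) : Set L) := by
      rw [Subgroup.mem_normalizer_iff] at hg ⊢
      intro y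
      rw [Subgroup.mem_subgroupOf, Subgroup.mem_subgroupOf]
      exact hg (y : M)
    have hord : orderOf (⟨g, hgL⟩ : L) = orderOf g := (Subgroup.orderOf_coe (⟨g, hgL⟩ : L)).symm
    have h4 := h3 (D.subgroupOf L) (hD.comap_subtype) ⟨g, hgL⟩ hgn (by rw [hord]; exact hcop)
    apply hgC
    rw [Subgroup.mem_centralizer_iff] at h4 ⊢
    intro d hd
    have h5 := h4 ⟨d, hDL hd⟩ (Subgroup.mem_subgroupOf.mpr hd)
    exact congrArg Subtype.val h5
  have hDn : D.Normal := by
    rw [← Subgroup.normalizer_eq_top_iff, eq_top_iff, ← htop]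
    exact sup_le Subgroup.le_normalizer ((Subgroup.zpowers_le).mpr hg)
  refine ⟨D, hDn, hD, ?_, ?_⟩
  · -- index
    have hφ : (⊤ : Subgroup (M ⧸ D)) = Subgroup.zpowers (QuotientGroup.mk' D g) := by
      have h6 : Subgroup.map (QuotientGroup.mk' D) (D ⊔ Subgroup.zpowers g) = ⊤ := by
        rw [htop, ← MonoidHom.range_eq_map]
        exact MonoidHom.range_eq_top.mpr (QuotientGroup.mk'_surjective D)
      rw [Subgroup.map_sup, QuotientGroup.map_mk'_self, bot_sup_eq, MonoidHom.map_zpowers] at h6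
      exact h6.symm
    have h7 : D.index = orderOf (QuotientGroup.mk' D g) := by
      rw [Subgroup.index_eq_card, ← Nat.card_zpowers, ← hφ, Subgroup.card_top]
    rw [h7]
    exact Nat.Coprime.coprime_dvd_left (orderOf_map_dvd _ g) hcop
  · intro a b
    have hφ : (⊤ : Subgroup (M ⧸ D)) = Subgroup.zpowers (QuotientGroup.mk' D g) := by
      have h6 : Subgroup.map (QuotientGroup.mk' D) (D ⊔ Subgroup.zpowers g) = ⊤ := by
        rw [htop, ← MonoidHom.range_eq_map]
        exact MonoidHom.range_eq_top.mpr (QuotientGroup.mk'_surjective D)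
      rw [Subgroup.map_sup, QuotientGroup.map_mk'_self, bot_sup_eq, MonoidHom.map_zpowers] at h6
      exact h6.symm
    have ha : QuotientGroup.mk' D a ∈ Subgroup.zpowers (QuotientGroup.mk' D g) := by
      rw [← hφ]; exact Subgroup.mem_top _
    have hb : QuotientGroup.mk' D b ∈ Subgroup.zpowers (QuotientGroup.mk' D g) := by
      rw [← hφ]; exact Subgroup.mem_top _
    obtain ⟨i, hi⟩ := Subgroup.mem_zpowers_iff.mp ha
    obtain ⟨j, hj⟩ := Subgroup.mem_zpowers_iff.mp hb
    have h8 : QuotientGroup.mk' D (a * b * a⁻¹ * b⁻¹) = 1 := by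
      rw [map_mul, map_mul, map_mul, map_inv, map_inv, ← hi, ← hj]
      rw [(Commute.zpow_zpow_self (QuotientGroup.mk' D g) i j).eq]
      group
    exact (QuotientGroup.eq_one_iff _).mp h8

/-- **Itô.** A minimal non-`p`-nilpotent group is minimal non-nilpotent with a normal Sylow
`p`-subgroup. -/
theorem minimal_non_pnilpotent
    (h1 : ¬ Cfsg.HasNormalPComplement p M)
    (h2 : ∀ H : Subgroup M, H ≠ ⊤ → Cfsg.HasNormalPComplement p H) :
    (∀ H : Subgroup M, H ≠ ⊤ → Group.IsNilpotent H) ∧ ¬ Group.IsNilpotent M ∧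
      ∀ P : Sylow p M, (P : Subgroup M).Normal := by
  have h1' : ¬ PLocalCentral p M := fun h => h1 (hasNormalPComplement_iff_plocalCentral.mpr h)
  have h2' : ∀ H : Subgroup M, H ≠ ⊤ → PLocalCentral p H := fun H hH =>
    hasNormalPComplement_iff_plocalCentral.mp (h2 H hH)
  obtain ⟨D, hDn, hD, hidx, hab⟩ := exists_normal_sylow_of_minimal_non_plocal h1' h2'
  refine ⟨?_, ?_, ?_⟩
  · intro H hH
    haveI : (D.subgroupOf H).Normal := hDn.subgroupOf H
    refine isNilpotent_of_plocalCentral_of_abelian_quot (p := p) (D.subgroupOf H) hD.comap_subtype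
      ?_ ?_ (h2' H hH)
    · exact Nat.Coprime.coprime_dvd_left (Subgroup.relIndex_dvd_index_of_normal D H) hidx
    · intro a b
      rw [Subgroup.mem_subgroupOf]
      exact hab a b
  · intro hnil
    exact h1' (plocalCentral_of_isNilpotent p)
  · intro P
    rw [sylow_eq_of_normal_coprime_index D hD hidx P]
    exact hDn

end

end Cfsg.Agent.Lib.Lead
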