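import Mathlib
import Cfsg.Agent.Lib.Lead.MinNonPNilp

set_option autoImplicit false
open Pointwise
open scoped IsMulCommutative

namespace Cfsg.Agent.Lib.Lead

section
variable {A : Type*} [CommGroup A] {p : ℕ} [hp : Fact p.Prime]

/-- if `φ` fixes the elements of order dividing `p` and `p` is odd, the norm of an element of
order dividing `p ^ 2` is its `p`-th power -/
theorem normEnd_eq_pow_of_sq (hp2 : p ≠ 2) (φ : A →* A)
    (hfix : ∀ c : A, c ^ p = 1 → φ c = c) (b : A) (hb : b ^ (p ^ 2) = 1) :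
    normEnd φ p b = b ^ p := by
  set z₁ : A := b⁻¹ * φ b with hz₁
  have hbp : φ (b ^ p) = b ^ p := hfix _ (by rw [← pow_mul, ← sq]; exact hb)
  have hz₁p : z₁ ^ p = 1 := by rw [hz₁, mul_pow, inv_pow, ← map_pow, hbp, inv_mul_cancel]
  have hz₁fix : φ z₁ = z₁ := hfix z₁ hz₁p
  have hφb : φ b = b * z₁ := by rw [hz₁, mul_inv_cancel_left]
  have hiter : ∀ i : ℕ, φ^[i] b = b * z₁ ^ i := by
    intro i
    induction i with
    | zero => simp
    | succ i ih =>
      rw [Function.iterate_succ_apply', ih, map_mul, map_pow, hφb, hz₁fix, pow_succ', mul_assoc]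
  rw [normEnd_apply, Finset.prod_congr rfl (fun i _ => hiter i), Finset.prod_mul_distrib,
    Finset.prod_const, Finset.card_range, Finset.prod_pow_eq_pow_sum]
  have hsum : ∃ t, (∑ i ∈ Finset.range p, i) = p * t := by
    have h1 := Finset.sum_range_id_mul_two p
    have hodd : Odd p := hp.out.odd_of_ne_two hp2
    obtain ⟨s, hs⟩ := hodd
    refine ⟨s, ?_⟩
    have h2 : p - 1 = 2 * s := by omega
    rw [h2] at h1
    have h3 : (∑ i ∈ Finset.range p, i) * 2 = (p * s) * 2 := by rw [h1]; ring
    exact Nat.eq_of_mul_eq_mul_right (by norm_num) h3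
  obtain ⟨t, ht⟩ := hsum
  rw [ht, pow_mul, hz₁p, one_pow, mul_one]

/-- if `φ` fixes the elements of order dividing `p` and `p` is odd, the kernel of the norm
on `p`-elements consists of elements of order dividing `p` -/
theorem pow_eq_one_of_normEnd_eq_one (hp2 : p ≠ 2) (φ : A →* A)
    (hfix : ∀ c : A, c ^ p = 1 → φ c = c) :
    ∀ (k : ℕ) (b : A), b ^ (p ^ k) = 1 → normEnd φ p b = 1 → b ^ p = 1 := by
  intro k
  induction k with
  | zero =>
    intro b hb _
    rw [pow_zero, pow_one] at hb
    rw [hb, one_pow]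
  | succ k ih =>
    intro b hb hN
    rcases k with _ | k
    · simpa using hb
    · apply ih b _ hN
      have h1 : (b ^ p ^ k) ^ p ^ 2 = 1 := by rw [← pow_mul, ← pow_add]; exact hb
      have h2 := normEnd_eq_pow_of_sq hp2 φ hfix (b ^ p ^ k) h1
      rw [map_pow, hN, one_pow] at h2
      rw [pow_succ, pow_mul]; exact h2.symm

end

section
variable {R : Type*} [Group R] [Finite R] {p : ℕ} [hp : Fact p.Prime]

/-- a subgroup of index `p` in a `p`-group is normal -/
theorem normal_of_index_eq_p (hR : IsPGroup p R) (C : Subgroup R) (hCi : C.index = p) :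
    C.Normal := by
  apply Subgroup.normal_of_index_eq_minFac_card
  obtain ⟨n, hn⟩ := IsPGroup.iff_card.mp hR
  have hn0 : n ≠ 0 := by
    rintro rfl
    have h1 : C.index ∣ Nat.card R := Subgroup.index_dvd_card C
    rw [hn, hCi, pow_zero, Nat.dvd_one] at h1
    exact hp.out.one_lt.ne' h1
  rw [hn, hCi, Nat.Prime.pow_minFac hp.out hn0]

/-- **`Ω₁` of an odd `p`-group with a cyclic maximal subgroup.** -/
theorem exists_omega_of_cyclic_maximal (hp2 : p ≠ 2) (hR : IsPGroup p R) (hnc : ¬ IsCyclic R)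
    (C : Subgroup R) (hC : IsCyclic C) (hCi : C.index = p) :
    ∃ E : Subgroup R, IsMulCommutative E ∧ (∀ e ∈ E, e ^ p = 1) ∧ Nat.card E = p ^ 2 ∧
      ∀ y : R, y ^ p = 1 → y ∈ E := by
  classical
  haveI hCn : C.Normal := normal_of_index_eq_p hR C hCi
  have hcardR : Nat.card C * p = Nat.card R := by rw [← hCi]; exact Subgroup.card_mul_index C
  -- not unique
  have hnu : ¬ UniqueOrderP p R := fun h => (h.main hR).elim hnc (fun h2 => hp2 h2.1)
  unfold UniqueOrderP at hnu
  push_neg at hnu
  obtain ⟨H, K, hH, hK, hHK⟩ := hnu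
  have hpowH : ∀ (L : Subgroup R), Nat.card L = p → ∀ y ∈ L, y ^ p = 1 := by
    intro L hL y hy
    have := pow_card_eq_one' (G := L) (x := ⟨y, hy⟩)
    rw [hL] at this
    exact congrArg Subtype.val this
  -- an element of order p outside C
  obtain ⟨x, hxp, hxC⟩ : ∃ x : R, x ^ p = 1 ∧ x ∉ C := by
    by_contra hall
    push_neg at hall
    have hHC : H ≤ C := fun y hy => hall y (hpowH H hH y hy)
    have hKC : K ≤ C := fun y hy => hall y (hpowH K hK y hy)
    have h1 : Nat.card (H.subgroupOf C) = p := by rw [card_subgroupOf_of_le hHC, hH]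
    have h2 : Nat.card (K.subgroupOf C) = p := by rw [card_subgroupOf_of_le hKC, hK]
    have h3 : H.subgroupOf C ≤ K.subgroupOf C :=
      le_of_card_dvd_of_isCyclic _ _ (by rw [h1, h2])
    have h4 : K.subgroupOf C ≤ H.subgroupOf C :=
      le_of_card_dvd_of_isCyclic _ _ (by rw [h1, h2])
    apply hHK
    apply le_antisymm
    · intro y hy
      have : (⟨y, hHC hy⟩ : C) ∈ K.subgroupOf C := h3 (Subgroup.mem_subgroupOf.mpr hy)
      exact Subgroup.mem_subgroupOf.mp this
    · intro y hy
      have : (⟨y, hKC hy⟩ : C) ∈ H.subgroupOf C := h4 (Subgroup.mem_subgroupOf.mpr hy)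
      exact Subgroup.mem_subgroupOf.mp this
  -- an element of order p in C
  have hpC : p ∣ Nat.card C := by
    obtain ⟨m, hm⟩ := IsPGroup.iff_card.mp (hR.to_subgroup C)
    rcases m with _ | m
    · exfalso
      rw [pow_zero] at hm
      rw [hm, one_mul] at hcardR
      exact hnc (isCyclic_of_prime_card hcardR.symm)
    · rw [hm, pow_succ]; exact dvd_mul_left p _
  obtain ⟨z, hz⟩ := exists_prime_orderOf_dvd_card' p hpC
  set Z : Subgroup R := Subgroup.zpowers (z : R) with hZdef
  have hzord : orderOf (z : R) = p := by rw [Subgroup.orderOf_coe]; exact hz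
  have hZcard : Nat.card Z = p := by rw [hZdef, Nat.card_zpowers, hzord]
  have hZC : Z ≤ C := (Subgroup.zpowers_le).mpr z.2
  have hZmem : ∀ y ∈ C, y ^ p = 1 → y ∈ Z := by
    intro y hy hyp
    have h1 : Nat.card (Z.subgroupOf C) = p := by rw [card_subgroupOf_of_le hZC, hZcard]
    have h2 := (mem_iff_pow_card_of_isCyclic (Z.subgroupOf C) (⟨y, hy⟩ : C)).mpr (by
      rw [h1]; exact Subtype.ext hyp)
    exact Subgroup.mem_subgroupOf.mp h2
  haveI hZn : Z.Normal := by
    refine ⟨fun y hy g => ?_⟩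
    apply hZmem _ (hCn.conj_mem y (hZC hy) g)
    rw [conj_pow, hpowH Z hZcard y hy]; group
  have hZc : Z ≤ Subgroup.center R := le_center_of_normal_of_card_prime hR Z hZcard
  have hzx : (z : R) * x = x * (z : R) :=
    (Subgroup.mem_center_iff.mp (hZc (Subgroup.mem_zpowers (z : R))) x).symm
  -- the subgroup E
  set E : Subgroup R := Subgroup.closure {(z : R), x} with hEdef
  have hEcomm : IsMulCommutative E := by
    apply Subgroup.isMulCommutative_closure
    intro a ha b hb
    simp only [Set.mem_insert_iff, Set.mem_singleton_iff] at ha hb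
    rcases ha with rfl | rfl <;> rcases hb with rfl | rfl
    · rfl
    · exact hzx
    · exact hzx.symm
    · rfl
  have hEsup : E = Z ⊔ Subgroup.zpowers x := by
    rw [hEdef, hZdef, Subgroup.zpowers_eq_closure, Subgroup.zpowers_eq_closure,
      ← Subgroup.closure_union]
    rfl
  have hZE : Z ≤ E := by rw [hEsup]; exact le_sup_left
  have hxE : Subgroup.zpowers x ≤ E := by rw [hEsup]; exact le_sup_right
  have hEexp : ∀ e ∈ E, e ^ p = 1 := by
    intro e he
    induction he using Subgroup.closure_induction with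
    | mem y hy =>
      simp only [Set.mem_insert_iff, Set.mem_singleton_iff] at hy
      rcases hy with rfl | rfl
      · rw [← hzord]; exact pow_orderOf_eq_one _
      · exact hxp
    | one => exact one_pow p
    | mul a b ha hb iha ihb =>
      have hc : (⟨a, ha⟩ : E) * ⟨b, hb⟩ = ⟨b, hb⟩ * ⟨a, ha⟩ := mul_comm _ _
      have hc' : Commute a b := congrArg Subtype.val hc
      rw [hc'.mul_pow, iha, ihb, one_mul]
    | inv a ha iha => rw [inv_pow, iha, inv_one]
  have hxord : orderOf x = p := by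
    apply orderOf_eq_prime hxp
    rintro rfl
    exact hxC C.one_mem
  have hinf : Subgroup.zpowers x ⊓ Z = ⊥ := by
    by_contra hne
    have h1 : Nat.card (Subgroup.zpowers x ⊓ Z : Subgroup R) ∣ p := by
      have := Subgroup.card_dvd_of_le (inf_le_left : Subgroup.zpowers x ⊓ Z ≤ Subgroup.zpowers x)
      rwa [Nat.card_zpowers, hxord] at this
    rcases (Nat.dvd_prime hp.out).mp h1 with h2 | h2
    · exact hne (Subgroup.card_eq_one.mp h2)
    · have h3 : Subgroup.zpowers x ⊓ Z = Subgroup.zpowers x := by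
        apply Subgroup.eq_of_le_of_card_ge inf_le_left
        rw [h2, Nat.card_zpowers, hxord]
      have h4 : x ∈ Subgroup.zpowers x ⊓ Z := by rw [h3]; exact Subgroup.mem_zpowers x
      exact hxC (hZC h4.2)
  have hEcard : Nat.card E = p ^ 2 := by
    rw [hEsup, sup_comm, card_sup_of_disjoint _ _ (by
      rw [Subgroup.normalizer_eq_top_iff.mpr hZn]; exact le_top) hinf, Nat.card_zpowers, hxord,
      hZcard, sq]
  refine ⟨E, hEcomm, hEexp, hEcard, ?_⟩
  intro y hyp
  by_cases hyC : y ∈ C
  · exact hZE (hZmem y hyC hyp)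
  -- the quotient is generated by the image of x
  have hq : Nat.card (R ⧸ C) = p := by rw [← Subgroup.index_eq_card]; exact hCi
  have hxq : (QuotientGroup.mk' C x) ≠ 1 := by
    intro h; exact hxC ((QuotientGroup.eq_one_iff x).mp h)
  have hordq : orderOf (QuotientGroup.mk' C x) = p := by
    apply orderOf_eq_prime _ hxq
    rw [← map_pow, hxp, map_one]
  have htop : Subgroup.zpowers (QuotientGroup.mk' C x) = ⊤ := by
    apply Subgroup.eq_top_of_card_eq
    rw [Nat.card_zpowers, hordq, hq]
  have hymem : QuotientGroup.mk' C y ∈ Subgroup.zpowers (QuotientGroup.mk' C x) := by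
    rw [htop]; exact Subgroup.mem_top _
  obtain ⟨i, hi⟩ := Subgroup.mem_zpowers_iff.mp hymem
  set x' : R := x ^ i with hx'
  have hb : y * x'⁻¹ ∈ C := by
    apply (QuotientGroup.eq_one_iff (N := C) (y * x'⁻¹)).mp
    change QuotientGroup.mk' C (y * x'⁻¹) = 1
    rw [map_mul, map_inv, hx', map_zpow, hi, mul_inv_cancel]
  have hx'p : x' ^ p = 1 := by
    rw [hx', ← zpow_natCast, ← zpow_mul, mul_comm, zpow_mul, zpow_natCast, hxp, one_zpow]
  have hx'N : x' ∈ Subgroup.normalizer (C : Set R) := by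
    rw [Subgroup.normalizer_eq_top_iff.mpr hCn]; exact Subgroup.mem_top _
  have hyeq : y = (y * x'⁻¹) * x' := by group
  have h5 := mul_pow_eq_normEnd C x' hx'N p ⟨y * x'⁻¹, hb⟩
  rw [← hyeq, hyp, hx'p, mul_one] at h5
  have h6 : normEnd (conjHom C x' hx'N) p ⟨y * x'⁻¹, hb⟩ = 1 := Subtype.ext h5.symm
  have hfix : ∀ c : C, c ^ p = 1 → conjHom C x' hx'N c = c := by
    intro c hc
    apply Subtype.ext
    rw [conjHom_coe]
    have h7 : (c : R) ∈ Z := hZmem c c.2 (by
      have := congrArg Subtype.val hc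
      simpa using this)
    rw [Subgroup.mem_center_iff.mp (hZc h7) x', mul_inv_cancel_right]
  obtain ⟨k, hk⟩ := hR (y * x'⁻¹)
  have h8 := pow_eq_one_of_normEnd_eq_one hp2 (conjHom C x' hx'N) hfix k ⟨y * x'⁻¹, hb⟩
    (Subtype.ext (by simpa using hk)) h6
  have h9 : (y * x'⁻¹) ^ p = 1 := by
    have := congrArg Subtype.val h8
    simpa using this
  rw [hyeq]
  exact E.mul_mem (hZE (hZmem _ hb h9)) (hxE (Subgroup.zpow_mem_zpowers x i))

end

end Cfsg.Agent.Lib.Lead
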