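import Mathlib
import Cfsg.Agent.Lib.Lead.CyclicMax

set_option autoImplicit false
open Pointwise
open scoped IsMulCommutative

namespace Cfsg.Agent.Lib.Lead

section
variable {R : Type*} [Group R] [Finite R] {p : ℕ} [hp : Fact p.Prime]

/-- the subgroup generated by a central element `z` of order `p` and an element `w` of order `p`
outside `⟨z⟩` is elementary abelian of order `p ^ 2` -/
theorem closure_pair_elementary (z w : R) (hz : z ∈ Subgroup.center R) (hz1 : z ≠ 1)
    (hzp : z ^ p = 1) (hwp : w ^ p = 1) (hw : w ∉ Subgroup.zpowers z) :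
    IsMulCommutative (Subgroup.closure {z, w}) ∧ (∀ e ∈ Subgroup.closure {z, w}, e ^ p = 1) ∧
      Nat.card (Subgroup.closure {z, w}) = p ^ 2 := by
  classical
  have hzw : z * w = w * z := (Subgroup.mem_center_iff.mp hz w).symm
  set Z : Subgroup R := Subgroup.zpowers z with hZdef
  have hzord : orderOf z = p := orderOf_eq_prime hzp hz1
  have hZcard : Nat.card Z = p := by rw [hZdef, Nat.card_zpowers, hzord]
  have hZc : Z ≤ Subgroup.center R := (Subgroup.zpowers_le).mpr hz
  have hZn : Z.Normal := by
    refine ⟨fun y hy g => ?_⟩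
    have := Subgroup.mem_center_iff.mp (hZc hy) g
    rw [this, mul_inv_cancel_right]; exact hy
  set E : Subgroup R := Subgroup.closure {z, w} with hEdef
  have hEcomm : IsMulCommutative E := by
    apply Subgroup.isMulCommutative_closure
    intro a ha b hb
    simp only [Set.mem_insert_iff, Set.mem_singleton_iff] at ha hb
    rcases ha with rfl | rfl <;> rcases hb with rfl | rfl
    · rfl
    · exact hzw
    · exact hzw.symm
    · rfl
  have hEsup : E = Z ⊔ Subgroup.zpowers w := by
    rw [hEdef, hZdef, Subgroup.zpowers_eq_closure, Subgroup.zpowers_eq_closure,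
      ← Subgroup.closure_union]
    rfl
  have hEexp : ∀ e ∈ E, e ^ p = 1 := by
    intro e he
    induction he using Subgroup.closure_induction with
    | mem y hy =>
      simp only [Set.mem_insert_iff, Set.mem_singleton_iff] at hy
      rcases hy with rfl | rfl
      · exact hzp
      · exact hwp
    | one => exact one_pow p
    | mul a b ha hb iha ihb =>
      have hc : (⟨a, ha⟩ : E) * ⟨b, hb⟩ = ⟨b, hb⟩ * ⟨a, ha⟩ := mul_comm _ _
      have hc' : Commute a b := congrArg Subtype.val hc
      rw [hc'.mul_pow, iha, ihb, one_mul]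
    | inv a ha iha => rw [inv_pow, iha, inv_one]
  have hword : orderOf w = p := by
    apply orderOf_eq_prime hwp
    rintro rfl
    exact hw (Subgroup.one_mem _)
  have hinf : Subgroup.zpowers w ⊓ Z = ⊥ := by
    by_contra hne
    have h1 : Nat.card (Subgroup.zpowers w ⊓ Z : Subgroup R) ∣ p := by
      have := Subgroup.card_dvd_of_le (inf_le_left : Subgroup.zpowers w ⊓ Z ≤ Subgroup.zpowers w)
      rwa [Nat.card_zpowers, hword] at this
    rcases (Nat.dvd_prime hp.out).mp h1 with h2 | h2
    · exact hne (Subgroup.card_eq_one.mp h2)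
    · have h3 : Subgroup.zpowers w ⊓ Z = Subgroup.zpowers w := by
        apply Subgroup.eq_of_le_of_card_ge inf_le_left
        rw [h2, Nat.card_zpowers, hword]
      have h4 : w ∈ Subgroup.zpowers w ⊓ Z := by rw [h3]; exact Subgroup.mem_zpowers w
      exact hw h4.2
  have hEcard : Nat.card E = p ^ 2 := by
    rw [hEsup, sup_comm, card_sup_of_disjoint _ _ (by
      rw [Subgroup.normalizer_eq_top_iff.mpr hZn]; exact le_top) hinf, Nat.card_zpowers, hword,
      hZcard, sq]
  exact ⟨hEcomm, hEexp, hEcard⟩

/-- a normal subgroup of exponent `p` and order greater than `p` of a `p`-group contains a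
normal elementary abelian subgroup of order `p ^ 2` -/
theorem exists_normal_sq_le (hR : IsPGroup p R) (V : Subgroup R) [hVn : V.Normal]
    (hVexp : ∀ v ∈ V, v ^ p = 1) (hVcard : p < Nat.card V) :
    ∃ W : Subgroup R, W.Normal ∧ W ≤ V ∧ IsMulCommutative W ∧ (∀ e ∈ W, e ^ p = 1) ∧
      Nat.card W = p ^ 2 := by
  classical
  haveI : Group.IsNilpotent R := hR.isNilpotent
  have hVne : V ≠ ⊥ := by
    rintro rfl
    rw [Subgroup.card_bot] at hVcard
    exact absurd hVcard (by have := hp.out.one_lt; omega)
  have h1 := inf_center_ne_bot V hVne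
  obtain ⟨z, hzmem, hz1⟩ : ∃ z ∈ V ⊓ Subgroup.center R, z ≠ 1 := by
    by_contra hall
    push_neg at hall
    exact h1 ((Subgroup.eq_bot_iff_forall _).mpr hall)
  have hzV : z ∈ V := hzmem.1
  have hzc : z ∈ Subgroup.center R := hzmem.2
  have hzp : z ^ p = 1 := hVexp z hzV
  set Z : Subgroup R := Subgroup.zpowers z with hZdef
  have hzord : orderOf z = p := orderOf_eq_prime hzp hz1
  have hZcard : Nat.card Z = p := by rw [hZdef, Nat.card_zpowers, hzord]
  have hZc : Z ≤ Subgroup.center R := (Subgroup.zpowers_le).mpr hzc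
  have hZn : Z.Normal := by
    refine ⟨fun y hy g => ?_⟩
    have := Subgroup.mem_center_iff.mp (hZc hy) g
    rw [this, mul_inv_cancel_right]; exact hy
  have hZV : Z ≤ V := (Subgroup.zpowers_le).mpr hzV
  -- the quotient
  set π := QuotientGroup.mk' Z with hπ
  have hπs : Function.Surjective π := QuotientGroup.mk'_surjective Z
  haveI hVbarn : (V.map π).Normal := hVn.map π hπs
  have hVbar : V.map π ≠ ⊥ := by
    intro h0
    have h2 : V ≤ Z := by
      intro v hv
      have h3 : π v ∈ V.map π := Subgroup.mem_map_of_mem π hv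
      rw [h0, Subgroup.mem_bot] at h3
      exact (QuotientGroup.eq_one_iff v).mp h3
    have := Subgroup.card_le_of_le h2
    omega
  haveI : Group.IsNilpotent (R ⧸ Z) := (hR.to_quotient Z).isNilpotent
  have h4 := inf_center_ne_bot (V.map π) hVbar
  obtain ⟨wbar, hwmem, hw1⟩ : ∃ w ∈ V.map π ⊓ Subgroup.center (R ⧸ Z), w ≠ 1 := by
    by_contra hall
    push_neg at hall
    exact h4 ((Subgroup.eq_bot_iff_forall _).mpr hall)
  obtain ⟨w, hwV, hww⟩ := Subgroup.mem_map.mp hwmem.1
  have hwc : π w ∈ Subgroup.center (R ⧸ Z) := by rw [hww]; exact hwmem.2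
  have hwZ : w ∉ Z := by
    intro h
    apply hw1
    rw [← hww]
    exact (QuotientGroup.eq_one_iff w).mpr h
  have hcomm : ∀ g : R, g * w * g⁻¹ * w⁻¹ ∈ Z := by
    intro g
    apply (QuotientGroup.eq_one_iff (N := Z) _).mp
    change π (g * w * g⁻¹ * w⁻¹) = 1
    rw [map_mul, map_mul, map_mul, map_inv, map_inv,
      Subgroup.mem_center_iff.mp hwc (π g), mul_inv_cancel_right, mul_inv_cancel]
  obtain ⟨hEc, hEexp, hEcard⟩ := closure_pair_elementary z w hzc hz1 hzp (hVexp w hwV) hwZ
  refine ⟨Subgroup.closure {z, w}, ?_, ?_, hEc, hEexp, hEcard⟩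
  · refine ⟨fun n hn g => ?_⟩
    have hle : Subgroup.closure {z, w} ≤
        (Subgroup.closure {z, w}).comap (MulAut.conj g).toMonoidHom := by
      rw [Subgroup.closure_le]
      intro y hy
      simp only [Set.mem_insert_iff, Set.mem_singleton_iff] at hy
      rw [SetLike.mem_coe, Subgroup.mem_comap]
      change g * y * g⁻¹ ∈ _
      rcases hy with rfl | rfl
      · rw [Subgroup.mem_center_iff.mp hzc g, mul_inv_cancel_right]
        exact Subgroup.subset_closure (by simp)
      · have h5 : g * y * g⁻¹ = (g * y * g⁻¹ * y⁻¹) * y := by group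
        rw [h5]
        apply Subgroup.mul_mem
        · have h6 : Z ≤ Subgroup.closure {z, y} := by
            rw [hZdef, Subgroup.zpowers_le]
            exact Subgroup.subset_closure (by simp)
          exact h6 (hcomm g)
        · exact Subgroup.subset_closure (by simp)
    exact hle hn
  · rw [Subgroup.closure_le]
    intro y hy
    simp only [Set.mem_insert_iff, Set.mem_singleton_iff] at hy
    rcases hy with rfl | rfl
    · exact hzV
    · exact hwV

/-- over a proper normal subgroup `A` of a `p`-group there is a normal subgroup `B` with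
`|B : A| = p` -/
theorem exists_normal_relIndex_p (hR : IsPGroup p R) (A : Subgroup R) [hAn : A.Normal]
    (hA : A ≠ ⊤) : ∃ B : Subgroup R, B.Normal ∧ A ≤ B ∧ A.relIndex B = p := by
  classical
  set π := QuotientGroup.mk' A with hπ
  have hπs : Function.Surjective π := QuotientGroup.mk'_surjective A
  haveI : Nontrivial (R ⧸ A) := by
    by_contra hnt
    rw [not_nontrivial_iff_subsingleton] at hnt
    apply hA
    rw [eq_top_iff]
    intro g _
    exact (QuotientGroup.eq_one_iff g).mp (Subsingleton.elim _ _)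
  have hQ : IsPGroup p (R ⧸ A) := hR.to_quotient A
  haveI := hQ.center_nontrivial
  have hpc : p ∣ Nat.card (Subgroup.center (R ⧸ A)) := by
    obtain ⟨m, hm⟩ := IsPGroup.iff_card.mp (hQ.to_subgroup (Subgroup.center (R ⧸ A)))
    rcases m with _ | m
    · exfalso
      rw [pow_zero] at hm
      have := Finite.one_lt_card (α := Subgroup.center (R ⧸ A))
      omega
    · rw [hm, pow_succ]; exact dvd_mul_left p _
  obtain ⟨b, hb⟩ := exists_prime_orderOf_dvd_card' p hpc
  set Zb : Subgroup (R ⧸ A) := Subgroup.zpowers (b : R ⧸ A) with hZb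
  have hZbc : Zb ≤ Subgroup.center (R ⧸ A) := (Subgroup.zpowers_le).mpr b.2
  have hZbn : Zb.Normal := by
    refine ⟨fun y hy g => ?_⟩
    have := Subgroup.mem_center_iff.mp (hZbc hy) g
    rw [this, mul_inv_cancel_right]; exact hy
  have hZbcard : Nat.card Zb = p := by
    rw [hZb, Nat.card_zpowers, Subgroup.orderOf_coe]; exact hb
  refine ⟨Zb.comap π, hZbn.comap π, ?_, ?_⟩
  · intro a ha
    rw [Subgroup.mem_comap]
    have h0 : π a = 1 := (QuotientGroup.eq_one_iff a).mpr ha
    rw [h0]
    exact Subgroup.one_mem _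
  · have hker : π.ker = A := QuotientGroup.ker_mk' A
    have h1 := Subgroup.relIndex_ker (K := Zb.comap π) π
    rw [Subgroup.map_comap_eq_self_of_surjective hπs, hZbcard, hker] at h1
    exact h1

/-- **For odd `p`, a non-cyclic `p`-group has a normal elementary abelian subgroup of order
`p ^ 2`.** -/
theorem exists_normal_elementary_sq (hp2 : p ≠ 2) (hR : IsPGroup p R) (hnc : ¬ IsCyclic R) :
    ∃ W : Subgroup R, W.Normal ∧ IsMulCommutative W ∧ (∀ e ∈ W, e ^ p = 1) ∧
      Nat.card W = p ^ 2 := by
  classical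
  haveI : Group.IsNilpotent R := hR.isNilpotent
  obtain ⟨A, hAn, hAc, hmax⟩ := exists_max_normal_abelian R
  by_cases hAcyc : IsCyclic A
  · -- cyclic case
    have hAtop : A ≠ ⊤ := by
      rintro rfl
      exact hnc (isCyclic_of_surjective (Subgroup.topEquiv : (⊤ : Subgroup R) ≃* R)
        (Subgroup.topEquiv : (⊤ : Subgroup R) ≃* R).surjective)
    obtain ⟨B, hBn, hAB, hidx⟩ := exists_normal_relIndex_p hR A hAtop
    have hBnc : ¬ IsCyclic B := by
      intro hBc
      have hBA : B = A := hmax B hBn inferInstance hAB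
      rw [hBA, Subgroup.relIndex_self] at hidx
      exact hp.out.one_lt.ne hidx
    have hCcyc : IsCyclic (A.subgroupOf B) :=
      isCyclic_of_surjective (Subgroup.subgroupOfEquivOfLe hAB).symm
        (Subgroup.subgroupOfEquivOfLe hAB).symm.surjective
    obtain ⟨E, hEc, hEexp, hEcard, hT⟩ :=
      exists_omega_of_cyclic_maximal hp2 (hR.to_subgroup B) hBnc (A.subgroupOf B) hCcyc hidx
    refine ⟨E.map B.subtype, ?_, inferInstance, ?_, ?_⟩
    · refine ⟨fun n hn g => ?_⟩
      obtain ⟨e, he, rfl⟩ := Subgroup.mem_map.mp hn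
      have hmemB : g * (e : R) * g⁻¹ ∈ B := hBn.conj_mem _ e.2 g
      refine Subgroup.mem_map.mpr ⟨⟨g * (e : R) * g⁻¹, hmemB⟩, ?_, rfl⟩
      apply hT
      apply Subtype.ext
      have h1 := congrArg Subtype.val (hEexp e he)
      simp only [Subgroup.coe_pow, Subgroup.coe_one] at h1 ⊢
      rw [conj_pow, h1]; group
    · intro y hy
      obtain ⟨e, he, rfl⟩ := Subgroup.mem_map.mp hy
      have h1 := congrArg Subtype.val (hEexp e he)
      simpa using h1
    · rw [Subgroup.card_map_of_injective B.subtype_injective, hEcard]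
  · -- noncyclic case
    obtain ⟨q, hq, E0, hE0card, hE0exp⟩ := exists_elementary_abelian_sq hAcyc
    have hqp : q = p := by
      obtain ⟨k, hk⟩ := IsPGroup.iff_card.mp hR
      have h1 : q ∣ Nat.card R := by
        have h2 : q ∣ Nat.card E0 := by rw [hE0card, sq]; exact dvd_mul_right q q
        exact (h2.trans (Subgroup.card_subgroup_dvd_card E0)).trans
          (Subgroup.card_subgroup_dvd_card A)
      rw [hk] at h1
      exact (Nat.prime_dvd_prime_iff_eq hq hp.out).mp (hq.dvd_of_dvd_pow h1)
    subst hqp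
    set V : Subgroup R := (powMonoidHom q : A →* A).ker.map A.subtype with hV
    have hVmem : ∀ y : R, y ∈ V ↔ y ∈ A ∧ y ^ q = 1 := by
      intro y
      constructor
      · intro hy
        obtain ⟨a, ha, rfl⟩ := Subgroup.mem_map.mp hy
        refine ⟨a.2, ?_⟩
        have h1 : a ^ q = 1 := ha
        have := congrArg Subtype.val h1
        simpa using this
      · rintro ⟨hyA, hyq⟩
        refine Subgroup.mem_map.mpr ⟨⟨y, hyA⟩, ?_, rfl⟩
        change (⟨y, hyA⟩ : A) ^ q = 1
        exact Subtype.ext hyq
    haveI hVn : V.Normal := by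
      refine ⟨fun n hn g => ?_⟩
      rw [hVmem] at hn ⊢
      refine ⟨hAn.conj_mem n hn.1 g, ?_⟩
      rw [conj_pow, hn.2]; group
    have hVexp : ∀ v ∈ V, v ^ q = 1 := fun v hv => ((hVmem v).mp hv).2
    have hE0V : E0.map A.subtype ≤ V := by
      intro y hy
      obtain ⟨e, he, rfl⟩ := Subgroup.mem_map.mp hy
      rw [hVmem]
      refine ⟨e.2, ?_⟩
      have := congrArg Subtype.val (hE0exp e he)
      simpa using this
    have hVcard : q < Nat.card V := by
      have h1 := Subgroup.card_le_of_le hE0V
      rw [Subgroup.card_map_of_injective A.subtype_injective, hE0card] at h1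
      have h2 : q < q ^ 2 := by
        rw [sq]; have := hq.one_lt; nlinarith
      omega
    obtain ⟨W, hWn, -, hWc, hWexp, hWcard⟩ := exists_normal_sq_le hR V hVexp hVcard
    exact ⟨W, hWn, hWc, hWexp, hWcard⟩

end

end Cfsg.Agent.Lib.Lead
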