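import Mathlib
import Cfsg.Agent.Lib.Lead.NormalRankTwo

set_option autoImplicit false
open Pointwise
open scoped IsMulCommutative

namespace Cfsg.Agent.Lib.Lead

universe u

section
variable {X : Type u} [Group X] [Finite X]

/-- order of the image of `K ≥ N` in the quotient by `N` -/
theorem card_map_mk'_mul (N : Subgroup X) [N.Normal] (K : Subgroup X) (hNK : N ≤ K) :
    Nat.card (K.map (QuotientGroup.mk' N)) * Nat.card N = Nat.card K := by
  have h1 := Subgroup.relIndex_ker (K := K) (QuotientGroup.mk' N)
  rw [QuotientGroup.ker_mk'] at h1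
  have h2 : Nat.card (N.subgroupOf K) * (N.subgroupOf K).index = Nat.card K :=
    Subgroup.card_mul_index _
  rw [card_subgroupOf_of_le hNK] at h2
  rw [← h1, ← h2, Subgroup.relIndex, mul_comm]

/-- order of the preimage of a subgroup of the quotient by `N` -/
theorem card_comap_mk' (N : Subgroup X) [N.Normal] (D : Subgroup (X ⧸ N)) :
    Nat.card (D.comap (QuotientGroup.mk' N)) = Nat.card D * Nat.card N := by
  have hle : N ≤ D.comap (QuotientGroup.mk' N) := by
    intro a ha
    rw [Subgroup.mem_comap]
    have h0 : QuotientGroup.mk' N a = 1 := (QuotientGroup.eq_one_iff a).mpr ha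
    rw [h0]; exact Subgroup.one_mem _
  have := card_map_mk'_mul N (D.comap (QuotientGroup.mk' N)) hle
  rw [Subgroup.map_comap_eq_self_of_surjective (QuotientGroup.mk'_surjective N)] at this
  exact this.symm

/-- bound for the subgroup `D` of elements moving `a` inside its coset of a central subgroup -/
theorem card_le_of_commutator_mem_central (Z : Subgroup X) (hZ : Z ≤ Subgroup.center X)
    (A D : Subgroup X) (a : X) (hA : ∀ x : X, x * a = a * x → x ∈ A)
    (hD : ∀ x ∈ D, x * a * x⁻¹ * a⁻¹ ∈ Z) : Nat.card D ≤ Nat.card A * Nat.card Z := by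
  classical
  let θ : D →* Z :=
    { toFun := fun x => ⟨(x : X) * a * (x : X)⁻¹ * a⁻¹, hD x x.2⟩
      map_one' := by apply Subtype.ext; simp
      map_mul' := by
        intro x y
        apply Subtype.ext
        have hc : ∀ g : X, g * ((y : X) * a * (y : X)⁻¹ * a⁻¹) = ((y : X) * a * (y : X)⁻¹ * a⁻¹) * g :=
          fun g => Subgroup.mem_center_iff.mp (hZ (hD y y.2)) g
        simp only [Subgroup.coe_mul, mul_inv_rev]
        calc (x : X) * y * a * ((y : X)⁻¹ * (x : X)⁻¹) * a⁻¹
            = (x : X) * ((y : X) * a * (y : X)⁻¹ * a⁻¹) * (a * (x : X)⁻¹ * a⁻¹) := by group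
          _ = ((y : X) * a * (y : X)⁻¹ * a⁻¹) * (x : X) * (a * (x : X)⁻¹ * a⁻¹) := by rw [hc]
          _ = ((y : X) * a * (y : X)⁻¹ * a⁻¹) * ((x : X) * a * (x : X)⁻¹ * a⁻¹) := by group
          _ = ((x : X) * a * (x : X)⁻¹ * a⁻¹) * ((y : X) * a * (y : X)⁻¹ * a⁻¹) := (hc _).symm }
  have h1 : Nat.card θ.ker * Nat.card θ.range = Nat.card D := by
    rw [← Subgroup.index_ker]; exact Subgroup.card_mul_index _
  have h2 : Nat.card θ.range ≤ Nat.card Z := Subgroup.card_le_card_group _
  have h3 : Nat.card θ.ker ≤ Nat.card A := by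
    have hmem : ∀ x : θ.ker, ((x : D) : X) ∈ A := by
      intro x
      apply hA
      have h4 : θ (x : D) = 1 := x.2
      have h5 : ((x : D) : X) * a * ((x : D) : X)⁻¹ * a⁻¹ = 1 := congrArg Subtype.val h4
      calc ((x : D) : X) * a = (((x : D) : X) * a * ((x : D) : X)⁻¹ * a⁻¹) * (a * ((x : D) : X)) := by
            group
        _ = a * ((x : D) : X) := by rw [h5, one_mul]
    apply Nat.card_le_card_of_injective (fun x : θ.ker => (⟨((x : D) : X), hmem x⟩ : A))
    intro x y hxy
    have := congrArg Subtype.val hxy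
    exact Subtype.ext (Subtype.ext this)
  calc Nat.card D = Nat.card θ.ker * Nat.card θ.range := h1.symm
    _ ≤ Nat.card A * Nat.card Z := Nat.mul_le_mul h3 h2

variable {p : ℕ} [hp : Fact p.Prime]

/-- in a `p`-group of order at least `p^2`, the centraliser of a subgroup of order `p` has order
at least `p^2` -/
theorem sq_le_card_centralizer_of_card_eq_p (hX : IsPGroup p X) (hcard : p ^ 2 ≤ Nat.card X)
    (B : Subgroup X) (hB : Nat.card B = p) : p ^ 2 ≤ Nat.card (Subgroup.centralizer (B : Set X)) := by
  classical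
  haveI : Nontrivial X := by
    rw [← Finite.one_lt_card_iff_nontrivial]
    have : 1 < p ^ 2 := Nat.one_lt_pow (by norm_num) hp.out.one_lt
    omega
  by_cases hBZ : B ≤ Subgroup.center X
  · have : Subgroup.centralizer (B : Set X) = ⊤ := by
      rw [Subgroup.centralizer_eq_top_iff_subset]; exact hBZ
    rw [this, Subgroup.card_top]; exact hcard
  · have hBcyc : IsCyclic B := isCyclic_of_prime_card hB
    have hBle : B ≤ Subgroup.centralizer (B : Set X) := Subgroup.le_centralizer B
    have hZle : Subgroup.center X ≤ Subgroup.centralizer (B : Set X) :=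
      Subgroup.center_le_centralizer _
    have hinf : B ⊓ Subgroup.center X = ⊥ := by
      by_contra hne
      have h1 : Nat.card (B ⊓ Subgroup.center X : Subgroup X) ∣ p := by
        have := Subgroup.card_dvd_of_le (inf_le_left : B ⊓ Subgroup.center X ≤ B)
        rwa [hB] at this
      rcases (Nat.dvd_prime hp.out).mp h1 with h2 | h2
      · exact hne (Subgroup.card_eq_one.mp h2)
      · have h3 : B ⊓ Subgroup.center X = B := by
          apply Subgroup.eq_of_le_of_card_ge inf_le_left
          rw [h2, hB]
        exact hBZ (h3 ▸ inf_le_right)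
    have h4 : Nat.card (B ⊔ Subgroup.center X : Subgroup X) = p * Nat.card (Subgroup.center X) := by
      rw [card_sup_of_disjoint B (Subgroup.center X) (by
        rw [Subgroup.normalizer_eq_top_iff.mpr inferInstance]; exact le_top) hinf, hB]
    have h5 : p ≤ Nat.card (Subgroup.center X) := by
      haveI := hX.center_nontrivial
      obtain ⟨m, hm⟩ := IsPGroup.iff_card.mp (hX.to_subgroup (Subgroup.center X))
      rcases m with _ | m
      · exfalso
        rw [pow_zero] at hm
        have := Finite.one_lt_card (α := Subgroup.center X)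
        omega
      · rw [hm, pow_succ]
        exact Nat.le_mul_of_pos_left p (pow_pos hp.out.pos m)
    calc p ^ 2 = p * p := sq p
      _ ≤ p * Nat.card (Subgroup.center X) := Nat.mul_le_mul_left p h5
      _ = Nat.card (B ⊔ Subgroup.center X : Subgroup X) := h4.symm
      _ ≤ Nat.card (Subgroup.centralizer (B : Set X)) := Subgroup.card_le_of_le (sup_le hBle hZle)

end

end Cfsg.Agent.Lib.Lead
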