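import Mathlib
import Cfsg.Agent.Lib.Lead.MaxClass1

set_option autoImplicit false
open Pointwise
open scoped IsMulCommutative

namespace Cfsg.Agent.Lib.Lead

universe u

/-- **Suzuki.** A `p`-group of order `p ^ n` with a self-centralising subgroup of order `p ^ 2` has
nilpotency class `n - 1`. -/
theorem nilpotencyClass_of_self_centralizing_sq {p : ℕ} [hp : Fact p.Prime] :
    ∀ (n : ℕ) (X : Type u) [Group X] [Finite X], Nat.card X = p ^ n →
      ∀ A : Subgroup X, Nat.card A = p ^ 2 → Subgroup.centralizer (A : Set X) = A →
      Group.nilpotencyClass X = n - 1 := by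
  intro n
  induction n with
  | zero =>
    intro X _ _ hX A hA hC
    exfalso
    have h1 : Nat.card A ∣ Nat.card X := Subgroup.card_subgroup_dvd_card A
    rw [hX, hA, pow_zero, Nat.dvd_one] at h1
    have : 1 < p ^ 2 := Nat.one_lt_pow (by norm_num) hp.out.one_lt
    omega
  | succ n ih =>
    intro X _ _ hX A hA hC
    classical
    have hXp : IsPGroup p X := IsPGroup.of_card hX
    haveI : Group.IsNilpotent X := hXp.isNilpotent
    have hp1 : 1 < p := hp.out.one_lt
    haveI : Nontrivial X := by
      rw [← Finite.one_lt_card_iff_nontrivial, hX]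
      exact Nat.one_lt_pow (by omega) hp1
    haveI hAcomm : IsMulCommutative A := IsPGroup.isMulCommutative_of_card_eq_prime_sq hA
    have hZA : Subgroup.center X ≤ A := by
      rw [← hC]; exact Subgroup.center_le_centralizer _
    by_cases hZeq : Subgroup.center X = A
    · have hAtop : A = ⊤ := by
        rw [← hC, ← hZeq, Subgroup.centralizer_eq_top_iff_subset]
      have h1 : p ^ (n + 1) = p ^ 2 := by rw [← hX, ← hA, hAtop, Subgroup.card_top]
      have hn : n + 1 = 2 := Nat.pow_right_injective hp.out.two_le h1
      have hcomm : IsMulCommutative X := by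
        rw [← Subgroup.center_eq_top_iff, hZeq, hAtop]
      have h2 : Group.nilpotencyClass X ≤ 1 :=
        Group.IsNilpotent.nilpotencyClass_le_one_iff.mpr hcomm
      have h0 : Group.nilpotencyClass X ≠ 0 := by
        rw [Ne, Group.nilpotencyClass_zero_iff_subsingleton, not_subsingleton_iff_nontrivial]
        infer_instance
      omega
    · set Z := Subgroup.center X with hZdef
      have hZcard : Nat.card Z = p := by
        obtain ⟨k, hk0, hk⟩ := IsPGroup.card_center_eq_prime_pow hX (Nat.succ_pos n)
        have h1 : Nat.card Z ∣ Nat.card A := Subgroup.card_dvd_of_le hZA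
        rw [hk, hA] at h1
        have hk2 : k ≤ 2 := (Nat.pow_dvd_pow_iff_le_right hp1).mp h1
        have hkne : k ≠ 2 := by
          rintro rfl
          apply hZeq
          exact Subgroup.eq_of_le_of_card_ge hZA (by rw [hk, hA])
        have hk1 : k = 1 := by omega
        rw [hk, hk1, pow_one]
      have hn2 : 2 ≤ n := by
        have h1 : Nat.card A ∣ Nat.card X := Subgroup.card_subgroup_dvd_card A
        rw [hX, hA] at h1
        have h2 : 2 ≤ n + 1 := (Nat.pow_dvd_pow_iff_le_right hp1).mp h1
        by_contra hlt
        have hn1 : n + 1 = 2 := by omega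
        have hAtop : A = ⊤ := by
          apply Subgroup.eq_top_of_card_eq
          rw [hA, hX, hn1]
        apply hZeq
        rw [hZdef, ← Subgroup.centralizer_univ, ← Subgroup.coe_top, ← hAtop, hC]
      -- the quotient
      set π := QuotientGroup.mk' Z with hπ
      have hπs : Function.Surjective π := QuotientGroup.mk'_surjective Z
      have hXbar : Nat.card (X ⧸ Z) = p ^ n := by
        have h1 := Subgroup.card_eq_card_quotient_mul_card_subgroup Z
        rw [hX, hZcard, pow_succ] at h1
        exact (Nat.eq_of_mul_eq_mul_right hp.out.pos h1).symm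
      have hXbarp : IsPGroup p (X ⧸ Z) := IsPGroup.of_card hXbar
      set Abar := A.map π with hAbar
      have hAbarcard : Nat.card Abar = p := by
        have h1 := card_map_mk'_mul Z A hZA
        rw [hZcard, hA, sq] at h1
        exact Nat.eq_of_mul_eq_mul_right hp.out.pos h1
      set Dbar := Subgroup.centralizer (Abar : Set (X ⧸ Z)) with hDbar
      have hDge : p ^ 2 ≤ Nat.card Dbar := by
        apply sq_le_card_centralizer_of_card_eq_p hXbarp _ Abar hAbarcard
        rw [hXbar]
        exact Nat.pow_le_pow_right hp.out.pos hn2
      -- an element of A outside Z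
      obtain ⟨a, haA, haZ⟩ : ∃ a ∈ A, a ∉ Z := by
        by_contra hall
        push_neg at hall
        exact hZeq (le_antisymm hZA hall)
      have hAsup : Z ⊔ Subgroup.zpowers a = A := by
        have hle : Z ⊔ Subgroup.zpowers a ≤ A := sup_le hZA ((Subgroup.zpowers_le).mpr haA)
        apply Subgroup.eq_of_le_of_card_ge hle
        obtain ⟨j, hj⟩ := IsPGroup.iff_card.mp (hXp.to_subgroup (Z ⊔ Subgroup.zpowers a))
        have hlt : Z < Z ⊔ Subgroup.zpowers a := by
          apply lt_of_le_of_ne le_sup_left
          intro h
          apply haZ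
          rw [h]
          exact (le_sup_right : Subgroup.zpowers a ≤ _) (Subgroup.mem_zpowers a)
        have h1 : Nat.card Z < Nat.card (Z ⊔ Subgroup.zpowers a : Subgroup X) := card_lt_of_lt' hlt
        rw [hZcard, hj] at h1
        have h2 : 1 < j := by
          by_contra hj1
          have : j ≤ 1 := by omega
          have h3 : p ^ j ≤ p ^ 1 := Nat.pow_le_pow_right hp.out.pos this
          rw [pow_one] at h3
          omega
        rw [hA, hj]
        exact Nat.pow_le_pow_right hp.out.pos h2
      have hA' : ∀ x : X, x * a = a * x → x ∈ A := by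
        intro x hx
        rw [← hC, Subgroup.mem_centralizer_iff]
        have hle : A ≤ Subgroup.centralizer ({x} : Set X) := by
          rw [← hAsup]
          apply sup_le
          · exact Subgroup.center_le_centralizer _
          · rw [Subgroup.zpowers_le, Subgroup.mem_centralizer_iff]
            intro y hy
            rw [Set.mem_singleton_iff] at hy
            rw [hy]; exact hx
        intro b hb
        have := Subgroup.mem_centralizer_iff.mp (hle hb) x (Set.mem_singleton x)
        exact this.symm
      have hD' : ∀ x ∈ Dbar.comap π, x * a * x⁻¹ * a⁻¹ ∈ Z := by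
        intro x hx
        rw [Subgroup.mem_comap, hDbar, Subgroup.mem_centralizer_iff] at hx
        have h1 := hx (π a) (Subgroup.mem_map_of_mem π haA)
        apply (QuotientGroup.eq_one_iff (N := Z) _).mp
        change π (x * a * x⁻¹ * a⁻¹) = 1
        rw [map_mul, map_mul, map_mul, map_inv, map_inv, ← h1, mul_inv_cancel_right,
          mul_inv_cancel]
      have hDle : Nat.card Dbar ≤ p ^ 2 := by
        have h1 := card_le_of_commutator_mem_central Z le_rfl A (Dbar.comap π) a hA' hD'
        rw [card_comap_mk', hZcard, hA] at h1
        exact Nat.le_of_mul_le_mul_right h1 hp.out.pos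
      have hDcard : Nat.card Dbar = p ^ 2 := le_antisymm hDle hDge
      haveI hDcomm : IsMulCommutative Dbar := IsPGroup.isMulCommutative_of_card_eq_prime_sq hDcard
      have hAD : Abar ≤ Dbar := Subgroup.le_centralizer Abar
      have hDC : Subgroup.centralizer (Dbar : Set (X ⧸ Z)) = Dbar := by
        apply le_antisymm
        · exact Subgroup.centralizer_le hAD
        · exact Subgroup.le_centralizer Dbar
      have hih := ih (X ⧸ Z) hXbar Dbar hDcard hDC
      rw [Group.nilpotencyClass_eq_quotient_center_plus_one, hih]
      omega

end Cfsg.Agent.Lib.Lead
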