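import Mathlib
import Cfsg.Agent.Lib.Lead.MaxClass2
import Cfsg.Agent.Lib.Lead.Frattini

set_option autoImplicit false
open Pointwise
open scoped IsMulCommutative

namespace Cfsg.Agent.Lib.Lead

universe u

/-- a finite `p`-group whose abelianisation is cyclic is cyclic -/
theorem isCyclic_of_isCyclic_abelianization {G : Type*} [Group G] [Finite G] {p : ℕ}
    [hp : Fact p.Prime] (hG : IsPGroup p G) (h : IsCyclic (G ⧸ commutator G)) : IsCyclic G := by
  obtain ⟨q, hq⟩ := h.exists_generator
  obtain ⟨g, rfl⟩ := QuotientGroup.mk_surjective q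
  have htop : Subgroup.zpowers g ⊔ commutator G = ⊤ := by
    rw [eq_top_iff]
    intro y _
    obtain ⟨i, hi⟩ := Subgroup.mem_zpowers_iff.mp (hq (QuotientGroup.mk y))
    have h1 : (g ^ i)⁻¹ * y ∈ commutator G := by
      apply (QuotientGroup.eq_one_iff (N := commutator G) _).mp
      rw [QuotientGroup.mk_mul, QuotientGroup.mk_inv, QuotientGroup.mk_zpow, hi, inv_mul_cancel]
    have h2 : y = g ^ i * ((g ^ i)⁻¹ * y) := by group
    rw [h2]
    exact Subgroup.mul_mem_sup (Subgroup.zpow_mem_zpowers g i) h1
  have h3 : Subgroup.zpowers g ⊔ frattini G = ⊤ := by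
    rw [eq_top_iff, ← htop]
    exact sup_le_sup_left (commutator_le_frattini_of_isPGroup hG) _
  have h4 := frattini_nongenerating h3
  exact isCyclic_iff_exists_zpowers_eq_top.mpr ⟨g, h4⟩

/-- a group of order `p ^ m`, `m ≥ 2`, has class at most `m - 1` -/
theorem nilpotencyClass_le_of_card {p : ℕ} [hp : Fact p.Prime] :
    ∀ (m : ℕ) (G : Type u) [Group G] [Finite G], Nat.card G = p ^ m → 2 ≤ m →
      Group.nilpotencyClass G ≤ m - 1 := by
  intro m
  induction m using Nat.strong_induction_on with
  | _ m ih =>
    intro G _ _ hG hm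
    classical
    have hGp : IsPGroup p G := IsPGroup.of_card hG
    haveI : Group.IsNilpotent G := hGp.isNilpotent
    have hp1 : 1 < p := hp.out.one_lt
    haveI : Nontrivial G := by
      rw [← Finite.one_lt_card_iff_nontrivial, hG]
      exact Nat.one_lt_pow (by omega) hp1
    by_cases hcomm : IsMulCommutative G
    · have := Group.IsNilpotent.nilpotencyClass_le_one_iff.mpr hcomm
      omega
    · obtain ⟨k, hk0, hk⟩ := IsPGroup.card_center_eq_prime_pow hG (by omega)
      have hkm : k ≤ m := by
        have h1 : Nat.card (Subgroup.center G) ∣ Nat.card G := Subgroup.card_subgroup_dvd_card _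
        rw [hk, hG] at h1
        exact (Nat.pow_dvd_pow_iff_le_right hp1).mp h1
      have hq : Nat.card (G ⧸ Subgroup.center G) = p ^ (m - k) := by
        have h1 := Subgroup.card_eq_card_quotient_mul_card_subgroup (Subgroup.center G)
        rw [hG, hk] at h1
        have h2 : p ^ m = p ^ (m - k) * p ^ k := by rw [← pow_add]; congr 1; omega
        rw [h2] at h1
        exact (Nat.eq_of_mul_eq_mul_right (pow_pos hp.out.pos k) h1).symm
      have hnc : ¬ IsCyclic (G ⧸ Subgroup.center G) := by
        intro hc
        exact hcomm (isMulCommutative_of_isCyclic_quotient_center_self G)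
      have hmk : 2 ≤ m - k := by
        by_contra hlt
        have h1 : m - k = 0 ∨ m - k = 1 := by omega
        rcases h1 with h1 | h1
        · rw [h1, pow_zero] at hq
          haveI : Subsingleton (G ⧸ Subgroup.center G) := (Nat.card_eq_one_iff_unique.mp hq).1
          exact hnc inferInstance
        · rw [h1, pow_one] at hq
          exact hnc (isCyclic_of_prime_card hq)
      have h1 := ih (m - k) (by omega) (G ⧸ Subgroup.center G) hq hmk
      rw [Group.nilpotencyClass_eq_quotient_center_plus_one]
      omega

/-- structure of the centre in a `p`-group of maximal class -/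
theorem card_center_of_maximal_class {p : ℕ} [hp : Fact p.Prime] {X : Type u} [Group X] [Finite X]
    (n : ℕ) (hn : 3 ≤ n) (hX : Nat.card X = p ^ n) (hc : Group.nilpotencyClass X = n - 1) :
    Nat.card (Subgroup.center X) = p ∧ Nat.card (X ⧸ Subgroup.center X) = p ^ (n - 1) ∧
      Group.nilpotencyClass (X ⧸ Subgroup.center X) = n - 2 := by
  classical
  have hXp : IsPGroup p X := IsPGroup.of_card hX
  haveI : Group.IsNilpotent X := hXp.isNilpotent
  have hp1 : 1 < p := hp.out.one_lt
  haveI : Nontrivial X := by
    rw [← Finite.one_lt_card_iff_nontrivial, hX]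
    exact Nat.one_lt_pow (by omega) hp1
  have hcomm : ¬ IsMulCommutative X := by
    intro h
    have := Group.IsNilpotent.nilpotencyClass_le_one_iff.mpr h
    omega
  obtain ⟨k, hk0, hk⟩ := IsPGroup.card_center_eq_prime_pow hX (by omega)
  have hkm : k ≤ n := by
    have h1 : Nat.card (Subgroup.center X) ∣ Nat.card X := Subgroup.card_subgroup_dvd_card _
    rw [hk, hX] at h1
    exact (Nat.pow_dvd_pow_iff_le_right hp1).mp h1
  have hq : Nat.card (X ⧸ Subgroup.center X) = p ^ (n - k) := by
    have h1 := Subgroup.card_eq_card_quotient_mul_card_subgroup (Subgroup.center X)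
    rw [hX, hk] at h1
    have h2 : p ^ n = p ^ (n - k) * p ^ k := by rw [← pow_add]; congr 1; omega
    rw [h2] at h1
    exact (Nat.eq_of_mul_eq_mul_right (pow_pos hp.out.pos k) h1).symm
  have hnc : ¬ IsCyclic (X ⧸ Subgroup.center X) := by
    intro hc
    exact hcomm (isMulCommutative_of_isCyclic_quotient_center_self X)
  have hmk : 2 ≤ n - k := by
    by_contra hlt
    have h1 : n - k = 0 ∨ n - k = 1 := by omega
    rcases h1 with h1 | h1
    · rw [h1, pow_zero] at hq
      haveI : Subsingleton (X ⧸ Subgroup.center X) := (Nat.card_eq_one_iff_unique.mp hq).1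
      exact hnc inferInstance
    · rw [h1, pow_one] at hq
      exact hnc (isCyclic_of_prime_card hq)
  have h1 := nilpotencyClass_le_of_card (p := p) (n - k) (X ⧸ Subgroup.center X) hq hmk
  have h2 := Group.nilpotencyClass_eq_quotient_center_plus_one (G := X)
  have hk1 : k = 1 := by omega
  subst hk1
  refine ⟨by rw [hk, pow_one], hq, ?_⟩
  omega

end Cfsg.Agent.Lib.Lead
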