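import Mathlib
import Cfsg.Agent.Lib.Lead.MaxClass3

set_option autoImplicit false
open Pointwise
open scoped IsMulCommutative

namespace Cfsg.Agent.Lib.Lead

universe u

/-- a non-cyclic group of order four is a Klein four-group -/
theorem isKleinFour_of_card_four_of_not_isCyclic {Q : Type*} [Group Q] (hcard : Nat.card Q = 4)
    (hnc : ¬ IsCyclic Q) : IsKleinFour Q := by
  haveI : Finite Q := Nat.finite_of_card_ne_zero (by rw [hcard]; norm_num)
  haveI : Nontrivial Q := by
    rw [← Finite.one_lt_card_iff_nontrivial, hcard]; norm_num
  refine ⟨hcard, ?_⟩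
  have hsq : ∀ q : Q, q ^ 2 = 1 := by
    intro q
    have h1 : orderOf q ∣ 4 := by rw [← hcard]; exact orderOf_dvd_natCard q
    have h2 : orderOf q ≠ 4 := by
      intro h
      exact hnc (isCyclic_of_orderOf_eq_card q (by rw [h, hcard]))
    have h3 : orderOf q ∣ 2 := by
      have h4 : orderOf q ≤ 4 := Nat.le_of_dvd (by norm_num) h1
      interval_cases h : orderOf q
      · simp at h1
      · exact one_dvd 2
      · exact dvd_refl 2
      · norm_num at h1
      · exact absurd rfl h2
    exact orderOf_dvd_iff_pow_eq_one.mp h3
  have h1 : Monoid.exponent Q ∣ 2 := Monoid.exponent_dvd_of_forall_pow_eq_one hsq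
  have h2 : Monoid.exponent Q ≠ 1 := by
    intro h
    have := Monoid.exp_eq_one_iff.mp h
    exact false_of_nontrivial_of_subsingleton Q
  rcases (Nat.dvd_prime Nat.prime_two).mp h1 with h | h
  · exact absurd h h2
  · exact h

/-- in a `p`-group of maximal class the abelianisation has order `p ^ 2` -/
theorem card_abelianization_of_maximal_class {p : ℕ} [hp : Fact p.Prime] :
    ∀ (n : ℕ) (X : Type u) [Group X] [Finite X], 3 ≤ n → Nat.card X = p ^ n →
      Group.nilpotencyClass X = n - 1 → (commutator X).index = p ^ 2 := by
  intro n
  induction n with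
  | zero => intro X _ _ hn; omega
  | succ n ih =>
    intro X _ _ hn hX hc
    classical
    obtain ⟨hZcard, hQcard, hQclass⟩ := card_center_of_maximal_class (n + 1) hn hX hc
    have hXp : IsPGroup p X := IsPGroup.of_card hX
    haveI : Group.IsNilpotent X := hXp.isNilpotent
    have hcomm : ¬ IsMulCommutative X := by
      intro h
      have := Group.IsNilpotent.nilpotencyClass_le_one_iff.mpr h
      omega
    have hne : commutator X ≠ ⊥ := fun h => hcomm ((commutator_eq_bot_iff X).mp h)
    have h1 := inf_center_ne_bot (commutator X) hne
    have hZle : Subgroup.center X ≤ commutator X := by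
      have h2 : Nat.card (commutator X ⊓ Subgroup.center X : Subgroup X) ∣ p := by
        rw [← hZcard]; exact Subgroup.card_dvd_of_le inf_le_right
      rcases (Nat.dvd_prime hp.out).mp h2 with h3 | h3
      · exact absurd (Subgroup.card_eq_one.mp h3) h1
      · have h4 : commutator X ⊓ Subgroup.center X = Subgroup.center X := by
          apply Subgroup.eq_of_le_of_card_ge inf_le_right
          rw [h3, hZcard]
        rw [← h4]; exact inf_le_left
    set π := QuotientGroup.mk' (Subgroup.center X) with hπ
    have hπs : Function.Surjective π := QuotientGroup.mk'_surjective _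
    have hmap : (commutator X).map π = commutator (X ⧸ Subgroup.center X) := by
      rw [map_commutator_eq, MonoidHom.range_eq_top.mpr hπs, commutator_def]
    have hidx : (commutator (X ⧸ Subgroup.center X)).index = (commutator X).index := by
      rw [← hmap]
      apply Subgroup.index_map_eq _ hπs
      rw [hπ, QuotientGroup.ker_mk']
      exact hZle
    rw [← hidx]
    by_cases hn3 : n + 1 = 3
    · have hq2 : Nat.card (X ⧸ Subgroup.center X) = p ^ 2 := by rw [hQcard, hn3]
      have hqc : IsMulCommutative (X ⧸ Subgroup.center X) :=
        IsPGroup.isMulCommutative_of_card_eq_prime_sq hq2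
      rw [(commutator_eq_bot_iff _).mpr hqc, Subgroup.index_bot, hq2]
    · have hn' : 3 ≤ n := by omega
      have hQclass' : Group.nilpotencyClass (X ⧸ Subgroup.center X) = n - 1 := by
        rw [hQclass]; omega
      have hQcard' : Nat.card (X ⧸ Subgroup.center X) = p ^ n := by
        rw [hQcard]; congr 1
      exact ih (X ⧸ Subgroup.center X) hn' hQcard' hQclass'

end Cfsg.Agent.Lib.Lead
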