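import Mathlib
import Cfsg.Agent.Lib.Lead.MaxClass4

set_option autoImplicit false
open Pointwise
open scoped IsMulCommutative

namespace Cfsg.Agent.Lib.Lead

universe u

section
variable {X : Type u} [Group X] [Finite X]

/-- in a finite group, one-sided invariance under conjugation gives membership of the
normaliser -/
theorem mem_normalizer_of_conj_mem (H : Subgroup X) (g : X) (h : ∀ k ∈ H, g * k * g⁻¹ ∈ H) :
    g ∈ Subgroup.normalizer (H : Set X) := by
  rw [mem_normalizer_iff_conj_smul]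
  apply Subgroup.eq_of_le_of_card_ge
  · intro y hy
    rw [mem_conj_smul_iff] at hy
    have := h _ hy
    have h2 : g * (g⁻¹ * y * g) * g⁻¹ = y := by group
    rwa [h2] at this
  · rw [card_conj_smul]

variable (C : Subgroup X) [hCn : C.Normal] [hCc : IsMulCommutative C] (x : X)

/-- the commutator map `u ↦ [x, u]` on an abelian normal subgroup -/
def commMap : C →* C where
  toFun u := ⟨x * (u : X) * x⁻¹ * (u : X)⁻¹, C.mul_mem (hCn.conj_mem _ u.2 x) (C.inv_mem u.2)⟩
  map_one' := by apply Subtype.ext; simp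
  map_mul' := by
    intro u v
    apply Subtype.ext
    have h1 : (⟨x * (v : X) * x⁻¹, hCn.conj_mem _ v.2 x⟩ : C) * u⁻¹ =
        u⁻¹ * ⟨x * (v : X) * x⁻¹, hCn.conj_mem _ v.2 x⟩ := mul_comm _ _
    have h2 : x * (v : X) * x⁻¹ * (u : X)⁻¹ = (u : X)⁻¹ * (x * (v : X) * x⁻¹) := by
      have h2' := congrArg Subtype.val h1
      simp only [Subgroup.coe_mul, Subgroup.coe_inv] at h2'
      exact h2'
    simp only [Subgroup.coe_mul, mul_inv_rev]
    calc x * ((u : X) * v) * x⁻¹ * ((v : X)⁻¹ * (u : X)⁻¹)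
        = x * (u : X) * x⁻¹ * (x * (v : X) * x⁻¹ * (u : X)⁻¹) * ((u : X) * (v : X)⁻¹ * (u : X)⁻¹) := by
          group
      _ = x * (u : X) * x⁻¹ * ((u : X)⁻¹ * (x * (v : X) * x⁻¹)) * ((u : X) * (v : X)⁻¹ * (u : X)⁻¹) := by
          rw [h2]
      _ = x * (u : X) * x⁻¹ * (u : X)⁻¹ * (x * (v : X) * x⁻¹ * ((u : X) * (v : X)⁻¹ * (u : X)⁻¹)) := by
          group
      _ = x * (u : X) * x⁻¹ * (u : X)⁻¹ * (x * (v : X) * x⁻¹ * (v : X)⁻¹) := by
          have h3 : (u : C) * v⁻¹ * u⁻¹ = v⁻¹ := by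
            rw [mul_comm (u : C), mul_assoc, mul_inv_cancel, mul_one]
          have h4 : (u : X) * (v : X)⁻¹ * (u : X)⁻¹ = (v : X)⁻¹ := by
            have h4' := congrArg Subtype.val h3
            simp only [Subgroup.coe_mul, Subgroup.coe_inv] at h4'
            exact h4'
          rw [h4]

omit [Finite X] in
theorem commMap_coe (u : C) : ((commMap C x u : C) : X) = x * (u : X) * x⁻¹ * (u : X)⁻¹ := rfl

theorem card_range_commMap_mul :
    Nat.card (commMap C x).range * Nat.card (C ⊓ Subgroup.centralizer {x} : Subgroup X) =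
      Nat.card C := by
  have h1 : Nat.card (commMap C x).ker * (commMap C x).ker.index = Nat.card C :=
    Subgroup.card_mul_index _
  rw [Subgroup.index_ker] at h1
  have h2 : (commMap C x).ker.map C.subtype = C ⊓ Subgroup.centralizer {x} := by
    ext y
    constructor
    · intro hy
      obtain ⟨u, hu, rfl⟩ := Subgroup.mem_map.mp hy
      refine ⟨u.2, ?_⟩
      change (u : X) ∈ Subgroup.centralizer {x}
      rw [Subgroup.mem_centralizer_iff]
      intro w hw
      rw [Set.mem_singleton_iff] at hw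
      rw [hw]
      have h3 : ((commMap C x u : C) : X) = 1 := by
        have : commMap C x u = 1 := hu
        rw [this]; rfl
      rw [commMap_coe] at h3
      calc x * (u : X) = (x * (u : X) * x⁻¹ * (u : X)⁻¹) * ((u : X) * x) := by group
        _ = (u : X) * x := by rw [h3, one_mul]
    · rintro ⟨hyC, hyx⟩
      refine Subgroup.mem_map.mpr ⟨⟨y, hyC⟩, ?_, rfl⟩
      rw [MonoidHom.mem_ker]
      apply Subtype.ext
      rw [commMap_coe]
      have h3 : x * y = y * x :=
        Subgroup.mem_centralizer_iff.mp hyx x (Set.mem_singleton x)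
      change x * y * x⁻¹ * y⁻¹ = 1
      rw [h3]; group
  rw [← h2, Subgroup.card_map_of_injective C.subtype_injective, mul_comm]
  exact h1

/-- if `X = C ⟨x⟩` with `C` abelian and normal, then `X' = [C, x]` -/
theorem commutator_eq_map_range_commMap (htop : C ⊔ Subgroup.zpowers x = ⊤) :
    commutator X = (commMap C x).range.map C.subtype := by
  classical
  set K' := (commMap C x).range.map C.subtype with hK'
  have hK'mem : ∀ u : C, x * (u : X) * x⁻¹ * (u : X)⁻¹ ∈ K' := by
    intro u
    exact Subgroup.mem_map.mpr ⟨commMap C x u, ⟨u, rfl⟩, rfl⟩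
  have hK'C : K' ≤ C := by
    intro y hy
    obtain ⟨u, -, rfl⟩ := Subgroup.mem_map.mp hy
    exact u.2
  apply le_antisymm
  · -- normality
    have hCle : C ≤ Subgroup.normalizer (K' : Set X) := by
      intro u hu
      apply mem_normalizer_of_conj_mem
      intro k hk
      have h1 : (⟨u, hu⟩ : C) * ⟨k, hK'C hk⟩ = ⟨k, hK'C hk⟩ * ⟨u, hu⟩ := mul_comm _ _
      have h2 : u * k = k * u := congrArg Subtype.val h1
      rw [h2, mul_inv_cancel_right]; exact hk
    have hxle : x ∈ Subgroup.normalizer (K' : Set X) := by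
      apply mem_normalizer_of_conj_mem
      intro k hk
      obtain ⟨w, ⟨u, rfl⟩, rfl⟩ := Subgroup.mem_map.mp hk
      have h1 := hK'mem ⟨x * (u : X) * x⁻¹, hCn.conj_mem _ u.2 x⟩
      have h2 : x * (C.subtype (commMap C x u)) * x⁻¹ =
          x * (x * (u : X) * x⁻¹) * x⁻¹ * (x * (u : X) * x⁻¹)⁻¹ := by
        rw [Subgroup.coe_subtype, commMap_coe]; group
      rw [h2]; exact h1
    have hK'n : K'.Normal := by
      rw [← Subgroup.normalizer_eq_top_iff, eq_top_iff, ← htop]
      exact sup_le hCle ((Subgroup.zpowers_le).mpr hxle)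
    apply commutator_le_of_quotient_comm K'
    have hxu : ∀ u ∈ C, Commute (QuotientGroup.mk' K' x) (QuotientGroup.mk' K' u) := by
      intro u hu
      have h1 : QuotientGroup.mk' K' (x * u * x⁻¹ * u⁻¹) = 1 :=
        (QuotientGroup.eq_one_iff _).mpr (hK'mem ⟨u, hu⟩)
      rw [map_mul, map_mul, map_mul, map_inv, map_inv] at h1
      have h2 := mul_inv_eq_one.mp h1
      have h3 := mul_inv_eq_iff_eq_mul.mp h2
      exact h3
    have huv : ∀ u ∈ C, ∀ v ∈ C, Commute (QuotientGroup.mk' K' u) (QuotientGroup.mk' K' v) := by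
      intro u hu v hv
      have h1 : (⟨u, hu⟩ : C) * ⟨v, hv⟩ = ⟨v, hv⟩ * ⟨u, hu⟩ := mul_comm _ _
      have h2 : u * v = v * u := congrArg Subtype.val h1
      change QuotientGroup.mk' K' u * QuotientGroup.mk' K' v =
        QuotientGroup.mk' K' v * QuotientGroup.mk' K' u
      rw [← map_mul, ← map_mul, h2]
    have hdecomp : ∀ a : X, ∃ u ∈ C, ∃ i : ℤ, a = u * x ^ i := by
      intro a
      have ha : a ∈ C ⊔ Subgroup.zpowers x := by rw [htop]; exact Subgroup.mem_top a
      rw [← SetLike.mem_coe, Subgroup.normal_mul] at ha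
      obtain ⟨u, hu, w, hw, rfl⟩ := ha
      obtain ⟨i, rfl⟩ := Subgroup.mem_zpowers_iff.mp hw
      exact ⟨u, hu, i, rfl⟩
    intro a b
    obtain ⟨a', rfl⟩ := QuotientGroup.mk_surjective a
    obtain ⟨b', rfl⟩ := QuotientGroup.mk_surjective b
    obtain ⟨u, hu, i, rfl⟩ := hdecomp a'
    obtain ⟨v, hv, j, rfl⟩ := hdecomp b'
    change QuotientGroup.mk' K' (u * x ^ i) * QuotientGroup.mk' K' (v * x ^ j) =
      QuotientGroup.mk' K' (v * x ^ j) * QuotientGroup.mk' K' (u * x ^ i)
    rw [map_mul, map_mul, map_zpow, map_zpow]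
    have c1 : Commute (QuotientGroup.mk' K' u) (QuotientGroup.mk' K' v) := huv u hu v hv
    have c2 : Commute (QuotientGroup.mk' K' u) ((QuotientGroup.mk' K' x) ^ j) :=
      ((hxu u hu).symm).zpow_right j
    have c3 : Commute ((QuotientGroup.mk' K' x) ^ i) (QuotientGroup.mk' K' v) :=
      (hxu v hv).zpow_left i
    have c4 : Commute ((QuotientGroup.mk' K' x) ^ i) ((QuotientGroup.mk' K' x) ^ j) :=
      Commute.zpow_zpow_self _ i j
    exact ((c1.mul_right c2).mul_left (c3.mul_right c4)).eq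
  · intro y hy
    obtain ⟨w, ⟨u, rfl⟩, rfl⟩ := Subgroup.mem_map.mp hy
    rw [Subgroup.coe_subtype, commMap_coe, commutator_def]
    have := Subgroup.commutator_mem_commutator (Subgroup.mem_top x) (Subgroup.mem_top (u : X))
    rwa [commutatorElement_def] at this

end

end Cfsg.Agent.Lib.Lead
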