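import Mathlib
import Cfsg.Agent.Lib.Lead.MaxClass5

set_option autoImplicit false
open Pointwise
open scoped IsMulCommutative

namespace Cfsg.Agent.Lib.Lead

universe u

/-- a group in which all squares are trivial is commutative -/
theorem isMulCommutative_of_forall_sq {G : Type*} [Group G] (h : ∀ g : G, g ^ 2 = 1) :
    IsMulCommutative G := by
  refine ⟨⟨fun a b => ?_⟩⟩
  have ha : a⁻¹ = a := by
    have := h a; rw [sq] at this; exact inv_eq_of_mul_eq_one_left this
  have hb : b⁻¹ = b := by
    have := h b; rw [sq] at this; exact inv_eq_of_mul_eq_one_left this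
  have hab : (a * b)⁻¹ = a * b := by
    have := h (a * b); rw [sq] at this; exact inv_eq_of_mul_eq_one_left this
  rw [mul_inv_rev, ha, hb] at hab
  exact hab.symm

/-- a nonabelian group of order `8` has a cyclic subgroup of index `2` -/
theorem exists_cyclic_index_two_of_card_eight {X : Type u} [Group X] [Finite X]
    (hX : Nat.card X = 8) (hnc : ¬ IsMulCommutative X) :
    ∃ C : Subgroup X, IsCyclic C ∧ C.index = 2 := by
  classical
  obtain ⟨c, hc⟩ : ∃ c : X, orderOf c = 4 := by
    by_contra hall
    push Not at hall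
    apply hnc
    apply isMulCommutative_of_forall_sq
    intro g
    have h1 : orderOf g ∣ 8 := by rw [← hX]; exact orderOf_dvd_natCard g
    have h2 : orderOf g ≠ 8 := by
      intro h
      have hcyc : IsCyclic X := isCyclic_of_orderOf_eq_card g (by rw [h, hX])
      exact hnc inferInstance
    have h3 : orderOf g ∣ 2 := by
      have h4 : orderOf g ≤ 8 := Nat.le_of_dvd (by norm_num) h1
      have h5 := hall g
      interval_cases h : orderOf g
      · simp at h1
      · exact one_dvd 2
      · exact dvd_refl 2
      · norm_num at h1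
      · exact absurd rfl h5
      · norm_num at h1
      · norm_num at h1
      · norm_num at h1
      · exact absurd rfl h2
    exact orderOf_dvd_iff_pow_eq_one.mp h3
  refine ⟨Subgroup.zpowers c, inferInstance, ?_⟩
  have h1 := Subgroup.card_mul_index (Subgroup.zpowers c)
  rw [Nat.card_zpowers, hc, hX] at h1
  omega

/-- **Taussky.** A `2`-group of order at least `8` whose abelianisation has order `4` has a
cyclic subgroup of index `2`. -/
theorem exists_cyclic_index_two_of_index_commutator :
    ∀ (n : ℕ) (X : Type u) [Group X] [Finite X], 3 ≤ n → Nat.card X = 2 ^ n →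
      (commutator X).index = 4 → ∃ C : Subgroup X, IsCyclic C ∧ C.index = 2 := by
  intro n
  induction n with
  | zero => intro X _ _ hn; omega
  | succ n ih =>
    intro X _ _ hn hX hidx
    classical
    haveI : Fact (Nat.Prime 2) := ⟨Nat.prime_two⟩
    by_cases hn3 : n + 1 = 3
    · rw [hn3] at hX
      apply exists_cyclic_index_two_of_card_eight (by rw [hX]; norm_num)
      intro hcomm
      rw [(commutator_eq_bot_iff X).mpr hcomm, Subgroup.index_bot, hX] at hidx
      norm_num at hidx
    have hn' : 3 ≤ n := by omega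
    have hXp : IsPGroup 2 X := IsPGroup.of_card hX
    haveI : Group.IsNilpotent X := hXp.isNilpotent
    have hne : commutator X ≠ ⊥ := by
      intro h
      rw [h, Subgroup.index_bot, hX] at hidx
      have h1 : (2 : ℕ) ^ (n + 1) = 2 ^ 2 := by rw [hidx]; norm_num
      have := Nat.pow_right_injective (le_refl 2) h1
      omega
    have h1 := inf_center_ne_bot (commutator X) hne
    -- a central involution in the commutator subgroup
    obtain ⟨z, hzcomm, hzcen, hzord⟩ : ∃ z : X, z ∈ commutator X ∧ z ∈ Subgroup.center X ∧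
        orderOf z = 2 := by
      set T := commutator X ⊓ Subgroup.center X with hT
      have h2 : 2 ∣ Nat.card T := by
        obtain ⟨j, hj⟩ := IsPGroup.iff_card.mp (hXp.to_subgroup T)
        rcases j with _ | j
        · rw [pow_zero] at hj
          exact absurd (Subgroup.card_eq_one.mp hj) h1
        · rw [hj, pow_succ]; exact dvd_mul_left 2 _
      obtain ⟨t, ht⟩ := exists_prime_orderOf_dvd_card' 2 h2
      exact ⟨(t : X), t.2.1, t.2.2, by rw [Subgroup.orderOf_coe]; exact ht⟩
    set N : Subgroup X := Subgroup.zpowers z with hNdef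
    have hNcard : Nat.card N = 2 := by rw [hNdef, Nat.card_zpowers, hzord]
    have hNcen : N ≤ Subgroup.center X := (Subgroup.zpowers_le).mpr hzcen
    haveI hNn : N.Normal := zpowers_normal_of_mem_center hzcen
    have hNcomm : N ≤ commutator X := (Subgroup.zpowers_le).mpr hzcomm
    have hNsq : ∀ a ∈ N, a ^ 2 = 1 := by
      intro a ha
      have := pow_card_eq_one' (G := N) (x := ⟨a, ha⟩)
      rw [hNcard] at this
      exact congrArg Subtype.val this
    set π := QuotientGroup.mk' N with hπ
    have hπs : Function.Surjective π := QuotientGroup.mk'_surjective N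
    have hker : π.ker = N := QuotientGroup.ker_mk' N
    have hXbar : Nat.card (X ⧸ N) = 2 ^ n := by
      have h2 := Subgroup.card_eq_card_quotient_mul_card_subgroup N
      rw [hX, hNcard, pow_succ] at h2
      exact (Nat.eq_of_mul_eq_mul_right (by norm_num) h2).symm
    have hidxbar : (commutator (X ⧸ N)).index = 4 := by
      have hmap : (commutator X).map π = commutator (X ⧸ N) := by
        rw [map_commutator_eq, MonoidHom.range_eq_top.mpr hπs, commutator_def]
      rw [← hmap, Subgroup.index_map_eq _ hπs (by rw [hker]; exact hNcomm)]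
      exact hidx
    obtain ⟨Cbar, hCbarcyc, hCbaridx⟩ := ih (X ⧸ N) hn' hXbar hidxbar
    set C := Cbar.comap π with hCdef
    have hCidx : C.index = 2 := by
      rw [hCdef, Subgroup.index_comap_of_surjective Cbar hπs]; exact hCbaridx
    refine ⟨C, ?_, hCidx⟩
    by_contra hCnc
    haveI hCn : C.Normal := Subgroup.normal_of_index_eq_two hCidx
    have hNC : N ≤ C := by
      intro a ha
      rw [hCdef, Subgroup.mem_comap]
      have h0 : π a = 1 := (QuotientGroup.eq_one_iff a).mpr ha
      rw [h0]; exact Subgroup.one_mem _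
    have hCmap : C.map π = Cbar := Subgroup.map_comap_eq_self_of_surjective hπs Cbar
    haveI hCcomm : IsMulCommutative C := by
      haveI : IsCyclic (C.map π) := by rw [hCmap]; exact hCbarcyc
      apply (π.subgroupMap C).isMulCommutative_of_isCyclic_of_ker_le_center
      intro u hu
      rw [MonoidHom.mem_ker] at hu
      have h2 : π (u : X) = 1 := by
        have := congrArg Subtype.val hu
        simpa using this
      have h3 : (u : X) ∈ N := (QuotientGroup.eq_one_iff (u : X)).mp h2
      rw [Subgroup.mem_center_iff]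
      intro g
      apply Subtype.ext
      exact Subgroup.mem_center_iff.mp (hNcen h3) (g : X)
    -- a generator
    obtain ⟨q, hq⟩ := hCbarcyc.exists_generator
    obtain ⟨c, hc⟩ := hπs (q : X ⧸ N)
    have hcC : c ∈ C := by
      rw [hCdef, Subgroup.mem_comap, hc]; exact q.2
    have hCbarcard : Nat.card Cbar = 2 ^ (n - 1) := by
      have h2 := Subgroup.card_mul_index Cbar
      rw [hCbaridx, hXbar] at h2
      have h3 : (2 : ℕ) ^ n = 2 ^ (n - 1) * 2 := by rw [← pow_succ]; congr 1; omega
      rw [h3] at h2
      exact Nat.eq_of_mul_eq_mul_right (by norm_num) h2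
    have hqord : orderOf (π c) = 2 ^ (n - 1) := by
      rw [hc, Subgroup.orderOf_coe, orderOf_eq_card_of_forall_mem_zpowers hq, hCbarcard]
    have hdec : ∀ u ∈ C, ∃ i : ℤ, (c ^ i)⁻¹ * u ∈ N := by
      intro u hu
      have hu' : π u ∈ Cbar := by rw [hCdef, Subgroup.mem_comap] at hu; exact hu
      obtain ⟨i, hi⟩ := Subgroup.mem_zpowers_iff.mp (hq ⟨π u, hu'⟩)
      refine ⟨i, ?_⟩
      apply (QuotientGroup.eq_one_iff (N := N) _).mp
      change π ((c ^ i)⁻¹ * u) = 1
      have h2 : (π c) ^ i = π u := by
        have := congrArg Subtype.val hi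
        rw [hc]
        simpa using this
      rw [map_mul, map_inv, map_zpow, h2, inv_mul_cancel]
    have hzc : z ∉ Subgroup.zpowers c := by
      intro hz
      apply hCnc
      have hCeq : C = Subgroup.zpowers c := by
        apply le_antisymm
        · intro u hu
          obtain ⟨i, hi⟩ := hdec u hu
          have h2 : u = c ^ i * ((c ^ i)⁻¹ * u) := by group
          rw [h2]
          exact Subgroup.mul_mem _ (Subgroup.zpow_mem_zpowers c i)
            (((Subgroup.zpowers_le).mpr hz) hi)
        · exact (Subgroup.zpowers_le).mpr hcC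
      rw [hCeq]; infer_instance
    -- the subgroup of squares
    set W : Subgroup X := ((powMonoidHom 2 : C →* C).range).map C.subtype with hWdef
    have hWmem : ∀ y : X, y ∈ W ↔ ∃ u ∈ C, u ^ 2 = y := by
      intro y
      constructor
      · intro hy
        obtain ⟨w, ⟨u, rfl⟩, rfl⟩ := Subgroup.mem_map.mp hy
        exact ⟨(u : X), u.2, by simp [powMonoidHom_apply]⟩
      · rintro ⟨u, hu, rfl⟩
        refine Subgroup.mem_map.mpr ⟨(⟨u, hu⟩ : C) ^ 2, ⟨⟨u, hu⟩, rfl⟩, ?_⟩
        simp
    have hWC : W ≤ C := by
      intro y hy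
      obtain ⟨u, hu, rfl⟩ := (hWmem y).mp hy
      exact C.pow_mem hu 2
    haveI hWn : W.Normal := by
      refine ⟨fun y hy g => ?_⟩
      obtain ⟨u, hu, rfl⟩ := (hWmem y).mp hy
      rw [hWmem]
      exact ⟨g * u * g⁻¹, hCn.conj_mem u hu g, by rw [conj_pow]⟩
    have hWne : W ≠ ⊥ := by
      intro h
      have h2 : c ^ 2 ∈ W := (hWmem _).mpr ⟨c, hcC, rfl⟩
      rw [h, Subgroup.mem_bot] at h2
      have h3 : (π c) ^ 2 = 1 := by rw [← map_pow, h2, map_one]
      have h4 : orderOf (π c) ∣ 2 := orderOf_dvd_of_pow_eq_one h3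
      rw [hqord] at h4
      have h5 : (2 : ℕ) ^ (n - 1) ≤ 2 := Nat.le_of_dvd (by norm_num) h4
      have h6 : (2 : ℕ) ^ 2 ≤ 2 ^ (n - 1) := Nat.pow_le_pow_right (by norm_num) (by omega)
      omega
    have hWc : W ≤ Subgroup.zpowers c := by
      intro y hy
      obtain ⟨u, hu, rfl⟩ := (hWmem y).mp hy
      obtain ⟨i, hi⟩ := hdec u hu
      have h2 : u = c ^ i * ((c ^ i)⁻¹ * u) := by group
      have h3 : Commute (c ^ i) ((c ^ i)⁻¹ * u) :=
        Subgroup.mem_center_iff.mp (hNcen hi) (c ^ i)
      rw [h2, h3.mul_pow, hNsq _ hi, mul_one]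
      exact Subgroup.pow_mem _ (Subgroup.zpow_mem_zpowers c i) 2
    have h2 := inf_center_ne_bot W hWne
    obtain ⟨m, hmmem, hm1⟩ : ∃ m ∈ W ⊓ Subgroup.center X, m ≠ 1 := by
      by_contra hall
      push Not at hall
      exact h2 ((Subgroup.eq_bot_iff_forall _).mpr hall)
    have hmW : m ∈ W := hmmem.1
    have hmcen : m ∈ Subgroup.center X := hmmem.2
    have hmN : m ∉ N := by
      intro hm
      apply hzc
      have h3 : Subgroup.zpowers m = N := by
        apply Subgroup.eq_of_le_of_card_ge ((Subgroup.zpowers_le).mpr hm)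
        rw [hNcard, Nat.card_zpowers]
        have h4 : orderOf m ∣ 2 := orderOf_dvd_of_pow_eq_one (hNsq m hm)
        rcases (Nat.dvd_prime Nat.prime_two).mp h4 with h5 | h5
        · exact absurd (orderOf_eq_one_iff.mp h5) hm1
        · rw [h5]
      have h4 : z ∈ Subgroup.zpowers m := by rw [h3]; exact Subgroup.mem_zpowers z
      exact ((Subgroup.zpowers_le).mpr (hWc hmW)) h4
    -- an element outside C
    obtain ⟨x, hxC⟩ : ∃ x : X, x ∉ C := by
      by_contra hall
      push Not at hall
      have : C = ⊤ := by rw [eq_top_iff]; intro y _; exact hall y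
      rw [this, Subgroup.index_top] at hCidx
      omega
    have htop : C ⊔ Subgroup.zpowers x = ⊤ := by
      have h3 := Subgroup.relIndex_mul_index (le_sup_left : C ≤ C ⊔ Subgroup.zpowers x)
      rw [hCidx] at h3
      have h4 : (C ⊔ Subgroup.zpowers x).index ∣ 2 := Dvd.intro_left _ h3
      rcases (Nat.dvd_prime Nat.prime_two).mp h4 with h5 | h5
      · exact Subgroup.index_eq_one.mp h5
      · exfalso
        rw [h5] at h3
        have h6 : C.relIndex (C ⊔ Subgroup.zpowers x) = 1 := by omega
        have h7 := Subgroup.relIndex_eq_one.mp h6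
        exact hxC (h7 ((le_sup_right : Subgroup.zpowers x ≤ _) (Subgroup.mem_zpowers x)))
    -- counting
    have hS : N ⊔ Subgroup.zpowers m ≤ C ⊓ Subgroup.centralizer {x} := by
      apply sup_le
      · exact le_inf hNC (hNcen.trans (Subgroup.center_le_centralizer _))
      · rw [Subgroup.zpowers_le]
        exact ⟨hWC hmW, Subgroup.center_le_centralizer _ hmcen⟩
    have hScard : 4 ≤ Nat.card (N ⊔ Subgroup.zpowers m : Subgroup X) := by
      have h3 : N < N ⊔ Subgroup.zpowers m := by
        apply lt_of_le_of_ne le_sup_left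
        intro h
        apply hmN
        rw [h]
        exact (le_sup_right : Subgroup.zpowers m ≤ _) (Subgroup.mem_zpowers m)
      have h4 := card_lt_of_lt' h3
      have h5 : Nat.card N ∣ Nat.card (N ⊔ Subgroup.zpowers m : Subgroup X) :=
        Subgroup.card_dvd_of_le le_sup_left
      rw [hNcard] at h4 h5
      obtain ⟨t, ht⟩ := h5
      omega
    have ha := card_range_commMap_mul C x
    have hb := commutator_eq_map_range_commMap C x htop
    have hcardcomm : Nat.card (commutator X) = Nat.card (commMap C x).range := by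
      rw [hb, Subgroup.card_map_of_injective C.subtype_injective]
    have h3 : Nat.card (commutator X) * 4 = Nat.card X := by
      rw [← hidx]; exact Subgroup.card_mul_index _
    have h4 : Nat.card C * 2 = Nat.card X := by
      rw [← hCidx]; exact Subgroup.card_mul_index _
    have h5 : 4 ≤ Nat.card (C ⊓ Subgroup.centralizer {x} : Subgroup X) :=
      hScard.trans (Subgroup.card_le_of_le hS)
    have h6 : 0 < Nat.card C := Nat.card_pos
    rw [hcardcomm] at h3
    have h7 : Nat.card (commMap C x).range * 4 ≤ Nat.card C := by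
      rw [← ha]; exact Nat.mul_le_mul_left _ h5
    omega

end Cfsg.Agent.Lib.Lead
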