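import Mathlib
import Cfsg.Agent.Lib.Lead.MaxClass6
import Cfsg.Agent.Lib.Helper1.DihedralIso

set_option autoImplicit false
open Pointwise
open scoped IsMulCommutative

namespace Cfsg.Agent.Lib.Lead

universe u

section
variable {X : Type u} [Group X] [Finite X]

/-- `C ⟨y⟩ = X` for `y` outside a subgroup of index two -/
theorem sup_zpowers_eq_top_of_index_two (C : Subgroup X) (hCidx : C.index = 2) (x : X)
    (hxC : x ∉ C) : C ⊔ Subgroup.zpowers x = ⊤ := by
  have h3 := Subgroup.relIndex_mul_index (le_sup_left : C ≤ C ⊔ Subgroup.zpowers x)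
  rw [hCidx] at h3
  have h4 : (C ⊔ Subgroup.zpowers x).index ∣ 2 := Dvd.intro_left _ h3
  rcases (Nat.dvd_prime Nat.prime_two).mp h4 with h5 | h5
  · exact Subgroup.index_eq_one.mp h5
  · exfalso
    rw [h5] at h3
    have h6 : C.relIndex (C ⊔ Subgroup.zpowers x) = 1 := by omega
    have h7 := Subgroup.relIndex_eq_one.mp h6
    exact hxC (h7 ((le_sup_right : Subgroup.zpowers x ≤ _) (Subgroup.mem_zpowers x)))

/-- elements of an abelian subgroup of index two centralised by an outside element are central -/
theorem inf_centralizer_le_center (C : Subgroup X) [hCc : IsMulCommutative C]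
    (hCidx : C.index = 2) (x : X) (hxC : x ∉ C) :
    C ⊓ Subgroup.centralizer {x} ≤ Subgroup.center X := by
  intro u hu
  have htop := sup_zpowers_eq_top_of_index_two C hCidx x hxC
  have hle : C ⊔ Subgroup.zpowers x ≤ Subgroup.centralizer {u} := by
    apply sup_le
    · intro v hv
      rw [Subgroup.mem_centralizer_iff]
      intro w hw
      rw [Set.mem_singleton_iff] at hw
      rw [hw]
      have h1 : (⟨u, hu.1⟩ : C) * ⟨v, hv⟩ = ⟨v, hv⟩ * ⟨u, hu.1⟩ := mul_comm _ _
      exact congrArg Subtype.val h1
    · rw [Subgroup.zpowers_le, Subgroup.mem_centralizer_iff]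
      intro w hw
      rw [Set.mem_singleton_iff] at hw
      rw [hw]
      exact (Subgroup.mem_centralizer_iff.mp hu.2 x (Set.mem_singleton x)).symm
  rw [htop] at hle
  rw [Subgroup.mem_center_iff]
  intro g
  exact (Subgroup.mem_centralizer_iff.mp (hle (Subgroup.mem_top g)) u (Set.mem_singleton u)).symm

/-- squares of elements outside an abelian subgroup of index two are central -/
theorem sq_mem_center_of_index_two (C : Subgroup X) [hCc : IsMulCommutative C]
    (hCidx : C.index = 2) (y : X) (hyC : y ∉ C) : y ^ 2 ∈ Subgroup.center X := by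
  apply inf_centralizer_le_center C hCidx y hyC
  refine ⟨Subgroup.sq_mem_of_index_two hCidx y, ?_⟩
  change y ^ 2 ∈ Subgroup.centralizer {y}
  rw [Subgroup.mem_centralizer_iff]
  intro w hw
  rw [Set.mem_singleton_iff] at hw
  rw [hw, ← pow_succ', ← pow_succ]

/-- the centraliser data in a `2`-group whose abelianisation has order four -/
theorem card_inf_centralizer_of_index_commutator (hidx : (commutator X).index = 4)
    (C : Subgroup X) (hCcyc : IsCyclic C) (hCidx : C.index = 2) (x : X) (hxC : x ∉ C) :
    Nat.card (C ⊓ Subgroup.centralizer {x} : Subgroup X) = 2 := by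
  haveI hCn : C.Normal := Subgroup.normal_of_index_eq_two hCidx
  have htop := sup_zpowers_eq_top_of_index_two C hCidx x hxC
  have ha := card_range_commMap_mul C x
  have hb := commutator_eq_map_range_commMap C x htop
  have hcardcomm : Nat.card (commutator X) = Nat.card (commMap C x).range := by
    rw [hb, Subgroup.card_map_of_injective C.subtype_injective]
  have h3 : Nat.card (commutator X) * 4 = Nat.card X := by
    rw [← hidx]; exact Subgroup.card_mul_index _
  have h4 : Nat.card C * 2 = Nat.card X := by
    rw [← hCidx]; exact Subgroup.card_mul_index _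
  have h6 : 0 < Nat.card (commMap C x).range := Nat.card_pos
  rw [hcardcomm] at h3
  have h7 : Nat.card (commMap C x).range * (Nat.card (C ⊓ Subgroup.centralizer {x} : Subgroup X) * 2)
      = Nat.card (commMap C x).range * 4 := by
    rw [← mul_assoc, ha, h4, h3]
  have h8 := Nat.eq_of_mul_eq_mul_left h6 h7
  omega

/-- a `2`-group of order `2 ^ n ≥ 8` with abelianisation of order `4` has class `n - 1` -/
theorem nilpotencyClass_of_index_commutator (n : ℕ) (hn : 3 ≤ n) (hX : Nat.card X = 2 ^ n)
    (hidx : (commutator X).index = 4) : Group.nilpotencyClass X = n - 1 := by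
  classical
  haveI : Fact (Nat.Prime 2) := ⟨Nat.prime_two⟩
  obtain ⟨C, hCcyc, hCidx⟩ := exists_cyclic_index_two_of_index_commutator n X hn hX hidx
  haveI hCn : C.Normal := Subgroup.normal_of_index_eq_two hCidx
  obtain ⟨x, hxC⟩ : ∃ x : X, x ∉ C := by
    by_contra hall
    push Not at hall
    have : C = ⊤ := by rw [eq_top_iff]; intro y _; exact hall y
    rw [this, Subgroup.index_top] at hCidx
    omega
  have hZ0 := card_inf_centralizer_of_index_commutator hidx C hCcyc hCidx x hxC
  set A := Subgroup.centralizer ({x} : Set X) with hA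
  have hxA : x ∈ A := by
    rw [hA, Subgroup.mem_centralizer_iff]
    intro w hw
    rw [Set.mem_singleton_iff] at hw
    rw [hw]
  have hAcard : Nat.card A = 2 ^ 2 := by
    have h1 : C.relIndex A ∣ C.index := Subgroup.relIndex_dvd_index_of_normal C A
    rw [hCidx] at h1
    have h2 : C.relIndex A ≠ 1 := by
      intro h
      exact hxC (Subgroup.relIndex_eq_one.mp h hxA)
    have h3 : C.relIndex A = 2 := by
      rcases (Nat.dvd_prime Nat.prime_two).mp h1 with h | h
      · exact absurd h h2
      · exact h
    have h4 : Nat.card (C.subgroupOf A) * (C.subgroupOf A).index = Nat.card A :=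
      Subgroup.card_mul_index _
    rw [card_subgroupOf_eq, hZ0] at h4
    have h5 : (C.subgroupOf A).index = 2 := h3
    rw [h5] at h4
    omega
  haveI hAcomm : IsMulCommutative A := IsPGroup.isMulCommutative_of_card_eq_prime_sq hAcard
  have hAC : Subgroup.centralizer (A : Set X) = A := by
    apply le_antisymm
    · apply Subgroup.centralizer_le
      intro w hw
      rw [Set.mem_singleton_iff] at hw
      rw [hw]; exact hxA
    · exact Subgroup.le_centralizer A
  exact nilpotencyClass_of_self_centralizing_sq (p := 2) n X hX A hAcard hAC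

/-- **central quotient of a `2`-group of maximal class** -/
theorem quotient_center_dihedral (n : ℕ) (hn : 3 ≤ n) (hX : Nat.card X = 2 ^ n)
    (hc : Group.nilpotencyClass X = n - 1) :
    Nonempty (X ⧸ Subgroup.center X ≃* DihedralGroup (2 ^ (n - 2))) := by
  classical
  haveI : Fact (Nat.Prime 2) := ⟨Nat.prime_two⟩
  have hidx : (commutator X).index = 4 := by
    rw [card_abelianization_of_maximal_class (p := 2) n X hn hX hc]; norm_num
  obtain ⟨hZcard, hQcard, -⟩ := card_center_of_maximal_class (p := 2) n hn hX hc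
  obtain ⟨C, hCcyc, hCidx⟩ := exists_cyclic_index_two_of_index_commutator n X hn hX hidx
  haveI hCn : C.Normal := Subgroup.normal_of_index_eq_two hCidx
  obtain ⟨x, hxC⟩ : ∃ x : X, x ∉ C := by
    by_contra hall
    push Not at hall
    have : C = ⊤ := by rw [eq_top_iff]; intro y _; exact hall y
    rw [this, Subgroup.index_top] at hCidx
    omega
  have hZ0 := card_inf_centralizer_of_index_commutator hidx C hCcyc hCidx x hxC
  set Z := Subgroup.center X with hZ
  have hZeq : C ⊓ Subgroup.centralizer {x} = Z := by
    apply Subgroup.eq_of_le_of_card_ge (inf_centralizer_le_center C hCidx x hxC)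
    rw [hZ0, hZcard]
  have hZC : Z ≤ C := by rw [← hZeq]; exact inf_le_left
  obtain ⟨g, hg⟩ := hCcyc.exists_generator
  set c : X := (g : X) with hcdef
  have hcC : c ∈ C := g.2
  have hCeq : C = Subgroup.zpowers c := by
    apply le_antisymm
    · intro u hu
      obtain ⟨i, hi⟩ := Subgroup.mem_zpowers_iff.mp (hg ⟨u, hu⟩)
      have := congrArg Subtype.val hi
      simp only [Subgroup.coe_zpow] at this
      rw [← this]
      exact Subgroup.zpow_mem_zpowers c i
    · exact (Subgroup.zpowers_le).mpr hcC
  set π := QuotientGroup.mk' Z with hπ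
  have hCcard : Nat.card C = 2 ^ (n - 1) := by
    have h2 := Subgroup.card_mul_index C
    rw [hCidx, hX] at h2
    have h3 : (2 : ℕ) ^ n = 2 ^ (n - 1) * 2 := by rw [← pow_succ]; congr 1; omega
    rw [h3] at h2
    exact Nat.eq_of_mul_eq_mul_right (by norm_num) h2
  have hcord : orderOf (π c) = 2 ^ (n - 2) := by
    have h1 := card_map_mk'_mul Z C hZC
    rw [hZcard, hCcard] at h1
    have h2 : (2 : ℕ) ^ (n - 1) = 2 ^ (n - 2) * 2 := by rw [← pow_succ]; congr 1; omega
    rw [h2] at h1
    have h3 := Nat.eq_of_mul_eq_mul_right (by norm_num) h1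
    rw [← Nat.card_zpowers, ← MonoidHom.map_zpowers, ← hCeq]
    exact h3
  have hxsq : π (x ^ 2) = 1 :=
    (QuotientGroup.eq_one_iff _).mpr (sq_mem_center_of_index_two C hCidx x hxC)
  have hxcC : x * c ∉ C := by
    intro h
    apply hxC
    have := C.mul_mem h (C.inv_mem hcC)
    rwa [mul_inv_cancel_right] at this
  have hxcsq : π ((x * c) ^ 2) = 1 :=
    (QuotientGroup.eq_one_iff _).mpr (sq_mem_center_of_index_two C hCidx (x * c) hxcC)
  have hx2 : orderOf (π x) = 2 := by
    apply orderOf_eq_prime
    · rw [← map_pow]; exact hxsq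
    · intro h
      exact hxC (hZC ((QuotientGroup.eq_one_iff x).mp h))
  have hy2 : orderOf (π (x * c)) = 2 := by
    apply orderOf_eq_prime
    · rw [← map_pow]; exact hxcsq
    · intro h
      exact hxcC (hZC ((QuotientGroup.eq_one_iff (x * c)).mp h))
  have hprod : π x * π (x * c) = π c := by
    rw [← map_mul, ← mul_assoc, ← sq, map_mul, hxsq, one_mul]
  have hne : orderOf (π x * π (x * c)) ≠ 0 := by
    rw [hprod, hcord]; positivity
  obtain ⟨e⟩ := Cfsg.Agent.Lib.Helper1.DihedralIso.closure_equiv_dihedral (π x) (π (x * c))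
    hx2 hy2 hne
  rw [hprod, hcord] at e
  have hcl : Subgroup.closure ({π x, π (x * c)} : Set (X ⧸ Z)) = ⊤ := by
    apply Subgroup.eq_top_of_card_eq
    rw [Nat.card_congr e.toEquiv, DihedralGroup.nat_card, hQcard]
    have h2 : (2 : ℕ) ^ (n - 1) = 2 ^ (n - 2) * 2 := by rw [← pow_succ]; congr 1; omega
    rw [h2, mul_comm]
  exact ⟨(Subgroup.topEquiv.symm.trans (MulEquiv.subgroupCongr hcl.symm)).trans e⟩

end

end Cfsg.Agent.Lib.Lead
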