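import Mathlib
import Cfsg.Agent.Lib.Lead.MaxClass7
import Cfsg.Agent.S0051

set_option autoImplicit false
open Pointwise

namespace Cfsg.Agent.Lib.Lead

universe u

section
variable {G : Type u} [Group G]

/-- in a nilpotent group, `[H, G] = H` forces `H = 1` -/
theorem eq_bot_of_commutator_top_eq [Group.IsNilpotent G] (H : Subgroup G)
    (h : ⁅H, (⊤ : Subgroup G)⁆ = H) : H = ⊥ := by
  obtain ⟨n, hn⟩ := Subgroup.nilpotent_iff_lowerCentralSeries.mp (inferInstance : Group.IsNilpotent G)
  have key : ∀ m : ℕ, H ≤ Subgroup.lowerCentralSeries (⊤ : Subgroup G) m := by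
    intro m
    induction m with
    | zero => exact le_top
    | succ m ih =>
      rw [Subgroup.lowerCentralSeries_succ]
      calc H = ⁅H, (⊤ : Subgroup G)⁆ := h.symm
        _ ≤ ⁅Subgroup.lowerCentralSeries (⊤ : Subgroup G) m, ⊤⁆ := Subgroup.commutator_mono ih le_rfl
  have := key n
  rw [hn] at this
  exact le_bot_iff.mp this

/-- the image of the Frattini subgroup lies in the Frattini subgroup of the image -/
theorem map_frattini_le {H : Type*} [Group H] (f : G →* H) (hf : Function.Surjective f) :
    (frattini G).map f ≤ frattini H := by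
  rw [Subgroup.map_le_iff_le_comap]
  exact frattini_le_comap_frattini_of_surjective hf

/-- the index of `O^p(G)` is a power of `p` -/
theorem pResidual_index [Finite G] (p : ℕ) [hp : Fact p.Prime] :
    ∃ k : ℕ, (Cfsg.pResidual p G).index = p ^ k := by
  haveI : (Cfsg.pResidual p G).Normal := pResidual_normal p
  have hq : IsPGroup p (G ⧸ Cfsg.pResidual p G) := by
    intro x
    obtain ⟨g, rfl⟩ := QuotientGroup.mk_surjective x
    obtain ⟨u, v, huv, hu, hv, ⟨k, hk⟩, hcop⟩ := exists_ppart_decomp' p g
    refine ⟨k, ?_⟩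
    have hv' : v ∈ Cfsg.pResidual p G := mem_pResidual_of_coprime hcop
    have h1 : (QuotientGroup.mk g : G ⧸ Cfsg.pResidual p G) = QuotientGroup.mk u := by
      rw [huv, QuotientGroup.mk_mul, (QuotientGroup.eq_one_iff v).mpr hv', mul_one]
    rw [h1, ← QuotientGroup.mk_pow, hk, QuotientGroup.mk_one]
  rw [Subgroup.index_eq_card]
  exact IsPGroup.iff_card.mp hq

end

end Cfsg.Agent.Lib.Lead
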