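import Mathlib
import Cfsg.Agent.Lib.Lead.TateA

set_option autoImplicit false
open Pointwise
open scoped commutatorElement

namespace Cfsg.Agent.Lib.Lead

universe u

namespace Tate

variable {G : Type u} [Group G] {p : ℕ} (P : Subgroup G)

/-- `R = P ∩ O^p(G)` inside `P` -/
def R : Subgroup P := (Cfsg.pResidual p G).subgroupOf P

instance R_normal : (R (p := p) P).Normal := by
  haveI : (Cfsg.pResidual p G).Normal := pResidual_normal p
  exact Subgroup.Normal.subgroupOf inferInstance P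

/-- `R₂ = [R, P]` inside `P` -/
def R2 : Subgroup P := ⁅R (p := p) P, (⊤ : Subgroup P)⁆

instance R2_normal : (R2 (p := p) P).Normal := by
  unfold R2; infer_instance

theorem R2_le_R : R2 (p := p) P ≤ R (p := p) P := Subgroup.commutator_le_left _ _

/-- the quotient `P / [R, P]` -/
abbrev E := P ⧸ R2 (p := p) P

/-- the pullback `G ×_{G/K} E` -/
def Gt : Subgroup (G × E (p := p) P) where
  carrier := {t | ∃ x : P, QuotientGroup.mk' (R2 (p := p) P) x = t.2 ∧
    (x : G)⁻¹ * t.1 ∈ Cfsg.pResidual p G}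
  one_mem' := ⟨1, by simp, by simp⟩
  mul_mem' := by
    haveI hKn : (Cfsg.pResidual p G).Normal := pResidual_normal p
    rintro ⟨g₁, e₁⟩ ⟨g₂, e₂⟩ ⟨x₁, hx₁, hk₁⟩ ⟨x₂, hx₂, hk₂⟩
    refine ⟨x₁ * x₂, by simp only [map_mul, Prod.snd_mul]; rw [hx₁, hx₂], ?_⟩
    simp only [Prod.fst_mul, Subgroup.coe_mul, mul_inv_rev] at hk₁ hk₂ ⊢
    have h1 : ((x₂ : G)⁻¹ * (x₁ : G)⁻¹) * (g₁ * g₂) =
        ((x₂ : G)⁻¹ * ((x₁ : G)⁻¹ * g₁) * ((x₂ : G)⁻¹)⁻¹) * ((x₂ : G)⁻¹ * g₂) := by group
    rw [h1]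
    exact Subgroup.mul_mem _ (hKn.conj_mem _ hk₁ _) hk₂
  inv_mem' := by
    haveI hKn : (Cfsg.pResidual p G).Normal := pResidual_normal p
    rintro ⟨g, e⟩ ⟨x, hx, hk⟩
    refine ⟨x⁻¹, by simp only [map_inv, Prod.snd_inv]; rw [hx], ?_⟩
    simp only [Prod.fst_inv, Subgroup.coe_inv, inv_inv] at hk ⊢
    have h1 : (x : G) * g⁻¹ = g * ((x : G)⁻¹ * g)⁻¹ * g⁻¹ := by group
    rw [h1]
    exact hKn.conj_mem _ (Subgroup.inv_mem _ hk) _

theorem mem_Gt (t : G × E (p := p) P) : t ∈ Gt (p := p) P ↔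
    ∃ x : P, QuotientGroup.mk' (R2 (p := p) P) x = t.2 ∧
      (x : G)⁻¹ * t.1 ∈ Cfsg.pResidual p G := Iff.rfl

/-- first projection -/
def f : Gt (p := p) P →* G := (MonoidHom.fst G (E (p := p) P)).comp (Gt (p := p) P).subtype

/-- second projection -/
def s : Gt (p := p) P →* E (p := p) P :=
  (MonoidHom.snd G (E (p := p) P)).comp (Gt (p := p) P).subtype

theorem f_apply (t : Gt (p := p) P) : f P t = (t : G × E (p := p) P).1 := rfl
theorem s_apply (t : Gt (p := p) P) : s P t = (t : G × E (p := p) P).2 := rfl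

/-- the diagonal embedding of `P` -/
def δ : P →* Gt (p := p) P where
  toFun x := ⟨((x : G), QuotientGroup.mk' (R2 (p := p) P) x), ⟨x, rfl, by simp [Subgroup.one_mem]⟩⟩
  map_one' := by apply Subtype.ext; simp
  map_mul' x y := by apply Subtype.ext; simp

theorem f_δ (x : P) : f P (δ (p := p) P x) = (x : G) := rfl
theorem s_δ (x : P) : s P (δ (p := p) P x) = QuotientGroup.mk' (R2 (p := p) P) x := rfl

/-- the embedding of `K = O^p(G)` -/
def ι : Cfsg.pResidual p G →* Gt (p := p) P where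
  toFun k := ⟨((k : G), 1), ⟨1, by simp, by simpa using k.2⟩⟩
  map_one' := by apply Subtype.ext; simp
  map_mul' x y := by apply Subtype.ext; simp

theorem f_ι (k : Cfsg.pResidual p G) : f P (ι (p := p) P k) = (k : G) := rfl
theorem s_ι (k : Cfsg.pResidual p G) : s P (ι (p := p) P k) = 1 := rfl

theorem ι_injective : Function.Injective (ι (p := p) P) := by
  intro a b hab
  have := congrArg (f P) hab
  rw [f_ι, f_ι] at this
  exact Subtype.ext this

/-- an element is determined by its two projections -/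
theorem ext_fs {t u : Gt (p := p) P} (h1 : f P t = f P u) (h2 : s P t = s P u) : t = u := by
  apply Subtype.ext
  exact Prod.ext h1 h2

/-- elements of the image of `R` in `E` are central -/
theorem mk_R_central (x : P) (hx : x ∈ R (p := p) P) (e : E (p := p) P) :
    QuotientGroup.mk' (R2 (p := p) P) x * e = e * QuotientGroup.mk' (R2 (p := p) P) x := by
  obtain ⟨y, rfl⟩ := QuotientGroup.mk'_surjective (R2 (p := p) P) e
  have h1 : ⁅x, y⁆ ∈ R2 (p := p) P :=
    Subgroup.commutator_mem_commutator hx (Subgroup.mem_top y)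
  have h2 : QuotientGroup.mk' (R2 (p := p) P) ⁅x, y⁆ = 1 := (QuotientGroup.eq_one_iff _).mpr h1
  rw [commutatorElement_def, map_mul, map_mul, map_mul, map_inv, map_inv] at h2
  have h3 := mul_inv_eq_one.mp h2
  exact mul_inv_eq_iff_eq_mul.mp h3

/-- the second coordinate of an element of `ker f` comes from `R` -/
theorem s_of_mem_ker (t : Gt (p := p) P) (ht : t ∈ (f P).ker) :
    ∃ x : P, x ∈ R (p := p) P ∧ QuotientGroup.mk' (R2 (p := p) P) x = s P t := by
  obtain ⟨x, hx1, hx2⟩ := t.2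
  have h1 : (t : G × E (p := p) P).1 = 1 := ht
  rw [h1, mul_one] at hx2
  refine ⟨x, ?_, hx1⟩
  change (x : G) ∈ Cfsg.pResidual p G
  have := Subgroup.inv_mem _ hx2
  rwa [inv_inv] at this

theorem ker_f_le_center : (f (p := p) P).ker ≤ Subgroup.center (Gt (p := p) P) := by
  intro t ht
  obtain ⟨x, hxR, hxs⟩ := s_of_mem_ker P t ht
  rw [Subgroup.mem_center_iff]
  intro u
  apply ext_fs
  · rw [map_mul, map_mul, (MonoidHom.mem_ker).mp ht, mul_one, one_mul]
  · rw [map_mul, map_mul, ← hxs]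
    exact (mk_R_central P x hxR (s P u)).symm

end Tate

end Cfsg.Agent.Lib.Lead
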