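import Mathlib
import Cfsg.Agent.Lib.Lead.TateB

set_option autoImplicit false
open Pointwise
open scoped commutatorElement

namespace Cfsg.Agent.Lib.Lead

universe u

namespace Tate

variable {G : Type u} [Group G] [Finite G] {p : ℕ} [hp : Fact p.Prime] (P : Sylow p G)

theorem f_surjective : Function.Surjective (f (p := p) (P : Subgroup G)) := by
  haveI hKn : (Cfsg.pResidual p G).Normal := pResidual_normal p
  intro g
  have htop : (P : Subgroup G) ⊔ Cfsg.pResidual p G = ⊤ :=
    sup_eq_top_of_coprime_index _ _ P.not_dvd_index (pResidual_index p)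
  have hg : g ∈ (P : Subgroup G) ⊔ Cfsg.pResidual p G := by rw [htop]; exact Subgroup.mem_top g
  rw [← SetLike.mem_coe, Subgroup.mul_normal] at hg
  obtain ⟨x, hx, k, hk, rfl⟩ := hg
  refine ⟨⟨(x * k, QuotientGroup.mk' (R2 (p := p) (P : Subgroup G)) ⟨x, hx⟩), ⟨⟨x, hx⟩, rfl, ?_⟩⟩, rfl⟩
  simpa using hk

theorem isPGroup_ker_f : IsPGroup p (f (p := p) (P : Subgroup G)).ker := by
  have hE : IsPGroup p (E (p := p) (P : Subgroup G)) := P.2.to_quotient _
  intro t
  obtain ⟨k, hk⟩ := hE (s (P : Subgroup G) (t : Gt (p := p) (P : Subgroup G)))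
  refine ⟨k, ?_⟩
  apply Subtype.ext
  apply ext_fs
  · have : f (P : Subgroup G) (t : Gt (p := p) (P : Subgroup G)) = 1 := t.2
    simp only [Subgroup.coe_pow, map_pow, this, one_pow, Subgroup.coe_one, map_one]
  · simp only [Subgroup.coe_pow, map_pow, hk, Subgroup.coe_one, map_one]

/-- Gaschütz gives a complement to the central kernel -/
theorem exists_complement_ker_f :
    ∃ H₀ : Subgroup (Gt (p := p) (P : Subgroup G)),
      Subgroup.IsComplement' (f (p := p) (P : Subgroup G)).ker H₀ := by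
  classical
  set fP := f (p := p) (P : Subgroup G) with hfP
  haveI hcomm : IsMulCommutative fP.ker := by
    refine ⟨⟨fun a b => ?_⟩⟩
    apply Subtype.ext
    have := Subgroup.mem_center_iff.mp (ker_f_le_center (P : Subgroup G) b.2) (a : Gt (p := p) (P : Subgroup G))
    simpa using this
  apply Cfsg.Agent.S0051.result fP.ker ((P : Subgroup G).comap fP) ?_ ?_
    (δ (p := p) (P : Subgroup G)).range ?_ ?_ ?_
  · intro t ht
    rw [Subgroup.mem_comap, (MonoidHom.mem_ker).mp ht]
    exact Subgroup.one_mem _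
  · rw [Subgroup.index_comap_of_surjective _ (f_surjective P)]
    obtain ⟨k, hk⟩ := IsPGroup.iff_card.mp (isPGroup_ker_f P)
    rw [hk]
    exact Nat.Coprime.pow_left k ((Nat.Prime.coprime_iff_not_dvd hp.out).mpr P.not_dvd_index)
  · rintro _ ⟨x, rfl⟩
    rw [Subgroup.mem_comap, hfP, f_δ]
    exact x.2
  · rw [eq_bot_iff]
    rintro t ⟨⟨x, rfl⟩, ht2⟩
    have h1 : fP (δ (P : Subgroup G) x) = 1 := ht2
    rw [hfP, f_δ] at h1
    have hx1 : x = 1 := Subtype.ext h1
    rw [hx1, map_one]
    exact Subgroup.mem_bot.mpr rfl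
  · apply le_antisymm
    · apply sup_le
      · intro t ht
        rw [Subgroup.mem_comap, (MonoidHom.mem_ker).mp ht]
        exact Subgroup.one_mem _
      · rintro _ ⟨x, rfl⟩
        rw [Subgroup.mem_comap, hfP, f_δ]
        exact x.2
    · intro t ht
      rw [Subgroup.mem_comap] at ht
      have h1 : t = (t * (δ (P : Subgroup G) ⟨fP t, ht⟩)⁻¹) * δ (P : Subgroup G) ⟨fP t, ht⟩ := by
        group
      rw [h1]
      apply Subgroup.mul_mem_sup
      · rw [MonoidHom.mem_ker, map_mul, map_inv]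
        have : fP (δ (P : Subgroup G) ⟨fP t, ht⟩) = fP t := rfl
        rw [this, mul_inv_cancel]
      · exact ⟨_, rfl⟩

end Tate

end Cfsg.Agent.Lib.Lead
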