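import Mathlib
import Cfsg.Agent.Lib.Lead.TateC

set_option autoImplicit false
open Pointwise
open scoped commutatorElement

namespace Cfsg.Agent.Lib.Lead

universe u

namespace Tate

variable {G : Type u} [Group G] [Finite G] {p : ℕ} [hp : Fact p.Prime] (P : Sylow p G)

/-- decomposition of an element along a complement of the kernel -/
theorem exists_decomp (H₀ : Subgroup (Gt (p := p) (P : Subgroup G)))
    (hc : Subgroup.IsComplement' (f (p := p) (P : Subgroup G)).ker H₀)
    (t : Gt (p := p) (P : Subgroup G)) :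
    ∃ c ∈ (f (p := p) (P : Subgroup G)).ker, ∃ h ∈ H₀, t = c * h := by
  have htop := hc.sup_eq_top
  have ht : t ∈ (f (p := p) (P : Subgroup G)).ker ⊔ H₀ := by rw [htop]; exact Subgroup.mem_top t
  rw [← SetLike.mem_coe, Subgroup.normal_mul] at ht
  obtain ⟨c, hc', h, hh, rfl⟩ := ht
  exact ⟨c, hc', h, hh, rfl⟩

theorem complement_normal (H₀ : Subgroup (Gt (p := p) (P : Subgroup G)))
    (hc : Subgroup.IsComplement' (f (p := p) (P : Subgroup G)).ker H₀) : H₀.Normal := by
  refine ⟨fun n hn t => ?_⟩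
  obtain ⟨c, hcK, h, hh, rfl⟩ := exists_decomp P H₀ hc t
  have hcen := Subgroup.mem_center_iff.mp (ker_f_le_center (P : Subgroup G) hcK)
  have h1 : c * h * n * (c * h)⁻¹ = h * n * h⁻¹ := by
    have h2 : c * h * n * (c * h)⁻¹ = c * (h * n * h⁻¹) * c⁻¹ := by group
    rw [h2, ← hcen (h * n * h⁻¹), mul_inv_cancel_right]
  rw [h1]
  exact H₀.mul_mem (H₀.mul_mem hh hn) (H₀.inv_mem hh)

/-- the image of `O^p(G)` lies in every complement of the kernel -/
theorem ι_mem_complement (H₀ : Subgroup (Gt (p := p) (P : Subgroup G)))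
    (hc : Subgroup.IsComplement' (f (p := p) (P : Subgroup G)).ker H₀)
    (k : Cfsg.pResidual p G) : ι (p := p) (P : Subgroup G) k ∈ H₀ := by
  haveI := complement_normal P H₀ hc
  have hidx : ∃ j : ℕ, H₀.index = p ^ j := by
    rw [hc.index_eq_card]
    exact IsPGroup.iff_card.mp (isPGroup_ker_f P)
  obtain ⟨k, hk⟩ := k
  induction hk using Subgroup.closure_induction with
  | mem y hy =>
    apply mem_of_coprime_orderOf H₀ hidx
    rw [orderOf_injective (ι (p := p) (P : Subgroup G)) (ι_injective (P : Subgroup G)),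
      ← Subgroup.orderOf_coe]
    exact hy
  | one =>
    have : (⟨1, Subgroup.one_mem _⟩ : Cfsg.pResidual p G) = 1 := rfl
    rw [this, map_one]; exact H₀.one_mem
  | mul a b ha hb iha ihb =>
    have : (⟨a * b, Subgroup.mul_mem _ ha hb⟩ : Cfsg.pResidual p G) = ⟨a, ha⟩ * ⟨b, hb⟩ := rfl
    rw [this, map_mul]; exact H₀.mul_mem iha ihb
  | inv a ha iha =>
    have : (⟨a⁻¹, Subgroup.inv_mem _ ha⟩ : Cfsg.pResidual p G) = ⟨a, ha⟩⁻¹ := rfl
    rw [this, map_inv]; exact H₀.inv_mem iha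

/-- **key step of Tate's theorem**: `P ∩ O^p(G) ≤ Φ(P)` forces `P ∩ O^p(G) = [P ∩ O^p(G), P]` -/
theorem R_le_R2 (hfr : R (p := p) (P : Subgroup G) ≤ frattini (P : Subgroup G)) :
    R (p := p) (P : Subgroup G) ≤ R2 (p := p) (P : Subgroup G) := by
  classical
  obtain ⟨H₀, hc⟩ := exists_complement_ker_f P
  set π := QuotientGroup.mk' (R2 (p := p) (P : Subgroup G)) with hπ
  have hπs : Function.Surjective π := QuotientGroup.mk'_surjective _
  set C := (R (p := p) (P : Subgroup G)).map π with hC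
  set E₀ := H₀.map (s (p := p) (P : Subgroup G)) with hE₀
  have hsup : E₀ ⊔ C = ⊤ := by
    rw [eq_top_iff]
    intro e _
    obtain ⟨x, rfl⟩ := hπs e
    obtain ⟨c, hcK, h, hh, hch⟩ := exists_decomp P H₀ hc (δ (P : Subgroup G) x)
    have h1 : π x = s (P : Subgroup G) c * s (P : Subgroup G) h := by
      rw [← map_mul, ← hch, s_δ]
    rw [h1]
    obtain ⟨r, hrR, hrs⟩ := s_of_mem_ker (P : Subgroup G) c hcK
    have h2 : s (P : Subgroup G) c ∈ C := by rw [← hrs]; exact Subgroup.mem_map_of_mem π hrR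
    have h3 : s (P : Subgroup G) h ∈ E₀ := Subgroup.mem_map_of_mem _ hh
    exact Subgroup.mul_mem _ (Subgroup.mem_sup_right h2) (Subgroup.mem_sup_left h3)
  have hCfr : C ≤ frattini (E (p := p) (P : Subgroup G)) :=
    (Subgroup.map_mono hfr).trans (map_frattini_le π hπs)
  have hE₀top : E₀ = ⊤ := by
    apply frattini_nongenerating
    rw [eq_top_iff, ← hsup]
    exact sup_le_sup_left hCfr _
  have hinf : ∀ e ∈ C, e ∈ E₀ → e = 1 := by
    intro e heC heE
    obtain ⟨r, hrR, rfl⟩ := Subgroup.mem_map.mp heC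
    obtain ⟨h, hh, hhe⟩ := Subgroup.mem_map.mp heE
    obtain ⟨x, hx1, hx2⟩ := h.2
    -- `f h ∈ K`
    have hx1' : π x = π r := by rw [hx1]; exact hhe
    have h1 : r⁻¹ * x ∈ R2 (p := p) (P : Subgroup G) := by
      apply (QuotientGroup.eq_one_iff (N := R2 (p := p) (P : Subgroup G)) _).mp
      change π (r⁻¹ * x) = 1
      rw [map_mul, map_inv, hx1', inv_mul_cancel]
    have h2 : r⁻¹ * x ∈ R (p := p) (P : Subgroup G) := R2_le_R (P : Subgroup G) h1
    have h3 : x ∈ R (p := p) (P : Subgroup G) := by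
      have := Subgroup.mul_mem _ hrR h2
      rwa [mul_inv_cancel_left] at this
    have h4 : (x : G) ∈ Cfsg.pResidual p G := h3
    have h5 : f (P : Subgroup G) h ∈ Cfsg.pResidual p G := by
      have := Subgroup.mul_mem _ h4 hx2
      rwa [mul_inv_cancel_left] at this
    -- the element `(1, π r)`
    have h6 : (ι (P : Subgroup G) ⟨f (P : Subgroup G) h, h5⟩)⁻¹ * h ∈ H₀ :=
      H₀.mul_mem (H₀.inv_mem (ι_mem_complement P H₀ hc _)) hh
    have h7 : (ι (P : Subgroup G) ⟨f (P : Subgroup G) h, h5⟩)⁻¹ * h ∈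
        (f (p := p) (P : Subgroup G)).ker := by
      rw [MonoidHom.mem_ker, map_mul, map_inv, f_ι, inv_mul_cancel]
    have h8 := (Subgroup.disjoint_def.mp hc.disjoint) h7 h6
    have h9 := congrArg (s (P : Subgroup G)) h8
    rw [map_mul, map_inv, s_ι, inv_one, one_mul, map_one, hhe] at h9
    exact h9
  intro r hrR
  have h1 : π r ∈ C := Subgroup.mem_map_of_mem π hrR
  have h2 := hinf (π r) h1 (by rw [hE₀top]; exact Subgroup.mem_top _)
  exact (QuotientGroup.eq_one_iff r).mp h2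

/-- **Tate's theorem**: if `P ∩ O^p(G) ≤ Φ(P)` then `P ∩ O^p(G) = 1` -/
theorem R_eq_bot (hfr : R (p := p) (P : Subgroup G) ≤ frattini (P : Subgroup G)) :
    R (p := p) (P : Subgroup G) = ⊥ := by
  haveI : Group.IsNilpotent (P : Subgroup G) := P.2.isNilpotent
  apply eq_bot_of_commutator_top_eq
  exact le_antisymm (R2_le_R (P : Subgroup G)) (R_le_R2 P hfr)

end Tate

end Cfsg.Agent.Lib.Lead
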