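import Mathlib
import Cfsg.Agent.Lib.Lead.TateD

set_option autoImplicit false
open Pointwise

namespace Cfsg.Agent.Lib.Lead

universe u

section
variable {G : Type u} [Group G] [Finite G] {p : ℕ} [hp : Fact p.Prime]

/-- `PLocalCentral` passes to groups embedding in `G` -/
theorem PLocalCentral.of_injective {H : Type u} [Group H] (φ : H →* G)
    (hφ : Function.Injective φ) (h : PLocalCentral p G) : PLocalCentral p H := by
  intro D hD g hg hcop
  have hD' : IsPGroup p (D.map φ) := hD.map _
  have hg' : φ g ∈ Subgroup.normalizer ((D.map φ : Subgroup G) : Set G) := by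
    apply mem_normalizer_of_conj_mem
    intro k hk
    obtain ⟨d, hd, rfl⟩ := Subgroup.mem_map.mp hk
    exact Subgroup.mem_map.mpr ⟨g * d * g⁻¹, (Subgroup.mem_normalizer_iff.mp hg d).mp hd, by simp⟩
  have hord : orderOf (φ g) = orderOf g := orderOf_injective φ hφ g
  have h1 := h (D.map φ) hD' (φ g) hg' (by rw [hord]; exact hcop)
  rw [Subgroup.mem_centralizer_iff] at h1 ⊢
  intro d hd
  have h2 := h1 (φ d) (Subgroup.mem_map_of_mem φ hd)
  apply hφ
  rw [map_mul, map_mul]; exact h2

theorem hasNormalPComplement_of_R_eq_bot (P : Sylow p G)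
    (h : Tate.R (p := p) (P : Subgroup G) = ⊥) : Cfsg.HasNormalPComplement p G := by
  haveI hKn : (Cfsg.pResidual p G).Normal := pResidual_normal p
  refine ⟨P, Cfsg.pResidual p G, hKn, ?_⟩
  have hdisj : Disjoint (Cfsg.pResidual p G) (P : Subgroup G) := by
    rw [Subgroup.disjoint_def]
    intro x hxK hxP
    have h1 : (⟨x, hxP⟩ : (P : Subgroup G)) ∈ Tate.R (p := p) (P : Subgroup G) := hxK
    rw [h, Subgroup.mem_bot] at h1
    exact congrArg Subtype.val h1
  apply Subgroup.isComplement'_of_card_mul_and_disjoint _ hdisj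
  have htop : (P : Subgroup G) ⊔ Cfsg.pResidual p G = ⊤ :=
    sup_eq_top_of_coprime_index _ _ P.not_dvd_index (pResidual_index p)
  have h1 := card_sup_mul_card_inf (P : Subgroup G) (Cfsg.pResidual p G) (by
    rw [Subgroup.normalizer_eq_top_iff.mpr hKn]; exact le_top)
  rw [htop, Subgroup.card_top, inf_comm, hdisj.eq_bot, Subgroup.card_bot, mul_one] at h1
  rw [h1, mul_comm]

/-- **Tate's theorem.** -/
theorem tate (P : Sylow p G) (N : Subgroup G) [hNn : N.Normal]
    (h : N ⊓ (P : Subgroup G) ≤ (frattini (P : Subgroup G)).map (P : Subgroup G).subtype) :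
    Cfsg.HasNormalPComplement p N := by
  classical
  set L : Subgroup G := (P : Subgroup G) ⊔ N with hL
  have hPL : (P : Subgroup G) ≤ L := le_sup_left
  have hNL : N ≤ L := le_sup_right
  set PL : Sylow p L := P.subtype hPL with hPLdef
  have hidx : ∃ k : ℕ, (N.subgroupOf L).index = p ^ k := by
    have h1 : N.relIndex L = N.relIndex (P : Subgroup G) :=
      relIndex_sup_of_le_normalizer _ N (by
        rw [Subgroup.normalizer_eq_top_iff.mpr hNn]; exact le_top)
    have h2 : N.relIndex (P : Subgroup G) ∣ Nat.card (P : Subgroup G) :=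
      Subgroup.index_dvd_card _
    obtain ⟨n, hn⟩ := IsPGroup.iff_card.mp P.2
    rw [hn] at h2
    obtain ⟨k, -, hk⟩ := (Nat.dvd_prime_pow hp.out).mp h2
    exact ⟨k, by rw [← hk, ← h1]; rfl⟩
  haveI : (N.subgroupOf L).Normal := hNn.subgroupOf L
  have hKN : Cfsg.pResidual p L ≤ N.subgroupOf L := by
    unfold Cfsg.pResidual
    rw [Subgroup.closure_le]
    intro g hg
    exact mem_of_coprime_orderOf (N.subgroupOf L) hidx g hg
  have hfr : Tate.R (p := p) (PL : Subgroup L) ≤ frattini (PL : Subgroup L) := by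
    intro r hr
    have hrK : (r : L) ∈ Cfsg.pResidual p L := hr
    have hrN : ((r : L) : G) ∈ N := hKN hrK
    have hrP : ((r : L) : G) ∈ (P : Subgroup G) := r.2
    obtain ⟨y, hy, hyr⟩ := Subgroup.mem_map.mp (h ⟨hrN, hrP⟩)
    let ε : ↥((P : Subgroup G).subgroupOf L) ≃* ↥(P : Subgroup G) :=
      Subgroup.subgroupOfEquivOfLe hPL
    have h3 : (frattini (P : Subgroup G)).map (ε.symm : ↥(P : Subgroup G) →* _) ≤
        frattini ((P : Subgroup G).subgroupOf L) := map_frattini_le _ ε.symm.surjective
    have h4 : ε.symm y = r := by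
      apply Subtype.ext; apply Subtype.ext; exact hyr
    rw [← h4]
    exact h3 (Subgroup.mem_map_of_mem _ hy)
  have hR := Tate.R_eq_bot PL hfr
  have hL1 : Cfsg.HasNormalPComplement p L := hasNormalPComplement_of_R_eq_bot PL hR
  have hL2 : PLocalCentral p L := hasNormalPComplement_iff_plocalCentral.mp hL1
  have hN2 : PLocalCentral p N :=
    PLocalCentral.of_injective (Subgroup.inclusion hNL) (Subgroup.inclusion_injective hNL) hL2
  exact hasNormalPComplement_iff_plocalCentral.mpr hN2

end

end Cfsg.Agent.Lib.Lead
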