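import Mathlib
import Cfsg.Agent.Lib.Lead.TateE
import Cfsg.Agent.Lib.Lead.AbelianSylowB
import Cfsg.Agent.Lib.Lead.CoprimeAction

set_option autoImplicit false
open Pointwise
open scoped commutatorElement IsMulCommutative

namespace Cfsg.Agent.Lib.Lead

universe u

section
variable {G : Type u} [Group G]

/-- `O^p(O^p(G)) = O^p(G)` -/
theorem pResidual_self_eq_top (p : ℕ) : Cfsg.pResidual p ↥(Cfsg.pResidual p G) = ⊤ := by
  have hle : Cfsg.pResidual p G ≤
      (Cfsg.pResidual p ↥(Cfsg.pResidual p G)).map (Cfsg.pResidual p G).subtype := by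
    conv_lhs => unfold Cfsg.pResidual
    rw [Subgroup.closure_le]
    intro g hg
    have hgK : g ∈ Cfsg.pResidual p G := Subgroup.subset_closure hg
    refine ⟨⟨g, hgK⟩, ?_, rfl⟩
    apply Subgroup.subset_closure
    change Nat.Coprime (orderOf (⟨g, hgK⟩ : ↥(Cfsg.pResidual p G))) p
    rw [Subgroup.orderOf_mk]
    exact hg
  rw [eq_top_iff]
  intro x _
  obtain ⟨y, hy, hyx⟩ := hle x.2
  have : y = x := Subtype.ext hyx
  rw [← this]
  exact hy

/-- in a group `X = O^p(X)` with abelian Sylow `p`-subgroup `Q`, a `p'`-complement `A` of `Q` in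
`N_X(Q)` acts on `Q` without fixed points -/
theorem exists_fpf_complement_in_normalizer {X : Type u} [Group X] [Finite X] {p : ℕ}
    [Fact p.Prime] (hX : Cfsg.pResidual p X = ⊤) (Q : Sylow p X)
    (hQc : IsMulCommutative (Q : Subgroup X)) :
    ∃ A : Subgroup X, A ≤ Subgroup.normalizer ((Q : Subgroup X) : Set X) ∧
      (Nat.card A).Coprime p ∧
      (Q : Subgroup X) ⊔ A = Subgroup.normalizer ((Q : Subgroup X) : Set X) ∧
      (Q : Subgroup X) ⊓ A = ⊥ ∧ (Q : Subgroup X) ⊓ Subgroup.centralizer (A : Set X) = ⊥ := by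
  obtain ⟨A, hAN, hAp, hsup, hinf⟩ := exists_complement_in_normalizer Q
  refine ⟨A, hAN, hAp, hsup, hinf, ?_⟩
  rw [eq_bot_iff]
  rintro c ⟨hcQ, hcA⟩
  have h1 := mem_centralizer_normalizer_of_fixed Q A hsup c hcQ hcA
  have h2 : c ∈ Cfsg.pResidual p X := by rw [hX]; exact Subgroup.mem_top c
  exact Subgroup.mem_bot.mpr (eq_one_of_mem_pResidual_of_central Q c hcQ h1 h2)

end

end Cfsg.Agent.Lib.Lead
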