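import Mathlib
import Cfsg.Agent.Lib.Lead.AbelianResidual1

set_option autoImplicit false
open Pointwise
open scoped commutatorElement IsMulCommutative

namespace Cfsg.Agent.Lib.Lead

universe u

section
variable {G : Type u} [Group G] [Finite G] {p : ℕ} [hp : Fact p.Prime]

theorem exists_complement_of_fpf (K Q H : Subgroup G) [hKn : K.Normal] (hQK : Q ≤ K)
    (hHK : H ≤ K) (hQp : IsPGroup p Q)
    (hQmax : ∀ X : Subgroup G, IsPGroup p X → Q ≤ X → X ≤ K → X = Q)
    (hHN : H ≤ Subgroup.normalizer (Q : Set G)) (hHp : (Nat.card H).Coprime p)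
    (hNK : Subgroup.normalizer (Q : Set G) ⊓ K ≤ Q ⊔ H)
    (hfpf : Q ⊓ Subgroup.centralizer (H : Set G) = ⊥)
    (hKidx : ∃ k : ℕ, K.index = p ^ k) : ∃ T : Subgroup G, T.IsComplement' K := by
  classical
  set N := Subgroup.normalizer (Q : Set G) with hN
  have hQN : Q ≤ N := Subgroup.le_normalizer
  obtain ⟨a, ha⟩ := IsPGroup.iff_card.mp hQp
  have hcop : (Nat.card H).Coprime (Nat.card Q) := by rw [ha]; exact Nat.Coprime.pow_right a hHp
  have hdisj : H ⊓ Q = ⊥ := (Subgroup.disjoint_of_coprime_natCard hcop).eq_bot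
  haveI : Group.IsSolvable Q := by haveI := hQp.isNilpotent; infer_instance
  set M := N ⊓ Subgroup.normalizer (H : Set G) with hM
  -- Frattini argument
  have hfrat : ∀ n ∈ N, ∃ x ∈ Q, ∃ m ∈ M, n = x * m := by
    intro n hn
    have hB : MulAut.conj n • H ≤ H ⊔ Q := by
      intro y hy
      rw [mem_conj_smul_iff] at hy
      have hyN : y ∈ N := by
        have h1 : y = n * (n⁻¹ * y * n) * n⁻¹ := by group
        rw [h1]
        exact N.mul_mem (N.mul_mem hn (hHN hy)) (N.inv_mem hn)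
      have hyK : y ∈ K := by
        have h1 : y = n * (n⁻¹ * y * n) * n⁻¹ := by group
        rw [h1]
        exact hKn.conj_mem _ (hHK hy) n
      have := hNK ⟨hyN, hyK⟩
      rwa [sup_comm] at this
    obtain ⟨x, hxQ, hx⟩ := coprime_conj_complement H Q hHN hcop (Or.inr inferInstance) _ hB
      (card_conj_smul n H)
    have hm : x⁻¹ * n ∈ Subgroup.normalizer (H : Set G) := by
      rw [mem_normalizer_iff_conj_smul, map_mul, mul_smul, ← hx, ← mul_smul, ← map_mul,
        inv_mul_cancel, map_one, one_smul]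
    exact ⟨x, hxQ, x⁻¹ * n, ⟨N.mul_mem (N.inv_mem (hQN hxQ)) hn, hm⟩, by group⟩
  have hQM : Q ⊓ M = ⊥ := by
    rw [eq_bot_iff]
    rintro q ⟨hqQ, hqM⟩
    have hqH : q ∈ Subgroup.normalizer (H : Set G) := hqM.2
    have h1 : q ∈ Subgroup.centralizer (H : Set G) := by
      apply mem_centralizer_of_mem_normalizer H Q hHN hdisj q hqQ
      intro h hh
      exact (Subgroup.mem_normalizer_iff.mp hqH h).mp hh
    have : q ∈ Q ⊓ Subgroup.centralizer (H : Set G) := ⟨hqQ, h1⟩
    rwa [hfpf] at this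
  -- a Sylow subgroup containing Q
  obtain ⟨P, hQP⟩ := hQp.exists_le_sylow
  have hPK : (P : Subgroup G) ⊓ K = Q :=
    hQmax _ (P.2.to_le inf_le_left) (le_inf hQP hQK) inf_le_right
  have hPN : (P : Subgroup G) ≤ N := by
    have := le_normalizer_inf_normal (P : Subgroup G) K
    rwa [hPK] at this
  obtain ⟨n, hn⟩ := IsPGroup.iff_card.mp P.2
  have han : a ≤ n := by
    have h1 : Nat.card Q ∣ Nat.card (P : Subgroup G) := Subgroup.card_dvd_of_le hQP
    rw [ha, hn] at h1
    exact (Nat.pow_dvd_pow_iff_le_right hp.out.one_lt).mp h1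
  have hpow : p ^ n = p ^ (n - a) * p ^ a := by rw [← pow_add]; congr 1; omega
  have hMQ : M ⊔ Q = N := by
    apply le_antisymm (sup_le inf_le_left hQN)
    intro y hy
    obtain ⟨x, hxQ, m, hmM, rfl⟩ := hfrat y hy
    exact Subgroup.mul_mem _ (Subgroup.mem_sup_right hxQ) (Subgroup.mem_sup_left hmM)
  have hcardN : Nat.card N = Nat.card M * Nat.card Q := by
    rw [← hMQ]
    exact card_sup_of_disjoint M Q (inf_le_left : M ≤ N) (by rw [inf_comm]; exact hQM)
  have hdvdM : p ^ (n - a) ∣ Nat.card M := by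
    have h1 : Nat.card (P : Subgroup G) ∣ Nat.card N := Subgroup.card_dvd_of_le hPN
    rw [hn, hcardN, ha, hpow] at h1
    exact Nat.dvd_of_mul_dvd_mul_right (pow_pos hp.out.pos a) h1
  obtain ⟨T', hT'⟩ := Sylow.exists_subgroup_card_pow_prime p hdvdM
  set T := T'.map M.subtype with hT
  have hTM : T ≤ M := Subgroup.map_subtype_le _
  have hTcard : Nat.card T = p ^ (n - a) := by
    rw [hT, Subgroup.card_map_of_injective M.subtype_injective, hT']
  have hTp : IsPGroup p T := IsPGroup.of_card hTcard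
  have hTK : T ⊓ K = ⊥ := by
    have hDp : IsPGroup p (T ⊓ K : Subgroup G) := hTp.to_le inf_le_left
    have hDN : T ⊓ K ≤ N := inf_le_left.trans (hTM.trans inf_le_left)
    have h1 : IsPGroup p ((T ⊓ K) ⊔ Q : Subgroup G) :=
      IsPGroup.to_sup_of_normal_right' hDp hQp hDN
    have h2 : (T ⊓ K) ⊔ Q = Q := hQmax _ h1 le_sup_right (sup_le inf_le_right hQK)
    have h3 : T ⊓ K ≤ Q := by rw [← h2]; exact le_sup_left
    have h4 : T ⊓ K ≤ Q ⊓ M := le_inf h3 (inf_le_left.trans hTM)
    rw [hQM] at h4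
    exact le_bot_iff.mp h4
  have htop : (P : Subgroup G) ⊔ K = ⊤ :=
    sup_eq_top_of_coprime_index _ _ P.not_dvd_index hKidx
  have hKindex : K.index = p ^ (n - a) := by
    have h1 : K.relIndex ((P : Subgroup G) ⊔ K) = K.relIndex (P : Subgroup G) :=
      relIndex_sup_of_le_normalizer _ K (by
        rw [Subgroup.normalizer_eq_top_iff.mpr hKn]; exact le_top)
    rw [htop, Subgroup.relIndex_top_right] at h1
    have h2 : Nat.card (K.subgroupOf (P : Subgroup G)) * (K.subgroupOf (P : Subgroup G)).index =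
        Nat.card (P : Subgroup G) := Subgroup.card_mul_index _
    rw [card_subgroupOf_eq, inf_comm, hPK, ha, hn] at h2
    have h3 : (K.subgroupOf (P : Subgroup G)).index = K.relIndex (P : Subgroup G) := rfl
    rw [h3, ← h1, hpow, mul_comm] at h2
    exact Nat.eq_of_mul_eq_mul_right (pow_pos hp.out.pos a) h2
  refine ⟨T, Subgroup.isComplement'_of_card_mul_and_disjoint ?_ (disjoint_iff.mpr hTK)⟩
  rw [hTcard, ← hKindex, mul_comm]
  exact Subgroup.card_mul_index K

/-- if the Sylow `p`-subgroups of `O^p(G)` are abelian, `G` splits over `O^p(G)` -/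
theorem exists_complement_pResidual_of_abelian
    (h : ∀ Q : Sylow p (Cfsg.pResidual p G), IsMulCommutative Q) :
    ∃ T : Subgroup G, T.IsComplement' (Cfsg.pResidual p G) := by
  classical
  set K := Cfsg.pResidual p G with hK
  haveI hKn : K.Normal := pResidual_normal p
  obtain ⟨Qs⟩ : Nonempty (Sylow p K) := inferInstance
  have hQc : IsMulCommutative (Qs : Subgroup K) := h Qs
  obtain ⟨A, hAN, hAp, hsup, hinf, hfix⟩ :=
    exists_fpf_complement_in_normalizer (pResidual_self_eq_top p) Qs hQc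
  set Q : Subgroup G := (Qs : Subgroup K).map K.subtype with hQ
  set H : Subgroup G := A.map K.subtype with hH
  have hQK : Q ≤ K := Subgroup.map_subtype_le _
  have hHK : H ≤ K := Subgroup.map_subtype_le _
  have hQp : IsPGroup p Q := Qs.2.map _
  have hQmem : ∀ x : K, (x : G) ∈ Q ↔ x ∈ (Qs : Subgroup K) := by
    intro x
    constructor
    · rintro ⟨y, hy, hyx⟩
      have : y = x := Subtype.ext hyx
      rw [← this]; exact hy
    · intro hx
      exact ⟨x, hx, rfl⟩
  have hHmem : ∀ x : K, (x : G) ∈ H ↔ x ∈ A := by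
    intro x
    constructor
    · rintro ⟨y, hy, hyx⟩
      have : y = x := Subtype.ext hyx
      rw [← this]; exact hy
    · intro hx
      exact ⟨x, hx, rfl⟩
  apply exists_complement_of_fpf K Q H hQK hHK hQp
  · intro X hXp hQX hXK
    have h1 : IsPGroup p (X.subgroupOf K) := hXp.comap_subtype
    have h2 : (Qs : Subgroup K) ≤ X.subgroupOf K := by
      intro x hx
      rw [Subgroup.mem_subgroupOf]
      exact hQX ((hQmem x).mpr hx)
    have h3 : X.subgroupOf K = Qs := Qs.3 h1 h2
    rw [hQ, ← h3, Subgroup.map_subgroupOf_eq_of_le hXK]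
  · intro y hy
    obtain ⟨a', ha', rfl⟩ := Subgroup.mem_map.mp hy
    apply mem_normalizer_of_conj_mem
    intro k hk
    obtain ⟨k', hk', rfl⟩ := Subgroup.mem_map.mp hk
    have h1 : a' * k' * a'⁻¹ ∈ (Qs : Subgroup K) :=
      (Subgroup.mem_normalizer_iff.mp (hAN ha') k').mp hk'
    exact (hQmem (a' * k' * a'⁻¹)).mpr h1
  · rw [hH, Subgroup.card_map_of_injective K.subtype_injective]; exact hAp
  · rintro x ⟨hxN, hxK⟩
    have h1 : (⟨x, hxK⟩ : K) ∈ Subgroup.normalizer ((Qs : Subgroup K) : Set K) := by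
      apply mem_normalizer_of_conj_mem
      intro k hk
      have h2 : x * (k : G) * x⁻¹ ∈ Q :=
        (Subgroup.mem_normalizer_iff.mp hxN (k : G)).mp ((hQmem k).mpr hk)
      exact (hQmem (⟨x, hxK⟩ * k * ⟨x, hxK⟩⁻¹)).mp h2
    rw [← hsup] at h1
    have h2 : K.subtype ⟨x, hxK⟩ ∈ ((Qs : Subgroup K) ⊔ A).map K.subtype :=
      Subgroup.mem_map_of_mem _ h1
    rw [Subgroup.map_sup] at h2
    exact h2
  · rw [eq_bot_iff]
    rintro q ⟨hqQ, hqH⟩
    obtain ⟨q', hq', rfl⟩ := Subgroup.mem_map.mp hqQ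
    have h1 : q' ∈ (Qs : Subgroup K) ⊓ Subgroup.centralizer (A : Set K) := by
      refine ⟨hq', ?_⟩
      change q' ∈ Subgroup.centralizer (A : Set K)
      rw [Subgroup.mem_centralizer_iff]
      intro a' ha'
      apply Subtype.ext
      exact Subgroup.mem_centralizer_iff.mp hqH (a' : G) ((hHmem a').mpr ha')
    rw [hfix, Subgroup.mem_bot] at h1
    rw [h1]
    exact Subgroup.mem_bot.mpr rfl
  · exact pResidual_index p

end

end Cfsg.Agent.Lib.Lead
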