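import Mathlib
import Cfsg.Agent.Lib.Lead.AbelianResidual2

set_option autoImplicit false
open Pointwise
open scoped IsMulCommutative

namespace Cfsg.Agent.Lib.Lead

universe u

section
variable {G : Type u} [Group G] [Finite G]

/-- a subgroup of index prime to `p` contains a Sylow `p`-subgroup -/
theorem exists_sylow_le_of_not_dvd_index (H : Subgroup G) (p : ℕ) [hp : Fact p.Prime]
    (hidx : ¬ p ∣ H.index) : ∃ P : Sylow p G, (P : Subgroup G) ≤ H := by
  obtain ⟨K, hK⟩ := Sylow.exists_subgroup_card_pow_prime (G := H) p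
    (Nat.ordProj_dvd (Nat.card H) p)
  have hfac : (Nat.card G).factorization p = (Nat.card H).factorization p := by
    rw [← Subgroup.card_mul_index H, Nat.factorization_mul Nat.card_pos.ne'
      (Subgroup.index_ne_zero_of_finite), Finsupp.add_apply,
      Nat.factorization_eq_zero_of_not_dvd hidx, add_zero]
  have hcard : Nat.card (K.map H.subtype) = p ^ (Nat.card G).factorization p := by
    rw [Subgroup.card_map_of_injective H.subtype_injective, hK, hfac]
  exact ⟨Sylow.ofCard _ hcard, Subgroup.map_subtype_le K⟩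

/-- a nontrivial finite solvable group has a nontrivial normal `p`-subgroup for some prime `p` -/
theorem exists_normal_pgroup_of_solvable {X : Type u} [Group X] [Finite X] [Group.IsSolvable X]
    [Nontrivial X] : ∃ (p : ℕ) (_ : Fact p.Prime) (N : Subgroup X), N.Normal ∧ IsPGroup p N ∧ N ≠ ⊥ := by
  classical
  obtain ⟨A, -, hAn, hAc, hAne⟩ := exists_normal_abelian_le (⊤ : Subgroup X) (by
    haveI : Nontrivial (Subgroup X) := Subgroup.nontrivial_iff.mpr inferInstance
    exact top_ne_bot)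
  have hcard : Nat.card A ≠ 1 := fun h => hAne (Subgroup.card_eq_one.mp h)
  set p := (Nat.card A).minFac with hp
  have hpf : Fact p.Prime := ⟨Nat.minFac_prime hcard⟩
  obtain ⟨a, ha⟩ := exists_prime_orderOf_dvd_card' (G := A) p (Nat.minFac_dvd _)
  set N : Subgroup X := (powMonoidHom p : A →* A).ker.map A.subtype with hN
  have hNmem : ∀ y : X, y ∈ N ↔ y ∈ A ∧ y ^ p = 1 := by
    intro y
    constructor
    · intro hy
      obtain ⟨b, hb, rfl⟩ := Subgroup.mem_map.mp hy
      refine ⟨b.2, ?_⟩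
      have h1 : b ^ p = 1 := hb
      have := congrArg Subtype.val h1
      simpa using this
    · rintro ⟨hyA, hyp⟩
      refine Subgroup.mem_map.mpr ⟨⟨y, hyA⟩, ?_, rfl⟩
      change (⟨y, hyA⟩ : A) ^ p = 1
      exact Subtype.ext hyp
  refine ⟨p, hpf, N, ?_, ?_, ?_⟩
  · refine ⟨fun n hn g => ?_⟩
    rw [hNmem] at hn ⊢
    refine ⟨hAn.conj_mem n hn.1 g, ?_⟩
    rw [conj_pow, hn.2]; group
  · intro y
    refine ⟨1, ?_⟩
    apply Subtype.ext
    have := ((hNmem y).mp y.2).2
    simpa using this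
  · intro h
    have h1 : (a : X) ∈ N := by
      rw [hNmem]
      refine ⟨a.2, ?_⟩
      have h2 : a ^ p = 1 := by rw [← ha]; exact pow_orderOf_eq_one a
      have := congrArg Subtype.val h2
      simpa using this
    rw [h, Subgroup.mem_bot] at h1
    have h2 : a = 1 := Subtype.ext h1
    rw [h2, orderOf_one] at ha
    exact hpf.out.one_lt.ne ha

/-- key step: a `p`-subgroup normalised by `H₁` has its normal closure inside `H` when `G = H₁ H`
and `H` has index prime to `p` -/
theorem normalClosure_le_of_factorization (H₁ H N : Subgroup G) (p : ℕ) [hp : Fact p.Prime]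
    (hNp : IsPGroup p N) (hH₁N : H₁ ≤ Subgroup.normalizer (N : Set G))
    (hfac : ∀ g : G, ∃ x ∈ H₁, ∃ y ∈ H, g = x * y) (hidx : ¬ p ∣ H.index) :
    Subgroup.normalClosure (N : Set G) ≤ H := by
  classical
  obtain ⟨P, hNP⟩ := hNp.exists_le_sylow
  obtain ⟨S, hSH⟩ := exists_sylow_le_of_not_dvd_index H p hidx
  obtain ⟨g, hg⟩ := MulAction.exists_smul_eq G S P
  -- N ≤ g H g⁻¹
  have h1 : N ≤ MulAut.conj g • H := by
    intro n hn
    have h2 : n ∈ (P : Subgroup G) := hNP hn
    rw [← hg, Sylow.coe_subgroup_smul] at h2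
    rw [mem_conj_smul_iff] at h2 ⊢
    exact hSH h2
  obtain ⟨x, hx, y, hy, rfl⟩ := hfac g
  have hNH : N ≤ H := by
    intro n hn
    have h5 : x * n * x⁻¹ ∈ N := (Subgroup.mem_normalizer_iff.mp (hH₁N hx) n).mp hn
    have h6 := h1 h5
    rw [mem_conj_smul_iff] at h6
    have h7 : n = y * ((x * y)⁻¹ * (x * n * x⁻¹) * (x * y)) * y⁻¹ := by group
    rw [h7]
    exact H.mul_mem (H.mul_mem hy h6) (H.inv_mem hy)
  unfold Subgroup.normalClosure
  rw [Subgroup.closure_le]
  intro c hc
  obtain ⟨n, hn, hnc⟩ := Group.mem_conjugatesOfSet_iff.mp hc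
  obtain ⟨g', rfl⟩ := isConj_iff.mp hnc
  obtain ⟨x', hx', y', hy', hg'⟩ := hfac g'⁻¹
  have h8 : x'⁻¹ * n * x' ∈ N := by
    have := (Subgroup.mem_normalizer_iff.mp (hH₁N (H₁.inv_mem hx')) n).mp hn
    rwa [inv_inv] at this
  have h9 : g' * n * g'⁻¹ = y'⁻¹ * (x'⁻¹ * n * x') * y' := by
    have h10 : g' = y'⁻¹ * x'⁻¹ := by
      rw [← inv_inv g', hg']; group
    rw [h10]; group
  rw [SetLike.mem_coe, h9]
  exact H.mul_mem (H.mul_mem (H.inv_mem hy') (hNH h8)) hy'

end

end Cfsg.Agent.Lib.Lead
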