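import Mathlib
import Cfsg.Agent.Lib.Lead.ThreeSolvable

set_option autoImplicit false
open Pointwise
open scoped IsMulCommutative

namespace Cfsg.Agent.Lib.Lead

universe u

theorem solvable_of_two_factorizations :
    ∀ (n : ℕ) (G : Type u) [Group G] [Finite G], Nat.card G = n →
      ∀ H₁ H₂ H₃ : Subgroup G, Group.IsSolvable H₁ → Group.IsSolvable H₂ → Group.IsSolvable H₃ →
      (∀ g : G, ∃ x ∈ H₁, ∃ y ∈ H₂, g = x * y) → (∀ g : G, ∃ x ∈ H₁, ∃ y ∈ H₃, g = x * y) →
      H₂.index.Coprime H₃.index → Group.IsSolvable G := by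
  intro n
  induction n using Nat.strong_induction_on with
  | _ n ih =>
    intro G _ _ hcard H₁ H₂ H₃ h₁ h₂ h₃ h12 h13 hcop
    classical
    by_cases hH₁ : H₁ = ⊥
    · have hH₂ : H₂ = ⊤ := by
        rw [eq_top_iff]
        intro g _
        obtain ⟨x, hx, y, hy, rfl⟩ := h12 g
        rw [hH₁, Subgroup.mem_bot] at hx
        rw [hx, one_mul]; exact hy
      apply Group.isSolvable_of_surjective (f := H₂.subtype)
      intro g
      exact ⟨⟨g, by rw [hH₂]; exact Subgroup.mem_top g⟩, rfl⟩
    · haveI : Nontrivial H₁ := (Subgroup.nontrivial_iff_ne_bot H₁).mpr hH₁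
      obtain ⟨p, hp, N', hN'n, hN'p, hN'ne⟩ := exists_normal_pgroup_of_solvable (X := H₁)
      set N : Subgroup G := N'.map H₁.subtype with hN
      have hNp : IsPGroup p N := hN'p.map _
      have hNne : N ≠ ⊥ := by
        intro h
        apply hN'ne
        rw [hN, Subgroup.map_eq_bot_iff_of_injective _ H₁.subtype_injective] at h
        exact h
      have hH₁N : H₁ ≤ Subgroup.normalizer (N : Set G) := by
        intro x hx
        apply mem_normalizer_of_conj_mem
        intro k hk
        obtain ⟨k', hk', rfl⟩ := Subgroup.mem_map.mp hk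
        exact Subgroup.mem_map.mpr ⟨⟨x, hx⟩ * k' * ⟨x, hx⟩⁻¹, hN'n.conj_mem k' hk' ⟨x, hx⟩, rfl⟩
      set M := Subgroup.normalClosure (N : Set G) with hM
      have hMne : M ≠ ⊥ := by
        intro h
        apply hNne
        have h1 : N ≤ M := Subgroup.le_normalClosure
        rw [h] at h1
        exact le_bot_iff.mp h1
      have hMsolv : Group.IsSolvable M := by
        have hdvd : ¬ p ∣ H₂.index ∨ ¬ p ∣ H₃.index := by
          by_contra hcon
          push Not at hcon
          have h1 : p ∣ Nat.gcd H₂.index H₃.index := Nat.dvd_gcd hcon.1 hcon.2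
          rw [hcop] at h1
          exact hp.out.one_lt.ne' (Nat.dvd_one.mp h1)
        rcases hdvd with hd | hd
        · have hle := normalClosure_le_of_factorization H₁ H₂ N p hNp hH₁N h12 hd
          haveI := h₂
          exact isSolvable_of_le hle
        · have hle := normalClosure_le_of_factorization H₁ H₃ N p hNp hH₁N h13 hd
          haveI := h₃
          exact isSolvable_of_le hle
      set π := QuotientGroup.mk' M with hπ
      have hπs : Function.Surjective π := QuotientGroup.mk'_surjective M
      have hlt : Nat.card (G ⧸ M) < n := by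
        have h1 := Subgroup.card_eq_card_quotient_mul_card_subgroup M
        have h2 : 1 < Nat.card M := by
          rcases Nat.lt_or_ge 1 (Nat.card M) with h | h
          · exact h
          · exfalso
            have h3 : Nat.card M = 1 := le_antisymm h Nat.card_pos
            exact hMne (Subgroup.card_eq_one.mp h3)
        have h3 : 0 < Nat.card (G ⧸ M) := Nat.card_pos
        rw [← hcard, h1]
        nlinarith
      have hsolvmap : ∀ H : Subgroup G, Group.IsSolvable H → Group.IsSolvable (H.map π) := by
        intro H hH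
        exact Group.isSolvable_of_surjective (MonoidHom.subgroupMap_surjective π H)
      have hfacmap : ∀ H : Subgroup G, (∀ g : G, ∃ x ∈ H₁, ∃ y ∈ H, g = x * y) →
          ∀ g : G ⧸ M, ∃ x ∈ H₁.map π, ∃ y ∈ H.map π, g = x * y := by
        intro H hH g
        obtain ⟨g', rfl⟩ := hπs g
        obtain ⟨x, hx, y, hy, rfl⟩ := hH g'
        exact ⟨π x, Subgroup.mem_map_of_mem π hx, π y, Subgroup.mem_map_of_mem π hy, map_mul π x y⟩
      have hcop' : (H₂.map π).index.Coprime (H₃.map π).index :=
        Nat.Coprime.coprime_dvd_left (Subgroup.index_map_dvd H₂ hπs)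
          (Nat.Coprime.coprime_dvd_right (Subgroup.index_map_dvd H₃ hπs) hcop)
      haveI hq : Group.IsSolvable (G ⧸ M) :=
        ih _ hlt (G ⧸ M) rfl (H₁.map π) (H₂.map π) (H₃.map π) (hsolvmap _ h₁) (hsolvmap _ h₂)
          (hsolvmap _ h₃) (hfacmap H₂ h12) (hfacmap H₃ h13) hcop'
      haveI := hMsolv
      exact Group.isSolvable_of_ker_le_range M.subtype π (by simp [hπ])

end Cfsg.Agent.Lib.Lead
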