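import Mathlib
import Cfsg.Agent.Lib.Lead.ThreeSolvable2
import Cfsg.Agent.Lib.Lead.ClassTwo

set_option autoImplicit false

namespace Cfsg.Agent.Lib.Lead

open scoped commutatorElement

section
variable {R : Type*} [Group R] [Finite R] {p : ℕ} [hp : Fact p.Prime]

/-- between two normal subgroups `A < K` of a `p`-group there is a normal subgroup `B` with
`|B : A| = p`, and an element of `B` outside `A` which is central modulo `A` -/
theorem exists_normal_relIndex_p_le (hR : IsPGroup p R) (A K : Subgroup R) [hAn : A.Normal]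
    [hKn : K.Normal] (hAK : A < K) :
    ∃ (B : Subgroup R) (e : R), B.Normal ∧ A ≤ B ∧ B ≤ K ∧ A.relIndex B = p ∧ e ∈ B ∧ e ∉ A ∧
      ∀ g : R, ⁅e, g⁆ ∈ A := by
  classical
  set π := QuotientGroup.mk' A with hπ
  have hπs : Function.Surjective π := QuotientGroup.mk'_surjective A
  have hQ : IsPGroup p (R ⧸ A) := hR.to_quotient A
  haveI : Group.IsNilpotent (R ⧸ A) := hQ.isNilpotent
  have hker : π.ker = A := QuotientGroup.ker_mk' A
  haveI hK'n : (K.map π).Normal := hKn.map π hπs
  have hK'ne : K.map π ≠ ⊥ := by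
    intro h
    have h1 : K ≤ π.ker := by
      rw [← Subgroup.map_eq_bot_iff]; exact h
    rw [hker] at h1
    exact absurd (le_antisymm hAK.le h1) hAK.ne
  have h1 := inf_center_ne_bot (K.map π) hK'ne
  set D : Subgroup (R ⧸ A) := K.map π ⊓ Subgroup.center (R ⧸ A) with hD
  have hpc : p ∣ Nat.card D := by
    obtain ⟨m, hm⟩ := IsPGroup.iff_card.mp (hQ.to_subgroup D)
    rcases m with _ | m
    · exfalso
      rw [pow_zero] at hm
      exact h1 (Subgroup.card_eq_one.mp hm)
    · rw [hm, pow_succ]; exact dvd_mul_left p _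
  obtain ⟨b, hb⟩ := exists_prime_orderOf_dvd_card' p hpc
  have hbK : (b : R ⧸ A) ∈ K.map π := b.2.1
  have hbc : (b : R ⧸ A) ∈ Subgroup.center (R ⧸ A) := b.2.2
  set Zb : Subgroup (R ⧸ A) := Subgroup.zpowers (b : R ⧸ A) with hZb
  have hZbc : Zb ≤ Subgroup.center (R ⧸ A) := (Subgroup.zpowers_le).mpr hbc
  have hZbK : Zb ≤ K.map π := (Subgroup.zpowers_le).mpr hbK
  have hZbn : Zb.Normal := by
    refine ⟨fun y hy g => ?_⟩
    have := Subgroup.mem_center_iff.mp (hZbc hy) g
    rw [this, mul_inv_cancel_right]; exact hy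
  have hZbcard : Nat.card Zb = p := by
    rw [hZb, Nat.card_zpowers, Subgroup.orderOf_coe]; exact hb
  obtain ⟨e, he⟩ := hπs (b : R ⧸ A)
  have hb1 : (b : R ⧸ A) ≠ 1 := by
    intro h
    have h2 : orderOf (b : R ⧸ A) = 1 := by rw [h]; exact orderOf_one
    rw [Subgroup.orderOf_coe, hb] at h2
    exact hp.out.one_lt.ne' h2
  refine ⟨Zb.comap π, e, hZbn.comap π, ?_, ?_, ?_, ?_, ?_, ?_⟩
  · intro a ha
    rw [Subgroup.mem_comap]
    have h0 : π a = 1 := (QuotientGroup.eq_one_iff a).mpr ha
    rw [h0]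
    exact Subgroup.one_mem _
  · intro x hx
    rw [Subgroup.mem_comap] at hx
    have h2 : x ∈ (K.map π).comap π := hZbK hx
    rw [Subgroup.comap_map_eq, hker, sup_eq_left.mpr hAK.le] at h2
    exact h2
  · have h2 := Subgroup.relIndex_ker (K := Zb.comap π) π
    rw [Subgroup.map_comap_eq_self_of_surjective hπs, hZbcard, hker] at h2
    exact h2
  · rw [Subgroup.mem_comap, he]; exact Subgroup.mem_zpowers _
  · intro heA
    apply hb1
    rw [← he]
    exact (QuotientGroup.eq_one_iff e).mpr heA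
  · intro g
    rw [← QuotientGroup.eq_one_iff]
    show π ⁅e, g⁆ = 1
    rw [map_commutatorElement, he, commutatorElement_eq_one_iff_commute]
    exact (Subgroup.mem_center_iff.mp hbc (π g)).symm

end

end Cfsg.Agent.Lib.Lead
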