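import Mathlib
import Cfsg.Agent.Lib.Lead.RankThree1

set_option autoImplicit false

namespace Cfsg.Agent.Lib.Lead

open scoped commutatorElement

section
variable {P : Type*} [Group P]

/-- The power formula when the commutator commutes with both elements. -/
theorem mul_pow_of_commute_commutator (x y : P) (hx : Commute x ⁅y, x⁆) (hy : Commute y ⁅y, x⁆)
    (n : ℕ) : (x * y) ^ n = x ^ n * y ^ n * ⁅y, x⁆ ^ (n.choose 2) := by
  induction n with
  | zero => simp
  | succ n ih =>
    have hxk : ∀ k j : ℕ, Commute (x ^ j) (⁅y, x⁆ ^ k) := fun k j => (hx.pow_right k).pow_left j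
    have hyk : ∀ k j : ℕ, Commute (y ^ j) (⁅y, x⁆ ^ k) := fun k j => (hy.pow_right k).pow_left j
    have h1 : y ^ n * x = ⁅y, x⁆ ^ n * x * y ^ n := by
      have h2 : ⁅y ^ n, x⁆ = ⁅y, x⁆ ^ n :=
        commutatorElement_pow_left y x hy.eq.symm n
      rw [← h2, commutatorElement_def]; group
    have hch : (n + 1).choose 2 = n.choose 2 + n := by
      rw [Nat.choose_succ_succ' n 1, Nat.choose_one_right, add_comm]
    have hxc : x * ⁅y, x⁆ ^ (n.choose 2) = ⁅y, x⁆ ^ (n.choose 2) * x := by
      have := (hxk (n.choose 2) 1).eq; rwa [pow_one] at this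
    have hyc : y * ⁅y, x⁆ ^ (n.choose 2) = ⁅y, x⁆ ^ (n.choose 2) * y := by
      have := (hyk (n.choose 2) 1).eq; rwa [pow_one] at this
    have hxn : x * ⁅y, x⁆ ^ n = ⁅y, x⁆ ^ n * x := by
      have := (hxk n 1).eq; rwa [pow_one] at this
    have hyn : y ^ n * ⁅y, x⁆ ^ n = ⁅y, x⁆ ^ n * y ^ n := (hyk n n).eq
    have hyn1 : y * ⁅y, x⁆ ^ n = ⁅y, x⁆ ^ n * y := by
      have := (hyk n 1).eq; rwa [pow_one] at this
    calc (x * y) ^ (n + 1) = (x * y) ^ n * (x * y) := pow_succ _ _
      _ = x ^ n * y ^ n * ⁅y, x⁆ ^ (n.choose 2) * (x * y) := by rw [ih]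
      _ = x ^ n * y ^ n * (⁅y, x⁆ ^ (n.choose 2) * x) * y := by simp only [mul_assoc]
      _ = x ^ n * y ^ n * (x * ⁅y, x⁆ ^ (n.choose 2)) * y := by rw [hxc]
      _ = x ^ n * (y ^ n * x) * (⁅y, x⁆ ^ (n.choose 2) * y) := by simp only [mul_assoc]
      _ = x ^ n * (⁅y, x⁆ ^ n * x * y ^ n) * (y * ⁅y, x⁆ ^ (n.choose 2)) := by rw [h1, hyc]
      _ = x ^ n * (⁅y, x⁆ ^ n * x) * (y ^ n * y) * ⁅y, x⁆ ^ (n.choose 2) := by
        simp only [mul_assoc]
      _ = x ^ n * (x * ⁅y, x⁆ ^ n) * (y ^ n * y) * ⁅y, x⁆ ^ (n.choose 2) := by rw [hxn]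
      _ = (x ^ n * x) * (⁅y, x⁆ ^ n * (y ^ n * y)) * ⁅y, x⁆ ^ (n.choose 2) := by
        simp only [mul_assoc]
      _ = (x ^ n * x) * ((y ^ n * y) * ⁅y, x⁆ ^ n) * ⁅y, x⁆ ^ (n.choose 2) := by
        rw [← pow_succ, ← pow_succ, (hyk n (n + 1)).eq]
      _ = (x ^ n * x) * (y ^ n * y) * (⁅y, x⁆ ^ n * ⁅y, x⁆ ^ (n.choose 2)) := by
        simp only [mul_assoc]
      _ = x ^ (n + 1) * y ^ (n + 1) * ⁅y, x⁆ ^ ((n + 1).choose 2) := by
        rw [← pow_succ, ← pow_succ, ← pow_add, hch, add_comm (n.choose 2) n]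

/-- For odd `p`: if `⁅y, x⁆` commutes with `x` and `y` and has order dividing `p`, then
`(x * y) ^ p = x ^ p * y ^ p`. -/
theorem mul_pow_prime_of_commute_commutator {p : ℕ} [hp : Fact p.Prime] (hp2 : p ≠ 2) (x y : P)
    (hx : Commute x ⁅y, x⁆) (hy : Commute y ⁅y, x⁆) (hc : ⁅y, x⁆ ^ p = 1) :
    (x * y) ^ p = x ^ p * y ^ p := by
  rw [mul_pow_of_commute_commutator x y hx hy p]
  have h3 : 2 < p := lt_of_le_of_ne hp.out.two_le (Ne.symm hp2)
  obtain ⟨k, hk⟩ := Nat.Prime.dvd_choose_self hp.out (by norm_num : (2 : ℕ) ≠ 0) h3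
  rw [hk, pow_mul, hc, one_pow, mul_one]

end

section
variable {P : Type*} [Group P] [Finite P] {p : ℕ} [hp : Fact p.Prime]

/-- a normal subgroup of order `p ^ 2` of a `p`-group has centraliser of index at most `p` -/
theorem card_le_card_centralizer_mul_of_sq (hP : IsPGroup p P) (R : Subgroup P) [hRn : R.Normal]
    (hRcard : Nat.card R = p ^ 2) :
    Nat.card P ≤ Nat.card (Subgroup.centralizer (R : Set P)) * p := by
  classical
  haveI : Group.IsNilpotent P := hP.isNilpotent
  have hRne : R ≠ ⊥ := by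
    rintro rfl
    rw [Subgroup.card_bot] at hRcard
    have := hp.out.one_lt
    have h2 : 1 < p ^ 2 := Nat.one_lt_pow (by norm_num) this
    omega
  have h1 := inf_center_ne_bot R hRne
  set D : Subgroup P := R ⊓ Subgroup.center P with hD
  have hpc : p ∣ Nat.card D := by
    obtain ⟨m, hm⟩ := IsPGroup.iff_card.mp (hP.to_subgroup D)
    rcases m with _ | m
    · exfalso
      rw [pow_zero] at hm
      exact h1 (Subgroup.card_eq_one.mp hm)
    · rw [hm, pow_succ]; exact dvd_mul_left p _
  obtain ⟨z, hz⟩ := exists_prime_orderOf_dvd_card' p hpc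
  have hzR : (z : P) ∈ R := z.2.1
  have hzc : (z : P) ∈ Subgroup.center P := z.2.2
  set Z : Subgroup P := Subgroup.zpowers (z : P) with hZ
  have hZc : Z ≤ Subgroup.center P := (Subgroup.zpowers_le).mpr hzc
  have hZR : Z ≤ R := (Subgroup.zpowers_le).mpr hzR
  haveI hZn : Z.Normal := by
    refine ⟨fun y hy g => ?_⟩
    have := Subgroup.mem_center_iff.mp (hZc hy) g
    rw [this, mul_inv_cancel_right]; exact hy
  have hZcard : Nat.card Z = p := by
    rw [hZ, Nat.card_zpowers, Subgroup.orderOf_coe]; exact hz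
  obtain ⟨r, hrR, hrZ⟩ : ∃ r ∈ R, r ∉ Z := by
    by_contra hall
    push_neg at hall
    have h2 : Nat.card R ≤ Nat.card Z := Subgroup.card_le_of_le hall
    rw [hRcard, hZcard] at h2
    have := hp.out.one_lt
    nlinarith
  -- commutators with `r` lie in `Z`
  have hD' : ∀ x : P, x * r * x⁻¹ * r⁻¹ ∈ Z := by
    intro x
    set π := QuotientGroup.mk' Z with hπ
    have hπs : Function.Surjective π := QuotientGroup.mk'_surjective Z
    haveI : (R.map π).Normal := hRn.map π hπs
    have hcard : Nat.card (R.map π) = p := by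
      have h2 := card_map_mk'_mul Z R hZR
      rw [hRcard, hZcard, sq] at h2
      exact Nat.eq_of_mul_eq_mul_right hp.out.pos h2
    have h3 := le_center_of_normal_of_card_prime (hP.to_quotient Z) (R.map π) hcard
    have h4 : π r ∈ Subgroup.center (P ⧸ Z) := h3 (Subgroup.mem_map_of_mem π hrR)
    rw [← QuotientGroup.eq_one_iff]
    show π (x * r * x⁻¹ * r⁻¹) = 1
    rw [map_mul, map_mul, map_mul, map_inv, map_inv, Subgroup.mem_center_iff.mp h4 (π x)]
    group
  -- elements commuting with `r` centralise `R`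
  have hA : ∀ x : P, x * r = r * x → x ∈ Subgroup.centralizer (R : Set P) := by
    intro x hx
    have hsup : Z ⊔ Subgroup.zpowers r = R := by
      have hle : Z ⊔ Subgroup.zpowers r ≤ R := sup_le hZR ((Subgroup.zpowers_le).mpr hrR)
      apply Subgroup.eq_of_le_of_card_ge hle
      have hlt : Nat.card Z < Nat.card (Z ⊔ Subgroup.zpowers r : Subgroup P) := by
        have h2 : Nat.card Z ≤ Nat.card (Z ⊔ Subgroup.zpowers r : Subgroup P) :=
          Subgroup.card_le_of_le le_sup_left
        rcases lt_or_eq_of_le h2 with h | h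
        · exact h
        · exfalso
          have h3 : Z = Z ⊔ Subgroup.zpowers r := Subgroup.eq_of_le_of_card_ge le_sup_left h.ge
          apply hrZ
          rw [h3]
          exact (le_sup_right : Subgroup.zpowers r ≤ Z ⊔ Subgroup.zpowers r) (Subgroup.mem_zpowers r)
      have hdvd : Nat.card (Z ⊔ Subgroup.zpowers r : Subgroup P) ∣ p ^ 2 := by
        rw [← hRcard]; exact Subgroup.card_dvd_of_le hle
      obtain ⟨k, hk2, hk⟩ := (Nat.dvd_prime_pow hp.out).mp hdvd
      rw [hk, hZcard] at hlt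
      rw [hk, hRcard]
      have hk1 : 1 < k := by
        by_contra hk1
        have : k ≤ 1 := by omega
        have h4 : p ^ k ≤ p ^ 1 := Nat.pow_le_pow_right hp.out.pos this
        rw [pow_one] at h4
        omega
      have : k = 2 := by omega
      rw [this]
    rw [Subgroup.mem_centralizer_iff]
    intro y hy
    have hy' : y ∈ Z ⊔ Subgroup.zpowers r := by rw [hsup]; exact hy
    have hle2 : Z ⊔ Subgroup.zpowers r ≤ Subgroup.centralizer ({x} : Set P) := by
      apply sup_le
      · intro w hw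
        rw [Subgroup.mem_centralizer_iff]
        intro v hv
        rw [Set.mem_singleton_iff] at hv
        subst hv
        exact (Subgroup.mem_center_iff.mp (hZc hw) v)
      · rw [Subgroup.zpowers_le, Subgroup.mem_centralizer_iff]
        intro v hv
        rw [Set.mem_singleton_iff] at hv
        subst hv
        exact hx
    have h5 := Subgroup.mem_centralizer_iff.mp (hle2 hy') x (Set.mem_singleton x)
    exact h5.symm
  have h6 := card_le_of_commutator_mem_central Z hZc (Subgroup.centralizer (R : Set P)) ⊤ r hA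
    (fun x _ => hD' x)
  rw [Subgroup.card_top, hZcard] at h6
  exact h6

/-- an abelian subgroup of order greater than `p ^ 2` contains an element of the centraliser of
a normal subgroup `R` of order `p ^ 2` outside `R` -/
theorem exists_mem_centralizer_not_mem (hP : IsPGroup p P) (R : Subgroup P) [hRn : R.Normal]
    (hRcard : Nat.card R = p ^ 2) (E : Subgroup P) (hE : ∀ a ∈ E, ∀ b ∈ E, a * b = b * a)
    (hEcard : p ^ 2 < Nat.card E) :
    ∃ x ∈ E, x ∈ Subgroup.centralizer (R : Set P) ∧ x ∉ R := by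
  classical
  set C : Subgroup P := Subgroup.centralizer (R : Set P) with hC
  have hidx : C.index ≤ p := by
    have h1 := card_le_card_centralizer_mul_of_sq hP R hRcard
    have h2 := C.card_mul_index
    rw [← h2] at h1
    exact Nat.le_of_mul_le_mul_left h1 Nat.card_pos
  have hrel : C.relIndex E ≤ p := by
    have h1 : C.relIndex E ∣ C.index := Subgroup.relIndex_dvd_index_of_normal C E
    have h2 : C.index ≠ 0 := Subgroup.index_ne_zero_of_finite
    exact (Nat.le_of_dvd (Nat.pos_of_ne_zero h2) h1).trans hidx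
  have hcard : Nat.card E = Nat.card (C ⊓ E : Subgroup P) * C.relIndex E := by
    have h1 := (C.subgroupOf E).card_mul_index
    rw [card_subgroupOf_eq] at h1
    exact h1.symm
  have hgt : p < Nat.card (C ⊓ E : Subgroup P) := by
    by_contra hle
    push_neg at hle
    have : Nat.card E ≤ p * p := by
      rw [hcard]; exact Nat.mul_le_mul hle hrel
    rw [sq] at hEcard
    omega
  have hge : p ^ 2 ≤ Nat.card (C ⊓ E : Subgroup P) := by
    obtain ⟨k, hk⟩ := IsPGroup.iff_card.mp (hP.to_subgroup (C ⊓ E))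
    rw [hk] at hgt ⊢
    apply Nat.pow_le_pow_right hp.out.pos
    by_contra hk2
    have : k ≤ 1 := by omega
    have h4 : p ^ k ≤ p ^ 1 := Nat.pow_le_pow_right hp.out.pos this
    rw [pow_one] at h4
    omega
  by_contra hall
  push_neg at hall
  have hle : C ⊓ E ≤ R := fun x hx => hall x hx.2 hx.1
  have heq : C ⊓ E = R := Subgroup.eq_of_le_of_card_ge hle (by rw [hRcard]; exact hge)
  have hRE : R ≤ E := by rw [← heq]; exact inf_le_right
  have hEC : E ≤ C := by
    intro e he
    rw [hC, Subgroup.mem_centralizer_iff]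
    intro y hy
    exact hE y (hRE hy) e he
  have : C ⊓ E = E := inf_eq_right.mpr hEC
  rw [this] at heq
  rw [heq, hRcard] at hEcard
  exact lt_irrefl _ hEcard

/-- over a normal elementary abelian subgroup `R` of order `p ^ 2`, inside a normal subgroup of
exponent `p` centralising `R`, there is a normal elementary abelian subgroup of order `p ^ 3` -/
theorem exists_cube_of_le (hP : IsPGroup p P) (R : Subgroup P) [hRn : R.Normal]
    (hRcard : Nat.card R = p ^ 2) (K : Subgroup P) [hKn : K.Normal] (hRK : R < K)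
    (hKe : ∀ k ∈ K, k ^ p = 1) (hKC : K ≤ Subgroup.centralizer (R : Set P)) :
    ∃ A : Subgroup P, A.Normal ∧ IsMulCommutative A ∧ (∀ a ∈ A, a ^ p = 1) ∧
      Nat.card A = p ^ 3 := by
  classical
  obtain ⟨B, e, hBn, hRB, hBK, hidx, -, -, -⟩ := exists_normal_relIndex_p_le hP R K hRK
  refine ⟨B, hBn, ?_, fun a ha => hKe a (hBK ha), ?_⟩
  · -- commutative
    haveI : (R.subgroupOf B).Normal := Subgroup.normal_subgroupOf
    have hcardQ : Nat.card (B ⧸ R.subgroupOf B) = p := hidx
    haveI : IsCyclic (B ⧸ R.subgroupOf B) := isCyclic_of_prime_card hcardQ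
    have hker : (QuotientGroup.mk' (R.subgroupOf B)).ker ≤ Subgroup.center B := by
      rw [QuotientGroup.ker_mk']
      intro r hr
      rw [Subgroup.mem_center_iff]
      intro b
      apply Subtype.ext
      have hr' : (r : P) ∈ R := hr
      have hb : (b : P) ∈ Subgroup.centralizer (R : Set P) := hKC (hBK b.2)
      exact (Subgroup.mem_centralizer_iff.mp hb (r : P) hr').symm
    exact ⟨⟨fun a b => commutative_of_cyclic_center_quotient
      (QuotientGroup.mk' (R.subgroupOf B)) hker a b⟩⟩
  · have h1 := Subgroup.relIndex_mul_relIndex ⊥ R B bot_le hRB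
    rw [Subgroup.relIndex_bot_left, Subgroup.relIndex_bot_left, hidx, hRcard] at h1
    rw [← h1]; ring

end

end Cfsg.Agent.Lib.Lead
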