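import Mathlib
import Cfsg.Agent.Lib.Lead.RankThree2

set_option autoImplicit false

namespace Cfsg.Agent.Lib.Lead

open scoped commutatorElement

universe u

section
variable {p : ℕ} [hp : Fact p.Prime]

/-- the elements of order dividing `p` of `M` which are central modulo `R` form a normal
subgroup of exponent `p` -/
theorem exists_normal_exponent_p_of_central_mod {P : Type u} [Group P] (hp2 : p ≠ 2)
    (M R : Subgroup P) [hMn : M.Normal] [hRn : R.Normal] (hRM : R ≤ M)
    (hMC : M ≤ Subgroup.centralizer (R : Set P)) (hRe : ∀ r ∈ R, r ^ p = 1)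
    (e : P) (heM : e ∈ M) (heR : e ∉ R) (hep : e ^ p = 1) (hec : ∀ m ∈ M, ⁅e, m⁆ ∈ R) :
    ∃ K : Subgroup P, K.Normal ∧ R < K ∧ (∀ k ∈ K, k ^ p = 1) ∧
      K ≤ Subgroup.centralizer (R : Set P) := by
  let K : Subgroup P :=
    { carrier := {t | t ∈ M ∧ (∀ m ∈ M, ⁅t, m⁆ ∈ R) ∧ t ^ p = 1}
      one_mem' := by
        refine ⟨M.one_mem, fun m _ => ?_, one_pow _⟩
        rw [commutatorElement_one_left]; exact R.one_mem
      mul_mem' := by
        rintro s t ⟨hsM, hsc, hsp⟩ ⟨htM, htc, htp⟩
        refine ⟨M.mul_mem hsM htM, fun m hm => ?_, ?_⟩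
        · have h1 : ⁅s * t, m⁆ = s * ⁅t, m⁆ * s⁻¹ * ⁅s, m⁆ := by
            simp only [commutatorElement_def]; group
          rw [h1]
          exact R.mul_mem (hRn.conj_mem _ (htc m hm) s) (hsc m hm)
        · have hcR : ⁅t, s⁆ ∈ R := htc s hsM
          have hs : Commute s ⁅t, s⁆ :=
            ((Subgroup.mem_centralizer_iff.mp (hMC hsM)) _ hcR).symm
          have ht : Commute t ⁅t, s⁆ :=
            ((Subgroup.mem_centralizer_iff.mp (hMC htM)) _ hcR).symm
          rw [mul_pow_prime_of_commute_commutator hp2 s t hs ht (hRe _ hcR), hsp, htp, one_mul]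
      inv_mem' := by
        rintro t ⟨htM, htc, htp⟩
        refine ⟨M.inv_mem htM, fun m hm => ?_, ?_⟩
        · have h1 : ⁅t⁻¹, m⁆ = t⁻¹ * ⁅t, m⁆⁻¹ * t⁻¹⁻¹ := by
            simp only [commutatorElement_def]; group
          rw [h1]
          exact hRn.conj_mem _ (R.inv_mem (htc m hm)) t⁻¹
        · rw [inv_pow, htp, inv_one] }
  have hKM : K ≤ M := fun t ht => ht.1
  refine ⟨K, ⟨?_⟩, ?_, fun k hk => hk.2.2, hKM.trans hMC⟩
  · rintro t ⟨htM, htc, htp⟩ g
    refine ⟨hMn.conj_mem t htM g, fun m hm => ?_, ?_⟩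
    · have h1 : ⁅g * t * g⁻¹, m⁆ = g * ⁅t, g⁻¹ * m * g⁻¹⁻¹⁆ * g⁻¹ := by
        simp only [commutatorElement_def]; group
      rw [h1]
      exact hRn.conj_mem _ (htc _ (hMn.conj_mem m hm g⁻¹)) g
    · rw [conj_pow, htp, mul_one, mul_inv_cancel]
  · have hRK : R ≤ K := by
      intro r hr
      refine ⟨hRM hr, fun m hm => ?_, hRe r hr⟩
      have h1 : ⁅r, m⁆ = r * (m * r⁻¹ * m⁻¹) := by
        simp only [commutatorElement_def]; group
      rw [h1]
      exact R.mul_mem hr (hRn.conj_mem _ (R.inv_mem hr) m)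
    have heK : e ∈ K := ⟨heM, hec, hep⟩
    exact lt_of_le_of_ne hRK (fun h => heR (h ▸ heK))

/-- **For odd `p`, a `p`-group with an elementary abelian subgroup of order at least `p ^ 3` has
a normal elementary abelian subgroup of order `p ^ 3`.** -/
theorem exists_normal_elementary_cube_aux (hp2 : p ≠ 2) (n : ℕ) :
    ∀ (P : Type u) [Group P] [Finite P], Nat.card P = n → IsPGroup p P →
      (∃ E : Subgroup P, (∀ a ∈ E, ∀ b ∈ E, a * b = b * a) ∧ (∀ e ∈ E, e ^ p = 1) ∧
        p ^ 2 < Nat.card E) →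
      ∃ A : Subgroup P, A.Normal ∧ IsMulCommutative A ∧ (∀ a ∈ A, a ^ p = 1) ∧
        Nat.card A = p ^ 3 := by
  induction n using Nat.strong_induction_on with
  | _ n ih =>
  intro P _ _ hn hP ⟨E, hEc, hEe, hEcard⟩
  classical
  haveI : Group.IsNilpotent P := hP.isNilpotent
  have hp1 := hp.out.one_lt
  -- `P` is not cyclic
  have hnc : ¬ IsCyclic P := by
    intro hcyc
    haveI : IsCyclic E := Subgroup.isCyclic E
    obtain ⟨g, hg⟩ := IsCyclic.exists_generator (α := E)
    have h1 : orderOf g = Nat.card E := orderOf_eq_card_of_forall_mem_zpowers hg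
    have h2 : g ^ p = 1 := by
      apply Subtype.ext
      rw [Subgroup.coe_pow, Subgroup.coe_one]
      exact hEe g g.2
    have h3 : orderOf g ∣ p := orderOf_dvd_of_pow_eq_one h2
    have h4 := Nat.le_of_dvd hp.out.pos h3
    rw [h1] at h4
    have : p ≤ p ^ 2 := by nlinarith
    omega
  obtain ⟨R, hRn, hRc, hRe, hRcard⟩ := exists_normal_elementary_sq hp2 hP hnc
  have := hRn
  obtain ⟨x, hxE, hxC, hxR⟩ := exists_mem_centralizer_not_mem hP R hRcard E hEc hEcard
  set C : Subgroup P := Subgroup.centralizer (R : Set P) with hC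
  have hRcomm : ∀ a ∈ R, ∀ b ∈ R, a * b = b * a := by
    intro a ha b hb
    exact congrArg Subtype.val (hRc.is_comm.comm (⟨a, ha⟩ : R) ⟨b, hb⟩)
  have hRC : R ≤ C := by
    intro r hr
    rw [hC, Subgroup.mem_centralizer_iff]
    intro y hy
    exact hRcomm y hy r hr
  set F : Subgroup P := Subgroup.closure ((R : Set P) ∪ {x}) with hF
  have hRF : R ≤ F := fun r hr => Subgroup.subset_closure (Or.inl hr)
  have hxF : x ∈ F := Subgroup.subset_closure (Or.inr rfl)
  have hFcomm : ∀ a ∈ F, ∀ b ∈ F, a * b = b * a := by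
    have hgen : ∀ a ∈ (R : Set P) ∪ {x}, ∀ b ∈ (R : Set P) ∪ {x}, a * b = b * a := by
      rintro a (ha | ha) b (hb | hb)
      · exact hRcomm a ha b hb
      · rw [Set.mem_singleton_iff] at hb; subst hb
        exact Subgroup.mem_centralizer_iff.mp hxC a ha
      · rw [Set.mem_singleton_iff] at ha; subst ha
        exact (Subgroup.mem_centralizer_iff.mp hxC b hb).symm
      · rw [Set.mem_singleton_iff] at ha hb; rw [ha, hb]
    have hFc : IsMulCommutative F := Subgroup.isMulCommutative_closure hgen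
    intro a ha b hb
    exact congrArg Subtype.val (hFc.is_comm.comm (⟨a, ha⟩ : F) ⟨b, hb⟩)
  have hFe : ∀ a ∈ F, a ^ p = 1 := by
    intro a ha
    have key : ∀ a ∈ F, a ∈ F ∧ a ^ p = 1 := by
      intro a ha
      induction ha using Subgroup.closure_induction with
      | mem y hy =>
        refine ⟨Subgroup.subset_closure hy, ?_⟩
        rcases hy with hy | hy
        · exact hRe y hy
        · rw [Set.mem_singleton_iff] at hy; rw [hy]; exact hEe x hxE
      | one => exact ⟨F.one_mem, one_pow _⟩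
      | mul a b _ _ iha ihb =>
        refine ⟨F.mul_mem iha.1 ihb.1, ?_⟩
        have hcm : Commute a b := hFcomm a iha.1 b ihb.1
        rw [hcm.mul_pow, iha.2, ihb.2, one_mul]
      | inv a _ iha => exact ⟨F.inv_mem iha.1, by rw [inv_pow, iha.2, inv_one]⟩
    exact (key a ha).2
  have hFC : F ≤ C := by
    rw [hF, Subgroup.closure_le]
    rintro y (hy | hy)
    · exact hRC hy
    · rw [Set.mem_singleton_iff] at hy; rw [hy]; exact hxC
  have hRF' : R < F := lt_of_le_of_ne hRF (fun h => hxR (h ▸ hxF))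
  by_cases hcase : C = ⊤ ∧ F = ⊤
  · obtain ⟨hCt, hFt⟩ := hcase
    refine exists_cube_of_le hP R hRcard ⊤ (hFt ▸ hRF') (fun k _ => hFe k ?_) ?_
    · rw [hFt]; exact Subgroup.mem_top k
    · rw [← hC, hCt]
  · obtain ⟨M, hMn, hMtop, hFM, hMC⟩ : ∃ M : Subgroup P, M.Normal ∧ M ≠ ⊤ ∧ F ≤ M ∧ M ≤ C := by
      by_cases hCt : C = ⊤
      · have hFt : F ≠ ⊤ := fun h => hcase ⟨hCt, h⟩
        obtain ⟨M, hM, hFM⟩ := (eq_top_or_exists_le_coatom F).resolve_left hFt
        exact ⟨M, Subgroup.NormalizerCondition.normal_of_coatom M (Group.normalizerCondition_of_isNilpotent (G := P)) hM, hM.1, hFM,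
          hCt ▸ le_top⟩
      · exact ⟨C, Subgroup.normal_centralizer, hCt, hFC, le_rfl⟩
    have := hMn
    have hRM : R ≤ M := hRF.trans hFM
    have hcardM : Nat.card M < n := by
      rw [← hn]
      have h1 : Nat.card M ≤ Nat.card P := Subgroup.card_le_card_group M
      rcases lt_or_eq_of_le h1 with h | h
      · exact h
      · exact absurd (Subgroup.card_eq_iff_eq_top M |>.mp h) hMtop
    have hcardF : p ^ 2 < Nat.card F := by
      rw [← hRcard]
      have h1 : Nat.card R ≤ Nat.card F := Subgroup.card_le_of_le hRF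
      rcases lt_or_eq_of_le h1 with h | h
      · exact h
      · exact absurd (Subgroup.eq_of_le_of_card_ge hRF h.ge) hRF'.ne
    obtain ⟨E₀, hE₀n, hE₀c, hE₀e, hE₀card⟩ := ih (Nat.card M) hcardM M rfl (hP.to_subgroup M)
      ⟨F.subgroupOf M, fun a ha b hb => Subtype.ext (hFcomm a ha b hb),
        fun a ha => Subtype.ext (by rw [Subgroup.coe_pow, Subgroup.coe_one]; exact hFe a ha),
        by rw [card_subgroupOf_eq, inf_eq_left.mpr hFM]; exact hcardF⟩
    have := hE₀n
    -- inside `M`
    set N' : Subgroup M := R.subgroupOf M with hN'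
    have hN'n : N'.Normal := Subgroup.normal_subgroupOf
    have hN'card : Nat.card N' = p ^ 2 := by
      rw [hN', card_subgroupOf_eq, inf_eq_left.mpr hRM, hRcard]
    set K' : Subgroup M := E₀ ⊔ N' with hK'
    have hlt : N' < K' := by
      refine lt_of_le_of_ne le_sup_right (fun h => ?_)
      have h1 : E₀ ≤ N' := by rw [h]; exact le_sup_left
      have h2 := Subgroup.card_le_of_le h1
      rw [hE₀card, hN'card] at h2
      have : p ^ 2 < p ^ 3 := Nat.pow_lt_pow_right hp1 (by norm_num)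
      omega
    obtain ⟨B', e', -, -, hB'K', -, he'B', he'N', he'c⟩ :=
      exists_normal_relIndex_p_le (hP.to_subgroup M) N' K' hlt
    have he'K' : e' ∈ K' := hB'K' he'B'
    have he'p : e' ^ p = 1 := by
      rw [hK', Subgroup.mem_sup_of_normal_right] at he'K'
      obtain ⟨a, ha, b, hb, hab⟩ := he'K'
      have hcm : Commute a b := by
        apply Subtype.ext
        have hb' : (b : P) ∈ R := hb
        exact (Subgroup.mem_centralizer_iff.mp (hMC a.2) (b : P) hb').symm
      have hbp : b ^ p = 1 := by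
        apply Subtype.ext
        rw [Subgroup.coe_pow, Subgroup.coe_one]
        exact hRe _ hb
      rw [← hab, hcm.mul_pow, hE₀e a ha, hbp, one_mul]
    have heR : (e' : P) ∉ R := fun h => he'N' h
    have hep : (e' : P) ^ p = 1 := by
      have := congrArg Subtype.val he'p
      rwa [Subgroup.coe_pow, Subgroup.coe_one] at this
    have hec : ∀ m ∈ M, ⁅(e' : P), m⁆ ∈ R := by
      intro m hm
      have h1 : ⁅e', (⟨m, hm⟩ : M)⁆ ∈ N' := he'c ⟨m, hm⟩
      rw [hN', Subgroup.mem_subgroupOf] at h1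
      simpa [commutatorElement_def] using h1
    obtain ⟨K, hKn, hRK, hKe, hKC⟩ := exists_normal_exponent_p_of_central_mod hp2 M R hRM hMC hRe
      (e' : P) e'.2 heR hep hec
    have := hKn
    exact exists_cube_of_le hP R hRcard K hRK hKe hKC

/-- **For odd `p`, a `p`-group without normal elementary abelian subgroups of order `p ^ 3` has
no elementary abelian subgroup of order greater than `p ^ 2`.** -/
theorem card_le_sq_of_no_normal_cube {P : Type u} [Group P] [Finite P] (hp2 : p ≠ 2)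
    (hP : IsPGroup p P)
    (h : ∀ A : Subgroup P, A.Normal → IsMulCommutative A → (∀ a ∈ A, a ^ p = 1) →
      Nat.card A ≠ p ^ 3)
    (E : Subgroup P) (hE : IsMulCommutative E) (hEe : ∀ e ∈ E, e ^ p = 1) :
    Nat.card E ≤ p ^ 2 := by
  by_contra hlt
  push_neg at hlt
  obtain ⟨A, hAn, hAc, hAe, hAcard⟩ := exists_normal_elementary_cube_aux hp2 (Nat.card P) P rfl hP
    ⟨E, fun a ha b hb => congrArg Subtype.val (hE.is_comm.comm (⟨a, ha⟩ : E) ⟨b, hb⟩), hEe, hlt⟩
  exact h A hAn hAc hAe hAcard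

end

end Cfsg.Agent.Lib.Lead
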