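import Mathlib
import Cfsg.Agent.Lib.Lead.RankThree3

set_option autoImplicit false

namespace Cfsg.Agent.Lib.Lead

open scoped commutatorElement

section
variable {G : Type*} [Group G]

/-- moving a power past an element when the commutator is central -/
theorem pow_mul_of_central_comm (u v w : G) (hw : ∀ g : G, g * w = w * g)
    (h : u * v = v * u * w) (m : ℕ) : u ^ m * v = v * u ^ m * w ^ m := by
  induction m with
  | zero => simp
  | succ m ih =>
    have hwm : ∀ g : G, g * w ^ m = w ^ m * g := fun g => ((Commute.pow_right (hw g) m)).eq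
    calc u ^ (m + 1) * v = u ^ m * (u * v) := by rw [pow_succ, mul_assoc]
      _ = u ^ m * v * u * w := by rw [h]; simp only [mul_assoc]
      _ = v * u ^ m * w ^ m * u * w := by rw [ih]
      _ = v * u ^ m * (w ^ m * u) * w := by simp only [mul_assoc]
      _ = v * u ^ m * (u * w ^ m) * w := by rw [← hwm u]
      _ = v * (u ^ m * u) * (w ^ m * w) := by simp only [mul_assoc]
      _ = v * u ^ (m + 1) * w ^ (m + 1) := by rw [← pow_succ, ← pow_succ]

/-- moving an element past a power when the commutator is central -/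
theorem mul_pow_of_central_comm (u v w : G) (hw : ∀ g : G, g * w = w * g)
    (h : u * v = v * u * w) (n : ℕ) : u * v ^ n = v ^ n * u * w ^ n := by
  induction n with
  | zero => simp
  | succ n ih =>
    have hwn : ∀ g : G, g * w ^ n = w ^ n * g := fun g => ((Commute.pow_right (hw g) n)).eq
    calc u * v ^ (n + 1) = u * v ^ n * v := by rw [pow_succ, mul_assoc]
      _ = v ^ n * u * w ^ n * v := by rw [ih]
      _ = v ^ n * u * (w ^ n * v) := by simp only [mul_assoc]
      _ = v ^ n * u * (v * w ^ n) := by rw [← hwn v]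
      _ = v ^ n * (u * v) * w ^ n := by simp only [mul_assoc]
      _ = v ^ n * (v * u * w) * w ^ n := by rw [h]
      _ = (v ^ n * v) * u * (w * w ^ n) := by simp only [mul_assoc]
      _ = v ^ (n + 1) * u * w ^ (n + 1) := by rw [← pow_succ, ← pow_succ']

/-- the collection formula `y ^ n * x = x * y ^ n * c ^ n * e ^ (n choose 2)` -/
theorem pow_mul_of_class_three (x y c e : G) (hc : y * x = x * y * c)
    (he : ∀ g : G, g * e = e * g) (hce : c * y = y * c * e) (n : ℕ) :
    y ^ n * x = x * y ^ n * c ^ n * e ^ (n.choose 2) := by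
  induction n with
  | zero => simp
  | succ n ih =>
    have hek : ∀ (k : ℕ) (g : G), g * e ^ k = e ^ k * g :=
      fun k g => ((Commute.pow_right (he g) k)).eq
    have hch : (n + 1).choose 2 = n + n.choose 2 := by
      rw [Nat.choose_succ_succ' n 1, Nat.choose_one_right]
    have h1 : c * y ^ n = y ^ n * c * e ^ n := mul_pow_of_central_comm c y e he hce n
    calc y ^ (n + 1) * x = y * (y ^ n * x) := by rw [pow_succ', mul_assoc]
      _ = y * (x * y ^ n * c ^ n * e ^ (n.choose 2)) := by rw [ih]
      _ = (y * x) * y ^ n * c ^ n * e ^ (n.choose 2) := by simp only [mul_assoc]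
      _ = (x * y * c) * y ^ n * c ^ n * e ^ (n.choose 2) := by rw [hc]
      _ = x * y * (c * y ^ n) * c ^ n * e ^ (n.choose 2) := by simp only [mul_assoc]
      _ = x * y * (y ^ n * c * e ^ n) * c ^ n * e ^ (n.choose 2) := by rw [h1]
      _ = x * (y * y ^ n) * c * (e ^ n * c ^ n) * e ^ (n.choose 2) := by simp only [mul_assoc]
      _ = x * (y * y ^ n) * c * (c ^ n * e ^ n) * e ^ (n.choose 2) := by rw [hek n (c ^ n)]
      _ = x * (y * y ^ n) * (c * c ^ n) * (e ^ n * e ^ (n.choose 2)) := by simp only [mul_assoc]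
      _ = x * y ^ (n + 1) * c ^ (n + 1) * e ^ ((n + 1).choose 2) := by
        rw [← pow_succ', ← pow_succ', ← pow_add, hch]

/-- **The power formula in class three.**  With `c = y⁻¹ x⁻¹ y x`, `d = [c, x]`, `e = [c, y]`,
`d` and `e` central:
`(x y) ^ n = x ^ n y ^ n c ^ (n choose 2) d ^ (n choose 3) e ^ (2 (n choose 3) + (n choose 2))`. -/
theorem mul_pow_of_class_three (x y c d e : G) (hc : y * x = x * y * c)
    (hd : ∀ g : G, g * d = d * g) (he : ∀ g : G, g * e = e * g)
    (hcd : c * x = x * c * d) (hce : c * y = y * c * e) (n : ℕ) :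
    (x * y) ^ n = x ^ n * y ^ n * c ^ (n.choose 2) * (d ^ (n.choose 3) *
      e ^ (2 * n.choose 3 + n.choose 2)) := by
  induction n with
  | zero => simp
  | succ n ih =>
    have hek : ∀ (k : ℕ) (g : G), g * e ^ k = e ^ k * g :=
      fun k g => ((Commute.pow_right (he g) k)).eq
    have hdk : ∀ (k : ℕ) (g : G), g * d ^ k = d ^ k * g :=
      fun k g => ((Commute.pow_right (hd g) k)).eq
    set a := n.choose 2 with ha
    set b := n.choose 3 with hb
    have hch2 : (n + 1).choose 2 = n + a := by
      rw [Nat.choose_succ_succ' n 1, Nat.choose_one_right]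
    have hch3 : (n + 1).choose 3 = a + b := by
      rw [Nat.choose_succ_succ' n 2]
    set z : G := d ^ b * e ^ (2 * b + a) with hz
    have hzc : ∀ g : G, g * z = z * g := by
      intro g
      rw [hz, ← mul_assoc, hdk b g, mul_assoc, hek _ g, ← mul_assoc]
    have h1 : c ^ a * x = x * c ^ a * d ^ a := pow_mul_of_central_comm c x d hd hcd a
    have h2 : y ^ n * x = x * y ^ n * c ^ n * e ^ a := pow_mul_of_class_three x y c e hc he hce n
    have h3 : c ^ (n + a) * y = y * c ^ (n + a) * e ^ (n + a) :=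
      pow_mul_of_central_comm c y e he hce (n + a)
    have hz' : e ^ (n + a) * (e ^ a * (d ^ a * z)) =
        d ^ ((n + 1).choose 3) * e ^ (2 * (n + 1).choose 3 + (n + 1).choose 2) := by
      rw [hz, hch2, hch3]
      have hde : ∀ i j : ℕ, e ^ i * d ^ j = d ^ j * e ^ i := fun i j => hdk j (e ^ i)
      calc e ^ (n + a) * (e ^ a * (d ^ a * (d ^ b * e ^ (2 * b + a))))
          = e ^ (n + a) * (e ^ a * (d ^ (a + b) * e ^ (2 * b + a))) := by
            rw [← mul_assoc (d ^ a), ← pow_add]
        _ = e ^ (n + a) * (d ^ (a + b) * (e ^ a * e ^ (2 * b + a))) := by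
            rw [← mul_assoc (e ^ a), hde, mul_assoc]
        _ = d ^ (a + b) * (e ^ (n + a) * (e ^ a * e ^ (2 * b + a))) := by
            rw [← mul_assoc, hde, mul_assoc]
        _ = d ^ (a + b) * e ^ (2 * (a + b) + (n + a)) := by
            rw [← pow_add, ← pow_add]
            congr 2
            ring
    calc (x * y) ^ (n + 1) = (x * y) ^ n * (x * y) := pow_succ _ _
      _ = x ^ n * y ^ n * c ^ a * z * (x * y) := by rw [ih]
      _ = x ^ n * y ^ n * c ^ a * (x * y) * z := by
        rw [mul_assoc (x ^ n * y ^ n * c ^ a), ← hzc (x * y), ← mul_assoc]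
      _ = x ^ n * y ^ n * (c ^ a * x) * y * z := by simp only [mul_assoc]
      _ = x ^ n * y ^ n * (x * c ^ a * d ^ a) * y * z := by rw [h1]
      _ = x ^ n * (y ^ n * x) * c ^ a * (d ^ a * y) * z := by simp only [mul_assoc]
      _ = x ^ n * (y ^ n * x) * c ^ a * (y * d ^ a) * z := by rw [hdk a y]
      _ = x ^ n * (x * y ^ n * c ^ n * e ^ a) * c ^ a * (y * d ^ a) * z := by rw [h2]
      _ = x ^ n * x * y ^ n * c ^ n * (e ^ a * (c ^ a * y)) * (d ^ a * z) := by
        simp only [mul_assoc]
      _ = x ^ n * x * y ^ n * c ^ n * ((c ^ a * y) * e ^ a) * (d ^ a * z) := by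
        rw [hek a (c ^ a * y)]
      _ = x ^ n * x * y ^ n * (c ^ n * c ^ a * y) * (e ^ a * (d ^ a * z)) := by
        simp only [mul_assoc]
      _ = x ^ n * x * y ^ n * (y * c ^ (n + a) * e ^ (n + a)) * (e ^ a * (d ^ a * z)) := by
        rw [← pow_add, h3]
      _ = (x ^ n * x) * (y ^ n * y) * c ^ (n + a) * (e ^ (n + a) * (e ^ a * (d ^ a * z))) := by
        simp only [mul_assoc]
      _ = x ^ (n + 1) * y ^ (n + 1) * c ^ ((n + 1).choose 2) *
          (d ^ ((n + 1).choose 3) * e ^ (2 * (n + 1).choose 3 + (n + 1).choose 2)) := by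
        rw [hz', ← pow_succ, ← pow_succ, hch2]

end

end Cfsg.Agent.Lib.Lead
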