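import Mathlib
import Cfsg.Agent.Lib.Lead.ClassThree1
import Cfsg.Agent.Lib.Lead.ClassTwo

set_option autoImplicit false

namespace Cfsg.Agent.Lib.Lead

open scoped commutatorElement

section
variable {R : Type*} [Group R]

/-- Class at most three: double commutators are central. -/
theorem commutatorElement_mem_center_of_class_three
    (h3 : ⁅⁅commutator R, (⊤ : Subgroup R)⁆, (⊤ : Subgroup R)⁆ = ⊥) (a b c : R) :
    ⁅⁅a, b⁆, c⁆ ∈ Subgroup.center R := by
  rw [Subgroup.commutator_eq_bot_iff_le_centralizer] at h3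
  have h1 : ⁅a, b⁆ ∈ commutator R := by
    rw [commutator_def]
    exact Subgroup.commutator_mem_commutator (Subgroup.mem_top a) (Subgroup.mem_top b)
  have h2 : ⁅⁅a, b⁆, c⁆ ∈ ⁅commutator R, (⊤ : Subgroup R)⁆ :=
    Subgroup.commutator_mem_commutator h1 (Subgroup.mem_top c)
  have h4 := h3 h2
  rw [Subgroup.coe_top, Subgroup.centralizer_univ] at h4
  exact h4

/-- the data of the class three power formula -/
theorem mul_pow_of_class_three'
    (h3 : ⁅⁅commutator R, (⊤ : Subgroup R)⁆, (⊤ : Subgroup R)⁆ = ⊥) (x y : R) (n : ℕ) :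
    (x * y) ^ n = x ^ n * y ^ n * ⁅y⁻¹, x⁻¹⁆ ^ (n.choose 2) *
      (⁅⁅x⁻¹, y⁻¹⁆, x⁻¹⁆ ^ (n.choose 3) * ⁅⁅x⁻¹, y⁻¹⁆, y⁻¹⁆ ^ (2 * n.choose 3 + n.choose 2)) := by
  have hd := commutatorElement_mem_center_of_class_three h3 x⁻¹ y⁻¹ x⁻¹
  have he := commutatorElement_mem_center_of_class_three h3 x⁻¹ y⁻¹ y⁻¹
  apply mul_pow_of_class_three x y ⁅y⁻¹, x⁻¹⁆ ⁅⁅x⁻¹, y⁻¹⁆, x⁻¹⁆ ⁅⁅x⁻¹, y⁻¹⁆, y⁻¹⁆
  · simp only [commutatorElement_def]; group
  · exact fun g => Subgroup.mem_center_iff.mp hd g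
  · exact fun g => Subgroup.mem_center_iff.mp he g
  · simp only [commutatorElement_def]; group
  · simp only [commutatorElement_def]; group

variable {p : ℕ} [hp : Fact p.Prime]

/-- in class three with `p > 3`: multiplying by an element of order dividing `p` does not change
the `p`-th power -/
theorem mul_pow_prime_eq_of_class_three (hp3 : 3 < p)
    (h3 : ⁅⁅commutator R, (⊤ : Subgroup R)⁆, (⊤ : Subgroup R)⁆ = ⊥) (x y : R) (hy : y ^ p = 1) :
    (x * y) ^ p = x ^ p := by
  have hd := commutatorElement_mem_center_of_class_three h3 x⁻¹ y⁻¹ x⁻¹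
  have he := commutatorElement_mem_center_of_class_three h3 x⁻¹ y⁻¹ y⁻¹
  set c : R := ⁅y⁻¹, x⁻¹⁆ with hc
  set d : R := ⁅⁅x⁻¹, y⁻¹⁆, x⁻¹⁆ with hdd
  set e : R := ⁅⁅x⁻¹, y⁻¹⁆, y⁻¹⁆ with hee
  have hyx : y * x = x * y * c := by simp only [hc, commutatorElement_def]; group
  have hcd : c * x = x * c * d := by simp only [hc, hdd, commutatorElement_def]; group
  have hce : c * y = y * c * e := by simp only [hc, hee, commutatorElement_def]; group
  have hdc : ∀ g : R, g * d = d * g := fun g => Subgroup.mem_center_iff.mp hd g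
  have hec : ∀ g : R, g * e = e * g := fun g => Subgroup.mem_center_iff.mp he g
  obtain ⟨k2, hk2⟩ := Nat.Prime.dvd_choose_self hp.out (by norm_num : (2 : ℕ) ≠ 0)
    (by omega : 2 < p)
  obtain ⟨k3, hk3⟩ := Nat.Prime.dvd_choose_self hp.out (by norm_num : (3 : ℕ) ≠ 0) hp3
  have hep : e ^ p = 1 := by
    have h1 := mul_pow_of_central_comm c y e hec hce p
    rw [hy, mul_one, one_mul] at h1
    exact (mul_eq_left.mp h1.symm)
  have hcp : c ^ p = 1 := by
    have h1 := pow_mul_of_class_three x y c e hyx hec hce p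
    rw [hy, one_mul, mul_one, hk2, pow_mul, hep, one_pow, mul_one] at h1
    exact (mul_eq_left.mp h1.symm)
  have hdp : d ^ p = 1 := by
    have h1 := pow_mul_of_central_comm c x d hdc hcd p
    rw [hcp, one_mul, mul_one] at h1
    exact (mul_eq_left.mp h1.symm)
  rw [mul_pow_of_class_three x y c d e hyx hdc hec hcd hce p, hy, mul_one, hk2, hk3,
    pow_mul, hcp, one_pow, mul_one, pow_mul, hdp, one_pow, one_mul,
    show 2 * (p * k3) + p * k2 = p * (2 * k3 + k2) by ring, pow_mul, hep, one_pow, mul_one]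

/-- **For `p > 3`, in a group of class at most three the elements of order dividing `p` generate
a subgroup of exponent dividing `p`.** -/
theorem omega_exponent_of_class_three (hp3 : 3 < p)
    (h3 : ⁅⁅commutator R, (⊤ : Subgroup R)⁆, (⊤ : Subgroup R)⁆ = ⊥) (g : R)
    (hg : g ∈ Subgroup.closure {x : R | x ^ p = 1}) : g ^ p = 1 := by
  let Ω : Subgroup R :=
    { carrier := {x | x ^ p = 1}
      one_mem' := one_pow _
      mul_mem' := fun {a b} ha hb => by
        show (a * b) ^ p = 1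
        rw [mul_pow_prime_eq_of_class_three hp3 h3 a b hb]; exact ha
      inv_mem' := fun {a} ha => by
        show a⁻¹ ^ p = 1
        rw [inv_pow, show a ^ p = 1 from ha, inv_one] }
  have hle : Subgroup.closure {x : R | x ^ p = 1} ≤ Ω := (Subgroup.closure_le Ω).mpr (fun x hx => hx)
  exact hle hg

/-- in class three with `p > 3`, if the derived subgroup has exponent dividing `p`, the `p`-th
power map is multiplicative -/
theorem mul_pow_prime_of_class_three (hp3 : 3 < p)
    (h3 : ⁅⁅commutator R, (⊤ : Subgroup R)⁆, (⊤ : Subgroup R)⁆ = ⊥)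
    (hder : ∀ g ∈ commutator R, g ^ p = 1) (x y : R) : (x * y) ^ p = x ^ p * y ^ p := by
  obtain ⟨k2, hk2⟩ := Nat.Prime.dvd_choose_self hp.out (by norm_num : (2 : ℕ) ≠ 0)
    (by omega : 2 < p)
  obtain ⟨k3, hk3⟩ := Nat.Prime.dvd_choose_self hp.out (by norm_num : (3 : ℕ) ≠ 0) hp3
  have hmem : ∀ a b : R, ⁅a, b⁆ ∈ commutator R := by
    intro a b
    rw [commutator_def]
    exact Subgroup.commutator_mem_commutator (Subgroup.mem_top a) (Subgroup.mem_top b)
  have hcp := hder _ (hmem y⁻¹ x⁻¹)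
  have hdp := hder _ (hmem ⁅x⁻¹, y⁻¹⁆ x⁻¹)
  have hep := hder _ (hmem ⁅x⁻¹, y⁻¹⁆ y⁻¹)
  rw [mul_pow_of_class_three' h3 x y p, hk2, hk3, pow_mul, hcp, one_pow, mul_one, pow_mul, hdp,
    one_pow, one_mul, show 2 * (p * k3) + p * k2 = p * (2 * k3 + k2) by ring, pow_mul, hep,
    one_pow, mul_one]

/-- small class relative to `p` and derived subgroup generated by elements of order dividing `p`:
the `p`-th power map is multiplicative -/
theorem mul_pow_prime_of_small_class [Finite R]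
    (hcl : (p ≠ 2 ∧ ⁅commutator R, (⊤ : Subgroup R)⁆ = ⊥) ∨
      (3 < p ∧ ⁅⁅commutator R, (⊤ : Subgroup R)⁆, (⊤ : Subgroup R)⁆ = ⊥))
    (hder : commutator R ≤ Subgroup.closure {x : R | x ^ p = 1}) (x y : R) :
    (x * y) ^ p = x ^ p * y ^ p := by
  rcases hcl with ⟨hp2, h2⟩ | ⟨hp3, h3⟩
  · have hc := commutatorElement_mem_center_of_class_two h2
    rw [mul_pow_of_class_two hc x y p]
    have hlt : 2 < p := lt_of_le_of_ne hp.out.two_le (Ne.symm hp2)
    obtain ⟨k, hk⟩ := Nat.Prime.dvd_choose_self hp.out (by norm_num : (2 : ℕ) ≠ 0) hlt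
    have hmem : ⁅y, x⁆ ∈ commutator R := by
      rw [commutator_def]
      exact Subgroup.commutator_mem_commutator (Subgroup.mem_top y) (Subgroup.mem_top x)
    have h1 : ⁅y, x⁆ ^ p = 1 := omega_exponent_of_class_two hp2 h2 _ (hder hmem)
    rw [hk, pow_mul, h1, one_pow, mul_one]
  · exact mul_pow_prime_of_class_three hp3 h3
      (fun g hg => omega_exponent_of_class_three hp3 h3 g (hder hg)) x y

end

end Cfsg.Agent.Lib.Lead
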