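import Mathlib
import Cfsg.Agent.Lib.Lead.ClassThree2
import Cfsg.Agent.Lib.Lead.ThompsonTransfer
import Cfsg.Agent.Lib.Lead.CyclicP

set_option autoImplicit false

namespace Cfsg.Agent.Lib.Lead

section
variable {G : Type*} [Group G]

/-- two elements of order two in a cyclic subgroup coincide -/
theorem eq_of_orderOf_two_of_mem_zpowers [Finite G] (q a b : G) (ha : a ∈ Subgroup.zpowers q)
    (hb : b ∈ Subgroup.zpowers q) (hao : orderOf a = 2) (hbo : orderOf b = 2) : a = b := by
  classical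
  set Q : Subgroup G := Subgroup.zpowers q with hQ
  haveI : IsCyclic Q := by rw [hQ]; infer_instance
  set a' : Q := ⟨a, ha⟩ with ha'
  set b' : Q := ⟨b, hb⟩ with hb'
  have hao' : orderOf a' = 2 := by rw [← hao, ← Subgroup.orderOf_coe a']
  have hbo' : orderOf b' = 2 := by rw [← hbo, ← Subgroup.orderOf_coe b']
  have hle : Subgroup.zpowers a' ≤ Subgroup.zpowers b' := by
    apply le_of_card_dvd_of_isCyclic
    rw [Nat.card_zpowers, Nat.card_zpowers, hao', hbo']
  have hmem : a' ∈ Subgroup.zpowers b' := hle (Subgroup.mem_zpowers a')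
  obtain ⟨k, hk⟩ := Subgroup.mem_zpowers_iff.mp hmem
  have hk' : b' ^ (k % 2) = a' := by
    have := zpow_mod_orderOf b' k
    rw [hbo'] at this
    rw [← hk]; exact_mod_cast this
  have hne : a' ≠ 1 := by
    intro h
    rw [h, orderOf_one] at hao'
    norm_num at hao'
  have h2 : k % 2 = 0 ∨ k % 2 = 1 := by omega
  rcases h2 with h | h
  · rw [h, zpow_zero] at hk'
    exact absurd hk'.symm hne
  · rw [h, zpow_one] at hk'
    have := congrArg Subtype.val hk'
    exact this.symm

/-- **A finite group with `O^2(G) = G` and dihedral Sylow 2-subgroups of order at least 8 has a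
single class of involutions.** -/
theorem involutions_conj_of_dihedral [Finite G] (T : Sylow 2 G) (n : ℕ) (hn : 2 ≤ n)
    (hT : Nonempty ((T : Subgroup G) ≃* DihedralGroup (2 ^ n)))
    (hO : Cfsg.pResidual 2 G = ⊤) (x y : G) (hx : orderOf x = 2) (hy : orderOf y = 2) :
    ∃ g : G, g * x * g⁻¹ = y := by
  classical
  obtain ⟨φ⟩ := hT
  haveI : NeZero (2 ^ n) := ⟨by positivity⟩
  set t : (T : Subgroup G) := φ.symm (DihedralGroup.r 1) with ht
  set q : G := (t : G) with hq
  set Q : Subgroup G := Subgroup.zpowers q with hQ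
  have hqo : orderOf q = 2 ^ n := by
    rw [hq, Subgroup.orderOf_coe, ht, MulEquiv.orderOf_eq, DihedralGroup.orderOf_r_one]
  have hQT : Q ≤ (T : Subgroup G) := by
    rw [hQ, Subgroup.zpowers_le]; exact t.2
  have hTcard : Nat.card (T : Subgroup G) = 2 * 2 ^ n := by
    rw [Nat.card_congr φ.toEquiv, DihedralGroup.nat_card]
  have hQcard : Nat.card Q = 2 ^ n := by rw [hQ, Nat.card_zpowers, hqo]
  have hQi : Q.relIndex (T : Subgroup G) = 2 := by
    have h1 := Subgroup.relIndex_mul_relIndex ⊥ Q (T : Subgroup G) bot_le hQT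
    rw [Subgroup.relIndex_bot_left, Subgroup.relIndex_bot_left, hQcard, hTcard] at h1
    have h2 : 0 < 2 ^ n := by positivity
    have h3 : 2 ^ n * Q.relIndex (T : Subgroup G) = 2 ^ n * 2 := by rw [h1]; ring
    exact Nat.eq_of_mul_eq_mul_left h2 h3
  -- every involution is conjugate into `Q`
  have hconj : ∀ u : G, orderOf u = 2 → ∃ g : G, g * u * g⁻¹ ∈ Q := by
    intro u hu
    by_contra hall
    push_neg at hall
    obtain ⟨M, hMn, hMi, huM⟩ := thompson_transfer T Q hQi u hu hall
    apply huM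
    have hle : Cfsg.pResidual 2 G ≤ M := by
      unfold Cfsg.pResidual
      rw [Subgroup.closure_le]
      intro g hg
      have hg' : Nat.Coprime (orderOf g) 2 := hg
      have hodd : Odd (orderOf g) := Nat.Coprime.odd_of_right hg'
      obtain ⟨k, hk⟩ := hodd
      have h1 : g = (g ^ (k + 1)) ^ 2 := by
        rw [← pow_mul, show (k + 1) * 2 = orderOf g + 1 by omega, pow_succ, pow_orderOf_eq_one,
          one_mul]
      rw [SetLike.mem_coe, h1, sq]
      exact Subgroup.mul_self_mem_of_index_two hMi _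
    rw [hO] at hle
    exact hle (Subgroup.mem_top u)
  obtain ⟨g₁, hg₁⟩ := hconj x hx
  obtain ⟨g₂, hg₂⟩ := hconj y hy
  have ho₁ : orderOf (g₁ * x * g₁⁻¹) = 2 := by
    rw [← hx, ← MulAut.conj_apply]; exact MulEquiv.orderOf_eq (MulAut.conj g₁) x
  have ho₂ : orderOf (g₂ * y * g₂⁻¹) = 2 := by
    rw [← hy, ← MulAut.conj_apply]; exact MulEquiv.orderOf_eq (MulAut.conj g₂) y
  have heq := eq_of_orderOf_two_of_mem_zpowers q _ _ hg₁ hg₂ ho₁ ho₂
  refine ⟨g₂⁻¹ * g₁, ?_⟩
  have : y = g₂⁻¹ * (g₂ * y * g₂⁻¹) * g₂ := by group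
  rw [this, ← heq]
  group

end

end Cfsg.Agent.Lib.Lead
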