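import Mathlib
import Cfsg.Agent.Lib.Lead.DihedralInvolutions

set_option autoImplicit false

namespace Cfsg.Agent.Lib.Lead

open scoped commutatorElement

universe u

section
variable {p : ℕ} [hp : Fact p.Prime]

/-- a `p`-group all of whose abelian subgroups have order at most `p ^ 2` has order at most
`p ^ 3` -/
theorem card_le_cube_of_abelian_le_sq {W : Type u} [Group W] [Finite W] (hW : IsPGroup p W)
    (hrk : ∀ E : Subgroup W, IsMulCommutative E → Nat.card E ≤ p ^ 2) : Nat.card W ≤ p ^ 3 := by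
  classical
  haveI : Group.IsNilpotent W := hW.isNilpotent
  have hp1 := hp.out.one_lt
  obtain ⟨A, hAn, hAc, hmax⟩ := exists_max_normal_abelian W
  have hCA : Subgroup.centralizer (A : Set W) = A := centralizer_eq_of_max_abelian_normal A hmax
  obtain ⟨k, hk⟩ := IsPGroup.iff_card.mp (hW.to_subgroup A)
  have hk2 : k ≤ 2 := by
    have h1 := hrk A hAc
    rw [hk] at h1
    exact (Nat.pow_le_pow_iff_right hp1).mp h1
  have hpp : p ≤ p ^ 3 := by
    calc p = p ^ 1 := (pow_one p).symm
      _ ≤ p ^ 3 := Nat.pow_le_pow_right hp.out.pos (by norm_num)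
  interval_cases k
  · -- `A = ⊥`
    rw [pow_zero] at hk
    have hAbot : A = ⊥ := Subgroup.card_eq_one.mp hk
    have h1 : Subgroup.centralizer ((⊥ : Subgroup W) : Set W) = ⊤ := by
      rw [Subgroup.coe_bot]
      exact Subgroup.centralizer_eq_top_iff_subset.mpr (by
        intro x hx
        rw [Set.mem_singleton_iff] at hx
        rw [hx]; exact Subgroup.one_mem _)
    rw [hAbot, h1] at hCA
    have h2 : Nat.card W = 1 := by
      rw [← Subgroup.card_top (G := W), hCA, Subgroup.card_bot]
    rw [h2]; exact Nat.one_le_pow _ _ hp.out.pos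
  · -- `|A| = p`
    rw [pow_one] at hk
    have h1 := le_center_of_normal_of_card_prime hW A hk
    have h2 : Subgroup.centralizer (A : Set W) = ⊤ :=
      Subgroup.centralizer_eq_top_iff_subset.mpr h1
    rw [h2] at hCA
    rw [← Subgroup.card_top (G := W), hCA, hk]
    exact hpp
  · -- `|A| = p ^ 2`
    have h1 := card_le_card_centralizer_mul_of_sq hW A hk
    rw [hCA, hk] at h1
    calc Nat.card W ≤ p ^ 2 * p := h1
      _ = p ^ 3 := by ring

/-- **For `p > 3`, in a `p`-group of `p`-rank at most two the product of two elements of order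
dividing `p` has order dividing `p`.** -/
theorem mul_pow_eq_one_of_rank_two_aux (hp3 : 3 < p) (n : ℕ) :
    ∀ (R : Type u) [Group R] [Finite R], Nat.card R = n → IsPGroup p R →
      (∀ E : Subgroup R, Cfsg.IsElementaryAbelian p E → Nat.card E ≤ p ^ 2) →
      ∀ x y : R, x ^ p = 1 → y ^ p = 1 → (x * y) ^ p = 1 := by
  induction n using Nat.strong_induction_on with
  | _ n ih =>
  intro R _ _ hn hR hrk x y hx hy
  classical
  haveI : Group.IsNilpotent R := hR.isNilpotent
  have hp1 := hp.out.one_lt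
  -- the statement for proper subgroups
  have hsub : ∀ H : Subgroup R, H ≠ ⊤ → ∀ a ∈ H, ∀ b ∈ H, a ^ p = 1 → b ^ p = 1 →
      (a * b) ^ p = 1 := by
    intro H hH a ha b hb hap hbp
    have hcard : Nat.card H < n := by
      rw [← hn]
      have h1 : Nat.card H ≤ Nat.card R := Subgroup.card_le_card_group H
      rcases lt_or_eq_of_le h1 with h | h
      · exact h
      · exact absurd (Subgroup.card_eq_iff_eq_top H |>.mp h) hH
    have hrkH : ∀ E : Subgroup H, Cfsg.IsElementaryAbelian p E → Nat.card E ≤ p ^ 2 := by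
      intro E hE
      have hE' : Cfsg.IsElementaryAbelian p (E.map H.subtype) := by
        haveI := hE.1
        refine ⟨inferInstance, ?_⟩
        rintro _ ⟨e, he, rfl⟩
        have := hE.2 e he
        rw [Subgroup.coe_subtype, ← Subgroup.coe_pow, this, Subgroup.coe_one]
      have := hrk _ hE'
      rwa [Subgroup.card_subtype] at this
    have h2 := ih (Nat.card H) hcard H rfl (hR.to_subgroup H) hrkH ⟨a, ha⟩ ⟨b, hb⟩
      (Subtype.ext (by rw [Subgroup.coe_pow, Subgroup.coe_one]; exact hap))
      (Subtype.ext (by rw [Subgroup.coe_pow, Subgroup.coe_one]; exact hbp))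
    have h3 := congrArg Subtype.val h2
    rwa [Subgroup.coe_pow, Subgroup.coe_one] at h3
  by_cases hH : Subgroup.closure ({x, y} : Set R) = ⊤
  swap
  · exact hsub _ hH x (Subgroup.subset_closure (by simp)) y (Subgroup.subset_closure (by simp))
      hx hy
  by_cases hx1 : x = 1
  · rw [hx1, one_mul]; exact hy
  by_cases hZ : Subgroup.zpowers x = ⊤
  · -- cyclic case
    have hyx : y ∈ Subgroup.zpowers x := by rw [hZ]; exact Subgroup.mem_top y
    obtain ⟨k, hk⟩ := Subgroup.mem_zpowers_iff.mp hyx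
    have hcm : Commute x y := by
      rw [← hk]; exact (Commute.refl x).zpow_right k
    rw [hcm.mul_pow, hx, hy, one_mul]
  obtain ⟨M, hM, hxM⟩ := (eq_top_or_exists_le_coatom (Subgroup.zpowers x)).resolve_left hZ
  have hMn : M.Normal :=
    Subgroup.NormalizerCondition.normal_of_coatom M (Group.normalizerCondition_of_isNilpotent (G := R)) hM
  have hxM' : x ∈ M := hxM (Subgroup.mem_zpowers x)
  -- the subgroup `W = Ω₁(M)`
  let W : Subgroup R :=
    { carrier := {g | g ∈ M ∧ g ^ p = 1}
      one_mem' := ⟨M.one_mem, one_pow _⟩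
      mul_mem' := fun {a b} ha hb =>
        ⟨M.mul_mem ha.1 hb.1, hsub M hM.1 a ha.1 b hb.1 ha.2 hb.2⟩
      inv_mem' := fun {a} ha => ⟨M.inv_mem ha.1, by rw [inv_pow, ha.2, inv_one]⟩ }
  have hWn : W.Normal := by
    refine ⟨fun w hw g => ⟨hMn.conj_mem w hw.1 g, ?_⟩⟩
    rw [conj_pow, hw.2, mul_one, mul_inv_cancel]
  have hWe : ∀ w ∈ W, w ^ p = 1 := fun w hw => hw.2
  have hxW : x ∈ W := ⟨hxM', hx⟩
  -- `|W| ≤ p ^ 3`
  have hWcard : Nat.card W ≤ p ^ 3 := by
    apply card_le_cube_of_abelian_le_sq (hR.to_subgroup W)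
    intro E hE
    have hE' : Cfsg.IsElementaryAbelian p (E.map W.subtype) := by
      haveI := hE
      refine ⟨inferInstance, ?_⟩
      rintro _ ⟨e, _, rfl⟩
      exact hWe _ e.2
    have := hrk _ hE'
    rwa [Subgroup.card_subtype] at this
  -- `|R| ≤ p ^ 4`
  have hyo : Nat.card (Subgroup.zpowers y) ≤ p := by
    rw [Nat.card_zpowers]
    exact Nat.le_of_dvd hp.out.pos (orderOf_dvd_of_pow_eq_one hy)
  have hRcard : Nat.card R ≤ p ^ 4 := by
    have hle : (⊤ : Subgroup R) ≤ Subgroup.zpowers y ⊔ W := by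
      rw [← hH, Subgroup.closure_le]
      intro g hg
      rcases hg with hg | hg
      · rw [hg]
        exact (le_sup_right : W ≤ Subgroup.zpowers y ⊔ W) hxW
      · rw [Set.mem_singleton_iff] at hg
        rw [hg]
        exact (le_sup_left : Subgroup.zpowers y ≤ Subgroup.zpowers y ⊔ W) (Subgroup.mem_zpowers y)
    have h1 := card_sup_mul_card_inf (Subgroup.zpowers y) W (by
      rw [Subgroup.normalizer_eq_top_iff.mpr hWn]; exact le_top)
    have h2 : Nat.card (Subgroup.zpowers y ⊔ W : Subgroup R) ≤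
        Nat.card (Subgroup.zpowers y) * Nat.card W := by
      rw [← h1]
      exact Nat.le_mul_of_pos_right _ Nat.card_pos
    have h3 : Nat.card R ≤ Nat.card (Subgroup.zpowers y ⊔ W : Subgroup R) := by
      rw [← Subgroup.card_top (G := R)]
      exact Subgroup.card_le_of_le hle
    calc Nat.card R ≤ Nat.card (Subgroup.zpowers y) * Nat.card W := h3.trans h2
      _ ≤ p * p ^ 3 := Nat.mul_le_mul hyo hWcard
      _ = p ^ 4 := by ring
  -- `p ^ 2 ≤ |R|`
  obtain ⟨m, hm⟩ := IsPGroup.iff_card.mp hR
  have hm4 : m ≤ 4 := by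
    rw [hm] at hRcard
    exact (Nat.pow_le_pow_iff_right hp1).mp hRcard
  have hm2 : 2 ≤ m := by
    by_contra hlt
    have hm1 : m ≤ 1 := by omega
    have h1 : Nat.card R ≤ p := by
      rw [hm]
      calc p ^ m ≤ p ^ 1 := Nat.pow_le_pow_right hp.out.pos hm1
        _ = p := pow_one p
    have h2 : orderOf x = p := orderOf_eq_prime hx hx1
    have h3 : Nat.card (Subgroup.zpowers x) = p := by rw [Nat.card_zpowers, h2]
    have h4 : Nat.card R ≤ Nat.card (Subgroup.zpowers x) := by rw [h3]; exact h1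
    exact hZ ((Subgroup.card_eq_iff_eq_top _).mp
      (le_antisymm (Subgroup.card_le_card_group _) h4))
  have hclass : Group.nilpotencyClass R ≤ 3 := by
    have := nilpotencyClass_le_of_card (p := p) m R hm hm2
    omega
  have h3 : ⁅⁅commutator R, (⊤ : Subgroup R)⁆, (⊤ : Subgroup R)⁆ = ⊥ := by
    have := Subgroup.lowerCentralSeries_eq_bot_iff_nilpotencyClass_le.mpr hclass
    exact this
  rw [mul_pow_prime_eq_of_class_three hp3 h3 x y hy]
  exact hx

/-- **For `p > 3`, in a `p`-group of `p`-rank at most two the elements of order dividing `p`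
generate a subgroup of exponent dividing `p`.** -/
theorem omega_exponent_of_rank_two {R : Type u} [Group R] [Finite R] (hp3 : 3 < p)
    (hR : IsPGroup p R)
    (hrk : ∀ E : Subgroup R, Cfsg.IsElementaryAbelian p E → Nat.card E ≤ p ^ 2) (g : R)
    (hg : g ∈ Subgroup.closure {x : R | x ^ p = 1}) : g ^ p = 1 := by
  let Ω : Subgroup R :=
    { carrier := {x | x ^ p = 1}
      one_mem' := one_pow _
      mul_mem' := fun {a b} ha hb =>
        mul_pow_eq_one_of_rank_two_aux hp3 (Nat.card R) R rfl hR hrk a b ha hb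
      inv_mem' := fun {a} ha => by
        show a⁻¹ ^ p = 1
        rw [inv_pow, show a ^ p = 1 from ha, inv_one] }
  have hle : Subgroup.closure {x : R | x ^ p = 1} ≤ Ω := (Subgroup.closure_le Ω).mpr (fun x hx => hx)
  exact hle hg

end

end Cfsg.Agent.Lib.Lead
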