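import Mathlib
import Cfsg.Agent.Lib.Lead.RankTwoOmega

set_option autoImplicit false

namespace Cfsg.Agent.Lib.Lead

open scoped commutatorElement

section
variable {G : Type*} [Group G]

/-- if `G = [G, A]` and `A` fixes the characteristic abelian subgroup `H` pointwise, then `H` is
central -/
theorem le_center_of_char_abelian_of_fixed (A : Subgroup (MulAut G))
    (hGA : Subgroup.closure {x : G | ∃ g : G, ∃ a ∈ A, x = g⁻¹ * a g} = ⊤)
    (H : Subgroup G) [hHn : H.Normal] (hfix : ∀ a ∈ A, ∀ h ∈ H, a h = h) :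
    H ≤ Subgroup.center G := by
  intro h hh
  have hle : (⊤ : Subgroup G) ≤ Subgroup.centralizer ({h} : Set G) := by
    rw [← hGA, Subgroup.closure_le]
    rintro x ⟨g, a, ha, rfl⟩
    rw [SetLike.mem_coe, Subgroup.mem_centralizer_iff]
    intro y hy
    rw [Set.mem_singleton_iff] at hy
    subst hy
    have e1 : a (g * y * g⁻¹) = g * y * g⁻¹ := hfix a ha _ (hHn.conj_mem y hh g)
    rw [map_mul, map_mul, map_inv, hfix a ha y hh] at e1
    have e2 : a g * y = g * y * g⁻¹ * a g := by
      rw [← e1]; group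
    calc y * (g⁻¹ * a g) = g⁻¹ * (g * y * g⁻¹ * a g) := by group
      _ = g⁻¹ * (a g * y) := by rw [e2]
      _ = g⁻¹ * a g * y := by group
  rw [Subgroup.mem_center_iff]
  intro g
  have := Subgroup.mem_centralizer_iff.mp (hle (Subgroup.mem_top g)) h (Set.mem_singleton h)
  exact this.symm

/-- if every characteristic abelian subgroup of the nilpotent group `G` is central, then `G` has
class at most two -/
theorem commutator_le_center_of_char_abelian_central [Group.IsNilpotent G]
    (hcen : ∀ H : Subgroup G, H.Characteristic → IsMulCommutative H → H ≤ Subgroup.center G) :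
    commutator G ≤ Subgroup.center G := by
  set Z2 : Subgroup G := Subgroup.upperCentralSeries G 2 with hZ2
  have hZ2c : ⁅Z2, (⊤ : Subgroup G)⁆ ≤ Subgroup.center G := by
    rw [Subgroup.commutator_le]
    intro z hz g _
    have := (Subgroup.mem_upperCentralSeries_succ_iff (n := 1)).mp hz g
    rwa [Subgroup.upperCentralSeries_one] at this
  have h1 : ⁅⁅Z2, (⊤ : Subgroup G)⁆, (⊤ : Subgroup G)⁆ = ⊥ := by
    rw [Subgroup.commutator_eq_bot_iff_le_centralizer, Subgroup.coe_top,
      Subgroup.centralizer_univ]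
    exact hZ2c
  have h2 : ⁅⁅(⊤ : Subgroup G), Z2⁆, (⊤ : Subgroup G)⁆ = ⊥ := by
    rw [Subgroup.commutator_comm ⊤ Z2]; exact h1
  have h3 : ⁅⁅(⊤ : Subgroup G), (⊤ : Subgroup G)⁆, Z2⁆ = ⊥ :=
    Subgroup.commutator_commutator_eq_bot_of_rotate h2 h1
  set K : Subgroup G := commutator G ⊓ Z2 with hK
  haveI : (commutator G).Characteristic := by
    rw [commutator_def]; infer_instance
  haveI hKchar : K.Characteristic := by rw [hK]; infer_instance
  have hKcomm : IsMulCommutative K := by
    refine ⟨⟨fun a b => ?_⟩⟩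
    apply Subtype.ext
    have ha : (a : G) ∈ ⁅(⊤ : Subgroup G), (⊤ : Subgroup G)⁆ := by
      rw [← commutator_def]; exact a.2.1
    have hb : (b : G) ∈ Z2 := b.2.2
    rw [Subgroup.commutator_eq_bot_iff_le_centralizer] at h3
    have := Subgroup.mem_centralizer_iff.mp (h3 ha) (b : G) hb
    exact this.symm
  have hKZ : K ≤ Subgroup.center G := hcen K hKchar hKcomm
  -- descent along the lower central series
  have hstep : ∀ m : ℕ, Subgroup.lowerCentralSeries (⊤ : Subgroup G) (m + 3) = ⊥ →
      Subgroup.lowerCentralSeries (⊤ : Subgroup G) (m + 2) = ⊥ := by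
    intro m hm
    set L : Subgroup G := Subgroup.lowerCentralSeries (⊤ : Subgroup G) (m + 1) with hL
    have hLc : L ≤ commutator G := by
      have := Subgroup.lowerCentralSeries_antitone (⊤ : Subgroup G) (show 1 ≤ m + 1 by omega)
      exact this
    have hm' : ⁅⁅L, (⊤ : Subgroup G)⁆, (⊤ : Subgroup G)⁆ = ⊥ := hm
    have hLZ2 : L ≤ Z2 := by
      intro l hl
      rw [hZ2, Subgroup.mem_upperCentralSeries_succ_iff]
      intro y
      rw [Subgroup.upperCentralSeries_one]
      rw [Subgroup.commutator_eq_bot_iff_le_centralizer, Subgroup.coe_top,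
        Subgroup.centralizer_univ] at hm'
      exact hm' (Subgroup.commutator_mem_commutator hl (Subgroup.mem_top y))
    have hLcen : L ≤ Subgroup.center G := (le_inf hLc hLZ2).trans hKZ
    show ⁅L, (⊤ : Subgroup G)⁆ = ⊥
    rw [Subgroup.commutator_eq_bot_iff_le_centralizer, Subgroup.coe_top,
      Subgroup.centralizer_univ]
    exact hLcen
  have hall : ∀ k : ℕ, Subgroup.lowerCentralSeries (⊤ : Subgroup G) (k + 2) = ⊥ →
      Subgroup.lowerCentralSeries (⊤ : Subgroup G) 2 = ⊥ := by
    intro k
    induction k with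
    | zero => exact id
    | succ k ih => exact fun h => ih (hstep k h)
  obtain ⟨c, hc⟩ := (Subgroup.nilpotent_iff_lowerCentralSeries (G := G)).mp inferInstance
  have hc2 : Subgroup.lowerCentralSeries (⊤ : Subgroup G) (c + 2) = ⊥ := by
    have := Subgroup.lowerCentralSeries_antitone (⊤ : Subgroup G) (show c ≤ c + 2 by omega)
    rw [hc] at this
    exact le_bot_iff.mp this
  have h4 : ⁅commutator G, (⊤ : Subgroup G)⁆ = ⊥ := hall c hc2
  rw [Subgroup.commutator_eq_bot_iff_le_centralizer, Subgroup.coe_top,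
    Subgroup.centralizer_univ] at h4
  exact h4

end

end Cfsg.Agent.Lib.Lead
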