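import Mathlib
import Cfsg.Agent.Lib.Lead.SpecialAction1
import Cfsg.Agent.Lib.Lead.Frattini2

set_option autoImplicit false

namespace Cfsg.Agent.Lib.Lead

open scoped commutatorElement

section
variable {G : Type*} [Group G] [Finite G] {p : ℕ} [hp : Fact p.Prime]

/-- coprime action with `G = [G, A]`: the fixed points of `A` lie in the derived subgroup -/
theorem mem_commutator_of_fixed (hG : IsPGroup p G) (A : Subgroup (MulAut G))
    (hA : Nat.Coprime (Nat.card A) p)
    (hGA : Subgroup.closure {x : G | ∃ g : G, ∃ a ∈ A, x = g⁻¹ * a g} = ⊤)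
    (g : G) (hg : ∀ a ∈ A, a g = g) : g ∈ commutator G := by
  classical
  haveI : Finite A := inferInstance
  haveI : Fintype A := Fintype.ofFinite A
  set π : G →* Abelianization G := Abelianization.of with hπ
  let N : G →* Abelianization G := ∏ a : A, π.comp ((a : MulAut G) : G ≃* G).toMonoidHom
  have hN : ∀ x : G, N x = ∏ a : A, π ((a : MulAut G) x) := by
    intro x
    show (∏ a : A, π.comp ((a : MulAut G) : G ≃* G).toMonoidHom) x = _
    rw [MonoidHom.finset_prod_apply]
    rfl
  have hinv : ∀ (a₀ : A) (x : G), N ((a₀ : MulAut G) x) = N x := by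
    intro a₀ x
    rw [hN, hN]
    refine Fintype.prod_equiv (Equiv.mulRight a₀) _ _ (fun a => ?_)
    rfl
  have hker : ∀ x : G, N x = 1 := by
    intro x
    have hle : (⊤ : Subgroup G) ≤ N.ker := by
      rw [← hGA, Subgroup.closure_le]
      rintro y ⟨w, a, ha, rfl⟩
      rw [SetLike.mem_coe, MonoidHom.mem_ker, map_mul, map_inv]
      have := hinv ⟨a, ha⟩ w
      rw [show ((⟨a, ha⟩ : A) : MulAut G) w = a w from rfl] at this
      rw [this, inv_mul_cancel]
    exact MonoidHom.mem_ker.mp (hle (Subgroup.mem_top x))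
  have h1 : (π g) ^ Nat.card A = 1 := by
    have h2 := hker g
    rw [hN] at h2
    have h3 : ∀ a : A, π ((a : MulAut G) g) = π g := fun a => by rw [hg a a.2]
    simp only [h3, Finset.prod_const, Finset.card_univ] at h2
    rwa [Nat.card_eq_fintype_card]
  obtain ⟨k, hk⟩ := hG g
  have h4 : (π g) ^ (p ^ k) = 1 := by rw [← map_pow, hk, map_one]
  have h5 : orderOf (π g) ∣ Nat.gcd (Nat.card A) (p ^ k) :=
    Nat.dvd_gcd (orderOf_dvd_of_pow_eq_one h1) (orderOf_dvd_of_pow_eq_one h4)
  have h6 : Nat.gcd (Nat.card A) (p ^ k) = 1 := Nat.Coprime.pow_right k hA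
  rw [h6, Nat.dvd_one, orderOf_eq_one_iff] at h5
  rw [← Abelianization.ker_of (G := G)]
  exact MonoidHom.mem_ker.mpr h5

/-- class two, every characteristic abelian subgroup central: `p`-th powers are central -/
theorem pow_mem_center_of_char_abelian_central (hG : IsPGroup p G)
    (hcen : ∀ H : Subgroup G, H.Characteristic → IsMulCommutative H → H ≤ Subgroup.center G)
    (hcl : commutator G ≤ Subgroup.center G) (x : G) : x ^ p ∈ Subgroup.center G := by
  classical
  have hcc : ∀ a b : G, ⁅a, b⁆ ∈ Subgroup.center G := by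
    intro a b
    apply hcl
    rw [commutator_def]
    exact Subgroup.commutator_mem_commutator (Subgroup.mem_top a) (Subgroup.mem_top b)
  have hex : ∃ e : ℕ, ∀ y : G, y ^ (p ^ e) ∈ Subgroup.center G := by
    obtain ⟨k, hk⟩ := IsPGroup.iff_card.mp hG
    refine ⟨k, fun y => ?_⟩
    rw [← hk, pow_card_eq_one']
    exact Subgroup.one_mem _
  set e := Nat.find hex with he
  have hspec : ∀ y : G, y ^ (p ^ e) ∈ Subgroup.center G := Nat.find_spec hex
  have he1 : e ≤ 1 := by
    by_contra hlt
    push_neg at hlt
    set m := p ^ (e - 1) with hm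
    have hmm : m * m = p ^ e * p ^ (e - 2) := by
      rw [hm, ← pow_add, ← pow_add]
      congr 1
      omega
    set S : Set G := {y | ∃ x : G, y = x ^ m} ∪ (Subgroup.center G : Set G) with hS
    set Y : Subgroup G := Subgroup.closure S with hY
    have hYchar : Y.Characteristic := by
      rw [Subgroup.characteristic_iff_le_comap]
      intro φ
      rw [hY, Subgroup.closure_le]
      rintro y (⟨x, rfl⟩ | hy)
      · rw [SetLike.mem_coe, Subgroup.mem_comap]
        apply Subgroup.subset_closure
        left
        exact ⟨φ x, by simp⟩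
      · rw [SetLike.mem_coe, Subgroup.mem_comap]
        apply Subgroup.subset_closure
        right
        rw [SetLike.mem_coe, Subgroup.mem_center_iff]
        intro g
        have h1 := Subgroup.mem_center_iff.mp hy (φ.symm g)
        have h2 := congrArg φ h1
        rw [map_mul, map_mul, MulEquiv.apply_symm_apply] at h2
        exact h2
    have hcomm_pow : ∀ a b : G, a ^ m * b ^ m = b ^ m * a ^ m := by
      intro a b
      have h1 : ⁅a ^ m, b ^ m⁆ = ⁅a, b ^ m⁆ ^ m :=
        commutatorElement_pow_left a (b ^ m) (Subgroup.mem_center_iff.mp (hcc a (b ^ m)) a).symm m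
      have h2 : ⁅b ^ m, a⁆ = ⁅b, a⁆ ^ m :=
        commutatorElement_pow_left b a (Subgroup.mem_center_iff.mp (hcc b a) b).symm m
      have h3 : ⁅b ^ (m * m), a⁆ = ⁅b, a⁆ ^ (m * m) :=
        commutatorElement_pow_left b a (Subgroup.mem_center_iff.mp (hcc b a) b).symm (m * m)
      have h4 : b ^ (m * m) ∈ Subgroup.center G := by
        rw [hmm, pow_mul]
        exact Subgroup.pow_mem _ (hspec b) _
      have h5 : ⁅b ^ (m * m), a⁆ = 1 := by
        rw [commutatorElement_eq_one_iff_commute]
        exact (Subgroup.mem_center_iff.mp h4 a).symm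
      have h6 : ⁅a ^ m, b ^ m⁆ = 1 := by
        rw [h1, ← commutatorElement_inv (b ^ m) a, h2, inv_pow, ← pow_mul, ← h3, h5, inv_one]
      exact (commutatorElement_eq_one_iff_commute.mp h6).eq
    have hYcomm : IsMulCommutative Y := by
      apply Subgroup.isMulCommutative_closure
      rintro a (⟨x, rfl⟩ | ha) b (⟨y, rfl⟩ | hb)
      · exact hcomm_pow x y
      · exact (Subgroup.mem_center_iff.mp hb _)
      · exact (Subgroup.mem_center_iff.mp ha _).symm
      · exact (Subgroup.mem_center_iff.mp hb _)
    have hYZ : Y ≤ Subgroup.center G := hcen Y hYchar hYcomm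
    have hmin := Nat.find_min hex (m := e - 1) (by omega)
    apply hmin
    intro y
    apply hYZ
    apply Subgroup.subset_closure
    left
    exact ⟨y, rfl⟩
  have hspec' := hspec x
  interval_cases e
  · rw [pow_zero, pow_one] at hspec'
    exact Subgroup.pow_mem _ hspec' p
  · rwa [pow_one] at hspec'

/-- **If a `p'`-group `A` of automorphisms of the `p`-group `G` satisfies `G = [G, A]` and fixes
every characteristic abelian subgroup pointwise, then `G` is special and `Z(G) = C_G(A)`.** -/
theorem isSpecial_of_fixed_char_abelian (hG : IsPGroup p G) (A : Subgroup (MulAut G))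
    (hA : Nat.Coprime (Nat.card A) p)
    (hGA : Subgroup.closure {x : G | ∃ g : G, ∃ a ∈ A, x = g⁻¹ * a g} = ⊤)
    (hchar : ∀ H : Subgroup G, H.Characteristic → IsMulCommutative H → ∀ a ∈ A, ∀ h ∈ H, a h = h) :
    Cfsg.IsSpecial p G ∧ (∀ g : G, (g ∈ Subgroup.center G ↔ ∀ a ∈ A, a g = g)) := by
  haveI : Group.IsNilpotent G := hG.isNilpotent
  have hcen : ∀ H : Subgroup G, H.Characteristic → IsMulCommutative H →
      H ≤ Subgroup.center G := by
    intro H hHc hHa
    haveI := hHc
    exact le_center_of_char_abelian_of_fixed A hGA H (hchar H hHc hHa)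
  have hcl : commutator G ≤ Subgroup.center G := commutator_le_center_of_char_abelian_central hcen
  have hZfix : ∀ g ∈ Subgroup.center G, ∀ a ∈ A, a g = g := by
    intro g hg a ha
    exact hchar (Subgroup.center G) inferInstance inferInstance a ha g hg
  have hfixc : ∀ g : G, (∀ a ∈ A, a g = g) → g ∈ commutator G :=
    fun g hg => mem_commutator_of_fixed hG A hA hGA g hg
  have hZc : Subgroup.center G ≤ commutator G := fun g hg => hfixc g (hZfix g hg)
  have hcZ : commutator G = Subgroup.center G := le_antisymm hcl hZc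
  refine ⟨⟨hG, ?_, hcZ⟩, fun g => ⟨fun hg => hZfix g hg, fun hg => hcl (hfixc g hg)⟩⟩
  apply le_antisymm
  · exact frattini_le_of_elementary_quotient (Subgroup.center G) hcl
      (pow_mem_center_of_char_abelian_central hG hcen hcl)
  · rw [← hcZ]
    exact commutator_le_frattini_of_isPGroup hG

end

end Cfsg.Agent.Lib.Lead
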