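import Mathlib
import Cfsg.Agent.Lib.Lead.SpecialAction2

set_option autoImplicit false

namespace Cfsg.Agent.Lib.Lead

section
variable {R : Type*} [Group R] [Finite R] {p : ℕ} [hp : Fact p.Prime]

/-- a nontrivial normal subgroup of a `p`-group contains a normal subgroup of relative index `p` -/
theorem exists_normal_le_relIndex_p (hR : IsPGroup p R) (S : Subgroup R) [hSn : S.Normal]
    (hS : S ≠ ⊥) : ∃ S₁ : Subgroup R, S₁.Normal ∧ S₁ ≤ S ∧ S₁.relIndex S = p := by
  classical
  let F := {T : Subgroup R // T.Normal ∧ T < S}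
  haveI : Nonempty F := ⟨⟨⊥, inferInstance, bot_lt_iff_ne_bot.mpr hS⟩⟩
  obtain ⟨T, hT⟩ := Finite.exists_max (fun T : F => Nat.card T.1)
  obtain ⟨hTn, hTS⟩ := T.2
  haveI := hTn
  obtain ⟨B, e, hBn, hTB, hBS, hidx, -, -, -⟩ := exists_normal_relIndex_p_le hR T.1 S hTS
  have hBeq : B = S := by
    by_contra hne
    have hlt : B < S := lt_of_le_of_ne hBS hne
    have h1 := hT ⟨B, hBn, hlt⟩
    have h2 := Subgroup.relIndex_mul_relIndex ⊥ T.1 B bot_le hTB
    rw [Subgroup.relIndex_bot_left, Subgroup.relIndex_bot_left, hidx] at h2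
    have h3 : Nat.card B ≤ Nat.card T.1 := h1
    have h4 : 0 < Nat.card T.1 := Nat.card_pos
    have := hp.out.one_lt
    nlinarith
  exact ⟨T.1, hTn, hTS.le, hBeq ▸ hidx⟩

/-- **For odd `p`, every non-cyclic normal subgroup of a `p`-group contains a normal elementary
abelian subgroup of the whole group of order `p ^ 2`.** -/
theorem exists_normal_elementary_sq_le (hp2 : p ≠ 2) (hR : IsPGroup p R) (n : ℕ) :
    ∀ (S : Subgroup R), S.Normal → Nat.card S = n → ¬ IsCyclic S →
      ∃ A : Subgroup R, A ≤ S ∧ A.Normal ∧ IsMulCommutative A ∧ (∀ a ∈ A, a ^ p = 1) ∧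
        Nat.card A = p ^ 2 := by
  induction n using Nat.strong_induction_on with
  | _ n ih =>
  intro S hSn hcard hnc
  classical
  haveI := hSn
  have hSne : S ≠ ⊥ := by
    rintro rfl
    exact hnc inferInstance
  obtain ⟨S₁, hS₁n, hS₁S, hidx⟩ := exists_normal_le_relIndex_p hR S hSne
  by_cases hc : IsCyclic S₁
  · have hCcyc : IsCyclic (S₁.subgroupOf S) :=
      isCyclic_of_surjective (Subgroup.subgroupOfEquivOfLe hS₁S).symm
        (Subgroup.subgroupOfEquivOfLe hS₁S).symm.surjective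
    obtain ⟨E, hEc, hEexp, hEcard, hT⟩ :=
      exists_omega_of_cyclic_maximal hp2 (hR.to_subgroup S) hnc (S₁.subgroupOf S) hCcyc hidx
    refine ⟨E.map S.subtype, ?_, ?_, inferInstance, ?_, ?_⟩
    · rintro _ ⟨e, -, rfl⟩
      exact e.2
    · refine ⟨fun n hn g => ?_⟩
      obtain ⟨e, he, rfl⟩ := Subgroup.mem_map.mp hn
      have hmemS : g * (e : R) * g⁻¹ ∈ S := hSn.conj_mem _ e.2 g
      refine Subgroup.mem_map.mpr ⟨⟨g * (e : R) * g⁻¹, hmemS⟩, ?_, rfl⟩
      apply hT
      apply Subtype.ext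
      have h1 := congrArg Subtype.val (hEexp e he)
      simp only [Subgroup.coe_pow, Subgroup.coe_one] at h1 ⊢
      rw [conj_pow, h1]; group
    · intro y hy
      obtain ⟨e, he, rfl⟩ := Subgroup.mem_map.mp hy
      have h1 := congrArg Subtype.val (hEexp e he)
      simpa using h1
    · rw [Subgroup.card_map_of_injective S.subtype_injective, hEcard]
  · have hlt : Nat.card S₁ < n := by
      rw [← hcard]
      have h2 := Subgroup.relIndex_mul_relIndex ⊥ S₁ S bot_le hS₁S
      rw [Subgroup.relIndex_bot_left, Subgroup.relIndex_bot_left, hidx] at h2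
      have h4 : 0 < Nat.card S₁ := Nat.card_pos
      have := hp.out.one_lt
      nlinarith
    obtain ⟨A, hAS, hAn, hAc, hAe, hAcard⟩ := ih (Nat.card S₁) hlt S₁ hS₁n rfl hc
    exact ⟨A, hAS.trans hS₁S, hAn, hAc, hAe, hAcard⟩

end

end Cfsg.Agent.Lib.Lead
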