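import Mathlib
import Cfsg.Agent.Lib.Lead.NormalRankTwoB
import Cfsg.Prelude.Def_OddOrderLocal
import Cfsg.Prelude.Def_PLocal

set_option autoImplicit false

namespace Cfsg.Agent.Lib.Lead

section
variable {R : Type*} [Group R] [Finite R] {p : ℕ} [hp : Fact p.Prime]

/-- **For odd `p`, in a non-cyclic metacyclic `p`-group the elements of order dividing `p`
generate an elementary abelian subgroup of order `p ^ 2`.** -/
theorem omegaOne_of_metacyclic (hp2 : p ≠ 2) (hR : IsPGroup p R) (hm : Cfsg.IsMetacyclic R)
    (hnc : ¬ IsCyclic R) :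
    Cfsg.IsElementaryAbelian p (Cfsg.omegaOne p (⊤ : Subgroup R)) ∧
      Nat.card ↥(Cfsg.omegaOne p (⊤ : Subgroup R)) = p ^ 2 := by
  classical
  obtain ⟨N, hNn, hNc, hQc⟩ := hm
  haveI := hNn
  set π := QuotientGroup.mk' N with hπ
  have hker : π.ker = N := QuotientGroup.ker_mk' N
  have hQcomm : ∀ a b : R ⧸ N, a * b = b * a := by
    letI := IsCyclic.commGroup (α := R ⧸ N)
    exact fun a b => mul_comm a b
  -- the subgroup `M` of elements whose `p`-th power lies in `N`
  let M : Subgroup R :=
    { carrier := {x | x ^ p ∈ N}
      one_mem' := by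
        show (1 : R) ^ p ∈ N
        rw [one_pow]; exact N.one_mem
      mul_mem' := by
        intro a b ha hb
        show (a * b) ^ p ∈ N
        have ha0 : a ^ p ∈ N := ha
        have hb0 : b ^ p ∈ N := hb
        have ha' : π (a ^ p) = 1 := (QuotientGroup.eq_one_iff _).mpr ha0
        have hb' : π (b ^ p) = 1 := (QuotientGroup.eq_one_iff _).mpr hb0
        have hcm : Commute (π a) (π b) := hQcomm _ _
        have h1 : π ((a * b) ^ p) = 1 := by
          rw [map_pow, map_mul, hcm.mul_pow, ← map_pow, ← map_pow, ha', hb', one_mul]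
        exact (QuotientGroup.eq_one_iff _).mp h1
      inv_mem' := by
        intro a ha
        show a⁻¹ ^ p ∈ N
        rw [inv_pow]; exact N.inv_mem ha }
  have hNM : N ≤ M := fun x hx => N.pow_mem hx p
  have hpowM : ∀ x : R, x ^ p = 1 → x ∈ M := by
    intro x hx
    show x ^ p ∈ N
    rw [hx]; exact N.one_mem
  by_cases hMc : IsCyclic M
  · -- then `R` has a unique subgroup of order `p`
    exfalso
    have huniq : UniqueOrderP p R := by
      have key : ∀ H K : Subgroup R, Nat.card H = p → Nat.card K = p → H ≤ K := by
        intro H K hH hK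
        have hHM : H ≤ M := by
          intro h hh
          apply hpowM
          have := pow_card_eq_one' (G := H) (x := ⟨h, hh⟩)
          rw [hH] at this
          exact congrArg Subtype.val this
        have hKM : K ≤ M := by
          intro h hh
          apply hpowM
          have := pow_card_eq_one' (G := K) (x := ⟨h, hh⟩)
          rw [hK] at this
          exact congrArg Subtype.val this
        have hle : H.subgroupOf M ≤ K.subgroupOf M := by
          apply le_of_card_dvd_of_isCyclic
          rw [card_subgroupOf_eq, card_subgroupOf_eq, inf_eq_left.mpr hHM, inf_eq_left.mpr hKM,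
            hH, hK]
        intro h hh
        exact hle (show (⟨h, hHM hh⟩ : M) ∈ H.subgroupOf M from hh)
      intro H K hH hK
      exact le_antisymm (key H K hH hK) (key K H hK hH)
    rcases huniq.main hR with h | h
    · exact hnc h
    · exact hp2 h.1
  · have hcyc : IsCyclic (N.subgroupOf M) :=
      isCyclic_of_surjective (Subgroup.subgroupOfEquivOfLe hNM).symm
        (Subgroup.subgroupOfEquivOfLe hNM).symm.surjective
    have hrel_le : N.relIndex M ≤ p := by
      have h1 := Subgroup.relIndex_ker (K := M) π
      rw [hker] at h1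
      rw [h1]
      apply card_le_of_forall_pow_eq_one (M.map π) p hp.out.pos
      rintro _ ⟨x, hx, rfl⟩
      rw [← map_pow]
      exact (QuotientGroup.eq_one_iff _).mpr hx
    have hrel_ne : N.relIndex M ≠ 1 := by
      intro h1
      have hMN : M ≤ N := Subgroup.relIndex_eq_one.mp h1
      have : M = N := le_antisymm hMN hNM
      apply hMc
      rw [this]; exact hNc
    have hidx : (N.subgroupOf M).index = p := by
      have hdvd : N.relIndex M ∣ Nat.card M := Subgroup.relIndex_dvd_card N M
      obtain ⟨k, hk⟩ := IsPGroup.iff_card.mp (hR.to_subgroup M)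
      rw [hk] at hdvd
      obtain ⟨j, -, hj⟩ := (Nat.dvd_prime_pow hp.out).mp hdvd
      show N.relIndex M = p
      rw [hj] at hrel_le hrel_ne ⊢
      have hp1 := hp.out.one_lt
      rcases j with _ | _ | j
      · exact absurd (pow_zero p) hrel_ne
      · exact pow_one p
      · exfalso
        have : p ^ 2 ≤ p ^ (j + 1 + 1) := Nat.pow_le_pow_right hp.out.pos (by omega)
        nlinarith
    obtain ⟨E, hEc, hEexp, hEcard, hT⟩ :=
      exists_omega_of_cyclic_maximal hp2 (hR.to_subgroup M) hMc (N.subgroupOf M) hcyc hidx
    have hEq : Cfsg.omegaOne p (⊤ : Subgroup R) = E.map M.subtype := by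
      unfold Cfsg.omegaOne
      apply le_antisymm
      · rw [Subgroup.closure_le]
        rintro x ⟨-, hx⟩
        refine Subgroup.mem_map.mpr ⟨⟨x, hpowM x hx⟩, ?_, rfl⟩
        apply hT
        apply Subtype.ext
        rw [Subgroup.coe_pow, Subgroup.coe_one]
        exact hx
      · rintro _ ⟨e, he, rfl⟩
        apply Subgroup.subset_closure
        refine ⟨Subgroup.mem_top _, ?_⟩
        have h1 := congrArg Subtype.val (hEexp e he)
        simpa using h1
    rw [hEq]
    refine ⟨⟨inferInstance, ?_⟩, ?_⟩
    · rintro _ ⟨e, he, rfl⟩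
      have h1 := congrArg Subtype.val (hEexp e he)
      simpa using h1
    · rw [Subgroup.card_map_of_injective M.subtype_injective, hEcard]

end

end Cfsg.Agent.Lib.Lead
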