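import Mathlib
import Cfsg.Agent.Lib.Lead.MetacyclicOmega

set_option autoImplicit false

namespace Cfsg.Agent.Lib.Lead

open scoped commutatorElement

section
variable {G : Type*} [Group G] [Finite G] {p : ℕ} [hp : Fact p.Prime]

/-- if `H` is the only subgroup of order `p ^ s`, it contains every element of order dividing
`p ^ s` -/
theorem mem_of_pow_eq_one_of_unique (m s : ℕ) (hG : Nat.card G = p ^ m) (hsm : s ≤ m)
    (H : Subgroup G) (huniq : ∀ K : Subgroup G, Nat.card K = p ^ s → K = H) (g : G)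
    (hg : g ^ (p ^ s) = 1) : g ∈ H := by
  have h1 : orderOf g ∣ p ^ s := orderOf_dvd_of_pow_eq_one hg
  obtain ⟨j, hj, hjo⟩ := (Nat.dvd_prime_pow hp.out).mp h1
  have hcard : Nat.card (Subgroup.zpowers g) = p ^ j := by rw [Nat.card_zpowers, hjo]
  obtain ⟨K, hK, hle⟩ := Sylow.exists_subgroup_card_pow_prime_le p
    (by rw [hG]; exact pow_dvd_pow p hsm) (Subgroup.zpowers g) hcard hj
  rw [← huniq K hK]
  exact hle (Subgroup.mem_zpowers g)

/-- an element of a subgroup `K` of order `p ^ (s + 1)` outside `H` generates `K` -/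
theorem zpowers_eq_of_not_mem (s : ℕ) (H : Subgroup G)
    (hA : ∀ g : G, g ^ (p ^ s) = 1 → g ∈ H) (K : Subgroup G) (hK : Nat.card K = p ^ (s + 1))
    (v : G) (hvK : v ∈ K) (hvH : v ∉ H) :
    Subgroup.zpowers v = K ∧ orderOf v = p ^ (s + 1) := by
  have hle : Subgroup.zpowers v ≤ K := (Subgroup.zpowers_le).mpr hvK
  have h1 : v ^ (p ^ (s + 1)) = 1 := by
    have := pow_card_eq_one' (G := K) (x := ⟨v, hvK⟩)
    rw [hK] at this
    exact congrArg Subtype.val this
  obtain ⟨j, hj, hjo⟩ := (Nat.dvd_prime_pow hp.out).mp (orderOf_dvd_of_pow_eq_one h1)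
  have hj' : j = s + 1 := by
    by_contra hne
    have hjs : j ≤ s := by omega
    apply hvH
    apply hA
    obtain ⟨t, rfl⟩ := Nat.exists_eq_add_of_le hjs
    rw [pow_add, pow_mul, ← hjo, pow_orderOf_eq_one, one_pow]
  rw [hj'] at hjo
  refine ⟨Subgroup.eq_of_le_of_card_ge hle ?_, hjo⟩
  rw [Nat.card_zpowers, hjo, hK]

/-- the key step: a normal subgroup `N = ⟨u⟩` of order `p ^ (s + 1)`, central modulo `H`, is the
only subgroup of order `p ^ (s + 1)` -/
theorem eq_of_card_eq_of_unique (s : ℕ) (hs : 1 ≤ s) (h2 : p ≠ 2 ∨ 2 ≤ s) (H : Subgroup G)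
    (huniq : ∀ K : Subgroup G, Nat.card K = p ^ s → K = H)
    (hA : ∀ g : G, g ^ (p ^ s) = 1 → g ∈ H) (N : Subgroup G) (hN : Nat.card N = p ^ (s + 1))
    (u : G) (huN : u ∈ N) (huH : u ∉ H) (huc : ∀ g : G, ⁅u, g⁆ ∈ H)
    (K : Subgroup G) (hK : Nat.card K = p ^ (s + 1)) : K = N := by
  classical
  have hp1 := hp.out.one_lt
  have hHcard : Nat.card H = p ^ s := by
    obtain ⟨H', hH'⟩ := Sylow.exists_subgroup_card_pow_prime p
      (show p ^ s ∣ Nat.card G from
        (pow_dvd_pow p (Nat.le_succ s)).trans (hN ▸ Subgroup.card_subgroup_dvd_card N))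
    rw [← huniq H' hH']; exact hH'
  -- pick `v ∈ K \ H`
  obtain ⟨v, hvK, hvH⟩ : ∃ v ∈ K, v ∉ H := by
    by_contra hall
    push Not at hall
    have h1 : Nat.card K ≤ Nat.card H := Subgroup.card_le_of_le hall
    rw [hK, hHcard] at h1
    have : p ^ s < p ^ (s + 1) := Nat.pow_lt_pow_right hp1 (Nat.lt_succ_self s)
    omega
  obtain ⟨hvz, hvo⟩ := zpowers_eq_of_not_mem s H hA K hK v hvK hvH
  obtain ⟨huz, huo⟩ := zpowers_eq_of_not_mem s H hA N hN u huN huH
  -- `⟨v ^ p⟩ = H = ⟨u ^ p⟩`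
  have hpow : ∀ w : G, orderOf w = p ^ (s + 1) → Subgroup.zpowers (w ^ p) = H := by
    intro w hw
    apply huniq
    rw [Nat.card_zpowers, orderOf_pow' w hp.out.ne_zero, hw,
      Nat.gcd_eq_right (dvd_pow_self p (Nat.succ_ne_zero s)), pow_succ,
      Nat.mul_div_cancel _ hp.out.pos]
  have hvH' := hpow v hvo
  have huH' := hpow u huo
  have hupH : u ^ p ∈ Subgroup.zpowers (v ^ p) := by
    rw [hvH', ← huH']; exact Subgroup.mem_zpowers _
  obtain ⟨k, hk⟩ := Subgroup.mem_zpowers_iff.mp hupH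
  set y : G := (v ^ k)⁻¹ with hy
  have hyK : y ∈ K := K.inv_mem (K.zpow_mem hvK k)
  have hyp : y ^ p = (u ^ p)⁻¹ := by
    rw [hy, inv_pow, ← hk, ← zpow_natCast (v ^ k) p, ← zpow_mul, mul_comm, zpow_mul,
      zpow_natCast]
  set c : G := ⁅y, u⁆ with hc
  have hcH : c ∈ H := by
    rw [hc, ← commutatorElement_inv]; exact H.inv_mem (huc y)
  have hcu : Commute u c := by
    have h1 : c ∈ Subgroup.zpowers u := by
      have : H ≤ Subgroup.zpowers u := by
        rw [← huH']; exact Subgroup.zpowers_le.mpr (Subgroup.pow_mem _ (Subgroup.mem_zpowers u) p)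
      exact this hcH
    obtain ⟨j, hj⟩ := Subgroup.mem_zpowers_iff.mp h1
    rw [← hj]
    exact (Commute.refl u).zpow_right j
  have hcy : Commute y c := by
    have h1 : c ∈ Subgroup.zpowers v := by
      have : H ≤ Subgroup.zpowers v := by
        rw [← hvH']; exact Subgroup.zpowers_le.mpr (Subgroup.pow_mem _ (Subgroup.mem_zpowers v) p)
      exact this hcH
    obtain ⟨j, hj⟩ := Subgroup.mem_zpowers_iff.mp h1
    rw [← hj, hy]
    exact (((Commute.refl v).zpow_right j).zpow_left k).inv_left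
  have hcp : c ^ p = 1 := by
    rw [hc, ← commutatorElement_pow_left y u hcy.symm p, hyp, commutatorElement_eq_one_iff_commute]
    exact ((Commute.refl u).pow_left p).inv_left
  have hw : (u * y) ^ p = c ^ (p.choose 2) := by
    rw [mul_pow_of_commute_commutator u y hcu hcy p, hyp, mul_inv_cancel, one_mul]
  have hwH : u * y ∈ H := by
    apply hA
    rcases h2 with hp2 | hs2
    · have h3 : 2 < p := lt_of_le_of_ne hp.out.two_le (Ne.symm hp2)
      obtain ⟨t, ht⟩ := Nat.Prime.dvd_choose_self hp.out (by norm_num : (2 : ℕ) ≠ 0) h3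
      obtain ⟨r, rfl⟩ := Nat.exists_eq_add_of_le hs
      rw [pow_add, pow_one, pow_mul, hw, ht, pow_mul, hcp, one_pow, one_pow]
    · obtain ⟨r, rfl⟩ := Nat.exists_eq_add_of_le hs2
      have hw2 : (u * y) ^ (p ^ 2) = 1 := by
        rw [sq, pow_mul, hw, ← pow_mul, mul_comm, pow_mul, hcp, one_pow]
      rw [pow_add, pow_mul, hw2, one_pow]
  have hHK : H ≤ K := by
    rw [← hvH', ← hvz]; exact Subgroup.zpowers_le.mpr (Subgroup.pow_mem _ (Subgroup.mem_zpowers v) p)
  have huK : u ∈ K := by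
    have : u = (u * y) * y⁻¹ := by group
    rw [this]
    exact K.mul_mem (hHK hwH) (K.inv_mem hyK)
  have hNK : N ≤ K := by rw [← huz]; exact Subgroup.zpowers_le.mpr huK
  exact (Subgroup.eq_of_le_of_card_ge hNK (by rw [hN, hK])).symm

/-- **A `p`-group with exactly one subgroup of order `p ^ s` (`1 ≤ s < m`, and `2 ≤ s` if
`p = 2`) is cyclic.** -/
theorem isCyclic_of_unique_subgroup_aux (m : ℕ) (hG : Nat.card G = p ^ m) (d : ℕ) :
    ∀ s : ℕ, s + d + 1 = m → 1 ≤ s → (p ≠ 2 ∨ 2 ≤ s) →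
      (∀ H K : Subgroup G, Nat.card H = p ^ s → Nat.card K = p ^ s → H = K) → IsCyclic G := by
  classical
  have hp1 := hp.out.one_lt
  have hGp : IsPGroup p G := IsPGroup.of_card hG
  induction d with
  | zero =>
    intro s hsm hs h2 huniq
    obtain ⟨H, hH⟩ := Sylow.exists_subgroup_card_pow_prime p
      (show p ^ s ∣ Nat.card G from by rw [hG]; exact pow_dvd_pow p (by omega))
    have hA := mem_of_pow_eq_one_of_unique m s hG (by omega) H (fun K hK => huniq K H hK hH)
    obtain ⟨g, hg⟩ : ∃ g : G, g ∉ H := by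
      by_contra hall
      push Not at hall
      have h1 : H = ⊤ := (eq_top_iff.mpr fun x _ => hall x)
      rw [h1, Subgroup.card_top, hG] at hH
      have : p ^ s < p ^ m := Nat.pow_lt_pow_right hp1 (by omega)
      omega
    have hm : m = s + 1 := by omega
    obtain ⟨h1, -⟩ := zpowers_eq_of_not_mem s H hA ⊤ (by rw [Subgroup.card_top, hG, hm]) g
      (Subgroup.mem_top g) hg
    exact isCyclic_iff_exists_zpowers_eq_top.mpr ⟨g, h1⟩
  | succ d ih =>
    intro s hsm hs h2 huniq
    obtain ⟨H, hH⟩ := Sylow.exists_subgroup_card_pow_prime p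
      (show p ^ s ∣ Nat.card G from by rw [hG]; exact pow_dvd_pow p (by omega))
    have huniq' : ∀ K : Subgroup G, Nat.card K = p ^ s → K = H := fun K hK => huniq K H hK hH
    have hA := mem_of_pow_eq_one_of_unique m s hG (by omega) H huniq'
    haveI hHn : H.Normal := by
      refine ⟨fun h hh g => ?_⟩
      have h1 : Nat.card (H.map (MulAut.conj g).toMonoidHom) = p ^ s := by
        rw [Subgroup.card_map_of_injective (MulAut.conj g).injective, hH]
      have h2 := huniq' _ h1
      rw [← h2]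
      exact ⟨h, hh, rfl⟩
    have hHtop : H < ⊤ := by
      refine lt_top_iff_ne_top.mpr (fun h1 => ?_)
      rw [h1, Subgroup.card_top, hG] at hH
      have : p ^ s < p ^ m := Nat.pow_lt_pow_right hp1 (by omega)
      omega
    obtain ⟨N, u, hNn, hHN, -, hidx, huN, huH, huc⟩ := exists_normal_relIndex_p_le hGp H ⊤ hHtop
    have hNcard : Nat.card N = p ^ (s + 1) := by
      have h1 := Subgroup.relIndex_mul_relIndex ⊥ H N bot_le hHN
      rw [Subgroup.relIndex_bot_left, Subgroup.relIndex_bot_left, hidx, hH] at h1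
      rw [← h1, pow_succ]
    apply ih (s + 1) (by omega) (by omega)
    · rcases h2 with h | h
      · exact Or.inl h
      · exact Or.inr (by omega)
    · intro K₁ K₂ hK₁ hK₂
      rw [eq_of_card_eq_of_unique s hs h2 H huniq' hA N hNcard u huN huH huc K₁ hK₁,
        eq_of_card_eq_of_unique s hs h2 H huniq' hA N hNcard u huN huH huc K₂ hK₂]

end

end Cfsg.Agent.Lib.Lead
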