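import Mathlib
import Cfsg.Agent.Lib.Lead.UniqueOrderPS

set_option autoImplicit false

namespace Cfsg.Agent.Lib.Lead

section
variable {G : Type*} [Group G] [Finite G] {p : ℕ} [hp : Fact p.Prime]

/-- **Non-abelian `p`-groups with a cyclic maximal subgroup, `p` odd.** -/
theorem exists_generators_of_cyclic_maximal_odd (hp2 : p ≠ 2) (n : ℕ) (hn : 3 ≤ n)
    (hG : Nat.card G = p ^ n) (C : Subgroup G) (hC : IsCyclic C) (hCi : C.index = p)
    (hna : ∃ x y : G, x * y ≠ y * x) :
    ∃ a b : G, orderOf a = p ^ (n - 1) ∧ orderOf b = p ∧ b ∉ Subgroup.zpowers a ∧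
      b * a * b⁻¹ = a ^ (1 + p ^ (n - 2)) := by
  classical
  have hGp : IsPGroup p G := IsPGroup.of_card hG
  have hp1 := hp.out.one_lt
  haveI hCn : C.Normal := normal_of_index_eq_p hGp C hCi
  have hCcard : Nat.card C = p ^ (n - 1) := by
    have h1 := C.card_mul_index
    rw [hCi, hG] at h1
    have : p ^ n = p ^ (n - 1) * p := by
      rw [← pow_succ]; congr 1; omega
    rw [this] at h1
    exact Nat.eq_of_mul_eq_mul_right hp.out.pos h1
  have hnc : ¬ IsCyclic G := by
    intro h
    obtain ⟨x, y, hxy⟩ := hna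
    letI := IsCyclic.commGroup (α := G)
    exact hxy (mul_comm x y)
  obtain ⟨E, hEc, hEe, hEcard, hET⟩ := exists_omega_of_cyclic_maximal hp2 hGp hnc C hC hCi
  -- a generator of `C`
  obtain ⟨a', ha'⟩ := IsCyclic.exists_generator (α := C)
  set a : G := (a' : G) with ha
  have haC : a ∈ C := a'.2
  have hao : orderOf a = p ^ (n - 1) := by
    rw [ha, Subgroup.orderOf_coe, orderOf_eq_card_of_forall_mem_zpowers ha', hCcard]
  have hCa : Subgroup.zpowers a = C := by
    apply Subgroup.eq_of_le_of_card_ge (Subgroup.zpowers_le.mpr haC)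
    rw [Nat.card_zpowers, hao, hCcard]
  -- an element of order `p` outside `C`
  obtain ⟨b₀, hb₀E, hb₀C⟩ : ∃ b₀ ∈ E, b₀ ∉ C := by
    by_contra hall
    push Not at hall
    have h1 : Nat.card (E.subgroupOf C) ≤ p :=
      card_le_of_forall_pow_eq_one (E.subgroupOf C) p hp.out.pos (fun x hx => by
        apply Subtype.ext
        rw [Subgroup.coe_pow, Subgroup.coe_one]
        exact hEe x hx)
    rw [card_subgroupOf_eq, inf_eq_left.mpr hall, hEcard] at h1
    nlinarith
  have hb₀p : b₀ ^ p = 1 := hEe b₀ hb₀E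
  have hb₀1 : b₀ ≠ 1 := fun h => hb₀C (h ▸ C.one_mem)
  have hb₀o : orderOf b₀ = p := orderOf_eq_prime hb₀p hb₀1
  haveI hEn : E.Normal := by
    refine ⟨fun e he g => hET _ ?_⟩
    rw [conj_pow, hEe e he, mul_one, mul_inv_cancel]
  -- `a ^ p` centralises `E`
  set D : Subgroup G := Subgroup.centralizer (E : Set G) with hD
  have hDcard := card_le_card_centralizer_mul_of_sq hGp E hEcard
  have hapD : a ^ p ∈ D := by
    have hidx : D.index ∣ p := by
      have h1 := D.card_mul_index
      have h2 : D.index ≤ p := by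
        rw [← h1] at hDcard
        exact Nat.le_of_mul_le_mul_left hDcard Nat.card_pos
      have h3 : D.index ∣ p ^ n := by rw [← hG]; exact Subgroup.index_dvd_card D
      obtain ⟨i, -, hi⟩ := (Nat.dvd_prime_pow hp.out).mp h3
      rw [hi] at h2 ⊢
      rcases i with _ | _ | i
      · simp
      · simp
      · exfalso
        have : p ^ 2 ≤ p ^ (i + 1 + 1) := Nat.pow_le_pow_right hp.out.pos (by omega)
        nlinarith
    rcases (Nat.dvd_prime hp.out).mp hidx with h | h
    · rw [Subgroup.index_eq_one] at h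
      rw [h]; exact Subgroup.mem_top _
    · rw [← h]; exact Subgroup.pow_index_mem D a
  have hcomm : b₀ * a ^ p = a ^ p * b₀ := Subgroup.mem_centralizer_iff.mp hapD b₀ hb₀E
  -- the element `z` of order `p` in `C`
  set z : G := a ^ (p ^ (n - 2)) with hz
  have hzo : orderOf z = p := by
    rw [hz, orderOf_pow' a (pow_ne_zero _ hp.out.ne_zero), hao,
      Nat.gcd_eq_right (pow_dvd_pow p (by omega : n - 2 ≤ n - 1))]
    have : p ^ (n - 1) = p ^ (n - 2) * p := by
      rw [← pow_succ]; congr 1; omega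
    rw [this, Nat.mul_div_cancel_left _ (pow_pos hp.out.pos _)]
  have hza : Commute a z := (Commute.refl a).pow_right _
  have hzb : Commute b₀ z := by
    have : z = (a ^ p) ^ (p ^ (n - 3)) := by
      rw [hz, ← pow_mul, ← pow_succ']; congr 2; omega
    rw [this]
    exact (show Commute b₀ (a ^ p) from hcomm).pow_right _
  have hzC : Subgroup.zpowers z ≤ C := Subgroup.zpowers_le.mpr (C.pow_mem haC _)
  -- the commutator `c`
  set c : G := b₀ * a * b₀⁻¹ * a⁻¹ with hc
  have hconjC : b₀ * a * b₀⁻¹ ∈ C := hCn.conj_mem a haC b₀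
  have hcC : c ∈ C := C.mul_mem hconjC (C.inv_mem haC)
  have hcp : c ^ p = 1 := by
    have hconj : b₀ * a * b₀⁻¹ ∈ Subgroup.zpowers a := hCa ▸ hconjC
    obtain ⟨k, hk⟩ := Subgroup.mem_zpowers_iff.mp hconj
    have hcm : Commute (b₀ * a * b₀⁻¹) a⁻¹ := by
      rw [← hk]; exact ((Commute.refl a).zpow_left k).inv_right
    rw [hc, hcm.mul_pow, conj_pow, inv_pow, hcomm, mul_assoc (a ^ p), mul_inv_cancel, mul_one,
      mul_inv_cancel]
  have hcz : c ∈ Subgroup.zpowers z := by
    have h1 : (⟨c, hcC⟩ : C) ∈ (Subgroup.zpowers z).subgroupOf C := by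
      rw [mem_iff_pow_card_of_isCyclic, card_subgroupOf_eq, inf_eq_left.mpr hzC,
        Nat.card_zpowers, hzo]
      apply Subtype.ext
      rw [Subgroup.coe_pow, Subgroup.coe_one]
      exact hcp
    exact h1
  obtain ⟨t, ht⟩ : ∃ t : ℕ, z ^ t = c := by
    have hfin : IsOfFinOrder z := isOfFinOrder_of_finite z
    obtain ⟨t, ht⟩ := hfin.mem_powers_iff_mem_zpowers.mpr hcz
    exact ⟨t, ht⟩
  -- `c ≠ 1`
  have hc1 : c ≠ 1 := by
    intro h1
    have hab : b₀ * a = a * b₀ := by
      have : b₀ * a = c * a * b₀ := by rw [hc]; group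
      rw [this, h1, one_mul]
    obtain ⟨x, y, hxy⟩ := hna
    apply hxy
    have hcoatom : IsCoatom C := isCoatom_of_index_prime (by rw [hCi]; exact hp.out)
    have htop : Subgroup.closure ({a, b₀} : Set G) = ⊤ := by
      apply hcoatom.2
      refine lt_of_le_of_ne ?_ ?_
      · rw [← hCa, Subgroup.zpowers_le]
        exact Subgroup.subset_closure (by simp)
      · intro h2
        apply hb₀C
        rw [h2]
        exact Subgroup.subset_closure (by simp)
    have hcl : IsMulCommutative (Subgroup.closure ({a, b₀} : Set G)) := by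
      apply Subgroup.isMulCommutative_closure
      intro u hu v hv
      simp only [Set.mem_insert_iff, Set.mem_singleton_iff] at hu hv
      rcases hu with rfl | rfl <;> rcases hv with rfl | rfl
      · rfl
      · exact hab.symm
      · exact hab
      · rfl
    have hx : x ∈ Subgroup.closure ({a, b₀} : Set G) := by rw [htop]; exact Subgroup.mem_top x
    have hy : y ∈ Subgroup.closure ({a, b₀} : Set G) := by rw [htop]; exact Subgroup.mem_top y
    exact congrArg Subtype.val (hcl.is_comm.comm (⟨x, hx⟩ : Subgroup.closure ({a, b₀} : Set G))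
      ⟨y, hy⟩)
  have htp : ¬ p ∣ t := by
    rintro ⟨s, rfl⟩
    apply hc1
    rw [← ht, pow_mul, ← hzo, pow_orderOf_eq_one, one_pow]
  have hcop : Nat.Coprime t p := ((Nat.Prime.coprime_iff_not_dvd hp.out).mpr htp).symm
  obtain ⟨j, -, hj⟩ := Nat.exists_mul_mod_eq_one_of_coprime hcop hp1
  -- conjugation by powers of `b₀`
  have hconj1 : b₀ * a * b₀⁻¹ = a * z ^ t := by
    have : b₀ * a * b₀⁻¹ = c * a := by rw [hc]; group
    rw [this, ← ht]
    exact ((hza.pow_right t).eq).symm
  have hconj_i : ∀ i : ℕ, b₀ ^ i * a * (b₀ ^ i)⁻¹ = a * z ^ (t * i) := by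
    intro i
    induction i with
    | zero => simp
    | succ i ih =>
      have hzbi : b₀ * z ^ (t * i) * b₀⁻¹ = z ^ (t * i) := by
        rw [(hzb.pow_right (t * i)).eq, mul_assoc, mul_inv_cancel, mul_one]
      calc b₀ ^ (i + 1) * a * (b₀ ^ (i + 1))⁻¹
          = b₀ * (b₀ ^ i * a * (b₀ ^ i)⁻¹) * b₀⁻¹ := by rw [pow_succ']; group
        _ = b₀ * (a * z ^ (t * i)) * b₀⁻¹ := by rw [ih]
        _ = (b₀ * a * b₀⁻¹) * (b₀ * z ^ (t * i) * b₀⁻¹) := by group
        _ = a * z ^ t * z ^ (t * i) := by rw [hconj1, hzbi]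
        _ = a * z ^ (t * (i + 1)) := by rw [mul_assoc, ← pow_add, mul_add, mul_one, add_comm]
  set b : G := b₀ ^ j with hb
  have hbconj : b * a * b⁻¹ = a * z := by
    rw [hb, hconj_i j, ← pow_mod_orderOf z (t * j), hzo, hj, pow_one]
  have hbC : b ∉ C := by
    intro hbC
    apply hb₀C
    have h1 : b ^ t ∈ C := C.pow_mem hbC t
    rw [hb, ← pow_mul, mul_comm, ← pow_mod_orderOf b₀ (t * j), hb₀o, hj, pow_one] at h1
    exact h1
  have hbp : b ^ p = 1 := by rw [hb, ← pow_mul, mul_comm, pow_mul, hb₀p, one_pow]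
  have hb1 : b ≠ 1 := fun h => hbC (h ▸ C.one_mem)
  refine ⟨a, b, hao, orderOf_eq_prime hbp hb1, by rw [hCa]; exact hbC, ?_⟩
  rw [hbconj, hz, pow_add, pow_one]

end

end Cfsg.Agent.Lib.Lead
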