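import Mathlib
import Cfsg.Agent.Lib.Lead.CyclicMaxOdd

set_option autoImplicit false

namespace Cfsg.Agent.Lib.Lead

open scoped commutatorElement

universe u

section
variable {P : Type u} [Group P] [Finite P] {p : ℕ} [hp : Fact p.Prime]

/-- over a normal elementary abelian subgroup `R` of order `p ^ 2`, inside a normal subgroup of
exponent `p` centralising `R`, there is a normal elementary abelian subgroup of order `p ^ 3` -/
theorem exists_cube_of_le' (hP : IsPGroup p P) (R : Subgroup P) [hRn : R.Normal]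
    (hRcard : Nat.card R = p ^ 2) (K : Subgroup P) [hKn : K.Normal] (hRK : R < K)
    (hKe : ∀ k ∈ K, k ^ p = 1) (hKC : K ≤ Subgroup.centralizer (R : Set P)) :
    ∃ A : Subgroup P, R ≤ A ∧ A.Normal ∧ IsMulCommutative A ∧ (∀ a ∈ A, a ^ p = 1) ∧
      Nat.card A = p ^ 3 := by
  classical
  obtain ⟨B, e, hBn, hRB, hBK, hidx, -, -, -⟩ := exists_normal_relIndex_p_le hP R K hRK
  refine ⟨B, hRB, hBn, ?_, fun a ha => hKe a (hBK ha), ?_⟩
  · -- commutative
    haveI : (R.subgroupOf B).Normal := Subgroup.normal_subgroupOf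
    have hcardQ : Nat.card (B ⧸ R.subgroupOf B) = p := hidx
    haveI : IsCyclic (B ⧸ R.subgroupOf B) := isCyclic_of_prime_card hcardQ
    have hker : (QuotientGroup.mk' (R.subgroupOf B)).ker ≤ Subgroup.center B := by
      rw [QuotientGroup.ker_mk']
      intro r hr
      rw [Subgroup.mem_center_iff]
      intro b
      apply Subtype.ext
      have hr' : (r : P) ∈ R := hr
      have hb : (b : P) ∈ Subgroup.centralizer (R : Set P) := hKC (hBK b.2)
      exact (Subgroup.mem_centralizer_iff.mp hb (r : P) hr').symm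
    exact ⟨⟨fun a b => commutative_of_cyclic_center_quotient
      (QuotientGroup.mk' (R.subgroupOf B)) hker a b⟩⟩
  · have h1 := Subgroup.relIndex_mul_relIndex ⊥ R B bot_le hRB
    rw [Subgroup.relIndex_bot_left, Subgroup.relIndex_bot_left, hidx, hRcard] at h1
    rw [← h1]; ring


/-- **For odd `p`: over a normal elementary abelian subgroup `R` of order `p ^ 2` of a `p`-group
with an elementary abelian subgroup of order greater than `p ^ 2` there is a normal elementary
abelian subgroup of order `p ^ 3`.** -/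
theorem exists_normal_elementary_cube_ge (hp2 : p ≠ 2) (hP : IsPGroup p P) (R : Subgroup P)
    (hRn : R.Normal) (hRc : IsMulCommutative R) (hRe : ∀ r ∈ R, r ^ p = 1)
    (hRcard : Nat.card R = p ^ 2)
    (hex : ∃ E : Subgroup P, (∀ a ∈ E, ∀ b ∈ E, a * b = b * a) ∧ (∀ e ∈ E, e ^ p = 1) ∧
        p ^ 2 < Nat.card E) :
    ∃ A : Subgroup P, R ≤ A ∧ A.Normal ∧ IsMulCommutative A ∧ (∀ a ∈ A, a ^ p = 1) ∧
      Nat.card A = p ^ 3 := by
  obtain ⟨E, hEc, hEe, hEcard⟩ := hex
  classical
  haveI : Group.IsNilpotent P := hP.isNilpotent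
  have hp1 := hp.out.one_lt
  have := hRn
  obtain ⟨x, hxE, hxC, hxR⟩ := exists_mem_centralizer_not_mem hP R hRcard E hEc hEcard
  set C : Subgroup P := Subgroup.centralizer (R : Set P) with hC
  have hRcomm : ∀ a ∈ R, ∀ b ∈ R, a * b = b * a := by
    intro a ha b hb
    exact congrArg Subtype.val (hRc.is_comm.comm (⟨a, ha⟩ : R) ⟨b, hb⟩)
  have hRC : R ≤ C := by
    intro r hr
    rw [hC, Subgroup.mem_centralizer_iff]
    intro y hy
    exact hRcomm y hy r hr
  set F : Subgroup P := Subgroup.closure ((R : Set P) ∪ {x}) with hF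
  have hRF : R ≤ F := fun r hr => Subgroup.subset_closure (Or.inl hr)
  have hxF : x ∈ F := Subgroup.subset_closure (Or.inr rfl)
  have hFcomm : ∀ a ∈ F, ∀ b ∈ F, a * b = b * a := by
    have hgen : ∀ a ∈ (R : Set P) ∪ {x}, ∀ b ∈ (R : Set P) ∪ {x}, a * b = b * a := by
      rintro a (ha | ha) b (hb | hb)
      · exact hRcomm a ha b hb
      · rw [Set.mem_singleton_iff] at hb; subst hb
        exact Subgroup.mem_centralizer_iff.mp hxC a ha
      · rw [Set.mem_singleton_iff] at ha; subst ha
        exact (Subgroup.mem_centralizer_iff.mp hxC b hb).symm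
      · rw [Set.mem_singleton_iff] at ha hb; rw [ha, hb]
    have hFc : IsMulCommutative F := Subgroup.isMulCommutative_closure hgen
    intro a ha b hb
    exact congrArg Subtype.val (hFc.is_comm.comm (⟨a, ha⟩ : F) ⟨b, hb⟩)
  have hFe : ∀ a ∈ F, a ^ p = 1 := by
    intro a ha
    have key : ∀ a ∈ F, a ∈ F ∧ a ^ p = 1 := by
      intro a ha
      induction ha using Subgroup.closure_induction with
      | mem y hy =>
        refine ⟨Subgroup.subset_closure hy, ?_⟩
        rcases hy with hy | hy
        · exact hRe y hy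
        · rw [Set.mem_singleton_iff] at hy; rw [hy]; exact hEe x hxE
      | one => exact ⟨F.one_mem, one_pow _⟩
      | mul a b _ _ iha ihb =>
        refine ⟨F.mul_mem iha.1 ihb.1, ?_⟩
        have hcm : Commute a b := hFcomm a iha.1 b ihb.1
        rw [hcm.mul_pow, iha.2, ihb.2, one_mul]
      | inv a _ iha => exact ⟨F.inv_mem iha.1, by rw [inv_pow, iha.2, inv_one]⟩
    exact (key a ha).2
  have hFC : F ≤ C := by
    rw [hF, Subgroup.closure_le]
    rintro y (hy | hy)
    · exact hRC hy
    · rw [Set.mem_singleton_iff] at hy; rw [hy]; exact hxC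
  have hRF' : R < F := lt_of_le_of_ne hRF (fun h => hxR (h ▸ hxF))
  by_cases hcase : C = ⊤ ∧ F = ⊤
  · obtain ⟨hCt, hFt⟩ := hcase
    refine exists_cube_of_le' hP R hRcard ⊤ (hFt ▸ hRF') (fun k _ => hFe k ?_) ?_
    · rw [hFt]; exact Subgroup.mem_top k
    · rw [← hC, hCt]
  · obtain ⟨M, hMn, hMtop, hFM, hMC⟩ : ∃ M : Subgroup P, M.Normal ∧ M ≠ ⊤ ∧ F ≤ M ∧ M ≤ C := by
      by_cases hCt : C = ⊤
      · have hFt : F ≠ ⊤ := fun h => hcase ⟨hCt, h⟩
        obtain ⟨M, hM, hFM⟩ := (eq_top_or_exists_le_coatom F).resolve_left hFt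
        exact ⟨M, Subgroup.NormalizerCondition.normal_of_coatom M (Group.normalizerCondition_of_isNilpotent (G := P)) hM, hM.1, hFM,
          hCt ▸ le_top⟩
      · exact ⟨C, Subgroup.normal_centralizer, hCt, hFC, le_rfl⟩
    have := hMn
    have hRM : R ≤ M := hRF.trans hFM
    have hcardM : Nat.card M < Nat.card P := by
      have h1 : Nat.card M ≤ Nat.card P := Subgroup.card_le_card_group M
      rcases lt_or_eq_of_le h1 with h | h
      · exact h
      · exact absurd (Subgroup.card_eq_iff_eq_top M |>.mp h) hMtop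
    have hcardF : p ^ 2 < Nat.card F := by
      rw [← hRcard]
      have h1 : Nat.card R ≤ Nat.card F := Subgroup.card_le_of_le hRF
      rcases lt_or_eq_of_le h1 with h | h
      · exact h
      · exact absurd (Subgroup.eq_of_le_of_card_ge hRF h.ge) hRF'.ne
    obtain ⟨E₀, hE₀n, hE₀c, hE₀e, hE₀card⟩ := exists_normal_elementary_cube_aux hp2 (Nat.card M) M rfl (hP.to_subgroup M)
      ⟨F.subgroupOf M, fun a ha b hb => Subtype.ext (hFcomm a ha b hb),
        fun a ha => Subtype.ext (by rw [Subgroup.coe_pow, Subgroup.coe_one]; exact hFe a ha),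
        by rw [card_subgroupOf_eq, inf_eq_left.mpr hFM]; exact hcardF⟩
    have := hE₀n
    -- inside `M`
    set N' : Subgroup M := R.subgroupOf M with hN'
    have hN'n : N'.Normal := Subgroup.normal_subgroupOf
    have hN'card : Nat.card N' = p ^ 2 := by
      rw [hN', card_subgroupOf_eq, inf_eq_left.mpr hRM, hRcard]
    set K' : Subgroup M := E₀ ⊔ N' with hK'
    have hlt : N' < K' := by
      refine lt_of_le_of_ne le_sup_right (fun h => ?_)
      have h1 : E₀ ≤ N' := by rw [h]; exact le_sup_left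
      have h2 := Subgroup.card_le_of_le h1
      rw [hE₀card, hN'card] at h2
      have : p ^ 2 < p ^ 3 := Nat.pow_lt_pow_right hp1 (by norm_num)
      omega
    obtain ⟨B', e', -, -, hB'K', -, he'B', he'N', he'c⟩ :=
      exists_normal_relIndex_p_le (hP.to_subgroup M) N' K' hlt
    have he'K' : e' ∈ K' := hB'K' he'B'
    have he'p : e' ^ p = 1 := by
      rw [hK', Subgroup.mem_sup_of_normal_right] at he'K'
      obtain ⟨a, ha, b, hb, hab⟩ := he'K'
      have hcm : Commute a b := by
        apply Subtype.ext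
        have hb' : (b : P) ∈ R := hb
        exact (Subgroup.mem_centralizer_iff.mp (hMC a.2) (b : P) hb').symm
      have hbp : b ^ p = 1 := by
        apply Subtype.ext
        rw [Subgroup.coe_pow, Subgroup.coe_one]
        exact hRe _ hb
      rw [← hab, hcm.mul_pow, hE₀e a ha, hbp, one_mul]
    have heR : (e' : P) ∉ R := fun h => he'N' h
    have hep : (e' : P) ^ p = 1 := by
      have := congrArg Subtype.val he'p
      rwa [Subgroup.coe_pow, Subgroup.coe_one] at this
    have hec : ∀ m ∈ M, ⁅(e' : P), m⁆ ∈ R := by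
      intro m hm
      have h1 : ⁅e', (⟨m, hm⟩ : M)⁆ ∈ N' := he'c ⟨m, hm⟩
      rw [hN', Subgroup.mem_subgroupOf] at h1
      simpa [commutatorElement_def] using h1
    obtain ⟨K, hKn, hRK, hKe, hKC⟩ := exists_normal_exponent_p_of_central_mod hp2 M R hRM hMC hRe
      (e' : P) e'.2 heR hep hec
    have := hKn
    exact exists_cube_of_le' hP R hRcard K hRK hKe hKC

end

end Cfsg.Agent.Lib.Lead
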