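import Mathlib
import Cfsg.Agent.Lib.Lead.RankThree4
import Cfsg.Prelude.Def_CaseTheorems

set_option autoImplicit false

namespace Cfsg.Agent.Lib.Lead

universe u

section
variable {G : Type u} [Group G] [Finite G]

/-- a normal abelian subgroup lies in a maximal normal abelian subgroup -/
theorem exists_max_normal_abelian_ge (B : Subgroup G) (hBn : B.Normal) (hBc : IsMulCommutative B) :
    ∃ A : Subgroup G, B ≤ A ∧ A.Normal ∧ IsMulCommutative A ∧
      ∀ M : Subgroup G, M.Normal → IsMulCommutative M → A ≤ M → M = A := by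
  classical
  let S := {N : Subgroup G // N.Normal ∧ IsMulCommutative N ∧ B ≤ N}
  have : Nonempty S := ⟨⟨B, hBn, hBc, le_rfl⟩⟩
  obtain ⟨A, hA⟩ := Finite.exists_max (fun N : S => Nat.card N.1)
  refine ⟨A.1, A.2.2.2, A.2.1, A.2.2.1, ?_⟩
  intro M hMn hMc hAM
  have h1 := hA ⟨M, hMn, hMc, A.2.2.2.trans hAM⟩
  exact (Subgroup.eq_of_le_of_card_ge hAM h1).symm

variable {p : ℕ} [hp : Fact p.Prime]

/-- **A normal elementary abelian subgroup of order `p ^ 2` of a `p`-group of rank at least three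
(`p` odd) lies in a self-centralising normal subgroup of rank at least three.** -/
theorem exists_scn_three_ge (hp2 : p ≠ 2) (hR : IsPGroup p G) (hr : ¬ Cfsg.PRankLE p 2 G)
    (E : Subgroup G) [hEn : E.Normal] (hE : Cfsg.IsElementaryAbelian p E)
    (hE2 : Nat.card E = p ^ 2) :
    ∃ A : Subgroup G, E ≤ A ∧ A.Normal ∧ Subgroup.centralizer (A : Set G) = A ∧
      ¬ Cfsg.PRankLE p 2 A := by
  classical
  haveI : Group.IsNilpotent G := hR.isNilpotent
  unfold Cfsg.PRankLE at hr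
  push Not at hr
  obtain ⟨B₀, hB₀c, hB₀e, hB₀card⟩ := hr
  obtain ⟨B, hEB, hBn, hBc, hBe, hBcard⟩ := exists_normal_elementary_cube_ge hp2 hR E hEn hE.1 hE.2
    hE2 ⟨B₀, fun a ha b hb => congrArg Subtype.val (hB₀c.is_comm.comm (⟨a, ha⟩ : B₀) ⟨b, hb⟩),
      hB₀e, hB₀card⟩
  obtain ⟨A, hBA, hAn, hAc, hmax⟩ := exists_max_normal_abelian_ge B hBn hBc
  haveI := hAn
  haveI := hAc
  refine ⟨A, hEB.trans hBA, hAn, centralizer_eq_of_max_abelian_normal A hmax, ?_⟩
  intro hrk
  have h1 := hrk (B.subgroupOf A)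
    ⟨⟨fun a b => by
      apply Subtype.ext
      apply Subtype.ext
      have := congrArg Subtype.val (hBc.is_comm.comm (⟨((a : A) : G), a.2⟩ : B) ⟨((b : A) : G), b.2⟩)
      simpa using this⟩⟩
    (fun a ha => Subtype.ext (by
      rw [Subgroup.coe_pow, Subgroup.coe_one]; exact hBe _ ha))
  rw [card_subgroupOf_eq, inf_eq_left.mpr hBA, hBcard] at h1
  have : p ^ 2 < p ^ 3 := Nat.pow_lt_pow_right hp.out.one_lt (by norm_num)
  omega

end

end Cfsg.Agent.Lib.Lead
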