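import Mathlib
import Cfsg.Agent.Lib.Lead.RankThree5
import Cfsg.Agent.Lib.Helper4.OmegaOdd
import Cfsg.Agent.Lib.Lead.FrobNPC5
import Cfsg.Prelude.Def_PLocal
import Cfsg.Prelude.Def_CaseTheorems

set_option autoImplicit false

namespace Cfsg.Agent.Lib.Lead

section
variable {G : Type*} [Group G] [Finite G] {p : ℕ} [hp : Fact p.Prime]

/-- **For odd `p`: if `Ω₁` of a Sylow `p`-subgroup is central, `G` has a normal
`p`-complement.** -/
theorem hasNormalPComplement_of_omegaOne_le_center (hp2 : p ≠ 2) (P : Sylow p G)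
    (hZ : Cfsg.omegaOne p (P : Subgroup G) ≤ Subgroup.center G) :
    Cfsg.HasNormalPComplement p G := by
  rw [hasNormalPComplement_iff_plocalCentral]
  intro D hD g hg hcop
  -- elements of order dividing `p` of `D` are central
  have hcen : ∀ x ∈ D, x ^ p = 1 → x ∈ Subgroup.center G := by
    intro x hx hxp
    obtain ⟨P', hP'⟩ := hD.exists_le_sylow
    obtain ⟨c, hc⟩ := MulAction.exists_smul_eq G P P'
    have hxP' : x ∈ (P' : Subgroup G) := hP' hx
    rw [← hc, Sylow.coe_subgroup_smul, Subgroup.mem_pointwise_smul_iff_inv_smul_mem,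
      MulAut.smul_def, MulAut.conj_inv_apply] at hxP'
    have h1 : c⁻¹ * x * c ∈ Cfsg.omegaOne p (P : Subgroup G) := by
      apply Subgroup.subset_closure
      refine ⟨hxP', ?_⟩
      have : c⁻¹ * x * c = c⁻¹ * x * c⁻¹⁻¹ := by rw [inv_inv]
      rw [this, conj_pow, hxp, mul_one, mul_inv_cancel]
    have h2 := hZ h1
    have h3 : c⁻¹ * x * c = x := by
      have h4 := Subgroup.mem_center_iff.mp h2 c
      have h5 : c * (c⁻¹ * x * c) = x * c := by group
      rw [h4] at h5
      exact mul_right_cancel h5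
    rwa [h3] at h2
  have hA : Subgroup.zpowers g ≤ Subgroup.centralizer (D : Set G) := by
    apply Helper4.coprime_centralizes_of_omega_one hp2 (Subgroup.zpowers g) D
      (by rw [Nat.card_zpowers]; exact hcop) hD ((Subgroup.zpowers_le).mpr hg)
    intro x hx hxp a _
    exact (Subgroup.mem_center_iff.mp (hcen x hx hxp) a)
  exact hA (Subgroup.mem_zpowers g)

/-- a group with a normal `p`-complement whose order is divisible by `p` is not perfect -/
theorem not_isPerfect_of_hasNormalPComplement (hdiv : p ∣ Nat.card G)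
    (h : Cfsg.HasNormalPComplement p G) : ¬ Group.IsPerfect G := by
  intro hperf
  obtain ⟨P, N, hN, hc⟩ := h
  haveI := hN
  have hcard : Nat.card (G ⧸ N) = Nat.card (P : Subgroup G) := hc.symm.index_eq_card
  obtain ⟨k, hk⟩ := IsPGroup.iff_card.mp P.isPGroup'
  have hQ : IsPGroup p (G ⧸ N) := IsPGroup.of_card (hcard.trans hk)
  have hk0 : k ≠ 0 := by
    rintro rfl
    rw [pow_zero] at hk
    have h1 : (P : Subgroup G) = ⊥ := Subgroup.card_eq_one.mp hk
    have h2 := P.card_eq_multiplicity
    rw [hk] at h2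
    have h3 : (Nat.card G).factorization p = 0 := by
      by_contra hne
      have : 1 < p ^ (Nat.card G).factorization p :=
        Nat.one_lt_pow hne hp.out.one_lt
      omega
    have h4 : 0 < (Nat.card G).factorization p :=
      hp.out.factorization_pos_of_dvd Nat.card_pos.ne' hdiv
    omega
  haveI : Nontrivial (G ⧸ N) := by
    apply (Finite.one_lt_card_iff_nontrivial).mp
    rw [hcard, hk]
    exact Nat.one_lt_pow hk0 hp.out.one_lt
  haveI : Group.IsNilpotent (G ⧸ N) := hQ.isNilpotent
  exact Group.IsPerfect.not_isNilpotent (G ⧸ N) inferInstance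

end

end Cfsg.Agent.Lib.Lead
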