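import Mathlib
import Cfsg.Agent.Lib.Lead.OmegaCentral

set_option autoImplicit false

namespace Cfsg.Agent.Lib.Lead

section
variable (k : ℕ)

theorem zmod_two_pow_self : ((2 : ZMod (2 ^ k)) ^ k) = 0 := by
  have := ZMod.natCast_self (2 ^ k)
  push_cast at this
  exact this

theorem zmod_two_pow_of_le {m : ℕ} (h : k ≤ m) : ((2 : ZMod (2 ^ k)) ^ m) = 0 := by
  obtain ⟨t, rfl⟩ := Nat.exists_eq_add_of_le h
  rw [pow_add, zmod_two_pow_self, zero_mul]

/-- `2 x = 0` in `ZMod (2 ^ k)` -/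
theorem two_mul_eq_zero_cases (hk : 1 ≤ k) (x : ZMod (2 ^ k)) (h : 2 * x = 0) :
    x = 0 ∨ x = 2 ^ (k - 1) := by
  have : NeZero (2 ^ k) := ⟨by positivity⟩
  have hx : ((x.val : ℕ) : ZMod (2 ^ k)) = x := ZMod.natCast_zmod_val x
  have hlt : x.val < 2 ^ k := ZMod.val_lt x
  have h1 : ((2 * x.val : ℕ) : ZMod (2 ^ k)) = 0 := by
    push_cast; rw [hx]; exact h
  rw [ZMod.natCast_eq_zero_iff] at h1
  have hk' : 2 ^ k = 2 * 2 ^ (k - 1) := by
    rw [← pow_succ']; congr 1; omega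
  have h1' : 2 * 2 ^ (k - 1) ∣ 2 * x.val := by rw [← hk']; exact h1
  have hlt' : x.val < 2 * 2 ^ (k - 1) := by rw [← hk']; exact hlt
  have h2 : 2 ^ (k - 1) ∣ x.val := Nat.dvd_of_mul_dvd_mul_left (by norm_num) h1'
  obtain ⟨t, ht⟩ := h2
  have ht2 : t < 2 := by
    by_contra hge
    push Not at hge
    have : 2 ^ (k - 1) * 2 ≤ 2 ^ (k - 1) * t := Nat.mul_le_mul_left _ hge
    omega
  interval_cases t
  · left
    rw [← hx, ht, mul_zero, Nat.cast_zero]
  · right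
    rw [← hx, ht, mul_one]
    push_cast
    rfl

/-- `2 ^ (k - 1) x = 0` in `ZMod (2 ^ k)` forces `x` even -/
theorem even_of_two_pow_mul_eq_zero (hk : 1 ≤ k) (x : ZMod (2 ^ k))
    (h : 2 ^ (k - 1) * x = 0) : ∃ y : ZMod (2 ^ k), x = 2 * y := by
  have : NeZero (2 ^ k) := ⟨by positivity⟩
  have hx : ((x.val : ℕ) : ZMod (2 ^ k)) = x := ZMod.natCast_zmod_val x
  have h1 : ((2 ^ (k - 1) * x.val : ℕ) : ZMod (2 ^ k)) = 0 := by
    push_cast; rw [hx]; exact h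
  rw [ZMod.natCast_eq_zero_iff] at h1
  have hk' : 2 ^ k = 2 ^ (k - 1) * 2 := by
    rw [← pow_succ]; congr 1; omega
  have h1' : 2 ^ (k - 1) * 2 ∣ 2 ^ (k - 1) * x.val := by rw [← hk']; exact h1
  have h2 : 2 ∣ x.val := Nat.dvd_of_mul_dvd_mul_left (by positivity) h1'
  obtain ⟨w, hw⟩ := h2
  exact ⟨(w : ZMod (2 ^ k)), by rw [← hx, hw]; push_cast; rfl⟩

/-- square roots of one in `ZMod (2 ^ k)` -/
theorem sq_eq_one_cases (hk : 2 ≤ k) (x : ZMod (2 ^ k)) (h : x * x = 1) :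
    2 * (x - 1) = 0 ∨ 2 * (x + 1) = 0 := by
  have : NeZero (2 ^ k) := ⟨by positivity⟩
  have hx : ((x.val : ℤ) : ZMod (2 ^ k)) = x := by
    rw [Int.cast_natCast]; exact ZMod.natCast_zmod_val x
  set V : ℤ := (x.val : ℤ) with hV
  have h1 : ((V * V - 1 : ℤ) : ZMod (2 ^ k)) = 0 := by
    push_cast; rw [hx, h, sub_self]
  rw [ZMod.intCast_zmod_eq_zero_iff_dvd] at h1
  push_cast at h1
  -- `V` is odd
  have hodd : ¬ (2 : ℤ) ∣ V := by
    intro h2
    have h3 : (2 : ℤ) ∣ V * V - 1 := (dvd_pow_self (2 : ℤ) (by omega : k ≠ 0)).trans h1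
    have h4 : (2 : ℤ) ∣ V * V := Dvd.dvd.mul_right h2 V
    have h5 : (2 : ℤ) ∣ 1 := by
      have := dvd_sub h4 h3
      simpa using this
    norm_num at h5
  obtain ⟨u, hu⟩ : ∃ u : ℤ, V = 2 * u + 1 := by
    have := Int.emod_two_eq_zero_or_one V
    rcases this with h0 | h0
    · exact absurd (Int.dvd_of_emod_eq_zero h0) hodd
    · exact ⟨V / 2, by omega⟩
  have h2 : V * V - 1 = 4 * (u * (u + 1)) := by rw [hu]; ring
  rw [h2] at h1
  have hk' : (2 : ℤ) ^ k = 4 * 2 ^ (k - 2) := by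
    have : k = 2 + (k - 2) := by omega
    rw [this, pow_add]; norm_num
  rw [hk'] at h1
  have h3 : (2 : ℤ) ^ (k - 2) ∣ u * (u + 1) := Int.dvd_of_mul_dvd_mul_left (by norm_num) h1
  have key : (2 : ℤ) ^ (k - 2) ∣ u ∨ (2 : ℤ) ^ (k - 2) ∣ u + 1 := by
    rcases Int.emod_two_eq_zero_or_one u with h0 | h0
    · -- `u` even, so `u + 1` odd
      left
      have hc : IsCoprime ((2 : ℤ) ^ (k - 2)) (u + 1) := by
        apply IsCoprime.pow_left
        rw [Int.isCoprime_iff_gcd_eq_one]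
        have : (u + 1) % 2 = 1 := by omega
        rw [Int.gcd_comm, ← Int.gcd_emod, this]  
        simp
      exact hc.dvd_of_dvd_mul_right h3
    · right
      have hc : IsCoprime ((2 : ℤ) ^ (k - 2)) u := by
        apply IsCoprime.pow_left
        rw [Int.isCoprime_iff_gcd_eq_one]
        rw [Int.gcd_comm, ← Int.gcd_emod, h0]
        simp
      exact hc.dvd_of_dvd_mul_left h3
  have hcast : ∀ w : ℤ, (2 : ℤ) ^ (k - 2) ∣ w → (2 : ZMod (2 ^ k)) * ((2 * w : ℤ) : ZMod (2 ^ k)) = 0 := by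
    intro w hw
    have h4 : ((2 * (2 * w) : ℤ) : ZMod (2 ^ k)) = 0 := by
      rw [ZMod.intCast_zmod_eq_zero_iff_dvd]
      push_cast
      rw [hk']
      obtain ⟨t, rfl⟩ := hw
      exact ⟨t, by ring⟩
    push_cast at h4 ⊢
    exact h4
  rcases key with h4 | h4
  · left
    have := hcast u h4
    have h5 : ((2 * u : ℤ) : ZMod (2 ^ k)) = x - 1 := by
      have : (2 * u : ℤ) = V - 1 := by rw [hu]; ring
      rw [this]; push_cast; rw [hx]
    rwa [h5] at this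
  · right
    have := hcast (u + 1) h4
    have h5 : ((2 * (u + 1) : ℤ) : ZMod (2 ^ k)) = x + 1 := by
      have : (2 * (u + 1) : ℤ) = V + 1 := by rw [hu]; ring
      rw [this]; push_cast; rw [hx]
    rwa [h5] at this

end

end Cfsg.Agent.Lib.Lead
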