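import Mathlib
import Cfsg.Agent.Lib.Helper1.GC0

/-!
# S3067 (Glauberman), step (S5), the summation (e)

From `|S_b| = |T_b|` for every point `b ≠ a` (hypothesis `hST`, helper2's (c)+(d)) conclude `T_b = K_a`:
every `t ∈ K_a` normalizes every `Lam0 G a b`.
-/

set_option autoImplicit false

namespace Cfsg.Agent.Lib.Lead.GlFixSum

open Cfsg.Agent.Lib.Helper1.GC

universe u

variable {Γ : Type u} [Group Γ]

theorem commute_conj' {x y : Γ} (g : Γ) (h : Commute x y) :
    Commute (g⁻¹ * x * g) (g⁻¹ * y * g) := by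
  have e := h.eq
  show g⁻¹ * x * g * (g⁻¹ * y * g) = g⁻¹ * y * g * (g⁻¹ * x * g)
  calc g⁻¹ * x * g * (g⁻¹ * y * g) = g⁻¹ * (x * y) * g := by group
    _ = g⁻¹ * (y * x) * g := by rw [e]
    _ = g⁻¹ * y * g * (g⁻¹ * x * g) := by group

variable [Finite Γ] {G : Subgroup Γ} {a τ : Γ} {r : ℕ}

open Classical in
/-- The summation step of (S5). -/
theorem normalizes_of_card_eq (h : Hyp G a τ r)
    (hST : ∀ b, IsPt G a b → b ≠ a →
      Nat.card {u // IsK G τ u ∧ u⁻¹ * a * u = b} =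
      Nat.card {t // IsK G τ t ∧ Commute t a ∧ ∀ x ∈ Lam0 G a b, t⁻¹ * x * t ∈ Lam0 G a b})
    {t b : Γ} (ht : IsK G τ t) (hta : Commute t a) (hb : IsPt G a b) (hba : b ≠ a) :
    ∀ x ∈ Lam0 G a b, t⁻¹ * x * t ∈ Lam0 G a b := by
  have : Fintype Γ := Fintype.ofFinite Γ
  -- the finsets
  obtain ⟨Pts, memPts⟩ : ∃ Pts : Finset Γ, ∀ x, x ∈ Pts ↔ IsPt G a x :=
    ⟨Finset.univ.filter (fun b => IsPt G a b), fun x => by simp⟩
  obtain ⟨Kf, memKf⟩ : ∃ Kf : Finset Γ, ∀ x, x ∈ Kf ↔ IsK G τ x :=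
    ⟨Finset.univ.filter (fun u => IsK G τ u), fun x => by simp⟩
  obtain ⟨Kb, memKb⟩ : ∃ Kb : Γ → Finset Γ, ∀ b x, x ∈ Kb b ↔ (IsK G τ x ∧ Commute x b) :=
    ⟨fun b => Finset.univ.filter (fun u => IsK G τ u ∧ Commute u b), fun b x => by simp⟩
  obtain ⟨S, memS⟩ : ∃ S : Γ → Finset Γ, ∀ b x, x ∈ S b ↔ (IsK G τ x ∧ x⁻¹ * a * x = b) :=
    ⟨fun b => Finset.univ.filter (fun u => IsK G τ u ∧ u⁻¹ * a * u = b), fun b x => by simp⟩
  obtain ⟨T, memT, cardT⟩ : ∃ T : Γ → Finset Γ, (∀ b x, x ∈ T b ↔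
      (IsK G τ x ∧ Commute x a ∧ ∀ y ∈ Lam0 G a b, x⁻¹ * y * x ∈ Lam0 G a b)) ∧
      (∀ b, (T b).card = Nat.card {t // IsK G τ t ∧ Commute t a ∧
        ∀ x ∈ Lam0 G a b, t⁻¹ * x * t ∈ Lam0 G a b}) := by
    refine ⟨fun b => Finset.univ.filter (fun t => IsK G τ t ∧ Commute t a ∧
      ∀ x ∈ Lam0 G a b, t⁻¹ * x * t ∈ Lam0 G a b), fun b x => by simp, fun b => ?_⟩
    rw [Nat.card_eq_fintype_card, Fintype.card_subtype]
  have cardS : ∀ b, (S b).card = Nat.card {u // IsK G τ u ∧ u⁻¹ * a * u = b} := by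
    intro b
    rw [Nat.card_eq_fintype_card, Fintype.card_subtype]
    congr 1
    ext x
    rw [memS]; simp
  set m := (Kb a).card with hm
  have haPts : a ∈ Pts := (memPts a).2 (IsPt.self G a)
  -- F1 : all K_b have the same size
  have F1 : ∀ b ∈ Pts, (Kb b).card = m := by
    intro b hb
    obtain ⟨g, hg, rfl⟩ := (memPts b).1 hb
    symm
    apply Finset.card_bij (fun u _ => g⁻¹ * u * g)
    · intro u hu
      have hu' := (memKb a u).1 hu
      exact (memKb _ _).2 ⟨hu'.1.conj hg, commute_conj' g hu'.2⟩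
    · intro u _ u' _ he
      have := congrArg (fun y => g * y * g⁻¹) he
      simpa [mul_assoc] using this
    · intro v hv
      have hv' := (memKb _ v).1 hv
      refine ⟨g * v * g⁻¹, ?_, by group⟩
      refine (memKb a _).2 ⟨?_, ?_⟩
      · have := hv'.1.conj (G.inv_mem hg)
        simpa using this
      · have := commute_conj' g⁻¹ hv'.2
        have e : g⁻¹⁻¹ * (g⁻¹ * a * g) * g⁻¹ = a := by group
        rw [e] at this
        simpa using this
  -- F2 : |K| = |Pts| * m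
  have F2 : Kf.card = Pts.card * m := by
    have hunion : Kf = Pts.biUnion Kb := by
      ext u
      rw [Finset.mem_biUnion, memKf]
      constructor
      · rintro ⟨g, hg, rfl⟩
        exact ⟨g⁻¹ * a * g, (memPts _).2 ⟨g, hg, rfl⟩, (memKb _ _).2 ⟨⟨g, hg, rfl⟩, h.K_commute_pt⟩⟩
      · rintro ⟨b, _, hu⟩
        exact ((memKb b u).1 hu).1
    rw [hunion, Finset.card_biUnion]
    · rw [Finset.sum_congr rfl F1, Finset.sum_const, smul_eq_mul]
    · intro b hb b' hb' hne
      rw [Function.onFun, Finset.disjoint_left]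
      intro u hu hu'
      have hu1 := (memKb b u).1 hu
      have hu2 := (memKb b' u).1 hu'
      apply hne
      have hb1 : IsPt G a b := (memPts b).1 hb
      have hb2 : IsPt G a b' := (memPts b').1 hb'
      obtain ⟨g, hg, rfl⟩ := hu1.1
      rw [h.point_unique hg hb1 hu1.2, h.point_unique hg hb2 hu2.2]
  -- F3 : |K \ K_a| = Σ_{b ≠ a} |S_b|
  have hKa_sub : Kb a ⊆ Kf := fun u hu => (memKf u).2 ((memKb a u).1 hu).1
  have conj_eq_of_commute : ∀ u : Γ, Commute u a → u⁻¹ * a * u = a := by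
    intro u hc
    calc u⁻¹ * a * u = u⁻¹ * (a * u) := by group
      _ = u⁻¹ * (u * a) := by rw [hc.eq]
      _ = a := by group
  have commute_of_conj_eq : ∀ u : Γ, u⁻¹ * a * u = a → Commute u a := by
    intro u he
    show u * a = a * u
    calc u * a = u * (u⁻¹ * a * u) := by rw [he]
      _ = a * u := by group
  have F3 : (Kf \ Kb a).card = ∑ b ∈ Pts.erase a, (S b).card := by
    rw [Finset.card_eq_sum_card_fiberwise (f := fun u => u⁻¹ * a * u) (t := Pts.erase a)]
    · apply Finset.sum_congr rfl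
      intro b hb
      congr 1
      ext u
      rw [Finset.mem_filter, Finset.mem_sdiff, memS, memKf, memKb]
      constructor
      · rintro ⟨⟨hu, _⟩, he⟩
        exact ⟨hu, he⟩
      · rintro ⟨hu, he⟩
        refine ⟨⟨hu, ?_⟩, he⟩
        rintro ⟨_, hc⟩
        have hne : b ≠ a := (Finset.mem_erase.1 hb).1
        apply hne
        rw [← he]
        exact conj_eq_of_commute u hc
    · intro u hu
      rw [Finset.mem_coe, Finset.mem_sdiff, memKf, memKb] at hu
      rw [Finset.mem_coe, Finset.mem_erase, memPts]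
      refine ⟨?_, u, hu.1.mem h, rfl⟩
      intro he
      exact hu.2 ⟨hu.1, commute_of_conj_eq u he⟩
  -- convert hST
  have hST' : ∀ b ∈ Pts.erase a, (S b).card = (T b).card := by
    intro b hb
    obtain ⟨hne, hbP⟩ := Finset.mem_erase.1 hb
    rw [cardS, cardT]
    exact hST b ((memPts b).1 hbP) hne
  have hTsub : ∀ b, T b ⊆ Kb a := by
    intro b t ht
    have := (memT b t).1 ht
    exact (memKb a t).2 ⟨this.1, this.2.1⟩
  have hTle : ∀ b ∈ Pts.erase a, (T b).card ≤ m := fun b _ => Finset.card_le_card (hTsub b)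
  -- total
  have hsum : ∑ b ∈ Pts.erase a, (T b).card = (Pts.erase a).card * m := by
    rw [← Finset.sum_congr rfl hST', ← F3, Finset.card_sdiff_of_subset hKa_sub, F2,
      Finset.card_erase_of_mem haPts, Nat.sub_mul, one_mul]
  have hbmem : b ∈ Pts.erase a := Finset.mem_erase.2 ⟨hba, (memPts b).2 hb⟩
  have hTb : (T b).card = m := by
    by_contra hne
    have hlt : (T b).card < m := lt_of_le_of_ne (hTle b hbmem) hne
    have : ∑ b ∈ Pts.erase a, (T b).card < ∑ _b ∈ Pts.erase a, m :=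
      Finset.sum_lt_sum hTle ⟨b, hbmem, hlt⟩
    rw [Finset.sum_const, smul_eq_mul, hsum] at this
    exact lt_irrefl _ this
  have hTeq : T b = Kb a := Finset.eq_of_subset_of_card_le (hTsub b) (by rw [hTb])
  have htT : t ∈ T b := by
    rw [hTeq]; exact (memKb a t).2 ⟨ht, hta⟩
  exact ((memT b t).1 htT).2.2

end Cfsg.Agent.Lib.Lead.GlFixSum
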