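import Mathlib
import Cfsg.Agent.Lib.Helper1.GC0

/-!
# S3067 (Glauberman), step (S1): `⟨a,b⟩ ∩ G` has odd order for every point `b`

Standalone: the packages (KL), (E5), (R0), (R1) of the skeleton `notes/S3067_stub.lean.txt` enter as
explicit hypotheses (in exactly the stub shapes).
-/

set_option autoImplicit false

namespace Cfsg.Agent.Lib.Lead.GlFixS1

open Cfsg.Agent.Lib.Helper1.GC

universe u

section dihedral

variable {Γ : Type u} [Group Γ]

theorem inv_of_sq {t : Γ} (ht : t * t = 1) : t⁻¹ = t := inv_eq_of_mul_eq_one_right ht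

theorem conj_pow_left {t u : Γ} (ht : t * t = 1) (hu : u * u = 1) (k : ℕ) :
    t * (t * u) ^ k * t⁻¹ = ((t * u) ^ k)⁻¹ := by
  rw [← conj_pow, ← inv_pow]
  congr 1
  rw [inv_of_sq ht, mul_inv_rev, inv_of_sq ht, inv_of_sq hu]
  calc t * (t * u) * t = (t * t) * u * t := by group
    _ = u * t := by rw [ht, one_mul]

theorem conj_pow_right {t u : Γ} (ht : t * t = 1) (hu : u * u = 1) (k : ℕ) :
    u * (t * u) ^ k * u⁻¹ = ((t * u) ^ k)⁻¹ := by
  rw [← conj_pow, ← inv_pow]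
  congr 1
  rw [inv_of_sq hu, mul_inv_rev, inv_of_sq ht, inv_of_sq hu]
  calc u * (t * u) * u = u * t * (u * u) := by group
    _ = u * t := by rw [hu, mul_one]

/-- even case: the central involution of `⟨t,u⟩`. -/
theorem exists_central_involution [Finite Γ] {t u : Γ} (ht : t * t = 1) (hu : u * u = 1)
    (hn : ¬ Odd (orderOf (t * u))) :
    ∃ k : ℕ, (t * u) ^ k * (t * u) ^ k = 1 ∧ (t * u) ^ k ≠ 1 ∧ Commute ((t * u) ^ k) t ∧
      Commute ((t * u) ^ k) u := by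
  rw [Nat.not_odd_iff_even] at hn
  obtain ⟨k, hk⟩ := hn
  have hpos : 0 < orderOf (t * u) := orderOf_pos _
  have hzz : (t * u) ^ k * (t * u) ^ k = 1 := by
    rw [← pow_add, ← hk]; exact pow_orderOf_eq_one _
  have hzinv : ((t * u) ^ k)⁻¹ = (t * u) ^ k := inv_of_sq hzz
  refine ⟨k, hzz, ?_, ?_, ?_⟩
  · apply pow_ne_one_of_lt_orderOf <;> omega
  · have h1 := conj_pow_left ht hu k
    rw [hzinv] at h1
    show (t * u) ^ k * t = t * (t * u) ^ k
    calc (t * u) ^ k * t = (t * (t * u) ^ k * t⁻¹) * t := by rw [h1]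
      _ = t * (t * u) ^ k := by group
  · have h1 := conj_pow_right ht hu k
    rw [hzinv] at h1
    show (t * u) ^ k * u = u * (t * u) ^ k
    calc (t * u) ^ k * u = (u * (t * u) ^ k * u⁻¹) * u := by rw [h1]
      _ = u * (t * u) ^ k := by group

/-- odd case: an involution `v`, conjugate to `t` by a power of `t u`, with `v⁻¹ t v = u`. -/
theorem exists_swap_involution [Finite Γ] {t u : Γ} (ht : t * t = 1) (hu : u * u = 1)
    (hn : Odd (orderOf (t * u))) :
    ∃ j : ℕ, ((t * u) ^ j)⁻¹ * t * (t * u) ^ j * (((t * u) ^ j)⁻¹ * t * (t * u) ^ j) = 1 ∧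
      (((t * u) ^ j)⁻¹ * t * (t * u) ^ j)⁻¹ * t * (((t * u) ^ j)⁻¹ * t * (t * u) ^ j) = u := by
  obtain ⟨k, hk⟩ := hn
  set p := t * u with hp
  have hpn : p ^ (2 * k + 1) = 1 := by rw [← hk]; exact pow_orderOf_eq_one _
  -- x := p^j with x * x * x * x = p ... choose j := (k+1)*(k+1)
  refine ⟨(k + 1) * (k + 1), ?_, ?_⟩
  · have e : (p ^ ((k + 1) * (k + 1)))⁻¹ * t * p ^ ((k + 1) * (k + 1)) *
        ((p ^ ((k + 1) * (k + 1)))⁻¹ * t * p ^ ((k + 1) * (k + 1)))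
        = (p ^ ((k + 1) * (k + 1)))⁻¹ * (t * t) * p ^ ((k + 1) * (k + 1)) := by group
    rw [e, ht]; group
  · set x := p ^ ((k + 1) * (k + 1)) with hx
    have h1 : t * x * t⁻¹ = x⁻¹ := conj_pow_left ht hu _
    have htx : t * x = x⁻¹ * t := by
      calc t * x = (t * x * t⁻¹) * t := by group
        _ = x⁻¹ * t := by rw [h1]
    have hxx : x * x * (x * x) = p := by
      rw [hx, ← pow_add, ← pow_add]
      have : (k + 1) * (k + 1) + (k + 1) * (k + 1) + ((k + 1) * (k + 1) + (k + 1) * (k + 1))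
          = (2 * k + 1) * (2 * k + 3) + 1 := by ring
      rw [this, pow_succ, pow_mul, hpn, one_pow, one_mul]
    -- v = x⁻¹ t x = t x x
    have hv : x⁻¹ * t * x = t * (x * x) := by
      calc x⁻¹ * t * x = (x⁻¹ * t) * x := by group
        _ = (t * x) * x := by rw [htx]
        _ = t * (x * x) := by group
    have hxx' : t * (x * x) = (x * x)⁻¹ * t := by
      calc t * (x * x) = (t * x) * x := by group
        _ = (x⁻¹ * t) * x := by rw [htx]
        _ = x⁻¹ * (t * x) := by group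
        _ = x⁻¹ * (x⁻¹ * t) := by rw [htx]
        _ = (x * x)⁻¹ * t := by group
    rw [hv]
    calc (t * (x * x))⁻¹ * t * (t * (x * x))
        = (x * x)⁻¹ * (t⁻¹ * (t * t)) * (x * x) := by group
      _ = (x * x)⁻¹ * t⁻¹ * (x * x) := by rw [ht, mul_one]
      _ = (x * x)⁻¹ * (t * (x * x)) := by rw [inv_of_sq ht]; group
      _ = (x * x)⁻¹ * ((x * x)⁻¹ * t) := by rw [hxx']
      _ = (x * x * (x * x))⁻¹ * t := by group
      _ = p⁻¹ * t := by rw [hxx]
      _ = u := by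
        rw [hp, mul_inv_rev, inv_of_sq ht, inv_of_sq hu]
        calc u * t * t = u * (t * t) := by group
          _ = u := by rw [ht, mul_one]

end dihedral

section main

variable {Γ : Type u} [Group Γ] [Finite Γ] {G : Subgroup Γ} {a τ : Γ} {r : ℕ}

omit [Finite Γ] in
theorem commute_conj {x y : Γ} (g : Γ) (h : Commute x y) : Commute (g⁻¹ * x * g) (g⁻¹ * y * g) := by
  have e := h.eq
  show g⁻¹ * x * g * (g⁻¹ * y * g) = g⁻¹ * y * g * (g⁻¹ * x * g)
  calc g⁻¹ * x * g * (g⁻¹ * y * g) = g⁻¹ * (x * y) * g := by group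
    _ = g⁻¹ * (y * x) * g := by rw [e]
    _ = g⁻¹ * y * g * (g⁻¹ * x * g) := by group

/-- (a): products of elements of `K_a` and `K_b` have odd order when `Lam0 G a b` is even. -/
theorem odd_order_mul (h : MinCE G a τ r)
    (hE5 : ∀ (H : Subgroup Γ), H ≤ G → (∀ x ∈ H, a⁻¹ * x * a ∈ H) → ∀ {g : Γ}, g ∈ G →
      g⁻¹ * τ * g ∈ H → ∃ x ∈ H, x⁻¹ * (g⁻¹ * a * g) * x = a)
    (hKL : ∀ (H : Subgroup Γ), H ≤ G → H ≠ G → (∀ x ∈ H, a⁻¹ * x * a ∈ H) → ∀ {u : Γ}, IsK G τ u →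
      u ∈ H → ∀ {k : Γ}, k ∈ H → Odd (Nat.card (Lam0 G a (k⁻¹ * a * k))))
    (hR0 : ∀ (N : Subgroup Γ), N ≤ G → (∀ g ∈ G, ∀ x ∈ N, g⁻¹ * x * g ∈ N) →
      (∀ x ∈ N, Commute x a) → N = ⊥)
    {b : Γ} (hb : IsPt G a b) (heven : ¬ Odd (Nat.card (Lam0 G a b)))
    {t u' : Γ} (ht : IsK G τ t) (hta : Commute t a) (hu : IsK G τ u') (hub : Commute u' b) :
    Odd (orderOf (t * u')) := by
  by_contra hodd
  have hyp := h.hyp
  obtain ⟨k, hzz, hz1, hzt, hzu⟩ :=
    exists_central_involution (ht.mul_self hyp) (hu.mul_self hyp) hodd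
  set z := (t * u') ^ k with hz
  have hzG : z ∈ G := G.pow_mem (G.mul_mem (ht.mem hyp) (hu.mem hyp)) k
  have hza : Commute z a := hyp.cent_le ht hta hzG hzt
  obtain ⟨g', hg', rfl⟩ := hu
  have hbeq : b = g'⁻¹ * a * g' := hyp.point_unique hg' hb hub
  have hzb : Commute z b := by
    rw [hbeq]; exact hyp.cent_conj hg' hzG hzu
  -- the subgroup H
  set H : Subgroup Γ := G ⊓ Subgroup.centralizer {z} with hH
  have hHG : H ≤ G := inf_le_left
  have hmemH : ∀ x, x ∈ H ↔ x ∈ G ∧ Commute x z := by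
    intro x
    rw [hH, Subgroup.mem_inf, Subgroup.mem_centralizer_iff]
    constructor
    · rintro ⟨h1, h2⟩
      exact ⟨h1, (h2 z (Set.mem_singleton z)).symm⟩
    · rintro ⟨h1, h2⟩
      refine ⟨h1, ?_⟩
      intro y hy
      rw [Set.mem_singleton_iff] at hy
      rw [hy]; exact h2.symm.eq
  have hne : H ≠ G := by
    intro hHeq
    have hcentral : ∀ g ∈ G, Commute g z := fun g hg => ((hmemH g).1 (hHeq ▸ hg)).2
    have hbot : Subgroup.zpowers z = ⊥ := by
      apply hR0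
      · rw [Subgroup.zpowers_le]; exact hzG
      · intro g hg x hx
        obtain ⟨i, rfl⟩ := Subgroup.mem_zpowers_iff.1 hx
        have hc : Commute g (z ^ i) := (hcentral g hg).zpow_right i
        have e : g⁻¹ * z ^ i * g = z ^ i := by
          calc g⁻¹ * z ^ i * g = g⁻¹ * (z ^ i * g) := by group
            _ = g⁻¹ * (g * z ^ i) := by rw [hc.eq]
            _ = z ^ i := by group
        rw [e]; exact hx
      · intro x hx
        obtain ⟨i, rfl⟩ := Subgroup.mem_zpowers_iff.1 hx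
        exact hza.zpow_left i
    rw [Subgroup.zpowers_eq_bot] at hbot
    exact hz1 hbot
  have hinv : ∀ x ∈ H, a⁻¹ * x * a ∈ H := by
    intro x hx
    obtain ⟨hxG, hxz⟩ := (hmemH x).1 hx
    refine (hmemH _).2 ⟨hyp.hnorm x hxG, ?_⟩
    exact ((hza.symm.inv_left).mul_left hxz).mul_left hza.symm
  have huH : g'⁻¹ * τ * g' ∈ H := (hmemH _).2 ⟨(IsK.mem hyp ⟨g', hg', rfl⟩), hzu.symm⟩
  obtain ⟨x, hxH, hx⟩ := hE5 H hHG hinv hg' huH
  have hodd' := hKL H hHG hne hinv (⟨g', hg', rfl⟩ : IsK G τ (g'⁻¹ * τ * g')) huH (H.inv_mem hxH)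
  have e : (x⁻¹)⁻¹ * a * x⁻¹ = b := by
    calc (x⁻¹)⁻¹ * a * x⁻¹ = x * (x⁻¹ * (g'⁻¹ * a * g') * x) * x⁻¹ := by rw [hx]; group
      _ = g'⁻¹ * a * g' := by group
      _ = b := hbeq.symm
  rw [e] at hodd'
  exact heven hodd'

/-- **(S1)** from the packages (E5), (KL), (R0), (R1) (stub shapes). -/
theorem S1_of (h : MinCE G a τ r)
    (hE5 : ∀ (H : Subgroup Γ), H ≤ G → (∀ x ∈ H, a⁻¹ * x * a ∈ H) → ∀ {g : Γ}, g ∈ G →
      g⁻¹ * τ * g ∈ H → ∃ x ∈ H, x⁻¹ * (g⁻¹ * a * g) * x = a)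
    (hKL : ∀ (H : Subgroup Γ), H ≤ G → H ≠ G → (∀ x ∈ H, a⁻¹ * x * a ∈ H) → ∀ {u : Γ}, IsK G τ u →
      u ∈ H → ∀ {k : Γ}, k ∈ H → Odd (Nat.card (Lam0 G a (k⁻¹ * a * k))))
    (hR0 : ∀ (N : Subgroup Γ), N ≤ G → (∀ g ∈ G, ∀ x ∈ N, g⁻¹ * x * g ∈ N) →
      (∀ x ∈ N, Commute x a) → N = ⊥)
    (hR1 : ∀ {t : Γ}, IsK G τ t → Commute t a →
      ∃ t', IsK G τ t' ∧ Commute t' a ∧ t' ≠ t ∧ Commute t t')
    {b : Γ} (hb : IsPt G a b) : Odd (Nat.card (Lam0 G a b)) := by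
  by_contra heven
  have hyp := h.hyp
  have hτK : IsK G τ τ := IsK.tau G τ
  have hτa : Commute τ a := hyp.tau_comm
  obtain ⟨t', ht'K, ht'a, ht'ne, -⟩ := hR1 hτK hτa
  obtain ⟨g₀, hg₀, hbdef⟩ := hb
  have hb : IsPt G a b := ⟨g₀, hg₀, hbdef⟩
  -- two elements of K_b
  have hu0K : IsK G τ (g₀⁻¹ * τ * g₀) := hτK.conj hg₀
  have hu1K : IsK G τ (g₀⁻¹ * t' * g₀) := ht'K.conj hg₀
  have hu0b : Commute (g₀⁻¹ * τ * g₀) b := by rw [hbdef]; exact commute_conj g₀ hτa
  have hu1b : Commute (g₀⁻¹ * t' * g₀) b := by rw [hbdef]; exact commute_conj g₀ ht'a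
  have hune : g₀⁻¹ * τ * g₀ ≠ g₀⁻¹ * t' * g₀ := by
    intro he
    apply ht'ne
    have : τ = t' := by
      have := congrArg (fun y => g₀ * y * g₀⁻¹) he
      simpa [mul_assoc] using this
    exact this.symm
  -- the swapping involutions
  have swap : ∀ u', IsK G τ u' → Commute u' b →
      ∃ v, IsK G τ v ∧ v * v = 1 ∧ v⁻¹ * τ * v = u' ∧ b = v⁻¹ * a * v := by
    intro u' hu'K hu'b
    have hodd := odd_order_mul h hE5 hKL hR0 hb heven hτK hτa hu'K hu'b
    obtain ⟨j, hvv, hvu⟩ := exists_swap_involution hyp.tau_sq (hu'K.mul_self hyp) hodd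
    have hpG : (τ * u') ^ j ∈ G := G.pow_mem (G.mul_mem hyp.hτG (hu'K.mem hyp)) j
    refine ⟨((τ * u') ^ j)⁻¹ * τ * (τ * u') ^ j, hτK.conj hpG, hvv, hvu, ?_⟩
    have hvG : ((τ * u') ^ j)⁻¹ * τ * (τ * u') ^ j ∈ G := (hτK.conj hpG).mem hyp
    apply hyp.point_unique hvG hb
    rw [hvu]; exact hu'b
  obtain ⟨v0, hv0K, hv0sq, hv0u, hv0b⟩ := swap _ hu0K hu0b
  obtain ⟨v1, hv1K, hv1sq, hv1u, hv1b⟩ := swap _ hu1K hu1b
  have hv0inv : v0⁻¹ = v0 := inv_of_sq hv0sq
  have hv1inv : v1⁻¹ = v1 := inv_of_sq hv1sq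
  have hvne : v1 ≠ v0 := by
    intro he
    apply hune
    rw [← hv0u, ← hv1u, he]
  have hv0G : v0 ∈ G := hv0K.mem hyp
  have hv1G : v1 ∈ G := hv1K.mem hyp
  -- v swaps a and b
  have hv0a : v0 * b * v0⁻¹ = a := by rw [hv0b]; group
  have hv1a : v1 * b * v1⁻¹ = a := by rw [hv1b]; group
  have hv0b' : v0 * a * v0⁻¹ = b := by
    rw [hv0b]; nth_rewrite 1 [← hv0inv]; rw [hv0inv]
  have hv1b' : v1 * a * v1⁻¹ = b := by
    rw [hv1b]; nth_rewrite 1 [← hv1inv]; rw [hv1inv]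
  -- d
  set d := v1 * v0⁻¹ with hd
  have hd1 : d ≠ 1 := by
    intro he
    apply hvne
    rw [hd] at he
    exact mul_inv_eq_one.1 he
  have hdG : d ∈ G := G.mul_mem hv1G (G.inv_mem hv0G)
  have hda : Commute d a := by
    show d * a = a * d
    have : d * a * d⁻¹ = a := by
      calc d * a * d⁻¹ = v1 * (v0⁻¹ * a * v0) * v1⁻¹ := by rw [hd]; group
        _ = v1 * b * v1⁻¹ := by rw [← hv0b]
        _ = a := hv1a
    calc d * a = (d * a * d⁻¹) * d := by group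
      _ = a * d := by rw [this]
  have hdb : Commute d b := by
    show d * b = b * d
    have : d * b * d⁻¹ = b := by
      calc d * b * d⁻¹ = v1 * (v0⁻¹ * b * v0) * v1⁻¹ := by rw [hd]; group
        _ = v1 * (v0 * b * v0⁻¹) * v1⁻¹ := by rw [hv0inv]
        _ = v1 * a * v1⁻¹ := by rw [hv0a]
        _ = b := hv1b'
    calc d * b = (d * b * d⁻¹) * d := by group
      _ = b * d := by rw [this]
  -- D and its normalizer
  set D : Subgroup Γ := G ⊓ Subgroup.centralizer {a} ⊓ Subgroup.centralizer {b} with hD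
  have hmemD : ∀ x, x ∈ D ↔ x ∈ G ∧ Commute x a ∧ Commute x b := by
    intro x
    rw [hD, Subgroup.mem_inf, Subgroup.mem_inf, Subgroup.mem_centralizer_iff,
      Subgroup.mem_centralizer_iff]
    constructor
    · rintro ⟨⟨h1, h2⟩, h3⟩
      exact ⟨h1, (h2 a rfl).symm, (h3 b rfl).symm⟩
    · rintro ⟨h1, h2, h3⟩
      refine ⟨⟨h1, ?_⟩, ?_⟩
      · intro y hy; rw [Set.mem_singleton_iff] at hy; rw [hy]; exact h2.symm.eq
      · intro y hy; rw [Set.mem_singleton_iff] at hy; rw [hy]; exact h3.symm.eq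
  have hdD : d ∈ D := (hmemD d).2 ⟨hdG, hda, hdb⟩
  have hDG : D ≤ G := fun x hx => ((hmemD x).1 hx).1
  set N : Subgroup Γ := G ⊓ Subgroup.normalizer (D : Set Γ) with hN
  have hNG : N ≤ G := inf_le_left
  have hneN : N ≠ G := by
    intro hNeq
    have hnorm : ∀ g ∈ G, g ∈ Subgroup.normalizer (D : Set Γ) := by
      intro g hg
      have : g ∈ N := hNeq ▸ hg
      exact this.2
    have hbot : D = ⊥ := by
      apply hR0 D hDG
      · intro g hg x hx
        have h1 := hnorm g⁻¹ (G.inv_mem hg)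
        rw [Subgroup.mem_normalizer_iff] at h1
        have := (h1 x).1 hx
        simpa using this
      · intro x hx; exact ((hmemD x).1 hx).2.1
    rw [hbot, Subgroup.mem_bot] at hdD
    exact hd1 hdD
  have haN : a ∈ Subgroup.normalizer (D : Set Γ) := by
    rw [Subgroup.mem_normalizer_iff]
    intro n
    constructor
    · intro hn
      have hc : Commute n a := ((hmemD n).1 hn).2.1
      have : a * n * a⁻¹ = n := by
        calc a * n * a⁻¹ = (a * n) * a⁻¹ := by group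
          _ = (n * a) * a⁻¹ := by rw [hc.eq]
          _ = n := by group
      rw [this]; exact hn
    · intro hn
      have hc : Commute (a * n * a⁻¹) a := ((hmemD _).1 hn).2.1
      have : n = a * n * a⁻¹ := by
        have e := hc.eq
        calc n = a⁻¹ * ((a * n * a⁻¹) * a) := by group
          _ = a⁻¹ * (a * (a * n * a⁻¹)) := by rw [e]
          _ = a * n * a⁻¹ := by group
      rw [this]; exact hn
  have hinvN : ∀ x ∈ N, a⁻¹ * x * a ∈ N := by
    intro x hx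
    refine ⟨hyp.hnorm x hx.1, ?_⟩
    exact Subgroup.mul_mem _ (Subgroup.mul_mem _ (Subgroup.inv_mem _ haN) hx.2) haN
  have hconj : ∀ n ∈ D, v0 * n * v0⁻¹ ∈ D := by
    intro n hn
    obtain ⟨hnG, hna, hnb⟩ := (hmemD n).1 hn
    refine (hmemD _).2 ⟨G.mul_mem (G.mul_mem hv0G hnG) (G.inv_mem hv0G), ?_, ?_⟩
    · have := commute_conj v0⁻¹ hnb
      rw [inv_inv, hv0a] at this
      exact this
    · have := commute_conj v0⁻¹ hna
      rw [inv_inv, hv0b'] at this
      exact this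
  have hv0N : v0 ∈ N := by
    refine ⟨hv0G, ?_⟩
    show v0 ∈ Subgroup.normalizer (D : Set Γ)
    rw [Subgroup.mem_normalizer_iff]
    intro n
    constructor
    · exact hconj n
    · intro hn
      have := hconj _ hn
      have e : v0 * (v0 * n * v0⁻¹) * v0⁻¹ = n := by
        rw [hv0inv]
        calc v0 * (v0 * n * v0) * v0 = (v0 * v0) * n * (v0 * v0) := by group
          _ = n := by rw [hv0sq]; group
      rwa [e] at this
  have hodd' := hKL N hNG hneN hinvN hv0K hv0N hv0N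
  rw [← hv0b] at hodd'
  exact heven hodd'

end main

end Cfsg.Agent.Lib.Lead.GlFixS1
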