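import Mathlib
import Cfsg.Agent.Lib.Helper8.GlAutDefs

/-!
# Lemma C (cocycle / averaging) for Glauberman's automorphism theorem — core, with the oddness of the index as a hypothesis
-/

set_option autoImplicit false
open scoped commutatorElement

namespace Cfsg.Agent.Lib.Helper8.GlAut

namespace CocycleAux

open scoped IsMulCommutative in
/-- Abstract averaging: a crossed homomorphism `F : K → B` into a finite commutative group `B` of order prime to `|K : S|`
that vanishes on `S` is principal. -/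
theorem averaging {K B : Type*} [Group K] [Finite K] [Group B] [Finite B] [IsMulCommutative B]
    (S : Subgroup K) (φ : K → (B →* B)) (F : K → B) (n : ℕ)
    (hn : S.index = n) (hcop : (Nat.card B).Coprime n)
    (hmul : ∀ k l, F (k * l) = F k * φ k (F l)) (hS : ∀ s ∈ S, F s = 1) :
    ∃ a : B, ∀ l, F l = a * (φ l a)⁻¹ := by
  classical
  have : Fintype (K ⧸ S) := Fintype.ofFinite _
  have hconst : ∀ k s, s ∈ S → F (k * s) = F k := by
    intro k s hs
    rw [hmul, hS s hs, map_one, mul_one]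
  let g : K ⧸ S → B := fun q => F q.out
  have hg : ∀ k : K, g (QuotientGroup.mk k) = F k := by
    intro k
    obtain ⟨s, hs⟩ := QuotientGroup.mk_out_eq_mul S k
    show F (QuotientGroup.mk k : K ⧸ S).out = F k
    rw [hs]
    exact hconst k s s.2
  let w : B := ∏ q : K ⧸ S, g q
  have key : ∀ l : K, w = F l ^ n * φ l w := by
    intro l
    have h1 : ∏ q : K ⧸ S, g (l • q) = w :=
      (MulAction.bijective l).prod_comp (fun q : K ⧸ S => g q)
    have h2 : ∀ q : K ⧸ S, g (l • q) = F l * φ l (g q) := by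
      intro q
      induction q using QuotientGroup.induction_on with
      | H k =>
        have : (l • (QuotientGroup.mk k : K ⧸ S)) = QuotientGroup.mk (l * k) := rfl
        rw [this, hg, hg, hmul]
    have h3 : ∏ q : K ⧸ S, g (l • q) = F l ^ n * φ l w := by
      simp_rw [h2]
      rw [Finset.prod_mul_distrib, Finset.prod_const, Finset.card_univ]
      show _ = F l ^ n * φ l (∏ q : K ⧸ S, g q)
      rw [map_prod]
      congr 2
      rw [← hn, Subgroup.index, Nat.card_eq_fintype_card]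
    exact h1.symm.trans h3
  let e := powCoprime hcop
  obtain ⟨a, ha⟩ := e.surjective w
  have ha' : a ^ n = w := ha
  refine ⟨a, fun l => ?_⟩
  apply e.injective
  show (F l) ^ n = (a * (φ l a)⁻¹) ^ n
  rw [mul_pow, inv_pow, ← map_pow, ha', eq_mul_inv_iff_mul_eq]
  exact (key l).symm

end CocycleAux

universe u
variable {Γ : Type u} [Group Γ]

/-- Lemma C with the oddness of `|K : S|` as a hypothesis. -/
theorem cocycle_conj_of_odd [Finite Γ] {K S A : Subgroup Γ} (hSK : S ≤ K) (hodd : Odd (S.relIndex K))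
    (hAn : K ≤ Subgroup.normalizer (A : Set Γ)) (hAab : ∀ a ∈ A, ∀ b ∈ A, a * b = b * a)
    (hA2 : IsPGroup 2 ↥A) {c : Γ} (hcS : c ∈ Subgroup.centralizer (S : Set Γ))
    (hc : ∀ k ∈ K, ⁅c, k⁆ ∈ A) :
    ∃ a ∈ A, a ∈ Subgroup.centralizer (S : Set Γ) ∧ ∀ k ∈ K, c * k * c⁻¹ = a * k * a⁻¹ := by
  classical
  have : IsMulCommutative ↥A := ⟨⟨fun a b => Subtype.ext (hAab a a.2 b b.2)⟩⟩
  -- conjugation action of `K` on `A`
  have hconj : ∀ k ∈ K, ∀ a ∈ A, k * a * k⁻¹ ∈ A := by
    intro k hk a ha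
    exact ((Subgroup.mem_normalizer_iff.mp (hAn hk)) a).mp ha
  let φ : ↥K → (↥A →* ↥A) := fun k =>
    { toFun := fun a => ⟨(k : Γ) * a * (k : Γ)⁻¹, hconj k k.2 a a.2⟩
      map_one' := by ext; simp
      map_mul' := by intro a b; ext; simp }
  let F : ↥K → ↥A := fun k => ⟨⁅c, (k : Γ)⁆, hc k k.2⟩
  have hmul : ∀ k l : ↥K, F (k * l) = F k * φ k (F l) := by
    intro k l
    apply Subtype.ext
    show ⁅c, ((k * l : ↥K) : Γ)⁆ = ⁅c, (k : Γ)⁆ * ((k : Γ) * ⁅c, (l : Γ)⁆ * (k : Γ)⁻¹)
    simp only [commutatorElement_def, Subgroup.coe_mul]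
    group
  have hS' : ∀ s ∈ S.subgroupOf K, F s = 1 := by
    intro s hs
    apply Subtype.ext
    show ⁅c, (s : Γ)⁆ = 1
    have h := Subgroup.mem_centralizer_iff.mp hcS (s : Γ) (Subgroup.mem_subgroupOf.mp hs)
    rw [commutatorElement_def, ← h]
    group
  have hcop : (Nat.card ↥A).Coprime (S.relIndex K) := by
    obtain ⟨e, he⟩ := IsPGroup.iff_card.mp hA2
    rw [he]
    exact Nat.Coprime.pow_left _ (Nat.coprime_two_left.mpr hodd)
  obtain ⟨a, ha⟩ := CocycleAux.averaging (S.subgroupOf K) φ F (S.relIndex K) rfl hcop hmul hS'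
  have hval : ∀ k ∈ K, ⁅c, k⁆ = (a : Γ) * (k * (a : Γ) * k⁻¹)⁻¹ := by
    intro k hk
    have := congrArg Subtype.val (ha ⟨k, hk⟩)
    simpa [F, φ] using this
  refine ⟨a, a.2, ?_, ?_⟩
  · rw [Subgroup.mem_centralizer_iff]
    intro s hs
    have h1 := hval s (hSK hs)
    have h2 : ⁅c, s⁆ = 1 := by
      have h := Subgroup.mem_centralizer_iff.mp hcS s hs
      rw [commutatorElement_def, ← h]
      group
    rw [h2] at h1
    -- 1 = a * (s a s⁻¹)⁻¹  ⇒  s * a = a * s
    have h3 : (a : Γ) = s * (a : Γ) * s⁻¹ := by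
      have := h1
      rw [eq_comm, mul_inv_eq_one] at this
      exact this
    calc s * (a : Γ) = (s * (a : Γ) * s⁻¹) * s := by group
      _ = (a : Γ) * s := by rw [← h3]
  · intro k hk
    have h1 := hval k hk
    calc c * k * c⁻¹ = ⁅c, k⁆ * k := by rw [commutatorElement_def]; group
      _ = (a : Γ) * (k * (a : Γ) * k⁻¹)⁻¹ * k := by rw [h1]
      _ = (a : Γ) * k * (a : Γ)⁻¹ := by group

end Cfsg.Agent.Lib.Helper8.GlAut
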