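import Mathlib
import Cfsg.Agent.Lib.Helper8.GlAutDefs
import Cfsg.Agent.Lib.Helper8.GlAutBasic
import Cfsg.Agent.Lib.Lead.GlAutCAux

/-!
# Lemma C (cocycle / averaging) for Glauberman's automorphism theorem — package PC of the Theorem G swarm
-/

set_option autoImplicit false
open scoped commutatorElement

namespace Cfsg.Agent.Lib.Helper8.GlAut

universe u
variable {Γ : Type u} [Group Γ]

theorem cocycle_conj [Finite Γ] {K S A : Subgroup Γ} (hS : SylMax S K) (hAK : A ≤ K)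
    (hAn : K ≤ Subgroup.normalizer (A : Set Γ)) (hAab : ∀ a ∈ A, ∀ b ∈ A, a * b = b * a)
    (hA2 : IsPGroup 2 ↥A) {c : Γ} (hcS : c ∈ Subgroup.centralizer (S : Set Γ))
    (hc : ∀ k ∈ K, ⁅c, k⁆ ∈ A) :
    ∃ a ∈ A, a ∈ Subgroup.centralizer (S : Set Γ) ∧ ∀ k ∈ K, c * k * c⁻¹ = a * k * a⁻¹ :=
  cocycle_conj_of_odd hS.1 hS.odd_relIndex hAn hAab hA2 hcS hc

end Cfsg.Agent.Lib.Helper8.GlAut
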