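import Mathlib
import Cfsg.Agent.Lib.Lead.FrobNPC5
import Cfsg.Agent.Lib.Lead.CoprimeTools
import Cfsg.Agent.Lib.Helper3.LocalP1
import Cfsg.Agent.Lib.Helper4.FusionLift1
import Cfsg.Agent.Lib.Helper4.AlperinGold1

/-!
# S1301 swarm, package CS-E: a perfect subgroup covered by `O · L1` (`O` odd, `L1` 2-nilpotent) has odd order
-/

set_option autoImplicit false
open scoped commutatorElement

namespace Cfsg.Agent.Lib.LB2

variable {Γ : Type*} [Group Γ] [Finite Γ]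

omit [Finite Γ] in
/-- powers of `o * l` with `l` normalizing `O ∋ o` -/
theorem lb2end_pow_mem (O : Subgroup Γ) {o l : Γ} (ho : o ∈ O)
    (hl : l ∈ Subgroup.normalizer (O : Set Γ)) (m : ℕ) :
    ∃ o' ∈ O, (o * l) ^ m = o' * l ^ m := by
  induction m with
  | zero => exact ⟨1, O.one_mem, by simp⟩
  | succ m ih =>
    obtain ⟨o', ho', h⟩ := ih
    refine ⟨o' * (l ^ m * o * (l ^ m)⁻¹), O.mul_mem ho' ?_, ?_⟩
    · have hlm : l ^ m ∈ Subgroup.normalizer (O : Set Γ) := Subgroup.pow_mem _ hl m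
      exact (Subgroup.mem_normalizer_iff.mp hlm o).mp ho
    · rw [pow_succ, h, pow_succ]
      group

theorem perfect_odd_of_cover (O L1 L : Subgroup Γ) (hO : Odd (Nat.card O))
    (hL1O : L1 ≤ Subgroup.normalizer (O : Set Γ)) (hcov : L ≤ O ⊔ L1)
    (hfrob : Cfsg.Agent.Lib.Lead.PLocalCentral 2 ↥L1) (hperf : ⁅L, L⁆ = L) :
    Odd (Nat.card L) := by
  classical
  have : Fact (Nat.Prime 2) := ⟨Nat.prime_two⟩
  obtain ⟨P⟩ : Nonempty (Sylow 2 ↥L1) := inferInstance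
  obtain ⟨N1, hN1n, hc⟩ := Cfsg.Agent.Lib.Lead.exists_normal_complement_of_plocal hfrob P
  have := hN1n
  -- `N1` has odd order and 2-power index
  have hidx : N1.index = Nat.card (P : Subgroup ↥L1) := hc.symm.index_eq_card
  obtain ⟨j, hj⟩ := IsPGroup.iff_card.mp P.2
  have hN1odd : Odd (Nat.card N1) := by
    have h1 : (P : Subgroup ↥L1).index = Nat.card N1 := hc.index_eq_card
    have h2 : ¬ 2 ∣ (P : Subgroup ↥L1).index := P.not_dvd_index
    rw [h1] at h2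
    exact Nat.odd_iff.mpr (Nat.two_dvd_ne_zero.mp h2)
  set N1' : Subgroup Γ := N1.map L1.subtype with hN1'
  have hN1'L1 : N1' ≤ L1 := by
    rintro _ ⟨x, _, rfl⟩
    exact x.2
  have hcardN1' : Nat.card N1' = Nat.card N1 :=
    Subgroup.card_map_of_injective (Subgroup.subtype_injective L1)
  set B : Subgroup Γ := N1' ⊔ O with hB
  have hBodd : Odd (Nat.card B) := by
    have h := Cfsg.Agent.Lib.Lead.card_sup_mul_card_inf N1' O (hN1'L1.trans hL1O)
    have hprod : Odd (Nat.card N1' * Nat.card O) := (hcardN1' ▸ hN1odd).mul hO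
    rw [← h] at hprod
    exact (Nat.odd_mul.mp hprod).1
  -- `O ⊔ L1` normalizes `B`
  have hL1N1' : L1 ≤ Subgroup.normalizer (N1' : Set Γ) :=
    Cfsg.Agent.Lib.Helper4.le_normalizer_map_subtype L1 N1
  have hMB : O ⊔ L1 ≤ Subgroup.normalizer (B : Set Γ) := by
    refine sup_le ?_ ?_
    · exact (le_sup_right : O ≤ B).trans Subgroup.le_normalizer
    · intro x hx
      exact Subgroup.normalizer_inf_normalizer_le_normalizer_sup N1' O ⟨hL1N1' hx, hL1O hx⟩
  -- every element of `L` has a 2-power power in `B`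
  have hpow : ∀ e ∈ L, ∃ k : ℕ, e ^ (2 ^ k) ∈ B := by
    intro e he
    obtain ⟨o, ho, l, hl, rfl⟩ :=
      Cfsg.Agent.Lib.Helper4.exists_mul_of_mem_sup_normalizer hL1O (hcov he)
    refine ⟨j, ?_⟩
    obtain ⟨o', ho', h⟩ := lb2end_pow_mem O ho (hL1O hl) (2 ^ j)
    rw [h]
    refine B.mul_mem (le_sup_right (a := N1') ho') (le_sup_left (b := O) ?_)
    -- `l ^ 2 ^ j ∈ N1'`
    have h1 : (⟨l, hl⟩ : ↥L1) ^ N1.index ∈ N1 := Subgroup.pow_index_mem N1 _
    rw [hidx, hj] at h1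
    exact ⟨(⟨l, hl⟩ : ↥L1) ^ (2 ^ j), h1, by simp⟩
  have hLB : L ≤ B :=
    Cfsg.Agent.Lib.Helper3.perfect_le_of_forall_pow_mem (p := 2) (hcov.trans hMB) hperf hpow
  have hdvd : Nat.card L ∣ Nat.card B := Subgroup.card_dvd_of_le hLB
  exact hBodd.of_dvd_nat hdvd

end Cfsg.Agent.Lib.LB2
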