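import Mathlib
import Cfsg.Agent.Lib.Lead.Extra1
import Cfsg.Agent.Lib.Lead.ExtraspecialCard
import Cfsg.Agent.Lib.Lead.ExtraspecialCentral
import Cfsg.Agent.Lib.Lead.Frattini2
import Cfsg.Prelude.Def_Transfer

set_option autoImplicit false

namespace Cfsg.Agent.Lib.Lead.Extra

open scoped commutatorElement
open Cfsg.Agent.Lib.Lead

universe u v

/-- An elementary description of extraspecial 2-groups (including the degenerate group of order 2):
`z` is a central involution, all commutators and squares lie in `{1, z}`, and the centre is `{1, z}`. -/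
structure ES (E : Type u) [Group E] (z : E) : Prop where
  z_ne : z ≠ 1
  z_mem : z ∈ Subgroup.center E
  comm : ∀ x y : E, ⁅x, y⁆ = 1 ∨ ⁅x, y⁆ = z
  sq : ∀ x : E, x ^ 2 = 1 ∨ x ^ 2 = z
  cen : ∀ w ∈ Subgroup.center E, w = 1 ∨ w = z

section basics

variable {E : Type u} [Group E] {z : E}

theorem ES.z_comm (h : ES E z) (g : E) : g * z = z * g :=
  Subgroup.mem_center_iff.mp h.z_mem g

theorem ES.z_sq (h : ES E z) : z ^ 2 = 1 := by
  rcases h.sq z with h1 | h1
  · exact h1
  · exfalso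
    apply h.z_ne
    have : z * z = z := by rw [← pow_two]; exact h1
    exact mul_eq_left.mp this

theorem ES.z_mul_z (h : ES E z) : z * z = 1 := by rw [← pow_two]; exact h.z_sq

theorem ES.z_inv (h : ES E z) : z⁻¹ = z := inv_eq_of_mul_eq_one_right h.z_mul_z

theorem ES.comm_mem_center (h : ES E z) (x y : E) : ⁅x, y⁆ ∈ Subgroup.center E := by
  rcases h.comm x y with h1 | h1
  · rw [h1]; exact Subgroup.one_mem _
  · rw [h1]; exact h.z_mem

theorem ES.card_center [Finite E] (h : ES E z) : Nat.card (Subgroup.center E) = 2 := by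
  rw [Nat.card_eq_two_iff]
  refine ⟨1, ⟨z, h.z_mem⟩, ?_, ?_⟩
  · intro h1
    exact h.z_ne (congrArg Subtype.val h1).symm
  · ext w
    simp only [Set.mem_insert_iff, Set.mem_singleton_iff, Set.mem_univ, iff_true]
    rcases h.cen w w.2 with h1 | h1
    · left; exact Subtype.ext h1
    · right; exact Subtype.ext h1

/-- swap rule in class two -/
theorem ES.mul_swap (h : ES E z) (x y : E) : y * x = ⁅y, x⁆ * (x * y) := by
  rw [commutatorElement_def]; group

theorem ES.comm_symm (h : ES E z) (x y : E) : ⁅x, y⁆ = ⁅y, x⁆ := by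
  have h1 : ⁅x, y⁆ = ⁅y, x⁆⁻¹ := (commutatorElement_inv y x).symm
  rw [h1]
  rcases h.comm y x with h2 | h2
  · rw [h2, inv_one]
  · rw [h2, h.z_inv]

theorem ES.comm_eq_one_iff (x y : E) : ⁅x, y⁆ = 1 ↔ x * y = y * x :=
  commutatorElement_eq_one_iff_mul_comm

/-- squares of products -/
theorem ES.mul_sq (h : ES E z) (x y : E) : (x * y) ^ 2 = ⁅y, x⁆ * (x ^ 2 * y ^ 2) := by
  have hc : ∀ g : E, g * ⁅y, x⁆ = ⁅y, x⁆ * g :=
    fun g => Subgroup.mem_center_iff.mp (h.comm_mem_center y x) g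
  calc (x * y) ^ 2 = x * (y * x) * y := by rw [pow_two]; group
    _ = x * (⁅y, x⁆ * (x * y)) * y := by rw [← h.mul_swap x y]
    _ = ⁅y, x⁆ * (x ^ 2 * y ^ 2) := by
        rw [← mul_assoc x, hc x, pow_two, pow_two]; group

theorem ES.mul_sq_of_comm (x y : E) (hxy : x * y = y * x) : (x * y) ^ 2 = x ^ 2 * y ^ 2 := by
  rw [pow_two, pow_two, pow_two]
  calc x * y * (x * y) = x * (y * x) * y := by group
    _ = x * (x * y) * y := by rw [hxy]
    _ = x * x * (y * y) := by group

/-- commutator with a product -/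
theorem ES.comm_mul_left (h : ES E z) (a b t : E) : ⁅a * b, t⁆ = ⁅a, t⁆ * ⁅b, t⁆ := by
  have h1 := map_mul (commutatorHom (Subgroup.center E) le_rfl t (fun g => h.comm_mem_center g t)) a b
  exact congrArg Subtype.val h1

theorem ES.comm_inv_left (h : ES E z) (a t : E) : ⁅a⁻¹, t⁆ = ⁅a, t⁆ := by
  have h1 : ⁅a⁻¹ * a, t⁆ = ⁅a⁻¹, t⁆ * ⁅a, t⁆ := h.comm_mul_left a⁻¹ a t
  rw [inv_mul_cancel, commutatorElement_one_left] at h1
  rcases h.comm a t with h2 | h2
  · rw [h2, mul_one] at h1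
    rw [h2, ← h1]
  · rw [h2] at h1 ⊢
    have : ⁅a⁻¹, t⁆ = z⁻¹ := eq_inv_of_mul_eq_one_left h1.symm
    rw [this, h.z_inv]

end basics

section fromExtraspecial

variable {E : Type u} [Group E] [Finite E]

theorem exists_ES (hE : Cfsg.IsExtraspecial 2 E) : ∃ z : E, ES E z := by
  obtain ⟨⟨hp, hfr, hcm⟩, hcard⟩ := hE
  haveI : Fact (Nat.Prime 2) := ⟨Nat.prime_two⟩
  obtain ⟨w, hw1, hw2⟩ := (Nat.card_eq_two_iff' (1 : Subgroup.center E)).mp hcard
  have hcen : ∀ v ∈ Subgroup.center E, v = 1 ∨ v = (w : E) := by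
    intro v hv
    by_cases h1 : v = 1
    · exact Or.inl h1
    · right
      have h2 : (⟨v, hv⟩ : Subgroup.center E) ≠ 1 := by
        intro h3
        exact h1 (congrArg Subtype.val h3)
      have := hw2 ⟨v, hv⟩ h2
      exact congrArg Subtype.val this
  refine ⟨(w : E), ?_, w.2, ?_, ?_, hcen⟩
  · intro h1
    exact hw1 (Subtype.ext h1)
  · intro x y
    apply hcen
    rw [← hcm, commutator_def]
    exact Subgroup.commutator_mem_commutator (Subgroup.mem_top x) (Subgroup.mem_top y)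
  · intro x
    apply hcen
    rw [← hfr]
    exact pow_mem_frattini_of_isPGroup hp x

end fromExtraspecial

end Cfsg.Agent.Lib.Lead.Extra
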