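import Mathlib
import Cfsg.Agent.Lib.Lead.Extra2
import Cfsg.Agent.Lib.Helper1.DihedralIso

set_option autoImplicit false

namespace Cfsg.Agent.Lib.Lead.Extra

open scoped commutatorElement
open Cfsg.Agent.Lib.Lead

universe u v

section split

variable {E : Type u} [Group E] {z : E}

/-- the common centraliser of two elements -/
def cent2 (x y : E) : Subgroup E := Subgroup.centralizer {x} ⊓ Subgroup.centralizer {y}

theorem mem_cent2 {x y g : E} : g ∈ cent2 x y ↔ ⁅g, x⁆ = 1 ∧ ⁅g, y⁆ = 1 := by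
  unfold cent2
  rw [Subgroup.mem_inf, Subgroup.mem_centralizer_iff, Subgroup.mem_centralizer_iff,
    commutatorElement_eq_one_iff_mul_comm, commutatorElement_eq_one_iff_mul_comm]
  constructor
  · rintro ⟨h1, h2⟩
    exact ⟨(h1 x rfl).symm, (h2 y rfl).symm⟩
  · rintro ⟨h1, h2⟩
    refine ⟨?_, ?_⟩
    · intro w hw
      rw [Set.mem_singleton_iff] at hw
      rw [hw]; exact h1.symm
    · intro w hw
      rw [Set.mem_singleton_iff] at hw
      rw [hw]; exact h2.symm

theorem mem_cent2' {x y g : E} : g ∈ cent2 x y ↔ g * x = x * g ∧ g * y = y * g := by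
  rw [mem_cent2, commutatorElement_eq_one_iff_mul_comm, commutatorElement_eq_one_iff_mul_comm]

theorem ES.z_mem_cent2 (h : ES E z) (x y : E) : z ∈ cent2 x y := by
  rw [mem_cent2']
  exact ⟨(h.z_comm x).symm, (h.z_comm y).symm⟩

theorem ES.comm_eq_z (h : ES E z) {x y : E} (hxy : ⁅x, y⁆ ≠ 1) : ⁅x, y⁆ = z := by
  rcases h.comm x y with h1 | h1
  · exact absurd h1 hxy
  · exact h1

/-- coset representatives of the common centraliser -/
theorem ES.exists_rep (h : ES E z) {x y : E} (hxy : ⁅x, y⁆ ≠ 1) (g : E) :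
    ∃ r : E, (r = 1 ∨ r = x ∨ r = y ∨ r = x * y) ∧ r⁻¹ * g ∈ cent2 x y := by
  have hxyz : ⁅x, y⁆ = z := h.comm_eq_z hxy
  have hyxz : ⁅y, x⁆ = z := by rw [← h.comm_symm x y]; exact hxyz
  have hxx : ⁅x, x⁆ = 1 := commutatorElement_self x
  have hyy : ⁅y, y⁆ = 1 := commutatorElement_self y
  have hzz := h.z_mul_z
  rcases h.comm g x with h1 | h1 <;> rcases h.comm g y with h2 | h2
  · refine ⟨1, Or.inl rfl, ?_⟩
    rw [inv_one, one_mul, mem_cent2]
    exact ⟨h1, h2⟩
  · refine ⟨x, Or.inr (Or.inl rfl), ?_⟩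
    rw [mem_cent2, h.comm_mul_left, h.comm_mul_left, h.comm_inv_left, h.comm_inv_left, hxx, hxyz,
      h1, h2]
    exact ⟨by rw [mul_one], hzz⟩
  · refine ⟨y, Or.inr (Or.inr (Or.inl rfl)), ?_⟩
    rw [mem_cent2, h.comm_mul_left, h.comm_mul_left, h.comm_inv_left, h.comm_inv_left, hyy, hyxz,
      h1, h2]
    exact ⟨hzz, by rw [mul_one]⟩
  · refine ⟨x * y, Or.inr (Or.inr (Or.inr rfl)), ?_⟩
    rw [mem_cent2, h.comm_mul_left, h.comm_mul_left, h.comm_inv_left, h.comm_inv_left,
      h.comm_mul_left, h.comm_mul_left, hxx, hyy, hxyz, hyxz, h1, h2]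
    exact ⟨by rw [one_mul]; exact hzz, by rw [mul_one]; exact hzz⟩

theorem ES.card_split [Finite E] (h : ES E z) {x y : E} (hxy : ⁅x, y⁆ ≠ 1) :
    Nat.card E = 4 * Nat.card (cent2 x y) := by
  haveI : Fact (Nat.Prime 2) := ⟨Nat.prime_two⟩
  have hyx : ⁅y, x⁆ ≠ 1 := by rw [← h.comm_symm x y]; exact hxy
  have h1 := card_eq_mul_card_centralizer (p := 2) h.card_center (fun g t => h.comm_mem_center g t)
    (⊤ : Subgroup E) x y (Subgroup.mem_top y) hyx
  have h2 := card_eq_mul_card_centralizer (p := 2) h.card_center (fun g t => h.comm_mem_center g t)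
    (Subgroup.centralizer {x}) y x (by
      rw [Subgroup.mem_centralizer_iff]
      intro w hw
      rw [Set.mem_singleton_iff] at hw
      rw [hw]) hxy
  rw [Subgroup.card_top, top_inf_eq] at h1
  rw [h1, h2]
  unfold cent2
  ring

theorem ES.closure_comm_cent2 {x y : E} :
    ∀ a ∈ Subgroup.closure ({x, y} : Set E), ∀ b ∈ cent2 x y, a * b = b * a := by
  intro a ha b hb
  have h1 : Subgroup.closure ({x, y} : Set E) ≤ Subgroup.centralizer ({b} : Set E) := by
    rw [Subgroup.closure_le]
    intro w hw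
    rw [mem_cent2'] at hb
    rw [SetLike.mem_coe, Subgroup.mem_centralizer_iff]
    intro v hv
    rw [Set.mem_singleton_iff] at hv
    rw [hv]
    rcases hw with hw | hw
    · rw [hw]; exact hb.1
    · rw [Set.mem_singleton_iff] at hw
      rw [hw]; exact hb.2
  have h2 := h1 ha
  rw [Subgroup.mem_centralizer_iff] at h2
  exact (h2 b rfl).symm

theorem ES.closure_sup_cent2 (h : ES E z) {x y : E} (hxy : ⁅x, y⁆ ≠ 1) :
    Subgroup.closure ({x, y} : Set E) ⊔ cent2 x y = ⊤ := by
  rw [eq_top_iff]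
  intro g _
  obtain ⟨r, hr, hrg⟩ := h.exists_rep hxy g
  have hxm : x ∈ Subgroup.closure ({x, y} : Set E) := Subgroup.subset_closure (by simp)
  have hym : y ∈ Subgroup.closure ({x, y} : Set E) := Subgroup.subset_closure (by simp)
  have hrm : r ∈ Subgroup.closure ({x, y} : Set E) := by
    rcases hr with rfl | rfl | rfl | rfl
    · exact Subgroup.one_mem _
    · exact hxm
    · exact hym
    · exact Subgroup.mul_mem _ hxm hym
  have : g = r * (r⁻¹ * g) := by group
  rw [this]
  exact Subgroup.mul_mem _ (Subgroup.mem_sup_left hrm) (Subgroup.mem_sup_right hrg)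

theorem ES.central_of_mem_inf (h : ES E z) {x y : E} (hxy : ⁅x, y⁆ ≠ 1) (g : E)
    (hg1 : ∀ a ∈ Subgroup.closure ({x, y} : Set E), a * g = g * a)
    (hg2 : ∀ b ∈ cent2 x y, b * g = g * b) : g = 1 ∨ g = z := by
  apply h.cen
  rw [Subgroup.mem_center_iff]
  intro w
  have hw : w ∈ Subgroup.closure ({x, y} : Set E) ⊔ cent2 x y := by
    rw [h.closure_sup_cent2 hxy]; exact Subgroup.mem_top w
  have hle : Subgroup.closure ({x, y} : Set E) ⊔ cent2 x y ≤ Subgroup.centralizer ({g} : Set E) := by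
    rw [sup_le_iff]
    constructor
    · intro a ha
      rw [Subgroup.mem_centralizer_iff]
      intro v hv
      rw [Set.mem_singleton_iff] at hv
      rw [hv]; exact (hg1 a ha).symm
    · intro b hb
      rw [Subgroup.mem_centralizer_iff]
      intro v hv
      rw [Set.mem_singleton_iff] at hv
      rw [hv]; exact (hg2 b hb).symm
  have := hle hw
  rw [Subgroup.mem_centralizer_iff] at this
  exact (this g rfl).symm

theorem ES.inf_eq (h : ES E z) {x y : E} (hxy : ⁅x, y⁆ ≠ 1) (g : E)
    (hg1 : g ∈ Subgroup.closure ({x, y} : Set E)) (hg2 : g ∈ cent2 x y) : g = 1 ∨ g = z := by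
  apply h.central_of_mem_inf hxy g
  · intro a ha
    exact ES.closure_comm_cent2 a ha g hg2
  · intro b hb
    exact (ES.closure_comm_cent2 g hg1 b hb).symm

theorem ES.z_mem_closure (h : ES E z) {x y : E} (hxy : ⁅x, y⁆ ≠ 1) :
    z ∈ Subgroup.closure ({x, y} : Set E) := by
  rw [← h.comm_eq_z hxy, commutatorElement_def]
  have hxm : x ∈ Subgroup.closure ({x, y} : Set E) := Subgroup.subset_closure (by simp)
  have hym : y ∈ Subgroup.closure ({x, y} : Set E) := Subgroup.subset_closure (by simp)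
  exact Subgroup.mul_mem _ (Subgroup.mul_mem _ (Subgroup.mul_mem _ hxm hym) (Subgroup.inv_mem _ hxm))
    (Subgroup.inv_mem _ hym)

/-- the common centraliser is again of the same kind -/
theorem ES.cent2_ES (h : ES E z) {x y : E} (hxy : ⁅x, y⁆ ≠ 1) :
    ES (cent2 x y) ⟨z, h.z_mem_cent2 x y⟩ where
  z_ne := by
    intro h1
    exact h.z_ne (congrArg Subtype.val h1)
  z_mem := by
    rw [Subgroup.mem_center_iff]
    intro g
    apply Subtype.ext
    exact h.z_comm g
  comm := by
    intro a b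
    rcases h.comm a b with h1 | h1
    · left
      apply Subtype.ext
      exact h1
    · right
      apply Subtype.ext
      exact h1
  sq := by
    intro a
    rcases h.sq a with h1 | h1
    · left
      apply Subtype.ext
      exact h1
    · right
      apply Subtype.ext
      exact h1
  cen := by
    intro w hw
    have h1 : (w : E) = 1 ∨ (w : E) = z := by
      apply h.central_of_mem_inf hxy
      · intro a ha
        exact ES.closure_comm_cent2 a ha w w.2
      · intro b hb
        have := Subgroup.mem_center_iff.mp hw ⟨b, hb⟩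
        exact congrArg Subtype.val this
    rcases h1 with h1 | h1
    · left; exact Subtype.ext h1
    · right; exact Subtype.ext h1

end split

section dihedral

variable {E : Type u} [Group E] {z : E}

theorem ES.orderOf_mul (h : ES E z) {x y : E} (hx : x ^ 2 = 1) (hy : y ^ 2 = 1) (hxy : ⁅x, y⁆ ≠ 1) :
    orderOf (x * y) = 4 := by
  have hyx : ⁅y, x⁆ = z := by rw [← h.comm_symm x y]; exact h.comm_eq_z hxy
  have h2 : (x * y) ^ 2 = z := by rw [h.mul_sq, hx, hy, hyx]; simp
  have h4 : (x * y) ^ 2 ^ (1 + 1) = 1 := by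
    show (x * y) ^ (2 ^ 2) = 1
    rw [show (2 : ℕ) ^ 2 = 2 * 2 from rfl, pow_mul, h2]
    exact h.z_sq
  have := orderOf_eq_prime_pow (p := 2) (n := 1) (x := x * y) (by rw [pow_one, h2]; exact h.z_ne) h4
  simpa using this

theorem ES.closure_dihedral (h : ES E z) {x y : E} (hx : x ^ 2 = 1) (hy : y ^ 2 = 1)
    (hxy : ⁅x, y⁆ ≠ 1) :
    Nonempty (↥(Subgroup.closure ({x, y} : Set E)) ≃* DihedralGroup 4) := by
  have hx1 : x ≠ 1 := by
    intro h1
    apply hxy
    rw [h1, commutatorElement_one_left]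
  have hy1 : y ≠ 1 := by
    intro h1
    apply hxy
    rw [h1, commutatorElement_one_right]
  have hox : orderOf x = 2 := orderOf_eq_prime hx hx1
  have hoy : orderOf y = 2 := orderOf_eq_prime hy hy1
  have h4 := h.orderOf_mul hx hy hxy
  have := Cfsg.Agent.Lib.Helper1.DihedralIso.closure_equiv_dihedral x y hox hoy (by rw [h4]; norm_num)
  rw [h4] at this
  exact this

end dihedral

end Cfsg.Agent.Lib.Lead.Extra
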