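import Mathlib
import Cfsg.Agent.Lib.Lead.Extra3

set_option autoImplicit false

namespace Cfsg.Agent.Lib.Lead.Extra

open scoped commutatorElement
open Cfsg.Agent.Lib.Lead

universe u v

/-- the number of solutions of `x ^ 2 = 1` -/
noncomputable def inv2 (E : Type u) [Group E] : ℕ := Nat.card {x : E // x ^ 2 = 1}

section count

variable {E : Type u} [Group E] [Finite E] {z : E}

/-- elements of the common centraliser with square `z` -/
theorem ES.card_sq_z (h : ES E z) :
    Nat.card {c : E // c ^ 2 = z} + inv2 E = Nat.card E := by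
  classical
  letI : Fintype E := Fintype.ofFinite E
  unfold inv2
  have h1 : Nat.card {c : E // c ^ 2 = z} = Nat.card {c : E // ¬ c ^ 2 = 1} := by
    apply Nat.card_congr
    apply Equiv.subtypeEquivRight
    intro c
    constructor
    · intro h1 h2
      rw [h1] at h2
      exact h.z_ne h2
    · intro h1
      rcases h.sq c with h2 | h2
      · exact absurd h2 h1
      · exact h2
  rw [h1, Nat.card_eq_fintype_card, Nat.card_eq_fintype_card, Nat.card_eq_fintype_card,
    Fintype.card_subtype_compl]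
  have := Fintype.card_subtype_le (fun c : E => c ^ 2 = 1)
  omega

theorem ES.inv2_split (h : ES E z) {x y : E} (hx : x ^ 2 = 1) (hy : y ^ 2 = 1) (hxy : ⁅x, y⁆ ≠ 1) :
    inv2 E = 2 * inv2 (cent2 x y) + Nat.card (cent2 x y) := by
  classical
  have hES := h.cent2_ES hxy
  let r : Fin 4 → E := ![1, x, y, x * y]
  let Φ : Fin 4 × (cent2 x y) → E := fun p => r p.1 * (p.2 : E)
  have hsurj : Function.Surjective Φ := by
    intro g
    obtain ⟨r', hr', hrg⟩ := h.exists_rep hxy g
    rcases hr' with rfl | rfl | rfl | rfl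
    · exact ⟨(0, ⟨_, hrg⟩), by simp [Φ, r]⟩
    · exact ⟨(1, ⟨_, hrg⟩), by simp [Φ, r]⟩
    · exact ⟨(2, ⟨_, hrg⟩), by simp [Φ, r]⟩
    · refine ⟨(3, ⟨_, hrg⟩), ?_⟩
      show x * y * ((x * y)⁻¹ * g) = g
      group
  letI : Fintype E := Fintype.ofFinite E
  letI : Fintype (cent2 x y) := Fintype.ofFinite (cent2 x y)
  have hbij : Function.Bijective Φ := by
    rw [Fintype.bijective_iff_surjective_and_card]
    refine ⟨hsurj, ?_⟩
    rw [Fintype.card_prod, Fintype.card_fin, ← Nat.card_eq_fintype_card, ← Nat.card_eq_fintype_card,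
      h.card_split hxy]
  let e : Fin 4 × (cent2 x y) ≃ E := Equiv.ofBijective Φ hbij
  have h1 : inv2 E = Nat.card {p : Fin 4 × (cent2 x y) // (r p.1 * (p.2 : E)) ^ 2 = 1} := by
    unfold inv2
    apply Nat.card_congr
    exact (Equiv.subtypeEquiv e (fun p => Iff.rfl)).symm
  have h2 : Nat.card {p : Fin 4 × (cent2 x y) // (r p.1 * (p.2 : E)) ^ 2 = 1} =
      ∑ i : Fin 4, Nat.card {c : (cent2 x y) // (r i * (c : E)) ^ 2 = 1} := by
    rw [← Nat.card_sigma]
    apply Nat.card_congr
    exact Equiv.subtypeProdEquivSigmaSubtype (fun (i : Fin 4) (c : (cent2 x y)) => (r i * (c : E)) ^ 2 = 1)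
  -- commutation
  have hcomm : ∀ i : Fin 4, ∀ c : (cent2 x y), r i * (c : E) = (c : E) * r i := by
    intro i c
    have hc := mem_cent2'.mp c.2
    fin_cases i
    · simp [r]
    · simp only [r]; exact hc.1.symm
    · simp only [r]; exact hc.2.symm
    · show x * y * (c : E) = (c : E) * (x * y)
      rw [mul_assoc, ← hc.2, ← mul_assoc, ← hc.1, mul_assoc]
  have hsq : ∀ i : Fin 4, ∀ c : (cent2 x y), (r i * (c : E)) ^ 2 = r i ^ 2 * (c : E) ^ 2 := by
    intro i c
    exact ES.mul_sq_of_comm _ _ (hcomm i c)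
  have hyx : ⁅y, x⁆ = z := by rw [← h.comm_symm x y]; exact h.comm_eq_z hxy
  have hxy2 : (x * y) ^ 2 = z := by rw [h.mul_sq, hx, hy, hyx]; simp
  have hA : ∀ i : Fin 4, r i ^ 2 = 1 →
      Nat.card {c : (cent2 x y) // (r i * (c : E)) ^ 2 = 1} = inv2 (cent2 x y) := by
    intro i hi
    unfold inv2
    apply Nat.card_congr
    apply Equiv.subtypeEquivRight
    intro c
    rw [hsq, hi, one_mul]
    constructor
    · intro h1
      apply Subtype.ext
      exact h1
    · intro h1
      exact congrArg Subtype.val h1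
  have hB : Nat.card {c : (cent2 x y) // (r 3 * (c : E)) ^ 2 = 1} + inv2 (cent2 x y) = Nat.card (cent2 x y) := by
    rw [← hES.card_sq_z]
    congr 1
    apply Nat.card_congr
    apply Equiv.subtypeEquivRight
    intro c
    rw [hsq]
    have hr3 : r 3 ^ 2 = z := hxy2
    rw [hr3]
    constructor
    · intro h1
      apply Subtype.ext
      show (c : E) ^ 2 = z
      have : (c : E) ^ 2 = z⁻¹ := eq_inv_of_mul_eq_one_right h1
      rw [this, h.z_inv]
    · intro h1
      have : (c : E) ^ 2 = z := congrArg Subtype.val h1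
      rw [this]
      exact h.z_mul_z
  rw [h1, h2, Fin.sum_univ_four, hA 0 (by simp [r]), hA 1 (by simp [r, hx]), hA 2 (by simp [r, hy])]
  have hle : inv2 (cent2 x y) ≤ Nat.card (cent2 x y) := by
    rw [← hB]; omega
  omega

end count

end Cfsg.Agent.Lib.Lead.Extra
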