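import Mathlib
import Cfsg.Agent.Lib.Lead.Extra4
import Cfsg.Agent.Lib.Lead.QuatRecog

set_option autoImplicit false

namespace Cfsg.Agent.Lib.Lead.Extra

open scoped commutatorElement
open Cfsg.Agent.Lib.Lead

universe u v

section cases

variable {E : Type u} [Group E] {z : E}

/-- the abelian case: order 2 -/
theorem ES.card_of_abelian [Finite E] (h : ES E z) (hab : ¬ ∃ a b : E, ⁅a, b⁆ ≠ 1) :
    Nat.card E = 2 := by
  push Not at hab
  rw [Nat.card_eq_two_iff]
  refine ⟨1, z, fun h1 => h.z_ne h1.symm, ?_⟩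
  ext w
  simp only [Set.mem_insert_iff, Set.mem_singleton_iff, Set.mem_univ, iff_true]
  apply h.cen
  rw [Subgroup.mem_center_iff]
  intro g
  exact commutatorElement_eq_one_iff_mul_comm.mp (hab g w)

/-- a noncentral involution has a noncommuting involution partner -/
theorem ES.exists_partner (h : ES E z) {t : E} (ht : t ^ 2 = 1) (ht1 : t ≠ 1) (htz : t ≠ z) :
    ∃ y : E, y ^ 2 = 1 ∧ ⁅t, y⁆ ≠ 1 := by
  have h1 : ∃ g : E, ⁅t, g⁆ ≠ 1 := by
    by_contra hcon
    push Not at hcon
    have : t ∈ Subgroup.center E := by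
      rw [Subgroup.mem_center_iff]
      intro g
      exact (commutatorElement_eq_one_iff_mul_comm.mp (hcon g)).symm
    rcases h.cen t this with h2 | h2
    · exact ht1 h2
    · exact htz h2
  obtain ⟨g, hg⟩ := h1
  rcases h.sq g with h2 | h2
  · exact ⟨g, h2, hg⟩
  · have hgt : ⁅g, t⁆ = z := by rw [← h.comm_symm t g]; exact h.comm_eq_z hg
    refine ⟨t * g, ?_, ?_⟩
    · rw [h.mul_sq, ht, h2, hgt, one_mul]
      exact h.z_mul_z
    · rw [h.comm_symm, h.comm_mul_left, commutatorElement_self, one_mul, hgt]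
      exact h.z_ne

/-- if the common centraliser of a noncommuting pair is larger than the centre, there is a
noncentral involution -/
theorem ES.exists_invol_of_big [Finite E] (h : ES E z) {a b : E} (hab : ⁅a, b⁆ ≠ 1)
    (hbig : 2 < Nat.card (cent2 a b)) : ∃ t : E, t ^ 2 = 1 ∧ t ≠ 1 ∧ t ≠ z := by
  classical
  letI : Fintype (cent2 a b) := Fintype.ofFinite _
  rw [Nat.card_eq_fintype_card, Fintype.two_lt_card_iff] at hbig
  obtain ⟨c₁, c₂, c₃, h12, h13, h23⟩ := hbig
  -- an element of the centraliser other than 1, z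
  have hex : ∃ c : E, c ∈ cent2 a b ∧ c ≠ 1 ∧ c ≠ z := by
    by_contra hcon
    push Not at hcon
    have hv : ∀ c : cent2 a b, (c : E) = 1 ∨ (c : E) = z := by
      intro c
      by_cases h1 : (c : E) = 1
      · exact Or.inl h1
      · exact Or.inr (hcon c c.2 h1)
    rcases hv c₁ with e1 | e1 <;> rcases hv c₂ with e2 | e2 <;> rcases hv c₃ with e3 | e3
    · exact h12 (Subtype.ext (e1.trans e2.symm))
    · exact h12 (Subtype.ext (e1.trans e2.symm))
    · exact h13 (Subtype.ext (e1.trans e3.symm))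
    · exact h23 (Subtype.ext (e2.trans e3.symm))
    · exact h23 (Subtype.ext (e2.trans e3.symm))
    · exact h13 (Subtype.ext (e1.trans e3.symm))
    · exact h12 (Subtype.ext (e1.trans e2.symm))
    · exact h12 (Subtype.ext (e1.trans e2.symm))
  obtain ⟨c, hc, hc1, hcz⟩ := hex
  have ha1 : a ≠ 1 := by
    intro h1
    apply hab
    rw [h1, commutatorElement_one_left]
  have haz : a ≠ z := by
    intro h1
    apply hab
    rw [h1, commutatorElement_eq_one_iff_mul_comm]
    exact (h.z_comm b).symm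
  rcases h.sq c with h2 | h2
  · exact ⟨c, h2, hc1, hcz⟩
  rcases h.sq a with h3 | h3
  · exact ⟨a, h3, ha1, haz⟩
  have hca := (mem_cent2'.mp hc).1
  refine ⟨a * c, ?_, ?_, ?_⟩
  · rw [ES.mul_sq_of_comm a c hca.symm, h2, h3]
    exact h.z_mul_z
  · intro h4
    -- a = c⁻¹ ∈ centraliser
    have h5 : a = c⁻¹ := eq_inv_of_mul_eq_one_left h4
    have ha : a ∈ cent2 a b := by
      have := (cent2 a b).inv_mem hc
      rwa [← h5] at this
    exact hab (mem_cent2.mp ha).2
  · intro h4
    have h5 : a = z * c⁻¹ := by rw [← h4]; group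
    have ha : a ∈ cent2 a b := by
      have := (cent2 a b).mul_mem (h.z_mem_cent2 a b) ((cent2 a b).inv_mem hc)
      rwa [← h5] at this
    exact hab (mem_cent2.mp ha).2

/-- without noncentral involutions, a nonabelian group of our kind is the quaternion group -/
theorem ES.quaternion_case [Finite E] (h : ES E z) {a b : E} (hab : ⁅a, b⁆ ≠ 1)
    (hno : ¬ ∃ t : E, t ^ 2 = 1 ∧ t ≠ 1 ∧ t ≠ z) :
    Nat.card E = 8 ∧ Nonempty (E ≃* QuaternionGroup 2) := by
  have hC : Nat.card (cent2 a b) = 2 := by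
    have h1 : ¬ 2 < Nat.card (cent2 a b) := fun hbig => hno (h.exists_invol_of_big hab hbig)
    have h2 : 2 ≤ Nat.card (cent2 a b) := by
      have hES := h.cent2_ES hab
      have := hES.card_center
      rw [← this]
      exact Subgroup.card_le_card_group _
    omega
  have hcard : Nat.card E = 8 := by rw [h.card_split hab, hC]
  refine ⟨hcard, ?_⟩
  have ha1 : a ≠ 1 := by
    intro h1
    apply hab
    rw [h1, commutatorElement_one_left]
  have haz : a ≠ z := by
    intro h1
    apply hab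
    rw [h1, commutatorElement_eq_one_iff_mul_comm]
    exact (h.z_comm b).symm
  have hb1 : b ≠ 1 := by
    intro h1
    apply hab
    rw [h1, commutatorElement_one_right]
  have hbz : b ≠ z := by
    intro h1
    apply hab
    rw [h1, commutatorElement_eq_one_iff_mul_comm]
    exact h.z_comm a
  have ha2 : a ^ 2 = z := by
    rcases h.sq a with h1 | h1
    · exact absurd ⟨a, h1, ha1, haz⟩ hno
    · exact h1
  have hb2 : b ^ 2 = z := by
    rcases h.sq b with h1 | h1
    · exact absurd ⟨b, h1, hb1, hbz⟩ hno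
    · exact h1
  have ha4 : orderOf a = 2 * 2 := by
    have h4 : a ^ 2 ^ (1 + 1) = 1 := by
      show a ^ (2 ^ 2) = 1
      rw [show (2 : ℕ) ^ 2 = 2 * 2 from rfl, pow_mul, ha2]
      exact h.z_sq
    have := orderOf_eq_prime_pow (p := 2) (n := 1) (x := a) (by rw [pow_one, ha2]; exact h.z_ne) h4
    simpa using this
  have : NeZero (2 : ℕ) := ⟨by norm_num⟩
  apply quaternion_recognition 2 a b ha4
  · rw [hb2, ha2]
  · have hba : ⁅b, a⁆ = z := by rw [← h.comm_symm a b]; exact h.comm_eq_z hab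
    have h1 : b * a * b⁻¹ = ⁅b, a⁆ * a := by rw [commutatorElement_def]; group
    rw [h1, hba]
    have h2 : a * (z * a) = 1 := by
      rw [← mul_assoc, h.z_comm a, mul_assoc, ← pow_two, ha2]
      exact h.z_mul_z
    exact (inv_eq_of_mul_eq_one_right h2).symm
  · intro hmem
    obtain ⟨k, hk⟩ := Subgroup.mem_zpowers_iff.mp hmem
    apply hab
    rw [commutatorElement_eq_one_iff_mul_comm, ← hk]
    exact (Commute.self_zpow a k)
  · rw [hcard]

theorem ES.inv2_eq_two [Finite E] (h : ES E z) (hno : ¬ ∃ t : E, t ^ 2 = 1 ∧ t ≠ 1 ∧ t ≠ z) :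
    inv2 E = 2 := by
  push Not at hno
  unfold inv2
  rw [Nat.card_eq_two_iff]
  refine ⟨⟨1, one_pow 2⟩, ⟨z, h.z_sq⟩, ?_, ?_⟩
  · intro h1
    exact h.z_ne (congrArg Subtype.val h1).symm
  · ext w
    simp only [Set.mem_insert_iff, Set.mem_singleton_iff, Set.mem_univ, iff_true]
    by_cases h1 : (w : E) = 1
    · left; exact Subtype.ext h1
    · right; exact Subtype.ext (hno w w.2 h1)

theorem ES.two_lt_inv2 [Finite E] (h : ES E z) {t : E} (ht : t ^ 2 = 1) (ht1 : t ≠ 1) (htz : t ≠ z) :
    2 < inv2 E := by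
  classical
  unfold inv2
  letI : Fintype {x : E // x ^ 2 = 1} := Fintype.ofFinite _
  rw [Nat.card_eq_fintype_card, Fintype.two_lt_card_iff]
  refine ⟨⟨1, one_pow 2⟩, ⟨z, h.z_sq⟩, ⟨t, ht⟩, ?_, ?_, ?_⟩
  · intro h1
    exact h.z_ne (congrArg Subtype.val h1).symm
  · intro h1
    exact ht1 (congrArg Subtype.val h1).symm
  · intro h1
    exact htz (congrArg Subtype.val h1).symm

end cases

end Cfsg.Agent.Lib.Lead.Extra
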