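import Mathlib
import Cfsg.Agent.Lib.Lead.Extra5

set_option autoImplicit false

namespace Cfsg.Agent.Lib.Lead.Extra

open scoped commutatorElement
open Cfsg.Agent.Lib.Lead

universe u v

/-- Gluing step: two groups of our kind, each split by a pair of noncommuting involutions, with
isomorphic centralisers, are isomorphic. -/
theorem ES.glue_step {E : Type u} {E' : Type v} [Group E] [Group E'] {z : E} {z' : E'}
    (h : ES E z) (h' : ES E' z') {x y : E} {x' y' : E'}
    (hx : x ^ 2 = 1) (hy : y ^ 2 = 1) (hxy : ⁅x, y⁆ ≠ 1)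
    (hx' : x' ^ 2 = 1) (hy' : y' ^ 2 = 1) (hxy' : ⁅x', y'⁆ ≠ 1)
    (f₁ : cent2 x y ≃* cent2 x' y') : Nonempty (E ≃* E') := by
  obtain ⟨d⟩ := h.closure_dihedral hx hy hxy
  obtain ⟨d'⟩ := h'.closure_dihedral hx' hy' hxy'
  let f₀ : Subgroup.closure ({x, y} : Set E) ≃* Subgroup.closure ({x', y'} : Set E') :=
    d.trans d'.symm
  have hzH : z ∈ Subgroup.closure ({x, y} : Set E) := h.z_mem_closure hxy
  have hzC : z ∈ cent2 x y := h.z_mem_cent2 x y
  have hzH' : z' ∈ Subgroup.closure ({x', y'} : Set E') := h'.z_mem_closure hxy'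
  have hzC' : z' ∈ cent2 x' y' := h'.z_mem_cent2 x' y'
  have hxm' : x' ∈ Subgroup.closure ({x', y'} : Set E') := Subgroup.subset_closure (by simp)
  have hym' : y' ∈ Subgroup.closure ({x', y'} : Set E') := Subgroup.subset_closure (by simp)
  -- f₀ z = z'
  have hf0z : (f₀ ⟨z, hzH⟩ : E') = z' := by
    have hcen : ∀ b : Subgroup.closure ({x', y'} : Set E'), b * f₀ ⟨z, hzH⟩ = f₀ ⟨z, hzH⟩ * b := by
      intro b
      obtain ⟨a, rfl⟩ := f₀.surjective b
      rw [← map_mul, ← map_mul]
      congr 1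
      apply Subtype.ext
      exact h.z_comm a
    have hmem : (f₀ ⟨z, hzH⟩ : E') ∈ cent2 x' y' := by
      rw [mem_cent2']
      constructor
      · have := hcen ⟨x', hxm'⟩
        exact (congrArg Subtype.val this).symm
      · have := hcen ⟨y', hym'⟩
        exact (congrArg Subtype.val this).symm
    rcases h'.inf_eq hxy' _ (f₀ ⟨z, hzH⟩).2 hmem with h1 | h1
    · exfalso
      have h2 : f₀ ⟨z, hzH⟩ = 1 := Subtype.ext h1
      have h3 : (⟨z, hzH⟩ : Subgroup.closure ({x, y} : Set E)) = 1 := by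
        apply f₀.injective
        rw [h2, map_one]
      exact h.z_ne (congrArg Subtype.val h3)
    · exact h1
  -- f₁ z = z'
  have hES' := h'.cent2_ES hxy'
  have hf1z : (f₁ ⟨z, hzC⟩ : E') = z' := by
    have hcen : f₁ ⟨z, hzC⟩ ∈ Subgroup.center (cent2 x' y') := by
      rw [Subgroup.mem_center_iff]
      intro b
      obtain ⟨a, rfl⟩ := f₁.surjective b
      rw [← map_mul, ← map_mul]
      congr 1
      apply Subtype.ext
      exact h.z_comm a
    rcases hES'.cen _ hcen with h1 | h1
    · exfalso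
      have h3 : (⟨z, hzC⟩ : cent2 x y) = 1 := by
        apply f₁.injective
        rw [h1, map_one]
      exact h.z_ne (congrArg Subtype.val h3)
    · exact congrArg Subtype.val h1
  apply glue (Subgroup.closure ({x, y} : Set E)) (cent2 x y)
    (Subgroup.closure ({x', y'} : Set E')) (cent2 x' y')
    (fun a ha b hb => ES.closure_comm_cent2 a ha b hb)
    (fun a ha b hb => ES.closure_comm_cent2 a ha b hb)
    (h.closure_sup_cent2 hxy) (h'.closure_sup_cent2 hxy') f₀ f₁
  · intro a ha hb
    rcases h.inf_eq hxy a ha hb with h1 | h1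
    · subst h1
      have e1 : (⟨1, ha⟩ : Subgroup.closure ({x, y} : Set E)) = 1 := rfl
      have e2 : (⟨1, hb⟩ : cent2 x y) = 1 := rfl
      rw [e1, e2, map_one, map_one]
      rfl
    · subst h1
      rw [hf0z, hf1z]
  · intro a ha
    rcases h'.inf_eq hxy' _ (f₀ a).2 ha with h1 | h1
    · have h2 : f₀ a = 1 := Subtype.ext h1
      have h3 : a = 1 := by
        apply f₀.injective
        rw [h2, map_one]
      rw [h3]
      exact (cent2 x y).one_mem
    · have h2 : f₀ a = f₀ ⟨z, hzH⟩ := Subtype.ext (h1.trans hf0z.symm)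
      have h3 : a = ⟨z, hzH⟩ := f₀.injective h2
      rw [h3]
      exact hzC

/-- Classification: order and the number of solutions of `x ^ 2 = 1` determine the group. -/
theorem classify : ∀ (m : ℕ) (E : Type u) (E' : Type v) [Group E] [Group E'] [Finite E] [Finite E']
    (z : E) (z' : E'), ES E z → ES E' z' → Nat.card E ≤ m → Nat.card E = Nat.card E' →
    inv2 E = inv2 E' → Nonempty (E ≃* E') := by
  intro m
  induction m with
  | zero =>
    intro E E' _ _ _ _ z z' h h' hm
    exfalso
    have : 0 < Nat.card E := Nat.card_pos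
    omega
  | succ m ih =>
    intro E E' _ _ _ _ z z' h h' hm hcard hinv
    by_cases hab : ∃ a b : E, ⁅a, b⁆ ≠ 1
    · obtain ⟨a, b, hab⟩ := hab
      by_cases hinvol : ∃ t : E, t ^ 2 = 1 ∧ t ≠ 1 ∧ t ≠ z
      · -- the generic case
        obtain ⟨t, ht, ht1, htz⟩ := hinvol
        obtain ⟨y, hy, hty⟩ := h.exists_partner ht ht1 htz
        have h3 : 2 < inv2 E' := by rw [← hinv]; exact h.two_lt_inv2 ht ht1 htz
        have hinvol' : ∃ t' : E', t' ^ 2 = 1 ∧ t' ≠ 1 ∧ t' ≠ z' := by
          by_contra hno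
          rw [h'.inv2_eq_two hno] at h3
          exact lt_irrefl _ h3
        obtain ⟨t', ht', ht1', htz'⟩ := hinvol'
        obtain ⟨y', hy', hty'⟩ := h'.exists_partner ht' ht1' htz'
        have hc := h.card_split hty
        have hc' := h'.card_split hty'
        have hi := h.inv2_split ht hy hty
        have hi' := h'.inv2_split ht' hy' hty'
        have hcC : Nat.card (cent2 t y) = Nat.card (cent2 t' y') := by omega
        have hiC : inv2 (cent2 t y) = inv2 (cent2 t' y') := by omega
        have hpos : 0 < Nat.card (cent2 t y) := Nat.card_pos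
        obtain ⟨f₁⟩ := ih (cent2 t y) (cent2 t' y') _ _ (h.cent2_ES hty) (h'.cent2_ES hty')
          (by omega) hcC hiC
        exact h.glue_step h' ht hy hty ht' hy' hty' f₁
      · -- the quaternion case
        obtain ⟨h8, ⟨q⟩⟩ := h.quaternion_case hab hinvol
        have h2 := h.inv2_eq_two hinvol
        have hab' : ∃ a' b' : E', ⁅a', b'⁆ ≠ 1 := by
          by_contra hno
          have := h'.card_of_abelian hno
          omega
        obtain ⟨a', b', hab'⟩ := hab'
        have hinvol' : ¬ ∃ t' : E', t' ^ 2 = 1 ∧ t' ≠ 1 ∧ t' ≠ z' := by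
          rintro ⟨t', ht', ht1', htz'⟩
          have := h'.two_lt_inv2 ht' ht1' htz'
          omega
        obtain ⟨-, ⟨q'⟩⟩ := h'.quaternion_case hab' hinvol'
        exact ⟨q.trans q'.symm⟩
    · -- the abelian case
      have h2 := h.card_of_abelian hab
      haveI : Fact (Nat.Prime 2) := ⟨Nat.prime_two⟩
      exact ⟨mulEquivOfPrimeCardEq (p := 2) h2 (by omega)⟩

/-- The possible values of the invariant. -/
theorem types : ∀ (m : ℕ) (E : Type u) [Group E] [Finite E] (z : E), ES E z → Nat.card E ≤ m →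
    ∃ n : ℕ, Nat.card E = 2 ^ (2 * n + 1) ∧
      (inv2 E = 2 ^ (2 * n) + 2 ^ n ∨ (1 ≤ n ∧ inv2 E = 2 ^ (2 * n) - 2 ^ n)) := by
  intro m
  induction m with
  | zero =>
    intro E _ _ z h hm
    exfalso
    have : 0 < Nat.card E := Nat.card_pos
    omega
  | succ m ih =>
    intro E _ _ z h hm
    by_cases hab : ∃ a b : E, ⁅a, b⁆ ≠ 1
    · obtain ⟨a, b, hab⟩ := hab
      by_cases hinvol : ∃ t : E, t ^ 2 = 1 ∧ t ≠ 1 ∧ t ≠ z
      · obtain ⟨t, ht, ht1, htz⟩ := hinvol
        obtain ⟨y, hy, hty⟩ := h.exists_partner ht ht1 htz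
        have hc := h.card_split hty
        have hi := h.inv2_split ht hy hty
        have hpos : 0 < Nat.card (cent2 t y) := Nat.card_pos
        obtain ⟨n, hn, hn2⟩ := ih (cent2 t y) _ (h.cent2_ES hty) (by omega)
        refine ⟨n + 1, ?_, ?_⟩
        · rw [hc, hn]
          ring
        · have e1 : (2 : ℕ) ^ (2 * (n + 1)) = 4 * 2 ^ (2 * n) := by ring
          have e2 : (2 : ℕ) ^ (n + 1) = 2 * 2 ^ n := by ring
          have e3 : (2 : ℕ) ^ (2 * n + 1) = 2 * 2 ^ (2 * n) := by ring
          have e4 : (2 : ℕ) ^ n ≤ 2 ^ (2 * n) := Nat.pow_le_pow_right (by norm_num) (by omega)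
          rcases hn2 with hn2 | ⟨hn1, hn2⟩
          · left
            rw [hi, hn, hn2, e1, e2, e3]
            ring
          · right
            refine ⟨by omega, ?_⟩
            rw [hi, hn, hn2, e1, e2, e3]
            omega
      · obtain ⟨h8, -⟩ := h.quaternion_case hab hinvol
        have h2 := h.inv2_eq_two hinvol
        refine ⟨1, by rw [h8]; norm_num, Or.inr ⟨le_rfl, by rw [h2]; norm_num⟩⟩
    · have h2 := h.card_of_abelian hab
      have hno : ¬ ∃ t : E, t ^ 2 = 1 ∧ t ≠ 1 ∧ t ≠ z := by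
        rintro ⟨t, ht, ht1, htz⟩
        obtain ⟨y, -, hty⟩ := h.exists_partner ht ht1 htz
        exact hab ⟨t, y, hty⟩
      refine ⟨0, by rw [h2]; norm_num, Or.inl (by rw [h.inv2_eq_two hno]; norm_num)⟩

end Cfsg.Agent.Lib.Lead.Extra
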