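import Mathlib
import Cfsg.Agent.Lib.Lead.Extra6

set_option autoImplicit false

namespace Cfsg.Agent.Lib.Lead.Extra

open scoped commutatorElement
open Cfsg.Agent.Lib.Lead

universe u v

theorem nonabelian_of_extraspecial {E : Type u} [Group E] [Finite E] {p : ℕ} [Fact p.Prime]
    (hE : Cfsg.IsExtraspecial p E) : ∃ a b : E, ⁅a, b⁆ ≠ 1 := by
  by_contra hno
  push Not at hno
  obtain ⟨⟨-, -, hcm⟩, hcard⟩ := hE
  have h1 : commutator E = ⊥ := by
    rw [eq_bot_iff, commutator_def, Subgroup.commutator_le]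
    intro a _ b _
    rw [Subgroup.mem_bot]
    exact hno a b
  rw [← hcm, h1, Subgroup.card_bot] at hcard
  have := (Fact.out : p.Prime).one_lt
  omega

theorem main_iso {E : Type u} {E' : Type v} [Group E] [Group E'] [Finite E] [Finite E']
    (hE : Cfsg.IsExtraspecial 2 E) (hE' : Cfsg.IsExtraspecial 2 E')
    (hcard : Nat.card E = Nat.card E') (hinv : inv2 E = inv2 E') : Nonempty (E ≃* E') := by
  obtain ⟨z, h⟩ := exists_ES hE
  obtain ⟨z', h'⟩ := exists_ES hE'
  exact classify (Nat.card E) E E' z z' h h' le_rfl hcard hinv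

theorem main_types {E : Type u} [Group E] [Finite E] (hE : Cfsg.IsExtraspecial 2 E) :
    ∃ n : ℕ, 1 ≤ n ∧ Nat.card E = 2 ^ (2 * n + 1) ∧
      (inv2 E = 2 ^ (2 * n) + 2 ^ n ∨ inv2 E = 2 ^ (2 * n) - 2 ^ n) := by
  obtain ⟨z, h⟩ := exists_ES hE
  haveI : Fact (Nat.Prime 2) := ⟨Nat.prime_two⟩
  obtain ⟨a, b, hab⟩ := nonabelian_of_extraspecial hE
  obtain ⟨n, hn, hn2⟩ := types (Nat.card E) E z h le_rfl
  have hn1 : 1 ≤ n := by
    by_contra hlt
    have h0 : n = 0 := by omega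
    rw [h0] at hn
    have h4 := h.card_split hab
    have : 0 < Nat.card (cent2 a b) := Nat.card_pos
    norm_num at hn
    omega
  refine ⟨n, hn1, hn, ?_⟩
  rcases hn2 with h1 | ⟨-, h1⟩
  · exact Or.inl h1
  · exact Or.inr h1

end Cfsg.Agent.Lib.Lead.Extra
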