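import Mathlib
import Cfsg.Agent.Lib.Lead.Extra7

set_option autoImplicit false

namespace Cfsg.Agent.Lib.Lead.Extra

open scoped commutatorElement
open Cfsg.Agent.Lib.Lead

universe u v

/-- elementary abelian 2-subgroups, in elementary terms -/
def EA {E : Type u} [Group E] (A : Subgroup E) : Prop :=
  (∀ a ∈ A, ∀ b ∈ A, a * b = b * a) ∧ ∀ a ∈ A, a ^ 2 = 1

section rank

variable {E : Type u} [Group E] {z : E}

theorem card_arith {c n : ℕ} (h : 2 ^ (2 * n + 1) = 4 * c) : ∃ k, n = k + 1 ∧ c = 2 ^ (2 * k + 1) := by
  rcases n with _ | k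
  · norm_num at h
    omega
  · refine ⟨k, rfl, ?_⟩
    have : (2 : ℕ) ^ (2 * (k + 1) + 1) = 4 * 2 ^ (2 * k + 1) := by ring
    omega

/-- descent of an elementary abelian subgroup with a noncentral element to a centraliser -/
theorem ES.descend [Finite E] (h : ES E z) (A : Subgroup E) (hA : EA A) {x : E} (hxA : x ∈ A)
    (hx1 : x ≠ 1) (hxz : x ≠ z) :
    ∃ y : E, y ^ 2 = 1 ∧ ⁅x, y⁆ ≠ 1 ∧ ∃ B : Subgroup (cent2 x y), EA B ∧ Nat.card A = 2 * Nat.card B := by
  haveI : Fact (Nat.Prime 2) := ⟨Nat.prime_two⟩
  obtain ⟨y, hy, hxy⟩ := h.exists_partner (hA.2 x hxA) hx1 hxz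
  refine ⟨y, hy, hxy, (A ⊓ Subgroup.centralizer {y}).subgroupOf (cent2 x y), ?_, ?_⟩
  · constructor
    · intro a ha b hb
      apply Subtype.ext
      exact hA.1 _ ha.1 _ hb.1
    · intro a ha
      apply Subtype.ext
      exact hA.2 _ ha.1
  · have hle : A ⊓ Subgroup.centralizer {y} ≤ cent2 x y := by
      intro a ha
      rw [mem_cent2']
      refine ⟨hA.1 a ha.1 x hxA, ?_⟩
      have := Subgroup.mem_centralizer_iff.mp ha.2 y rfl
      exact this.symm
    rw [Nat.card_congr (Subgroup.subgroupOfEquivOfLe hle).toEquiv]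
    exact card_eq_mul_card_centralizer (p := 2) h.card_center (fun g t => h.comm_mem_center g t)
      A y x hxA hxy

theorem ES.card_le_two_of_central [Finite E] (h : ES E z) (A : Subgroup E)
    (hA : ∀ x ∈ A, x = 1 ∨ x = z) : Nat.card A ≤ 2 := by
  rw [← h.card_center]
  apply Subgroup.card_le_of_le
  intro x hx
  rcases hA x hx with h1 | h1
  · rw [h1]; exact Subgroup.one_mem _
  · rw [h1]; exact h.z_mem

/-- upper bound for the order of elementary abelian subgroups -/
theorem ea_card_le : ∀ (m : ℕ) (E : Type u) [Group E] [Finite E] (z : E), ES E z → Nat.card E ≤ m →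
    ∀ n : ℕ, Nat.card E = 2 ^ (2 * n + 1) → ∀ A : Subgroup E, EA A → Nat.card A ≤ 2 ^ (n + 1) := by
  intro m
  induction m with
  | zero =>
    intro E _ _ z h hm
    exfalso
    have : 0 < Nat.card E := Nat.card_pos
    omega
  | succ m ih =>
    intro E _ _ z h hm n hn A hA
    by_cases hcen : ∀ x ∈ A, x = 1 ∨ x = z
    · have h1 := h.card_le_two_of_central A hcen
      have h2 : 2 ≤ 2 ^ (n + 1) := by
        calc 2 = 2 ^ 1 := by norm_num
          _ ≤ 2 ^ (n + 1) := Nat.pow_le_pow_right (by norm_num) (by omega)
      omega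
    · push Not at hcen
      obtain ⟨x, hxA, hx1, hxz⟩ := hcen
      obtain ⟨y, hy, hxy, B, hB, hcard⟩ := h.descend A hA hxA hx1 hxz
      have hc := h.card_split hxy
      rw [hn] at hc
      obtain ⟨k, rfl, hk⟩ := card_arith hc
      have hpos : 0 < Nat.card (cent2 x y) := Nat.card_pos
      have := ih (cent2 x y) _ (h.cent2_ES hxy) (by rw [h.card_split hxy] at hm; omega) k hk B hB
      rw [hcard]
      calc 2 * Nat.card B ≤ 2 * 2 ^ (k + 1) := Nat.mul_le_mul_left _ this
        _ = 2 ^ (k + 1 + 1) := by ring

/-- a large elementary abelian subgroup forces plus type -/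
theorem plus_of_ea : ∀ (m : ℕ) (E : Type u) [Group E] [Finite E] (z : E), ES E z → Nat.card E ≤ m →
    ∀ n : ℕ, Nat.card E = 2 ^ (2 * n + 1) → ∀ A : Subgroup E, EA A → 2 ^ (n + 1) ≤ Nat.card A →
    inv2 E = 2 ^ (2 * n) + 2 ^ n := by
  intro m
  induction m with
  | zero =>
    intro E _ _ z h hm
    exfalso
    have : 0 < Nat.card E := Nat.card_pos
    omega
  | succ m ih =>
    intro E _ _ z h hm n hn A hA hbig
    by_cases hcen : ∀ x ∈ A, x = 1 ∨ x = z
    · have h1 := h.card_le_two_of_central A hcen
      have hn0 : n = 0 := by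
        by_contra hne
        have : 2 ^ 2 ≤ 2 ^ (n + 1) := Nat.pow_le_pow_right (by norm_num) (by omega)
        omega
      subst hn0
      have hno : ¬ ∃ t : E, t ^ 2 = 1 ∧ t ≠ 1 ∧ t ≠ z := by
        rintro ⟨t, ht, ht1, htz⟩
        obtain ⟨y, hy, hty⟩ := h.exists_partner ht ht1 htz
        have := h.card_split hty
        have hpos : 0 < Nat.card (cent2 t y) := Nat.card_pos
        norm_num at hn
        omega
      rw [h.inv2_eq_two hno]
      norm_num
    · push Not at hcen
      obtain ⟨x, hxA, hx1, hxz⟩ := hcen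
      obtain ⟨y, hy, hxy, B, hB, hcard⟩ := h.descend A hA hxA hx1 hxz
      have hc := h.card_split hxy
      have hc' := hc
      rw [hn] at hc
      obtain ⟨k, rfl, hk⟩ := card_arith hc
      have hpos : 0 < Nat.card (cent2 x y) := Nat.card_pos
      have hB2 : 2 ^ (k + 1) ≤ Nat.card B := by
        have : (2 : ℕ) ^ (k + 1 + 1) = 2 * 2 ^ (k + 1) := by ring
        omega
      have := ih (cent2 x y) _ (h.cent2_ES hxy) (by omega) k hk B hB hB2
      rw [h.inv2_split (hA.2 x hxA) hy hxy, this, hk]
      ring

/-- existence of large elementary abelian subgroups -/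
theorem exists_ea : ∀ (m : ℕ) (E : Type u) [Group E] [Finite E] (z : E), ES E z → Nat.card E ≤ m →
    ∀ n : ℕ, Nat.card E = 2 ^ (2 * n + 1) →
    (∃ A : Subgroup E, EA A ∧ 2 ^ n ≤ Nat.card A) ∧
    (inv2 E = 2 ^ (2 * n) + 2 ^ n → ∃ A : Subgroup E, EA A ∧ 2 ^ (n + 1) ≤ Nat.card A) := by
  intro m
  induction m with
  | zero =>
    intro E _ _ z h hm
    exfalso
    have : 0 < Nat.card E := Nat.card_pos
    omega
  | succ m ih =>
    intro E _ _ z h hm n hn
    haveI : Fact (Nat.Prime 2) := ⟨Nat.prime_two⟩
    -- the centre is elementary abelian of order 2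
    have hZ : EA (Subgroup.center E) := by
      constructor
      · intro a ha b _
        exact (Subgroup.mem_center_iff.mp ha b).symm
      · intro a ha
        rcases h.cen a ha with h1 | h1
        · rw [h1, one_pow]
        · rw [h1]; exact h.z_sq
    by_cases hinvol : ∃ t : E, t ^ 2 = 1 ∧ t ≠ 1 ∧ t ≠ z
    · obtain ⟨t, ht, ht1, htz⟩ := hinvol
      obtain ⟨y, hy, hty⟩ := h.exists_partner ht ht1 htz
      have hc := h.card_split hty
      have hc' := hc
      rw [hn] at hc
      obtain ⟨k, rfl, hk⟩ := card_arith hc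
      have hpos : 0 < Nat.card (cent2 t y) := Nat.card_pos
      obtain ⟨⟨B, hB, hBc⟩, hplus⟩ := ih (cent2 t y) _ (h.cent2_ES hty) (by omega) k hk
      -- extend an elementary abelian subgroup of the centraliser by `t`
      have ext : ∀ B : Subgroup (cent2 t y), EA B →
          ∃ A : Subgroup E, EA A ∧ 2 * Nat.card B ≤ Nat.card A := by
        intro B hB
        let μ : B × Subgroup.zpowers t →* E :=
          { toFun := fun p => ((p.1 : cent2 t y) : E) * (p.2 : E)
            map_one' := by simp
            map_mul' := by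
              rintro ⟨b, w⟩ ⟨b', w'⟩
              show ((b : cent2 t y) : E) * ((b' : cent2 t y) : E) * ((w : E) * (w' : E)) =
                ((b : cent2 t y) : E) * (w : E) * (((b' : cent2 t y) : E) * (w' : E))
              have hcw : (w : E) * ((b' : cent2 t y) : E) = ((b' : cent2 t y) : E) * (w : E) := by
                obtain ⟨j, hj⟩ := Subgroup.mem_zpowers_iff.mp w.2
                rw [← hj]
                have := (mem_cent2'.mp (b' : cent2 t y).2).1
                exact ((Commute.zpow_right (show Commute ((b' : cent2 t y) : E) t from this) j)).symm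
              rw [mul_assoc, ← mul_assoc ((b' : cent2 t y) : E), ← hcw, mul_assoc, mul_assoc] }
        have hw2 : ∀ w : Subgroup.zpowers t, (w : E) ^ 2 = 1 := by
          intro w
          obtain ⟨j, hj⟩ := Subgroup.mem_zpowers_iff.mp w.2
          rw [← hj, ← zpow_natCast, ← zpow_mul, mul_comm, zpow_mul, zpow_natCast, ht, one_zpow]
        have hbw : ∀ (b : B) (w : Subgroup.zpowers t),
            ((b : cent2 t y) : E) * (w : E) = (w : E) * ((b : cent2 t y) : E) := by
          intro b w
          obtain ⟨j, hj⟩ := Subgroup.mem_zpowers_iff.mp w.2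
          rw [← hj]
          have := (mem_cent2'.mp (b : cent2 t y).2).1
          exact (Commute.zpow_right (show Commute ((b : cent2 t y) : E) t from this) j)
        have hbb : ∀ (b b' : B), ((b : cent2 t y) : E) * ((b' : cent2 t y) : E) =
            ((b' : cent2 t y) : E) * ((b : cent2 t y) : E) := by
          intro b b'
          have := hB.1 b b.2 b' b'.2
          exact congrArg Subtype.val this
        have hww : ∀ (w w' : Subgroup.zpowers t), (w : E) * (w' : E) = (w' : E) * (w : E) := by
          intro w w'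
          obtain ⟨j, hj⟩ := Subgroup.mem_zpowers_iff.mp w.2
          obtain ⟨j', hj'⟩ := Subgroup.mem_zpowers_iff.mp w'.2
          rw [← hj, ← hj', ← zpow_add, ← zpow_add, add_comm]
        have hAEA : EA μ.range := by
          constructor
          · rintro _ ⟨⟨b, w⟩, rfl⟩ _ ⟨⟨b', w'⟩, rfl⟩
            show ((b : cent2 t y) : E) * (w : E) * (((b' : cent2 t y) : E) * (w' : E)) =
              ((b' : cent2 t y) : E) * (w' : E) * (((b : cent2 t y) : E) * (w : E))
            calc ((b : cent2 t y) : E) * (w : E) * (((b' : cent2 t y) : E) * (w' : E))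
                = ((b : cent2 t y) : E) * ((w : E) * ((b' : cent2 t y) : E)) * (w' : E) := by group
              _ = ((b : cent2 t y) : E) * (((b' : cent2 t y) : E) * (w : E)) * (w' : E) := by
                  rw [← hbw b' w]
              _ = (((b : cent2 t y) : E) * ((b' : cent2 t y) : E)) * ((w : E) * (w' : E)) := by group
              _ = (((b' : cent2 t y) : E) * ((b : cent2 t y) : E)) * ((w' : E) * (w : E)) := by
                  rw [hbb b b', hww w w']
              _ = ((b' : cent2 t y) : E) * (((b : cent2 t y) : E) * (w' : E)) * (w : E) := by group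
              _ = ((b' : cent2 t y) : E) * ((w' : E) * ((b : cent2 t y) : E)) * (w : E) := by
                  rw [hbw b w']
              _ = ((b' : cent2 t y) : E) * (w' : E) * (((b : cent2 t y) : E) * (w : E)) := by group
          · rintro _ ⟨⟨b, w⟩, rfl⟩
            show (((b : cent2 t y) : E) * (w : E)) ^ 2 = 1
            rw [ES.mul_sq_of_comm _ _ (hbw b w), hw2 w, mul_one]
            have := hB.2 b b.2
            exact congrArg Subtype.val this
        refine ⟨μ.range, hAEA, ?_⟩
        have htA : t ∈ μ.range := ⟨(1, ⟨t, Subgroup.mem_zpowers t⟩), by simp [μ]⟩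
        have h1 := card_eq_mul_card_centralizer (p := 2) h.card_center
          (fun g t => h.comm_mem_center g t) μ.range y t htA hty
        rw [h1]
        apply Nat.mul_le_mul_left
        have hinj : Function.Injective (fun b : B => (⟨((b : cent2 t y) : E), by
            constructor
            · exact ⟨(b, 1), by simp [μ]⟩
            · have := (mem_cent2'.mp (b : cent2 t y).2).2
              show ((b : cent2 t y) : E) ∈ Subgroup.centralizer {y}
              rw [Subgroup.mem_centralizer_iff]
              intro v hv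
              rw [Set.mem_singleton_iff] at hv
              rw [hv]; exact this.symm⟩ : (μ.range ⊓ Subgroup.centralizer {y} : Subgroup E))) := by
          intro b b' hbb'
          have := congrArg Subtype.val hbb'
          exact Subtype.ext (Subtype.ext this)
        exact Nat.card_le_card_of_injective _ hinj
      constructor
      · obtain ⟨A, hA, hAc⟩ := ext B hB
        refine ⟨A, hA, ?_⟩
        calc 2 ^ (k + 1) = 2 * 2 ^ k := by ring
          _ ≤ 2 * Nat.card B := Nat.mul_le_mul_left _ hBc
          _ ≤ Nat.card A := hAc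
      · intro hinv
        have hi := h.inv2_split ht hy hty
        rw [hinv, hk] at hi
        have hC : inv2 (cent2 t y) = 2 ^ (2 * k) + 2 ^ k := by
          have e1 : (2 : ℕ) ^ (2 * (k + 1)) = 4 * 2 ^ (2 * k) := by ring
          have e2 : (2 : ℕ) ^ (k + 1) = 2 * 2 ^ k := by ring
          have e3 : (2 : ℕ) ^ (2 * k + 1) = 2 * 2 ^ (2 * k) := by ring
          omega
        obtain ⟨B', hB', hBc'⟩ := hplus hC
        obtain ⟨A, hA, hAc⟩ := ext B' hB'
        refine ⟨A, hA, ?_⟩
        calc 2 ^ (k + 1 + 1) = 2 * 2 ^ (k + 1) := by ring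
          _ ≤ 2 * Nat.card B' := Nat.mul_le_mul_left _ hBc'
          _ ≤ Nat.card A := hAc
    · -- no noncentral involutions
      have h2 := h.inv2_eq_two hinvol
      by_cases hab : ∃ a b : E, ⁅a, b⁆ ≠ 1
      · obtain ⟨a, b, hab⟩ := hab
        obtain ⟨h8, -⟩ := h.quaternion_case hab hinvol
        have hn1 : n = 1 := by
          rw [hn] at h8
          have : (2 : ℕ) ^ (2 * n + 1) = 2 ^ 3 := by rw [h8]; norm_num
          have := Nat.pow_right_injective (le_refl 2) this
          omega
        subst hn1
        constructor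
        · exact ⟨Subgroup.center E, hZ, by rw [h.card_center]; norm_num⟩
        · intro hinv
          rw [h2] at hinv
          norm_num at hinv
      · have hc2 := h.card_of_abelian hab
        have hn0 : n = 0 := by
          rw [hn] at hc2
          have : (2 : ℕ) ^ (2 * n + 1) = 2 ^ 1 := by rw [hc2]; norm_num
          have := Nat.pow_right_injective (le_refl 2) this
          omega
        subst hn0
        constructor
        · exact ⟨Subgroup.center E, hZ, by rw [h.card_center]; norm_num⟩
        · intro _
          exact ⟨Subgroup.center E, hZ, by rw [h.card_center]; norm_num⟩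

end rank

end Cfsg.Agent.Lib.Lead.Extra
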