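import Mathlib
import Cfsg.Agent.Lib.Lead.Extra8
import Cfsg.Prelude.Def_CaseTheorems

set_option autoImplicit false

namespace Cfsg.Agent.Lib.Lead.Extra

open scoped commutatorElement
open Cfsg.Agent.Lib.Lead

universe u v

theorem EA_of {E : Type u} [Group E] (A : Subgroup E) (h1 : IsMulCommutative A)
    (h2 : ∀ a ∈ A, a ^ 2 = 1) : EA A :=
  ⟨fun a ha b hb => congrArg Subtype.val (h1.is_comm.comm ⟨a, ha⟩ ⟨b, hb⟩), h2⟩

theorem EA.comm {E : Type u} [Group E] {A : Subgroup E} (h : EA A) : IsMulCommutative A :=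
  ⟨⟨fun a b => Subtype.ext (h.1 a a.2 b b.2)⟩⟩

theorem rank_facts {E : Type u} [Group E] [Finite E] (hE : Cfsg.IsExtraspecial 2 E) (n : ℕ)
    (hn : Nat.card E = 2 ^ (2 * n + 1)) :
    1 ≤ n ∧ Cfsg.PRankLE 2 (n + 1) E ∧ ¬ Cfsg.PRankLE 2 (n - 1) E ∧
      ((inv2 E = 2 ^ (2 * n) + 2 ^ n ∧ ¬ Cfsg.PRankLE 2 n E) ∨
        (inv2 E = 2 ^ (2 * n) - 2 ^ n ∧ Cfsg.PRankLE 2 n E)) := by
  obtain ⟨z, h⟩ := exists_ES hE
  obtain ⟨n', hn1, hn', htype⟩ := main_types hE
  have hnn : n' = n := by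
    have : (2 : ℕ) ^ (2 * n' + 1) = 2 ^ (2 * n + 1) := by rw [← hn', hn]
    have := Nat.pow_right_injective (le_refl 2) this
    omega
  subst hnn
  have hle := ea_card_le (Nat.card E) E z h le_rfl n' hn
  obtain ⟨⟨A₀, hA₀, hA₀c⟩, hplusA⟩ := exists_ea (Nat.card E) E z h le_rfl n' hn
  have hpow : (2 : ℕ) ^ (n' - 1) < 2 ^ n' := Nat.pow_lt_pow_right (by norm_num) (by omega)
  have hpow2 : (2 : ℕ) ^ n' < 2 ^ (n' + 1) := Nat.pow_lt_pow_right (by norm_num) (by omega)
  have hpos : 0 < (2 : ℕ) ^ n' := Nat.pos_of_ne_zero (by positivity)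
  refine ⟨hn1, ?_, ?_, ?_⟩
  · intro A hc h2
    exact hle A (EA_of A hc h2)
  · intro hR
    have := hR A₀ hA₀.comm hA₀.2
    omega
  · rcases htype with hp | hm
    · left
      refine ⟨hp, ?_⟩
      intro hR
      obtain ⟨A, hA, hAc⟩ := hplusA hp
      have := hR A hA.comm hA.2
      omega
    · right
      refine ⟨hm, ?_⟩
      intro A hc h2
      have hA := EA_of A hc h2
      by_contra hlt
      push Not at hlt
      -- the order of A is a power of two
      have hdvd : Nat.card A ∣ 2 ^ (2 * n' + 1) := by rw [← hn]; exact Subgroup.card_subgroup_dvd_card A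
      obtain ⟨j, -, hj⟩ := (Nat.dvd_prime_pow Nat.prime_two).mp hdvd
      have hj1 : n' < j := by
        rw [hj] at hlt
        exact (Nat.pow_lt_pow_iff_right (by norm_num)).mp hlt
      have hbig : 2 ^ (n' + 1) ≤ Nat.card A := by
        rw [hj]
        exact Nat.pow_le_pow_right (by norm_num) hj1
      have := plus_of_ea (Nat.card E) E z h le_rfl n' hn A hA hbig
      rw [hm] at this
      omega

end Cfsg.Agent.Lib.Lead.Extra
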