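import Mathlib
import Cfsg.Agent.Lib.Lead.Extra9
import Cfsg.Agent.Lib.Helper6.Frattini
import Cfsg.Agent.Lib.Helper2.FrattiniSocle

set_option autoImplicit false

/-!
From the elementary description back to `IsExtraspecial`.
-/

namespace Cfsg.Agent.Lib.Lead.Extra

open scoped commutatorElement
open Cfsg.Agent.Lib.Lead

universe u

variable {E : Type u} [Group E] {z : E}

theorem ES.isPGroup (h : ES E z) : IsPGroup 2 E := by
  intro x
  refine ⟨2, ?_⟩
  have : x ^ 2 ^ 2 = (x ^ 2) ^ 2 := by rw [← pow_mul]; norm_num
  rw [this]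
  rcases h.sq x with h1 | h1
  · rw [h1, one_pow]
  · rw [h1, h.z_sq]

theorem ES.isExtraspecial [Finite E] (h : ES E z) (hab : ∃ a b : E, ⁅a, b⁆ ≠ 1) :
    Cfsg.IsExtraspecial 2 E := by
  haveI : Fact (Nat.Prime 2) := ⟨Nat.prime_two⟩
  have hp := h.isPGroup
  have hcomm : commutator E = Subgroup.center E := by
    apply le_antisymm
    · rw [commutator_def, Subgroup.commutator_le]
      intro a _ b _
      exact h.comm_mem_center a b
    · intro w hw
      rcases h.cen w hw with h1 | h1
      · rw [h1]; exact Subgroup.one_mem _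
      · obtain ⟨a, b, hab⟩ := hab
        have : ⁅a, b⁆ = z := by
          rcases h.comm a b with h2 | h2
          · exact absurd h2 hab
          · exact h2
        rw [h1, ← this, commutator_def]
        exact Subgroup.commutator_mem_commutator (Subgroup.mem_top a) (Subgroup.mem_top b)
  refine ⟨⟨hp, ?_, hcomm⟩, h.card_center⟩
  apply le_antisymm
  · apply Cfsg.Agent.Lib.Helper6.frattini_le_of_elemAb (p := 2) (Subgroup.center E)
    · intro x y; exact h.comm_mem_center x y
    · intro x
      rcases h.sq x with h1 | h1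
      · rw [h1]; exact Subgroup.one_mem _
      · rw [h1]; exact h.z_mem
  · rw [← hcomm]
    haveI : Group.IsNilpotent E := hp.isNilpotent
    exact Cfsg.Agent.Lib.Helper2.FrattiniSocle.commutator_le_frattini_of_nilpotent

end Cfsg.Agent.Lib.Lead.Extra
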