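import Mathlib
import Cfsg.Agent.Lib.Helper9.SLRoot2

/-!
# Minimal index of proper subgroups of `SL_n(q)`: common definitions (project S2140)

`TransvFree M`: the subgroup `M` of `SL_n(F)` contains no transvection.
`Qgrp x`: the group of all transvections with centre `x` (together with `1`).
`pmult χ`: the multiplicity of the linear character `χ` of the finite abelian group `R` in the
permutation representation of `R` on `Ω`, defined as the number of orbits whose stabilizer lies in
the kernel of `χ`.
-/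

set_option autoImplicit false

namespace Cfsg.Agent.Lib.Lead.MinIdx

open Matrix Cfsg.Agent.H9SLRoot

section SL

variable {F : Type*} [Field F] {n : ℕ}

/-- `M` contains no transvection -/
def TransvFree (M : Subgroup (Matrix.SpecialLinearGroup (Fin n) F)) : Prop :=
  ∀ (x φ : Fin n → F) (c : F), φ ⬝ᵥ x = 0 → tv x φ c ∈ M → tv x φ c = 1

/-- the group of all transvections with centre `x` -/
def Qgrp (x : Fin n → F) : Subgroup (Matrix.SpecialLinearGroup (Fin n) F) where
  carrier := {g | ∃ φ : Fin n → F, φ ⬝ᵥ x = 0 ∧ g = tv x φ 1}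
  one_mem' := ⟨0, by simp, by
    apply sl_ext; intro v
    rw [tv_mulVec (by simp), coe_one_mulVec]; simp⟩
  mul_mem' := by
    rintro a b ⟨φ, hφ, rfl⟩ ⟨ψ, hψ, rfl⟩
    refine ⟨φ + ψ, by rw [add_dotProduct, hφ, hψ, add_zero], ?_⟩
    apply sl_ext; intro v
    rw [coe_mul_mulVec, tv_mulVec hψ, tv_mulVec hφ,
      tv_mulVec (by rw [add_dotProduct, hφ, hψ, add_zero])]
    simp only [one_mul, dotProduct_add, dotProduct_smul, hφ, smul_eq_mul, mul_zero, add_zero,
      add_dotProduct, add_smul]
    abel
  inv_mem' := by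
    rintro a ⟨φ, hφ, rfl⟩
    refine ⟨-φ, by rw [neg_dotProduct, hφ, neg_zero], ?_⟩
    rw [tv_inv]
    apply sl_ext; intro v
    rw [tv_mulVec hφ, tv_mulVec (by rw [neg_dotProduct, hφ, neg_zero])]
    simp

theorem mem_Qgrp {x : Fin n → F} {g : Matrix.SpecialLinearGroup (Fin n) F} :
    g ∈ Qgrp x ↔ ∃ φ : Fin n → F, φ ⬝ᵥ x = 0 ∧ g = tv x φ 1 := Iff.rfl

end SL

section pmult

variable {R : Type*} [CommGroup R] {Ω : Type*} [MulAction R Ω]

/-- the points whose stabilizer lies in the kernel of `χ` -/
def pset (χ : R →* ℂˣ) : Set Ω := {ω | ∀ r ∈ MulAction.stabilizer R ω, χ r = 1}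

/-- the multiplicity of `χ` in the permutation representation on `Ω`: the number of orbits
contained in `pset χ` -/
noncomputable def pmult (Ω : Type*) [MulAction R Ω] (χ : R →* ℂˣ) : ℕ :=
  Nat.card {o : MulAction.orbitRel.Quotient R Ω // o.orbit ⊆ pset χ}

end pmult

end Cfsg.Agent.Lib.Lead.MinIdx
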