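import Mathlib

/-!
# S4017: the configuration of "Case B" (interface file)

Paper proof: `notes/S4017_paper_lead.md`.

`Cfg G p a Q w` is the situation reached in a minimal counterexample to S4017 when the
Frobenius normal-complement criterion fails for the prime `2`:
`p = 2 ^ a - 1` is a (Mersenne) prime, `a ≥ 2`, `G` is simple, all `p`-subgroups are abelian,
every proper subgroup of even order is a `{2, p}`-group, `Q` is an elementary abelian Sylow
`2`-subgroup of order `2 ^ a`, and the `p`-element `w` normalizes `Q` and permutes `Q \ {1}`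
transitively.

`CfgB` adds the basic consequences (package P2); packages P3 to P6 derive `False` from `CfgB`.
-/

namespace Cfsg.Agent.Lib.Lead.Mix

/-- the subgroup generated by the `p`-elements commuting with `t` -/
def Kt {G : Type*} [Group G] (p : ℕ) (t : G) : Subgroup G :=
  Subgroup.closure {x : G | x * t = t * x ∧ ∃ k : ℕ, orderOf x = p ^ k}

/-- the subgroup generated by the `p`-elements centralizing `Q` -/
def Pone {G : Type*} [Group G] (p : ℕ) (Q : Subgroup G) : Subgroup G :=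
  Subgroup.closure {x : G | (∀ y ∈ Q, x * y = y * x) ∧ ∃ k : ℕ, orderOf x = p ^ k}

/-- The configuration of Case B in a minimal counterexample. -/
structure Cfg (G : Type*) [Group G] [Finite G] (p a : ℕ) (Q : Subgroup G) (w : G) : Prop where
  hp : p.Prime
  ha : 2 ≤ a
  hpa : p + 1 = 2 ^ a
  /-- all `p`-subgroups are abelian -/
  pab : ∀ S : Subgroup G, IsPGroup p S → ∀ x ∈ S, ∀ y ∈ S, x * y = y * x
  /-- proper subgroups of even order are `{2, p}`-groups -/
  prop : ∀ H : Subgroup G, H ≠ ⊤ → 2 ∣ Nat.card H →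
    ∀ r : ℕ, r.Prime → r ∣ Nat.card H → r = 2 ∨ r = p
  /-- `G` is simple -/
  simp : ∀ N : Subgroup G, N.Normal → N = ⊥ ∨ N = ⊤
  Qcard : Nat.card Q = 2 ^ a
  Gcard : ¬ 2 ^ (a + 1) ∣ Nat.card G
  Qab : ∀ x ∈ Q, ∀ y ∈ Q, x * y = y * x
  Qexp : ∀ x ∈ Q, x ^ 2 = 1
  /-- `w` normalizes `Q` -/
  wQ : ∀ x ∈ Q, w * x * w⁻¹ ∈ Q
  wp : ∃ k : ℕ, orderOf w = p ^ k
  /-- `⟨w⟩` is transitive on `Q \ {1}` -/
  wtr : ∀ x ∈ Q, x ≠ 1 → ∀ y ∈ Q, y ≠ 1 → ∃ i : ℕ, w ^ i * x * (w ^ i)⁻¹ = y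

/-- `Cfg` together with its basic consequences. -/
structure CfgB (G : Type*) [Group G] [Finite G] (p a : ℕ) (Q : Subgroup G) (w : G) : Prop
    extends Cfg G p a Q w where
  pdvd : p ∣ Nat.card G
  /-- normalizers of proper non-trivial subgroups are proper -/
  nloc : ∀ X : Subgroup G, X ≠ ⊥ → X ≠ ⊤ → Subgroup.normalizer (X : Set G) ≠ ⊤
  /-- `C_G(Q) = Q × P₁` -/
  pone_pgroup : IsPGroup p (Pone p Q)
  cent_card : Nat.card (Subgroup.centralizer (Q : Set G)) = 2 ^ a * Nat.card (Pone p Q)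
  /-- elements of `N_G(Q)` outside `C_G(Q)` fix no involution of `Q` -/
  norm_fpf : ∀ m ∈ Subgroup.normalizer (Q : Set G), m ∉ Subgroup.centralizer (Q : Set G) →
    ∀ t ∈ Q, t ≠ 1 → m * t ≠ t * m
  norm_card : Nat.card (Subgroup.normalizer (Q : Set G)) =
    p * Nat.card (Subgroup.centralizer (Q : Set G))
  /-- `N_G(Q)` is a maximal subgroup -/
  norm_max : ∀ X : Subgroup G, Subgroup.normalizer (Q : Set G) ≤ X → X ≠ ⊤ →
    X = Subgroup.normalizer (Q : Set G)
  /-- `C_G(t) = K_t ⋊ Q` with `K_t` a `p`-group -/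
  kt_pgroup : ∀ t ∈ Q, t ≠ 1 → IsPGroup p (Kt p t)
  kt_card : ∀ t ∈ Q, t ≠ 1 →
    Nat.card (Subgroup.centralizer ({t} : Set G)) = 2 ^ a * Nat.card (Kt p t)
  /-- the product of two involutions has order `p ^ j` or `2 * p ^ j` -/
  dih : ∀ s t : G, s ≠ 1 → t ≠ 1 → s ^ 2 = 1 → t ^ 2 = 1 →
    ∃ j : ℕ, orderOf (s * t) = p ^ j ∨ orderOf (s * t) = 2 * p ^ j
  /-- every involution is conjugate into `Q` -/
  inv_conj : ∀ s : G, s ≠ 1 → s ^ 2 = 1 → ∃ g : G, g * s * g⁻¹ ∈ Q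

universe u

/-- the hypotheses of S4017 -/
structure Hyp (G : Type u) [Group G] [Finite G] (p q : ℕ) : Prop where
  hp : p.Prime
  hq : q.Prime
  hpq : p ≠ q
  hp2 : p ≠ 2
  hpG : p ∣ Nat.card G
  hqG : q ∣ Nat.card G
  hmix : ∀ H : Subgroup G, H ≠ ⊤ → ¬ IsPGroup q H → q ∣ Nat.card H → p ∣ Nat.card H
  hlarge : q ^ (Nat.card G).factorization q - 1 < p ∨
    (p = q ^ (Nat.card G).factorization q - 1 ∧ ∀ P : Sylow p G, IsMulCommutative P)

/-- the conclusion of S4017 -/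
def Concl (G : Type u) [Group G] (p q : ℕ) : Prop :=
  ∀ r : ℕ, r.Prime → r ∣ Nat.card G → r = p ∨ r = q

/-- a counterexample of least order (within one universe) -/
structure MinCex (G : Type u) [Group G] [Finite G] (p q : ℕ) : Prop extends Hyp G p q where
  notc : ¬ Concl G p q
  ih : ∀ (H : Type u) [Group H] [Finite H], Nat.card H < Nat.card G → Hyp H p q → Concl H p q

/-- consequences of minimality (packages P1a, P1b) -/
structure MinCexB (G : Type u) [Group G] [Finite G] (p q : ℕ) : Prop extends MinCex G p q where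
  /-- (S) proper subgroups of order divisible by `q` are `{p, q}`-groups -/
  sub_pq : ∀ L : Subgroup G, L ≠ ⊤ → q ∣ Nat.card L →
    ∀ r : ℕ, r.Prime → r ∣ Nat.card L → r = p ∨ r = q
  /-- (N) `q`-local subgroups are proper -/
  qloc : ∀ Q0 : Subgroup G, Q0 ≠ ⊥ → IsPGroup q Q0 → Subgroup.normalizer (Q0 : Set G) ≠ ⊤
  /-- (R) no element of order `q` normalizes a non-trivial `r`-subgroup, `r ∉ {p, q}` -/
  rloc : ∀ (r : ℕ) (R : Subgroup G), r.Prime → r ≠ p → r ≠ q → IsPGroup r R → R ≠ ⊥ →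
    ¬ q ∣ Nat.card (Subgroup.normalizer (R : Set G))
  /-- `G` is simple -/
  simp : ∀ N : Subgroup G, N.Normal → N = ⊥ ∨ N = ⊤

/-- `K_t` is equivariant under conjugation -/
theorem Kt_conj {G : Type*} [Group G] (p : ℕ) (t g : G) :
    Kt p (g * t * g⁻¹) = (Kt p t).map (MulAut.conj g).toMonoidHom := by
  unfold Kt
  rw [MonoidHom.map_closure]
  congr 1
  ext x
  simp only [Set.mem_ofPred_eq, Set.mem_image, MulEquiv.coe_toMonoidHom, MulAut.conj_apply]
  constructor
  · rintro ⟨hc, k, hk⟩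
    refine ⟨g⁻¹ * x * g, ⟨?_, k, ?_⟩, by group⟩
    · have : x * (g * t * g⁻¹) = g * t * g⁻¹ * x := hc
      calc g⁻¹ * x * g * t = g⁻¹ * (x * (g * t * g⁻¹)) * g := by group
        _ = g⁻¹ * (g * t * g⁻¹ * x) * g := by rw [this]
        _ = t * (g⁻¹ * x * g) := by group
    · have : g⁻¹ * x * g = (MulAut.conj g⁻¹) x := by simp [MulAut.conj_apply]
      rw [this, MulEquiv.orderOf_eq]
      exact hk
  · rintro ⟨y, ⟨hc, k, hk⟩, rfl⟩
    refine ⟨?_, k, ?_⟩
    · calc g * y * g⁻¹ * (g * t * g⁻¹) = g * (y * t) * g⁻¹ := by group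
        _ = g * (t * y) * g⁻¹ := by rw [hc]
        _ = g * t * g⁻¹ * (g * y * g⁻¹) := by group
    · have : g * y * g⁻¹ = (MulAut.conj g) y := by simp [MulAut.conj_apply]
      rw [this, MulEquiv.orderOf_eq]
      exact hk

end Cfsg.Agent.Lib.Lead.Mix
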