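import Mathlib

/-!
# Itô's theorem: a product of two abelian subgroups is metabelian
-/

namespace Cfsg.Agent.Lib.Lead.Mix

open scoped commutatorElement

variable {X : Type*} [Group X]

theorem ito_comm_AB_mul {a b' a' : X} (h : a * a' = a' * a) :
    ⁅a, b' * a'⁆ = ⁅a, b'⁆ := by
  have h2 : a' * a⁻¹ = a⁻¹ * a' := by
    have := congrArg (fun z => a⁻¹ * z * a⁻¹) h
    simpa [mul_assoc] using this
  simp only [commutatorElement_def, mul_inv_rev]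
  calc a * (b' * a') * a⁻¹ * (a'⁻¹ * b'⁻¹) = a * b' * (a' * a⁻¹) * a'⁻¹ * b'⁻¹ := by group
    _ = a * b' * (a⁻¹ * a') * a'⁻¹ * b'⁻¹ := by rw [h2]
    _ = a * b' * a⁻¹ * b'⁻¹ := by group

theorem ito_comm_mul_AB {a' b' b : X} (h : b' * b = b * b') :
    ⁅a' * b', b⁆ = ⁅a', b⁆ := by
  have h2 : b * b'⁻¹ = b'⁻¹ * b := by
    have := congrArg (fun z => b'⁻¹ * z * b'⁻¹) h
    simpa [mul_assoc] using this
  simp only [commutatorElement_def, mul_inv_rev]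
  calc a' * b' * b * (b'⁻¹ * a'⁻¹) * b⁻¹ = a' * (b' * b) * b'⁻¹ * a'⁻¹ * b⁻¹ := by group
    _ = a' * (b * b') * b'⁻¹ * a'⁻¹ * b⁻¹ := by rw [h]
    _ = a' * b * a'⁻¹ * b⁻¹ := by group

/-- **Itô.** If `X = A B` with `A`, `B` abelian subgroups, then the commutator subgroup of `X`
is abelian. -/
theorem ito (A B : Subgroup X)
    (hA : ∀ x ∈ A, ∀ y ∈ A, x * y = y * x) (hB : ∀ x ∈ B, ∀ y ∈ B, x * y = y * x)
    (hAB : ∀ g : X, ∃ a ∈ A, ∃ b ∈ B, g = a * b) :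
    ∀ x ∈ commutator X, ∀ y ∈ commutator X, x * y = y * x := by
  -- also `X = B A`
  have hBA : ∀ g : X, ∃ b ∈ B, ∃ a ∈ A, g = b * a := by
    intro g
    obtain ⟨a, ha, b, hb, h⟩ := hAB g⁻¹
    refine ⟨b⁻¹, B.inv_mem hb, a⁻¹, A.inv_mem ha, ?_⟩
    rw [← mul_inv_rev, ← h, inv_inv]
  set C : Set X := {c | ∃ a ∈ A, ∃ b ∈ B, c = ⁅a, b⁆} with hC
  -- conjugation by `A` and by `B` preserves `C`
  have conjA : ∀ a1 ∈ A, ∀ a ∈ A, ∀ b ∈ B, ∃ b2 ∈ B, a1 * ⁅a, b⁆ * a1⁻¹ = ⁅a, b2⁆ ∧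
      ∃ a2 ∈ A, a1 * b * a1⁻¹ = b2 * a2 := by
    intro a1 ha1 a ha b hb
    obtain ⟨b2, hb2, a2, ha2, h⟩ := hBA (a1 * b * a1⁻¹)
    refine ⟨b2, hb2, ?_, a2, ha2, h⟩
    rw [← ito_comm_AB_mul (hA a ha a2 ha2) (b' := b2), ← h]
    have : a1 * a * a1⁻¹ = a := by rw [hA a1 ha1 a ha]; group
    calc a1 * ⁅a, b⁆ * a1⁻¹ = ⁅a1 * a * a1⁻¹, a1 * b * a1⁻¹⁆ := by
          simp only [commutatorElement_def]; group
      _ = ⁅a, a1 * b * a1⁻¹⁆ := by rw [this]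
  have conjB : ∀ b1 ∈ B, ∀ a ∈ A, ∀ b ∈ B, ∃ a3 ∈ A, b1 * ⁅a, b⁆ * b1⁻¹ = ⁅a3, b⁆ ∧
      ∃ b3 ∈ B, b1 * a * b1⁻¹ = a3 * b3 := by
    intro b1 hb1 a ha b hb
    obtain ⟨a3, ha3, b3, hb3, h⟩ := hAB (b1 * a * b1⁻¹)
    refine ⟨a3, ha3, ?_, b3, hb3, h⟩
    rw [← ito_comm_mul_AB (hB b3 hb3 b hb) (a' := a3), ← h]
    have : b1 * b * b1⁻¹ = b := by rw [hB b1 hb1 b hb]; group
    calc b1 * ⁅a, b⁆ * b1⁻¹ = ⁅b1 * a * b1⁻¹, b1 * b * b1⁻¹⁆ := by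
          simp only [commutatorElement_def]; group
      _ = ⁅b1 * a * b1⁻¹, b⁆ := by rw [this]
  -- the key identity
  have key : ∀ a ∈ A, ∀ b ∈ B, ∀ a1 ∈ A, ∀ b1 ∈ B,
      (a1 * b1) * ⁅a, b⁆ * (a1 * b1)⁻¹ = (b1 * a1) * ⁅a, b⁆ * (b1 * a1)⁻¹ := by
    intro a ha b hb a1 ha1 b1 hb1
    obtain ⟨b2, hb2, h1, a2, ha2, h1'⟩ := conjA a1 ha1 a ha b hb
    obtain ⟨a3, ha3, h2, b3, hb3, h2'⟩ := conjB b1 hb1 a ha b hb
    -- left side: first `b1`, then `a1`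
    have L : (a1 * b1) * ⁅a, b⁆ * (a1 * b1)⁻¹ = ⁅a3, b2⁆ := by
      have : (a1 * b1) * ⁅a, b⁆ * (a1 * b1)⁻¹ = a1 * (b1 * ⁅a, b⁆ * b1⁻¹) * a1⁻¹ := by group
      rw [this, h2]
      obtain ⟨b2', hb2', h3, a2', ha2', h3'⟩ := conjA a1 ha1 a3 ha3 b hb
      rw [h3]
      have : b2' * a2' = b2 * a2 := by rw [← h3', ← h1']
      rw [← ito_comm_AB_mul (hA a3 ha3 a2' ha2') (b' := b2'), this,
        ito_comm_AB_mul (hA a3 ha3 a2 ha2)]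
    have R : (b1 * a1) * ⁅a, b⁆ * (b1 * a1)⁻¹ = ⁅a3, b2⁆ := by
      have : (b1 * a1) * ⁅a, b⁆ * (b1 * a1)⁻¹ = b1 * (a1 * ⁅a, b⁆ * a1⁻¹) * b1⁻¹ := by group
      rw [this, h1]
      obtain ⟨a3', ha3', h3, b3', hb3', h3'⟩ := conjB b1 hb1 a ha b2 hb2
      rw [h3]
      have : a3' * b3' = a3 * b3 := by rw [← h3', ← h2']
      rw [← ito_comm_mul_AB (hB b3' hb3' b2 hb2) (a' := a3'), this,
        ito_comm_mul_AB (hB b3 hb3 b2 hb2)]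
    rw [L, R]
  -- elements of `C` commute
  have hCcomm : ∀ x ∈ C, ∀ y ∈ C, x * y = y * x := by
    rintro x ⟨a1, ha1, b1, hb1, rfl⟩ y ⟨a, ha, b, hb, rfl⟩
    have h := key a ha b hb a1⁻¹ (A.inv_mem ha1) b1⁻¹ (B.inv_mem hb1)
    -- `(b1⁻¹ a1⁻¹)⁻¹ (a1⁻¹ b1⁻¹) = ⁅a1, b1⁆` centralizes `⁅a, b⁆`
    have h' : ⁅a1, b1⁆ * ⁅a, b⁆ * ⁅a1, b1⁆⁻¹ = ⁅a, b⁆ := by
      have e : ⁅a1, b1⁆ = (b1⁻¹ * a1⁻¹)⁻¹ * (a1⁻¹ * b1⁻¹) := by
        simp only [commutatorElement_def]; group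
      rw [e]
      calc (b1⁻¹ * a1⁻¹)⁻¹ * (a1⁻¹ * b1⁻¹) * ⁅a, b⁆ * ((b1⁻¹ * a1⁻¹)⁻¹ * (a1⁻¹ * b1⁻¹))⁻¹
          = (b1⁻¹ * a1⁻¹)⁻¹ * ((a1⁻¹ * b1⁻¹) * ⁅a, b⁆ * (a1⁻¹ * b1⁻¹)⁻¹) * (b1⁻¹ * a1⁻¹) := by
            group
        _ = (b1⁻¹ * a1⁻¹)⁻¹ * ((b1⁻¹ * a1⁻¹) * ⁅a, b⁆ * (b1⁻¹ * a1⁻¹)⁻¹) * (b1⁻¹ * a1⁻¹) := by
            rw [h]
        _ = ⁅a, b⁆ := by group
    calc ⁅a1, b1⁆ * ⁅a, b⁆ = (⁅a1, b1⁆ * ⁅a, b⁆ * ⁅a1, b1⁆⁻¹) * ⁅a1, b1⁆ := by group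
      _ = ⁅a, b⁆ * ⁅a1, b1⁆ := by rw [h']
  -- `closure C` is normal
  have hCconj : ∀ g : X, ∀ c ∈ C, g * c * g⁻¹ ∈ C := by
    rintro g c ⟨a, ha, b, hb, rfl⟩
    obtain ⟨a1, ha1, b1, hb1, rfl⟩ := hAB g
    obtain ⟨a3, ha3, h2, -⟩ := conjB b1 hb1 a ha b hb
    obtain ⟨b2, hb2, h3, -⟩ := conjA a1 ha1 a3 ha3 b hb
    refine ⟨a3, ha3, b2, hb2, ?_⟩
    have : (a1 * b1) * ⁅a, b⁆ * (a1 * b1)⁻¹ = a1 * (b1 * ⁅a, b⁆ * b1⁻¹) * a1⁻¹ := by group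
    rw [this, h2, h3]
  have hN : (Subgroup.closure C).Normal := by
    refine ⟨fun n hn g => ?_⟩
    induction hn using Subgroup.closure_induction with
    | mem c hc => exact Subgroup.subset_closure (hCconj g c hc)
    | one => simp
    | mul x y _ _ hx hy =>
      have : g * (x * y) * g⁻¹ = (g * x * g⁻¹) * (g * y * g⁻¹) := by group
      rw [this]; exact Subgroup.mul_mem _ hx hy
    | inv x _ hx =>
      have : g * x⁻¹ * g⁻¹ = (g * x * g⁻¹)⁻¹ := by group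
      rw [this]; exact Subgroup.inv_mem _ hx
  -- the commutator subgroup lies in `closure C`
  have hle : commutator X ≤ Subgroup.closure C := by
    rw [commutator_def, Subgroup.commutator_le]
    intro g _ h _
    -- work in the quotient
    have hq : ∀ a ∈ A, ∀ b ∈ B, (QuotientGroup.mk a : X ⧸ Subgroup.closure C) * QuotientGroup.mk b
        = QuotientGroup.mk b * QuotientGroup.mk a := by
      intro a ha b hb
      have hm : ⁅a, b⁆ ∈ Subgroup.closure C := Subgroup.subset_closure ⟨a, ha, b, hb, rfl⟩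
      have := (QuotientGroup.eq_one_iff (N := Subgroup.closure C) ⁅a, b⁆).mpr hm
      rw [commutatorElement_def] at this
      simp only [QuotientGroup.mk_mul, QuotientGroup.mk_inv] at this
      have h2 := congrArg (fun z => z * (QuotientGroup.mk b : X ⧸ Subgroup.closure C) *
        QuotientGroup.mk a) this
      simp only [one_mul] at h2
      rw [← h2]; group
    obtain ⟨a, ha, b, hb, rfl⟩ := hAB g
    obtain ⟨a', ha', b', hb', rfl⟩ := hAB h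
    rw [← QuotientGroup.eq_one_iff (N := Subgroup.closure C), commutatorElement_def]
    simp only [QuotientGroup.mk_mul, QuotientGroup.mk_inv, mul_inv_rev]
    set α : X ⧸ Subgroup.closure C := QuotientGroup.mk a
    set β : X ⧸ Subgroup.closure C := QuotientGroup.mk b
    set α' : X ⧸ Subgroup.closure C := QuotientGroup.mk a'
    set β' : X ⧸ Subgroup.closure C := QuotientGroup.mk b'
    have c1 : α * α' = α' * α := by
      simp only [α, α', ← QuotientGroup.mk_mul, hA a ha a' ha']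
    have c2 : β * β' = β' * β := by
      simp only [β, β', ← QuotientGroup.mk_mul, hB b hb b' hb']
    have c3 : α * β' = β' * α := hq a ha b' hb'
    have c4 : α' * β = β * α' := hq a' ha' b hb
    have c5 : α * β = β * α := hq a ha b hb
    have c6 : α' * β' = β' * α' := hq a' ha' b' hb'
    have e1 : α * β * (α' * β') = α' * β' * (α * β) := by
      calc α * β * (α' * β') = α * (β * α') * β' := by group
        _ = α * (α' * β) * β' := by rw [c4]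
        _ = (α * α') * (β * β') := by group
        _ = (α' * α) * (β' * β) := by rw [c1, c2]
        _ = α' * (α * β') * β := by group
        _ = α' * (β' * α) * β := by rw [c3]
        _ = α' * β' * (α * β) := by group
    calc α * β * (α' * β') * (β⁻¹ * α⁻¹) * (β'⁻¹ * α'⁻¹)
        = (α * β * (α' * β')) * (α * β)⁻¹ * (α' * β')⁻¹ := by group
      _ = (α' * β' * (α * β)) * (α * β)⁻¹ * (α' * β')⁻¹ := by rw [e1]
      _ = 1 := by group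
  intro x hx y hy
  have hx' := hle hx
  have hy' := hle hy
  haveI := Subgroup.isMulCommutative_closure hCcomm
  have := mul_comm' (⟨x, hx'⟩ : Subgroup.closure C) ⟨y, hy'⟩
  exact congrArg Subtype.val this

end Cfsg.Agent.Lib.Lead.Mix
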