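import Mathlib
import Cfsg.Prelude.Def_ClassicalGeometry
import Cfsg.Agent.Lib.Helper2.SpIsom

/-! S5956 package PK-CNT2 (leader helper1): counting the nondegenerate subspaces of a symplectic
space through symplectic frames. -/

set_option autoImplicit false

namespace Cfsg.Agent.Lib.Helper1.NDSp

open Module

section abstract
variable {K V : Type*} [Field K] [AddCommGroup V] [Module K V]

/-- symplectic frames of length `k`: `k` pairwise orthogonal hyperbolic pairs -/
abbrev Cnt2Frame (B : LinearMap.BilinForm K V) (k : ℕ) : Type _ :=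
  {s : Fin k → V × V // ∀ i j, B (s i).1 (s j).1 = 0 ∧ B (s i).2 (s j).2 = 0 ∧
    B (s i).1 (s j).2 = if i = j then 1 else 0}

/-- the family of the `2k` vectors of `k` pairs -/
def cnt2Fam {k : ℕ} (s : Fin k → V × V) : Fin k ⊕ Fin k → V :=
  Sum.elim (fun i => (s i).1) (fun i => (s i).2)

/-- the coordinate map `w ↦ (B w f_i, - B w e_i)` -/
def cnt2Coord (B : LinearMap.BilinForm K V) {k : ℕ} (s : Fin k → V × V) :
    V →ₗ[K] (Fin k ⊕ Fin k → K) :=
  LinearMap.pi (Sum.elim (fun i => B.flip (s i).2) (fun i => -B.flip (s i).1))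

theorem cnt2Coord_inl (B : LinearMap.BilinForm K V) {k : ℕ} (s : Fin k → V × V) (w : V)
    (i : Fin k) : cnt2Coord B s w (Sum.inl i) = B w (s i).2 := rfl

theorem cnt2Coord_inr (B : LinearMap.BilinForm K V) {k : ℕ} (s : Fin k → V × V) (w : V)
    (i : Fin k) : cnt2Coord B s w (Sum.inr i) = -B w (s i).1 := rfl

theorem cnt2_mem_ker (B : LinearMap.BilinForm K V) {k : ℕ} (s : Fin k → V × V) (w : V) :
    w ∈ LinearMap.ker (cnt2Coord B s) ↔ ∀ i, B w (s i).2 = 0 ∧ B w (s i).1 = 0 := by
  rw [LinearMap.mem_ker]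
  constructor
  · intro h i
    have h1 := congrFun h (Sum.inl i)
    have h2 := congrFun h (Sum.inr i)
    rw [cnt2Coord_inl] at h1
    rw [cnt2Coord_inr] at h2
    exact ⟨h1, neg_eq_zero.1 h2⟩
  · intro h
    funext x
    rcases x with i | i
    · rw [cnt2Coord_inl]; exact (h i).1
    · rw [cnt2Coord_inr, (h i).2]; simp

theorem cnt2Coord_fam (B : LinearMap.BilinForm K V) (hB : B.IsAlt) {k : ℕ} (s : Cnt2Frame B k)
    (x : Fin k ⊕ Fin k) : cnt2Coord B s.1 (cnt2Fam s.1 x) = Pi.single x 1 := by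
  funext y
  rcases x with j | j <;> rcases y with i | i
  · rw [cnt2Coord_inl]
    simp only [cnt2Fam, Sum.elim_inl, (s.2 j i).2.2, Pi.single_apply, Sum.inl.injEq]
    simp only [eq_comm]
  · rw [cnt2Coord_inr]
    simp only [cnt2Fam, Sum.elim_inl, (s.2 j i).1, neg_zero, Pi.single_apply, reduceCtorEq,
      if_false]
  · rw [cnt2Coord_inl]
    simp only [cnt2Fam, Sum.elim_inr, (s.2 j i).2.1, Pi.single_apply, reduceCtorEq, if_false]
  · rw [cnt2Coord_inr]
    simp only [cnt2Fam, Sum.elim_inr, hB.neg_eq, (s.2 i j).2.2, Pi.single_apply, Sum.inr.injEq]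

theorem cnt2_linearIndependent (B : LinearMap.BilinForm K V) (hB : B.IsAlt) {k : ℕ}
    (s : Cnt2Frame B k) : LinearIndependent K (cnt2Fam s.1) := by
  apply LinearIndependent.of_comp (cnt2Coord B s.1)
  have : (cnt2Coord B s.1) ∘ (cnt2Fam s.1) = ⇑(Pi.basisFun K (Fin k ⊕ Fin k)) := by
    funext x
    rw [Function.comp_apply, cnt2Coord_fam B hB s x, Pi.basisFun_apply]
  rw [this]
  exact (Pi.basisFun K (Fin k ⊕ Fin k)).linearIndependent

theorem cnt2_surjective (B : LinearMap.BilinForm K V) (hB : B.IsAlt) {k : ℕ}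
    (s : Cnt2Frame B k) : Function.Surjective (cnt2Coord B s.1) := by
  intro a
  refine ⟨∑ x, a x • cnt2Fam s.1 x, ?_⟩
  rw [map_sum]
  funext y
  simp only [map_smul, cnt2Coord_fam B hB s, Finset.sum_apply, Pi.smul_apply, Pi.single_apply,
    smul_eq_mul, mul_ite, mul_one, mul_zero, Finset.sum_ite_eq, Finset.mem_univ, if_true]

/-- the pairs extending a family of pairs to a longer symplectic frame -/
abbrev Cnt2Ext (B : LinearMap.BilinForm K V) {k : ℕ} (s : Fin k → V × V) : Type _ :=
  {w : V × V // w.1 ∈ LinearMap.ker (cnt2Coord B s) ∧ w.2 ∈ LinearMap.ker (cnt2Coord B s) ∧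
    B w.1 w.2 = 1}

/-- a frame of length `k + 1` is a frame of length `k` and an extending pair -/
def cnt2Equiv (B : LinearMap.BilinForm K V) (hB : B.IsAlt) (k : ℕ) :
    Cnt2Frame B (k + 1) ≃ Σ s : Cnt2Frame B k, Cnt2Ext B s.1 where
  toFun s := ⟨⟨Fin.tail s.1, fun i j => by
      have := s.2 i.succ j.succ
      simp only [Fin.succ_inj] at this
      exact this⟩,
    ⟨s.1 0, by
      rw [cnt2_mem_ker]
      intro i
      have h1 := (s.2 0 i.succ).2.2
      have h2 := (s.2 0 i.succ).1
      rw [if_neg (Fin.succ_ne_zero i).symm] at h1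
      exact ⟨h1, h2⟩, by
      rw [cnt2_mem_ker]
      intro i
      have h1 := (s.2 0 i.succ).2.1
      have h2 := (s.2 i.succ 0).2.2
      rw [if_neg (Fin.succ_ne_zero i)] at h2
      have h3 : B (s.1 0).2 (s.1 i.succ).1 = 0 := by rw [← hB.neg_eq, h2, neg_zero]
      exact ⟨h1, h3⟩, by
      have := (s.2 0 0).2.2
      simpa using this⟩⟩
  invFun x := ⟨Fin.cons x.2.1 x.1.1, by
    have he := (cnt2_mem_ker B x.1.1 x.2.1.1).1 x.2.2.1
    have hf := (cnt2_mem_ker B x.1.1 x.2.1.2).1 x.2.2.2.1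
    intro i j
    refine Fin.cases ?_ (fun i' => ?_) i <;> refine Fin.cases ?_ (fun j' => ?_) j
    · simp only [Fin.cons_zero, if_true]
      exact ⟨hB.self_eq_zero _, hB.self_eq_zero _, x.2.2.2.2⟩
    · simp only [Fin.cons_zero, Fin.cons_succ, if_neg (Fin.succ_ne_zero j').symm]
      exact ⟨(he j').2, (hf j').1, (he j').1⟩
    · simp only [Fin.cons_zero, Fin.cons_succ, if_neg (Fin.succ_ne_zero i')]
      refine ⟨?_, ?_, ?_⟩
      · rw [← hB.neg_eq, (he i').2, neg_zero]
      · rw [← hB.neg_eq, (hf i').1, neg_zero]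
      · rw [← hB.neg_eq, (hf i').2, neg_zero]
    · simp only [Fin.cons_succ, Fin.succ_inj]
      exact x.1.2 i' j'⟩
  left_inv _ := by simp only [Fin.cons_self_tail, Subtype.coe_eta]
  right_inv := by
    rintro ⟨⟨s, hs⟩, ⟨w, hw⟩⟩
    refine Sigma.ext (Subtype.ext (by
      show Fin.tail (Fin.cons w s : Fin (k + 1) → V × V) = s
      exact Fin.tail_cons _ _)) ?_
    apply (Subtype.heq_iff_coe_eq ?_).2
    · simp
    · intro x
      simp [Fin.tail_cons]

theorem cnt2_finite (K : Type*) {V : Type*} [Field K] [Fintype K] [AddCommGroup V] [Module K V]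
    [FiniteDimensional K V] : Finite V := Module.finite_of_finite K

variable [Fintype K] [FiniteDimensional K V]

omit [Fintype K] in
theorem cnt2_finrank_ker (B : LinearMap.BilinForm K V) (hB : B.IsAlt) {k : ℕ}
    (s : Cnt2Frame B k) :
    finrank K (LinearMap.ker (cnt2Coord B s.1)) = finrank K V - 2 * k := by
  have h1 := LinearMap.finrank_range_add_finrank_ker (cnt2Coord B s.1)
  rw [LinearMap.range_eq_top.2 (cnt2_surjective B hB s), finrank_top,
    Module.finrank_fintype_fun_eq_card, Fintype.card_sum, Fintype.card_fin] at h1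
  omega

/-- the number of solutions `f ∈ P` of `φ f = 1` for a nonzero functional `φ` on `P`. -/
theorem cnt2_card_fiber {P : Type*} [AddCommGroup P] [Module K P] [FiniteDimensional K P]
    (φ : P →ₗ[K] K) (hφ : ∃ v, φ v ≠ 0) :
    Nat.card {f : P // φ f = 1} = Fintype.card K ^ (finrank K P - 1) := by
  obtain ⟨v, hv⟩ := hφ
  have hsurj : Function.Surjective φ := by
    intro c
    refine ⟨(c / φ v) • v, ?_⟩
    rw [map_smul, smul_eq_mul, div_mul_cancel₀ _ hv]
  obtain ⟨f0, hf0⟩ := hsurj 1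
  have e : {f : P // φ f = 1} ≃ LinearMap.ker φ :=
    { toFun := fun f => ⟨f.1 - f0, by rw [LinearMap.mem_ker, map_sub, f.2, hf0, sub_self]⟩
      invFun := fun g => ⟨g.1 + f0, by rw [map_add, LinearMap.mem_ker.1 g.2, hf0, zero_add]⟩
      left_inv := fun f => by simp
      right_inv := fun g => by simp }
  rw [Nat.card_congr e]
  have h1 := LinearMap.finrank_range_add_finrank_ker φ
  rw [LinearMap.range_eq_top.2 hsurj, finrank_top, finrank_self] at h1
  have h2 := Module.natCard_eq_pow_finrank (K := K) (V := ↥(LinearMap.ker φ))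
  rw [Nat.card_eq_fintype_card (α := K)] at h2
  rw [h2]
  congr 1
  omega

/-- the number of extensions of a frame -/
theorem cnt2_card_ext (B : LinearMap.BilinForm K V) (hB : B.IsAlt)
    (hnd : ∀ x, (∀ y, B x y = 0) → x = 0) {k : ℕ} (s : Cnt2Frame B k) :
    Nat.card (Cnt2Ext B s.1) = (Fintype.card K ^ (finrank K V - 2 * k) - 1) *
      Fintype.card K ^ (finrank K V - 2 * k - 1) := by
  classical
  have : Finite V := cnt2_finite K
  set P := LinearMap.ker (cnt2Coord B s.1) with hP
  have hfP : finrank K P = finrank K V - 2 * k := cnt2_finrank_ker B hB s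
  -- the equivalence with the sigma type
  let e : Cnt2Ext B s.1 ≃ Σ e : {e : P // e ≠ 0}, {f : P // B (e.1 : V) (f : V) = 1} :=
    { toFun := fun w => ⟨⟨⟨w.1.1, w.2.1⟩, by
          intro h0
          have h1 : w.1.1 = 0 := congrArg Subtype.val h0
          have h2 := w.2.2.2
          rw [h1, map_zero, LinearMap.zero_apply] at h2
          exact zero_ne_one h2⟩, ⟨⟨w.1.2, w.2.2.1⟩, w.2.2.2⟩⟩
      invFun := fun x => ⟨(x.1.1.1, x.2.1.1), x.1.1.2, x.2.1.2, x.2.2⟩
      left_inv := fun w => rfl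
      right_inv := fun x => rfl }
  rw [Nat.card_congr e]
  have : Finite P := Finite.of_injective (fun x : P => (x : V)) Subtype.val_injective
  let _ : Fintype {e : P // e ≠ 0} := Fintype.ofFinite _
  rw [Nat.card_sigma]
  have hfib : ∀ e : {e : P // e ≠ 0}, Nat.card {f : P // B (e.1 : V) (f : V) = 1} =
      Fintype.card K ^ (finrank K V - 2 * k - 1) := by
    intro e
    have h := cnt2_card_fiber (K := K) (P := P) ((B (e.1 : V)).comp P.subtype) (by
      -- a vector of `P` not orthogonal to `e`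
      by_contra hcon
      push Not at hcon
      apply e.2
      apply Subtype.ext
      apply hnd
      intro y
      -- decompose `y`
      set a := cnt2Coord B s.1 y with ha
      set y' := y - ∑ x, a x • cnt2Fam s.1 x with hy'
      have hy'P : y' ∈ P := by
        rw [hP, LinearMap.mem_ker, hy', map_sub, map_sum]
        rw [sub_eq_zero]
        funext z
        simp only [map_smul, cnt2Coord_fam B hB s, Finset.sum_apply, Pi.smul_apply,
          Pi.single_apply, smul_eq_mul, mul_ite, mul_one, mul_zero, Finset.sum_ite_eq,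
          Finset.mem_univ, if_true]
        rfl
      have h1 := hcon ⟨y', hy'P⟩
      simp only [LinearMap.comp_apply, Submodule.subtype_apply] at h1
      have h2 : B (e.1 : V) (∑ x, a x • cnt2Fam s.1 x) = 0 := by
        rw [map_sum]
        apply Finset.sum_eq_zero
        intro x _
        rw [map_smul]
        have hk := (cnt2_mem_ker B s.1 (e.1 : V)).1 e.1.2
        rcases x with i | i
        · simp only [cnt2Fam, Sum.elim_inl, (hk i).2, smul_zero]
        · simp only [cnt2Fam, Sum.elim_inr, (hk i).1, smul_zero]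
      have h3 : y = y' + ∑ x, a x • cnt2Fam s.1 x := by rw [hy']; abel
      rw [h3, map_add, h1, h2, add_zero])
    rw [hfP] at h
    exact h
  simp only [hfib]
  rw [Finset.sum_const, smul_eq_mul, Finset.card_univ, ← Nat.card_eq_fintype_card]
  congr 1
  have h1 := Finite.card_option (α := {e : P // e ≠ 0})
  rw [Nat.card_congr (Equiv.optionSubtypeNe (0 : P))] at h1
  have h2 := Module.natCard_eq_pow_finrank (K := K) (V := ↥P)
  rw [hfP, Nat.card_eq_fintype_card (α := K)] at h2
  omega

/-- the number of frames -/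
theorem cnt2_card_frame (B : LinearMap.BilinForm K V) (hB : B.IsAlt)
    (hnd : ∀ x, (∀ y, B x y = 0) → x = 0) (k : ℕ) :
    Nat.card (Cnt2Frame B k) =
      ∏ j ∈ Finset.range k, ((Fintype.card K ^ (finrank K V - 2 * j) - 1) *
        Fintype.card K ^ (finrank K V - 2 * j - 1)) := by
  classical
  have : Finite V := cnt2_finite K
  induction k with
  | zero =>
    rw [Finset.prod_range_zero]
    have : Unique (Cnt2Frame B 0) :=
      { default := ⟨Fin.elim0, fun i => i.elim0⟩
        uniq := fun s => Subtype.ext (funext fun i => i.elim0) }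
    exact Nat.card_unique
  | succ k ih =>
    let _ : Fintype (Cnt2Frame B k) := Fintype.ofFinite _
    rw [Nat.card_congr (cnt2Equiv B hB k), Nat.card_sigma, Finset.prod_range_succ, ← ih]
    simp only [cnt2_card_ext B hB hnd]
    rw [Finset.sum_const, smul_eq_mul, Finset.card_univ, Nat.card_eq_fintype_card]

/-- the nondegenerate subspaces of dimension `m` -/
abbrev Cnt2ND (B : LinearMap.BilinForm K V) (m : ℕ) : Type _ :=
  {W : Submodule K V // finrank K W = m ∧ ∀ u ∈ W, u ≠ 0 → ∃ v ∈ W, B u v ≠ 0}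

omit [Fintype K] [FiniteDimensional K V] in
theorem cnt2_coord_sum (B : LinearMap.BilinForm K V) (hB : B.IsAlt) {k : ℕ} (s : Cnt2Frame B k)
    (c : Fin k ⊕ Fin k → K) : cnt2Coord B s.1 (∑ x, c x • cnt2Fam s.1 x) = c := by
  rw [map_sum]
  funext y
  simp only [map_smul, cnt2Coord_fam B hB s, Finset.sum_apply, Pi.smul_apply, Pi.single_apply,
    smul_eq_mul, mul_ite, mul_one, mul_zero, Finset.sum_ite_eq, Finset.mem_univ, if_true]

/-- the subspace spanned by a frame -/
noncomputable def cnt2Span (B : LinearMap.BilinForm K V) (hB : B.IsAlt) (k : ℕ)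
    (s : Cnt2Frame B k) : Cnt2ND B (2 * k) :=
  ⟨Submodule.span K (Set.range (cnt2Fam s.1)), by
    rw [finrank_span_eq_card (cnt2_linearIndependent B hB s), Fintype.card_sum, Fintype.card_fin,
      two_mul], by
    intro u hu hu0
    obtain ⟨c, rfl⟩ := (Submodule.mem_span_range_iff_exists_fun K).1 hu
    have hc : c ≠ 0 := by
      rintro rfl
      apply hu0
      simp
    obtain ⟨x, hx⟩ := Function.ne_iff.1 hc
    have hcoord := congrFun (cnt2_coord_sum B hB s c) x
    rcases x with i | i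
    · refine ⟨(s.1 i).2, Submodule.subset_span ⟨Sum.inr i, rfl⟩, ?_⟩
      rw [cnt2Coord_inl] at hcoord
      rw [hcoord]
      exact hx
    · refine ⟨(s.1 i).1, Submodule.subset_span ⟨Sum.inl i, rfl⟩, ?_⟩
      rw [cnt2Coord_inr] at hcoord
      intro h0
      rw [h0, neg_zero] at hcoord
      exact hx hcoord.symm⟩

/-- the frames spanning a given subspace are the frames of that subspace -/
noncomputable def cnt2FiberEquiv (B : LinearMap.BilinForm K V) (hB : B.IsAlt) (k : ℕ)
    (W : Cnt2ND B (2 * k)) :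
    {s : Cnt2Frame B k // cnt2Span B hB k s = W} ≃ Cnt2Frame (B.restrict W.1) k where
  toFun s := ⟨fun i => (⟨(s.1.1 i).1, by
      have h := congrArg Subtype.val s.2
      rw [← h]
      exact Submodule.subset_span ⟨Sum.inl i, rfl⟩⟩, ⟨(s.1.1 i).2, by
      have h := congrArg Subtype.val s.2
      rw [← h]
      exact Submodule.subset_span ⟨Sum.inr i, rfl⟩⟩), fun i j => s.1.2 i j⟩
  invFun t := ⟨⟨fun i => (((t.1 i).1 : V), ((t.1 i).2 : V)), fun i j => t.2 i j⟩, by
    apply Subtype.ext
    show Submodule.span K (Set.range (cnt2Fam fun i => (((t.1 i).1 : V), ((t.1 i).2 : V)))) = W.1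
    apply Submodule.eq_of_le_of_finrank_eq
    · rw [Submodule.span_le]
      rintro _ ⟨x, rfl⟩
      rcases x with i | i
      · exact (t.1 i).1.2
      · exact (t.1 i).2.2
    · have h3 := finrank_span_eq_card (cnt2_linearIndependent B hB
        ⟨fun i => (((t.1 i).1 : V), ((t.1 i).2 : V)), fun i j => t.2 i j⟩)
      rw [Fintype.card_sum, Fintype.card_fin, ← two_mul] at h3
      exact h3.trans W.2.1.symm⟩
  left_inv s := by
    apply Subtype.ext
    apply Subtype.ext
    rfl
  right_inv t := by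
    apply Subtype.ext
    rfl

/-- the two counts of the frames -/
theorem cnt2_main (B : LinearMap.BilinForm K V) (hB : B.IsAlt)
    (hnd : ∀ x, (∀ y, B x y = 0) → x = 0) (k : ℕ) :
    Nat.card (Cnt2ND B (2 * k)) *
        ∏ j ∈ Finset.range k, ((Fintype.card K ^ (2 * k - 2 * j) - 1) *
          Fintype.card K ^ (2 * k - 2 * j - 1)) =
      ∏ j ∈ Finset.range k, ((Fintype.card K ^ (finrank K V - 2 * j) - 1) *
        Fintype.card K ^ (finrank K V - 2 * j - 1)) := by
  classical
  have : Finite V := cnt2_finite K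
  have : Finite (Cnt2ND B (2 * k)) :=
    Finite.of_injective (fun W : Cnt2ND B (2 * k) => (W.1 : Set V)) fun W W' h =>
      Subtype.ext (SetLike.coe_injective h)
  let _ : Fintype (Cnt2ND B (2 * k)) := Fintype.ofFinite _
  rw [← cnt2_card_frame B hB hnd k,
    Nat.card_congr (Equiv.sigmaFiberEquiv (cnt2Span B hB k)).symm, Nat.card_sigma]
  have hfib : ∀ W : Cnt2ND B (2 * k), Nat.card {s : Cnt2Frame B k // cnt2Span B hB k s = W} =
      ∏ j ∈ Finset.range k, ((Fintype.card K ^ (2 * k - 2 * j) - 1) *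
          Fintype.card K ^ (2 * k - 2 * j - 1)) := by
    intro W
    rw [Nat.card_congr (cnt2FiberEquiv B hB k W)]
    have h := cnt2_card_frame (K := K) (V := W.1) (B.restrict W.1) (fun x => hB _) (by
      intro x hx
      by_contra hx0
      have hx0' : (x : V) ≠ 0 := fun h0 => hx0 (Subtype.ext h0)
      obtain ⟨v, hv, hne⟩ := W.2.2 x x.2 hx0'
      exact hne (hx ⟨v, hv⟩)) k
    rw [h, W.2.1]
  simp only [hfib]
  rw [Finset.sum_const, smul_eq_mul, Finset.card_univ, Nat.card_eq_fintype_card]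

end abstract

section cnt
variable {F : Type*} [Field F] [Fintype F] {p : ℕ} [Fact p.Prime] [CharP F p]

theorem exists_dvd_of_dvd_card_nd (d m : ℕ) (hme : Even m) (hmd : m ≤ 2 * d) (r : ℕ) (hr : r.Prime)
    (hrp : r ≠ p)
    (h : r ∣ Nat.card {W : Submodule F (Fin d ⊕ Fin d → F) // finrank F ↥W = m ∧
      (∀ u ∈ W, u ≠ 0 → ∃ v ∈ W, Cfsg.sympForm d F u v ≠ 0)}) :
    ∃ j, 2 * j < m ∧ r ∣ Fintype.card F ^ (2 * (d - j)) - 1 := by
  have _ := hmd
  obtain ⟨k, rfl⟩ := hme
  rw [← two_mul] at h ⊢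
  have e : {W : Submodule F (Fin d ⊕ Fin d → F) // finrank F ↥W = 2 * k ∧
      (∀ u ∈ W, u ≠ 0 → ∃ v ∈ W, Cfsg.sympForm d F u v ≠ 0)} ≃
      Cnt2ND (Cfsg.Agent.Lib.Helper2.SpIsom.sympBilin d F) (2 * k) :=
    Equiv.subtypeEquivRight fun W => by
      simp only [Cfsg.Agent.Lib.Helper2.SpIsom.sympBilin_apply]
  rw [Nat.card_congr e] at h
  have hmain := cnt2_main (Cfsg.Agent.Lib.Helper2.SpIsom.sympBilin d F)
    Cfsg.Agent.Lib.Helper2.SpIsom.sympBilin_isAlt (fun x hx =>
      Cfsg.Agent.Lib.Helper2.SpIsom.sympForm_nondeg x fun y => by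
        rw [← Cfsg.Agent.Lib.Helper2.SpIsom.sympBilin_apply]; exact hx y) k
  have hfin : finrank F (Fin d ⊕ Fin d → F) = 2 * d := by
    rw [Module.finrank_fintype_fun_eq_card, Fintype.card_sum, Fintype.card_fin]
    omega
  rw [hfin] at hmain
  have hdvd : r ∣ ∏ j ∈ Finset.range k, ((Fintype.card F ^ (2 * d - 2 * j) - 1) *
        Fintype.card F ^ (2 * d - 2 * j - 1)) := by
    rw [← hmain]
    exact Dvd.dvd.mul_right h _
  obtain ⟨j, hj, hrj⟩ := (Prime.dvd_finsetProd_iff hr.prime _).1 hdvd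
  rw [Finset.mem_range] at hj
  refine ⟨j, by omega, ?_⟩
  rcases (Nat.Prime.dvd_mul hr).1 hrj with h1 | h1
  · rw [Nat.mul_sub]
    exact h1
  · exfalso
    have h2 := hr.dvd_of_dvd_pow h1
    obtain ⟨n, hp, hn⟩ := FiniteField.card F p
    rw [hn] at h2
    have h3 := hr.dvd_of_dvd_pow h2
    exact hrp ((Nat.prime_dvd_prime_iff_eq hr hp).1 h3)

end cnt

end Cfsg.Agent.Lib.Helper1.NDSp
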