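import Mathlib

set_option autoImplicit false

namespace Cfsg.Agent.Lib.Lead.ExtAct

open scoped Pointwise

section
variable {A V : Type*} [Group A] [CommGroup V] [MulDistribMulAction A V]
  (p : ℕ) [Module (ZMod p) (Additive V)]

/-- the representation on `Additive V` coming from an action by automorphisms -/
noncomputable def addRep : Representation (ZMod p) A (Additive V) where
  toFun a := AddMonoidHom.toZModLinearMap p
        (MonoidHom.toAdditive (MulDistribMulAction.toMonoidHom V a))
  map_one' := by
    ext x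
    show Additive.ofMul ((1 : A) • Additive.toMul x) = x
    rw [one_smul]; rfl
  map_mul' := by
    intro a b
    ext x
    show Additive.ofMul ((a * b) • Additive.toMul x) = Additive.ofMul (a • (b • Additive.toMul x))
    rw [mul_smul]

theorem addRep_apply (a : A) (x : Additive V) :
    addRep (A := A) p a x = Additive.ofMul (a • Additive.toMul x) := rfl

theorem exists_invariant_complement_aux [Finite A] [Fact p.Prime] (hcop : ¬ p ∣ Nat.card A)
    (U : Subgroup V) (hU : ∀ a : A, ∀ x ∈ U, a • x ∈ U) :
    ∃ W : Subgroup V, (∀ a : A, ∀ x ∈ W, a • x ∈ W) ∧ U ⊓ W = ⊥ ∧ U ⊔ W = ⊤ := by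
  classical
  set ρ : Representation (ZMod p) A (Additive V) := addRep (A := A) (V := V) p with hρdef
  haveI : NeZero (Nat.card A : ZMod p) := ⟨by
    rw [Ne, ZMod.natCast_eq_zero_iff]; exact hcop⟩
  let σ : Subrepresentation ρ :=
    { toSubmodule := AddSubgroup.toZModSubmodule p (Subgroup.toAddSubgroup U)
      apply_mem_toSubmodule := by
        intro a v hv
        rw [AddSubgroup.mem_toZModSubmodule] at hv ⊢
        exact hU a _ hv }
  have hσ : ∀ v : Additive V, v ∈ σ ↔ Additive.toMul v ∈ U := fun v => Iff.rfl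
  obtain ⟨τ, hτ⟩ := exists_isCompl σ
  have hτmem : ∀ (a : A) (v : Additive V), v ∈ τ → ρ a v ∈ τ := fun a v hv => τ.apply_mem_toSubmodule a hv
  let W : Subgroup V :=
    { carrier := {x | Additive.ofMul x ∈ τ}
      one_mem' := τ.toSubmodule.zero_mem
      mul_mem' := fun {x y} hx hy => τ.toSubmodule.add_mem hx hy
      inv_mem' := fun {x} hx => τ.toSubmodule.neg_mem hx }
  have hW : ∀ x : V, x ∈ W ↔ Additive.ofMul x ∈ τ := fun x => Iff.rfl
  refine ⟨W, ?_, ?_, ?_⟩
  · intro a x hx
    exact hτmem a _ hx
  · rw [eq_bot_iff]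
    intro x hx
    have h1 : Additive.ofMul x ∈ (σ ⊓ τ : Subrepresentation ρ) := by
      have : Additive.ofMul x ∈ ((σ ⊓ τ : Subrepresentation ρ) : Set (Additive V)) := by
        rw [Subrepresentation.coe_inf]; exact ⟨hx.1, hx.2⟩
      exact this
    rw [hτ.inf_eq_bot] at h1
    have h2 : Additive.ofMul x = 0 := h1
    rw [Subgroup.mem_bot]
    exact h2
  · rw [eq_top_iff]
    intro x _
    have h1 : Additive.ofMul x ∈ ((σ ⊔ τ : Subrepresentation ρ) : Set (Additive V)) := by
      rw [hτ.sup_eq_top]; trivial
    rw [Subrepresentation.coe_sup] at h1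
    obtain ⟨u, hu, w, hw, huw⟩ := h1
    have : x = Additive.toMul u * Additive.toMul w := by
      have := congrArg Additive.toMul huw
      simpa using this.symm
    rw [this]
    exact Subgroup.mul_mem_sup hu hw

end

section
variable {A V : Type*} [Group A] [Finite A] [Group V] [MulDistribMulAction A V]

/-- Maschke's theorem in group form: an invariant subgroup of an elementary abelian `p`-group
under the action of a `p'`-group has an invariant complement. -/
theorem exists_invariant_complement (p : ℕ) [Fact p.Prime]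
    (hcomm : ∀ x y : V, x * y = y * x) (hexp : ∀ x : V, x ^ p = 1) (hcop : ¬ p ∣ Nat.card A)
    (U : Subgroup V) (hU : ∀ a : A, ∀ x ∈ U, a • x ∈ U) :
    ∃ W : Subgroup V, (∀ a : A, ∀ x ∈ W, a • x ∈ W) ∧ U ⊓ W = ⊥ ∧ U ⊔ W = ⊤ := by
  classical
  let iC : CommGroup V := { (inferInstance : Group V) with mul_comm := hcomm }
  let iM : Module (ZMod p) (Additive V) := @AddCommGroup.zmodModule p (Additive V) _ (by
    intro x
    show Additive.ofMul (Additive.toMul x ^ p) = 0
    rw [hexp]; rfl)
  exact @exists_invariant_complement_aux A V _ iC _ p iM _ _ hcop U hU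

end

end Cfsg.Agent.Lib.Lead.ExtAct
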