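import Mathlib
import Cfsg.Agent.Lib.Lead.CoprimeSylow3

set_option autoImplicit false

namespace Cfsg.Agent.Lib.Lead.ExtAct

open scoped Pointwise

section
variable {A G : Type*} [Group A] [Finite A] [Group G] [Finite G] [MulDistribMulAction A G]

/-- Existence of an invariant Sylow subgroup for a coprime action (external form). -/
theorem exists_invariant_sylow (hcop : (Nat.card A).Coprime (Nat.card G))
    (hsol : Group.IsSolvable A ∨ Group.IsSolvable G) (p : ℕ) [Fact p.Prime] :
    ∃ P : Sylow p G, ∀ (a : A) (x : G), x ∈ (P : Subgroup G) → a • x ∈ (P : Subgroup G) := by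
  classical
  let φ : A →* MulAut G := MulDistribMulAction.toMulAut A G
  let X := G ⋊[φ] A
  let i : G →* X := SemidirectProduct.inl
  let j : A →* X := SemidirectProduct.inr
  have hi : Function.Injective i := SemidirectProduct.inl_injective
  have hj : Function.Injective j := SemidirectProduct.inr_injective
  haveI : Finite X := Finite.of_equiv _ SemidirectProduct.equivProd.symm
  have hKn : (i.range).Normal := by
    rw [SemidirectProduct.range_inl_eq_ker_rightHom]; infer_instance
  have hcA : Nat.card j.range = Nat.card A := Nat.card_congr (MonoidHom.ofInjective hj).toEquiv.symm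
  have hcK : Nat.card i.range = Nat.card G := Nat.card_congr (MonoidHom.ofInjective hi).toEquiv.symm
  have hsol' : Group.IsSolvable j.range ∨ Group.IsSolvable i.range := by
    rcases hsol with h | h
    · left
      exact solvable_of_surjective (f := (MonoidHom.ofInjective hj).toMonoidHom)
        (MonoidHom.ofInjective hj).surjective
    · right
      exact solvable_of_surjective (f := (MonoidHom.ofInjective hi).toMonoidHom)
        (MonoidHom.ofInjective hi).surjective
  obtain ⟨P', hP'⟩ := coprime_invariant_sylow_exists j.range i.range
    (by rw [Subgroup.normalizer_eq_top_iff.mpr hKn]; exact le_top) (by rw [hcA, hcK]; exact hcop) hsol' p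
  let e : G ≃* i.range := MonoidHom.ofInjective hi
  have hrange : (P' : Subgroup i.range) ≤ e.toMonoidHom.range := by
    intro x _
    exact ⟨e.symm x, e.apply_symm_apply x⟩
  have hinj : Function.Injective e.toMonoidHom := e.injective
  refine ⟨P'.comapOfInjective e.toMonoidHom hinj hrange, ?_⟩
  intro a x hx
  have hx' : e x ∈ (P' : Subgroup i.range) := hx
  show e (a • x) ∈ (P' : Subgroup i.range)
  have h1 : j a ∈ Subgroup.normalizer (((P' : Subgroup i.range).map (i.range).subtype : Subgroup X) : Set X) :=
    hP' ⟨a, rfl⟩
  have h2 : i x ∈ (P' : Subgroup i.range).map (i.range).subtype := ⟨e x, hx', rfl⟩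
  have h3 : j a * i x * (j a)⁻¹ ∈ (P' : Subgroup i.range).map (i.range).subtype :=
    (Subgroup.mem_normalizer_iff.mp h1 (i x)).mp h2
  have h4 : i (a • x) = j a * i x * (j a)⁻¹ := by
    have := SemidirectProduct.inl_aut (φ := φ) a x
    rw [map_inv] at this
    exact this
  rw [← h4] at h3
  obtain ⟨y, hy, hy2⟩ := h3
  have : y = e (a • x) := Subtype.ext hy2
  rw [← this]; exact hy

end

end Cfsg.Agent.Lib.Lead.ExtAct
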