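import Mathlib
import Cfsg.Agent.Lib.Lead.ExtAct1
import Cfsg.Agent.Lib.Lead.ExtAct2
import Cfsg.Agent.Lib.Lead.Frattini

set_option autoImplicit false

namespace Cfsg.Agent.Lib.Lead.ExtAct

open scoped Pointwise

section
variable (A : Type*) {G : Type*} [Group A] [Group G] [MulDistribMulAction A G]

/-- invariance of a subgroup under an action by automorphisms -/
abbrev Inv (H : Subgroup G) : Prop := ∀ a : A, ∀ x ∈ H, a • x ∈ H

/-- maximal invariant proper subgroups -/
def MaxInv (M : Subgroup G) : Prop :=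
  M ≠ ⊤ ∧ (∀ a : A, ∀ x ∈ M, a • x ∈ M) ∧
    ∀ L : Subgroup G, M < L → (∀ a : A, ∀ x ∈ L, a • x ∈ L) → L = ⊤

variable {A}

theorem Inv.smul_mem_iff {H : Subgroup G} (h : Inv A H) (a : A) (x : G) : a • x ∈ H ↔ x ∈ H := by
  constructor
  · intro hx
    have := h a⁻¹ _ hx
    rwa [inv_smul_smul] at this
  · exact h a x

theorem inv_frattini : Inv A (frattini G) := by
  intro a x hx
  have h := (Subgroup.characteristic_iff_le_comap.mp (frattini_characteristic (G := G)))
    (MulDistribMulAction.toMulAut A G a)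
  exact h hx

theorem inv_sup {H K : Subgroup G} (hH : Inv A H) (hK : Inv A K) : Inv A (H ⊔ K) := by
  intro a
  have h : H ⊔ K ≤ (H ⊔ K).comap (MulDistribMulAction.toMonoidHom G a) :=
    sup_le (fun x hx => Subgroup.mem_sup_left (hH a x hx))
      (fun x hx => Subgroup.mem_sup_right (hK a x hx))
  exact fun x hx => h hx

theorem inv_normalizer {H : Subgroup G} (hH : Inv A H) : Inv A (Subgroup.normalizer (H : Set G)) := by
  intro a x hx
  rw [Subgroup.mem_normalizer_iff] at hx ⊢
  intro m
  have h1 : a • x * m * (a • x)⁻¹ = a • (x * (a⁻¹ • m) * x⁻¹) := by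
    rw [smul_mul', smul_mul', smul_inv', smul_inv_smul]
  rw [h1, hH.smul_mem_iff, ← hx, hH.smul_mem_iff]

theorem exists_maxInv [Finite G] (H : Subgroup G) (hH : H ≠ ⊤) (hinv : Inv A H) :
    ∃ M : Subgroup G, H ≤ M ∧ MaxInv A M := by
  classical
  have hfin : Set.Finite {K : Subgroup G | H ≤ K ∧ K ≠ ⊤ ∧ Inv A K} := Set.toFinite _
  obtain ⟨M, hM, hmax⟩ := hfin.exists_maximal ⟨H, le_refl _, hH, hinv⟩
  refine ⟨M, hM.1, hM.2.1, hM.2.2, ?_⟩
  intro L hML hL
  by_contra hne
  have hL' : L ∈ {K : Subgroup G | H ≤ K ∧ K ≠ ⊤ ∧ Inv A K} := ⟨hM.1.trans hML.le, hne, hL⟩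
  have := hmax hL' hML.le
  exact absurd (le_antisymm hML.le this) hML.ne

theorem MaxInv.frattini_le [Finite G] {M : Subgroup G} (hM : MaxInv A M) : frattini G ≤ M := by
  by_contra hle
  have hlt : M < M ⊔ frattini G := by
    refine lt_of_le_of_ne le_sup_left ?_
    intro h
    apply hle
    rw [h]; exact le_sup_right
  have htop := hM.2.2 _ hlt (inv_sup hM.2.1 inv_frattini)
  exact hM.1 (frattini_nongenerating htop)

/-- the induced action on the quotient by an invariant normal subgroup -/
@[reducible] def quotAction (N : Subgroup G) [N.Normal] (hN : Inv A N) : MulDistribMulAction A (G ⧸ N) where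
  smul a := QuotientGroup.map N N (MulDistribMulAction.toMonoidHom G a) (fun x hx => hN a x hx)
  one_smul := by
    intro q
    induction q using QuotientGroup.induction_on with
    | H x =>
      show ((((1 : A) • x : G) : G ⧸ N)) = x
      rw [one_smul]
  mul_smul := by
    intro a b q
    induction q using QuotientGroup.induction_on with
    | H x =>
      show (((a * b) • x : G) : G ⧸ N) = ((a • (b • x) : G) : G ⧸ N)
      rw [mul_smul]
  smul_mul := by
    intro a x y
    exact map_mul (QuotientGroup.map N N (MulDistribMulAction.toMonoidHom G a) _) x y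
  smul_one := by
    intro a
    exact map_one (QuotientGroup.map N N (MulDistribMulAction.toMonoidHom G a) _)

theorem quotAction_mk (N : Subgroup G) [N.Normal] (hN : Inv A N) (a : A) (x : G) :
    (quotAction N hN).toMulAction.toSMul.smul a (x : G ⧸ N) = ((a • x : G) : G ⧸ N) := rfl

end

end Cfsg.Agent.Lib.Lead.ExtAct
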