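import Mathlib
import Cfsg.Prelude
import Cfsg.Agent.Lib.Helper3.FEO0
import Cfsg.Agent.Lib.Helper2.OPar_MOD
import Cfsg.Agent.Lib.Helper5.OmegaAdjust

/-! S5977/S5978 board, FO-P: every isometry `h` is `ω ρ` with `ω ∈ Ω` and `ρ` an isometry supported
on a given nondegenerate plane `P` (a product of at most two reflections in vectors of `P`). -/

set_option autoImplicit false

namespace Cfsg.Agent.Lib.Helper3.FEO

open Module Matrix Polynomial QuadraticMap
open Cfsg.Agent.Lib.Helper2.MaxTS2 Cfsg.Agent.Lib.Helper2.OrthEl Cfsg.Agent.Lib.Helper2.OrthNd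
open Cfsg.Agent.Lib.Helper3.FESp Cfsg.Agent.Lib.Helper5.OPar

section aux

open Cfsg.Agent.Lib.Helper2 Cfsg.Agent.Lib.Helper2.CDG Cfsg.Agent.Lib.Helper2.ReflGen
open Cfsg.Agent.Lib.Helper5.OmegaCrit Cfsg.Agent.Lib.Helper5.OmegaAdjust

variable {F : Type*} [Field F] {ι : Type} [Fintype ι] [DecidableEq ι]
variable {Q : QuadraticForm F (ι → F)}

/-- the product of reflections in a list of vectors, as an element of the isometry group -/
noncomputable def foP_prodRefl : (vs : List (ι → F)) → (∀ v ∈ vs, Q v ≠ 0) →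
    ↥(Cfsg.isometryGroup F ⇑Q)
  | [], _ => 1
  | v :: vs, h => refl Q v (h v (List.mem_cons_self)) *
      foP_prodRefl vs (fun w hw => h w (List.mem_cons_of_mem _ hw))

theorem foP_prodRefl_coe (vs : List (ι → F)) (hvs : ∀ v ∈ vs, Q v ≠ 0) :
    ((foP_prodRefl vs hvs : Matrix.GeneralLinearGroup ι F) : Matrix ι ι F) =
      (vs.map (fun v => Cfsg.reflectionMatrix ⇑Q v)).prod := by
  induction vs with
  | nil => rfl
  | cons v vs ih =>
    rw [List.map_cons, List.prod_cons, ← ih (fun w hw => hvs w (List.mem_cons_of_mem _ hw))]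
    rfl

theorem foP_prodRefl_mem (P : Submodule F (ι → F)) (vs : List (ι → F))
    (hvs : ∀ v ∈ vs, Q v ≠ 0) (hP : ∀ v ∈ vs, v ∈ P) (x : ι → F) (hx : x ∈ P) :
    ((foP_prodRefl vs hvs : Matrix.GeneralLinearGroup ι F) : Matrix ι ι F) *ᵥ x ∈ P := by
  induction vs generalizing x with
  | nil =>
    show (1 : Matrix ι ι F) *ᵥ x ∈ P
    rw [Matrix.one_mulVec]; exact hx
  | cons v vs ih =>
    have h1 := ih (fun w hw => hvs w (List.mem_cons_of_mem _ hw))
      (fun w hw => hP w (List.mem_cons_of_mem _ hw)) x hx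
    show (((refl Q v (hvs v (List.mem_cons_self)) : Matrix.GeneralLinearGroup ι F) :
      Matrix ι ι F) * ((foP_prodRefl vs _ : Matrix.GeneralLinearGroup ι F) : Matrix ι ι F)) *ᵥ x ∈ P
    rw [← Matrix.mulVec_mulVec, refl_mulVec]
    exact P.sub_mem h1 (P.smul_mem _ (hP v (List.mem_cons_self)))

theorem foP_prodRefl_fix (P : Submodule F (ι → F)) (vs : List (ι → F))
    (hvs : ∀ v ∈ vs, Q v ≠ 0) (hP : ∀ v ∈ vs, v ∈ P) (x : ι → F)
    (hx : ∀ w ∈ P, polar (⇑Q) w x = 0) :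
    ((foP_prodRefl vs hvs : Matrix.GeneralLinearGroup ι F) : Matrix ι ι F) *ᵥ x = x := by
  induction vs with
  | nil =>
    show (1 : Matrix ι ι F) *ᵥ x = x
    rw [Matrix.one_mulVec]
  | cons v vs ih =>
    have h1 := ih (fun w hw => hvs w (List.mem_cons_of_mem _ hw))
      (fun w hw => hP w (List.mem_cons_of_mem _ hw))
    show (((refl Q v (hvs v (List.mem_cons_self)) : Matrix.GeneralLinearGroup ι F) :
      Matrix ι ι F) * ((foP_prodRefl vs _ : Matrix.GeneralLinearGroup ι F) : Matrix ι ι F)) *ᵥ x = x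
    rw [← Matrix.mulVec_mulVec, h1, refl_mulVec, hx v (hP v (List.mem_cons_self)), mul_zero,
      zero_smul, sub_zero]

omit [DecidableEq ι] in
theorem foP_exists_list [Fintype F]
    (P : Submodule F (ι → F)) (hP2 : finrank F P = 2)
    (hnd : P ⊓ LinearMap.BilinForm.orthogonal (QuadraticMap.polarBilin Q) P = ⊥)
    (ws : List (ι → F)) (hc : (ws.map (fun v => Q v)).prod ≠ 0) :
    ∃ vs : List (ι → F), (∀ v ∈ vs, Q v ≠ 0) ∧ (∀ v ∈ vs, v ∈ P) ∧
      Even (ws.length + vs.length) ∧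
      IsSquare ((ws.map (fun v => Q v)).prod * (vs.map (fun v => Q v)).prod) := by
  have hdim : 2 ≤ finrank F ↥P := by omega
  rcases Nat.even_or_odd ws.length with hev | hod
  · obtain ⟨w₁, hw₁, hQ₁⟩ := exists_value_sub P hnd hdim 1 one_ne_zero
    obtain ⟨w₂, hw₂, hQ₂⟩ := exists_value_sub P hnd hdim _ hc
    have hne₁ : Q w₁ ≠ 0 := by rw [hQ₁]; exact one_ne_zero
    have hne₂ : Q w₂ ≠ 0 := by rw [hQ₂]; exact hc
    refine ⟨[w₁, w₂], ?_, ?_, ?_, ?_⟩
    · intro v hv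
      rw [List.mem_cons, List.mem_singleton] at hv
      rcases hv with rfl | rfl
      · exact hne₁
      · exact hne₂
    · intro v hv
      rw [List.mem_cons, List.mem_singleton] at hv
      rcases hv with rfl | rfl
      · exact hw₁
      · exact hw₂
    · simp only [List.length_cons, List.length_nil]
      obtain ⟨r, hr⟩ := hev
      exact ⟨r + 1, by omega⟩
    · simp only [List.map_cons, List.map_nil, List.prod_cons, List.prod_nil, mul_one]
      rw [hQ₁, hQ₂, one_mul]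
      exact ⟨_, rfl⟩
  · obtain ⟨w, hw, hQw⟩ := exists_value_sub P hnd hdim _ hc
    have hne : Q w ≠ 0 := by rw [hQw]; exact hc
    refine ⟨[w], ?_, ?_, ?_, ?_⟩
    · intro v hv
      rw [List.mem_singleton] at hv
      rw [hv]; exact hne
    · intro v hv
      rw [List.mem_singleton] at hv
      rw [hv]; exact hw
    · simp only [List.length_cons, List.length_nil]
      obtain ⟨r, hr⟩ := hod
      exact ⟨r + 1, by omega⟩
    · simp only [List.map_cons, List.map_nil, List.prod_cons, List.prod_nil, mul_one]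
      rw [hQw]
      exact ⟨_, rfl⟩

end aux

/-! ### FO-P -/
theorem exists_omega_adjust {F : Type*} [Field F] [Fintype F] (hodd : Odd (Fintype.card F))
    {ι : Type} [Fintype ι] [DecidableEq ι] (Q : QuadraticForm F (ι → F))
    (hQ : (polarBilin Q).Nondegenerate) (hn : 2 ≤ Fintype.card ι)
    (h : (ι → F) ≃ₗ[F] (ι → F)) (hh : ∀ v, Q (h v) = Q v) (P : Submodule F (ι → F))
    (hP2 : finrank F P = 2) (hPn : NDeg Q P) :
    ∃ (ω : GL ι F) (ρ : (ι → F) ≃ₗ[F] (ι → F)), ω ∈ Cfsg.Geo.omegaGL ⇑Q ∧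
      (∀ v, Q (ρ v) = Q v) ∧ (∀ v ∈ P, ρ v ∈ P) ∧
      (∀ v, (∀ w ∈ P, polar (⇑Q) w v = 0) → ρ v = v) ∧
      ∀ v, (ω : Matrix ι ι F) *ᵥ (ρ v) = h v := by
  classical
  have hex : Fintype.card F ≠ 2 ∨ Fintype.card ι ≠ 4 := by
    left
    intro h2
    rw [h2] at hodd
    exact absurd hodd (by decide)
  obtain ⟨h₀, hh₀⟩ := Cfsg.Agent.Lib.Helper5.OmegaAdjust.exists_iso_of_linearEquiv h hh
  obtain ⟨ws, hws, hgm⟩ := Cfsg.Agent.Lib.Helper5.OmegaCrit.exists_list
    (Cfsg.Agent.Lib.Helper5.OmegaCrit.closure_R_all hQ hex hn) h₀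
  have hc := Cfsg.Agent.Lib.Helper5.OmegaAdjust.prod_Q_ne_zero ws hws
  have hnd : P ⊓ LinearMap.BilinForm.orthogonal (QuadraticMap.polarBilin Q) P = ⊥ :=
    disjoint_iff.1 hPn
  obtain ⟨vs, hvs0, hvsP, hpar, hsq⟩ := foP_exists_list P hP2 hnd ws hc
  set ρ₀ : ↥(Cfsg.isometryGroup F ⇑Q) := foP_prodRefl vs hvs0 with hρ₀
  have hρm := foP_prodRefl_coe vs hvs0
  -- membership in the commutator subgroup
  have hm1 : h₀ * ρ₀ ∈ commutator ↥(Cfsg.isometryGroup F ⇑Q) := by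
    rw [Cfsg.Agent.Lib.Helper5.OmegaCrit.criterion_all hQ hex hn (h₀ * ρ₀) (ws ++ vs) (by
      intro v hv
      rw [List.mem_append] at hv
      rcases hv with hv | hv
      · exact hws v hv
      · exact hvs0 v hv) (by
      rw [List.map_append, List.prod_append, ← hgm, ← hρm]; rfl)]
    rw [List.length_append, List.map_append, List.prod_append]
    exact ⟨hpar, hsq⟩
  have hm2 : ρ₀ * ρ₀ ∈ commutator ↥(Cfsg.isometryGroup F ⇑Q) := by
    rw [Cfsg.Agent.Lib.Helper5.OmegaCrit.criterion_all hQ hex hn (ρ₀ * ρ₀) (vs ++ vs) (by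
      intro v hv
      rw [List.mem_append] at hv
      rcases hv with hv | hv
      · exact hvs0 v hv
      · exact hvs0 v hv) (by
      rw [List.map_append, List.prod_append, ← hρm]; rfl)]
    rw [List.length_append, List.map_append, List.prod_append]
    exact ⟨⟨vs.length, rfl⟩, ⟨_, rfl⟩⟩
  have hm3 : h₀ * ρ₀⁻¹ ∈ commutator ↥(Cfsg.isometryGroup F ⇑Q) := by
    have : h₀ * ρ₀⁻¹ = (h₀ * ρ₀) * (ρ₀ * ρ₀)⁻¹ := by group
    rw [this]
    exact Subgroup.mul_mem _ hm1 (Subgroup.inv_mem _ hm2)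
  -- the linear equivalence of `ρ₀`
  have e1 : ((ρ₀ : GL ι F) : Matrix ι ι F) * (((ρ₀ : GL ι F)⁻¹ : GL ι F) : Matrix ι ι F) = 1 := by
    rw [← Units.val_mul, mul_inv_cancel]; rfl
  have e2 : (((ρ₀ : GL ι F)⁻¹ : GL ι F) : Matrix ι ι F) * ((ρ₀ : GL ι F) : Matrix ι ι F) = 1 := by
    rw [← Units.val_mul, inv_mul_cancel]; rfl
  let ρ : (ι → F) ≃ₗ[F] (ι → F) :=
    LinearEquiv.ofLinearMap (Matrix.mulVecLin ((ρ₀ : GL ι F) : Matrix ι ι F))
      (Matrix.mulVecLin (((ρ₀ : GL ι F)⁻¹ : GL ι F) : Matrix ι ι F))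
      (by rw [← Matrix.mulVecLin_mul, e1, Matrix.mulVecLin_one])
      (by rw [← Matrix.mulVecLin_mul, e2, Matrix.mulVecLin_one])
  have hρ : ∀ v, ρ v = ((ρ₀ : GL ι F) : Matrix ι ι F) *ᵥ v := fun v => rfl
  refine ⟨(Cfsg.isometryGroup F ⇑Q).subtype (h₀ * ρ₀⁻¹), ρ, ?_, ?_, ?_, ?_, ?_⟩
  · exact Subgroup.mem_map_of_mem _ hm3
  · intro v
    rw [hρ]
    exact ρ₀.2 v v
  · intro v hv
    rw [hρ]
    exact foP_prodRefl_mem P vs hvs0 hvsP v hv
  · intro v hv
    rw [hρ]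
    exact foP_prodRefl_fix P vs hvs0 hvsP v hv
  · intro v
    rw [hρ, ← hh₀ v, Matrix.mulVec_mulVec]
    congr 1
    show ((h₀ : GL ι F) : Matrix ι ι F) * (((ρ₀ : GL ι F)⁻¹ : GL ι F) : Matrix ι ι F) *
      ((ρ₀ : GL ι F) : Matrix ι ι F) = _
    rw [Matrix.mul_assoc, e2, Matrix.mul_one]

end Cfsg.Agent.Lib.Helper3.FEO
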