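import Mathlib
import Cfsg.Prelude
import Cfsg.Agent.Lib.Lead.FEO_P
import Cfsg.Agent.Lib.Helper2.OrthNdT
import Cfsg.Agent.Lib.Helper2.OrthElB

/-! S5677 board, P-PERM2: a block swap inside `Ω`.  For an orthogonal decomposition into
pairwise isometric nondegenerate blocks of dimension `≥ 2` (odd characteristic) there is an
element of `Ω` interchanging two given blocks and fixing every other block pointwise. -/

set_option autoImplicit false

namespace Cfsg.Agent.Lib.Lead.ODecPerm

open Module Matrix QuadraticMap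
open Cfsg.Agent.Lib.Helper2.MaxTS2 Cfsg.Agent.Lib.Helper2.OrthEl Cfsg.Agent.Lib.Helper2.OrthNd
open Cfsg.Agent.Lib.Helper2 Cfsg.Agent.Lib.Helper2.CDG Cfsg.Agent.Lib.Helper2.ReflGen
open Cfsg.Agent.Lib.Helper3.FEO

variable {F : Type*} [Field F] {ι : Type} [Fintype ι] [DecidableEq ι]
variable {Q : QuadraticForm F (ι → F)}

omit [Fintype ι] [DecidableEq ι] in
/-- the polar form against a list sum -/
theorem perm_polar_list_sum (v : ι → F) (l : List (ι → F)) :
    polar (⇑Q) v l.sum = (l.map (fun w => polar (⇑Q) v w)).sum := by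
  induction l with
  | nil => simp
  | cons w l ih =>
    rw [List.sum_cons, List.map_cons, List.sum_cons, polar_add_right, ih]

/-- a product of reflections in pairwise orthogonal vectors -/
theorem perm_prodRefl_apply (vs : List (ι → F)) (hvs : ∀ v ∈ vs, Q v ≠ 0)
    (hpw : vs.Pairwise (fun a b => polar (⇑Q) a b = 0)) (x : ι → F) :
    ((foP_prodRefl vs hvs : Matrix.GeneralLinearGroup ι F) : Matrix ι ι F) *ᵥ x =
      x - (vs.map (fun v => ((Q v)⁻¹ * polar (⇑Q) v x) • v)).sum := by
  induction vs with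
  | nil =>
    show (1 : Matrix ι ι F) *ᵥ x = _
    simp
  | cons v vs ih =>
    have hpw' := List.pairwise_cons.1 hpw
    have h1 := ih (fun w hw => hvs w (List.mem_cons_of_mem _ hw)) hpw'.2
    show (((refl Q v (hvs v (List.mem_cons_self)) : Matrix.GeneralLinearGroup ι F) :
      Matrix ι ι F) * ((foP_prodRefl vs _ : Matrix.GeneralLinearGroup ι F) : Matrix ι ι F)) *ᵥ x = _
    rw [← Matrix.mulVec_mulVec, h1, refl_mulVec, List.map_cons, List.sum_cons]
    have h2 : polar (⇑Q) v (vs.map (fun w => ((Q w)⁻¹ * polar (⇑Q) w x) • w)).sum = 0 := by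
      rw [perm_polar_list_sum, List.map_map]
      apply List.sum_eq_zero
      intro c hc
      rw [List.mem_map] at hc
      obtain ⟨w, hw, rfl⟩ := hc
      show polar (⇑Q) v (((Q w)⁻¹ * polar (⇑Q) w x) • w) = 0
      rw [polar_smul_right, hpw'.1 w hw, smul_zero]
    rw [polar_sub_right, h2, sub_zero]
    abel

omit [Fintype ι] [DecidableEq ι] in
theorem perm_map_sub (a b : ι → F) : Q (a - b) = Q a + Q b - polar (⇑Q) a b := by
  have h := QuadraticMap.map_add Q a (-b)
  rw [QuadraticMap.map_neg, polar_neg_right] at h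
  rw [sub_eq_add_neg, h]
  ring

set_option maxHeartbeats 1600000 in
/-- **P-PERM2** -/
theorem exists_block_swap {F : Type*} [Field F] [Fintype F] (hodd : Odd (Fintype.card F))
    {ι : Type} [Fintype ι] [DecidableEq ι] (Q : QuadraticForm F (ι → F))
    (hQ : (QuadraticMap.polarBilin Q).Nondegenerate) {t k : ℕ} (hk : 2 ≤ k)
    (D : Fin t → Submodule F (ι → F)) (hD : Cfsg.Geo.IsOrthogonalMDecomposition (⇑Q) k D)
    (l l' : Fin t) (hll : l ≠ l') :
    ∃ π : GL ι F, π ∈ Cfsg.Geo.omegaGL ⇑Q ∧ π ∈ Cfsg.Geo.decompositionStabilizer D ∧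
      (D l).map (Matrix.toLin' (π : Matrix ι ι F)) = D l' ∧
      (D l').map (Matrix.toLin' (π : Matrix ι ι F)) = D l ∧
      ∀ i, i ≠ l → i ≠ l' → ∀ x ∈ D i, (π : Matrix ι ι F) *ᵥ x = x := by
  classical
  have h2 : (2 : F) ≠ 0 := by
    apply Ring.two_ne_zero
    intro hc
    rw [FiniteField.even_card_iff_char_two] at hc
    rcases hodd with ⟨r, hr⟩
    omega
  have hdec := hD.decomp
  have hnl : NDeg Q (D l) := (ndegOn_iff Q (D l)).1 (hdec.nondegenerate l)
  have hQ' := hnl.restrict
  obtain ⟨b, hb1, hb2⟩ := exists_orthogonal_basis' (Q := Q.comp (D l).subtype) h2 hQ'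
  obtain ⟨φ, hφ⟩ := hD.isometric l l'
  have hfr : finrank F (D l) = k := hdec.decomp.finrank_eq l
  -- the two orthogonal frames
  set e : Fin (finrank F (D l)) → (ι → F) := fun i => ((b i : D l) : ι → F) with he
  set f : Fin (finrank F (D l)) → (ι → F) := fun i => ((φ (b i) : D l') : ι → F) with hf
  have he_mem : ∀ i, e i ∈ D l := fun i => (b i).2
  have hf_mem : ∀ i, f i ∈ D l' := fun i => (φ (b i)).2
  have hee : ∀ i j, i ≠ j → polar (⇑Q) (e i) (e j) = 0 := by
    intro i j hij
    have := hb1 i j hij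
    rwa [Cfsg.Agent.Lib.Helper5.polar_comp_subtype] at this
  have hQe : ∀ i, Q (e i) ≠ 0 := fun i => hb2 i
  have hQf : ∀ i, Q (f i) = Q (e i) := fun i => hφ (b i)
  have hφpol : ∀ a c : D l, polar (⇑Q) ((φ a : D l') : ι → F) ((φ c : D l') : ι → F) =
      polar (⇑Q) (a : ι → F) (c : ι → F) := by
    intro a c
    unfold polar
    have h1 : ((φ a : D l') : ι → F) + ((φ c : D l') : ι → F) = ((φ (a + c) : D l') : ι → F) := by
      rw [map_add]; rfl
    have h3 : (a : ι → F) + (c : ι → F) = ((a + c : D l) : ι → F) := rfl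
    rw [h1, h3, hφ, hφ, hφ]
  have hff : ∀ i j, i ≠ j → polar (⇑Q) (f i) (f j) = 0 := by
    intro i j hij
    rw [hf]
    show polar (⇑Q) ((φ (b i) : D l') : ι → F) ((φ (b j) : D l') : ι → F) = 0
    rw [hφpol]
    exact hee i j hij
  have hef : ∀ i j, polar (⇑Q) (e i) (f j) = 0 := fun i j =>
    hdec.orthogonal l l' hll (e i) (he_mem i) (f j) (hf_mem j)
  have hfe : ∀ i j, polar (⇑Q) (f i) (e j) = 0 := fun i j => by
    rw [polar_comm]; exact hef j i
  -- the reflection vectors
  set v : Fin (finrank F (D l)) → (ι → F) := fun i => e i - f i with hv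
  have hQv : ∀ i, Q (v i) = 2 * Q (e i) := by
    intro i
    rw [hv]
    show Q (e i - f i) = _
    rw [perm_map_sub, hQf, hef]
    ring
  have hQv0 : ∀ i, Q (v i) ≠ 0 := fun i => by
    rw [hQv]; exact mul_ne_zero h2 (hQe i)
  have hvv : ∀ i j, i ≠ j → polar (⇑Q) (v i) (v j) = 0 := by
    intro i j hij
    show polar (⇑Q) (e i - f i) (e j - f j) = 0
    rw [polar_sub_left, polar_sub_right, polar_sub_right, hee i j hij, hef, hfe, hff i j hij]
    ring
  have hve : ∀ i j, polar (⇑Q) (v i) (e j) = if i = j then 2 * Q (e i) else 0 := by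
    intro i j
    show polar (⇑Q) (e i - f i) (e j) = _
    rw [polar_sub_left, hfe, sub_zero]
    by_cases hij : i = j
    · rw [if_pos hij, ← hij, ReflGen.polar_self]
    · rw [if_neg hij, hee i j hij]
  have hvf : ∀ i j, polar (⇑Q) (v i) (f j) = if i = j then -(2 * Q (e i)) else 0 := by
    intro i j
    show polar (⇑Q) (e i - f i) (f j) = _
    rw [polar_sub_left, hef, zero_sub]
    by_cases hij : i = j
    · rw [if_pos hij, ← hij, ReflGen.polar_self, hQf]
    · rw [if_neg hij, hff i j hij, neg_zero]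
  -- the product of the reflections
  set vs : List (ι → F) := List.ofFn v with hvsdef
  have hvs : ∀ w ∈ vs, Q w ≠ 0 := by
    intro w hw
    rw [hvsdef, List.mem_ofFn] at hw
    obtain ⟨i, rfl⟩ := hw
    exact hQv0 i
  have hpw : vs.Pairwise (fun a c => polar (⇑Q) a c = 0) := by
    rw [hvsdef, List.pairwise_ofFn]
    intro i j hij
    exact hvv i j (ne_of_lt hij)
  set g : ↥(Cfsg.isometryGroup F ⇑Q) := foP_prodRefl vs hvs with hg
  have hgx : ∀ x : ι → F, ((g : GL ι F) : Matrix ι ι F) *ᵥ x =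
      x - ∑ i, ((Q (v i))⁻¹ * polar (⇑Q) (v i) x) • v i := by
    intro x
    rw [hg, perm_prodRefl_apply vs hvs hpw x, hvsdef, List.map_ofFn, List.sum_ofFn]
    rfl
  have hge : ∀ j, ((g : GL ι F) : Matrix ι ι F) *ᵥ e j = f j := by
    intro j
    rw [hgx, Finset.sum_eq_single j]
    · rw [hve, if_pos rfl, hQv, inv_mul_cancel₀ (mul_ne_zero h2 (hQe j)), one_smul]
      show e j - (e j - f j) = f j
      abel
    · intro i _ hij
      rw [hve, if_neg hij, mul_zero, zero_smul]
    · intro h; exact absurd (Finset.mem_univ j) h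
  have hgf : ∀ j, ((g : GL ι F) : Matrix ι ι F) *ᵥ f j = e j := by
    intro j
    rw [hgx, Finset.sum_eq_single j]
    · rw [hvf, if_pos rfl, hQv, mul_neg, inv_mul_cancel₀ (mul_ne_zero h2 (hQe j)), neg_smul,
        one_smul]
      show f j - -(e j - f j) = e j
      abel
    · intro i _ hij
      rw [hvf, if_neg hij, mul_zero, zero_smul]
    · intro h; exact absurd (Finset.mem_univ j) h
  have hgfix : ∀ x : ι → F, (∀ i, polar (⇑Q) (v i) x = 0) →
      ((g : GL ι F) : Matrix ι ι F) *ᵥ x = x := by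
    intro x hx
    rw [hgx]
    have : ∑ i, ((Q (v i))⁻¹ * polar (⇑Q) (v i) x) • v i = 0 := by
      apply Finset.sum_eq_zero
      intro i _
      rw [hx i, mul_zero, zero_smul]
    rw [this, sub_zero]
  -- spans
  have hspan_e : Submodule.span F (Set.range e) = D l := by
    have h1 : Set.range e = (D l).subtype '' Set.range b := by
      rw [← Set.range_comp]; rfl
    rw [h1, ← Submodule.map_span, b.span_eq, Submodule.map_subtype_top]
  have hspan_f : Submodule.span F (Set.range f) = D l' := by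
    have h1 : Set.range f = (D l').subtype '' Set.range (b.map φ) := by
      rw [← Set.range_comp]
      rfl
    rw [h1, ← Submodule.map_span, (b.map φ).span_eq, Submodule.map_subtype_top]
  -- the linear equivalence of `g`
  have e1 : ((g : GL ι F) : Matrix ι ι F) * (((g : GL ι F)⁻¹ : GL ι F) : Matrix ι ι F) = 1 := by
    rw [← Units.val_mul, mul_inv_cancel]; rfl
  have e2 : (((g : GL ι F)⁻¹ : GL ι F) : Matrix ι ι F) * ((g : GL ι F) : Matrix ι ι F) = 1 := by
    rw [← Units.val_mul, inv_mul_cancel]; rfl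
  let h : (ι → F) ≃ₗ[F] (ι → F) :=
    LinearEquiv.ofLinearMap (Matrix.mulVecLin ((g : GL ι F) : Matrix ι ι F))
      (Matrix.mulVecLin (((g : GL ι F)⁻¹ : GL ι F) : Matrix ι ι F))
      (by rw [← Matrix.mulVecLin_mul, e1, Matrix.mulVecLin_one])
      (by rw [← Matrix.mulVecLin_mul, e2, Matrix.mulVecLin_one])
  have hh' : ∀ x, h x = ((g : GL ι F) : Matrix ι ι F) *ᵥ x := fun x => rfl
  have hh : ∀ x, Q (h x) = Q x := fun x => by
    rw [hh']; exact g.2 x x
  have hmap_l : (D l).map h.toLinearMap = D l' := by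
    rw [← hspan_e, Submodule.map_span, ← Set.range_comp]
    have hef' : (⇑h.toLinearMap ∘ e) = f := funext hge
    rw [hef', hspan_f]
  have hmap_l' : (D l').map h.toLinearMap = D l := by
    rw [← hspan_f, Submodule.map_span, ← Set.range_comp]
    have hfe' : (⇑h.toLinearMap ∘ f) = e := funext hgf
    rw [hfe', hspan_e]
  -- a nondegenerate plane inside `D l`
  have hk' : 2 ≤ finrank F (D l) := by rw [hfr]; exact hk
  set i0 : Fin (finrank F (D l)) := ⟨0, by omega⟩ with hi0
  set i1 : Fin (finrank F (D l)) := ⟨1, by omega⟩ with hi1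
  have hi01 : i0 ≠ i1 := by
    intro hc
    have := congrArg Fin.val hc
    simp [hi0, hi1] at this
  have hli : LinearIndependent F e := by
    have := b.linearIndependent.map' (D l).subtype (Submodule.ker_subtype _)
    exact this
  have hli2 : LinearIndependent F (e ∘ ![i0, i1]) := by
    apply hli.comp
    intro a c hac
    fin_cases a <;> fin_cases c
    · rfl
    · exact absurd hac hi01
    · exact absurd hac hi01.symm
    · rfl
  set P : Submodule F (ι → F) := Submodule.span F (Set.range (e ∘ ![i0, i1])) with hPdef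
  have hP2 : finrank F P = 2 := by
    rw [hPdef, finrank_span_eq_card hli2, Fintype.card_fin]
  have hPle : P ≤ D l := by
    rw [hPdef, Submodule.span_le]
    rintro _ ⟨a, rfl⟩
    exact he_mem _
  have hPmem : ∀ x ∈ P, ∃ α β : F, x = α • e i0 + β • e i1 := by
    intro x hx
    rw [hPdef, Submodule.mem_span_range_iff_exists_fun] at hx
    obtain ⟨c, rfl⟩ := hx
    refine ⟨c 0, c 1, ?_⟩
    rw [Fin.sum_univ_two]
    rfl
  have hPn : NDeg Q P := by
    unfold NDeg
    rw [Submodule.disjoint_def]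
    intro x hx hx'
    obtain ⟨α, β, rfl⟩ := hPmem x hx
    rw [mem_perp_iff] at hx'
    have h0 := hx' (e i0) (Submodule.subset_span ⟨0, rfl⟩)
    have h1 := hx' (e i1) (Submodule.subset_span ⟨1, rfl⟩)
    rw [polar_add_right, polar_smul_right, polar_smul_right, ReflGen.polar_self,
      hee i0 i1 hi01, smul_zero, add_zero, smul_eq_mul] at h0
    rw [polar_add_right, polar_smul_right, polar_smul_right, ReflGen.polar_self,
      hee i1 i0 hi01.symm, smul_zero, zero_add, smul_eq_mul] at h1
    have hα : α = 0 := by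
      rcases mul_eq_zero.1 h0 with h | h
      · exact h
      · exact absurd h (mul_ne_zero h2 (hQe i0))
    have hβ : β = 0 := by
      rcases mul_eq_zero.1 h1 with h | h
      · exact h
      · exact absurd h (mul_ne_zero h2 (hQe i1))
    rw [hα, hβ, zero_smul, zero_smul, add_zero]
  have hn : 2 ≤ Fintype.card ι := by
    have h1 := Submodule.finrank_le (D l)
    rw [Module.finrank_fintype_fun_eq_card] at h1
    omega
  obtain ⟨ω, ρ, hω, hρQ, hρP, hρfix, hωρ⟩ := exists_omega_adjust hodd Q hQ hn h hh P hP2 hPn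
  -- `ρ` fixes every block other than `D l` pointwise
  have hρ_other : ∀ i, i ≠ l → ∀ x ∈ D i, ρ x = x := by
    intro i hil x hx
    apply hρfix
    intro w hw
    exact hdec.orthogonal l i (Ne.symm hil) w (hPle hw) x hx
  -- `ρ` preserves `D l`
  have hρ_l : (D l).map ρ.toLinearMap = D l := by
    apply Submodule.eq_of_le_of_finrank_eq
    · rintro _ ⟨x, hx, rfl⟩
      have hsup : x ∈ P ⊔ perp Q P := by rw [hPn.isCompl.sup_eq_top]; trivial
      obtain ⟨p, hp, r, hr, rfl⟩ := Submodule.mem_sup.1 hsup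
      have hrD : r ∈ D l := by
        have : r = (p + r) - p := by abel
        rw [this]
        exact (D l).sub_mem hx (hPle hp)
      have hρr : ρ r = r := by
        apply hρfix
        intro w hw
        exact (mem_perp_iff _ _).1 hr w hw
      show ρ (p + r) ∈ D l
      rw [map_add, hρr]
      exact (D l).add_mem (hPle (hρP p hp)) hrD
    · exact LinearEquiv.finrank_map_eq ρ (D l)
  have hρ_l' : (D l').map ρ.toLinearMap = D l' := by
    apply le_antisymm
    · rintro _ ⟨x, hx, rfl⟩
      show ρ x ∈ D l'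
      rw [hρ_other l' hll.symm x hx]; exact hx
    · intro x hx
      exact ⟨x, hx, hρ_other l' hll.symm x hx⟩
  have hcomp : (Matrix.toLin' (ω : Matrix ι ι F)).comp ρ.toLinearMap = h.toLinearMap := by
    apply LinearMap.ext
    intro x
    show Matrix.toLin' (ω : Matrix ι ι F) (ρ x) = h x
    rw [Matrix.toLin'_apply, hωρ]
  have hω_l : (D l).map (Matrix.toLin' (ω : Matrix ι ι F)) = D l' := by
    rw [← hmap_l, ← hcomp, Submodule.map_comp, hρ_l]
  have hω_l' : (D l').map (Matrix.toLin' (ω : Matrix ι ι F)) = D l := by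
    rw [← hmap_l', ← hcomp, Submodule.map_comp, hρ_l']
  have hω_other : ∀ i, i ≠ l → i ≠ l' → ∀ x ∈ D i, (ω : Matrix ι ι F) *ᵥ x = x := by
    intro i hil hil' x hx
    have h1 := hωρ x
    rw [hρ_other i hil x hx, hh'] at h1
    rw [h1]
    apply hgfix
    intro m
    show polar (⇑Q) (e m - f m) x = 0
    rw [polar_sub_left, hdec.orthogonal l i (Ne.symm hil) (e m) (he_mem m) x hx,
      hdec.orthogonal l' i (Ne.symm hil') (f m) (hf_mem m) x hx, sub_zero]
  refine ⟨ω, hω, ?_, hω_l, hω_l', hω_other⟩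
  refine ⟨Equiv.swap l l', fun i => ?_⟩
  by_cases hil : i = l
  · rw [hil, Equiv.swap_apply_left]; exact hω_l
  by_cases hil' : i = l'
  · rw [hil', Equiv.swap_apply_right]; exact hω_l'
  rw [Equiv.swap_apply_of_ne_of_ne hil hil']
  apply le_antisymm
  · rintro _ ⟨x, hx, rfl⟩
    show Matrix.toLin' (ω : Matrix ι ι F) x ∈ D i
    rw [Matrix.toLin'_apply, hω_other i hil hil' x hx]; exact hx
  · intro x hx
    refine ⟨x, hx, ?_⟩
    show Matrix.toLin' (ω : Matrix ι ι F) x = x
    rw [Matrix.toLin'_apply, hω_other i hil hil' x hx]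

end Cfsg.Agent.Lib.Lead.ODecPerm
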