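import Mathlib
import Cfsg.Prelude
import Cfsg.Agent.Lib.Helper6.ODec0
import Cfsg.Agent.Lib.Lead.ODecPerm

set_option autoImplicit false

/-! # S5677 board, PK-PERM2: block swaps inside `M` (glue to `ODecPerm.exists_block_swap`). -/

namespace Cfsg.Agent.Lib.Helper6.ODec

open Matrix Module Cfsg.Agent.H9Orth Cfsg.Agent.Lib.Helper2.ReflGen Cfsg.Agent.Lib.Helper2.CDG
  Cfsg.Agent.Lib.Helper2.LongRoot

variable {F : Type*} [Field F] [Fintype F] {ι : Type} [Fintype ι] [DecidableEq ι]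
variable {Q : QuadraticForm F (ι → F)} {t k : ℕ} {D : Fin t → Submodule F (ι → F)}
  {M : Subgroup (Matrix.GeneralLinearGroup ι F)}

/-- **PK-PERM2** (block swaps in `H`). -/
theorem pk_perm2 (hQ : (QuadraticMap.polarBilin Q).Nondegenerate)
    (c : Ctx Q k D M) {j l l' : Fin t} (hjl : j ≠ l) (hjl' : j ≠ l') (hll' : l ≠ l') :
    ∃ π : ↥(Cfsg.isometryGroup F ⇑Q), (π : Matrix.GeneralLinearGroup ι F) ∈ M ∧
      (∀ x ∈ D j, ((π : Matrix.GeneralLinearGroup ι F) : Matrix ι ι F) *ᵥ x = x) ∧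
      (∀ x ∈ D l, ((π : Matrix.GeneralLinearGroup ι F) : Matrix ι ι F) *ᵥ x ∈ D l') := by
  have hodd : Odd (Fintype.card F) := by
    rw [← Nat.not_even_iff_odd]
    intro hev
    have h2 := c.h2
    have hc : ringChar F = 2 := by
      rw [FiniteField.even_card_iff_char_two]
      exact Nat.even_iff.1 hev
    apply h2
    have : ((2 : ℕ) : F) = 0 := by
      rw [← hc]; exact ringChar.Nat.cast_ringChar
    exact_mod_cast this
  have hk2 : 2 ≤ k := le_trans (by norm_num) c.hk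
  obtain ⟨π, hπΩ, hπS, hπl, -, hπfix⟩ :=
    Cfsg.Agent.Lib.Lead.ODecPerm.exists_block_swap hodd Q hQ hk2 D c.hD l l' hll'
  obtain ⟨γ, rfl⟩ := exists_iso_of_mem_omegaGL hπΩ
  refine ⟨γ, c.hHM (Subgroup.mem_inf.2 ⟨hπS, hπΩ⟩), hπfix j hjl hjl', ?_⟩
  intro x hx
  rw [← hπl]
  exact ⟨x, hx, by rw [Matrix.toLin'_apply]⟩

end Cfsg.Agent.Lib.Helper6.ODec
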