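import Mathlib
import Cfsg.Prelude.Def_Characters
import Cfsg.Agent.Lib.Helper1.SUMin.Defs
import Cfsg.Agent.Lib.Helper4.Characters
import Cfsg.Agent.Lib.Helper4.SUMinA1
import Cfsg.Agent.Lib.Helper3.SUMinA2

set_option autoImplicit false

/-! Package PK-A3 of S2334/S2335 (leader helper1): the abstract chain bound. -/

namespace Cfsg.Agent.Lib.Helper1.SUMin

open Cfsg
open scoped ComplexConjugate

universe u

section fourier
variable {A : Type*} [AddCommGroup A] [Fintype A]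

theorem a3_char_mul_conj (ν : AddChar A ℂ) (x y : A) : conj (ν y) * ν x = ν (x - y) := by
  rw [← AddChar.map_neg_eq_conj, ← AddChar.map_add_eq_mul, neg_add_eq_sub]

theorem a3_card_ne_zero : (Fintype.card A : ℂ) ≠ 0 := Nat.cast_ne_zero.2 Fintype.card_ne_zero

/-- Fourier inversion on a finite abelian group -/
theorem a3_fourier_inv (f : A → ℂ) (x : A) :
    ∑ ν : AddChar A ℂ, ((Fintype.card A : ℂ)⁻¹ * ∑ y, conj (ν y) * f y) * ν x = f x := by
  classical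
  have hcard : (Fintype.card A : ℂ) ≠ 0 := a3_card_ne_zero
  calc ∑ ν : AddChar A ℂ, ((Fintype.card A : ℂ)⁻¹ * ∑ y, conj (ν y) * f y) * ν x
      = (Fintype.card A : ℂ)⁻¹ * ∑ y, f y * ∑ ν : AddChar A ℂ, ν (x - y) := by
        simp only [Finset.mul_sum, Finset.sum_mul]
        rw [Finset.sum_comm]
        apply Finset.sum_congr rfl; intro y _
        apply Finset.sum_congr rfl; intro ν _
        rw [← a3_char_mul_conj]; ring
    _ = f x := by
        simp only [AddChar.sum_apply_eq_ite, sub_eq_zero]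
        rw [Finset.sum_eq_single x]
        · rw [if_pos rfl]; field_simp
        · intro y _ hy; rw [if_neg (Ne.symm hy), mul_zero]
        · intro h; exact absurd (Finset.mem_univ x) h

/-- orthogonality of two additive characters -/
theorem a3_ortho (ψ ψ₁ : AddChar A ℂ) :
    (Fintype.card A : ℂ)⁻¹ * ∑ a, conj (ψ a) * ψ₁ a = if ψ₁ = ψ then 1 else 0 := by
  classical
  have hcard : (Fintype.card A : ℂ) ≠ 0 := a3_card_ne_zero
  have h := AddChar.sum_eq_ite (ψ₁ * ψ⁻¹)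
  have e : ∑ a, conj (ψ a) * ψ₁ a = ∑ a, (ψ₁ * ψ⁻¹) a := by
    apply Finset.sum_congr rfl; intro a _
    rw [AddChar.mul_apply, AddChar.inv_apply, AddChar.map_neg_eq_conj, mul_comm]
  rw [e, h]
  have hiff : (ψ₁ * ψ⁻¹ = 0) ↔ ψ₁ = ψ := by
    rw [← AddChar.one_eq_zero, mul_inv_eq_one]
  by_cases hψ : ψ₁ = ψ
  · rw [if_pos (hiff.2 hψ), if_pos hψ]; field_simp
  · rw [if_neg (fun h' => hψ (hiff.1 h')), if_neg hψ, mul_zero]

/-- a Fourier coefficient of a pulled-back function in terms of the Fourier coefficients -/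
theorem a3_coeff {B : Type*} [AddCommGroup B] [Fintype B] (ι : A →+ B) (n : AddChar B ℂ → ℂ)
    (f : B → ℂ) (hF : ∀ x, ∑ ν : AddChar B ℂ, n ν * ν x = f x) (φ : AddChar A ℂ) :
    (Fintype.card A : ℂ)⁻¹ * ∑ a, conj (φ a) * f (ι a)
      = ∑ ν : AddChar B ℂ, n ν * (if ν.compAddMonoidHom ι = φ then 1 else 0) := by
  classical
  calc (Fintype.card A : ℂ)⁻¹ * ∑ a, conj (φ a) * f (ι a)
      = ∑ ν : AddChar B ℂ, n ν *
          ((Fintype.card A : ℂ)⁻¹ * ∑ a, conj (φ a) * (ν.compAddMonoidHom ι) a) := by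
        simp only [← hF, Finset.mul_sum]
        rw [Finset.sum_comm]
        apply Finset.sum_congr rfl; intro a _
        apply Finset.sum_congr rfl; intro ν _
        rw [AddChar.compAddMonoidHom_apply]; ring
    _ = ∑ ν : AddChar B ℂ, n ν * (if ν.compAddMonoidHom ι = φ then 1 else 0) := by
        apply Finset.sum_congr rfl; intro ν _
        rw [a3_ortho]

end fourier

section A3
variable {G : Type u} [Group G] [Fintype G] {S : Type u} [AddCommGroup S] [Fintype S]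
  {Y : Type u} [AddCommGroup Y] [Fintype Y]

theorem a3_z_zero (z : ℕ → S → G) (hz : ∀ i a b, z i (a + b) = z i a * z i b) (i : ℕ) :
    z i 0 = 1 := by
  have h := hz i 0 0
  rw [add_zero] at h
  exact (mul_eq_left.mp h.symm)

/-- the sum of all multiplicities at level `i` is `theta i 1` -/
theorem a3_sum_mu (χ : G → ℂ) (z : ℕ → S → G) (hz : ∀ i a b, z i (a + b) = z i a * z i b) (i : ℕ) :
    ∑ ψ : AddChar S ℂ, mu χ z i ψ = theta χ z i 1 := by
  have h := a3_fourier_inv (fun c : S => theta χ z i (z i c * 1)) 0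
  simp only [AddChar.map_zero_eq_one, mul_one] at h
  rw [a3_z_zero z hz i] at h
  rw [← h]
  apply Finset.sum_congr rfl
  intro ψ _
  rw [mu_def, isoAvg_apply]
  simp only [mul_one]

theorem a3_mu_one (χ : G → ℂ) (z : ℕ → S → G) (i : ℕ) :
    mu χ z i (⇑(1 : AddChar S ℂ)) = theta χ z (i + 1) 1 := by
  rw [mu_def, theta_succ]
  rfl

/-- telescoping step -/
theorem a3_tele (χ : G → ℂ) (z : ℕ → S → G) (hz : ∀ i a b, z i (a + b) = z i a * z i b) (i : ℕ) :
    theta χ z i 1 = theta χ z (i + 1) 1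
      + ∑ ψ ∈ (Finset.univ : Finset (AddChar S ℂ)).erase 1, mu χ z i ψ := by
  classical
  rw [← a3_sum_mu χ z hz i, ← a3_mu_one χ z i]
  exact (Finset.add_sum_erase Finset.univ (fun ψ : AddChar S ℂ => mu χ z i ψ)
    (Finset.mem_univ 1)).symm

/-- integrality and the Heisenberg bound for the multiplicities -/
theorem a3_heis {χ : G → ℂ} (hχ : IsCharacter G χ) (z : ℕ → S → G)
    (hz : ∀ i a b, z i (a + b) = z i a * z i b) (i : ℕ) (d : ℕ)
    (hzz : ∀ j k a b, j < i → k < i → z j a * z k b = z k b * z j a)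
    (Q : Subgroup G) (hQ1 : ∀ g ∈ Q, ∀ j, j < i → ∀ a, g * z j a = z j a * g)
    (hQ2 : ∀ c, z i c ∈ Q) (hQ3 : ∀ g ∈ Q, ∀ c, g * z i c = z i c * g)
    (hQ4 : ∀ g ∈ Q, (∀ c, g ≠ z i c) → ∀ c, ∃ x ∈ Q, x⁻¹ * g * x = g * z i c)
    (hQ5 : Fintype.card S * d ^ 2 ≤ Nat.card Q) (ψ : AddChar S ℂ) (hψ : ψ ≠ 1) :
    ∃ n : ℕ, mu χ z i ψ = n ∧ (n ≠ 0 → d ≤ n) := by
  classical
  have hθ := theta_isCharacter hχ z hz i hzz Q hQ1
  let ζ : S → Q := fun c => ⟨z i c, hQ2 c⟩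
  have hζ : ∀ a b, ζ (a + b) = ζ a * ζ b := fun a b => Subtype.ext (hz i a b)
  have hc : ∀ a (g : Q), ζ a * g = g * ζ a := fun a g => Subtype.ext (hQ3 g.1 g.2 a).symm
  obtain ⟨c₀, hc₀⟩ := AddChar.ne_one_iff.1 hψ
  have hnd : ∀ g : Q, (∀ c, g ≠ ζ c) → ∃ (x : Q) (c : S), x⁻¹ * g * x = g * ζ c ∧ ψ c ≠ 1 := by
    intro g hg
    have hg' : ∀ c, (g : G) ≠ z i c := fun c h => hg c (Subtype.ext h)
    obtain ⟨x, hx, hxe⟩ := hQ4 g.1 g.2 hg' c₀
    exact ⟨⟨x, hx⟩, c₀, Subtype.ext hxe, hc₀⟩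
  obtain ⟨n, hn, hnb⟩ := heis_bound hθ ζ hζ hc ψ hnd
  refine ⟨n, ?_, ?_⟩
  · rw [← hn, mu_def, isoAvg_apply, isoAvg_apply]
    rfl
  · intro h0
    have h1 := hnb h0
    rw [← Nat.card_eq_fintype_card] at h1
    have h2 : Fintype.card S * d ^ 2 ≤ Fintype.card S * n ^ 2 := le_trans hQ5 h1
    have hS : 0 < Fintype.card S := Fintype.card_pos
    have h3 : d ^ 2 ≤ n ^ 2 := Nat.le_of_mul_le_mul_left h2 hS
    exact (Nat.pow_le_pow_iff_left (by norm_num)).1 h3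

/-- torus invariance of the multiplicities -/
theorem a3_torus {χ : G → ℂ} (hχ : IsClassFunction G χ) (z : ℕ → S → G) (i : ℕ)
    (ψ ψ' : AddChar S ℂ) (g : G) (t : ℕ → S ≃ S)
    (hg : ∀ j, j ≤ i → ∀ a, g * z j a * g⁻¹ = z j (t j a)) (hψ : ∀ a, ψ' (t i a) = ψ a) :
    mu χ z i ψ' = mu χ z i ψ := by
  rw [mu_def, mu_def, isoAvg_apply, isoAvg_apply]
  congr 1
  rw [← Equiv.sum_comp (t i)]
  apply Finset.sum_congr rfl
  intro a _
  rw [hψ a, ← hg i le_rfl a, mul_one, mul_one,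
    theta_conj hχ z i g t (fun j hj => hg j (le_of_lt hj))]

theorem a3_y_zero (y : ℕ → Y → G) (hy : ∀ i a b, y i (a + b) = y i a * y i b) (i : ℕ) :
    y i 0 = 1 := by
  have h := hy i 0 0
  rw [add_zero] at h
  exact (mul_eq_left.mp h.symm)

theorem a3_comm6 {M : Type*} [Monoid M] (a a' b b' c c' : M) (h1 : Commute a' b)
    (h2 : Commute a' c) (h3 : Commute b' c) :
    a * a' * (b * b') * (c * c') = (a * b * c) * (a' * b' * c') := by
  rw [h1.mul_mul_mul_comm a b', (h2.mul_left h3).mul_mul_mul_comm (a * b) c']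

/-- Fourier inversion for the multiplicities -/
theorem a3_fourier_mu (χ : G → ℂ) (z : ℕ → S → G) (i : ℕ) (c : S) :
    ∑ ψ : AddChar S ℂ, mu χ z i ψ * ψ c = theta χ z i (z i c) := by
  have h := a3_fourier_inv (fun c : S => theta χ z i (z i c * 1)) c
  simp only [mul_one] at h
  rw [← h]
  apply Finset.sum_congr rfl
  intro ψ _
  rw [mu_def, isoAvg_apply]
  simp only [mul_one]

/-- start of the induction: some nontrivial character of `z 0` occurs -/
theorem a3_nv_zero (χ : G → ℂ) (z : ℕ → S → G) (hz : ∀ i a b, z i (a + b) = z i a * z i b)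
    (h0 : ∃ c, χ (z 0 c) ≠ χ 1) : ∃ ψ : AddChar S ℂ, ψ ≠ 1 ∧ mu χ z 0 ψ ≠ 0 := by
  classical
  by_contra hcon
  push_neg at hcon
  obtain ⟨c, hc⟩ := h0
  have key : ∀ c : S, theta χ z 0 (z 0 c) = mu χ z 0 (⇑(1 : AddChar S ℂ)) := by
    intro c
    rw [← a3_fourier_mu χ z 0 c, Finset.sum_eq_single (1 : AddChar S ℂ)]
    · rw [AddChar.one_apply, mul_one]
    · intro ψ _ hψ
      rw [hcon ψ hψ, zero_mul]
    · intro h; exact absurd (Finset.mem_univ _) h
  apply hc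
  have h1 := key c
  have h2 := key 0
  rw [a3_z_zero z hz 0] at h2
  rw [theta_zero] at h1 h2
  rw [h1, h2]

/-- the R-step: from level `i` to level `i + 1` -/
theorem a3_rstep {χ : G → ℂ} (hχ : IsCharacter G χ) (m : ℕ) (z : ℕ → S → G) (y : ℕ → Y → G)
    (hz : ∀ i a b, z i (a + b) = z i a * z i b)
    (hy : ∀ i a b, y i (a + b) = y i a * y i b)
    (hzz : ∀ i j a b, i < m → j < m → z i a * z j b = z j b * z i a)
    (hzy : ∀ i j a β, i < m → j < m → z j a * y i β = y i β * z j a)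
    (i : ℕ) (hi : i + 1 < m)
    (hR : ∀ ν : AddChar (S × S × Y) ℂ, (∃ a, ν (a, 0, 0) ≠ 1) →
      ∃ (s : G) (τ : (S × S × Y) ≃+ (S × S × Y)),
        (∀ j, j < i → ∀ a, s * z j a = z j a * s) ∧
        (∀ x : S × S × Y, s * (z i x.1 * z (i + 1) x.2.1 * y (i + 1) x.2.2) * s⁻¹ =
            z i (τ x).1 * z (i + 1) (τ x).2.1 * y (i + 1) (τ x).2.2) ∧
        (∀ a, ν (τ (a, 0, 0)) = 1) ∧ ∃ b, ν (τ (0, b, 0)) ≠ 1)
    (ψ : AddChar S ℂ) (hψ : ψ ≠ 1) (hμ : mu χ z i ψ ≠ 0) :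
    ∃ ψ' : AddChar S ℂ, ψ' ≠ 1 ∧ mu χ z (i + 1) ψ' ≠ 0 := by
  classical
  have him : i < m := by omega
  have hcf := Cfsg.Agent.Lib.Helper4.isClassFunction_of_isCharacter hχ
  -- the abelian group `R = z i (S) z (i+1) (S) y (i+1) (Y)`
  let r : S × S × Y → G := fun x => z i x.1 * z (i + 1) x.2.1 * y (i + 1) x.2.2
  have c1 : ∀ a b, Commute (z i a) (z (i + 1) b) := fun a b => hzz i (i + 1) a b him hi
  have c2 : ∀ a β, Commute (z i a) (y (i + 1) β) := fun a β => hzy (i + 1) i a β hi him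
  have c3 : ∀ b β, Commute (z (i + 1) b) (y (i + 1) β) := fun b β => hzy (i + 1) (i + 1) b β hi hi
  have cy : ∀ β β', Commute (y (i + 1) β) (y (i + 1) β') := by
    intro β β'
    show y (i + 1) β * y (i + 1) β' = y (i + 1) β' * y (i + 1) β
    rw [← hy, ← hy, add_comm β β']
  have r_add : ∀ x x', r (x + x') = r x * r x' := by
    intro x x'
    show z i (x.1 + x'.1) * z (i + 1) (x.2.1 + x'.2.1) * y (i + 1) (x.2.2 + x'.2.2) = _
    rw [hz, hz, hy]
    exact a3_comm6 _ _ _ _ _ _ (c1 _ _) (c2 _ _) (c3 _ _)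
  have hz0 := a3_z_zero z hz
  have hy0 := a3_y_zero y hy
  let L : Subgroup G := Subgroup.centralizer
    {g | (∃ j, j < m ∧ ∃ a, g = z j a) ∨ ∃ β, g = y (i + 1) β}
  have hrL : ∀ x, r x ∈ L := by
    intro x
    rw [Subgroup.mem_centralizer_iff]
    rintro h (⟨j, hj, a, rfl⟩ | ⟨β, rfl⟩)
    · have e1 : Commute (z j a) (z i x.1) := hzz j i a x.1 hj him
      have e2 : Commute (z j a) (z (i + 1) x.2.1) := hzz j (i + 1) a x.2.1 hj hi
      have e3 : Commute (z j a) (y (i + 1) x.2.2) := hzy (i + 1) j a x.2.2 hi hj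
      exact ((e1.mul_right e2).mul_right e3)
    · have e1 : Commute (y (i + 1) β) (z i x.1) := (c2 x.1 β).symm
      have e2 : Commute (y (i + 1) β) (z (i + 1) x.2.1) := (c3 x.2.1 β).symm
      have e3 : Commute (y (i + 1) β) (y (i + 1) x.2.2) := cy β x.2.2
      exact ((e1.mul_right e2).mul_right e3)
  have hL1 : ∀ g ∈ L, ∀ j, j < i → ∀ a, g * z j a = z j a * g := by
    intro g hg j hj a
    exact ((Subgroup.mem_centralizer_iff.1 hg) (z j a) (Or.inl ⟨j, by omega, a, rfl⟩)).symm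
  have hΘ : IsCharacter L (fun g : L => theta χ z i (g : G)) :=
    theta_isCharacter hχ z hz i (fun j k a b hj hk => hzz j k a b (by omega) (by omega)) L hL1
  let ζ : S × S × Y → L := fun x => ⟨r x, hrL x⟩
  have hζ : ∀ x x', ζ (x + x') = ζ x * ζ x' := fun x x' => Subtype.ext (r_add x x')
  have hcen : ∀ x (g : L), ζ x * g = g * ζ x := by
    intro x g
    apply Subtype.ext
    have hg := Subgroup.mem_centralizer_iff.1 g.2
    have e1 : Commute (z i x.1) (g : G) := hg (z i x.1) (Or.inl ⟨i, him, x.1, rfl⟩)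
    have e2 : Commute (z (i + 1) x.2.1) (g : G) :=
      hg (z (i + 1) x.2.1) (Or.inl ⟨i + 1, hi, x.2.1, rfl⟩)
    have e3 : Commute (y (i + 1) x.2.2) (g : G) := hg (y (i + 1) x.2.2) (Or.inr ⟨x.2.2, rfl⟩)
    exact ((e1.mul_left e2).mul_left e3)
  -- the multiplicities of the characters of `R`
  let f : S × S × Y → ℂ := fun x => theta χ z i (r x)
  have hMex : ∀ ν : AddChar (S × S × Y) ℂ, ∃ k : ℕ,
      (Fintype.card (S × S × Y) : ℂ)⁻¹ * ∑ x, conj (ν x) * f x = k := by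
    intro ν
    obtain ⟨k, hk⟩ := Cfsg.Agent.Lib.Helper4.isCharacter_apply_one
      (isCharacter_isoAvg hΘ ζ hζ hcen ν)
    refine ⟨k, ?_⟩
    rw [← hk, isoAvg_apply]
    congr 1
    apply Finset.sum_congr rfl
    intro x _
    show conj (ν x) * theta χ z i (r x) = conj (ν x) * theta χ z i (r x * 1)
    rw [mul_one]
  choose n hn using hMex
  have hF : ∀ x, ∑ ν : AddChar (S × S × Y) ℂ, (n ν : ℂ) * ν x = f x := by
    intro x
    have h := a3_fourier_inv f x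
    simp only [hn] at h
    exact h
  -- level `i`
  let ι₁ : S →+ S × S × Y := AddMonoidHom.inl S (S × Y)
  have hf1 : ∀ a : S, f (ι₁ a) = theta χ z i (z i a * 1) := by
    intro a
    show theta χ z i (z i a * z (i + 1) 0 * y (i + 1) 0) = _
    rw [hz0, hy0, mul_one]
  have hI := a3_coeff ι₁ (fun ν => (n ν : ℂ)) f hF ψ
  simp only [hf1] at hI
  have hI' : mu χ z i ψ = ∑ ν : AddChar (S × S × Y) ℂ,
      (n ν : ℂ) * (if ν.compAddMonoidHom ι₁ = ψ then 1 else 0) := by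
    rw [← hI, mu_def, isoAvg_apply]
  obtain ⟨ν, hν1, hνn⟩ : ∃ ν : AddChar (S × S × Y) ℂ, ν.compAddMonoidHom ι₁ = ψ ∧ n ν ≠ 0 := by
    by_contra hcon
    push_neg at hcon
    apply hμ
    rw [hI']
    apply Finset.sum_eq_zero
    intro ν _
    by_cases h : ν.compAddMonoidHom ι₁ = ψ
    · rw [hcon ν h]; simp
    · rw [if_neg h, mul_zero]
  obtain ⟨a₀, ha₀⟩ := AddChar.ne_one_iff.1 hψ
  have hνa : ∃ a, ν (a, 0, 0) ≠ 1 := by
    refine ⟨a₀, ?_⟩
    have : ν (a₀, 0, 0) = ψ a₀ := by rw [← hν1]; rfl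
    rw [this]; exact ha₀
  obtain ⟨s, τ, hs1, hs2, hτ1, b₀, hτ2⟩ := hR ν hνa
  -- the conjugate character
  let ν' : AddChar (S × S × Y) ℂ := ν.compAddMonoidHom τ.toAddMonoidHom
  have hν'x : ∀ x, ν' x = ν (τ x) := fun x => rfl
  have hfτ : ∀ x, f (τ x) = f x := by
    intro x
    show theta χ z i (r (τ x)) = theta χ z i (r x)
    have h1 : r (τ x) = s * r x * s⁻¹ := (hs2 x).symm
    rw [h1]
    exact theta_conj hcf z i s (fun _ => Equiv.refl S)
      (fun j hj a => by rw [hs1 j hj a, mul_inv_cancel_right]; rfl) (r x)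
  have hnν' : n ν' = n ν := by
    have h1 : ((n ν' : ℕ) : ℂ) = (n ν : ℂ) := by
      rw [← hn ν', ← hn ν]
      congr 1
      rw [← Equiv.sum_comp τ.toEquiv (fun x => conj (ν x) * f x)]
      apply Finset.sum_congr rfl
      intro x _
      show conj (ν' x) * f x = conj (ν (τ x)) * f (τ x)
      rw [hν'x, hfτ]
    exact_mod_cast h1
  -- level `i + 1`
  let ι₂ : S →+ S × S × Y := (AddMonoidHom.inr S (S × Y)).comp (AddMonoidHom.inl S Y)
  let ψ' : AddChar S ℂ := ν'.compAddMonoidHom ι₂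
  have hψ'b : ∀ b, ψ' b = ν (τ (0, b, 0)) := fun b => rfl
  have hψ'1 : ψ' ≠ 1 := AddChar.ne_one_iff.2 ⟨b₀, by rw [hψ'b]; exact hτ2⟩
  refine ⟨ψ', hψ'1, ?_⟩
  let ι₁₂ : S × S →+ S × S × Y :=
    AddMonoidHom.prod (AddMonoidHom.fst S S)
      (AddMonoidHom.prod (AddMonoidHom.snd S S) (0 : S × S →+ Y))
  let φ : AddChar (S × S) ℂ := ψ'.compAddMonoidHom (AddMonoidHom.snd S S)
  have hII := a3_coeff ι₁₂ (fun ν => (n ν : ℂ)) f hF φ
  have hf12 : ∀ p : S × S, f (ι₁₂ p) = theta χ z i (z i p.1 * (z (i + 1) p.2 * 1)) := by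
    intro p
    show theta χ z i (z i p.1 * z (i + 1) p.2 * y (i + 1) 0) = _
    rw [hy0, mul_one, mul_one]
  have hmu : mu χ z (i + 1) ψ' = (Fintype.card (S × S) : ℂ)⁻¹ *
      ∑ p : S × S, conj (φ p) * f (ι₁₂ p) := by
    rw [mu_def, isoAvg_apply]
    simp only [theta_succ, isoAvg_apply, hf12]
    rw [Fintype.card_prod, Nat.cast_mul, mul_inv, mul_assoc, Fintype.sum_prod_type,
      Finset.sum_comm]
    congr 1
    rw [Finset.mul_sum]
    apply Finset.sum_congr rfl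
    intro b _
    rw [Finset.mul_sum, Finset.mul_sum, Finset.mul_sum]
    apply Finset.sum_congr rfl
    intro a _
    show _ = (Fintype.card S : ℂ)⁻¹ * (conj (ψ' b) * _)
    simp only [map_one, one_mul]
    ring
  have hν'12 : ν'.compAddMonoidHom ι₁₂ = φ := by
    ext p
    show ν' (p.1, p.2, 0) = ψ' p.2
    have e : ((p.1, p.2, 0) : S × S × Y) = (p.1, 0, 0) + (0, p.2, 0) := by simp
    rw [e, AddChar.map_add_eq_mul, hν'x, hτ1, one_mul]
    rfl
  rw [hmu, hII]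
  have hcast : ∑ ν'' : AddChar (S × S × Y) ℂ,
      (n ν'' : ℂ) * (if ν''.compAddMonoidHom ι₁₂ = φ then 1 else 0)
      = ((∑ ν'' : AddChar (S × S × Y) ℂ,
          (if ν''.compAddMonoidHom ι₁₂ = φ then n ν'' else 0) : ℕ) : ℂ) := by
    rw [Nat.cast_sum]
    apply Finset.sum_congr rfl
    intro ν'' _
    split_ifs <;> simp
  rw [hcast]
  apply Nat.cast_ne_zero.2
  have hle : (if ν'.compAddMonoidHom ι₁₂ = φ then n ν' else 0) ≤
      ∑ ν'' : AddChar (S × S × Y) ℂ, (if ν''.compAddMonoidHom ι₁₂ = φ then n ν'' else 0) :=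
    Finset.single_le_sum (f := fun ν'' : AddChar (S × S × Y) ℂ =>
      if ν''.compAddMonoidHom ι₁₂ = φ then n ν'' else 0) (fun _ _ => Nat.zero_le _)
      (Finset.mem_univ ν')
  rw [if_pos hν'12, hnν'] at hle
  omega

theorem chain_bound {χ : G → ℂ} (hχ : IsCharacter G χ) (m : ℕ) (d : ℕ → ℕ)
    (z : ℕ → S → G) (y : ℕ → Y → G)
    (hz : ∀ i a b, z i (a + b) = z i a * z i b)
    (hy : ∀ i a b, y i (a + b) = y i a * y i b)
    (hzz : ∀ i j a b, i < m → j < m → z i a * z j b = z j b * z i a)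
    (hzy : ∀ i j a β, i < m → j < m → z j a * y i β = y i β * z j a)
    (h0 : 0 < m → ∃ c, χ (z 0 c) ≠ χ 1)
    (hQ : ∀ i, i < m → ∃ Q : Subgroup G,
      (∀ g ∈ Q, ∀ j, j < i → ∀ a, g * z j a = z j a * g) ∧
      (∀ c, z i c ∈ Q) ∧ (∀ g ∈ Q, ∀ c, g * z i c = z i c * g) ∧
      (∀ g ∈ Q, (∀ c, g ≠ z i c) → ∀ c, ∃ x ∈ Q, x⁻¹ * g * x = g * z i c) ∧
      Fintype.card S * d i ^ 2 ≤ Nat.card Q)
    (hT : ∀ i, i < m → ∀ ψ ψ' : AddChar S ℂ, ψ ≠ 1 → ψ' ≠ 1 →
      ∃ (g : G) (t : ℕ → S ≃ S), (∀ j, j ≤ i → ∀ a, g * z j a * g⁻¹ = z j (t j a)) ∧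
        ∀ a, ψ' (t i a) = ψ a)
    (hR : ∀ i, 0 < i → i < m → ∀ ν : AddChar (S × S × Y) ℂ, (∃ a, ν (a, 0, 0) ≠ 1) →
      ∃ (s : G) (τ : (S × S × Y) ≃+ (S × S × Y)),
        (∀ j, j + 1 < i → ∀ a, s * z j a = z j a * s) ∧
        (∀ x : S × S × Y, s * (z (i - 1) x.1 * z i x.2.1 * y i x.2.2) * s⁻¹ =
            z (i - 1) (τ x).1 * z i (τ x).2.1 * y i (τ x).2.2) ∧
        (∀ a, ν (τ (a, 0, 0)) = 1) ∧ ∃ b, ν (τ (0, b, 0)) ≠ 1) :
    ∃ k : ℕ, χ 1 = k ∧ ∑ i ∈ Finset.range m, (Fintype.card S - 1) * d i ≤ k := by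
  classical
  have hcf := Cfsg.Agent.Lib.Helper4.isClassFunction_of_isCharacter hχ
  -- some nontrivial character occurs at every level
  have NV : ∀ i, i < m → ∃ ψ : AddChar S ℂ, ψ ≠ 1 ∧ mu χ z i ψ ≠ 0 := by
    intro i
    induction i with
    | zero => intro h; exact a3_nv_zero χ z hz (h0 h)
    | succ i ih =>
      intro h
      obtain ⟨ψ, hψ, hμ⟩ := ih (by omega)
      refine a3_rstep hχ m z y hz hy hzz hzy i h ?_ ψ hψ hμ
      intro ν hν
      obtain ⟨s, τ, h1, h2, h3, h4⟩ := hR (i + 1) (Nat.succ_pos i) h ν hν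
      refine ⟨s, τ, ?_, ?_, h3, h4⟩
      · intro j hj a; exact h1 j (by omega) a
      · intro x
        have := h2 x
        simpa only [Nat.add_sub_cancel] using this
  set K := Fintype.card S - 1 with hK
  -- every level contributes `K * n` with `d i ≤ n`
  have LV : ∀ i, i < m → ∃ n : ℕ, d i ≤ n ∧
      ∑ ψ ∈ (Finset.univ : Finset (AddChar S ℂ)).erase 1, mu χ z i ψ = (K : ℂ) * (n : ℂ) := by
    intro i hi
    obtain ⟨Q, hQ1, hQ2, hQ3, hQ4, hQ5⟩ := hQ i hi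
    have hzz' : ∀ j k a b, j < i → k < i → z j a * z k b = z k b * z j a :=
      fun j k a b hj hk => hzz j k a b (by omega) (by omega)
    obtain ⟨ψ₀, hψ₀, hμ₀⟩ := NV i hi
    obtain ⟨n₀, hn₀, hb₀⟩ := a3_heis hχ z hz i (d i) hzz' Q hQ1 hQ2 hQ3 hQ4 hQ5 ψ₀ hψ₀
    have hn0 : n₀ ≠ 0 := by
      intro h; apply hμ₀; rw [hn₀, h]; simp
    refine ⟨n₀, hb₀ hn0, ?_⟩
    have hall : ∀ ψ ∈ (Finset.univ : Finset (AddChar S ℂ)).erase 1, mu χ z i ψ = (n₀ : ℂ) := by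
      intro ψ hψ
      have hψ1 : ψ ≠ 1 := (Finset.mem_erase.1 hψ).1
      obtain ⟨g, t, hg, ht⟩ := hT i hi ψ₀ ψ hψ₀ hψ1
      rw [a3_torus hcf z i ψ₀ ψ g t hg ht, hn₀]
    rw [Finset.sum_congr rfl hall, Finset.sum_const, Finset.card_erase_of_mem (Finset.mem_univ _),
      Finset.card_univ, AddChar.card_eq, nsmul_eq_mul]
  -- accumulate
  have ACC : ∀ i, i ≤ m → ∃ a : ℕ, (a : ℂ) + theta χ z i 1 = χ 1 ∧
      ∑ j ∈ Finset.range i, K * d j ≤ a := by
    intro i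
    induction i with
    | zero => intro _; exact ⟨0, by simp [theta_zero], by simp⟩
    | succ i ih =>
      intro h
      obtain ⟨a, ha, hs⟩ := ih (by omega)
      obtain ⟨n, hdn, hsum⟩ := LV i (by omega)
      refine ⟨a + K * n, ?_, ?_⟩
      · rw [← ha, a3_tele χ z hz i, hsum]; push_cast; ring
      · rw [Finset.sum_range_succ]; exact Nat.add_le_add hs (Nat.mul_le_mul_left _ hdn)
  obtain ⟨a, ha, hs⟩ := ACC m le_rfl
  have hθm : IsCharacter (⊥ : Subgroup G) (fun g : (⊥ : Subgroup G) => theta χ z m (g : G)) :=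
    theta_isCharacter hχ z hz m (fun j k a b hj hk => hzz j k a b hj hk) ⊥
      (by intro g hg j _ a; rw [Subgroup.mem_bot.1 hg]; simp)
  obtain ⟨t, ht⟩ := Cfsg.Agent.Lib.Helper4.isCharacter_apply_one hθm
  have ht' : theta χ z m 1 = (t : ℂ) := ht
  refine ⟨a + t, ?_, by omega⟩
  rw [← ha, ht']; push_cast; ring

end A3

end Cfsg.Agent.Lib.Helper1.SUMin
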