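import Mathlib
import Cfsg.Prelude.Def_Characters
import Cfsg.Agent.Lib.Helper4.SLMin.Defs
import Cfsg.Agent.Lib.Helper4.Characters
import Cfsg.Agent.Lib.Helper1.SiegelW
import Cfsg.Agent.Lib.Helper8.CharKernel
import Cfsg.Agent.Lib.Helper5.SLnRoots
import Cfsg.Agent.Lib.Helper6.SLMin_B

set_option autoImplicit false
set_option linter.unusedSectionVars false

/-!
# S2332, package PK-C: the numbers `e`, `f` of a character of `SL_(m+2)(F)` on the row group
-/

namespace Cfsg.Agent.Lib.Helper4.SLMin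

open Matrix Cfsg Cfsg.Agent.H9SLRoot Cfsg.Agent.Lib.Helper1.SUMin
open scoped ComplexConjugate

universe u

variable {F : Type u} [Field F] [Fintype F] [DecidableEq F]

local notation "q" => Fintype.card F

variable {m : ℕ}

/-- C1 -/
theorem char_tv_eq (hm : 1 ≤ m) {χ : SpecialLinearGroup (Fin (m + 2)) F → ℂ}
    (hχ : IsClassFunction (SpecialLinearGroup (Fin (m + 2)) F) χ) {x φ : Fin (m + 2) → F}
    (hx : x ≠ 0) (hφ : φ ≠ 0) (h : φ ⬝ᵥ x = 0) : χ (tv x φ 1) = χ (tauE (m + 1) 1) := by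
  obtain ⟨g, hg⟩ := exists_conj_tv hm hx hφ h
  rw [← hg, hχ]

namespace PkC

theorem qrow_zero : qrow (0 : Fin m → F) = 1 := by
  have h := qrow_add (0 : Fin m → F) 0
  rw [add_zero] at h
  exact (mul_eq_left.mp h.symm)

theorem ext0_ne_zero {w : Fin m → F} (hw : w ≠ 0) : ext0 w ≠ 0 := by
  intro h
  apply hw
  funext i
  have := congrFun h i.succ
  simpa [ext0] using this

theorem ext0_dot_e0 (w : Fin m → F) : ext0 w ⬝ᵥ (e 0 : Fin (m + 1) → F) = 0 := by
  unfold e
  rw [dotProduct_single, mul_one]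
  rfl

/-- values of a class function on the row group -/
theorem char_qrow (hm : 1 ≤ m) {χ : SpecialLinearGroup (Fin (m + 2)) F → ℂ}
    (hχ : IsClassFunction (SpecialLinearGroup (Fin (m + 2)) F) χ) {w : Fin (m + 1) → F}
    (hw : w ≠ 0) : χ (qrow w) = χ (tauE (m + 1) 1) := by
  unfold qrow
  exact char_tv_eq hm hχ (e_ne_zero 0) (ext0_ne_zero hw) (ext0_dot_e0 w)

theorem lamU_ne_one (ψ0 : AddChar F ℂ) (hψ0 : ψ0 ≠ 1) {k : ℕ} {u : Fin k → F} (hu : u ≠ 0) :
    lamU ψ0 u ≠ 1 := by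
  obtain ⟨a, ha⟩ := AddChar.ne_one_iff.mp hψ0
  obtain ⟨i, hi⟩ : ∃ i, u i ≠ 0 := by
    by_contra hcon
    push Not at hcon
    exact hu (funext hcon)
  rw [AddChar.ne_one_iff]
  refine ⟨Pi.single i ((u i)⁻¹ * a), ?_⟩
  rw [lamU_apply, dotProduct_single, ← mul_assoc, mul_inv_cancel₀ hi, one_mul]
  exact ha

theorem lamU_zero (ψ0 : AddChar F ℂ) {k : ℕ} (w : Fin k → F) :
    lamU ψ0 (0 : Fin k → F) w = 1 := by
  rw [lamU_apply, zero_dotProduct, AddChar.map_zero_eq_one]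

theorem sum_conj_lamU (ψ0 : AddChar F ℂ) (hψ0 : ψ0 ≠ 1) {k : ℕ} {u : Fin k → F} (hu : u ≠ 0) :
    ∑ w : Fin k → F, conj (lamU ψ0 u w) = 0 := by
  rw [← map_sum, AddChar.sum_eq_zero_of_ne_one (lamU_ne_one ψ0 hψ0 hu), map_zero]

/-- the value of the isotypic average at `1` in terms of `χ 1` and `c = χ(τ)` -/
theorem isoAvg_one_eq (hm : 1 ≤ m) {χ : SpecialLinearGroup (Fin (m + 2)) F → ℂ}
    (hχ : IsClassFunction (SpecialLinearGroup (Fin (m + 2)) F) χ)
    (lam : AddChar (Fin (m + 1) → F) ℂ) :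
    isoAvg qrow lam χ 1 = (Fintype.card (Fin (m + 1) → F) : ℂ)⁻¹ *
      (χ 1 - χ (tauE (m + 1) 1) + χ (tauE (m + 1) 1) * ∑ w : Fin (m + 1) → F, conj (lam w)) := by
  rw [isoAvg_apply]
  congr 1
  have h1 : ∀ w : Fin (m + 1) → F, conj (lam w) * χ (qrow w * 1) =
      (if w = 0 then χ 1 - χ (tauE (m + 1) 1) else 0) + χ (tauE (m + 1) 1) * conj (lam w) := by
    intro w
    rw [mul_one]
    by_cases hw : w = 0
    · subst hw
      rw [if_pos rfl, qrow_zero, AddChar.map_zero_eq_one, map_one]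
      ring
    · rw [if_neg hw, char_qrow hm hχ hw]
      ring
  rw [Finset.sum_congr rfl (fun w _ => h1 w), Finset.sum_add_distrib, Finset.sum_ite_eq' Finset.univ 0,
    if_pos (Finset.mem_univ _), ← Finset.mul_sum]

end PkC

open PkC in
/-- C2 -/
theorem exists_ef (hm : 1 ≤ m) (ψ0 : AddChar F ℂ) (hψ0 : ψ0 ≠ 1)
    {χ : SpecialLinearGroup (Fin (m + 2)) F → ℂ}
    (hχ : IsCharacter (SpecialLinearGroup (Fin (m + 2)) F) χ) :
    ∃ e f : ℕ, χ 1 = (f : ℂ) + e * ((q : ℂ) ^ (m + 1) - 1) ∧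
      χ (tauE (m + 1) 1) = (f : ℂ) - e ∧
      isoAvg qrow (lamU ψ0 (0 : Fin (m + 1) → F)) χ 1 = f ∧
      ∀ u : Fin (m + 1) → F, u ≠ 0 → isoAvg qrow (lamU ψ0 u) χ 1 = e := by
  classical
  have hcf := Cfsg.Agent.Lib.Helper4.isClassFunction_of_isCharacter hχ
  set c := χ (tauE (m + 1) 1) with hc
  have hN : (Fintype.card (Fin (m + 1) → F) : ℂ) = (q : ℂ) ^ (m + 1) := by
    rw [Fintype.card_fun, Fintype.card_fin]
    push_cast
    rfl
  have hN0 : ((q : ℂ) ^ (m + 1)) ≠ 0 := by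
    apply pow_ne_zero
    exact_mod_cast Fintype.card_ne_zero
  -- the two values
  have h0 : isoAvg qrow (lamU ψ0 (0 : Fin (m + 1) → F)) χ 1 =
      ((q : ℂ) ^ (m + 1))⁻¹ * (χ 1 - c + c * (q : ℂ) ^ (m + 1)) := by
    rw [isoAvg_one_eq hm hcf, hN]
    congr 2
    rw [← hc]
    congr 1
    rw [Finset.sum_congr rfl (fun w _ => by rw [lamU_zero, map_one]), Finset.sum_const,
      Finset.card_univ, nsmul_eq_mul, mul_one, hN]
  have h1 : ∀ u : Fin (m + 1) → F, u ≠ 0 → isoAvg qrow (lamU ψ0 u) χ 1 =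
      ((q : ℂ) ^ (m + 1))⁻¹ * (χ 1 - c) := by
    intro u hu
    rw [isoAvg_one_eq hm hcf, hN, sum_conj_lamU ψ0 hψ0 hu, mul_zero, add_zero]
  -- integrality
  obtain ⟨f, hf⟩ := sw_mult_nat hχ (qrow : (Fin (m + 1) → F) → _) qrow_add
    (lamU ψ0 (0 : Fin (m + 1) → F))
  have hu0 : (e 0 : Fin (m + 1) → F) ≠ 0 := e_ne_zero 0
  obtain ⟨e', he'⟩ := sw_mult_nat hχ (qrow : (Fin (m + 1) → F) → _) qrow_add
    (lamU ψ0 (e 0 : Fin (m + 1) → F))
  have hf' : isoAvg qrow (lamU ψ0 (0 : Fin (m + 1) → F)) χ 1 = f := hf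
  have he'' : isoAvg qrow (lamU ψ0 (e 0 : Fin (m + 1) → F)) χ 1 = e' := he'
  rw [h0] at hf'
  rw [h1 _ hu0] at he''
  have e1 : χ 1 - c = e' * (q : ℂ) ^ (m + 1) := by
    rw [← he'']
    field_simp
  have e2 : χ 1 - c + c * (q : ℂ) ^ (m + 1) = f * (q : ℂ) ^ (m + 1) := by
    rw [← hf']
    field_simp
  have e3 : c = (f : ℂ) - e' := by
    have : (c - ((f : ℂ) - e')) * (q : ℂ) ^ (m + 1) = 0 := by
      linear_combination e2 - e1
    rcases mul_eq_zero.mp this with h | h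
    · exact sub_eq_zero.mp h
    · exact absurd h hN0
  refine ⟨e', f, ?_, e3, hf, ?_⟩
  · linear_combination e1 + e3
  · intro u hu
    rw [h1 u hu, ← he'']

namespace PkC

open Cfsg.Agent.Lib.Helper5.SLnBN in
/-- a normal subgroup of `SL_(m+2)`, `m ≥ 1`, containing the transvection `τ` is everything -/
theorem normal_eq_top (hm : 1 ≤ m) (K : Subgroup (SpecialLinearGroup (Fin (m + 2)) F)) [K.Normal]
    (h : tauE (m + 1) (1 : F) ∈ K) : K = ⊤ := by
  have key : ∀ (i j : Fin (m + 2)) (hij : i ≠ j) (t : F),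
      Matrix.SpecialLinearGroup.transvection hij t ∈ K := by
    intro i j hij t
    have heq : Matrix.SpecialLinearGroup.transvection hij t = tv (e i) (e j) t := by
      apply Subtype.ext
      rw [tv_e_coe hij]
      rfl
    rw [heq]
    by_cases ht : t = 0
    · subst ht
      rw [tv_zero]
      exact K.one_mem
    · have h2 : tv (e i : Fin (m + 2) → F) (e j) t = tv (t • (e i : Fin (m + 2) → F)) ((1 : F) • e j) 1 := by
        rw [tv_smul, mul_one, mul_one]
      rw [h2, one_smul]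
      have hx : t • (e i : Fin (m + 2) → F) ≠ 0 := smul_ne_zero ht (e_ne_zero i)
      have hinc : (e j : Fin (m + 2) → F) ⬝ᵥ (t • (e i : Fin (m + 2) → F)) = 0 := by
        rw [dotProduct_smul, e_dot_e_ne hij.symm, smul_zero]
      obtain ⟨g, hg⟩ := exists_conj_tv hm hx (e_ne_zero j) hinc
      have : tv (t • (e i : Fin (m + 2) → F)) (e j) 1 = g⁻¹ * tauE (m + 1) 1 * g⁻¹⁻¹ := by
        rw [← hg]; group
      rw [this]
      exact ‹K.Normal›.conj_mem _ h _
  exact eq_top_of_simple_roots (m := m + 1) (by omega) K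
    (fun i t => key _ _ (castSucc_ne_succ i) t) (fun i t => key _ _ (castSucc_ne_succ i).symm t)

/-- a character of degree one is multiplicative -/
theorem linear_mul {G : Type u} [Group G] [Fintype G] {χ : G → ℂ} (hχ : IsIrrCharacter G χ) (h1 : χ 1 = 1)
    (a b : G) : χ (a * b) = χ a * χ b := by
  obtain ⟨n, ρ, -, rfl⟩ := hχ
  rw [Representation.char_one] at h1
  have hn : n = 1 := by
    have : (Module.finrank ℂ (Fin n → ℂ) : ℂ) = 1 := h1
    rw [Module.finrank_fin_fun] at this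
    exact_mod_cast this
  subst hn
  rw [Cfsg.Agent.Lib.Helper4.character_eq_trace_repMat, Cfsg.Agent.Lib.Helper4.character_eq_trace_repMat,
    Cfsg.Agent.Lib.Helper4.character_eq_trace_repMat, Cfsg.Agent.Lib.Helper4.repMat_mul]
  simp [Matrix.trace, Matrix.mul_apply]

theorem linear_comm {G : Type u} [Group G] [Fintype G] {χ : G → ℂ} (hχ : IsIrrCharacter G χ) (h1 : χ 1 = 1)
    (a b : G) : χ (a * b * a⁻¹ * b⁻¹) = 1 := by
  rw [linear_mul hχ h1, linear_mul hχ h1, linear_mul hχ h1]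
  have ha : χ a * χ a⁻¹ = 1 := by rw [← linear_mul hχ h1, mul_inv_cancel, h1]
  have hb : χ b * χ b⁻¹ = 1 := by rw [← linear_mul hχ h1, mul_inv_cancel, h1]
  calc χ a * χ b * χ a⁻¹ * χ b⁻¹ = (χ a * χ a⁻¹) * (χ b * χ b⁻¹) := by ring
    _ = 1 := by rw [ha, hb, mul_one]

/-- `τ` is a commutator when `n ≥ 3` -/
theorem tauE_eq_comm (hm : 1 ≤ m) : ∃ a b : SpecialLinearGroup (Fin (m + 2)) F,
    a * b * a⁻¹ * b⁻¹ = tauE (m + 1) 1 := by
  set i2 : Fin (m + 2) := ⟨2, by omega⟩ with hi2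
  have h2 : i2 ≠ 0 := by
    intro h
    have := congrArg Fin.val h
    rw [Fin.val_zero] at this
    simp [hi2] at this
  have h21 : i2 ≠ 1 := by
    intro h
    have := congrArg Fin.val h
    rw [Fin.val_one] at this
    simp [hi2] at this
  have h10 : (1 : Fin (m + 2)) ≠ 0 := by
    intro h
    have := congrArg Fin.val h
    rw [Fin.val_one, Fin.val_zero] at this
    omega
  refine ⟨tv (e i2) (e 1) (-1), tv (e 0) (e i2) 1, ?_⟩
  rw [tv_commutator (e_dot_e_ne h21.symm) (e_dot_e_ne h2) (e_dot_e_ne h10), e_dot_e_self]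
  unfold tauE
  congr 1
  ring

end PkC

open PkC in
/-- C3 -/
theorem tv_not_in_kernel (hm : 1 ≤ m) {χ : SpecialLinearGroup (Fin (m + 2)) F → ℂ}
    (hχ : IsIrrCharacter (SpecialLinearGroup (Fin (m + 2)) F) χ) (h1 : χ 1 ≠ 1) :
    χ (tauE (m + 1) 1) ≠ χ 1 := by
  classical
  intro hcon
  obtain ⟨K, hK, hmem⟩ := Cfsg.Agent.Lib.Helper8.exists_normal_ker
    (Cfsg.Agent.Lib.Helper4.isCharacter_of_irr hχ)
  have htop : K = ⊤ := normal_eq_top hm K ((hmem _).mpr hcon)
  have hconst : ∀ g, χ g = χ 1 := fun g => (hmem g).mp (by rw [htop]; exact Subgroup.mem_top g)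
  obtain ⟨n, -, hn⟩ := Cfsg.Agent.Lib.Helper4.irr_apply_one_pos hχ
  have hinner := Cfsg.Agent.Lib.Helper4.classInner_irr_self hχ
  unfold classInner at hinner
  rw [Finset.sum_congr rfl (fun g _ => by rw [hconst g, hn, Complex.conj_natCast]), Finset.sum_const,
    Finset.card_univ, nsmul_eq_mul, Nat.card_eq_fintype_card] at hinner
  have hcard : ((Fintype.card (SpecialLinearGroup (Fin (m + 2)) F) : ℕ) : ℂ) ≠ 0 := by
    exact_mod_cast Fintype.card_ne_zero
  rw [← mul_assoc, inv_mul_cancel₀ hcard, one_mul] at hinner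
  have hn1 : n * n = 1 := by exact_mod_cast hinner
  have : n = 1 := by
    rcases Nat.eq_one_of_mul_eq_one_left hn1 with h
    exact h
  apply h1
  rw [hn, this, Nat.cast_one]

open PkC in
/-- C4 -/
theorem linear_tv (hm : 1 ≤ m) {χ : SpecialLinearGroup (Fin (m + 2)) F → ℂ}
    (hχ : IsIrrCharacter (SpecialLinearGroup (Fin (m + 2)) F) χ) (h1 : χ 1 = 1) :
    χ (tauE (m + 1) 1) = 1 := by
  obtain ⟨a, b, hab⟩ := tauE_eq_comm (F := F) hm
  rw [← hab]
  exact linear_comm hχ h1 a b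

namespace PkC

/-- the Weyl element of `SL_2` -/
def wEl : SpecialLinearGroup (Fin 2) F := ⟨!![0, 1; -1, 0], by simp [Matrix.det_fin_two]⟩

theorem wEl_coe :
    ((wEl : SpecialLinearGroup (Fin 2) F) : Matrix (Fin 2) (Fin 2) F) = !![0, 1; -1, 0] := rfl

theorem w_conj (t : F) :
    (wEl : SpecialLinearGroup (Fin 2) F) *
        Matrix.SpecialLinearGroup.transvection (zero_ne_one : (0 : Fin 2) ≠ 1) (-t) * wEl⁻¹ =
      Matrix.SpecialLinearGroup.transvection (zero_ne_one : (0 : Fin 2) ≠ 1).symm t := by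
  have h : ((wEl * Matrix.SpecialLinearGroup.transvection (zero_ne_one : (0 : Fin 2) ≠ 1) (-t) *
        wEl⁻¹ : SpecialLinearGroup (Fin 2) F) : Matrix (Fin 2) (Fin 2) F) =
      ((Matrix.SpecialLinearGroup.transvection (zero_ne_one : (0 : Fin 2) ≠ 1).symm t :
        SpecialLinearGroup (Fin 2) F) : Matrix (Fin 2) (Fin 2) F) := by
    rw [Matrix.SpecialLinearGroup.coe_mul, Matrix.SpecialLinearGroup.coe_mul,
      Matrix.SpecialLinearGroup.coe_inv, wEl_coe, Matrix.adjugate_fin_two_of,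
      Matrix.SpecialLinearGroup.transvection_coe, Matrix.SpecialLinearGroup.transvection_coe]
    ext i j
    fin_cases i <;> fin_cases j <;>
      simp [Matrix.mul_apply, Matrix.vecMul, dotProduct, Fin.sum_univ_two, Matrix.single,
        Matrix.one_apply]
  exact Subtype.ext h

open Cfsg.Agent.Lib.Helper5.SLnBN in
/-- a normal subgroup of `SL_2` containing the upper root group is everything -/
theorem normal_eq_top_two (K : Subgroup (SpecialLinearGroup (Fin 2) F)) [K.Normal]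
    (h : ∀ t : F, tauE 1 t ∈ K) : K = ⊤ := by
  have h01 : ∀ t : F,
      Matrix.SpecialLinearGroup.transvection (zero_ne_one : (0 : Fin 2) ≠ 1) t ∈ K := by
    intro t
    have heq : Matrix.SpecialLinearGroup.transvection (zero_ne_one : (0 : Fin 2) ≠ 1) t =
        tv (e 0) (e 1) t := by
      apply Subtype.ext
      rw [tv_e_coe (zero_ne_one : (0 : Fin 2) ≠ 1)]
      rfl
    rw [heq]
    exact h t
  have h10 : ∀ t : F,
      Matrix.SpecialLinearGroup.transvection (zero_ne_one : (0 : Fin 2) ≠ 1).symm t ∈ K := by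
    intro t
    rw [← w_conj]
    exact ‹K.Normal›.conj_mem _ (h01 (-t)) _
  refine eq_top_of_simple_roots (m := 1) le_rfl K (fun i t => ?_) (fun i t => ?_)
  · have hi : i = 0 := Subsingleton.elim _ _
    subst hi
    exact h01 t
  · have hi : i = 0 := Subsingleton.elim _ _
    subst hi
    exact h10 t

end PkC

open PkC in
/-- C5: a character of `SL_(m+2)`, `m ≥ 0`, that is trivial on the root group `1 + t e_0 e_1ᵀ` is
a multiple of the trivial character -/
theorem const_of_root {χ : SpecialLinearGroup (Fin (m + 2)) F → ℂ}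
    (hχ : IsCharacter (SpecialLinearGroup (Fin (m + 2)) F) χ)
    (h : ∀ t : F, χ (tauE (m + 1) t) = χ 1) : ∀ g, χ g = χ 1 := by
  classical
  obtain ⟨K, hK, hmem⟩ := Cfsg.Agent.Lib.Helper8.exists_normal_ker hχ
  have htop : K = ⊤ := by
    rcases Nat.eq_zero_or_pos m with h0 | hpos
    · subst h0
      exact normal_eq_top_two K (fun t => (hmem _).mpr (h t))
    · exact normal_eq_top hpos K ((hmem _).mpr (h 1))
  intro g
  exact (hmem g).mp (by rw [htop]; exact Subgroup.mem_top g)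

end Cfsg.Agent.Lib.Helper4.SLMin
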