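import Mathlib
import Cfsg.Prelude.Def_Characters
import Cfsg.Agent.Lib.Helper4.SLMin.Defs
import Cfsg.Agent.Lib.Helper1.SLMin_N
import Cfsg.Agent.S0157

set_option autoImplicit false
set_option linter.unusedSectionVars false

/-!
# S2332, package PK-X: an irreducible character of `SL_n(F)` of degree `(q^n - q)/(q - 1)`
(the permutation character on the projective space minus the trivial character)
-/

namespace Cfsg.Agent.Lib.Helper4.SLMin

open Matrix Cfsg
open scoped LinearAlgebra.Projectivization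

universe u

variable {F : Type u} [Field F] [Fintype F] [DecidableEq F]

local notation "q" => Fintype.card F

theorem exists_irr (n : ℕ) (hn : 3 ≤ n) :
    ∃ χ : SpecialLinearGroup (Fin n) F → ℂ, IsIrrCharacter (SpecialLinearGroup (Fin n) F) χ ∧
      χ 1 = bnd q n := by
  classical
  obtain ⟨k, rfl⟩ : ∃ k, n = k + 1 := ⟨n - 1, by omega⟩
  have hq : 2 ≤ q := Fintype.one_lt_card
  have hcard : Nat.card (ℙ F (Fin (k + 1) → F)) = PkN.gs q (k + 1) := by
    rw [Projectivization.card_of_finrank F (Fin (k + 1) → F) (n := k + 1) (by simp),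
      Nat.card_eq_fintype_card]
    rfl
  have : Finite (ℙ F (Fin (k + 1) → F)) := by
    apply Nat.finite_of_card_ne_zero
    rw [hcard]
    have := PkN.gs_pos q k
    omega
  have : MulAction.IsPretransitive (SpecialLinearGroup (Fin (k + 1)) F) (ℙ F (Fin (k + 1) → F)) :=
    MulAction.isPretransitive_of_is_two_pretransitive
  have h2 : 2 ≤ Nat.card (ℙ F (Fin (k + 1) → F)) := by
    rw [hcard, PkN.gs_succ]
    obtain ⟨j, rfl⟩ : ∃ j, k = j + 1 := ⟨k - 1, by omega⟩
    have := PkN.gs_pos q j
    nlinarith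
  have hirr := (Cfsg.Agent.S0157.result (G := SpecialLinearGroup (Fin (k + 1)) F)
    (ℙ F (Fin (k + 1) → F)) h2).mpr inferInstance
  refine ⟨_, hirr, ?_⟩
  have hfix : Nat.card (MulAction.fixedBy (ℙ F (Fin (k + 1) → F))
      (1 : SpecialLinearGroup (Fin (k + 1)) F)) = Nat.card (ℙ F (Fin (k + 1) → F)) := by
    rw [MulAction.fixedBy_one_eq_univ]
    exact Nat.card_congr (Equiv.Set.univ _)
  show (Nat.card (MulAction.fixedBy (ℙ F (Fin (k + 1) → F))
      (1 : SpecialLinearGroup (Fin (k + 1)) F)) : ℂ) - 1 = _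
  rw [hfix, hcard, PkN.gs_succ, PkN.bnd_eq hq]
  push_cast
  ring

end Cfsg.Agent.Lib.Helper4.SLMin
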