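import Mathlib

/-!
# S4321 interface: class sizes and `p`-elements

`cs x` is the size of the conjugacy class of `x`, written as the index of the centralizer
(the form used by the frozen statement).  `IsPEl p x` says that `x` has `p`-power order.
-/

set_option autoImplicit false

namespace Cfsg.Agent.Lib.Lead.PSing

universe u

/-- The class size of `x`, as the index of its centralizer. -/
noncomputable abbrev cs {G : Type u} [Group G] (x : G) : ℕ :=
  (Subgroup.centralizer ({x} : Set G)).index

/-- `x` has `p`-power order. -/
def IsPEl {G : Type u} [Group G] (p : ℕ) (x : G) : Prop := ∃ k : ℕ, orderOf x = p ^ k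

/-- Dichotomy: a `p`-element whose class size is divisible by `p` has `p`-power class size. -/
def Dich (G : Type u) [Group G] (p : ℕ) : Prop :=
  ∀ w : G, IsPEl p w → p ∣ cs w → ∃ k : ℕ, cs w = p ^ k

/-- Hypothesis (E) relative to `v`: a `p`-singular element whose class size is divisible
by `p` has class size coprime to that of `v`. -/
def HypE (G : Type u) [Group G] (p : ℕ) (v : G) : Prop :=
  ∀ x : G, p ∣ orderOf x → p ∣ cs x → Nat.Coprime (cs x) (cs v)

end Cfsg.Agent.Lib.Lead.PSing
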