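import Mathlib
import Cfsg.Prelude.Def_Solvable
import Cfsg.Prelude.Def_TwoFusion
import Cfsg.Agent.Lib.Helper3.Count
import Cfsg.Agent.Lib.Helper8.ZS7
import Cfsg.Agent.Lib.Lead.CoprimeSylow3

set_option autoImplicit false

namespace Cfsg.Agent.Lib.Lead.InvProdP

open Cfsg

variable {G : Type*} [Group G]

/-- conjugation orbit of `d` under a subgroup `H` -/
def conjOrb (H : Subgroup G) (d : G) : Set G := {a | ∃ x ∈ H, a = x * d * x⁻¹}

theorem conjOrb_mono {H K : Subgroup G} (h : H ≤ K) (d : G) : conjOrb H d ⊆ conjOrb K d := by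
  rintro a ⟨x, hx, rfl⟩
  exact ⟨x, h hx, rfl⟩

theorem card_conjOrb_mul [Finite G] (H : Subgroup G) (d : G) :
    Nat.card H =
      Nat.card (conjOrb H d) * Nat.card (H ⊓ Subgroup.centralizer ({d} : Set G) : Subgroup G) := by
  let f : H → conjOrb H d := fun x => ⟨x * d * (x : G)⁻¹, ⟨x, x.2, rfl⟩⟩
  apply Cfsg.Agent.Lib.Helper3.card_eq_mul_of_fibres f
  rintro ⟨b, x₀, hx₀, rfl⟩
  apply Nat.card_congr
  refine
    { toFun := fun x => ⟨x₀⁻¹ * (x.1 : G), ?_⟩
      invFun := fun c => ⟨⟨x₀ * c.1, ?_⟩, ?_⟩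
      left_inv := fun x => by simp
      right_inv := fun c => by simp }
  · have hx : (x.1 : G) * d * (x.1 : G)⁻¹ = x₀ * d * x₀⁻¹ := congrArg Subtype.val x.2
    refine ⟨H.mul_mem (H.inv_mem hx₀) x.1.2, ?_⟩
    show x₀⁻¹ * (x.1 : G) ∈ Subgroup.centralizer ({d} : Set G)
    rw [Subgroup.mem_centralizer_singleton_iff]
    calc x₀⁻¹ * (x.1 : G) * d = x₀⁻¹ * ((x.1 : G) * d * (x.1 : G)⁻¹) * x.1 := by group
      _ = x₀⁻¹ * (x₀ * d * x₀⁻¹) * x.1 := by rw [hx]
      _ = d * (x₀⁻¹ * (x.1 : G)) := by group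
  · exact H.mul_mem hx₀ c.2.1
  · have hc : (c.1 : G) ∈ Subgroup.centralizer ({d} : Set G) := c.2.2
    rw [Subgroup.mem_centralizer_singleton_iff] at hc
    apply Subtype.ext
    change x₀ * c.1 * d * (x₀ * c.1)⁻¹ = x₀ * d * x₀⁻¹
    calc x₀ * c.1 * d * (x₀ * c.1)⁻¹ = x₀ * (c.1 * d) * c.1⁻¹ * x₀⁻¹ := by group
      _ = x₀ * (d * c.1) * c.1⁻¹ * x₀⁻¹ := by rw [hc]
      _ = x₀ * d * x₀⁻¹ := by group

/-- Two involutions whose product has odd order are conjugate by a power of the product. -/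
theorem conj_of_odd_prod {d a : G} (hd : d * d = 1) (ha : a * a = 1) (hodd : Odd (orderOf (a * d))) :
    ∃ r ∈ Subgroup.zpowers (a * d), a = r * d * r⁻¹ := by
  obtain ⟨m, hm⟩ := hodd
  set t := a * d with ht
  have hdinv : d⁻¹ = d := inv_eq_of_mul_eq_one_left hd
  have hainv : a⁻¹ = a := inv_eq_of_mul_eq_one_left ha
  have htinv : d * t * d⁻¹ = t⁻¹ := by
    rw [ht, mul_inv_rev, hdinv, hainv]
    calc d * (a * d) * d = d * a * (d * d) := by group
      _ = d * a := by rw [hd, mul_one]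
  refine ⟨t ^ (m + 1), Subgroup.pow_mem _ (Subgroup.mem_zpowers _) _, ?_⟩
  have h1 : d * t ^ (m + 1) * d⁻¹ = (t ^ (m + 1))⁻¹ := by
    have : d * t ^ (m + 1) * d⁻¹ = (d * t * d⁻¹) ^ (m + 1) := by
      rw [conj_pow]
    rw [this, htinv, inv_pow]
  have h2 : t ^ (m + 1) * t ^ (m + 1) = t := by
    rw [← pow_add]
    have : m + 1 + (m + 1) = orderOf t + 1 := by rw [hm]; ring
    rw [this, pow_succ, pow_orderOf_eq_one, one_mul]
  have h3 : d * (t ^ (m + 1))⁻¹ = t ^ (m + 1) * d := by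
    have : d * (t ^ (m + 1))⁻¹ * d⁻¹ = t ^ (m + 1) := by
      rw [← inv_inj, mul_inv_rev, mul_inv_rev, inv_inv, inv_inv, ← mul_assoc]
      exact h1
    calc d * (t ^ (m + 1))⁻¹ = d * (t ^ (m + 1))⁻¹ * d⁻¹ * d := by group
      _ = t ^ (m + 1) * d := by rw [this]
  calc a = t * d := by rw [ht, mul_assoc, hd, mul_one]
    _ = t ^ (m + 1) * t ^ (m + 1) * d := by rw [h2]
    _ = t ^ (m + 1) * (t ^ (m + 1) * d) := by rw [mul_assoc]
    _ = t ^ (m + 1) * (d * (t ^ (m + 1))⁻¹) := by rw [h3]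
    _ = t ^ (m + 1) * d * (t ^ (m + 1))⁻¹ := by rw [mul_assoc]

theorem main [Finite G] {p : ℕ} (hp : p.Prime) (hp2 : p ≠ 2) (d : G) (hd : orderOf d = 2)
    (hprod : ∀ a ∈ conjugatesOf d, ∀ b ∈ conjugatesOf d, ∃ k : ℕ, orderOf (a * b) = p ^ k) :
    ∀ a ∈ conjugatesOf d, ∀ b ∈ conjugatesOf d, a * b ∈ Cfsg.pCore p G := by
  classical
  haveI : Fact p.Prime := ⟨hp⟩
  have hdd : d * d = 1 := by rw [← pow_two, ← hd, pow_orderOf_eq_one]
  have hdinv : d⁻¹ = d := inv_eq_of_mul_eq_one_left hdd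
  have mem_conjugatesOf_iff : ∀ {a : G}, a ∈ conjugatesOf d ↔ IsConj d a := Iff.rfl
  have hconj : ∀ g : G, g * d * g⁻¹ ∈ conjugatesOf d := fun g => by
    rw [mem_conjugatesOf_iff, isConj_iff]; exact ⟨g, rfl⟩
  have hself : d ∈ conjugatesOf d := mem_conjugatesOf_self
  have hsq : ∀ a ∈ conjugatesOf d, a * a = 1 := by
    intro a ha
    rw [mem_conjugatesOf_iff, isConj_iff] at ha
    obtain ⟨g, rfl⟩ := ha
    calc g * d * g⁻¹ * (g * d * g⁻¹) = g * (d * d) * g⁻¹ := by group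
      _ = 1 := by rw [hdd]; group
  have hpodd : ∀ k, Odd (p ^ k) := fun k => (hp.odd_of_ne_two hp2).pow
  -- `d` is isolated
  have hiso : IsIsolatedInvolution d := by
    refine ⟨hd, fun g hcomm => ?_⟩
    obtain ⟨e, he0⟩ : ∃ e, e = g * d * g⁻¹ := ⟨_, rfl⟩
    rw [← he0] at hcomm ⊢
    have hemem : e ∈ conjugatesOf d := he0 ▸ hconj g
    have he : e * e = 1 := hsq e hemem
    obtain ⟨k, hk⟩ := hprod d hself e hemem
    have h2 : (d * e) ^ 2 = 1 := by
      rw [pow_two]
      calc d * e * (d * e) = d * (e * d) * e := by group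
        _ = d * (d * e) * e := by rw [hcomm.eq]
        _ = (d * d) * (e * e) := by group
        _ = 1 := by rw [hdd, he, one_mul]
    have h3 : orderOf (d * e) ∣ 2 := orderOf_dvd_of_pow_eq_one h2
    have h4 : orderOf (d * e) = 1 := by
      rcases (Nat.dvd_prime Nat.prime_two).mp h3 with h | h
      · exact h
      · exfalso
        have := hpodd k
        rw [← hk, h] at this
        exact absurd this (by decide)
    rw [orderOf_eq_one_iff] at h4
    calc e = d⁻¹ * (d * e) := by group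
      _ = d := by rw [h4, mul_one, hdinv]
  obtain ⟨N, hNn, hNodd, hN⟩ := Cfsg.Agent.Lib.Helper8.zstar_isolated hiso
  haveI := hNn
  have haN : ∀ a ∈ conjugatesOf d, a * d ∈ N := by
    intro a ha
    rw [mem_conjugatesOf_iff, isConj_iff] at ha
    obtain ⟨g, rfl⟩ := ha
    have h1 := N.inv_mem (hN g)
    have h2 : g * d * g⁻¹ * d = (d * g * d⁻¹ * g⁻¹)⁻¹ := by
      calc g * d * g⁻¹ * d = g * d * g⁻¹ * d⁻¹ := by rw [hdinv]
        _ = (d * g * d⁻¹ * g⁻¹)⁻¹ := by
          have : (d * g * d⁻¹ * g⁻¹)⁻¹ = g * d * g⁻¹ * d⁻¹ := by group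
          rw [this]
    rw [h2]; exact h1
  have hNconj : ∀ a ∈ conjugatesOf d, a ∈ conjOrb N d := by
    intro a ha
    have hodd : Odd (orderOf (a * d)) := by
      have : orderOf (a * d) ∣ Nat.card N := by
        have := orderOf_dvd_natCard (⟨a * d, haN a ha⟩ : N)
        rwa [Subgroup.orderOf_mk] at this
      exact Odd.of_dvd_nat hNodd this
    obtain ⟨r, hr, hra⟩ := conj_of_odd_prod hdd (hsq a ha) hodd
    exact ⟨r, (Subgroup.zpowers_le.mpr (haN a ha)) hr, hra⟩
  -- invariant Sylow subgroups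
  have hzN : Subgroup.zpowers d ≤ Subgroup.normalizer (N : Set G) := by
    rw [Subgroup.normalizer_eq_top]; exact le_top
  have hcop : (Nat.card (Subgroup.zpowers d)).Coprime (Nat.card N) := by
    rw [Nat.card_zpowers, hd]; exact Nat.coprime_two_left.mpr hNodd
  have hsolv : Group.IsSolvable (Subgroup.zpowers d) ∨ Group.IsSolvable N :=
    Or.inl (Group.isSolvable_of_comm (fun a b => by
      obtain ⟨a, i, rfl⟩ := a
      obtain ⟨b, j, rfl⟩ := b
      apply Subtype.ext
      exact (Commute.zpow_zpow_self d i j).eq))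
  have hSyl : ∀ (q : ℕ) [Fact q.Prime], ∃ Q : Sylow q N,
      ∀ x ∈ (Q : Subgroup N).map N.subtype, d * x * d⁻¹ ∈ (Q : Subgroup N).map N.subtype := by
    intro q _
    obtain ⟨Q, hQ⟩ := Cfsg.Agent.Lib.Lead.coprime_invariant_sylow_exists (Subgroup.zpowers d) N
      hzN hcop hsolv q
    refine ⟨Q, fun x hx => ?_⟩
    have := hQ (Subgroup.mem_zpowers d)
    rw [Subgroup.mem_normalizer_iff] at this
    exact (this x).mp hx
  set C := Subgroup.centralizer ({d} : Set G) with hC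
  have hcardN := card_conjOrb_mul N d
  -- the orbit has `p`-power size
  have hq : ∀ q : ℕ, q.Prime → q ≠ p → ¬ q ∣ Nat.card (conjOrb N d) := by
    intro q hqp hqne hdvd
    haveI : Fact q.Prime := ⟨hqp⟩
    obtain ⟨Q, hQ⟩ := hSyl q
    have hQle : (Q : Subgroup N).map N.subtype ≤ N ⊓ C := by
      intro x hx
      refine ⟨Subgroup.map_subtype_le _ hx, ?_⟩
      show x ∈ Subgroup.centralizer ({d} : Set G)
      rw [Subgroup.mem_centralizer_singleton_iff]
      have hamem := hconj x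
      obtain ⟨k, hk⟩ := hprod _ hamem d hself
      have hmem : x * d * x⁻¹ * d ∈ (Q : Subgroup N).map N.subtype := by
        have h1 := (Subgroup.map N.subtype (Q : Subgroup N)).inv_mem (hQ x hx)
        have h2 : x * d * x⁻¹ * d = x * (d * x * d⁻¹)⁻¹ := by
          have : (d * x * d⁻¹)⁻¹ = d * x⁻¹ * d⁻¹ := by group
          rw [this, hdinv]; group
        rw [h2]
        exact Subgroup.mul_mem _ hx h1
      have hQp : IsPGroup q ((Q : Subgroup N).map N.subtype) := Q.2.map _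
      obtain ⟨j, hj⟩ := hQp ⟨_, hmem⟩
      have hj' : (x * d * x⁻¹ * d) ^ q ^ j = 1 := by
        have := congrArg Subtype.val hj
        simpa using this
      have hdv : orderOf (x * d * x⁻¹ * d) ∣ q ^ j := orderOf_dvd_of_pow_eq_one hj'
      have hk0 : k = 0 := by
        by_contra hk0
        have : p ∣ q ^ j := by
          refine dvd_trans ?_ hdv
          rw [hk]
          exact dvd_pow_self p hk0
        have := hp.dvd_of_dvd_pow this
        exact hqne ((Nat.prime_dvd_prime_iff_eq hp hqp).mp this).symm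
      rw [hk0, pow_zero, orderOf_eq_one_iff] at hk
      have : x * d * x⁻¹ = d := by
        calc x * d * x⁻¹ = x * d * x⁻¹ * d * d⁻¹ := by group
          _ = d := by rw [hk, one_mul, hdinv]
      calc x * d = x * d * x⁻¹ * x := by group
        _ = d * x := by rw [this]
    have h1 : Nat.card ((Q : Subgroup N).map N.subtype) ∣ Nat.card (N ⊓ C : Subgroup G) :=
      Subgroup.card_dvd_of_le hQle
    obtain ⟨hcQ, -, -⟩ := Cfsg.Agent.Lib.Lead.sylow_card_facts N q Q
    rw [hcQ] at h1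
    have h2 : q ^ ((Nat.card N).factorization q + 1) ∣ Nat.card N := by
      rw [pow_succ, mul_comm]
      calc q * q ^ (Nat.card N).factorization q
          ∣ Nat.card (conjOrb N d) * Nat.card (N ⊓ C : Subgroup G) := Nat.mul_dvd_mul hdvd h1
        _ = Nat.card N := hcardN.symm
    exact Nat.pow_succ_factorization_not_dvd Nat.card_pos.ne' hqp h2
  -- the invariant Sylow `p`-subgroup
  obtain ⟨P, hP⟩ := hSyl p
  obtain ⟨PG, hPG⟩ : ∃ PG : Subgroup G, PG = (P : Subgroup N).map N.subtype := ⟨_, rfl⟩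
  rw [← hPG] at hP
  have hPN : PG ≤ N := hPG ▸ Subgroup.map_subtype_le _
  have hPp : IsPGroup p PG := hPG ▸ P.2.map _
  obtain ⟨hcP, hcN', hndvd⟩ := Cfsg.Agent.Lib.Lead.sylow_card_facts N p P
  rw [← hPG] at hcP
  have hcardP := card_conjOrb_mul PG d
  have horb : conjOrb PG d = conjOrb N d := by
    apply Set.eq_of_subset_of_ncard_le (conjOrb_mono hPN d) _ (Set.toFinite _)
    rw [← Nat.card_coe_set_eq, ← Nat.card_coe_set_eq]
    obtain ⟨e, he⟩ : ∃ e, e = (Nat.card N).factorization p := ⟨_, rfl⟩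
    obtain ⟨n', hn'⟩ : ∃ n', n' = Nat.card N / p ^ e := ⟨_, rfl⟩
    rw [← he] at hcP hcN' hndvd
    rw [← hn'] at hcN' hndvd
    obtain ⟨c', hc'⟩ : Nat.card (PG ⊓ C : Subgroup G) ∣ Nat.card (N ⊓ C : Subgroup G) :=
      Subgroup.card_dvd_of_le (inf_le_inf_right _ hPN)
    have hcPpos : 0 < Nat.card (PG ⊓ C : Subgroup G) := Nat.card_pos
    have hoPpos : 0 < Nat.card (conjOrb PG d) := by
      haveI : Nonempty (conjOrb PG d) := ⟨⟨d, 1, PG.one_mem, by simp⟩⟩
      exact Nat.card_pos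
    have hkey : Nat.card (conjOrb N d) * c' = Nat.card (conjOrb PG d) * n' := by
      have h1 : Nat.card (conjOrb N d) * (Nat.card (PG ⊓ C : Subgroup G) * c') =
          Nat.card (conjOrb PG d) * Nat.card (PG ⊓ C : Subgroup G) * n' := by
        rw [← hc', ← hcardN, ← hcardP, hcP]
        exact hcN'
      apply Nat.eq_of_mul_eq_mul_left hcPpos
      calc Nat.card (PG ⊓ C : Subgroup G) * (Nat.card (conjOrb N d) * c')
          = Nat.card (conjOrb N d) * (Nat.card (PG ⊓ C : Subgroup G) * c') := by ring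
        _ = Nat.card (conjOrb PG d) * Nat.card (PG ⊓ C : Subgroup G) * n' := h1
        _ = Nat.card (PG ⊓ C : Subgroup G) * (Nat.card (conjOrb PG d) * n') := by ring
    have hcopr : (Nat.card (conjOrb N d)).Coprime n' := by
      apply Nat.coprime_of_dvd
      intro q hqp hq1 hq2
      by_cases hqe : q = p
      · rw [hqe] at hq2
        exact hndvd hq2
      · exact hq q hqp hqe hq1
    have hdvd : Nat.card (conjOrb N d) ∣ Nat.card (conjOrb PG d) := by
      apply hcopr.dvd_of_dvd_mul_right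
      rw [← hkey]
      exact dvd_mul_right _ _
    exact Nat.le_of_dvd hoPpos hdvd
  -- products of two conjugates lie in `PG`
  have hprodP : ∀ a ∈ conjugatesOf d, ∀ b ∈ conjugatesOf d, a * b ∈ PG := by
    intro a ha b hb
    have ha' := hNconj a ha
    have hb' := hNconj b hb
    rw [← horb] at ha' hb'
    obtain ⟨y, hy, rfl⟩ := ha'
    obtain ⟨z, hz, rfl⟩ := hb'
    have h1 : y * d * y⁻¹ * (z * d * z⁻¹) = y * (d * (y⁻¹ * z) * d⁻¹) * z⁻¹ := by
      rw [hdinv]; group
    rw [h1]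
    exact PG.mul_mem (PG.mul_mem hy (hP _ (PG.mul_mem (PG.inv_mem hy) hz))) (PG.inv_mem hz)
  -- the normal closure
  intro a ha b hb
  set S : Set G := {x | ∃ a ∈ conjugatesOf d, ∃ b ∈ conjugatesOf d, x = a * b} with hS
  have hKle : Subgroup.normalClosure S ≤ PG := by
    rw [Subgroup.normalClosure, Subgroup.closure_le]
    intro x hx
    rw [Group.mem_conjugatesOfSet_iff] at hx
    obtain ⟨s, ⟨a', ha', b', hb', rfl⟩, hsx⟩ := hx
    rw [isConj_iff] at hsx
    obtain ⟨g, rfl⟩ := hsx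
    have h1 : g * (a' * b') * g⁻¹ = (g * a' * g⁻¹) * (g * b' * g⁻¹) := by group
    rw [h1]
    have hcl : ∀ c ∈ conjugatesOf d, g * c * g⁻¹ ∈ conjugatesOf d := by
      intro c hc
      rw [mem_conjugatesOf_iff] at hc ⊢
      exact hc.trans (isConj_iff.mpr ⟨g, rfl⟩)
    exact hprodP _ (hcl a' ha') _ (hcl b' hb')
  have hKp : IsPGroup p (Subgroup.normalClosure S) := hPp.to_le hKle
  have hmem : a * b ∈ Subgroup.normalClosure S :=
    Subgroup.subset_normalClosure ⟨a, ha, b, hb, rfl⟩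
  have hle : Subgroup.normalClosure S ≤ Cfsg.pCore p G :=
    le_sSup ⟨Subgroup.normalClosure_normal, hKp⟩
  exact hle hmem

end Cfsg.Agent.Lib.Lead.InvProdP
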