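import Mathlib
import Cfsg.Prelude.Def_DStar
import Cfsg.Prelude.Def_PLocal
import Cfsg.Agent.Lib.Helper9.PCore
import Cfsg.Agent.Lib.Helper9.Hyperfocal1
import Cfsg.Agent.S3061

set_option autoImplicit false

namespace Cfsg.Agent.Lib.Lead.DStarThm

open Cfsg

variable {G : Type*} [Group G]

/-- the third term of the lower central series of `⟨A, x⟩` -/
def gam (A : Subgroup G) (x : G) : Subgroup G :=
  ⁅⁅A ⊔ Subgroup.zpowers x, A ⊔ Subgroup.zpowers x⁆, A ⊔ Subgroup.zpowers x⁆

theorem map_gam {H : Type*} [Group H] (f : G →* H) (A : Subgroup G) (x : G) :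
    (gam A x).map f = gam (A.map f) (f x) := by
  unfold gam
  rw [Subgroup.map_commutator, Subgroup.map_commutator, Subgroup.map_sup, MonoidHom.map_zpowers]

theorem mc {A : Subgroup G} (hA : IsMulCommutative A) {a b : G}
    (ha : a ∈ A) (hb : b ∈ A) : a * b = b * a :=
  congrArg Subtype.val (hA.is_comm.comm ⟨a, ha⟩ ⟨b, hb⟩)

/-- internal version of the `D*` family of a subgroup `T` of `G` -/
def InFam (T A : Subgroup G) : Prop :=
  A ≤ T ∧ IsMulCommutative A ∧ ∀ x ∈ T, gam A x = ⊥ → ∀ a ∈ A, a * x = x * a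

theorem inFam_map_subtype {T : Subgroup G} {A' : Subgroup T} (h : A' ∈ dStarFamily T) :
    InFam T (A'.map T.subtype) := by
  obtain ⟨hc, hf⟩ := h
  refine ⟨Subgroup.map_subtype_le A', ?_, ?_⟩
  · refine ⟨⟨fun a b => ?_⟩⟩
    obtain ⟨a', ha', hae⟩ := a.2
    obtain ⟨b', hb', hbe⟩ := b.2
    apply Subtype.ext
    show (a : G) * (b : G) = (b : G) * (a : G)
    have := mc hc ha' hb'
    rw [← hae, ← hbe, ← map_mul, ← map_mul, this]
  · intro x hx hg a ha
    obtain ⟨a', ha', rfl⟩ := ha
    have h1 : gam A' (⟨x, hx⟩ : T) = ⊥ := by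
      have h2 := map_gam T.subtype A' (⟨x, hx⟩ : T)
      rw [show T.subtype ⟨x, hx⟩ = x from rfl, hg] at h2
      exact (Subgroup.map_eq_bot_iff_of_injective _ T.subtype_injective).mp h2
    have h3 := hf ⟨x, hx⟩ h1 a' ha'
    have h4 := congrArg T.subtype h3
    simpa using h4

theorem mem_family_of_inFam {T A : Subgroup G} (h : InFam T A) : A.subgroupOf T ∈ dStarFamily T := by
  obtain ⟨hAT, hc, hf⟩ := h
  refine ⟨?_, ?_⟩
  · refine ⟨⟨fun a b => ?_⟩⟩
    apply Subtype.ext
    apply Subtype.ext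
    show ((a : T) : G) * ((b : T) : G) = ((b : T) : G) * ((a : T) : G)
    exact mc hc (Subgroup.mem_subgroupOf.mp a.2) (Subgroup.mem_subgroupOf.mp b.2)
  · intro x hx a ha
    have h1 : gam A (x : G) = ⊥ := by
      have h2 := map_gam T.subtype (A.subgroupOf T) x
      rw [Subgroup.map_subgroupOf_eq_of_le hAT] at h2
      rw [show (x : G) = T.subtype x from rfl, ← h2]
      unfold gam
      rw [hx, Subgroup.map_bot]
    have h3 := hf x x.2 h1 a (Subgroup.mem_subgroupOf.mp ha)
    exact Subtype.ext h3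

theorem le_dStarOf {T A : Subgroup G} (h : InFam T A) : A ≤ dStarOf T := by
  have h1 : A.subgroupOf T ≤ dStar T := le_sSup (mem_family_of_inFam h)
  have h2 := Subgroup.map_mono (f := T.subtype) h1
  rw [Subgroup.map_subgroupOf_eq_of_le h.1] at h2
  exact h2

theorem inFam_mono {T T' A : Subgroup G} (hTT' : T ≤ T') (h : InFam T' A) (hA : A ≤ T) : InFam T A :=
  ⟨hA, h.2.1, fun x hx => h.2.2 x (hTT' hx)⟩

theorem inFam_conj {T A : Subgroup G} (h : InFam T A) {g : G}
    (hg : g ∈ Subgroup.normalizer (T : Set G)) : InFam T (A.map (MulAut.conj g).toMonoidHom) := by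
  obtain ⟨hAT, hc, hf⟩ := h
  refine ⟨?_, ?_, ?_⟩
  · rintro _ ⟨a, ha, rfl⟩
    show g * a * g⁻¹ ∈ T
    exact (Subgroup.mem_normalizer_iff.mp hg a).mp (hAT ha)
  · refine ⟨⟨fun a b => ?_⟩⟩
    obtain ⟨a', ha', hae⟩ := a.2
    obtain ⟨b', hb', hbe⟩ := b.2
    apply Subtype.ext
    show (a : G) * (b : G) = (b : G) * (a : G)
    have := mc hc ha' hb'
    rw [← hae, ← hbe, ← map_mul, ← map_mul, this]
  · intro x hx hgx a ha
    obtain ⟨a', ha', rfl⟩ := ha
    have hy : g⁻¹ * x * g ∈ T := by
      have := (Subgroup.mem_normalizer_iff.mp hg (g⁻¹ * x * g)).mpr (by simpa [mul_assoc] using hx)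
      exact this
    have h1 : gam A (g⁻¹ * x * g) = ⊥ := by
      have h2 := map_gam (MulAut.conj g).toMonoidHom A (g⁻¹ * x * g)
      have h3 : (MulAut.conj g).toMonoidHom (g⁻¹ * x * g) = x := by
        simp [MulAut.conj_apply, mul_assoc]
      rw [h3, hgx] at h2
      exact (Subgroup.map_eq_bot_iff_of_injective _ (MulAut.conj g).injective).mp h2
    have h4 := hf _ hy h1 a' ha'
    show g * a' * g⁻¹ * x = x * (g * a' * g⁻¹)
    calc g * a' * g⁻¹ * x = g * (a' * (g⁻¹ * x * g)) * g⁻¹ := by group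
      _ = g * ((g⁻¹ * x * g) * a') * g⁻¹ := by rw [h4]
      _ = x * (g * a' * g⁻¹) := by group

variable [Finite G] {p : ℕ} [Fact p.Prime]

theorem inFam_dStarOf {T : Subgroup G} (hT : IsPGroup p T) : InFam T (dStarOf T) :=
  inFam_map_subtype (Cfsg.Agent.S3061.result hT)

theorem dStarOf_le {T : Subgroup G} : dStarOf T ≤ T := Subgroup.map_subtype_le _

theorem normalizer_le_normalizer_dStarOf {T : Subgroup G} (hT : IsPGroup p T) :
    Subgroup.normalizer (T : Set G) ≤ Subgroup.normalizer (dStarOf T : Set G) := by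
  have key : ∀ g ∈ Subgroup.normalizer (T : Set G), ∀ d ∈ dStarOf T, g * d * g⁻¹ ∈ dStarOf T := by
    intro g hg d hd
    have h1 := le_dStarOf (inFam_conj (inFam_dStarOf hT) hg)
    exact h1 ⟨d, hd, rfl⟩
  intro g hg
  rw [Subgroup.mem_normalizer_iff]
  intro d
  constructor
  · exact key g hg d
  · intro h
    have := key g⁻¹ (Subgroup.inv_mem _ hg) _ h
    simpa [mul_assoc] using this

/-- preimage of `O_p(G/C_G(V))` -/
def LL (p : ℕ) (V : Subgroup G) [V.Normal] : Subgroup G :=
  (pCore p (G ⧸ Subgroup.centralizer (V : Set G))).comap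
    (QuotientGroup.mk' (Subgroup.centralizer (V : Set G)))

theorem LL_normal (V : Subgroup G) [V.Normal] : (LL p V).Normal :=
  Subgroup.Normal.comap (Cfsg.Agent.Lib.Helper9.pCore_normal' p) _

theorem centralizer_le_LL (V : Subgroup G) [V.Normal] : Subgroup.centralizer (V : Set G) ≤ LL p V := by
  intro c hc
  show (QuotientGroup.mk' (Subgroup.centralizer (V : Set G))) c ∈
    pCore p (G ⧸ Subgroup.centralizer (V : Set G))
  have : (QuotientGroup.mk' (Subgroup.centralizer (V : Set G))) c = 1 :=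
    (QuotientGroup.eq_one_iff c).mpr hc
  rw [this]
  exact Subgroup.one_mem _

theorem mem_LL_of_quadratic {V : Subgroup G} [V.Normal] (hst : IsPStableOn p V) {a : G}
    (hq : ⁅⁅V, Subgroup.zpowers a⁆, Subgroup.zpowers a⁆ = ⊥) : a ∈ LL p V :=
  hst a hq

theorem pCore_le_LL (V : Subgroup G) [V.Normal] : pCore p G ≤ LL p V := by
  have h1 : (pCore p G).map (QuotientGroup.mk' (Subgroup.centralizer (V : Set G))) ≤
      pCore p (G ⧸ Subgroup.centralizer (V : Set G)) := by
    apply Cfsg.Agent.Lib.Helper9.le_pCore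
    · exact Subgroup.Normal.map (Cfsg.Agent.Lib.Helper9.pCore_normal' p) _ (QuotientGroup.mk'_surjective _)
    · exact (Cfsg.Agent.Lib.Helper9.pCore_isPGroup' p).map _
  intro x hx
  exact h1 ⟨x, hx, rfl⟩

theorem LL_mono {V W : Subgroup G} [V.Normal] [W.Normal] (h : W ≤ V) : LL p V ≤ LL p W := by
  have hC : Subgroup.centralizer (V : Set G) ≤ Subgroup.centralizer (W : Set G) :=
    Subgroup.centralizer_le h
  set φ := QuotientGroup.map (Subgroup.centralizer (V : Set G)) (Subgroup.centralizer (W : Set G))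
    (MonoidHom.id G) (by simpa using hC) with hφ
  have hφs : Function.Surjective φ := by
    intro y
    obtain ⟨g, rfl⟩ := QuotientGroup.mk_surjective y
    exact ⟨QuotientGroup.mk g, rfl⟩
  have h1 : (pCore p (G ⧸ Subgroup.centralizer (V : Set G))).map φ ≤
      pCore p (G ⧸ Subgroup.centralizer (W : Set G)) := by
    apply Cfsg.Agent.Lib.Helper9.le_pCore
    · exact Subgroup.Normal.map (Cfsg.Agent.Lib.Helper9.pCore_normal' p) _ hφs
    · haveI : Finite (G ⧸ Subgroup.centralizer (V : Set G)) := inferInstance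
      exact (Cfsg.Agent.Lib.Helper9.pCore_isPGroup' p).map _
  intro x hx
  have h2 : φ ((QuotientGroup.mk' _) x) ∈ pCore p (G ⧸ Subgroup.centralizer (W : Set G)) :=
    h1 ⟨_, hx, rfl⟩
  exact h2

theorem LL_le_sup (V : Subgroup G) [V.Normal] (S : Sylow p G) :
    LL p V ≤ Subgroup.centralizer (V : Set G) ⊔ ((S : Subgroup G) ⊓ LL p V) := by
  intro y hy
  have hsurj := QuotientGroup.mk'_surjective (Subgroup.centralizer (V : Set G))
  have h1 : pCore p (G ⧸ Subgroup.centralizer (V : Set G)) ≤ (S.mapSurjective hsurj : Subgroup _) :=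
    Cfsg.Agent.Lib.Helper9.pCore_le_sylow _
  have h2 := h1 hy
  rw [Sylow.coe_mapSurjective] at h2
  obtain ⟨s, hs, hsy⟩ := h2
  have hsL : s ∈ LL p V := by
    show (QuotientGroup.mk' (Subgroup.centralizer (V : Set G))) s ∈
      pCore p (G ⧸ Subgroup.centralizer (V : Set G))
    rw [hsy]; exact hy
  have hc : s⁻¹ * y ∈ Subgroup.centralizer (V : Set G) := by
    rw [← QuotientGroup.eq_one_iff, ← QuotientGroup.mk'_apply, map_mul, map_inv, hsy]
    simp
  have hy2 : y = s * (s⁻¹ * y) := by group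
  rw [hy2]
  have hN : (Subgroup.centralizer (V : Set G)).Normal := inferInstance
  rw [sup_comm]
  exact Subgroup.mul_mem_sup ⟨hs, hsL⟩ hc

theorem sup_normalizer_eq_top (V : Subgroup G) [V.Normal] (S : Sylow p G) :
    Subgroup.centralizer (V : Set G) ⊔
      Subgroup.normalizer (((S : Subgroup G) ⊓ LL p V : Subgroup G) : Set G) = ⊤ := by
  haveI := LL_normal (p := p) V
  obtain ⟨T, hT⟩ := Cfsg.Agent.Lib.Helper9.exists_sylow_map_eq_inf S (LL p V)
  have h1 := Sylow.normalizer_sup_eq_top T
  rw [hT] at h1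
  rw [eq_top_iff, ← h1]
  apply sup_le le_sup_right
  refine (LL_le_sup V S).trans (sup_le le_sup_left ?_)
  exact le_trans Subgroup.le_normalizer le_sup_right

theorem isPGroup_LL_pCore (hc : Subgroup.centralizer (pCore p G : Set G) ≤ pCore p G) :
    haveI := Cfsg.Agent.Lib.Helper9.pCore_normal' (G := G) p
    IsPGroup p (LL p (pCore p G)) := by
  haveI := Cfsg.Agent.Lib.Helper9.pCore_normal' (G := G) p
  intro g
  have h1 : IsPGroup p (pCore p (G ⧸ Subgroup.centralizer (pCore p G : Set G))) :=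
    Cfsg.Agent.Lib.Helper9.pCore_isPGroup' p
  obtain ⟨k, hk⟩ := h1 ⟨_, g.2⟩
  have h2 : ((g : G) ^ p ^ k) ∈ Subgroup.centralizer (pCore p G : Set G) := by
    rw [← QuotientGroup.eq_one_iff]
    have := congrArg Subtype.val hk
    simpa using this
  have h3 := hc h2
  obtain ⟨m, hm⟩ := (Cfsg.Agent.Lib.Helper9.pCore_isPGroup' (G := G) p) ⟨_, h3⟩
  refine ⟨k + m, ?_⟩
  apply Subtype.ext
  have := congrArg Subtype.val hm
  simp only [Subgroup.coe_pow, Subgroup.coe_one] at this ⊢
  rw [pow_add, pow_mul]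
  exact this

theorem dStarOf_le_pCore (hc : Subgroup.centralizer (pCore p G : Set G) ≤ pCore p G)
    (hst : ∀ (P : Subgroup G) [P.Normal], IsPGroup p P → IsPStableOn p P)
    {T : Subgroup G} (hPT : pCore p G ≤ T) (hT : IsPGroup p T) : dStarOf T ≤ pCore p G := by
  haveI hPn := Cfsg.Agent.Lib.Helper9.pCore_normal' (G := G) p
  have hLL : LL p (pCore p G) ≤ pCore p G :=
    Cfsg.Agent.Lib.Helper9.le_pCore (LL_normal _) (isPGroup_LL_pCore hc)
  intro a ha
  apply hLL
  apply mem_LL_of_quadratic (hst (pCore p G) (Cfsg.Agent.Lib.Helper9.pCore_isPGroup' p))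
  have hfam := inFam_dStarOf hT
  have hz : Subgroup.zpowers a ≤ dStarOf T := Subgroup.zpowers_le.mpr ha
  have h1 : ⁅pCore p G, Subgroup.zpowers a⁆ ≤ dStarOf T := by
    rw [Subgroup.commutator_le]
    intro x hx y hy
    have hxN : x ∈ Subgroup.normalizer (dStarOf T : Set G) :=
      normalizer_le_normalizer_dStarOf hT (Subgroup.le_normalizer (hPT hx))
    have h2 : x * y * x⁻¹ ∈ dStarOf T := (Subgroup.mem_normalizer_iff.mp hxN y).mp (hz hy)
    rw [commutatorElement_def]
    exact Subgroup.mul_mem _ h2 (Subgroup.inv_mem _ (hz hy))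
  rw [eq_bot_iff]
  refine (Subgroup.commutator_mono h1 hz).trans ?_
  rw [(Subgroup.commutator_self_eq_bot_iff).mpr hfam.2.1]

theorem quadratic_of_gam {V : Subgroup G} {x : G} (h : gam V x = ⊥) :
    ⁅⁅V, Subgroup.zpowers x⁆, Subgroup.zpowers x⁆ = ⊥ := by
  rw [eq_bot_iff, ← h]
  unfold gam
  exact Subgroup.commutator_mono (Subgroup.commutator_mono le_sup_left le_sup_right) le_sup_right

theorem main (hc : Subgroup.centralizer (pCore p G : Set G) ≤ pCore p G)
    (hst : ∀ (P : Subgroup G) [P.Normal], IsPGroup p P → IsPStableOn p P) (S : Sylow p G) :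
    (dStarOf (S : Subgroup G)).Normal := by
  have hSp : IsPGroup p (S : Subgroup G) := S.isPGroup'
  have key : ∀ n : ℕ, ∀ T : Subgroup G, pCore p G ≤ T → T ≤ (S : Subgroup G) →
      ∀ hN : (dStarOf T).Normal, T ≤ @LL G _ p (dStarOf T) hN →
      Nat.card (S : Subgroup G) - Nat.card T = n → (dStarOf (S : Subgroup G)).Normal := by
    intro n
    induction n using Nat.strong_induction_on with
    | _ n ih =>
      intro T hPT hTS hN hTL hn
      haveI := hN
      have hTp : IsPGroup p T := hSp.to_le hTS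
      set V := dStarOf T with hV
      set T' := (S : Subgroup G) ⊓ LL p V with hT'
      have hTT' : T ≤ T' := le_inf hTS hTL
      have hVp : IsPGroup p V := hTp.to_le dStarOf_le
      by_cases hEq : T' = T
      · -- stable case
        have h1 : InFam (S : Subgroup G) V := by
          refine ⟨dStarOf_le.trans hTS, (inFam_dStarOf hTp).2.1, ?_⟩
          intro x hx hg
          have hxL : x ∈ LL p V := mem_LL_of_quadratic (hst V hVp) (quadratic_of_gam hg)
          have hxT : x ∈ T := by rw [← hEq]; exact ⟨hx, hxL⟩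
          exact (inFam_dStarOf hTp).2.2 x hxT hg
        have h2 : V ≤ dStarOf (S : Subgroup G) := le_dStarOf h1
        have h3 : dStarOf (S : Subgroup G) ≤ V := by
          apply le_dStarOf
          exact inFam_mono hTS (inFam_dStarOf hSp)
            ((dStarOf_le_pCore hc hst (Cfsg.Agent.Lib.Helper9.pCore_le_sylow S) hSp).trans hPT)
        rw [← le_antisymm h2 h3]
        exact hN
      · -- strict growth
        have hT'S : T' ≤ (S : Subgroup G) := inf_le_left
        have hT'p : IsPGroup p T' := hSp.to_le hT'S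
        have hPT' : pCore p G ≤ T' := hPT.trans hTT'
        have hV'V : dStarOf T' ≤ V := by
          apply le_dStarOf
          exact inFam_mono hTT' (inFam_dStarOf hT'p) ((dStarOf_le_pCore hc hst hPT' hT'p).trans hPT)
        have hN' : (dStarOf T').Normal := by
          have htop := sup_normalizer_eq_top (p := p) V S
          have hle : Subgroup.centralizer (V : Set G) ⊔ Subgroup.normalizer (T' : Set G) ≤
              Subgroup.normalizer (dStarOf T' : Set G) := by
            apply sup_le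
            · exact (Subgroup.centralizer_le hV'V).trans (Subgroup.centralizer_le_normalizer _)
            · exact normalizer_le_normalizer_dStarOf hT'p
          rw [htop, top_le_iff] at hle
          exact Subgroup.normalizer_eq_top_iff.mp hle
        haveI := hN'
        have hT'L : T' ≤ LL p (dStarOf T') := inf_le_right.trans (LL_mono hV'V)
        have hlt : Nat.card T < Nat.card T' := by
          by_contra hge
          push Not at hge
          exact hEq (Subgroup.eq_of_le_of_card_ge hTT' hge).symm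
        have hle : Nat.card T' ≤ Nat.card (S : Subgroup G) := Subgroup.card_le_of_le hT'S
        exact ih (Nat.card (S : Subgroup G) - Nat.card T') (by omega) T' hPT' hT'S hN' hT'L rfl
  haveI hPn := Cfsg.Agent.Lib.Helper9.pCore_normal' (G := G) p
  have hPp : IsPGroup p (pCore p G) := Cfsg.Agent.Lib.Helper9.pCore_isPGroup' p
  have hN0 : (dStarOf (pCore p G)).Normal := by
    have h := normalizer_le_normalizer_dStarOf hPp
    rw [Subgroup.normalizer_eq_top_iff.mpr hPn, top_le_iff] at h
    exact Subgroup.normalizer_eq_top_iff.mp h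
  exact key _ (pCore p G) le_rfl (Cfsg.Agent.Lib.Helper9.pCore_le_sylow S) hN0
    (@pCore_le_LL G _ _ p _ (dStarOf (pCore p G)) hN0) rfl

end Cfsg.Agent.Lib.Lead.DStarThm
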