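import Mathlib
import Cfsg.Prelude.Def_PLocal

set_option autoImplicit false

namespace Cfsg.Agent.Lib.Lead

namespace QdLib

open Matrix

variable (p : ℕ)

/-- translation matrix -/
def tauMat (v : Fin 2 → ZMod p) : Matrix (Fin 3) (Fin 3) (ZMod p) :=
  !![1, 0, v 0; 0, 1, v 1; 0, 0, 1]

/-- block matrix -/
def deltaMat (A : Matrix (Fin 2) (Fin 2) (ZMod p)) : Matrix (Fin 3) (Fin 3) (ZMod p) :=
  !![A 0 0, A 0 1, 0; A 1 0, A 1 1, 0; 0, 0, 1]

theorem det_tauMat (v : Fin 2 → ZMod p) : (tauMat p v).det = 1 := by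
  simp [tauMat, Matrix.det_fin_three]

theorem det_deltaMat (A : Matrix (Fin 2) (Fin 2) (ZMod p)) : (deltaMat p A).det = A.det := by
  simp [deltaMat, Matrix.det_fin_three, Matrix.det_fin_two]

theorem tauMat_add (v w : Fin 2 → ZMod p) : tauMat p (v + w) = tauMat p v * tauMat p w := by
  ext i j
  fin_cases i <;> fin_cases j <;>
    simp [tauMat, Matrix.mul_apply, Fin.sum_univ_three, add_comm]

theorem tauMat_zero : tauMat p 0 = 1 := by
  ext i j
  fin_cases i <;> fin_cases j <;> simp [tauMat]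

theorem deltaMat_mul (A B : Matrix (Fin 2) (Fin 2) (ZMod p)) :
    deltaMat p (A * B) = deltaMat p A * deltaMat p B := by
  ext i j
  fin_cases i <;> fin_cases j <;>
    simp [deltaMat, Matrix.mul_apply, Fin.sum_univ_three, Fin.sum_univ_two]

theorem deltaMat_one : deltaMat p 1 = 1 := by
  ext i j
  fin_cases i <;> fin_cases j <;> simp [deltaMat]

/-- translations as a homomorphism -/
def tau : Multiplicative (Fin 2 → ZMod p) →* Matrix.SpecialLinearGroup (Fin 3) (ZMod p) where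
  toFun v := ⟨tauMat p v.toAdd, det_tauMat p _⟩
  map_one' := Subtype.ext (tauMat_zero p)
  map_mul' v w := Subtype.ext (tauMat_add p _ _)

/-- the block embedding of `SL₂` -/
def delta : Matrix.SpecialLinearGroup (Fin 2) (ZMod p) →*
    Matrix.SpecialLinearGroup (Fin 3) (ZMod p) where
  toFun A := ⟨deltaMat p A.1, by rw [det_deltaMat]; exact A.2⟩
  map_one' := Subtype.ext (deltaMat_one p)
  map_mul' A B := Subtype.ext (deltaMat_mul p _ _)

theorem tau_coe (v : Multiplicative (Fin 2 → ZMod p)) :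
    ((tau p v : Matrix.SpecialLinearGroup (Fin 3) (ZMod p)) : Matrix (Fin 3) (Fin 3) (ZMod p)) =
      tauMat p v.toAdd := rfl

theorem delta_coe (A : Matrix.SpecialLinearGroup (Fin 2) (ZMod p)) :
    ((delta p A : Matrix.SpecialLinearGroup (Fin 3) (ZMod p)) : Matrix (Fin 3) (Fin 3) (ZMod p)) =
      deltaMat p A.1 := rfl

theorem tau_mem_qd (v : Multiplicative (Fin 2 → ZMod p)) : tau p v ∈ Cfsg.qd p := by
  apply Subgroup.subset_closure
  refine ⟨?_, ?_, ?_⟩ <;> simp [tau_coe, tauMat]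

theorem delta_mem_qd (A : Matrix.SpecialLinearGroup (Fin 2) (ZMod p)) : delta p A ∈ Cfsg.qd p := by
  apply Subgroup.subset_closure
  refine ⟨?_, ?_, ?_⟩ <;> simp [delta_coe, deltaMat]

/-- the conjugation relation -/
theorem delta_mul_tau (A : Matrix.SpecialLinearGroup (Fin 2) (ZMod p))
    (v : Multiplicative (Fin 2 → ZMod p)) :
    delta p A * tau p v = tau p (Multiplicative.ofAdd (A.1 *ᵥ v.toAdd)) * delta p A := by
  apply Subtype.ext
  rw [Matrix.SpecialLinearGroup.coe_mul, Matrix.SpecialLinearGroup.coe_mul, tau_coe, tau_coe,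
    delta_coe]
  ext i j
  fin_cases i <;> fin_cases j <;>
    simp [tauMat, deltaMat, Matrix.mul_apply, Fin.sum_univ_three, Matrix.mulVec, dotProduct,
      Fin.sum_univ_two]

/-- last row of elements of `Qd(p)` -/
theorem last_row_of_mem_qd {M : Matrix.SpecialLinearGroup (Fin 3) (ZMod p)} (hM : M ∈ Cfsg.qd p) :
    M.1 2 0 = 0 ∧ M.1 2 1 = 0 ∧ M.1 2 2 = 1 := by
  unfold Cfsg.qd at hM
  induction hM using Subgroup.closure_induction with
  | mem x hx => exact hx
  | one => simp
  | mul a b _ _ ha hb =>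
    obtain ⟨a0, a1, a2⟩ := ha
    obtain ⟨b0, b1, b2⟩ := hb
    rw [Matrix.SpecialLinearGroup.coe_mul]
    refine ⟨?_, ?_, ?_⟩ <;> simp [Matrix.mul_apply, Fin.sum_univ_three, a0, a1, a2, b0, b1, b2]
  | inv a _ ha =>
    obtain ⟨a0, a1, a2⟩ := ha
    have hdet : a.1.det = 1 := a.2
    rw [Matrix.det_fin_three, a0, a1, a2] at hdet
    rw [Matrix.SpecialLinearGroup.coe_inv, Matrix.adjugate_fin_three]
    refine ⟨?_, ?_, ?_⟩
    · simp [a0, a1]
    · simp [a0, a1]
    · simp only [Matrix.of_apply, Matrix.cons_val', Matrix.cons_val_two, Matrix.tail_cons,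
        Matrix.head_cons, Matrix.empty_val', Matrix.cons_val_fin_one, Matrix.vecHead]
      linear_combination hdet

/-- every element of `Qd(p)` is a translation times a block matrix -/
theorem exists_eq_tau_mul_delta {M : Matrix.SpecialLinearGroup (Fin 3) (ZMod p)}
    (hM : M ∈ Cfsg.qd p) :
    ∃ (v : Multiplicative (Fin 2 → ZMod p)) (A : Matrix.SpecialLinearGroup (Fin 2) (ZMod p)),
      M = tau p v * delta p A := by
  obtain ⟨h0, h1, h2⟩ := last_row_of_mem_qd p hM
  have hdet : M.1.det = 1 := M.2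
  rw [Matrix.det_fin_three, h0, h1, h2] at hdet
  refine ⟨Multiplicative.ofAdd ![M.1 0 2, M.1 1 2],
    ⟨!![M.1 0 0, M.1 0 1; M.1 1 0, M.1 1 1], ?_⟩, ?_⟩
  · rw [Matrix.det_fin_two_of]
    linear_combination hdet
  · apply Subtype.ext
    rw [Matrix.SpecialLinearGroup.coe_mul, tau_coe]
    change M.1 = tauMat p ![M.1 0 2, M.1 1 2] * deltaMat p !![M.1 0 0, M.1 0 1; M.1 1 0, M.1 1 1]
    ext i j
    fin_cases i <;> fin_cases j <;>
      simp [tauMat, deltaMat, Matrix.mul_apply, Fin.sum_univ_three, h0, h1, h2]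

end QdLib

end Cfsg.Agent.Lib.Lead
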