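import Mathlib
import Cfsg.Agent.Lib.Lead.Qd1

set_option autoImplicit false

universe u

namespace Cfsg.Agent.Lib.Lead

namespace QdLib

open Matrix

section negone

variable (p : ℕ)

/-- the central element `-1` of `SL₂` -/
def z0 : Matrix.SpecialLinearGroup (Fin 2) (ZMod p) :=
  ⟨!![-1, 0; 0, -1], by simp [Matrix.det_fin_two]⟩

theorem z0_mul_self : z0 p * z0 p = 1 := by
  apply Subtype.ext
  rw [Matrix.SpecialLinearGroup.coe_mul]
  ext i j
  fin_cases i <;> fin_cases j <;> simp [z0, Matrix.mul_apply, Fin.sum_univ_two]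

theorem z0_comm (A : Matrix.SpecialLinearGroup (Fin 2) (ZMod p)) : z0 p * A = A * z0 p := by
  apply Subtype.ext
  rw [Matrix.SpecialLinearGroup.coe_mul, Matrix.SpecialLinearGroup.coe_mul]
  ext i j
  fin_cases i <;> fin_cases j <;> simp [z0, Matrix.mul_apply, Fin.sum_univ_two]

theorem z0_mulVec (v : Fin 2 → ZMod p) : (z0 p).1 *ᵥ v = -v := by
  ext i
  fin_cases i <;> simp [z0, Matrix.mulVec, dotProduct, Fin.sum_univ_two]

theorem mem_zpowers_z0 {A : Matrix.SpecialLinearGroup (Fin 2) (ZMod p)}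
    (hA : A ∈ Subgroup.zpowers (z0 p)) : A = 1 ∨ A = z0 p := by
  obtain ⟨k, rfl⟩ := Subgroup.mem_zpowers_iff.mp hA
  have h2 : z0 p ^ (2 : ℤ) = 1 := by
    rw [show (2 : ℤ) = ((2 : ℕ) : ℤ) from rfl, zpow_natCast, pow_two, z0_mul_self]
  rcases Int.even_or_odd' k with ⟨m, hm | hm⟩
  · left
    rw [hm, _root_.zpow_mul, h2, _root_.one_zpow]
  · right
    rw [hm, _root_.zpow_add, _root_.zpow_mul, h2, _root_.one_zpow, one_mul, _root_.zpow_one]

theorem zpowers_z0_normal : (Subgroup.zpowers (z0 p)).Normal := by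
  constructor
  intro n hn g
  have hcomm : g * n * g⁻¹ = n := by
    rcases mem_zpowers_z0 p hn with rfl | rfl
    · simp
    · rw [← z0_comm, mul_assoc, mul_inv_cancel, mul_one]
  rw [hcomm]; exact hn

theorem isPGroup_zpowers_z0 : IsPGroup 2 ↥(Subgroup.zpowers (z0 p)) := by
  rintro ⟨A, hA⟩
  refine ⟨1, ?_⟩
  apply Subtype.ext
  rw [pow_one, Subgroup.coe_pow, Subgroup.coe_one, pow_two]
  rcases mem_zpowers_z0 p hA with rfl | rfl
  · simp
  · exact z0_mul_self p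

end negone

section split

variable {p : ℕ} {Γ : Type u} [Group Γ] [Finite Γ]

/-- **Frattini splitting**: a supplement `N` to the kernel normalizing a `2`-subgroup that
contains a preimage of `-1` -/
theorem exists_supplement (r : Γ →* Matrix.SpecialLinearGroup (Fin 2) (ZMod p))
    (hr : Function.Surjective r) :
    ∃ (N T : Subgroup Γ) (t : Γ), (∀ A, ∃ n ∈ N, r n = A) ∧ IsPGroup 2 ↥T ∧ t ∈ T ∧ T ≤ N ∧
      r t = z0 p ∧ ∀ n ∈ N, ∀ s ∈ T, n * s * n⁻¹ ∈ T := by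
  classical
  set Zs := Subgroup.zpowers (z0 p) with hZs
  have hZn : Zs.Normal := zpowers_z0_normal p
  set B : Subgroup Γ := Zs.comap r with hB
  have hBn : B.Normal := hZn.comap r
  obtain ⟨T⟩ : Nonempty (Sylow 2 ↥B) := inferInstance
  set Tm : Subgroup Γ := (T : Subgroup ↥B).map B.subtype with hTm
  set N : Subgroup Γ := Subgroup.normalizer (Tm : Set Γ) with hN
  have hFr : N ⊔ B = ⊤ := Sylow.normalizer_sup_eq_top T
  have hTmp : IsPGroup 2 ↥Tm := T.isPGroup'.map _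
  -- an element of `T` mapping to `-1`
  let rB : ↥B →* ↥Zs := (r.comp B.subtype).codRestrict Zs (fun b => b.2)
  have hrB : Function.Surjective rB := by
    rintro ⟨z, hz⟩
    obtain ⟨g, rfl⟩ := hr z
    exact ⟨⟨g, hz⟩, rfl⟩
  have h1 : ((T.mapSurjective hrB : Sylow 2 ↥Zs) : Subgroup ↥Zs) = ⊤ := by
    have hQtop : IsPGroup 2 ↥(⊤ : Subgroup ↥Zs) := (isPGroup_zpowers_z0 p).to_subgroup ⊤
    exact ((T.mapSurjective hrB).is_maximal' hQtop le_top).symm
  rw [Sylow.coe_mapSurjective] at h1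
  have hz0 : (⟨z0 p, Subgroup.mem_zpowers _⟩ : ↥Zs) ∈ (T : Subgroup ↥B).map rB := by
    rw [h1]; trivial
  obtain ⟨t, htT, hrt⟩ := hz0
  have hrt' : r (t : Γ) = z0 p := congrArg Subtype.val hrt
  have htTm : (t : Γ) ∈ Tm := ⟨t, htT, rfl⟩
  have hTmN : Tm ≤ N := Subgroup.le_normalizer
  refine ⟨N, Tm, (t : Γ), ?_, hTmp, htTm, hTmN, hrt', ?_⟩
  · intro A
    obtain ⟨g, rfl⟩ := hr A
    have hg : g ∈ ((N ⊔ B : Subgroup Γ) : Set Γ) := by rw [hFr]; trivial
    rw [Subgroup.mul_normal] at hg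
    obtain ⟨n, hn, b, hb, rfl⟩ := hg
    have hb' : r b ∈ Zs := hb
    rcases mem_zpowers_z0 p hb' with h | h
    · exact ⟨n, hn, by rw [map_mul, h, mul_one]⟩
    · exact ⟨n * (t : Γ), N.mul_mem hn (hTmN htTm), by rw [map_mul, map_mul, h, hrt']⟩
  · intro n hn s hs
    exact (Subgroup.mem_normalizer_iff.mp hn s).mp hs

end split

end QdLib

end Cfsg.Agent.Lib.Lead
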