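import Mathlib
import Cfsg.Agent.Lib.Lead.Qd2
import Cfsg.Agent.Lib.Lead.SL2w
import Cfsg.Agent.Lib.Helper9.PCore
import Cfsg.Prelude.Def_LocalEven

set_option autoImplicit false

universe u

namespace Cfsg.Agent.Lib.Lead

namespace QdLib

open Matrix

open scoped commutatorElement

section sl2

variable {p : ℕ} [Fact p.Prime]

/-- `SL₂(𝔽_p)` is transitive on nonzero vectors -/
theorem exists_mulVec_e1 (v : Fin 2 → ZMod p) (hv : v ≠ 0) :
    ∃ A : Matrix.SpecialLinearGroup (Fin 2) (ZMod p), A.1 *ᵥ ![1, 0] = v := by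
  by_cases h0 : v 0 = 0
  · have h1 : v 1 ≠ 0 := by
      intro h1
      apply hv
      ext i
      fin_cases i
      · exact h0
      · exact h1
    refine ⟨⟨!![v 0, -(v 1)⁻¹; v 1, 0], ?_⟩, ?_⟩
    · rw [Matrix.det_fin_two_of]
      field_simp
      ring
    · ext i
      fin_cases i <;> simp [Matrix.mulVec, dotProduct, Fin.sum_univ_two]
  · refine ⟨⟨!![v 0, 0; v 1, (v 0)⁻¹], ?_⟩, ?_⟩
    · rw [Matrix.det_fin_two_of]
      field_simp
      ring
    · ext i
      fin_cases i <;> simp [Matrix.mulVec, dotProduct, Fin.sum_univ_two]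

/-- `O_p(SL₂(𝔽_p)) = 1` -/
theorem eq_bot_of_normal_pgroup (R : Subgroup (Matrix.SpecialLinearGroup (Fin 2) (ZMod p)))
    (hRn : R.Normal) (hRp : IsPGroup p ↥R) : R = ⊥ := by
  classical
  have hcard : p ∣ Nat.card (Fin 2 → ZMod p) := by
    rw [Nat.card_eq_fintype_card, Fintype.card_fun, ZMod.card, Fintype.card_fin]
    exact dvd_pow_self p two_ne_zero
  have h0 : (0 : Fin 2 → ZMod p) ∈ MulAction.fixedPoints ↥R (Fin 2 → ZMod p) := by
    intro r
    exact smul_zero r
  obtain ⟨v, hv, hv0⟩ := hRp.exists_fixed_point_of_prime_dvd_card_of_fixed_point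
    (Fin 2 → ZMod p) hcard h0
  have hvfix : ∀ r ∈ R, r.1 *ᵥ v = v := by
    intro r hr
    exact hv ⟨r, hr⟩
  rw [eq_bot_iff]
  intro r hr
  rw [Subgroup.mem_bot]
  -- `r` fixes every vector
  have hall : ∀ w : Fin 2 → ZMod p, r.1 *ᵥ w = w := by
    intro w
    by_cases hw : w = 0
    · rw [hw, Matrix.mulVec_zero]
    · obtain ⟨A, hA⟩ := exists_mulVec_e1 v (Ne.symm hv0)
      obtain ⟨B, hB⟩ := exists_mulVec_e1 w hw
      -- `C = B A⁻¹` maps `v` to `w`
      set C := B * A⁻¹ with hC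
      have hCv : C.1 *ᵥ v = w := by
        rw [← hA, ← hB, hC, Matrix.SpecialLinearGroup.coe_mul, Matrix.mulVec_mulVec]
        congr 1
        rw [mul_assoc, ← Matrix.SpecialLinearGroup.coe_mul, inv_mul_cancel,
          Matrix.SpecialLinearGroup.coe_one, mul_one]
      have hconj : C⁻¹ * r * C ∈ R := by
        have := hRn.conj_mem r hr C⁻¹
        rwa [inv_inv] at this
      have h1 := hvfix _ hconj
      rw [Matrix.SpecialLinearGroup.coe_mul, Matrix.SpecialLinearGroup.coe_mul,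
        ← Matrix.mulVec_mulVec, ← Matrix.mulVec_mulVec, hCv] at h1
      have h2 : C.1 *ᵥ ((C⁻¹).1 *ᵥ (r.1 *ᵥ w)) = C.1 *ᵥ v := congrArg (fun u => C.1 *ᵥ u) h1
      rw [Matrix.mulVec_mulVec, ← Matrix.SpecialLinearGroup.coe_mul, mul_inv_cancel,
        Matrix.SpecialLinearGroup.coe_one, Matrix.one_mulVec, hCv] at h2
      exact h2
  apply Subtype.ext
  apply Matrix.mulVec_injective
  funext w
  rw [hall w, Matrix.SpecialLinearGroup.coe_one, Matrix.one_mulVec]

end sl2

section criterion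

variable {p : ℕ} [Fact p.Prime] {X : Type u} [Group X] [Finite X]
variable {S : Type*} [Group S]

/-- a criterion for the failure of `p`-stability in the normalizer form -/
theorem not_isNormalizerPStable_of_hom (θ : X →* S) (hθ : Function.Surjective θ)
    (hP : IsPGroup p ↥θ.ker) (hC : Subgroup.centralizer (θ.ker : Set X) ≤ θ.ker)
    (hS : ∀ R : Subgroup S, R.Normal → IsPGroup p ↥R → R = ⊥)
    (g : X) (hg : θ g ≠ 1)
    (hq : ⁅⁅θ.ker, Subgroup.zpowers g⁆, Subgroup.zpowers g⁆ = ⊥) :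
    ¬ Cfsg.IsNormalizerPStable p X := by
  intro hst
  set P := θ.ker with hPdef
  have hgN : g ∈ Subgroup.normalizer (P : Set X) := by
    have : Subgroup.normalizer (P : Set X) = ⊤ := Subgroup.normalizer_eq_top_iff.mpr inferInstance
    rw [this]; trivial
  have h1 := hst P hP g hgN hq
  set N := Subgroup.normalizer (P : Set X) with hN
  set C := (Subgroup.centralizer (P : Set X)).subgroupOf N with hCdef
  let θ' : ↥N →* S := θ.comp N.subtype
  have hker : C ≤ θ'.ker := by
    intro c hc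
    rw [hCdef, Subgroup.mem_subgroupOf] at hc
    exact hC hc
  let θbar : ↥N ⧸ C →* S := QuotientGroup.lift C θ' hker
  have hθbar : Function.Surjective θbar := by
    intro s
    obtain ⟨x, rfl⟩ := hθ s
    have hxN : x ∈ N := by
      have : N = ⊤ := Subgroup.normalizer_eq_top_iff.mpr inferInstance
      rw [this]; trivial
    exact ⟨QuotientGroup.mk ⟨x, hxN⟩, rfl⟩
  set R : Subgroup S := (Cfsg.pCore p (↥N ⧸ C)).map θbar with hR
  have hRn : R.Normal :=
    Subgroup.Normal.map (Cfsg.Agent.Lib.Helper9.pCore_normal' p) θbar hθbar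
  have hRp : IsPGroup p ↥R := (Cfsg.Agent.Lib.Helper9.pCore_isPGroup' p).map θbar
  have hRbot := hS R hRn hRp
  have hmem : θ g ∈ R := ⟨_, h1, rfl⟩
  rw [hRbot, Subgroup.mem_bot] at hmem
  exact hg hmem

end criterion

end QdLib

end Cfsg.Agent.Lib.Lead
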