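import Mathlib
import Cfsg.Agent.Lib.Lead.Qd4

set_option autoImplicit false

universe u

namespace Cfsg.Agent.Lib.Lead

namespace QdLib

open Matrix

open scoped commutatorElement

section beta

variable (p : ℕ)

/-- upper-left block -/
def blockMat (M : Matrix (Fin 3) (Fin 3) (ZMod p)) : Matrix (Fin 2) (Fin 2) (ZMod p) :=
  !![M 0 0, M 0 1; M 1 0, M 1 1]

theorem det_blockMat {M : Matrix.SpecialLinearGroup (Fin 3) (ZMod p)} (hM : M ∈ Cfsg.qd p) :
    (blockMat p M.1).det = 1 := by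
  obtain ⟨h0, h1, h2⟩ := last_row_of_mem_qd p hM
  have hdet : M.1.det = 1 := M.2
  rw [Matrix.det_fin_three, h0, h1, h2] at hdet
  rw [blockMat, Matrix.det_fin_two_of]
  linear_combination hdet

/-- the projection of `Qd(p)` onto `SL₂(p)` -/
def beta : ↥(Cfsg.qd p) →* Matrix.SpecialLinearGroup (Fin 2) (ZMod p) where
  toFun M := ⟨blockMat p M.1.1, det_blockMat p M.2⟩
  map_one' := by
    apply Subtype.ext
    ext i j
    fin_cases i <;> fin_cases j <;> simp [blockMat]
  map_mul' M N := by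
    obtain ⟨h0, h1, h2⟩ := last_row_of_mem_qd p N.2
    apply Subtype.ext
    change blockMat p (M.1.1 * N.1.1) = blockMat p M.1.1 * blockMat p N.1.1
    ext i j
    fin_cases i <;> fin_cases j <;>
      simp [blockMat, Matrix.mul_apply, Fin.sum_univ_three, Fin.sum_univ_two, h0, h1]

/-- translations in `Qd(p)` -/
def tauQ : Multiplicative (Fin 2 → ZMod p) →* ↥(Cfsg.qd p) :=
  (tau p).codRestrict (Cfsg.qd p) (tau_mem_qd p)

/-- block matrices in `Qd(p)` -/
def deltaQ : Matrix.SpecialLinearGroup (Fin 2) (ZMod p) →* ↥(Cfsg.qd p) :=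
  (delta p).codRestrict (Cfsg.qd p) (delta_mem_qd p)

theorem beta_deltaQ (A : Matrix.SpecialLinearGroup (Fin 2) (ZMod p)) : beta p (deltaQ p A) = A := by
  apply Subtype.ext
  ext i j
  fin_cases i <;> fin_cases j <;> rfl

theorem beta_tauQ (v : Multiplicative (Fin 2 → ZMod p)) : beta p (tauQ p v) = 1 := by
  apply Subtype.ext
  change blockMat p (tauMat p v.toAdd) = 1
  ext i j
  fin_cases i <;> fin_cases j <;> simp [blockMat, tauMat]

theorem beta_surjective : Function.Surjective (beta p) := fun A => ⟨deltaQ p A, beta_deltaQ p A⟩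

theorem eq_tauQ_mul_deltaQ (M : ↥(Cfsg.qd p)) :
    ∃ v : Multiplicative (Fin 2 → ZMod p), M = tauQ p v * deltaQ p (beta p M) := by
  obtain ⟨v, A, hM⟩ := exists_eq_tau_mul_delta p M.2
  refine ⟨v, ?_⟩
  have h1 : M = tauQ p v * deltaQ p A := Subtype.ext hM
  have h2 : beta p M = A := by
    rw [h1, map_mul, beta_tauQ, beta_deltaQ, one_mul]
  rw [h2]; exact h1

theorem mem_ker_beta_iff (M : ↥(Cfsg.qd p)) :
    M ∈ (beta p).ker ↔ ∃ v : Multiplicative (Fin 2 → ZMod p), M = tauQ p v := by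
  constructor
  · intro h
    obtain ⟨v, hv⟩ := eq_tauQ_mul_deltaQ p M
    rw [MonoidHom.mem_ker] at h
    rw [h, map_one, mul_one] at hv
    exact ⟨v, hv⟩
  · rintro ⟨v, rfl⟩
    exact beta_tauQ p v

theorem deltaQ_mul_tauQ (A : Matrix.SpecialLinearGroup (Fin 2) (ZMod p))
    (v : Multiplicative (Fin 2 → ZMod p)) :
    deltaQ p A * tauQ p v = tauQ p (Multiplicative.ofAdd (A.1 *ᵥ v.toAdd)) * deltaQ p A :=
  Subtype.ext (delta_mul_tau p A v)

theorem tauQ_injective : Function.Injective (tauQ p) := by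
  intro v w h
  have h1 : tauMat p v.toAdd = tauMat p w.toAdd :=
    congrArg (fun M : ↥(Cfsg.qd p) => (M.1.1 : Matrix (Fin 3) (Fin 3) (ZMod p))) h
  have e0 := congrFun (congrFun h1 0) 2
  have e1 := congrFun (congrFun h1 1) 2
  simp [tauMat] at e0 e1
  have : v.toAdd = w.toAdd := by
    ext i
    fin_cases i
    · exact e0
    · exact e1
  exact this

end beta

section stab

variable {p : ℕ} [Fact p.Prime]

theorem isPGroup_ker_beta : IsPGroup p ↥(beta p).ker := by
  rintro ⟨M, hM⟩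
  obtain ⟨v, rfl⟩ := (mem_ker_beta_iff p M).mp hM
  refine ⟨1, ?_⟩
  apply Subtype.ext
  rw [pow_one, Subgroup.coe_pow, Subgroup.coe_one, ← map_pow]
  have : v ^ p = 1 := by
    change Multiplicative.ofAdd (p • v.toAdd) = 1
    have : p • v.toAdd = 0 := by
      ext i
      simp
    rw [this]; rfl
  rw [this, map_one]

theorem centralizer_ker_beta_le :
    Subgroup.centralizer ((beta p).ker : Set ↥(Cfsg.qd p)) ≤ (beta p).ker := by
  intro M hM
  obtain ⟨v, hv⟩ := eq_tauQ_mul_deltaQ p M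
  set A := beta p M with hA
  rw [MonoidHom.mem_ker]
  apply Subtype.ext
  apply Matrix.mulVec_injective
  funext w
  have hw := hM (tauQ p (Multiplicative.ofAdd w)) (beta_tauQ p _)
  rw [hv, mul_assoc, deltaQ_mul_tauQ, ← mul_assoc, ← mul_assoc, ← map_mul, ← map_mul] at hw
  have h1 := mul_right_cancel hw
  have h2 := tauQ_injective p h1
  have h3 := congrArg Multiplicative.toAdd h2
  simp only [toAdd_mul, toAdd_ofAdd] at h3
  rw [Matrix.SpecialLinearGroup.coe_one, Matrix.one_mulVec]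
  have h4 : w = A.1 *ᵥ w := add_left_cancel (a := v.toAdd) (by rw [add_comm] at h3; rw [h3, add_comm])
  exact h4.symm

/-- the transvection in `Qd(p)` -/
def g0 (p : ℕ) : ↥(Cfsg.qd p) := deltaQ p (SL2.xs 1)

theorem beta_g0_ne_one : beta p (g0 p) ≠ 1 := by
  rw [g0, beta_deltaQ]
  intro h
  have h1 := congrArg (fun M : Matrix.SpecialLinearGroup (Fin 2) (ZMod p) => M.1 0 1) h
  simp [SL2.xs] at h1

theorem mem_zpowers_g0 {z : ↥(Cfsg.qd p)} (hz : z ∈ Subgroup.zpowers (g0 p)) :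
    ∃ s : ZMod p, z = deltaQ p (SL2.xs s) := by
  let f : Multiplicative (ZMod p) →* ↥(Cfsg.qd p) :=
    { toFun := fun s => deltaQ p (SL2.xs s.toAdd)
      map_one' := by
        change deltaQ p (SL2.xs 0) = 1
        rw [SL2.xs_zero, map_one]
      map_mul' := by
        intro s t
        change deltaQ p (SL2.xs (s.toAdd + t.toAdd)) = _
        rw [SL2.xs_add, map_mul] }
  have hle : Subgroup.zpowers (g0 p) ≤ f.range := by
    rw [Subgroup.zpowers_le]
    exact ⟨Multiplicative.ofAdd 1, rfl⟩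
  obtain ⟨s, rfl⟩ := hle hz
  exact ⟨s.toAdd, rfl⟩

theorem commutator_tauQ_deltaQ (v : Multiplicative (Fin 2 → ZMod p)) (s : ZMod p) :
    ⁅tauQ p v, deltaQ p (SL2.xs s)⁆ =
      tauQ p (Multiplicative.ofAdd ![-(s * v.toAdd 1), 0]) := by
  rw [commutatorElement_def]
  have h1 : deltaQ p (SL2.xs s) * (tauQ p v)⁻¹ =
      tauQ p (Multiplicative.ofAdd ((SL2.xs s).1 *ᵥ (v⁻¹).toAdd)) * deltaQ p (SL2.xs s) := by
    rw [← map_inv, deltaQ_mul_tauQ]
  rw [mul_assoc (tauQ p v), h1, ← mul_assoc, mul_assoc, mul_inv_cancel, mul_one, ← map_mul]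
  congr 1
  apply Multiplicative.toAdd.injective
  simp only [toAdd_mul, toAdd_ofAdd, toAdd_inv]
  ext i
  fin_cases i <;> simp [SL2.xs, Matrix.mulVec, dotProduct, Fin.sum_univ_two]

theorem quadratic_g0 :
    ⁅⁅(beta p).ker, Subgroup.zpowers (g0 p)⁆, Subgroup.zpowers (g0 p)⁆ = ⊥ := by
  rw [Subgroup.commutator_eq_bot_iff_le_centralizer, Subgroup.commutator_le]
  intro k hk z hz
  obtain ⟨v, rfl⟩ := (mem_ker_beta_iff p k).mp hk
  obtain ⟨s, rfl⟩ := mem_zpowers_g0 hz
  rw [commutator_tauQ_deltaQ]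
  intro z' hz'
  obtain ⟨s', rfl⟩ := mem_zpowers_g0 hz'
  rw [deltaQ_mul_tauQ]
  congr 2
  simp only [toAdd_ofAdd]
  ext i
  fin_cases i <;> simp [SL2.xs, Matrix.mulVec, dotProduct, Fin.sum_univ_two]

/-- `Qd(p)` is not `p`-stable in the normalizer form -/
theorem not_isNormalizerPStable_qd [Finite ↥(Cfsg.qd p)] :
    ¬ Cfsg.IsNormalizerPStable p ↥(Cfsg.qd p) :=
  not_isNormalizerPStable_of_hom (beta p) (beta_surjective p) isPGroup_ker_beta
    centralizer_ker_beta_le eq_bot_of_normal_pgroup (g0 p) beta_g0_ne_one quadratic_g0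

end stab

end QdLib

end Cfsg.Agent.Lib.Lead
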