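import Mathlib
import Cfsg.Agent.Lib.Lead.Quad6

set_option autoImplicit false

universe u v

namespace Cfsg.Agent.Lib.Lead

namespace Quad

open Matrix

section nat

variable {p : ℕ} [Fact p.Prime]
variable {Γ : Type v} [Group Γ]

/-- the representation `ρ` has a natural `SL₂(𝔽_p)`-section: a subgroup `Γ1` mapping onto
`SL₂(𝔽_p)`, and a `Γ1`-invariant additive subgroup `W` of `M` with a `Γ1`-equivariant surjection
onto the natural module. -/
def HasNat {M : Type u} [AddCommGroup M] [Module (ZMod p) M]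
    (ρ : Γ →* Module.End (ZMod p) M) : Prop :=
  ∃ (Γ1 : Subgroup Γ) (r : ↥Γ1 →* Matrix.SpecialLinearGroup (Fin 2) (ZMod p))
    (W : AddSubgroup M) (ψ : ↥W →+ (Fin 2 → ZMod p)),
    Function.Surjective r ∧ Function.Surjective ψ ∧
      ∀ (g : ↥Γ1) (w : ↥W), ∃ h : ρ g w ∈ W, ψ ⟨ρ g w, h⟩ = (r g).1 *ᵥ ψ w

variable {M : Type u} [AddCommGroup M] [Module (ZMod p) M]
variable (ρ : Γ →* Module.End (ZMod p) M)

theorem HasNat.of_subRep (U : Submodule (ZMod p) M) (hU : Inv p ρ U)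
    (h : HasNat (subRep ρ U hU)) : HasNat ρ := by
  obtain ⟨Γ1, r, W, ψ, hr, hψ, hc⟩ := h
  let ι : ↥U →+ M := U.subtype.toAddMonoidHom
  have hι : Function.Injective ι := U.injective_subtype
  let e : ↥W ≃+ ↥(W.map ι) := AddSubgroup.equivMapOfInjective W ι hι
  refine ⟨Γ1, r, W.map ι, ψ.comp e.symm.toAddMonoidHom, hr, hψ.comp e.symm.surjective, ?_⟩
  intro g w
  obtain ⟨w', rfl⟩ := e.surjective w
  obtain ⟨h1, h2⟩ := hc g w'
  have hmem : ρ g ((e w' : ↥(W.map ι)) : M) ∈ W.map ι :=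
    ⟨subRep ρ U hU g w', h1, rfl⟩
  refine ⟨hmem, ?_⟩
  have he : (⟨ρ g ((e w' : ↥(W.map ι)) : M), hmem⟩ : ↥(W.map ι)) =
      e ⟨subRep ρ U hU g w', h1⟩ := by
    apply Subtype.ext
    rfl
  rw [he]
  simp only [AddMonoidHom.comp_apply, AddEquiv.coe_toAddMonoidHom, AddEquiv.symm_apply_apply]
  exact h2

theorem HasNat.of_quotRep (U : Submodule (ZMod p) M) (hU : Inv p ρ U)
    (h : HasNat (quotRep ρ U hU)) : HasNat ρ := by
  obtain ⟨Γ1, r, W, ψ, hr, hψ, hc⟩ := h
  let π : M →+ M ⧸ U := U.mkQ.toAddMonoidHom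
  have hπ : Function.Surjective π := U.mkQ_surjective
  let πW : ↥(W.comap π) →+ ↥W := π.addSubgroupComap W
  have hπW : Function.Surjective πW := π.addSubgroupComap_surjective_of_surjective W hπ
  refine ⟨Γ1, r, W.comap π, ψ.comp πW, hr, hψ.comp hπW, ?_⟩
  intro g w
  obtain ⟨h1, h2⟩ := hc g (πW w)
  have hmem : ρ g (w : M) ∈ W.comap π := by
    change π (ρ g (w : M)) ∈ W
    exact h1
  refine ⟨hmem, ?_⟩
  have he : πW ⟨ρ g (w : M), hmem⟩ = ⟨quotRep ρ U hU g (πW w), h1⟩ := by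
    apply Subtype.ext
    rfl
  rw [AddMonoidHom.comp_apply, he]
  exact h2

theorem HasNat.of_restrict (S : Subgroup Γ) (h : HasNat (ρ.comp S.subtype)) : HasNat ρ := by
  obtain ⟨Γ1, r, W, ψ, hr, hψ, hc⟩ := h
  let e : ↥Γ1 ≃* ↥(Γ1.map S.subtype) := Subgroup.equivMapOfInjective Γ1 S.subtype S.subtype_injective
  refine ⟨Γ1.map S.subtype, r.comp e.symm.toMonoidHom, W, ψ, hr.comp e.symm.surjective, hψ, ?_⟩
  intro g w
  obtain ⟨g', rfl⟩ := e.surjective g
  obtain ⟨h1, h2⟩ := hc g' w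
  refine ⟨h1, ?_⟩
  simp only [MonoidHom.comp_apply, MulEquiv.coe_toMonoidHom, MulEquiv.symm_apply_apply]
  exact h2

/-- reduction to irreducible representations, dependent version -/
theorem reduce_irreducible' (x y : Γ)
    (C : ∀ (M : Type u) [AddCommGroup M] [Module (ZMod p) M], (Γ →* Module.End (ZMod p) M) → Prop)
    (hsub : ∀ (M : Type u) [AddCommGroup M] [Module (ZMod p) M] (ρ : Γ →* Module.End (ZMod p) M)
      (U : Submodule (ZMod p) M) (hU : Inv p ρ U), C ↥U (subRep ρ U hU) → C M ρ)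
    (hquot : ∀ (M : Type u) [AddCommGroup M] [Module (ZMod p) M] (ρ : Γ →* Module.End (ZMod p) M)
      (U : Submodule (ZMod p) M) (hU : Inv p ρ U), C (M ⧸ U) (quotRep ρ U hU) → C M ρ)
    (hirr : ∀ (M : Type u) [AddCommGroup M] [Module (ZMod p) M] [Finite M]
      (ρ : Γ →* Module.End (ZMod p) M), (ρ x - 1) * (ρ x - 1) = 0 → (ρ y - 1) * (ρ y - 1) = 0 →
      Irred p ρ → ¬ IsPRep p ρ → C M ρ) :
    ∀ (n : ℕ) (M : Type u) [AddCommGroup M] [Module (ZMod p) M] [Finite M]
      (ρ : Γ →* Module.End (ZMod p) M), Nat.card M = n → (ρ x - 1) * (ρ x - 1) = 0 →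
      (ρ y - 1) * (ρ y - 1) = 0 → ¬ IsPRep p ρ → C M ρ := by
  intro n
  induction n using Nat.strong_induction_on with
  | _ n ih =>
    intro M _ _ _ ρ hn hx hy hnp
    by_cases hI : Irred p ρ
    · exact hirr M ρ hx hy hI hnp
    · unfold Irred at hI
      push Not at hI
      obtain ⟨U, hU, hU0, hU1⟩ := hI
      haveI : Finite (M ⧸ U) := Finite.of_surjective _ (Submodule.Quotient.mk_surjective U)
      have hcard := Submodule.card_eq_card_quotient_mul_card U
      have hUpos : 0 < Nat.card U := Nat.card_pos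
      have hQpos : 0 < Nat.card (M ⧸ U) := Nat.card_pos
      have hU2 : 1 < Nat.card U := by
        rw [Finite.one_lt_card_iff_nontrivial]
        exact (Submodule.nontrivial_iff_ne_bot).mpr hU0
      have hQ2 : 1 < Nat.card (M ⧸ U) := by
        rw [Finite.one_lt_card_iff_nontrivial]
        exact Submodule.Quotient.nontrivial_iff.mpr hU1
      by_cases h1 : IsPRep p (subRep ρ U hU)
      · have h2 : ¬ IsPRep p (quotRep ρ U hU) := fun h2 => hnp (isPRep_of_sub_quot ρ U hU h1 h2)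
        have hlt : Nat.card (M ⧸ U) < n := by
          rw [← hn, hcard]
          nlinarith
        exact hquot M ρ U hU (ih _ hlt (M ⧸ U) (quotRep ρ U hU) rfl (quad_quotRep ρ U hU x hx)
          (quad_quotRep ρ U hU y hy) h2)
      · have hlt : Nat.card U < n := by
          rw [← hn, hcard]
          nlinarith
        exact hsub M ρ U hU (ih _ hlt U (subRep ρ U hU) rfl (quad_subRep ρ U hU x hx)
          (quad_subRep ρ U hU y hy) h1)

end nat

end Quad

end Cfsg.Agent.Lib.Lead
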