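import Mathlib
import Cfsg.Agent.Lib.Lead.Nat1

set_option autoImplicit false

universe u v w

namespace Cfsg.Agent.Lib.Lead

namespace SL2

open Matrix

variable {F : Type*} [Field F] {Γ : Type*} [Group Γ]

section emb

variable (p : ℕ) [Fact p.Prime] [CharP F p]

theorem exists_conjMap_range_eq (U V : Matrix.SpecialLinearGroup (Fin 2) F)
    (hA : ((U : M2 F) - 1) * ((U : M2 F) - 1) = 0)
    (hB : ((V : M2 F) - 1) * ((V : M2 F) - 1) = 0)
    (hτ : (((U : M2 F) - 1) * ((V : M2 F) - 1)).trace = 1) :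
    ∃ (g : M2 F) (hg : g.det ≠ 0), (conjMap p g hg).range =
      Subgroup.closure ({U, V} : Set (Matrix.SpecialLinearGroup (Fin 2) F)) := by
  obtain ⟨g, hg, hAg, hBg⟩ := exists_basis _ _ hA hB hτ
  have h1 : g * g⁻¹ = 1 := Matrix.mul_nonsing_inv g (isUnit_iff_ne_zero.mpr hg)
  have hU : conjMap p g hg (xs 1) = U := by
    apply Subtype.ext
    rw [conjMap_coe]
    have e : (ZMod.castHom (dvd_refl p) F).mapMatrix
        ((xs (1 : ZMod p) : Matrix.SpecialLinearGroup (Fin 2) (ZMod p)) :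
          Matrix (Fin 2) (Fin 2) (ZMod p)) = 1 + !![0, 1; 0, 0] := by
      ext i j
      fin_cases i <;> fin_cases j <;> simp [xs]
    rw [e, mul_add, mul_one, ← hAg, add_mul, h1, mul_assoc, h1, mul_one]
    abel
  have hV : conjMap p g hg (ys 1) = V := by
    apply Subtype.ext
    rw [conjMap_coe]
    have e : (ZMod.castHom (dvd_refl p) F).mapMatrix
        ((ys (1 : ZMod p) : Matrix.SpecialLinearGroup (Fin 2) (ZMod p)) :
          Matrix (Fin 2) (Fin 2) (ZMod p)) = 1 + !![0, 0; 1, 0] := by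
      ext i j
      fin_cases i <;> fin_cases j <;> simp [ys]
    rw [e, mul_add, mul_one, ← hBg, add_mul, h1, mul_assoc, h1, mul_one]
    abel
  refine ⟨g, hg, ?_⟩
  rw [MonoidHom.range_eq_map, ← closure_xs_ys_zmod p, MonoidHom.map_closure, Set.image_pair,
    hU, hV]

variable (ι : Γ →* Matrix.SpecialLinearGroup (Fin 2) F) [Finite Γ]

/-- a conjugate of `SL₂(𝔽_p)` inside the image -/
theorem exists_conjMap_range_le (hp2 : p ≠ 2) (hι : Function.Injective ι)
    (h : ∃ P Q : Sylow p Γ, P ≠ Q) :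
    ∃ (g : M2 F) (hg : g.det ≠ 0), (conjMap p g hg).range ≤ ι.range := by
  obtain ⟨u, v, hu, hv, huv⟩ := exists_good_pair p ι hp2 hι h
  have htu := tr_eq_two_of_pow_p p ι hu
  have htv := tr_eq_two_of_pow_p p ι hv
  have hA : nil ι u * nil ι u = 0 := nil_mul_self_of_tr ι htu
  have hB : nil ι v * nil ι v = 0 := nil_mul_self_of_tr ι htv
  have htA : (nil ι u).trace = 0 := (trace_det_of_sq_zero _ hA).1
  have htB : (nil ι v).trace = 0 := (trace_det_of_sq_zero _ hB).1
  have hτ : (nil ι u * nil ι v).trace = 1 := by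
    unfold tr at huv
    rw [mat_mul, mat_eq_one_add_nil ι u, mat_eq_one_add_nil ι v] at huv
    simp only [add_mul, mul_add, one_mul, mul_one, Matrix.trace_add, Matrix.trace_one, htA,
      htB] at huv
    simp only [Fintype.card_fin, Nat.cast_ofNat, add_zero, zero_add] at huv
    linear_combination huv
  obtain ⟨g, hg, hrange⟩ := exists_conjMap_range_eq p (ι u) (ι v) hA hB hτ
  refine ⟨g, hg, ?_⟩
  rw [hrange, Subgroup.closure_le]
  rintro z (rfl | hz)
  · exact ⟨u, rfl⟩
  · rw [Set.mem_singleton_iff] at hz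
    rw [hz]; exact ⟨v, rfl⟩

end emb

end SL2

end Cfsg.Agent.Lib.Lead
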