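import Mathlib
import Cfsg.Agent.Lib.Lead.Nat2

set_option autoImplicit false

universe u v w

namespace Cfsg.Agent.Lib.Lead

namespace Quad

open Matrix

section emb

variable {p : ℕ} [Fact p.Prime]
variable {Γ : Type v} [Group Γ]
variable {M : Type u} [AddCommGroup M] [Module (ZMod p) M]
variable {K : Type w} [Field K]
variable {ρ : Γ →* Module.End (ZMod p) M} {x y : Γ} {j : K →+* Module.End (ZMod p) M}

/-- the coordinate parametrization `K² → M` -/
def TwoDim.emb (T : TwoDim ρ x y j) : (Fin 2 → K) →+ M where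
  toFun c := j (c 0) T.e1 + j (c 1) T.e2
  map_zero' := by simp
  map_add' a b := by
    simp only [Pi.add_apply, map_add, LinearMap.add_apply]
    abel

theorem TwoDim.emb_apply (T : TwoDim ρ x y j) (c : Fin 2 → K) :
    T.emb c = j (c 0) T.e1 + j (c 1) T.e2 := rfl

theorem TwoDim.emb_injective (T : TwoDim ρ x y j) : Function.Injective T.emb := by
  rw [injective_iff_map_eq_zero]
  intro c hc
  obtain ⟨h0, h1⟩ := T.coord_zero hc
  ext i
  fin_cases i
  · exact h0
  · exact h1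

theorem TwoDim.rho_emb (T : TwoDim ρ x y j) (g : Γ) (c : Fin 2 → K) :
    ρ g (T.emb c) = T.emb (T.mat g *ᵥ c) := by
  rw [T.emb_apply, T.rho_apply, T.emb_apply]
  simp [TwoDim.mat, Matrix.mulVec, dotProduct, Fin.sum_univ_two]

end emb

section irred

variable {p : ℕ} [Fact p.Prime]
variable {Γ : Type v} [Group Γ]
variable {M : Type u} [AddCommGroup M] [Module (ZMod p) M]
variable (ρ : Γ →* Module.End (ZMod p) M) (x y : Γ)

/-- two Sylow subgroups in the image of a non-`p`-representation generated by quadratic elements -/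
theorem exists_two_sylow [Finite Γ] {H : Type w} [Group H] (ι : Γ →* H)
    (hι : ∀ g : Γ, ι g = 1 ↔ ρ g = 1)
    (hgen : Subgroup.closure {x, y} = ⊤)
    (hx : (ρ x - 1) * (ρ x - 1) = 0) (hy : (ρ y - 1) * (ρ y - 1) = 0)
    (hnp : ¬ IsPRep p ρ) : ∃ P Q : Sylow p (Γ ⧸ ι.ker), P ≠ Q := by
  have hpow : ∀ z : Γ, (ρ z - 1) * (ρ z - 1) = 0 → ((z : Γ ⧸ ι.ker)) ^ p = 1 := by
    intro z hz
    rw [← QuotientGroup.mk_pow, QuotientGroup.eq_one_iff, MonoidHom.mem_ker, hι, map_pow]
    exact pow_p_eq_one_of_sq_zero _ hz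
  by_contra hcon
  push Not at hcon
  apply hnp
  obtain ⟨P⟩ : Nonempty (Sylow p (Γ ⧸ ι.ker)) := inferInstance
  have hmem : ∀ z : Γ ⧸ ι.ker, z ^ p = 1 → z ∈ P := by
    intro z hz
    have hzp : IsPGroup p (Subgroup.zpowers z) := by
      rintro ⟨w, hw⟩
      refine ⟨1, ?_⟩
      obtain ⟨k, rfl⟩ := Subgroup.mem_zpowers_iff.mp hw
      apply Subtype.ext
      simp only [pow_one, Subgroup.coe_pow, Subgroup.coe_one]
      rw [← zpow_natCast, ← _root_.zpow_mul, mul_comm, _root_.zpow_mul, zpow_natCast, hz,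
        _root_.one_zpow]
    obtain ⟨Q, hQ⟩ := hzp.exists_le_sylow
    rw [hcon Q P] at hQ
    exact hQ (Subgroup.mem_zpowers z)
  have htop : ∀ g : Γ, (g : Γ ⧸ ι.ker) ∈ P := by
    intro g
    have hg : g ∈ Subgroup.closure {x, y} := by rw [hgen]; trivial
    induction hg using Subgroup.closure_induction with
    | mem z hz =>
      rcases hz with rfl | hz
      · exact hmem _ (hpow _ hx)
      · rw [Set.mem_singleton_iff] at hz
        rw [hz]
        exact hmem _ (hpow _ hy)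
    | one => exact (P : Subgroup (Γ ⧸ ι.ker)).one_mem
    | mul a b _ _ ha hb =>
      rw [QuotientGroup.mk_mul]
      exact (P : Subgroup (Γ ⧸ ι.ker)).mul_mem ha hb
    | inv a _ ha =>
      rw [QuotientGroup.mk_inv]
      exact (P : Subgroup (Γ ⧸ ι.ker)).inv_mem ha
  intro g
  obtain ⟨k, hk⟩ := P.2 ⟨(g : Γ ⧸ ι.ker), htop g⟩
  refine ⟨k, ?_⟩
  have h1 : ((g : Γ ⧸ ι.ker)) ^ p ^ k = 1 := by
    have := congrArg Subtype.val hk
    simpa using this
  rw [← QuotientGroup.mk_pow, QuotientGroup.eq_one_iff, MonoidHom.mem_ker, hι, map_pow] at h1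
  exact h1

/-- the irreducible case of the natural-section theorem -/
theorem hasNat_of_irred [Finite Γ] [Finite M] (hp2 : p ≠ 2)
    (hgen : Subgroup.closure {x, y} = ⊤)
    (hx : (ρ x - 1) * (ρ x - 1) = 0) (hy : (ρ y - 1) * (ρ y - 1) = 0)
    (hI : Irred p ρ) (hnp : ¬ IsPRep p ρ) : HasNat ρ := by
  classical
  obtain ⟨K, instF, hchar, j, ⟨T⟩⟩ := exists_twoDim ρ x y hgen hx hy hI hnp
  set ι := T.hom hgen with hιdef
  have hι : ∀ g : Γ, ι g = 1 ↔ ρ g = 1 := T.hom_eq_one_iff hgen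
  have hιbar : Function.Injective (QuotientGroup.kerLift ι) := QuotientGroup.kerLift_injective ι
  have h2S := exists_two_sylow ρ x y ι hι hgen hx hy hnp
  obtain ⟨g0, hg0, hle⟩ := SL2.exists_conjMap_range_le p (QuotientGroup.kerLift ι) hp2 hιbar h2S
  set cm := SL2.conjMap p g0 hg0 with hcm
  have hcminj : Function.Injective cm := SL2.conjMap_injective p g0 hg0
  have hle' : cm.range ≤ ι.range := by
    intro z hz
    obtain ⟨q, rfl⟩ := hle hz
    obtain ⟨g, rfl⟩ := QuotientGroup.mk_surjective q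
    exact ⟨g, rfl⟩
  set Γ1 : Subgroup Γ := cm.range.comap ι with hΓ1
  let e : Matrix.SpecialLinearGroup (Fin 2) (ZMod p) ≃* ↥cm.range := MonoidHom.ofInjective hcminj
  let r : ↥Γ1 →* Matrix.SpecialLinearGroup (Fin 2) (ZMod p) :=
    e.symm.toMonoidHom.comp ((ι.comp Γ1.subtype).codRestrict cm.range (fun g => g.2))
  have hr_spec : ∀ g : ↥Γ1, cm (r g) = ι (g : Γ) := by
    intro g
    have h1 : e (r g) = ⟨ι (g : Γ), g.2⟩ := by
      change e (e.symm _) = _
      rw [MulEquiv.apply_symm_apply]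
      rfl
    have h2 := congrArg Subtype.val h1
    rw [MonoidHom.ofInjective_apply] at h2
    exact h2
  have hr : Function.Surjective r := by
    intro A
    obtain ⟨g, hg⟩ := hle' ⟨A, rfl⟩
    have hgΓ : g ∈ Γ1 := by
      change ι g ∈ cm.range
      rw [hg]; exact ⟨A, rfl⟩
    refine ⟨⟨g, hgΓ⟩, ?_⟩
    apply hcminj
    rw [hr_spec, hg]
  -- the parametrization of the natural module
  let cast : ZMod p →+* K := ZMod.castHom (dvd_refl p) K
  let μ : (Fin 2 → ZMod p) →+ M :=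
    T.emb.comp ((Matrix.mulVecLin g0).toAddMonoidHom.comp (cast.toAddMonoidHom.compLeft (Fin 2)))
  have hμ_apply : ∀ v, μ v = T.emb (g0 *ᵥ (cast ∘ v)) := fun v => rfl
  have hμinj : Function.Injective μ := by
    intro v v' hvv
    rw [hμ_apply, hμ_apply] at hvv
    have h1 := Matrix.mulVec_injective_of_det_ne_zero hg0 (T.emb_injective hvv)
    funext i
    exact cast.injective (congrFun h1 i)
  have hequiv : ∀ (g : ↥Γ1) (v : Fin 2 → ZMod p), ρ g (μ v) = μ ((r g).1 *ᵥ v) := by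
    intro g v
    rw [hμ_apply, hμ_apply, T.rho_emb]
    congr 1
    have hmat : T.mat (g : Γ) = g0 * cast.mapMatrix (r g).1 * g0⁻¹ := by
      have := congrArg Subtype.val (hr_spec g)
      rw [hcm, SL2.conjMap_coe] at this
      exact this.symm
    have hinv : g0⁻¹ * g0 = 1 := Matrix.nonsing_inv_mul g0 (isUnit_iff_ne_zero.mpr hg0)
    rw [hmat, Matrix.mulVec_mulVec, mul_assoc, mul_assoc, hinv, mul_one, ← Matrix.mulVec_mulVec]
    congr 1
    funext i
    exact (RingHom.map_mulVec cast (r g).1 v i).symm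
  let eμ : (Fin 2 → ZMod p) ≃+ ↥μ.range := AddMonoidHom.ofInjective hμinj
  refine ⟨Γ1, r, μ.range, eμ.symm.toAddMonoidHom, hr, eμ.symm.surjective, ?_⟩
  intro g w
  obtain ⟨v, rfl⟩ := eμ.surjective w
  have hv : ((eμ v : ↥μ.range) : M) = μ v := rfl
  have hmem : ρ g ((eμ v : ↥μ.range) : M) ∈ μ.range := by
    rw [hv, hequiv]; exact ⟨_, rfl⟩
  refine ⟨hmem, ?_⟩
  have he : (⟨ρ g ((eμ v : ↥μ.range) : M), hmem⟩ : ↥μ.range) = eμ ((r g).1 *ᵥ v) := by
    apply Subtype.ext
    change ρ g (μ v) = μ ((r g).1 *ᵥ v)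
    exact hequiv g v
  rw [he]
  simp only [AddEquiv.coe_toAddMonoidHom, AddEquiv.symm_apply_apply]

end irred

end Quad

end Cfsg.Agent.Lib.Lead
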