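import Mathlib
import Cfsg.Agent.Lib.Lead.Nat3
import Cfsg.Agent.Lib.Lead.Quad8

set_option autoImplicit false

universe u v

namespace Cfsg.Agent.Lib.Lead

namespace Quad

open Matrix

section pair

variable {p : ℕ} [Fact p.Prime]
variable {Γ : Type v} [Group Γ]
variable {M : Type u} [AddCommGroup M] [Module (ZMod p) M]
variable (ρ : Γ →* Module.End (ZMod p) M)

/-- pair form of the natural-section theorem -/
theorem hasNat_of_quadratic [Finite Γ] [Finite M] (hp2 : p ≠ 2) (x y : Γ)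
    (hgen : Subgroup.closure {x, y} = ⊤)
    (hx : (ρ x - 1) * (ρ x - 1) = 0) (hy : (ρ y - 1) * (ρ y - 1) = 0)
    (hnp : ¬ IsPRep p ρ) : HasNat ρ :=
  reduce_irreducible' x y (fun M _ _ ρ => HasNat ρ)
    (fun _ _ _ ρ U hU h => HasNat.of_subRep ρ U hU h)
    (fun _ _ _ ρ U hU h => HasNat.of_quotRep ρ U hU h)
    (fun M' _ _ _ ρ' hx' hy' hI' hnp' => hasNat_of_irred ρ' x y hp2 hgen hx' hy' hI' hnp')
    (Nat.card M) M ρ rfl hx hy hnp

/-- Baer–Suzuki step: some pair `x, g x g⁻¹` generates a group not acting as a `p`-group -/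
theorem exists_conj_pair_not_pgroup [Finite Γ] (x : Γ)
    (hN : ∀ N : Subgroup Γ, N.Normal → (∀ g ∈ N, ∃ k : ℕ, ρ g ^ p ^ k = 1) → x ∉ N) :
    ∃ g : Γ, ¬ ∀ h ∈ Subgroup.closure {x, g * x * g⁻¹}, ∃ k : ℕ, ρ h ^ p ^ k = 1 := by
  classical
  by_contra hcon
  push Not at hcon
  have hpair : ∀ g : Γ, ∀ h ∈ Subgroup.closure {x, g * x * g⁻¹}, ∃ k : ℕ, ρ h ^ p ^ k = 1 := hcon
  let π := QuotientGroup.mk' ρ.ker
  have hker : ∀ h : Γ, ∀ k : ℕ, (π h) ^ p ^ k = 1 ↔ ρ h ^ p ^ k = 1 := by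
    intro h k
    rw [← map_pow, ← map_pow]
    exact (QuotientGroup.eq_one_iff _).trans MonoidHom.mem_ker
  set X : Subgroup (Γ ⧸ ρ.ker) := Subgroup.zpowers (π x) with hX
  have hBS' : ∀ gbar : Γ ⧸ ρ.ker, IsPGroup p ↥(X ⊔ X.map (MulAut.conj gbar).toMonoidHom) := by
    intro gbar
    obtain ⟨g, rfl⟩ := QuotientGroup.mk'_surjective ρ.ker gbar
    have hle : X ⊔ X.map (MulAut.conj (π g)).toMonoidHom ≤
        (Subgroup.closure {x, g * x * g⁻¹}).map π := by
      apply sup_le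
      · rw [hX, Subgroup.zpowers_le]
        exact ⟨x, Subgroup.subset_closure (Set.mem_insert _ _), rfl⟩
      · rw [hX, MonoidHom.map_zpowers, Subgroup.zpowers_le]
        refine ⟨g * x * g⁻¹, Subgroup.subset_closure
          (Set.mem_insert_of_mem _ (Set.mem_singleton _)), ?_⟩
        simp [π]
    rintro ⟨z, hz⟩
    obtain ⟨h, hh, rfl⟩ := hle hz
    obtain ⟨k, hk⟩ := hpair g h hh
    refine ⟨k, ?_⟩
    apply Subtype.ext
    rw [Subgroup.coe_pow, Subgroup.coe_one]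
    exact (hker h k).mpr hk
  have hXp : IsPGroup p X := by
    have h1 := hBS' 1
    intro z
    obtain ⟨k, hk⟩ := h1 ⟨(z : Γ ⧸ ρ.ker), Subgroup.mem_sup_left z.2⟩
    refine ⟨k, ?_⟩
    apply Subtype.ext
    have h2 := congrArg Subtype.val hk
    rw [Subgroup.coe_pow, Subgroup.coe_one] at h2 ⊢
    exact h2
  obtain ⟨Nbar, hNn, hNp, hXN⟩ := Cfsg.Agent.S0199.result X hXp hBS'
  refine hN (Nbar.comap π) (hNn.comap π) ?_ ?_
  · intro g hg
    obtain ⟨k, hk⟩ := hNp ⟨π g, hg⟩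
    refine ⟨k, ?_⟩
    rw [← hker]
    simpa using congrArg Subtype.val hk
  · exact hXN (Subgroup.mem_zpowers (π x))

/-- element form of the natural-section theorem -/
theorem hasNat_of_quadratic_elt [Finite Γ] [Finite M] (hp2 : p ≠ 2) (x : Γ)
    (hx : (ρ x - 1) * (ρ x - 1) = 0)
    (hN : ∀ N : Subgroup Γ, N.Normal → (∀ g ∈ N, ∃ k : ℕ, ρ g ^ p ^ k = 1) → x ∉ N) :
    HasNat ρ := by
  classical
  obtain ⟨g, hg⟩ := exists_conj_pair_not_pgroup ρ x hN
  set S : Subgroup Γ := Subgroup.closure {x, g * x * g⁻¹} with hS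
  have hxS : x ∈ S := Subgroup.subset_closure (Set.mem_insert _ _)
  have hyS : g * x * g⁻¹ ∈ S :=
    Subgroup.subset_closure (Set.mem_insert_of_mem _ (Set.mem_singleton _))
  apply HasNat.of_restrict ρ S
  apply hasNat_of_quadratic (ρ.comp S.subtype) hp2 ⟨x, hxS⟩ ⟨g * x * g⁻¹, hyS⟩
  · have h1 : Subgroup.closure (((↑) : ↥S → Γ) ⁻¹' {x, g * x * g⁻¹}) = ⊤ :=
      Subgroup.closure_closure_coe_preimage
    rw [← h1]
    congr 1
    ext z
    simp only [Set.mem_insert_iff, Set.mem_singleton_iff, Set.mem_preimage]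
    constructor
    · rintro (rfl | rfl)
      · left; rfl
      · right; rfl
    · rintro (h | h)
      · left; exact Subtype.ext h
      · right; exact Subtype.ext h
  · exact hx
  · exact quad_conj ρ x g hx
  · intro hrep
    apply hg
    intro h hh
    exact hrep ⟨h, hh⟩

end pair

end Quad

end Cfsg.Agent.Lib.Lead
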