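import Mathlib
import Cfsg.Agent.Lib.Lead.Nat4
import Cfsg.Agent.Lib.Lead.Quad11

set_option autoImplicit false

universe u v

namespace Cfsg.Agent.Lib.Lead

namespace Quad

open Matrix

section act

variable {p : ℕ} [Fact p.Prime]
variable {Γ : Type v} [Group Γ]

/-- the action `φ` on the group `A` has a natural `SL₂(𝔽_p)`-section -/
def HasNatAct {A : Type u} [Group A] (φ : Γ →* MulAut A) : Prop :=
  ∃ (Γ1 : Subgroup Γ) (r : ↥Γ1 →* Matrix.SpecialLinearGroup (Fin 2) (ZMod p))
    (W : Subgroup A) (ψ : ↥W →* Multiplicative (Fin 2 → ZMod p)),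
    Function.Surjective r ∧ Function.Surjective ψ ∧
      ∀ (g : ↥Γ1) (w : ↥W), ∃ h : φ g w ∈ W,
        ψ ⟨φ g w, h⟩ = Multiplicative.ofAdd ((r g).1 *ᵥ (ψ w).toAdd)

theorem HasNatAct.of_subAct {P : Type u} [Group P] (φ : Γ →* MulAut P) (Q : Subgroup P)
    (hQ : ∀ g a, a ∈ Q → φ g a ∈ Q) (h : HasNatAct (p := p) (subAct φ Q hQ)) :
    HasNatAct (p := p) φ := by
  obtain ⟨Γ1, r, W, ψ, hr, hψ, hc⟩ := h
  let e : ↥W ≃* ↥(W.map Q.subtype) := Subgroup.equivMapOfInjective W Q.subtype Q.subtype_injective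
  refine ⟨Γ1, r, W.map Q.subtype, ψ.comp e.symm.toMonoidHom, hr, hψ.comp e.symm.surjective, ?_⟩
  intro g w
  obtain ⟨w', rfl⟩ := e.surjective w
  obtain ⟨h1, h2⟩ := hc g w'
  have hmem : φ g ((e w' : ↥(W.map Q.subtype)) : P) ∈ W.map Q.subtype :=
    ⟨subAct φ Q hQ g w', h1, rfl⟩
  refine ⟨hmem, ?_⟩
  have he : (⟨φ g ((e w' : ↥(W.map Q.subtype)) : P), hmem⟩ : ↥(W.map Q.subtype)) =
      e ⟨subAct φ Q hQ g w', h1⟩ := by
    apply Subtype.ext
    rfl
  rw [he]
  simp only [MonoidHom.comp_apply, MulEquiv.coe_toMonoidHom, MulEquiv.symm_apply_apply]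
  exact h2

theorem HasNatAct.of_quotAct {P : Type u} [Group P] (φ : Γ →* MulAut P) (Q : Subgroup P)
    [Q.Normal] (hQ : ∀ g a, a ∈ Q → φ g a ∈ Q) (h : HasNatAct (p := p) (quotAct φ Q hQ)) :
    HasNatAct (p := p) φ := by
  obtain ⟨Γ1, r, W, ψ, hr, hψ, hc⟩ := h
  let π : P →* P ⧸ Q := QuotientGroup.mk' Q
  have hπ : Function.Surjective π := QuotientGroup.mk'_surjective Q
  let πW : ↥(W.comap π) →* ↥W := π.subgroupComap W
  have hπW : Function.Surjective πW := π.subgroupComap_surjective_of_surjective W hπ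
  refine ⟨Γ1, r, W.comap π, ψ.comp πW, hr, hψ.comp hπW, ?_⟩
  intro g w
  obtain ⟨h1, h2⟩ := hc g (πW w)
  have hq : π (φ g (w : P)) = quotAct φ Q hQ g (π (w : P)) := (quotAct_mk φ Q hQ g (w : P)).symm
  have hmem : φ g (w : P) ∈ W.comap π := by
    change π (φ g (w : P)) ∈ W
    rw [hq]
    exact h1
  refine ⟨hmem, ?_⟩
  have he : πW ⟨φ g (w : P), hmem⟩ = ⟨quotAct φ Q hQ g (πW w), h1⟩ := by
    apply Subtype.ext
    exact hq
  rw [MonoidHom.comp_apply, he]
  exact h2

/-- from the linearized representation back to the action -/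
theorem HasNatAct.of_linRep {A : Type u} [CommGroup A] [Module (ZMod p) (Additive A)]
    (φ : Γ →* MulAut A) (h : HasNat (linRep (p := p) φ)) : HasNatAct (p := p) φ := by
  obtain ⟨Γ1, r, Wa, ψa, hr, hψ, hc⟩ := h
  let W : Subgroup A :=
    { carrier := {a | Additive.ofMul a ∈ Wa}
      mul_mem' := fun {a b} ha hb => Wa.add_mem ha hb
      one_mem' := Wa.zero_mem
      inv_mem' := fun {a} ha => Wa.neg_mem ha }
  let ψ : ↥W →* Multiplicative (Fin 2 → ZMod p) :=
    { toFun := fun w => Multiplicative.ofAdd (ψa ⟨Additive.ofMul (w : A), w.2⟩)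
      map_one' := by
        have : (⟨Additive.ofMul ((1 : ↥W) : A), (1 : ↥W).2⟩ : ↥Wa) = 0 := Subtype.ext rfl
        rw [this, map_zero]; rfl
      map_mul' := by
        intro a b
        have : (⟨Additive.ofMul ((a * b : ↥W) : A), (a * b).2⟩ : ↥Wa) =
            ⟨Additive.ofMul (a : A), a.2⟩ + ⟨Additive.ofMul (b : A), b.2⟩ := Subtype.ext rfl
        rw [this, map_add]; rfl }
  refine ⟨Γ1, r, W, ψ, hr, ?_, ?_⟩
  · intro v
    obtain ⟨⟨wa, hwa⟩, hw⟩ := hψ v.toAdd
    refine ⟨⟨wa.toMul, hwa⟩, ?_⟩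
    change Multiplicative.ofAdd (ψa ⟨wa, hwa⟩) = v
    rw [hw]; rfl
  · intro g w
    obtain ⟨h1, h2⟩ := hc g ⟨Additive.ofMul (w : A), w.2⟩
    exact ⟨h1, congrArg Multiplicative.ofAdd h2⟩

/-- **action form** of the natural-section theorem -/
theorem hasNatAct_of_action {A : Type u} [CommGroup A] [Finite Γ] [Finite A] (hp2 : p ≠ 2)
    (hA : ∀ a : A, a ^ p = 1)
    (φ : Γ →* MulAut A) (x : Γ) (hx : ∀ a : A, φ x (φ x a / a) = φ x a / a)
    (hN : ∀ N : Subgroup Γ, N.Normal → (∀ g ∈ N, ∃ k : ℕ, φ g ^ p ^ k = 1) → x ∉ N) :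
    HasNatAct (p := p) φ := by
  let _ : Module (ZMod p) (Additive A) := AddCommGroup.zmodModule (by
    intro a
    change Additive.ofMul (a.toMul ^ p) = 0
    rw [hA]; rfl)
  have : Finite (Additive A) := inferInstanceAs (Finite A)
  apply HasNatAct.of_linRep
  apply hasNat_of_quadratic_elt (linRep (p := p) φ) hp2 x
  · apply LinearMap.ext
    intro a
    rw [Module.End.mul_apply, LinearMap.sub_apply, LinearMap.sub_apply, Module.End.one_apply,
      linRep_apply, LinearMap.zero_apply, Module.End.one_apply, linRep_apply]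
    have h1 := hx a.toMul
    rw [sub_eq_zero]
    change Additive.ofMul (φ x (φ x a.toMul / a.toMul)) = Additive.ofMul (φ x a.toMul / a.toMul)
    rw [h1]
  · intro N hNn hNp
    apply hN N hNn
    intro g hg
    obtain ⟨k, hk⟩ := hNp g hg
    refine ⟨k, ?_⟩
    apply MulEquiv.ext
    intro a
    have h1 := linRep_pow_apply (p := p) φ g (p ^ k) (Additive.ofMul a)
    rw [hk] at h1
    exact (congrArg Additive.toMul h1).symm

/-- **`p`-group form** of the natural-section theorem: if the action on the finite `p`-group `P`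
has no natural `SL₂(𝔽_p)`-section, then any element acting quadratically lies in a normal
subgroup acting as a `p`-group. -/
theorem exists_normal_of_quadratic_pgroup' [Finite Γ] (hp2 : p ≠ 2) :
    ∀ (n : ℕ) (P : Type u) [Group P] [Finite P], Nat.card P = n → IsPGroup p P →
      ∀ (φ : Γ →* MulAut P) (x : Γ), (∀ a : P, φ x (φ x a / a) = φ x a / a) →
        ¬ HasNatAct (p := p) φ →
        ∃ N : Subgroup Γ, N.Normal ∧ x ∈ N ∧ ∀ g ∈ N, ∃ k : ℕ, φ g ^ p ^ k = 1 := by
  intro n
  induction n using Nat.strong_induction_on with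
  | _ n ih =>
  intro P _ _ hn hP φ x hx hns
  have red : ∀ (Q : Subgroup P) [Q.Normal], (∀ g a, a ∈ Q → φ g a ∈ Q) → Q ≠ ⊥ → Q ≠ ⊤ →
      ∃ N : Subgroup Γ, N.Normal ∧ x ∈ N ∧ ∀ g ∈ N, ∃ k : ℕ, φ g ^ p ^ k = 1 := by
    intro Q _ hQ hQb hQt
    apply step_sub_quot hP φ x Q hQ
    · apply ih (Nat.card ↥Q) (by rw [← hn]; exact card_sub_lt Q hQt) ↥Q rfl (hP.to_subgroup Q)
      · intro a
        apply Subtype.ext
        simp only [div_eq_mul_inv, Subgroup.coe_mul, Subgroup.coe_inv, subAct_apply]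
        have := hx a
        simp only [div_eq_mul_inv] at this
        exact this
      · exact fun h => hns (HasNatAct.of_subAct φ Q hQ h)
    · apply ih (Nat.card (P ⧸ Q)) (by rw [← hn]; exact card_quot_lt Q hQb) (P ⧸ Q) rfl
        (hP.to_quotient Q)
      · intro a
        induction a using QuotientGroup.induction_on with
        | H a =>
          rw [quotAct_mk, ← QuotientGroup.mk_div, quotAct_mk, hx a]
      · exact fun h => hns (HasNatAct.of_quotAct φ Q hQ h)
  by_cases hcomm : ∀ a b : P, a * b = b * a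
  · by_cases hexp : ∀ a : P, a ^ p = 1
    · by_contra hcon
      apply hns
      letI : CommGroup P := { (inferInstance : Group P) with mul_comm := hcomm }
      apply hasNatAct_of_action hp2 (A := P) hexp φ x hx
      intro N hNn hNp hxN
      exact hcon ⟨N, hNn, hxN, hNp⟩
    · push Not at hexp
      obtain ⟨a0, ha0⟩ := hexp
      letI : CommGroup P := { (inferInstance : Group P) with mul_comm := hcomm }
      let Q : Subgroup P := (powMonoidHom p : P →* P).ker
      haveI : Q.Normal := inferInstance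
      apply red Q
      · intro g a ha
        rw [MonoidHom.mem_ker, powMonoidHom_apply] at ha ⊢
        rw [← map_pow, ha, map_one]
      · have hP1 : Nontrivial P := by
          refine ⟨a0, 1, ?_⟩
          rintro rfl
          exact ha0 (one_pow _)
        have hdvd : p ∣ Nat.card P := by
          obtain ⟨m, hm⟩ := hP.exists_card_eq
          have hm0 : m ≠ 0 := by
            rintro rfl
            rw [pow_zero] at hm
            have := Finite.one_lt_card (α := P)
            omega
          rw [hm]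
          exact dvd_pow_self p hm0
        obtain ⟨b, hb⟩ := exists_prime_orderOf_dvd_card' p hdvd
        intro hbot
        have hbQ : b ∈ Q := by
          rw [MonoidHom.mem_ker, powMonoidHom_apply, ← hb, pow_orderOf_eq_one]
        rw [hbot, Subgroup.mem_bot] at hbQ
        rw [hbQ, orderOf_one] at hb
        exact (Fact.out : p.Prime).one_lt.ne hb
      · intro htop
        have : a0 ∈ Q := by rw [htop]; trivial
        rw [MonoidHom.mem_ker, powMonoidHom_apply] at this
        exact ha0 this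
  · push Not at hcomm
    obtain ⟨a0, b0, hab⟩ := hcomm
    have hP1 : Nontrivial P := by
      refine ⟨a0, 1, ?_⟩
      rintro rfl
      apply hab
      rw [one_mul, mul_one]
    apply red (Subgroup.center P)
    · intro g a ha
      rw [Subgroup.mem_center_iff] at ha ⊢
      intro b
      have h1 : b = φ g (φ g⁻¹ b) := by
        rw [← MulAut.mul_apply, ← map_mul, mul_inv_cancel, map_one, MulAut.one_apply]
      rw [h1, ← map_mul, ← map_mul, ha]
    · haveI := hP.center_nontrivial
      intro hbot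
      have := Subgroup.nontrivial_iff_ne_bot (Subgroup.center P) |>.mp inferInstance
      exact this hbot
    · intro htop
      apply hab
      have : b0 ∈ Subgroup.center P := by rw [htop]; trivial
      rw [Subgroup.mem_center_iff] at this
      exact this a0

end act

end Quad

end Cfsg.Agent.Lib.Lead
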