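import Mathlib
import Cfsg.Agent.Lib.Lead.Qd2
import Cfsg.Agent.Lib.Lead.Quad9
import Cfsg.Agent.Lib.Helper9.Sections

set_option autoImplicit false

universe u

namespace Cfsg.Agent.Lib.Lead

namespace QdLib

open Matrix Cfsg.Agent.Lib.Helper9

section core

variable {p : ℕ} [Fact p.Prime] {G : Type u} [Group G] [Finite G]

theorem mul_pow_p_eq_one (a : Multiplicative (Fin 2 → ZMod p)) : a ^ p = 1 := by
  change Multiplicative.ofAdd (p • a.toAdd) = 1
  have : p • a.toAdd = 0 := by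
    ext i
    simp
  rw [this]; rfl

theorem eq_one_of_sq_eq_one (hp2 : p ≠ 2) (a : Multiplicative (Fin 2 → ZMod p))
    (h : a ^ 2 = 1) : a = 1 := by
  have hcop : Nat.Coprime 2 p := by
    rw [Nat.coprime_comm, Nat.Prime.coprime_iff_not_dvd Fact.out]
    intro h2
    exact hp2 ((Nat.prime_dvd_prime_iff_eq Fact.out Nat.prime_two).mp h2)
  have h1 : orderOf a ∣ 2 := orderOf_dvd_of_pow_eq_one h
  have h2 : orderOf a ∣ p := orderOf_dvd_of_pow_eq_one (mul_pow_p_eq_one a)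
  have h3 : orderOf a ∣ 1 := by
    have := Nat.dvd_gcd h1 h2
    rwa [hcop] at this
  exact orderOf_eq_one_iff.mp (Nat.dvd_one.mp h3)

theorem eq_one_of_two_pow (hp2 : p ≠ 2) (a : Multiplicative (Fin 2 → ZMod p)) (k : ℕ)
    (h : a ^ 2 ^ k = 1) : a = 1 := by
  have hcop : Nat.Coprime (2 ^ k) p := by
    apply Nat.Coprime.pow_left
    rw [Nat.coprime_comm, Nat.Prime.coprime_iff_not_dvd Fact.out]
    intro h2
    exact hp2 ((Nat.prime_dvd_prime_iff_eq Fact.out Nat.prime_two).mp h2)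
  have h1 : orderOf a ∣ 2 ^ k := orderOf_dvd_of_pow_eq_one h
  have h2 : orderOf a ∣ p := orderOf_dvd_of_pow_eq_one (mul_pow_p_eq_one a)
  have h3 : orderOf a ∣ 1 := by
    have := Nat.dvd_gcd h1 h2
    rwa [hcop] at this
  exact orderOf_eq_one_iff.mp (Nat.dvd_one.mp h3)

/-- **Recognition of `Qd(p)`**: a subgroup `Γ1` acting on a subgroup `W` with a quotient of `W`
the natural module for a quotient `SL₂(p)` of `Γ1` yields a section `Qd(p)`. -/
theorem isSectionOf_qd_of_natural (hp2 : p ≠ 2) (W Γ1 : Subgroup G)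
    (hΓW : Γ1 ≤ Subgroup.normalizer (W : Set G))
    (ψ : ↥W →* Multiplicative (Fin 2 → ZMod p))
    (r : ↥Γ1 →* Matrix.SpecialLinearGroup (Fin 2) (ZMod p))
    (hψ : Function.Surjective ψ) (hr : Function.Surjective r)
    (hcompat : ∀ (g : ↥Γ1) (w : ↥W),
      ψ (Quad.conjAct W Γ1 hΓW g w) = Multiplicative.ofAdd ((r g).1 *ᵥ (ψ w).toAdd)) :
    IsSectionOf ↥(Cfsg.qd p) G := by
  classical
  obtain ⟨N, T, t, hNsurj, hTp, htT, hTN, hrt, hNT⟩ := exists_supplement r hr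
  -- elements of `W ∩ Γ1` act trivially
  have hker1 : ∀ (w : ↥W) (hw : (w : G) ∈ Γ1), r ⟨w, hw⟩ = 1 := by
    intro w hw
    apply Subtype.ext
    apply Matrix.mulVec_injective
    funext v
    obtain ⟨w', rfl⟩ := hψ (Multiplicative.ofAdd v)
    have h1 := hcompat ⟨w, hw⟩ w'
    have h2 : Quad.conjAct W Γ1 hΓW ⟨w, hw⟩ w' = w * w' * w⁻¹ := by
      apply Subtype.ext
      rfl
    rw [h2, map_mul, map_mul, mul_comm, ← mul_assoc, map_inv, inv_mul_cancel, one_mul] at h1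
    have h3 := congrArg Multiplicative.toAdd h1
    simp only [toAdd_ofAdd] at h3
    change (r ⟨↑w, hw⟩).1 *ᵥ (ψ w').toAdd = (1 : Matrix (Fin 2) (Fin 2) (ZMod p)) *ᵥ (ψ w').toAdd
    rw [Matrix.one_mulVec]
    exact h3.symm
  -- elements of `W ∩ N` lie in the kernel of `ψ`
  have hker2 : ∀ (w : ↥W) (hw : (w : G) ∈ Γ1), (⟨w, hw⟩ : ↥Γ1) ∈ N → ψ w = 1 := by
    intro w hw hwN
    set n : ↥Γ1 := ⟨w, hw⟩ with hn
    have hc : n * t * n⁻¹ * t⁻¹ ∈ T := T.mul_mem (hNT n hwN t htT) (T.inv_mem htT)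
    obtain ⟨k, hk⟩ := hTp ⟨_, hc⟩
    have hk' : (n * t * n⁻¹ * t⁻¹) ^ 2 ^ k = 1 := by
      have := congrArg Subtype.val hk
      simpa using this
    -- the commutator as an element of `W`
    have hcW : ((n * t * n⁻¹ * t⁻¹ : ↥Γ1) : G) = ((w * Quad.conjAct W Γ1 hΓW t w⁻¹ : ↥W) : G) := by
      simp only [Subgroup.coe_mul, Subgroup.coe_inv, hn, Quad.conjAct_apply]
      group
    have hpow : (w * Quad.conjAct W Γ1 hΓW t w⁻¹) ^ 2 ^ k = 1 := by
      apply Subtype.ext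
      rw [Subgroup.coe_pow, ← hcW, ← Subgroup.coe_pow, hk', Subgroup.coe_one, Subgroup.coe_one]
    have h1 : ψ (w * Quad.conjAct W Γ1 hΓW t w⁻¹) = 1 := by
      apply eq_one_of_two_pow hp2 _ k
      rw [← map_pow, hpow, map_one]
    rw [map_mul, hcompat, hrt, z0_mulVec, map_inv] at h1
    have h2 : ψ w ^ 2 = 1 := by
      rw [pow_two]
      have e : Multiplicative.ofAdd (-Multiplicative.toAdd (ψ w)⁻¹) = ψ w := by
        rw [toAdd_inv, neg_neg, ofAdd_toAdd]
      rw [e] at h1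
      exact h1
    exact eq_one_of_sq_eq_one hp2 _ h2
  -- the semidirect product
  set N' : Subgroup G := N.map Γ1.subtype with hN'
  have hN'Γ : N' ≤ Γ1 := by
    rintro _ ⟨n, _, rfl⟩
    exact n.2
  have hN'W : N' ≤ Subgroup.normalizer (W : Set G) := hN'Γ.trans hΓW
  let φN : ↥N' →* MulAut ↥W := Quad.conjAct W N' hN'W
  let rN : ↥N' →* Matrix.SpecialLinearGroup (Fin 2) (ZMod p) := r.comp (Subgroup.inclusion hN'Γ)
  have hφ : ∀ (n : ↥N') (w : ↥W), φN n w = Quad.conjAct W Γ1 hΓW (Subgroup.inclusion hN'Γ n) w := by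
    intro n w
    apply Subtype.ext
    rfl
  let f : ↥W ⋊[φN] ↥N' →* G := SemidirectProduct.lift W.subtype N'.subtype (by
    intro n
    ext w
    simp only [MonoidHom.comp_apply, MulEquiv.coe_toMonoidHom, Subgroup.subtype_apply,
      MulAut.conj_apply]
    rfl)
  let gS : ↥W ⋊[φN] ↥N' →* Matrix.SpecialLinearGroup (Fin 3) (ZMod p) :=
    SemidirectProduct.lift ((tau p).comp ψ) ((delta p).comp rN) (by
      intro n
      ext1 w
      simp only [MonoidHom.comp_apply, MulEquiv.coe_toMonoidHom, MulAut.conj_apply]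
      rw [hφ, hcompat, delta_mul_tau, mul_assoc, mul_inv_cancel, mul_one]
      rfl)
  have hgS : ∀ s, gS s ∈ Cfsg.qd p := by
    intro s
    change (tau p) (ψ s.1) * (delta p) (rN s.2) ∈ Cfsg.qd p
    exact Subgroup.mul_mem _ (tau_mem_qd p _) (delta_mem_qd p _)
  let gQ : ↥W ⋊[φN] ↥N' →* ↥(Cfsg.qd p) := gS.codRestrict (Cfsg.qd p) hgS
  have hgQ : Function.Surjective gQ := by
    rintro ⟨M, hM⟩
    obtain ⟨v, A, rfl⟩ := exists_eq_tau_mul_delta p hM
    obtain ⟨w, rfl⟩ := hψ v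
    obtain ⟨n, hn, rfl⟩ := hNsurj A
    refine ⟨⟨w, ⟨(n : G), ⟨n, hn, rfl⟩⟩⟩, ?_⟩
    apply Subtype.ext
    rfl
  have hker : f.ker ≤ gQ.ker := by
    intro s hs
    rw [MonoidHom.mem_ker] at hs ⊢
    have hs' : (s.1 : G) * (s.2 : G) = 1 := hs
    have hn : (s.2 : G) = ((s.1⁻¹ : ↥W) : G) := by
      rw [Subgroup.coe_inv]
      exact (eq_inv_of_mul_eq_one_right hs')
    have hmem : ((s.1⁻¹ : ↥W) : G) ∈ Γ1 := by rw [← hn]; exact hN'Γ s.2.2
    have hr1 : rN s.2 = 1 := by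
      have := hker1 s.1⁻¹ hmem
      rw [← this]
      change r _ = r _
      congr 1
      exact Subtype.ext hn
    have hψ1 : ψ s.1 = 1 := by
      have hNmem : (⟨((s.1⁻¹ : ↥W) : G), hmem⟩ : ↥Γ1) ∈ N := by
        obtain ⟨n, hn', hn''⟩ := s.2.2
        have : n = ⟨((s.1⁻¹ : ↥W) : G), hmem⟩ := by
          apply Subtype.ext
          rw [← hn]
          exact hn''
        rw [← this]; exact hn'
      have := hker2 s.1⁻¹ hmem hNmem
      rw [map_inv, inv_eq_one] at this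
      exact this
    apply Subtype.ext
    change (tau p) (ψ s.1) * (delta p) (rN s.2) = 1
    rw [hr1, hψ1, map_one, map_one, mul_one]
  refine ⟨f.range, (QuotientGroup.lift f.ker gQ hker).comp
    (QuotientGroup.quotientKerEquivRange f).symm.toMonoidHom, ?_⟩
  exact (QuotientGroup.lift_surjective_of_surjective _ _ hgQ hker).comp
    (QuotientGroup.quotientKerEquivRange f).symm.surjective

end core

end QdLib

end Cfsg.Agent.Lib.Lead
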