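import Mathlib
import Cfsg.Agent.Lib.Lead.Nat5
import Cfsg.Agent.Lib.Lead.Qd3
import Cfsg.Agent.Lib.Lead.Quad13

set_option autoImplicit false

universe u

namespace Cfsg.Agent.Lib.Lead

namespace Quad

open Matrix Cfsg.Agent.Lib.Helper9

open scoped commutatorElement

section concrete

variable {p : ℕ} [Fact p.Prime]
variable {G : Type u} [Group G]

/-- a natural section for the conjugation action yields a section `Qd(p)` of the group -/
theorem isSectionOf_qd_of_hasNatAct [Finite G] (hp : p ≠ 2) (P H : Subgroup G)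
    (hHP : H ≤ Subgroup.normalizer (P : Set G))
    (h : HasNatAct (p := p) (conjAct P H hHP)) : IsSectionOf ↥(Cfsg.qd p) G := by
  classical
  obtain ⟨Γ1, r, W, ψ, hr, hψ, hc⟩ := h
  set W' : Subgroup G := W.map P.subtype with hW'
  set Γ1' : Subgroup G := Γ1.map H.subtype with hΓ1'
  let eW : ↥W ≃* ↥W' := Subgroup.equivMapOfInjective W P.subtype P.subtype_injective
  let eΓ : ↥Γ1 ≃* ↥Γ1' := Subgroup.equivMapOfInjective Γ1 H.subtype H.subtype_injective
  have hΓW' : Γ1' ≤ Subgroup.normalizer (W' : Set G) := by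
    rintro _ ⟨g, hg, rfl⟩
    apply Subgroup.mem_normalizer_fintype
    rintro _ ⟨w, hw, rfl⟩
    obtain ⟨h1, -⟩ := hc ⟨g, hg⟩ ⟨w, hw⟩
    exact ⟨_, h1, rfl⟩
  refine QdLib.isSectionOf_qd_of_natural hp W' Γ1' hΓW' (ψ.comp eW.symm.toMonoidHom)
    (r.comp eΓ.symm.toMonoidHom) (hψ.comp eW.symm.surjective) (hr.comp eΓ.symm.surjective) ?_
  intro g w
  obtain ⟨g0, rfl⟩ := eΓ.surjective g
  obtain ⟨w0, rfl⟩ := eW.surjective w
  obtain ⟨h1, h2⟩ := hc g0 w0
  have he : conjAct W' Γ1' hΓW' (eΓ g0) (eW w0) = eW ⟨conjAct P H hHP g0 w0, h1⟩ := by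
    apply Subtype.ext
    rfl
  rw [he]
  simp only [MonoidHom.comp_apply, MulEquiv.coe_toMonoidHom, MulEquiv.symm_apply_apply]
  exact h2

/-- **Part III for subgroups**: `H` normalizes the `p`-subgroup `P`, `x ∈ H` acts quadratically
on `P`, and `x` lies in no `H`-invariant subgroup of `H` acting on `P` as a `p`-group.  Then `G`
has a section `Qd(p)`. -/
theorem isSectionOf_qd_of_quadratic_pgroup [Finite G] (hp : p ≠ 2) (P H : Subgroup G)
    (hP : IsPGroup p ↥P)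
    (hHP : H ≤ Subgroup.normalizer (P : Set G)) (x : G) (hxH : x ∈ H)
    (hquad : ∀ v ∈ P, x * (x * v * x⁻¹ * v⁻¹) * x⁻¹ = x * v * x⁻¹ * v⁻¹)
    (hN : ∀ N : Subgroup G, N ≤ H → (∀ g ∈ H, ∀ n ∈ N, g * n * g⁻¹ ∈ N) →
      (∀ n ∈ N, ∃ k : ℕ, ∀ v ∈ P, n ^ p ^ k * v = v * n ^ p ^ k) → x ∉ N) :
    IsSectionOf ↥(Cfsg.qd p) G := by
  classical
  by_contra hns
  have hns' : ¬ HasNatAct (p := p) (conjAct P H hHP) :=
    fun h => hns (isSectionOf_qd_of_hasNatAct hp P H hHP h)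
  obtain ⟨N, hNn, hxN, hNp⟩ := exists_normal_of_quadratic_pgroup' hp (Nat.card ↥P) ↥P rfl hP
    (conjAct P H hHP) ⟨x, hxH⟩ (by
      intro a
      apply Subtype.ext
      have h1 := hquad a a.2
      simp only [conjAct_apply, div_eq_mul_inv, Subgroup.coe_mul, Subgroup.coe_inv]
      exact h1) hns'
  refine hN (N.map H.subtype) ?_ ?_ ?_ ⟨⟨x, hxH⟩, hxN, rfl⟩
  · rintro _ ⟨n, _, rfl⟩
    exact n.2
  · rintro g hg _ ⟨n, hn, rfl⟩
    exact ⟨⟨g, hg⟩ * n * ⟨g, hg⟩⁻¹, hNn.conj_mem n hn ⟨g, hg⟩, rfl⟩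
  · rintro _ ⟨n, hn, rfl⟩
    obtain ⟨k, hk⟩ := hNp n hn
    refine ⟨k, ?_⟩
    intro v hv
    have h1 := conjAct_pow_apply P H hHP n (p ^ k) ⟨v, hv⟩
    rw [hk] at h1
    simp only [MulAut.one_apply, Subgroup.subtype_apply] at h1 ⊢
    calc (n : G) ^ p ^ k * v = (n : G) ^ p ^ k * v * ((n : G) ^ p ^ k)⁻¹ * (n : G) ^ p ^ k := by
          group
      _ = v * (n : G) ^ p ^ k := by rw [← h1]

/-- **p-stability from the absence of `Qd(p)`**: if `Qd(p)` is not involved in `G` (`p` odd),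
then every element of `N_G(P)` acting quadratically on the `p`-subgroup `P` maps into
`O_p(N_G(P)/C_G(P))`. -/
theorem mem_pCore_of_not_isSectionOf_qd [Finite G] (hp : p ≠ 2) (P : Subgroup G)
    (hP : IsPGroup p ↥P) (g : G) (hg : g ∈ Subgroup.normalizer (P : Set G))
    (hq : ⁅⁅P, Subgroup.zpowers g⁆, Subgroup.zpowers g⁆ = ⊥)
    (hns : ¬ IsSectionOf ↥(Cfsg.qd p) G) :
    (QuotientGroup.mk (s := (Subgroup.centralizer (P : Set G)).subgroupOf
        (Subgroup.normalizer (P : Set G))) (⟨g, hg⟩ : ↥(Subgroup.normalizer (P : Set G)))) ∈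
      Cfsg.pCore p (↥(Subgroup.normalizer (P : Set G)) ⧸
        (Subgroup.centralizer (P : Set G)).subgroupOf (Subgroup.normalizer (P : Set G))) := by
  classical
  by_contra hcon
  apply hns
  set H := Subgroup.normalizer (P : Set G) with hH
  set C := (Subgroup.centralizer (P : Set G)).subgroupOf H with hC
  refine isSectionOf_qd_of_quadratic_pgroup hp P H hP le_rfl g hg (quad_of_commutator P g hq) ?_
  intro N hNH hNn hNp hgN
  apply hcon
  set Nbar : Subgroup (↥H ⧸ C) := (N.subgroupOf H).map (QuotientGroup.mk' C) with hNbar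
  have hNnorm : (N.subgroupOf H).Normal := by
    constructor
    intro n hn h
    rw [Subgroup.mem_subgroupOf] at hn ⊢
    exact hNn h h.2 n hn
  have hNbarn : Nbar.Normal := Subgroup.Normal.map hNnorm _ (QuotientGroup.mk'_surjective C)
  have hNbarp : IsPGroup p ↥Nbar := by
    rintro ⟨_, n, hn, rfl⟩
    rw [SetLike.mem_coe, Subgroup.mem_subgroupOf] at hn
    obtain ⟨k, hk⟩ := hNp _ hn
    refine ⟨k, ?_⟩
    apply Subtype.ext
    rw [Subgroup.coe_pow, Subgroup.coe_one]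
    change (QuotientGroup.mk' C n) ^ p ^ k = 1
    rw [← map_pow, QuotientGroup.mk'_apply, QuotientGroup.eq_one_iff, hC, Subgroup.mem_subgroupOf,
      Subgroup.coe_pow]
    intro v hv
    exact (hk v hv).symm
  have hle : Nbar ≤ Cfsg.pCore p (↥H ⧸ C) := le_sSup ⟨hNbarn, hNbarp⟩
  apply hle
  exact ⟨⟨g, hg⟩, by rw [SetLike.mem_coe, Subgroup.mem_subgroupOf]; exact hgN, rfl⟩

end concrete

end Quad

end Cfsg.Agent.Lib.Lead
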