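import Mathlib
import Cfsg.Agent.Lib.Lead.ZJ16

set_option autoImplicit false

namespace Cfsg.Agent.Lib.Lead

namespace ZJ

open scoped commutatorElement Pointwise

variable {G : Type*} [Group G] [Finite G] {p : ℕ} [hp : Fact p.Prime]

/-- if `G = K N₂` with `K` a normal `p'`-subgroup, then `N₂` controls strong fusion in any
`p`-subgroup of `N₂` -/
theorem control_of_factorization {K N₂ : Subgroup G} [hKn : K.Normal]
    (hK : (Nat.card K).Coprime p) (hfac : K ⊔ N₂ = ⊤) (R : Subgroup G) (hR : IsPGroup p R)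
    (hRN : R ≤ N₂) (A : Set G) (x : G) (hA : A ⊆ R) (hAx : ∀ a ∈ A, x * a * x⁻¹ ∈ R) :
    ∃ n ∈ N₂, ∀ a ∈ A, n * a * n⁻¹ = x * a * x⁻¹ := by
  classical
  have hx : x ∈ K ⊔ N₂ := by rw [hfac]; trivial
  obtain ⟨c, hc, n, hn, rfl⟩ := Subgroup.mem_sup_of_normal_left.mp hx
  set X' : Subgroup G := Subgroup.closure ((fun a => n * a * n⁻¹) '' A) with hX'
  have hX'le : X' ≤ MulAut.conj n • R := by
    rw [hX', Subgroup.closure_le]
    rintro _ ⟨a, ha, rfl⟩
    exact Cfsg.Agent.Lib.Helper3.conj_mem_conj_smul R n a (hA ha)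
  have hX'p : IsPGroup p X' := (Cfsg.Agent.Lib.Helper3.isPGroup_conj_smul hR n).to_le hX'le
  have hX'N : X' ≤ N₂ := by
    rw [hX', Subgroup.closure_le]
    rintro _ ⟨a, ha, rfl⟩
    exact N₂.mul_mem (N₂.mul_mem hn (hRN (hA ha))) (N₂.inv_mem hn)
  have hcX' : ∀ y ∈ X', c * y * c⁻¹ ∈ N₂ := by
    intro y hy
    induction hy using Subgroup.closure_induction with
    | mem y hy =>
      obtain ⟨a, ha, rfl⟩ := hy
      have h1 := hAx a ha
      have e : c * n * a * (c * n)⁻¹ = c * (n * a * n⁻¹) * c⁻¹ := by group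
      rw [e] at h1
      exact hRN h1
    | one => simp
    | mul y₁ y₂ _ _ h₁ h₂ =>
      have e : c * (y₁ * y₂) * c⁻¹ = (c * y₁ * c⁻¹) * (c * y₂ * c⁻¹) := by group
      rw [e]; exact N₂.mul_mem h₁ h₂
    | inv y _ h =>
      have e : c * y⁻¹ * c⁻¹ = (c * y * c⁻¹)⁻¹ := by group
      rw [e]; exact N₂.inv_mem h
  -- the action on the coset
  let Ωt := {g : G // ∃ k ∈ K ⊓ N₂, g = k * c}
  have hinv : ∀ (y : X') (g : Ωt), ∃ k ∈ K ⊓ N₂, (y : G) * g.1 * (y : G)⁻¹ = k * c := by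
    rintro ⟨y, hy⟩ ⟨g, k, hk, rfl⟩
    refine ⟨(y * k * y⁻¹) * (y * (c * y⁻¹ * c⁻¹)), ⟨?_, ?_⟩, by group⟩
    · apply K.mul_mem (hKn.conj_mem k hk.1 y)
      have e : y * (c * y⁻¹ * c⁻¹) = (y * c * y⁻¹) * c⁻¹ := by group
      rw [e]
      exact K.mul_mem (hKn.conj_mem c hc y) (K.inv_mem hc)
    · apply N₂.mul_mem (N₂.mul_mem (N₂.mul_mem (hX'N hy) hk.2) (N₂.inv_mem (hX'N hy)))
      exact N₂.mul_mem (hX'N hy) (hcX' y⁻¹ (X'.inv_mem hy))
  letI : MulAction X' Ωt :=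
    { smul := fun y g => ⟨(y : G) * g.1 * (y : G)⁻¹, hinv y g⟩
      one_smul := by
        rintro ⟨g, hg⟩
        apply Subtype.ext
        show ((1 : X') : G) * g * ((1 : X') : G)⁻¹ = g
        simp
      mul_smul := by
        rintro y₁ y₂ ⟨g, hg⟩
        apply Subtype.ext
        show ((y₁ * y₂ : X') : G) * g * ((y₁ * y₂ : X') : G)⁻¹ =
          (y₁ : G) * ((y₂ : G) * g * (y₂ : G)⁻¹) * (y₁ : G)⁻¹
        rw [Subgroup.coe_mul]; group }
  have hcard : Nat.card Ωt = Nat.card (K ⊓ N₂ : Subgroup G) := by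
    apply Nat.card_congr
    refine ⟨fun g => ⟨g.1 * c⁻¹, ?_⟩, fun k => ⟨k.1 * c, k.1, k.2, rfl⟩, ?_, ?_⟩
    · obtain ⟨k, hk, hgk⟩ := g.2
      rw [hgk]
      have e : k * c * c⁻¹ = k := by group
      rw [e]; exact hk
    · intro g
      apply Subtype.ext
      show g.1 * c⁻¹ * c = g.1
      group
    · intro k
      apply Subtype.ext
      show k.1 * c * c⁻¹ = k.1
      group
  have hnd : ¬ p ∣ Nat.card Ωt := by
    rw [hcard]
    intro h
    have h1 : p ∣ Nat.card K := h.trans (Subgroup.card_dvd_of_le inf_le_left)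
    have h2 : p ∣ Nat.gcd (Nat.card K) p := Nat.dvd_gcd h1 dvd_rfl
    rw [hK] at h2
    exact hp.out.one_lt.ne' (Nat.dvd_one.mp h2)
  obtain ⟨⟨g₀, k₀, hk₀, rfl⟩, hfix⟩ := hX'p.nonempty_fixed_point_of_prime_not_dvd_card Ωt hnd
  have hcomm : ∀ y ∈ X', y * (k₀ * c) * y⁻¹ = k₀ * c := by
    intro y hy
    have := hfix ⟨y, hy⟩
    exact congrArg Subtype.val this
  refine ⟨k₀⁻¹ * n, N₂.mul_mem (N₂.inv_mem hk₀.2) hn, ?_⟩
  intro a ha
  have hy : n * a * n⁻¹ ∈ X' := Subgroup.subset_closure ⟨a, ha, rfl⟩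
  have h1 := hcomm _ hy
  have h2 : (k₀ * c) * (n * a * n⁻¹) * (k₀ * c)⁻¹ = n * a * n⁻¹ := by
    have e : (k₀ * c) * (n * a * n⁻¹) * (k₀ * c)⁻¹ =
        (k₀ * c) * ((n * a * n⁻¹) * (k₀ * c)⁻¹ * (n * a * n⁻¹)⁻¹) * (n * a * n⁻¹) := by group
    rw [e]
    have e2 : (n * a * n⁻¹) * (k₀ * c)⁻¹ * (n * a * n⁻¹)⁻¹ =
        ((n * a * n⁻¹) * (k₀ * c) * (n * a * n⁻¹)⁻¹)⁻¹ := by group
    rw [e2, h1]
    group
  have e3 : c * n * a * (c * n)⁻¹ = k₀⁻¹ * ((k₀ * c) * (n * a * n⁻¹) * (k₀ * c)⁻¹) * k₀ := by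
    group
  rw [e3, h2]
  group

omit [Finite G] hp in
/-- `p`-stability in the normalizer form passes to subgroups -/
theorem isNormalizerPStable_subgroup [Finite G] [Fact p.Prime]
    (hst : Cfsg.IsNormalizerPStable p G) (H : Subgroup G) :
    Cfsg.IsNormalizerPStable p ↥H := by
  intro Q hQ x hx hquad
  set Q' : Subgroup G := Q.map H.subtype with hQ'
  have hQ'p : IsPGroup p Q' := hQ.map _
  have hx' : (x : G) ∈ Subgroup.normalizer (Q' : Set G) := by
    apply Subgroup.mem_normalizer_fintype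
    rintro _ ⟨y, hy, rfl⟩
    exact ⟨x * y * x⁻¹, (Subgroup.mem_normalizer_iff.mp hx y).mp hy, rfl⟩
  have hquad' : ⁅⁅Q', Subgroup.zpowers (x : G)⁆, Subgroup.zpowers (x : G)⁆ = ⊥ := by
    have h1 : Subgroup.zpowers (x : G) = (Subgroup.zpowers x).map H.subtype := by
      rw [MonoidHom.map_zpowers]; rfl
    rw [h1, hQ', ← Subgroup.map_commutator, ← Subgroup.map_commutator, hquad, Subgroup.map_bot]
  have h0 := hst Q' hQ'p (x : G) hx' hquad'
  -- the comparison map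
  set NH := Subgroup.normalizer (Q : Set ↥H) with hNH
  set NG := Subgroup.normalizer (Q' : Set G) with hNG
  have hmapN : ∀ y : ↥NH, ((y : ↥H) : G) ∈ NG := by
    intro y
    apply Subgroup.mem_normalizer_fintype
    rintro _ ⟨z, hz, rfl⟩
    exact ⟨(y : ↥H) * z * (y : ↥H)⁻¹, (Subgroup.mem_normalizer_iff.mp y.2 z).mp hz, rfl⟩
  let φ : ↥NH →* ↥NG :=
    { toFun := fun y => ⟨((y : ↥H) : G), hmapN y⟩
      map_one' := rfl
      map_mul' := fun _ _ => rfl }
  have hker : (Subgroup.centralizer (Q : Set ↥H)).subgroupOf NH ≤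
      ((Subgroup.centralizer (Q' : Set G)).subgroupOf NG).comap φ := by
    intro y hy
    rw [Subgroup.mem_subgroupOf] at hy
    rw [Subgroup.mem_comap, Subgroup.mem_subgroupOf, Subgroup.mem_centralizer_iff]
    rintro _ ⟨z, hz, rfl⟩
    have := (Subgroup.mem_centralizer_iff.mp hy) z hz
    have h2 := congrArg (fun w : ↥H => (w : G)) this
    exact h2
  set ψ := QuotientGroup.map _ _ φ hker with hψ
  have hψinj : Function.Injective ψ := by
    rw [injective_iff_map_eq_one]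
    intro yb hyb
    obtain ⟨y, rfl⟩ := QuotientGroup.mk_surjective yb
    have h1 : φ y ∈ (Subgroup.centralizer (Q' : Set G)).subgroupOf NG :=
      (QuotientGroup.eq_one_iff _).mp hyb
    rw [Subgroup.mem_subgroupOf, Subgroup.mem_centralizer_iff] at h1
    apply (QuotientGroup.eq_one_iff _).mpr
    rw [Subgroup.mem_subgroupOf, Subgroup.mem_centralizer_iff]
    intro z hz
    have h2 := h1 (z : G) ⟨z, hz, rfl⟩
    exact Subtype.ext h2
  have hle : (Cfsg.pCore p _).comap ψ ≤ Cfsg.pCore p _ := by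
    apply Cfsg.Agent.Lib.Helper9.le_pCore
    · haveI := Cfsg.Agent.Lib.Helper9.pCore_normal' (G := ↥NG ⧸
        (Subgroup.centralizer (Q' : Set G)).subgroupOf NG) p
      infer_instance
    · exact (Cfsg.Agent.Lib.Helper9.pCore_isPGroup' p).comap_of_injective ψ hψinj
  apply hle
  rw [Subgroup.mem_comap]
  exact h0

end ZJ

end Cfsg.Agent.Lib.Lead
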