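import Mathlib
import Cfsg.Agent.Lib.Lead.ZJ17
import Cfsg.Agent.S1961

set_option autoImplicit false

namespace Cfsg.Agent.Lib.Lead

namespace ZJ

open scoped commutatorElement Pointwise

variable {G : Type*} [Group G]

/-- the part of `R` generated by conjugates of elements of `D` -/
def dpart (D R : Subgroup G) : Subgroup G :=
  Subgroup.closure {y | y ∈ R ∧ ∃ x ∈ D, ∃ g : G, y = g * x * g⁻¹}

theorem dpart_le (D R : Subgroup G) : dpart D R ≤ R := by
  unfold dpart
  rw [Subgroup.closure_le]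
  intro y hy
  exact hy.1

theorem dpart_map (D R : Subgroup G) (g : G) :
    dpart D (R.map (MulAut.conj g).toMonoidHom) = (dpart D R).map (MulAut.conj g).toMonoidHom := by
  unfold dpart
  rw [MonoidHom.map_closure]
  congr 1
  ext y
  constructor
  · rintro ⟨⟨r, hr, rfl⟩, x, hx, h, hxy⟩
    refine ⟨r, ⟨hr, x, hx, g⁻¹ * h, ?_⟩, rfl⟩
    have h1 : g * r * g⁻¹ = h * x * h⁻¹ := hxy
    have e : r = g⁻¹ * (g * r * g⁻¹) * g := by group
    rw [e, h1]; group
  · rintro ⟨r, ⟨hr, x, hx, h, rfl⟩, rfl⟩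
    refine ⟨⟨_, hr, rfl⟩, x, hx, g * h, ?_⟩
    show g * (h * x * h⁻¹) * g⁻¹ = _
    group

theorem dpart_eq_inf {D S R : Subgroup G} (hD : SClosed D S) (hR : R ≤ S) : dpart D R = D ⊓ R := by
  apply le_antisymm
  · unfold dpart
    rw [Subgroup.closure_le]
    rintro y ⟨hyR, x, hx, g, rfl⟩
    exact ⟨hD.2 x hx g (hR hyR), hyR⟩
  · intro y hy
    exact Subgroup.subset_closure ⟨hy.2, y, hy.1, 1, by simp⟩

open Classical in
/-- the conjugacy functor attached to a strongly closed subgroup -/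
noncomputable def WD (n : ℕ) (D : Subgroup G) (R : Subgroup G) : Subgroup G :=
  if dpart D R = ⊥ then wsub n R else wsub n (dpart D R)

theorem isConjugacyFunctor_WD [Finite G] {p : ℕ} [Fact p.Prime] (n : ℕ) (hn : p ∣ n)
    (D : Subgroup G) : Cfsg.IsConjugacyFunctor p (WD n D) := by
  intro P hP
  refine ⟨?_, ?_, ?_⟩
  · unfold WD
    split_ifs with h
    · exact wsub_le n P
    · exact le_trans (wsub_le n _) (dpart_le D P)
  · intro hP1
    unfold WD
    split_ifs with h
    · exact wsub_ne_bot n hn P hP hP1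
    · exact wsub_ne_bot n hn _ (hP.to_le (dpart_le D P)) h
  · intro g
    have hiff : dpart D (P.map (MulAut.conj g).toMonoidHom) = ⊥ ↔ dpart D P = ⊥ := by
      rw [dpart_map]
      exact Subgroup.map_eq_bot_iff_of_injective _ (MulAut.conj g).injective
    unfold WD
    by_cases h : dpart D P = ⊥
    · rw [if_pos h, if_pos (hiff.mpr h), map_wsub]
    · rw [if_neg h, if_neg (fun h' => h (hiff.mp h')), dpart_map, map_wsub]

theorem WD_eq_of_le [Finite G] {n : ℕ} {D S R : Subgroup G} (hD : SClosed D S) (hR : R ≤ S)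
    (hne : D ⊓ R ≠ ⊥) : WD n D R = wsub n (D ⊓ R) := by
  unfold WD
  rw [dpart_eq_inf hD hR, if_neg hne]

theorem WD_eq_of_inf_eq_bot [Finite G] {n : ℕ} {D S R : Subgroup G} (hD : SClosed D S) (hR : R ≤ S)
    (he : D ⊓ R = ⊥) : WD n D R = wsub n R := by
  unfold WD
  rw [dpart_eq_inf hD hR, if_pos he]

end ZJ

end Cfsg.Agent.Lib.Lead
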