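import Mathlib
import Cfsg.Agent.Lib.Lead.ZJ18

set_option autoImplicit false

namespace Cfsg.Agent.Lib.Lead

namespace ZJ

open scoped commutatorElement Pointwise

variable {G : Type*} [Group G] [Finite G] {p : ℕ} [hp : Fact p.Prime]

/-- control of strong fusion inside a `p`-constrained, `p`-stable subgroup `N` -/
theorem control_in_subgroup (hp2 : p ≠ 2) (n : ℕ) (N : Subgroup G)
    (hNc : Cfsg.IsPConstrained p ↥N) (hNs : Cfsg.IsNormalizerPStable p ↥N)
    (P₁ D₁ : Subgroup G) (hP₁N : P₁ ≤ N) (hP₁p : IsPGroup p P₁) (hP₁i : ¬ p ∣ P₁.relIndex N)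
    (hD₁ : D₁ ≤ P₁)
    (hcl : ∀ x ∈ D₁, ∀ g ∈ N, g * x * g⁻¹ ∈ P₁ → g * x * g⁻¹ ∈ D₁) :
    ∀ (A : Set G) (h : G), h ∈ N → A ⊆ P₁ → (fun a => h * a * h⁻¹) '' A ⊆ P₁ →
      ∃ x ∈ N ⊓ Subgroup.normalizer (wsub n D₁ : Set G), ∀ a ∈ A, x * a * x⁻¹ = h * a * h⁻¹ := by
  classical
  intro A h hh hA hAh
  have hP₁p' : IsPGroup p (P₁.subgroupOf N) := hP₁p.comap_subtype
  set P₁' : Sylow p ↥N := hP₁p'.toSylow hP₁i with hP₁'
  have hcoe : (P₁' : Subgroup ↥N) = P₁.subgroupOf N := IsPGroup.toSylow_coe _ _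
  set D₁' : Subgroup ↥N := D₁.subgroupOf N with hD₁'
  have hD₁N : D₁ ≤ N := le_trans hD₁ hP₁N
  have hsc : SClosed D₁' (P₁' : Subgroup ↥N) := by
    rw [hcoe]
    refine ⟨fun x' hx' => Subgroup.mem_subgroupOf.mpr (hD₁ (Subgroup.mem_subgroupOf.mp hx')), ?_⟩
    intro x' hx' g' hg'
    rw [Subgroup.mem_subgroupOf] at hx' hg' ⊢
    exact hcl _ hx' _ g'.2 hg'
  have hfac := zj_factorization_gen hp2 n hNc (stab22_of_isNormalizerPStable hNs) P₁' D₁' hsc
  have hRN : (P₁' : Subgroup ↥N) ≤ Subgroup.normalizer (wsub n D₁' : Set ↥N) :=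
    le_trans hsc.le_normalizer (normalizer_le_normalizer_wsub n D₁')
  have hKc : (Nat.card (Cfsg.pPrimeCore p ↥N)).Coprime p :=
    Cfsg.Agent.Lib.Helper6.pPrimeCore_coprime p
  obtain ⟨n', hn', hact⟩ := control_of_factorization hKc hfac (P₁' : Subgroup ↥N) P₁'.isPGroup'
    hRN {a' : ↥N | (a' : G) ∈ A} ⟨h, hh⟩
    (by
      intro a' ha'
      rw [SetLike.mem_coe, hcoe, Subgroup.mem_subgroupOf]
      exact hA ha')
    (by
      intro a' ha'
      rw [hcoe, Subgroup.mem_subgroupOf]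
      exact hAh ⟨(a' : G), ha', rfl⟩)
  have hmap : (wsub n D₁').map N.subtype = wsub n D₁ := by
    rw [wsub_map_of_injective n D₁' N.subtype N.subtype_injective, hD₁',
      Subgroup.map_subgroupOf_eq_of_le hD₁N]
  refine ⟨(n' : G), ⟨n'.2, ?_⟩, ?_⟩
  · apply Subgroup.mem_normalizer_fintype
    intro y hy
    rw [SetLike.mem_coe, ← hmap] at hy
    obtain ⟨y', hy', rfl⟩ := hy
    rw [SetLike.mem_coe, ← hmap]
    exact ⟨n' * y' * n'⁻¹, (Subgroup.mem_normalizer_iff.mp hn' y').mp hy', rfl⟩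
  · intro a ha
    have haN : a ∈ N := hP₁N (hA ha)
    have := hact ⟨a, haN⟩ ha
    exact congrArg (fun w : ↥N => (w : G)) this

/-- global control of strong fusion by `N_G(W(D))` -/
theorem controls_strong_fusion_gen (hp2 : p ≠ 2) (n : ℕ) (hn : p ∣ n) (P : Sylow p G)
    (D : Subgroup G) (hD : SClosed D (P : Subgroup G)) (hst : Cfsg.IsNormalizerPStable p G)
    (hc : ∀ U : Subgroup G, U ≤ (P : Subgroup G) → U ≠ ⊥ →
      Cfsg.IsPConstrained p ↥(Subgroup.normalizer (U : Set G)))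
    (A : Set G) (hA : A ⊆ (P : Subgroup G)) (g : G)
    (hAg : (fun a => g * a * g⁻¹) '' A ⊆ (P : Subgroup G)) :
    ∃ x ∈ Subgroup.normalizer (wsub n D : Set G), ∀ a ∈ A, g * a * g⁻¹ = x * a * x⁻¹ := by
  classical
  by_cases hD1 : D = ⊥
  · refine ⟨g, ?_, fun a _ => rfl⟩
    have : wsub n D = ⊥ := by
      rw [eq_bot_iff, ← hD1]; exact wsub_le n D
    rw [this]
    apply Subgroup.mem_normalizer_fintype
    intro y hy
    rw [SetLike.mem_coe, Subgroup.mem_bot] at hy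
    rw [hy]; simp
  set W := WD n D with hW
  have hWf : Cfsg.IsConjugacyFunctor p W := isConjugacyFunctor_WD n hn D
  have hPp : IsPGroup p (P : Subgroup G) := P.isPGroup'
  have hDnP : D ≤ (P : Subgroup G) := hD.1
  -- local control at well-placed subgroups
  have hloc : ∀ T : Subgroup G, T ≠ ⊥ → Cfsg.IsWellPlaced p W (P : Subgroup G) T →
      Cfsg.ControlsStrongFusionIn p W (Subgroup.normalizer ((T : Subgroup G) : Set G)) := by
    intro T hT1 hwp
    have hTP : T ≤ (P : Subgroup G) := hwp.1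
    set N := Subgroup.normalizer (T : Set G) with hN
    set P₁ : Subgroup G := (P : Subgroup G) ⊓ N with hP₁
    have hP₁i : ¬ p ∣ P₁.relIndex N := hwp.2 0
    have hP₁p : IsPGroup p P₁ := hPp.to_le inf_le_left
    have hTP₁ : T ≤ P₁ := le_inf hTP Subgroup.le_normalizer
    have hP₁1 : P₁ ≠ ⊥ := ne_bot_of_le_ne_bot hT1 hTP₁
    have hNc := hc T hTP hT1
    have hNs := isNormalizerPStable_subgroup hst N
    refine ⟨P₁, inf_le_right, hP₁p, hP₁i, ?_⟩
    by_cases hDP₁ : D ⊓ P₁ = ⊥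
    · rw [hW, WD_eq_of_inf_eq_bot hD inf_le_left hDP₁]
      exact control_in_subgroup hp2 n N hNc hNs P₁ P₁ inf_le_right hP₁p hP₁i le_rfl
        (fun _ _ _ _ h => h)
    · rw [hW, WD_eq_of_le hD inf_le_left hDP₁]
      apply control_in_subgroup hp2 n N hNc hNs P₁ (D ⊓ P₁) inf_le_right hP₁p hP₁i inf_le_right
      intro x hx g _ hg
      exact ⟨hD.2 x hx.1 g hg.1, hg⟩
  have hglob := Cfsg.Agent.S1961.result P W hWf hloc
  have hPi : ¬ p ∣ (P : Subgroup G).relIndex ⊤ := by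
    rw [Subgroup.relIndex_top_right]; exact P.not_dvd_index
  have hcsf := Cfsg.Agent.Lib.Helper4.csfWith_of_controls hWf hglob le_top hPp hPi
  obtain ⟨x, hx, hxeq⟩ := hcsf A g (Subgroup.mem_top g) hA hAg
  have hWP : W (P : Subgroup G) = wsub n D := by
    have hne : D ⊓ (P : Subgroup G) ≠ ⊥ := by
      rw [inf_eq_left.mpr hDnP]; exact hD1
    rw [hW, WD_eq_of_le hD le_rfl hne, inf_eq_left.mpr hDnP]
  rw [hWP] at hx
  exact ⟨x, hx.2, fun a ha => (hxeq a ha).symm⟩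

end ZJ

end Cfsg.Agent.Lib.Lead
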