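import Mathlib
import Cfsg.Prelude.Def_PLocal
import Cfsg.Prelude.Def_ConjugacyFunctors

set_option autoImplicit false

namespace Cfsg.Agent.Lib.Lead

namespace ZJFun

universe u

/-- the functor `Q ↦ Z(J(Q))`, `J` the abelian-version Thompson subgroup -/
def WZJ : ∀ (Q : Type u) [Group Q], Subgroup Q :=
  fun Q _ => Cfsg.thompsonSubgroupA Q ⊓ Subgroup.centralizer (Cfsg.thompsonSubgroupA Q : Set Q)

theorem inducedFunctor_WZJ {G : Type u} [Group G] (T : Subgroup G) :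
    Cfsg.inducedFunctor WZJ T = Cfsg.centerThompsonAOf T := by
  unfold Cfsg.inducedFunctor WZJ Cfsg.centerThompsonAOf Cfsg.thompsonSubgroupAOf
  ext x
  simp only [Subgroup.mem_map, Subgroup.mem_inf, Subgroup.mem_centralizer_iff]
  constructor
  · rintro ⟨t, ⟨htJ, htC⟩, rfl⟩
    refine ⟨⟨t, htJ, rfl⟩, ?_⟩
    rintro _ ⟨j, hj, rfl⟩
    have := htC j hj
    exact congrArg Subtype.val this
  · rintro ⟨⟨t, htJ, rfl⟩, hC⟩
    refine ⟨t, ⟨htJ, ?_⟩, rfl⟩
    intro j hj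
    apply Subtype.ext
    exact hC _ ⟨j, hj, rfl⟩

section Iso
variable {Q R : Type u} [Group Q] [Group R]

theorem isMulCommutative_map (φ : Q ≃* R) {A : Subgroup Q} (hA : IsMulCommutative A) :
    IsMulCommutative (A.map φ.toMonoidHom) := by
  refine ⟨⟨?_⟩⟩
  rintro ⟨_, ⟨a, ha, rfl⟩⟩ ⟨_, ⟨b, hb, rfl⟩⟩
  apply Subtype.ext
  have h := hA.is_comm.comm ⟨a, ha⟩ ⟨b, hb⟩
  have h' : a * b = b * a := congrArg Subtype.val h
  show φ.toMonoidHom a * φ.toMonoidHom b = φ.toMonoidHom b * φ.toMonoidHom a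
  rw [← map_mul, ← map_mul, h']

theorem map_symm_map (φ : Q ≃* R) (B : Subgroup R) :
    (B.map φ.symm.toMonoidHom).map φ.toMonoidHom = B := by
  ext x
  constructor
  · rintro ⟨_, ⟨b, hb, rfl⟩, rfl⟩
    simpa using hb
  · intro hx
    exact ⟨φ.symm x, ⟨x, hx, rfl⟩, by simp⟩

theorem map_mem_maxAbelianSubgroups (φ : Q ≃* R) {A : Subgroup Q}
    (hA : A ∈ Cfsg.maxAbelianSubgroups Q) : A.map φ.toMonoidHom ∈ Cfsg.maxAbelianSubgroups R := by
  refine ⟨isMulCommutative_map φ hA.1, ?_⟩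
  intro B hB
  have h1 := hA.2 (B.map φ.symm.toMonoidHom) (isMulCommutative_map φ.symm hB)
  rw [Subgroup.card_map_of_injective φ.symm.injective] at h1
  rw [Subgroup.card_map_of_injective φ.injective]
  exact h1

theorem map_thompsonSubgroupA (φ : Q ≃* R) :
    (Cfsg.thompsonSubgroupA Q).map φ.toMonoidHom = Cfsg.thompsonSubgroupA R := by
  apply le_antisymm
  · rw [Subgroup.map_le_iff_le_comap]
    apply sSup_le
    intro A hA
    rw [← Subgroup.map_le_iff_le_comap]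
    exact le_sSup (map_mem_maxAbelianSubgroups φ hA)
  · apply sSup_le
    intro B hB
    rw [← map_symm_map φ B]
    apply Subgroup.map_mono
    exact le_sSup (map_mem_maxAbelianSubgroups φ.symm hB)

theorem map_WZJ (φ : Q ≃* R) : (WZJ Q).map φ.toMonoidHom = WZJ R := by
  unfold WZJ
  rw [← map_thompsonSubgroupA φ]
  ext x
  simp only [Subgroup.mem_map, Subgroup.mem_inf, Subgroup.mem_centralizer_iff]
  constructor
  · rintro ⟨t, ⟨htJ, htC⟩, rfl⟩
    refine ⟨⟨t, htJ, rfl⟩, ?_⟩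
    rintro _ ⟨j, hj, rfl⟩
    rw [← map_mul, ← map_mul, htC j hj]
  · rintro ⟨⟨t, htJ, rfl⟩, hC⟩
    refine ⟨t, ⟨htJ, ?_⟩, rfl⟩
    intro j hj
    apply φ.injective
    have := hC _ ⟨j, hj, rfl⟩
    simpa using this

end Iso

section Nontriv
variable {Q : Type u} [Group Q] [Finite Q]

theorem exists_mem_maxAbelianSubgroups : ∃ A, A ∈ Cfsg.maxAbelianSubgroups Q := by
  classical
  haveI : Fintype (Subgroup Q) := Fintype.ofFinite _
  have hne : (Finset.univ.filter (fun A : Subgroup Q => IsMulCommutative A)).Nonempty := by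
    refine ⟨⊥, ?_⟩
    rw [Finset.mem_filter]
    refine ⟨Finset.mem_univ _, ⟨⟨?_⟩⟩⟩
    rintro ⟨a, ha⟩ ⟨b, hb⟩
    rw [Subgroup.mem_bot] at ha hb
    subst ha; subst hb; rfl
  obtain ⟨A, hA, hmax⟩ := Finset.exists_max_image _ (fun A : Subgroup Q => Nat.card A) hne
  rw [Finset.mem_filter] at hA
  refine ⟨A, hA.2, fun B hB => hmax B ?_⟩
  rw [Finset.mem_filter]
  exact ⟨Finset.mem_univ _, hB⟩

theorem thompsonSubgroupA_ne_bot [Nontrivial Q] : Cfsg.thompsonSubgroupA Q ≠ ⊥ := by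
  obtain ⟨A, hA⟩ := exists_mem_maxAbelianSubgroups (Q := Q)
  obtain ⟨x, hx⟩ := exists_ne (1 : Q)
  have hz : IsMulCommutative (Subgroup.zpowers x) := by
    refine ⟨⟨?_⟩⟩
    rintro ⟨a, ha⟩ ⟨b, hb⟩
    apply Subtype.ext
    obtain ⟨i, rfl⟩ := Subgroup.mem_zpowers_iff.mp ha
    obtain ⟨j, rfl⟩ := Subgroup.mem_zpowers_iff.mp hb
    show x ^ i * x ^ j = x ^ j * x ^ i
    rw [← zpow_add, ← zpow_add, add_comm]
  have h1 := hA.2 _ hz
  intro hbot
  have hAle : A ≤ Cfsg.thompsonSubgroupA Q := le_sSup hA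
  rw [hbot, le_bot_iff] at hAle
  rw [hAle, Subgroup.card_bot] at h1
  have h2 : Subgroup.zpowers x = ⊥ := (Subgroup.card_le_one_iff_eq_bot _).mp h1
  rw [Subgroup.zpowers_eq_bot] at h2
  exact hx h2

theorem WZJ_ne_bot {p : ℕ} [Fact p.Prime] (hQ : IsPGroup p Q) [Nontrivial Q] : WZJ Q ≠ ⊥ := by
  have hJ : Cfsg.thompsonSubgroupA Q ≠ ⊥ := thompsonSubgroupA_ne_bot
  haveI : Nontrivial ↥(Cfsg.thompsonSubgroupA Q) :=
    (Subgroup.nontrivial_iff_ne_bot _).mpr hJ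
  have hJp : IsPGroup p ↥(Cfsg.thompsonSubgroupA Q) := hQ.to_subgroup _
  haveI := hJp.center_nontrivial
  obtain ⟨z, hz⟩ := exists_ne (1 : Subgroup.center ↥(Cfsg.thompsonSubgroupA Q))
  intro hbot
  have hmem : ((z : ↥(Cfsg.thompsonSubgroupA Q)) : Q) ∈ WZJ Q := by
    unfold WZJ
    rw [Subgroup.mem_inf]
    refine ⟨(z : ↥(Cfsg.thompsonSubgroupA Q)).2, ?_⟩
    rw [Subgroup.mem_centralizer_iff]
    intro j hj
    have h := (Subgroup.mem_center_iff.mp z.2) ⟨j, hj⟩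
    exact congrArg Subtype.val h
  rw [hbot, Subgroup.mem_bot] at hmem
  apply hz
  apply Subtype.ext
  apply Subtype.ext
  exact hmem

end Nontriv

theorem isCharPFunctor_WZJ (p : ℕ) [Fact p.Prime] : Cfsg.IsCharPFunctor.{u} p WZJ := by
  refine ⟨?_, ?_⟩
  · intro Q _ _ hQ hnt
    exact WZJ_ne_bot hQ
  · intro Q R _ _ _ _ φ
    exact map_WZJ φ

end ZJFun

end Cfsg.Agent.Lib.Lead
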