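import Mathlib
import Cfsg.Agent.Lib.Lead.ZJ19
import Cfsg.Agent.Lib.Lead.ZJFun
import Cfsg.Agent.Lib.Lead.Nat6
import Cfsg.Agent.Lib.Lead.GT6
import Cfsg.Agent.S1969
import Cfsg.Agent.S0664

set_option autoImplicit false

/-! Control of strong fusion by `N(W(E))`, `E` strongly closed, in `Qd(p)`-free groups: basic steps. -/

namespace Cfsg.Agent.Lib.Lead

namespace SCF

open Cfsg.Agent.Lib.Helper4 Cfsg.Agent.Lib.Helper7

universe u

/-- control of strong fusion in `S` by the normalizer of `W` -/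
def Ctl {X : Type*} [Group X] (W S : Subgroup X) : Prop :=
  ∀ (A : Set X) (g : X), A ⊆ (S : Set X) → lc g A ⊆ (S : Set X) →
    ∃ x ∈ Subgroup.normalizer (W : Set X), ∀ a ∈ A, x * a * x⁻¹ = g * a * g⁻¹

/-- `Qd(p)`-free groups -/
def QF (p : ℕ) (X : Type*) [Group X] : Prop :=
  ¬ Cfsg.Agent.Lib.Helper9.IsSectionOf ↥(Cfsg.qd p) X

theorem QF.subgroup {p : ℕ} {X : Type*} [Group X] (h : QF p X) (H : Subgroup X) : QF p ↥H :=
  fun hs => h hs.of_subgroup

theorem QF.quotient {p : ℕ} {X : Type*} [Group X] (h : QF p X) (N : Subgroup X) [N.Normal] :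
    QF p (X ⧸ N) := by
  intro hs
  apply h
  apply hs.trans
  exact ⟨⊤, (QuotientGroup.mk' N).comp (⊤ : Subgroup X).subtype, fun y => by
    obtain ⟨x, rfl⟩ := QuotientGroup.mk'_surjective N y
    exact ⟨⟨x, Subgroup.mem_top x⟩, rfl⟩⟩

/-- the statement proved by induction -/
def Main (p n : ℕ) (X : Type u) [Group X] : Prop :=
  QF p X → ∀ (S : Sylow p X) (E : Subgroup X), ZJ.SClosed E (S : Subgroup X) →
    Ctl (ZJ.wsub n E) (S : Subgroup X)

section

variable {p : ℕ} [Fact p.Prime] {X : Type u} [Group X] [Finite X]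

theorem isNormalizerPStable_of_qf (hp : p ≠ 2) (hqf : QF p X) : Cfsg.IsNormalizerPStable p X :=
  fun P hP g hg hq => Quad.mem_pCore_of_not_isSectionOf_qd hp P hP g hg hq hqf

/-- `N(Z(J(S)))` controls strong fusion in a `Qd(p)`-free group -/
theorem ctl_zj_of_qf (hp : p ≠ 2) (hqf : QF p X) (S : Sylow p X) :
    Ctl (Cfsg.centerThompsonAOf (S : Subgroup X)) (S : Subgroup X) := by
  have h𝓦 : ∀ W' ∈ ({ZJFun.WZJ} : Set (∀ (Q : Type u) [Group Q], Subgroup Q)),
      Cfsg.IsCharPFunctor.{u} p W' := by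
    intro W' hW'
    rw [Set.mem_singleton_iff.mp hW']; exact ZJFun.isCharPFunctor_WZJ p
  have hloc' : ∀ (K R : Subgroup X) [hR : (R.subgroupOf K).Normal],
      Subgroup.centralizer ((Cfsg.pCore p (↥K ⧸ R.subgroupOf K) : Subgroup (↥K ⧸ R.subgroupOf K)) :
        Set (↥K ⧸ R.subgroupOf K)) ≤ Cfsg.pCore p (↥K ⧸ R.subgroupOf K) →
      Cfsg.FamilyControlsStrongFusionIn p (indFam {ZJFun.WZJ} (↥K ⧸ R.subgroupOf K)) ⊤ := by
    intro K R hR hc
    obtain ⟨T⟩ : Nonempty (Sylow p (↥K ⧸ R.subgroupOf K)) := inferInstance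
    apply fcsf_top_of_reach T
    intro A h hA hhA
    apply Reach.single hA ?_ hhA
    refine ⟨Cfsg.inducedFunctor ZJFun.WZJ, ⟨ZJFun.WZJ, rfl, rfl⟩, ⟨Subgroup.mem_top _, ?_⟩⟩
    have hn : (Cfsg.inducedFunctor ZJFun.WZJ (T : Subgroup (↥K ⧸ R.subgroupOf K))).Normal := by
      rw [ZJFun.inducedFunctor_WZJ]
      apply Cfsg.Agent.S0664.result hp ?_ hc T
      intro hinv
      apply hqf
      have h1 : Cfsg.Agent.Lib.Helper9.IsSectionOf ↥(Cfsg.qd p) (↥K ⧸ R.subgroupOf K) :=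
        Cfsg.Agent.Lib.Helper9.isSectionOf_of_involves (by
          obtain ⟨K2, R2, hR2, ⟨e⟩⟩ := hinv
          exact ⟨K2, R2, hR2, ⟨e⟩⟩)
      have h2 : Cfsg.Agent.Lib.Helper9.IsSectionOf (↥K ⧸ R.subgroupOf K) X :=
        ⟨K, QuotientGroup.mk' _, QuotientGroup.mk'_surjective _⟩
      exact h1.trans h2
    rw [Subgroup.normalizer_eq_top_iff.mpr hn]
    exact Subgroup.mem_top _
  have hmain := fcsf_of_sections (G := X) h𝓦 hloc' X (IsSectionOf.refl X)
  intro A g hA hgA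
  have hTi : ¬ p ∣ (S : Subgroup X).relIndex ⊤ := by
    rw [Subgroup.relIndex_top_right]; exact S.not_dvd_index
  obtain ⟨c, hc, hceq⟩ := reach_of_familyControls (indFam_isConjugacyFunctor h𝓦) hmain le_top
    S.isPGroup' hTi A g (Subgroup.mem_top _) hA hgA
  refine ⟨c, ?_, hceq⟩
  rw [← ZJFun.inducedFunctor_WZJ]
  apply Cfsg.Agent.S1969.fchain_mem hc
  rintro _ ⟨W', hW', rfl⟩
  rw [Set.mem_singleton_iff.mp hW']

/-- control inside a subgroup containing the Sylow subgroup -/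
theorem ctl_of_overgroup {n : ℕ} (hqf : QF p X) (S : Sylow p X) (E : Subgroup X)
    (hE : ZJ.SClosed E (S : Subgroup X)) (H : Subgroup X) (hSH : (S : Subgroup X) ≤ H)
    (hM : Main p n ↥H) (A : Set X) (g : X) (hg : g ∈ H) (hA : A ⊆ ((S : Subgroup X) : Set X))
    (hgA : lc g A ⊆ ((S : Subgroup X) : Set X)) :
    ∃ x ∈ Subgroup.normalizer (ZJ.wsub n E : Set X), ∀ a ∈ A, x * a * x⁻¹ = g * a * g⁻¹ := by
  classical
  have hEH : E ≤ H := hE.1.trans hSH
  have hsc : ZJ.SClosed (E.subgroupOf H) ((S.subtype hSH : Sylow p ↥H) : Subgroup ↥H) := by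
    rw [Sylow.coe_subtype]; exact GT.sClosed_subgroupOf hE H
  obtain ⟨x', hx', hact⟩ := hM (hqf.subgroup H) (S.subtype hSH) (E.subgroupOf H) hsc
    {a' : ↥H | (a' : X) ∈ A} ⟨g, hg⟩
    (by
      intro a' ha'
      rw [SetLike.mem_coe, Sylow.coe_subtype, Subgroup.mem_subgroupOf]
      exact hA ha')
    (by
      rintro _ ⟨a', ha', rfl⟩
      rw [SetLike.mem_coe, Sylow.coe_subtype, Subgroup.mem_subgroupOf]
      exact hgA ⟨(a' : X), ha', rfl⟩)
  have hmap : (ZJ.wsub n (E.subgroupOf H)).map H.subtype = ZJ.wsub n E := by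
    rw [ZJ.wsub_map_of_injective n (E.subgroupOf H) H.subtype H.subtype_injective,
      Subgroup.map_subgroupOf_eq_of_le hEH]
  refine ⟨(x' : X), ?_, ?_⟩
  · apply Subgroup.mem_normalizer_fintype
    intro y hy
    rw [SetLike.mem_coe, ← hmap] at hy
    obtain ⟨y', hy', rfl⟩ := hy
    rw [SetLike.mem_coe, ← hmap]
    exact ⟨x' * y' * x'⁻¹, (Subgroup.mem_normalizer_iff.mp hx' y').mp hy', rfl⟩
  · intro a ha
    have haH : a ∈ H := hSH (hA ha)
    have := hact ⟨a, haH⟩ ha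
    exact congrArg (fun w : ↥H => (w : X)) this

/-- the `p`-constrained case -/
theorem ctl_of_constrained (hp : p ≠ 2) (n : ℕ) (hqf : QF p X) (S : Sylow p X) (E : Subgroup X)
    (hE : ZJ.SClosed E (S : Subgroup X))
    (hA : (S : Subgroup X) ⊓ Subgroup.centralizer ((Cfsg.pCore p X : Subgroup X) : Set X) ≤
      Cfsg.pCore p X) :
    Ctl (ZJ.wsub n E) (S : Subgroup X) := by
  have hcon : Cfsg.IsPConstrained p X :=
    Cfsg.Agent.Lib.Helper2.PConstrained.isPConstrained_iff_quot.mpr (centralizer_pCore_quotient_le S hA)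
  have hfac := ZJ.zj_factorization_gen hp n hcon
    (ZJ.stab22_of_isNormalizerPStable (isNormalizerPStable_of_qf hp hqf)) S E hE
  have hSN : (S : Subgroup X) ≤ Subgroup.normalizer (ZJ.wsub n E : Set X) :=
    le_trans hE.le_normalizer (ZJ.normalizer_le_normalizer_wsub n E)
  have hKc : (Nat.card (Cfsg.pPrimeCore p X)).Coprime p :=
    Cfsg.Agent.Lib.Helper6.pPrimeCore_coprime p
  intro A g hAS hgA
  obtain ⟨x, hx, hact⟩ := ZJ.control_of_factorization hKc hfac (S : Subgroup X) S.isPGroup' hSN A g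
    hAS (fun a ha => hgA ⟨a, ha, rfl⟩)
  exact ⟨x, hx, hact⟩

end

end SCF

end Cfsg.Agent.Lib.Lead
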