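import Mathlib
import Cfsg.Agent.Lib.Lead.SCF1
import Cfsg.Agent.Lib.Lead.Qd5
import Cfsg.Agent.Lib.Lead.DStarThm
import Cfsg.Agent.Lib.Lead.ZJ8
import Cfsg.Agent.Lib.Helper4.SolvBalance
import Cfsg.Agent.S0044
import Cfsg.Agent.S0009

set_option autoImplicit false

/-! `p`-stability of groups of odd order. -/

namespace Cfsg.Agent.Lib.Lead

namespace OddStable

open Cfsg

universe u

variable {p : ℕ} [Fact p.Prime]

theorem z0_ne_one (hp : p ≠ 2) : QdLib.z0 p ≠ 1 := by
  intro h
  have h1 := congrArg (fun M : Matrix.SpecialLinearGroup (Fin 2) (ZMod p) => M.1 0 0) h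
  simp only [QdLib.z0] at h1
  have h2 : (-1 : ZMod p) = 1 := by simpa using h1
  have h3 : (2 : ZMod p) = 0 := by
    have : (1 : ZMod p) + 1 = 0 := by
      nth_rewrite 1 [← h2]; ring
    rw [← this]; ring
  have h4 : ((2 : ℕ) : ZMod p) = 0 := by exact_mod_cast h3
  rw [ZMod.natCast_eq_zero_iff] at h4
  have hp' : p.Prime := Fact.out
  have := (Nat.prime_dvd_prime_iff_eq hp' Nat.prime_two).mp h4
  exact hp this

theorem two_dvd_card_qd (hp : p ≠ 2) : 2 ∣ Nat.card ↥(Cfsg.qd p) := by
  set g := QdLib.deltaQ p (QdLib.z0 p) with hg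
  have h1 : g * g = 1 := by
    rw [hg, ← map_mul, QdLib.z0_mul_self, map_one]
  have h2 : g ≠ 1 := by
    intro h
    have := congrArg (QdLib.beta p) h
    rw [hg, QdLib.beta_deltaQ, map_one] at this
    exact z0_ne_one hp this
  have h3 : orderOf g = 2 := by
    apply orderOf_eq_prime
    · rw [pow_two]; exact h1
    · exact h2
  rw [← h3]
  exact orderOf_dvd_natCard g

theorem qf_of_odd {G : Type u} [Group G] [Finite G] (hodd : Odd (Nat.card G)) (hp : p ≠ 2) :
    SCF.QF p G := by
  rintro ⟨K, f, hf⟩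
  have h1 : Nat.card ↥(Cfsg.qd p) ∣ Nat.card K := Subgroup.card_dvd_of_surjective f hf
  have h2 : Nat.card K ∣ Nat.card G := Subgroup.card_subgroup_dvd_card K
  have h3 : 2 ∣ Nat.card G := (two_dvd_card_qd hp).trans (h1.trans h2)
  rw [← even_iff_two_dvd] at h3
  exact (Nat.not_even_iff_odd.mpr hodd) h3

theorem isNormalizerPStable_of_odd {G : Type u} [Group G] [Finite G] (hodd : Odd (Nat.card G))
    (hp : p ≠ 2) : Cfsg.IsNormalizerPStable p G :=
  SCF.isNormalizerPStable_of_qf hp (qf_of_odd hodd hp)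

/-- normalizer `p`-stability gives `p`-stability on normal `p`-subgroups -/
theorem isPStableOn_of_normalizerPStable {G : Type u} [Group G] [Finite G]
    (h : Cfsg.IsNormalizerPStable p G) (V : Subgroup G) [hV : V.Normal] (hVp : IsPGroup p V) :
    Cfsg.IsPStableOn p V := by
  intro a hq
  have haN : a ∈ Subgroup.normalizer (V : Set G) := by
    rw [Subgroup.normalizer_eq_top_iff.mpr hV]; trivial
  have h1 := h V hVp a haN hq
  set N := Subgroup.normalizer (V : Set G) with hN
  set C := Subgroup.centralizer (V : Set G) with hC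
  have hker : C.subgroupOf N ≤ C.comap N.subtype := le_rfl
  set φ := QuotientGroup.map (C.subgroupOf N) C N.subtype hker with hφ
  have hφs : Function.Surjective φ := by
    intro y
    obtain ⟨g, rfl⟩ := QuotientGroup.mk_surjective y
    have hgN : g ∈ N := by
      rw [hN, Subgroup.normalizer_eq_top_iff.mpr hV]; trivial
    exact ⟨QuotientGroup.mk ⟨g, hgN⟩, rfl⟩
  have h2 := ZJ.pCore_map_le_of_surjective (p := p) φ hφs
  exact h2 ⟨_, h1, rfl⟩

/-- Hall–Higman 1.2.3 for solvable groups -/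
theorem centralizer_pCore_le_of_solvable {G : Type u} [Group G] [Finite G] [Group.IsSolvable G]
    (hred : Cfsg.pPrimeCore p G = ⊥) :
    Subgroup.centralizer (Cfsg.pCore p G : Set G) ≤ Cfsg.pCore p G := by
  have hF : Cfsg.fittingSubgroup G = Cfsg.pCore p G := by
    rw [Cfsg.Agent.S0009.result]
    apply le_antisymm
    · apply iSup_le
      intro q
      by_cases hqp : (q : ℕ) = p
      · rw [hqp]
      · haveI : Fact (q : ℕ).Prime := ⟨q.2⟩
        have h1 : Cfsg.pCore (q : ℕ) G ≤ Cfsg.pPrimeCore p G := by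
          apply Cfsg.Agent.Lib.Helper6.le_pPrimeCore (Cfsg.Agent.Lib.Helper9.pCore_normal' _)
          obtain ⟨k, hk⟩ := IsPGroup.iff_card.mp (Cfsg.Agent.Lib.Helper9.pCore_isPGroup' (G := G) (q : ℕ))
          rw [hk]
          apply Nat.Coprime.pow_left
          exact (Nat.coprime_primes q.2 Fact.out).mpr hqp
        rw [hred] at h1
        exact h1.trans bot_le
    · exact le_iSup (fun q : Nat.Primes => Cfsg.pCore (q : ℕ) G) ⟨p, Fact.out⟩
  rw [← hF]
  exact Cfsg.Agent.S0044.result

/-- in a `p`-stable group of characteristic `p`, quadratic elements lie in `O_p` -/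
theorem mem_pCore_of_quadratic {G : Type u} [Group G] [Finite G]
    (hst : Cfsg.IsNormalizerPStable p G)
    (hc : Subgroup.centralizer (Cfsg.pCore p G : Set G) ≤ Cfsg.pCore p G) {a : G}
    (hq : ⁅⁅Cfsg.pCore p G, Subgroup.zpowers a⁆, Subgroup.zpowers a⁆ = ⊥) : a ∈ Cfsg.pCore p G := by
  haveI hPn := Cfsg.Agent.Lib.Helper9.pCore_normal' (G := G) p
  have hLL : DStarThm.LL p (Cfsg.pCore p G) ≤ Cfsg.pCore p G :=
    Cfsg.Agent.Lib.Helper9.le_pCore (DStarThm.LL_normal _) (DStarThm.isPGroup_LL_pCore hc)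
  apply hLL
  exact DStarThm.mem_LL_of_quadratic
    (isPStableOn_of_normalizerPStable hst _ (Cfsg.Agent.Lib.Helper9.pCore_isPGroup' p)) hq

end OddStable

end Cfsg.Agent.Lib.Lead
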