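import Mathlib
import Cfsg.Agent.Lib.Lead.OddStable
import Cfsg.Agent.Lib.Helper3.PComp1

set_option autoImplicit false

/-!
`O_p` is characteristic; in a solvable group with `O_{p'} = 1`, a normal subgroup `C` with
`O_p(G) ∩ C` central in `C` is a `p`-group.
-/

namespace Cfsg.Agent.Lib.Lead

namespace OddStable

universe u

variable {p : ℕ} [Fact p.Prime]

theorem pCore_map_mulEquiv_le' {A B : Type*} [Group A] [Group B] (p : ℕ) (e : A ≃* B) :
    (Cfsg.pCore p A).map (e : A →* B) ≤ Cfsg.pCore p B := by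
  unfold Cfsg.pCore
  rw [Subgroup.map_le_iff_le_comap, sSup_le_iff]
  rintro N ⟨hN, hc⟩
  rw [← Subgroup.map_le_iff_le_comap]
  apply le_sSup
  exact ⟨hN.map _ e.surjective, hc.map _⟩

instance pCore_characteristic' {A : Type*} [Group A] (p : ℕ) : (Cfsg.pCore p A).Characteristic := by
  rw [Subgroup.characteristic_iff_map_le]
  intro e
  exact pCore_map_mulEquiv_le' p e

theorem pCore_map_subtype_le_of_normal {G : Type u} [Group G] [Finite G] (C : Subgroup G) [C.Normal] :
    (Cfsg.pCore p ↥C).map C.subtype ≤ Cfsg.pCore p G := by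
  apply Cfsg.Agent.Lib.Helper9.le_pCore
  · exact ConjAct.normal_of_characteristic_of_normal
  · exact (Cfsg.Agent.Lib.Helper9.pCore_isPGroup' p).map _

/-- a normal subgroup `C` of a solvable group with `O_{p'}(G) = 1` and `O_p(G) ∩ C` central in `C`
is a `p`-group -/
theorem isPGroup_of_normal_of_central {G : Type u} [Group G] [Finite G] [Group.IsSolvable G]
    (hred : Cfsg.pPrimeCore p G = ⊥) (C : Subgroup G) [C.Normal]
    (hcen : C ≤ Subgroup.centralizer ((Cfsg.pCore p G ⊓ C : Subgroup G) : Set G)) :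
    IsPGroup p C := by
  have h1 : Cfsg.pPrimeCore p ↥C = ⊥ := by
    have h2 : (Cfsg.pPrimeCore p ↥C).map C.subtype ≤ Cfsg.pPrimeCore p G :=
      Cfsg.Agent.Lib.Helper3.pPrimeCore_map_subtype_le_of_isSubnormal
        (Subgroup.Normal.isSubnormal inferInstance)
    rw [hred, le_bot_iff] at h2
    exact (Subgroup.map_eq_bot_iff_of_injective _ C.subtype_injective).mp h2
  have h3 := centralizer_pCore_le_of_solvable (p := p) (G := ↥C) h1
  have h4 : (⊤ : Subgroup ↥C) ≤ Subgroup.centralizer (Cfsg.pCore p ↥C : Set ↥C) := by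
    intro c _
    rw [Subgroup.mem_centralizer_iff]
    intro x hx
    have hx1 : (x : G) ∈ Cfsg.pCore p G ⊓ C :=
      ⟨pCore_map_subtype_le_of_normal C ⟨x, hx, rfl⟩, x.2⟩
    have := (Subgroup.mem_centralizer_iff.mp (hcen c.2)) (x : G) hx1
    exact Subtype.ext this
  have h5 : Cfsg.pCore p ↥C = ⊤ := top_le_iff.mp (h4.trans h3)
  have h6 := Cfsg.Agent.Lib.Helper9.pCore_isPGroup' (G := ↥C) p
  rw [h5] at h6
  exact (h6.map C.subtype).to_le (by
    intro x hx
    exact ⟨⟨x, hx⟩, trivial, rfl⟩)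

end OddStable

end Cfsg.Agent.Lib.Lead
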