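import Mathlib
import Cfsg.Agent.Lib.Helper5.GLClass.Defs

set_option autoImplicit false

/-! Package PK-NUM of S2478 (leader helper5): the arithmetic bound `TN q m n + q^(n-m) ≤ q^n`. -/

namespace Cfsg.Agent.Lib.Helper5.GLClass

theorem TN_succ (q m n : ℕ) :
    TN q (m + 1) n = ∑ d ∈ Finset.range (n / (m + 1) + 1), cN q d * TN q m (n - (m + 1) * d) := by
  rw [TN]

theorem TN_zero_left (q n : ℕ) : TN q 0 n = if n = 0 then 1 else 0 := by
  rw [TN]

theorem TN_zero_right (q m : ℕ) : TN q m 0 = 1 := by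
  induction m with
  | zero => rw [TN_zero_left, if_pos rfl]
  | succ m ih =>
    rw [TN_succ, Nat.zero_div, zero_add, Finset.sum_range_one, Nat.mul_zero, Nat.sub_zero, ih, cN,
      if_pos rfl]

theorem cN_succ (q d : ℕ) : cN q (d + 1) = q ^ (d + 1) - q ^ d := by
  rw [cN, if_neg (Nat.succ_ne_zero d), Nat.add_sub_cancel]

theorem cN_zero (q : ℕ) : cN q 0 = 1 := by rw [cN, if_pos rfl]

theorem cN_succ_add (q d : ℕ) (hq : 1 ≤ q) : cN q (d + 1) + q ^ d = q ^ (d + 1) := by
  rw [cN_succ]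
  exact Nat.sub_add_cancel (Nat.pow_le_pow_right hq (Nat.le_succ d))

theorem TN_one (q n : ℕ) : TN q 1 n = cN q n := by
  rw [TN_succ, Nat.div_one, Finset.sum_eq_single n]
  · rw [Nat.one_mul, Nat.sub_self, TN_zero_left, if_pos rfl, mul_one]
  · intro d hd hdn
    have : d < n + 1 := Finset.mem_range.mp hd
    rw [TN_zero_left, if_neg (by omega), mul_zero]
  · intro h
    exact absurd (Finset.mem_range.mpr (Nat.lt_succ_self n)) h

/-- the abstract step of the telescoping -/
theorem arith_step (q a u w S T : ℤ) (hq : 1 ≤ q) (ha : 0 ≤ a) (hT : T + q * u ≤ w * q * u)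
    (hS : S + u * q * a ≤ q * q * u * a) :
    S + (q * a - a) * T + w * q * u * a ≤ w * q * q * u * a := by
  have hc : 0 ≤ q * a - a := by nlinarith
  have h1 : (q * a - a) * T ≤ (q * a - a) * (w * q * u - q * u) :=
    mul_le_mul_of_nonneg_left (by linarith) hc
  nlinarith [h1, hS]

/-- the telescoping sum -/
theorem tele (q m r : ℕ) (hq : 2 ≤ q) (hr : r ≤ m)
    (IH : ∀ n, 1 ≤ n → TN q m n + q ^ (n - m) ≤ q ^ n) :
    ∀ k d : ℕ, (∑ i ∈ Finset.range (k + 1), cN q (k + 1 + d - i) * TN q m (r + (m + 1) * i))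
      + q ^ (r + (m + 1) * k + d) ≤ q ^ (r + (m + 1) * k + d + 1) := by
  have hq1 : 1 ≤ q := by omega
  intro k
  induction k with
  | zero =>
    intro d
    simp only [Finset.sum_range_one, Nat.mul_zero, Nat.add_zero, Nat.sub_zero, Nat.zero_add]
    rw [Nat.add_comm 1 d]
    rcases Nat.eq_zero_or_pos r with h0 | hpos
    · subst h0
      rw [TN_zero_right, mul_one, Nat.zero_add]
      exact le_of_eq (cN_succ_add q d hq1)
    · have h1 := IH r hpos
      rw [Nat.sub_eq_zero_of_le hr, pow_zero] at h1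
      have h2 : TN q m r ≤ q ^ r := by omega
      calc cN q (d + 1) * TN q m r + q ^ (r + d)
          ≤ cN q (d + 1) * q ^ r + q ^ d * q ^ r := by
            rw [pow_add, mul_comm (q ^ r) (q ^ d)]
            exact Nat.add_le_add_right (Nat.mul_le_mul_left _ h2) _
        _ = q ^ (r + d + 1) := by
            rw [← add_mul, cN_succ_add q d hq1]; ring
  | succ k ih =>
    intro d
    rw [Finset.sum_range_succ]
    have hS := ih (d + 1)
    have e1 : ∑ i ∈ Finset.range (k + 1), cN q (k + 1 + 1 + d - i) * TN q m (r + (m + 1) * i)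
        = ∑ i ∈ Finset.range (k + 1), cN q (k + 1 + (d + 1) - i) * TN q m (r + (m + 1) * i) := by
      apply Finset.sum_congr rfl
      intro i _
      rw [show k + 1 + 1 + d = k + 1 + (d + 1) by ring]
    rw [e1, show k + 1 + 1 + d - (k + 1) = d + 1 by omega]
    set S := ∑ i ∈ Finset.range (k + 1), cN q (k + 1 + (d + 1) - i) * TN q m (r + (m + 1) * i)
    set R := r + (m + 1) * (k + 1) with hR
    have hR1 : 1 ≤ R := by rw [hR]; nlinarith
    have hT := IH R hR1
    have hRm : R - m = r + (m + 1) * k + 1 := by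
      apply Nat.sub_eq_of_eq_add; rw [hR]; ring
    rw [hRm] at hT
    -- atoms
    have pa : q ^ (r + (m + 1) * k + (d + 1)) = q ^ (r + (m + 1) * k) * q * q ^ d := by ring
    have pb : q ^ (r + (m + 1) * k + (d + 1) + 1) = q * q * q ^ (r + (m + 1) * k) * q ^ d := by ring
    have pc : q ^ (r + (m + 1) * k + 1) = q * q ^ (r + (m + 1) * k) := by ring
    have pd : q ^ R = q ^ m * q * q ^ (r + (m + 1) * k) := by rw [hR]; ring
    have pe : q ^ (R + d) = q ^ m * q * q ^ (r + (m + 1) * k) * q ^ d := by rw [hR]; ring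
    have pf : q ^ (R + d + 1) = q ^ m * q * q * q ^ (r + (m + 1) * k) * q ^ d := by rw [hR]; ring
    rw [pa, pb] at hS
    rw [pc, pd] at hT
    rw [pe, pf, cN_succ]
    have hle : q ^ d ≤ q ^ (d + 1) := Nat.pow_le_pow_right hq1 (Nat.le_succ d)
    have key := arith_step (q : ℤ) ((q ^ d : ℕ) : ℤ) ((q ^ (r + (m + 1) * k) : ℕ) : ℤ)
      ((q ^ m : ℕ) : ℤ) (S : ℤ) ((TN q m R : ℕ) : ℤ) (by exact_mod_cast hq1) (by positivity)
      (by exact_mod_cast hT) (by exact_mod_cast hS)
    have hcast : ((q ^ (d + 1) - q ^ d : ℕ) : ℤ) = (q : ℤ) * ((q ^ d : ℕ) : ℤ) - ((q ^ d : ℕ) : ℤ) := by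
      rw [Nat.cast_sub hle]; push_cast; ring
    have : ((S + (q ^ (d + 1) - q ^ d) * TN q m R + q ^ m * q * q ^ (r + (m + 1) * k) * q ^ d : ℕ) : ℤ)
        ≤ ((q ^ m * q * q * q ^ (r + (m + 1) * k) * q ^ d : ℕ) : ℤ) := by
      rw [Nat.cast_add, Nat.cast_add, Nat.cast_mul, hcast]
      push_cast
      push_cast at key
      linarith [key]
    exact_mod_cast this

theorem TN_le (q : ℕ) (hq : 2 ≤ q) (m n : ℕ) (hm : 1 ≤ m) (hn : 1 ≤ n) :
    TN q m n + q ^ (n - m) ≤ q ^ n := by
  have hq1 : 1 ≤ q := by omega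
  induction m, hm using Nat.le_induction generalizing n with
  | base =>
    rw [TN_one q n]
    obtain ⟨d, rfl⟩ : ∃ d, n = d + 1 := ⟨n - 1, by omega⟩
    rw [Nat.add_sub_cancel]
    exact le_of_eq (cN_succ_add q d hq1)
  | succ m hm IH =>
    have IH' : ∀ n, 1 ≤ n → TN q m n + q ^ (n - m) ≤ q ^ n := fun n hn => IH n hn
    rw [TN_succ]
    have hdm := Nat.div_add_mod n (m + 1)
    set J := n / (m + 1) with hJ
    set r := n % (m + 1) with hr
    have hrlt : r < m + 1 := Nat.mod_lt _ (Nat.succ_pos m)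
    rcases Nat.eq_zero_or_pos J with hJ0 | hJpos
    · rw [hJ0, zero_add, Finset.sum_range_one, cN_zero, one_mul, Nat.mul_zero, Nat.sub_zero]
      have hnr : n = r := by rw [hJ0] at hdm; omega
      have h1 := IH' n hn
      have h2 : 1 ≤ q ^ (n - m) := Nat.one_le_pow _ _ (by omega)
      rw [Nat.sub_eq_zero_of_le (by omega : n ≤ m + 1), pow_zero]
      omega
    · obtain ⟨K, hK⟩ : ∃ K, J = K + 1 := ⟨J - 1, by omega⟩
      rw [hK] at hdm ⊢
      have hn' : n = (m + 1) * (K + 1) + r := hdm.symm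
      rw [Finset.sum_range_succ', cN_zero, one_mul, Nat.mul_zero, Nat.sub_zero,
        ← Finset.sum_range_reflect]
      have e1 : ∑ j ∈ Finset.range (K + 1),
          cN q (K + 1 - 1 - j + 1) * TN q m (n - (m + 1) * (K + 1 - 1 - j + 1))
          = ∑ i ∈ Finset.range (K + 1), cN q (K + 1 - i) * TN q m (r + (m + 1) * i) := by
        apply Finset.sum_congr rfl
        intro j hj
        have hjK : j < K + 1 := Finset.mem_range.mp hj
        obtain ⟨t, ht⟩ : ∃ t, K + 1 = t + j := ⟨K + 1 - j, by omega⟩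
        have h1 : K + 1 - 1 - j + 1 = t := by omega
        have h2 : K + 1 - j = t := by omega
        rw [h1, h2]
        congr 2
        apply Nat.sub_eq_of_eq_add
        rw [hn', ht]; ring
      rw [e1]
      have ht := tele q m r hq (by omega) IH' K 0
      simp only [Nat.add_zero] at ht
      have h1 := IH' n hn
      have hnm : n - m = r + (m + 1) * K + 1 := by
        apply Nat.sub_eq_of_eq_add; rw [hn']; ring
      have hnm1 : n - (m + 1) = r + (m + 1) * K := by
        apply Nat.sub_eq_of_eq_add; rw [hn']; ring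
      rw [hnm] at h1
      rw [hnm1]
      omega

end Cfsg.Agent.Lib.Helper5.GLClass
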