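import Mathlib
import Cfsg.Prelude
import Cfsg.Agent.Lib.Helper1.SUT.Defs
import Cfsg.Agent.Lib.Helper2.UT13
import Cfsg.Agent.Lib.Helper4.SURW

set_option autoImplicit false

/-!
# S2412 package PK-N: the elementary Weyl elements `nW k β` and `sW k μ`
-/

namespace Cfsg.Agent.Lib.Helper1.SUT

open Module Cfsg.Agent.Lib.Helper2 Cfsg.Agent.Lib.Helper2.IsomDecomp Cfsg.Agent.Lib.Helper2.UT
  Cfsg.Agent.Lib.Helper5.PSLCoset Cfsg.Agent.Lib.Helper1.SUR

variable {F : Type*} [Field F] {σ : F ≃+* F} {V : Type*} [AddCommGroup V] [Module F V]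
  {H : V → V → F}

section PKN
variable (h : IsHerm σ H) {m : ℕ} {e f : ℕ → V} (hp : HPairs H m e f)

/-- the first Eichler factor of `nW` -/
theorem nE1_apply (k : ℕ) (β : F) (hpp : H (e k) (e k) = 0)
    (hz : H (-(β • f (k + 1))) (e k) = 0) (x : V) :
    eich h (e k) (-(β • f (k + 1))) 0 hpp hz x =
      x - (β * H x (e k)) • f (k + 1) + (σ β * H x (f (k + 1))) • e k := by
  rw [eich_apply, herm_neg_right h, h.smul_right]
  module

/-- the second Eichler factor of `nW` -/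
theorem nE2_apply (k : ℕ) (β : F) (hpp : H (e (k + 1)) (e (k + 1)) = 0)
    (hz : H (β⁻¹ • f k) (e (k + 1)) = 0) (x : V) :
    eich h (e (k + 1)) (β⁻¹ • f k) 0 hpp hz x =
      x + (β⁻¹ * H x (e (k + 1))) • f k - ((σ β)⁻¹ * H x (f k)) • e (k + 1) := by
  rw [eich_apply, h.smul_right, map_inv₀]
  module

theorem nW_apply (k : ℕ) (hk : k + 1 < m) (β : F) (x : V) :
    nW h hp k β x =
      eich h (e k) (-(β • f (k + 1))) 0 (hp.ee k k (by omega) (by omega))
        (by rw [h.neg_left, h.smul_left, hp.fe (k + 1) k hk (by omega), if_neg (by omega),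
          mul_zero, neg_zero])
      (eich h (e (k + 1)) (β⁻¹ • f k) 0 (hp.ee (k + 1) (k + 1) hk hk)
        (by rw [h.smul_left, hp.fe k (k + 1) (by omega) hk, if_neg (by omega), mul_zero])
      (eich h (e k) (-(β • f (k + 1))) 0 (hp.ee k k (by omega) (by omega))
        (by rw [h.neg_left, h.smul_left, hp.fe (k + 1) k hk (by omega), if_neg (by omega),
          mul_zero, neg_zero]) x)) := by
  unfold nW
  rw [dif_pos hk]
  rfl

theorem nW_mem_isom (k : ℕ) (β : F) : nW h hp k β ∈ isom H := by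
  unfold nW
  split_ifs with hk
  · refine (isom H).mul_mem ((isom H).mul_mem ?_ ?_) ?_
    · apply eich_mem_isom
      rw [h.neg_left, herm_neg_right h, h.smul_left, h.smul_right, hp.ff (k + 1) (k + 1) hk hk]
      simp
    · apply eich_mem_isom
      rw [h.smul_left, h.smul_right, hp.ff k k (by omega) (by omega)]
      simp
    · apply eich_mem_isom
      rw [h.neg_left, herm_neg_right h, h.smul_left, h.smul_right, hp.ff (k + 1) (k + 1) hk hk]
      simp
  · exact (isom H).one_mem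

theorem det_nW (k : ℕ) (β : F) : LinearEquiv.det (nW h hp k β) = 1 := by
  unfold nW
  split_ifs with hk
  · simp only [map_mul, det_eich, mul_one]
  · exact map_one _

theorem nW_e (k : ℕ) (hk : k + 1 < m) {β : F} (hβ : β ≠ 0) :
    nW h hp k β (e k) = (-(σ β)⁻¹) • e (k + 1) := by
  have hk0 : k < m := by omega
  have hσβ : σ β ≠ 0 := by simpa using hβ
  have ee00 := hp.ee k k hk0 hk0
  have ee01 := hp.ee k (k + 1) hk0 hk
  have ee10 := hp.ee (k + 1) k hk hk0
  have ee11 := hp.ee (k + 1) (k + 1) hk hk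
  have ef00 := hp.ef k k hk0 hk0
  have ef01 := hp.ef k (k + 1) hk0 hk
  have ef10 := hp.ef (k + 1) k hk hk0
  have ef11 := hp.ef (k + 1) (k + 1) hk hk
  simp only [if_true, Nat.succ_ne_self, (Nat.succ_ne_self k).symm, if_false] at ef00 ef01 ef10 ef11
  rw [nW_apply h hp k hk]
  have s1 : ∀ hpp hz, eich h (e k) (-(β • f (k + 1))) 0 hpp hz (e k) = e k := by
    intro hpp hz
    rw [nE1_apply, ee00, ef01]; module
  have s1' : ∀ hpp hz, eich h (e k) (-(β • f (k + 1))) 0 hpp hz (e (k + 1)) =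
      e (k + 1) + σ β • e k := by
    intro hpp hz
    rw [nE1_apply, ee10, ef11]; module
  have s2 : ∀ hpp hz, eich h (e (k + 1)) (β⁻¹ • f k) 0 hpp hz (e k) =
      e k - (σ β)⁻¹ • e (k + 1) := by
    intro hpp hz
    rw [nE2_apply, ee01, ef00]; module
  rw [s1, s2, map_sub, map_smul, s1, s1', smul_add, smul_smul, inv_mul_cancel₀ hσβ]
  module

theorem nW_e_succ (k : ℕ) (hk : k + 1 < m) {β : F} (hβ : β ≠ 0) :
    nW h hp k β (e (k + 1)) = σ β • e k := by
  have hk0 : k < m := by omega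
  have hσβ : σ β ≠ 0 := by simpa using hβ
  have ee00 := hp.ee k k hk0 hk0
  have ee01 := hp.ee k (k + 1) hk0 hk
  have ee10 := hp.ee (k + 1) k hk hk0
  have ee11 := hp.ee (k + 1) (k + 1) hk hk
  have ef00 := hp.ef k k hk0 hk0
  have ef01 := hp.ef k (k + 1) hk0 hk
  have ef10 := hp.ef (k + 1) k hk hk0
  have ef11 := hp.ef (k + 1) (k + 1) hk hk
  simp only [if_true, Nat.succ_ne_self, (Nat.succ_ne_self k).symm, if_false] at ef00 ef01 ef10 ef11
  rw [nW_apply h hp k hk]
  have s1 : ∀ hpp hz, eich h (e k) (-(β • f (k + 1))) 0 hpp hz (e k) = e k := by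
    intro hpp hz
    rw [nE1_apply, ee00, ef01]; module
  have s1' : ∀ hpp hz, eich h (e k) (-(β • f (k + 1))) 0 hpp hz (e (k + 1)) =
      e (k + 1) + σ β • e k := by
    intro hpp hz
    rw [nE1_apply, ee10, ef11]; module
  have s2 : ∀ hpp hz, eich h (e (k + 1)) (β⁻¹ • f k) 0 hpp hz (e k) =
      e k - (σ β)⁻¹ • e (k + 1) := by
    intro hpp hz
    rw [nE2_apply, ee01, ef00]; module
  have s2' : ∀ hpp hz, eich h (e (k + 1)) (β⁻¹ • f k) 0 hpp hz (e (k + 1)) = e (k + 1) := by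
    intro hpp hz
    rw [nE2_apply, ee11, ef10]; module
  rw [s1', map_add, map_smul, s2', s2, smul_sub, smul_smul, mul_inv_cancel₀ hσβ, one_smul,
    add_sub_cancel, map_smul, s1]

theorem nW_f (k : ℕ) (hk : k + 1 < m) {β : F} (hβ : β ≠ 0) :
    nW h hp k β (f k) = (-β) • f (k + 1) := by
  have hk0 : k < m := by omega
  have ff00 := hp.ff k k hk0 hk0
  have ff01 := hp.ff k (k + 1) hk0 hk
  have ff10 := hp.ff (k + 1) k hk hk0
  have ff11 := hp.ff (k + 1) (k + 1) hk hk
  have fe00 := hp.fe k k hk0 hk0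
  have fe01 := hp.fe k (k + 1) hk0 hk
  have fe10 := hp.fe (k + 1) k hk hk0
  have fe11 := hp.fe (k + 1) (k + 1) hk hk
  simp only [if_true, Nat.succ_ne_self, (Nat.succ_ne_self k).symm, if_false] at fe00 fe01 fe10 fe11
  rw [nW_apply h hp k hk]
  have s1 : ∀ hpp hz, eich h (e k) (-(β • f (k + 1))) 0 hpp hz (f k) = f k - β • f (k + 1) := by
    intro hpp hz
    rw [nE1_apply, fe00, ff01]; module
  have s1' : ∀ hpp hz, eich h (e k) (-(β • f (k + 1))) 0 hpp hz (f (k + 1)) = f (k + 1) := by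
    intro hpp hz
    rw [nE1_apply, fe10, ff11]; module
  have s2 : ∀ hpp hz, eich h (e (k + 1)) (β⁻¹ • f k) 0 hpp hz (f k) = f k := by
    intro hpp hz
    rw [nE2_apply, fe01, ff00]; module
  have s2' : ∀ hpp hz, eich h (e (k + 1)) (β⁻¹ • f k) 0 hpp hz (f (k + 1)) =
      f (k + 1) + β⁻¹ • f k := by
    intro hpp hz
    rw [nE2_apply, fe11, ff10]; module
  rw [s1, map_sub, map_smul, s2, s2', smul_add, smul_smul, mul_inv_cancel₀ hβ, one_smul]
  have : f k - (β • f (k + 1) + f k) = (-β) • f (k + 1) := by module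
  rw [this, map_smul, s1']

theorem nW_f_succ (k : ℕ) (hk : k + 1 < m) {β : F} (hβ : β ≠ 0) :
    nW h hp k β (f (k + 1)) = β⁻¹ • f k := by
  have hk0 : k < m := by omega
  have ff00 := hp.ff k k hk0 hk0
  have ff01 := hp.ff k (k + 1) hk0 hk
  have ff10 := hp.ff (k + 1) k hk hk0
  have ff11 := hp.ff (k + 1) (k + 1) hk hk
  have fe00 := hp.fe k k hk0 hk0
  have fe01 := hp.fe k (k + 1) hk0 hk
  have fe10 := hp.fe (k + 1) k hk hk0
  have fe11 := hp.fe (k + 1) (k + 1) hk hk
  simp only [if_true, Nat.succ_ne_self, (Nat.succ_ne_self k).symm, if_false] at fe00 fe01 fe10 fe11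
  rw [nW_apply h hp k hk]
  have s1 : ∀ hpp hz, eich h (e k) (-(β • f (k + 1))) 0 hpp hz (f k) = f k - β • f (k + 1) := by
    intro hpp hz
    rw [nE1_apply, fe00, ff01]; module
  have s1' : ∀ hpp hz, eich h (e k) (-(β • f (k + 1))) 0 hpp hz (f (k + 1)) = f (k + 1) := by
    intro hpp hz
    rw [nE1_apply, fe10, ff11]; module
  have s2' : ∀ hpp hz, eich h (e (k + 1)) (β⁻¹ • f k) 0 hpp hz (f (k + 1)) =
      f (k + 1) + β⁻¹ • f k := by
    intro hpp hz
    rw [nE2_apply, fe11, ff10]; module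
  rw [s1', s2', map_add, map_smul, s1', s1, smul_sub, smul_smul, inv_mul_cancel₀ hβ]
  module

/-- vectors orthogonal to `e_k, e_{k+1}, f_k, f_{k+1}` are fixed -/
theorem nW_fix (k : ℕ) (β : F) (x : V) (h1 : H x (e k) = 0) (h2 : H x (e (k + 1)) = 0)
    (h3 : H x (f k) = 0) (h4 : H x (f (k + 1)) = 0) : nW h hp k β x = x := by
  by_cases hk : k + 1 < m
  · rw [nW_apply h hp k hk]
    have s1 : ∀ hpp hz, eich h (e k) (-(β • f (k + 1))) 0 hpp hz x = x := by
      intro hpp hz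
      rw [nE1_apply, h1, h4]; module
    have s2 : ∀ hpp hz, eich h (e (k + 1)) (β⁻¹ • f k) 0 hpp hz x = x := by
      intro hpp hz
      rw [nE2_apply, h2, h3]; module
    rw [s1, s2, s1]
  · unfold nW
    rw [dif_neg hk]
    rfl

theorem sW_apply (k : ℕ) (hk : k < m) (μ : F) (x : V) :
    sW h hp k μ x = tv h (e k) μ (hp.ee k k hk hk) (tv h (f k) (-μ⁻¹) (hp.ff k k hk hk)
      (tv h (e k) μ (hp.ee k k hk hk) x)) := by
  unfold sW
  rw [dif_pos hk]
  rfl

theorem sW_mem_isom (k : ℕ) {μ : F} (hμ : σ μ = -μ) : sW h hp k μ ∈ isom H := by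
  unfold sW
  split_ifs with hk
  · refine (isom H).mul_mem ((isom H).mul_mem ?_ ?_) ?_
    · exact tv_mem_isom h _ _ _ hμ
    · apply tv_mem_isom
      rw [map_neg, map_inv₀, hμ, inv_neg]
    · exact tv_mem_isom h _ _ _ hμ
  · exact (isom H).one_mem

theorem det_sW (k : ℕ) (μ : F) : LinearEquiv.det (sW h hp k μ) = 1 := by
  unfold sW
  split_ifs with hk
  · simp only [map_mul, det_tv, mul_one]
  · exact map_one _

theorem sW_e (k : ℕ) (hk : k < m) {μ : F} (hμ0 : μ ≠ 0) :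
    sW h hp k μ (e k) = (-μ⁻¹) • f k := by
  have ee := hp.ee k k hk hk
  have ef := hp.ef k k hk hk
  have fe := hp.fe k k hk hk
  simp only [if_true] at ef fe
  rw [sW_apply h hp k hk]
  rw [tv_apply h (e k) μ _ (e k), ee, mul_zero, zero_smul, add_zero,
    tv_apply h (f k) (-μ⁻¹) _ (e k), ef, mul_one, map_add, map_smul,
    tv_apply h (e k) μ _ (e k), ee, mul_zero, zero_smul, add_zero,
    tv_apply h (e k) μ _ (f k), fe, mul_one, smul_add, smul_smul, neg_mul,
    inv_mul_cancel₀ hμ0]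
  module

theorem sW_f (k : ℕ) (hk : k < m) {μ : F} (hμ0 : μ ≠ 0) :
    sW h hp k μ (f k) = μ • e k := by
  have ee := hp.ee k k hk hk
  have ff := hp.ff k k hk hk
  have ef := hp.ef k k hk hk
  have fe := hp.fe k k hk hk
  simp only [if_true] at ef fe
  rw [sW_apply h hp k hk]
  rw [tv_apply h (e k) μ _ (f k), fe, mul_one, map_add, map_smul,
    tv_apply h (f k) (-μ⁻¹) _ (f k), ff, mul_zero, zero_smul, add_zero,
    tv_apply h (f k) (-μ⁻¹) _ (e k), ef, mul_one, map_add, map_smul, map_add, map_smul,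
    tv_apply h (e k) μ _ (f k), fe, mul_one,
    tv_apply h (e k) μ _ (e k), ee, mul_zero, zero_smul, add_zero]
  simp only [smul_add, smul_smul, neg_mul, mul_neg, mul_inv_cancel₀ hμ0, inv_mul_cancel₀ hμ0]
  module

theorem sW_fix (k : ℕ) (μ : F) (x : V) (h1 : H x (e k) = 0) (h2 : H x (f k) = 0) :
    sW h hp k μ x = x := by
  by_cases hk : k < m
  · rw [sW_apply h hp k hk]
    have tfix : ∀ (v : V) (c : F) (hv : H v v = 0), H x v = 0 → tv h v c hv x = x := by
      intro v c hv hxv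
      rw [tv_apply, hxv, mul_zero, zero_smul, add_zero]
    rw [tfix _ _ _ h1, tfix _ _ _ h2, tfix _ _ _ h1]
  · unfold sW
    rw [dif_neg hk]
    rfl
end PKN

end Cfsg.Agent.Lib.Helper1.SUT
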