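import Mathlib
import Cfsg.Agent.Lib.Helper2.UT3

set_option autoImplicit false

/-! # S2282, package PK-FIELD: finite field facts for an involutory automorphism -/

namespace Cfsg.Agent.Lib.Helper1.SUR

open Module Cfsg.Agent.Lib.Helper2 Cfsg.Agent.Lib.Helper2.UT

variable {F : Type*} [Field F] {σ : F ≃+* F}

theorem sigma_sigma_of_order (hσ : orderOf σ = 2) (x : F) : σ (σ x) = x := by
  have h : σ ^ 2 = 1 := by rw [← hσ]; exact pow_orderOf_eq_one σ
  have := congrArg (fun τ : F ≃+* F => τ x) h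
  simpa [pow_two, RingAut.mul_apply] using this

theorem sigma_ne_one_of_order (hσ : orderOf σ = 2) : ¬ ∀ x : F, σ x = x := by
  intro h
  have : σ = 1 := by
    ext x
    exact h x
  rw [this, orderOf_one] at hσ
  omega

/-- there is an element with nonzero trace -/
theorem exists_trace_ne_zero (hσ : orderOf σ = 2) : ∃ x : F, x + σ x ≠ 0 := by
  by_contra hcon0
  have hcon : ∀ x : F, x + σ x = 0 := fun x => by
    by_contra h
    exact hcon0 ⟨x, h⟩
  have h1 := hcon 1
  rw [map_one] at h1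
  -- so `1 + 1 = 0`, hence `-x = x`
  have hneg : ∀ x : F, -x = x := by
    intro x
    have : x + x = 0 := by
      have := congrArg (fun t => x * t) h1
      simpa [mul_add] using this
    exact neg_eq_of_add_eq_zero_left this
  apply sigma_ne_one_of_order hσ
  intro x
  have := hcon x
  have h2 : σ x = -x := by
    rw [add_comm] at this
    exact eq_neg_of_add_eq_zero_left this
  rw [h2, hneg]

theorem exists_trace_eq (hσ : orderOf σ = 2) (b : F) (hb : σ b = b) : ∃ c : F, c + σ c = b := by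
  obtain ⟨x0, hx0⟩ := exists_trace_ne_zero hσ
  have hss := sigma_sigma_of_order hσ
  have ht : σ (x0 + σ x0) = x0 + σ x0 := by
    rw [map_add, hss, add_comm]
  refine ⟨b / (x0 + σ x0) * x0, ?_⟩
  rw [map_mul, map_div₀, hb, ht]
  field_simp

section PKF
variable [Finite F]

theorem exists_gen (hσ : orderOf σ = 2) :
    ∃ θ : F, θ ≠ 0 ∧ (∀ x : F, x ≠ 0 → ∃ k : ℕ, x = θ ^ k) ∧ θ + σ θ ≠ 0 := by
  classical
  obtain ⟨g, hg⟩ := IsCyclic.exists_generator (α := Fˣ)
  have hgen : ∀ x : F, x ≠ 0 → ∃ k : ℕ, x = (g : F) ^ k := by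
    intro x hx
    have h1 := hg (Units.mk0 x hx)
    rw [← mem_powers_iff_mem_zpowers, Submonoid.mem_powers_iff] at h1
    obtain ⟨k, hk⟩ := h1
    refine ⟨k, ?_⟩
    have := congrArg (fun u : Fˣ => (u : F)) hk
    simpa using this.symm
  refine ⟨(g : F), g.ne_zero, hgen, ?_⟩
  intro h0
  have hσθ : σ (g : F) = -(g : F) := by
    rw [add_comm] at h0
    exact eq_neg_of_add_eq_zero_left h0
  have hpow : ∀ k : ℕ, σ ((g : F) ^ k) = (-1) ^ k * (g : F) ^ k := by
    intro k
    rw [map_pow, hσθ, neg_pow]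
  by_cases h2 : (2 : F) = 0
  · -- characteristic two: `σ` is the identity
    apply sigma_ne_one_of_order hσ
    have hneg1 : (-1 : F) = 1 := by
      have : (1 : F) + 1 = 0 := by rw [one_add_one_eq_two]; exact h2
      exact neg_eq_of_add_eq_zero_left this
    intro x
    by_cases hx : x = 0
    · rw [hx, map_zero]
    · obtain ⟨k, rfl⟩ := hgen x hx
      rw [hpow, hneg1, one_pow, one_mul]
  · by_cases hx : (1 : F) + (g : F) = 0
    · -- `θ = -1`: every nonzero element is `± 1`
      apply sigma_ne_one_of_order hσ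
      have hθ : (g : F) = -1 := by
        rw [add_comm] at hx
        exact eq_neg_of_add_eq_zero_left hx
      intro x
      by_cases hx0 : x = 0
      · rw [hx0, map_zero]
      · obtain ⟨k, rfl⟩ := hgen x hx0
        rw [hθ, map_pow, map_neg, map_one]
    · obtain ⟨k, hk⟩ := hgen _ hx
      have h3 : σ (1 + (g : F)) = 1 - (g : F) := by
        rw [map_add, map_one, hσθ, sub_eq_add_neg]
      rw [hk, hpow, ← hk] at h3
      rcases neg_one_pow_eq_or F k with hs | hs
      · rw [hs, one_mul] at h3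
        have : (2 : F) * (g : F) = 0 := by linear_combination h3
        rcases mul_eq_zero.1 this with h | h
        · exact h2 h
        · exact g.ne_zero h
      · rw [hs] at h3
        apply h2
        linear_combination -h3

theorem exists_norm_eq_not_fixed (hσ : orderOf σ = 2) (ν : F) (hν0 : ν ≠ 0) (hν : σ ν = ν) :
    ∃ α : F, α * σ α = ν ∧ σ α ≠ α := by
  have hss := sigma_sigma_of_order hσ
  obtain ⟨a, ha0, ha⟩ := exists_norm_eq hσ ν hν0 hν
  by_cases hfix : σ a = a
  · obtain ⟨θ, hθ0, hgen, hθ⟩ := exists_gen hσ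
    have hσθ0 : σ θ ≠ 0 := (map_ne_zero σ).2 hθ0
    have hne : σ θ ≠ θ := by
      intro h
      apply sigma_ne_one_of_order hσ
      intro x
      by_cases hx : x = 0
      · rw [hx, map_zero]
      · obtain ⟨k, rfl⟩ := hgen x hx
        rw [map_pow, h]
    refine ⟨a * (θ / σ θ), ?_, ?_⟩
    · rw [map_mul, map_div₀, hss, hfix, ← ha, hfix]
      field_simp
    · rw [map_mul, map_div₀, hss, hfix]
      intro h
      have h1 : σ θ / θ = θ / σ θ := mul_left_cancel₀ ha0 h
      have h2 : σ θ * σ θ = θ * θ := by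
        field_simp at h1
        linear_combination h1
      have h3 : (σ θ - θ) * (σ θ + θ) = 0 := by linear_combination h2
      rcases mul_eq_zero.1 h3 with h | h
      · exact hne (sub_eq_zero.1 h)
      · apply hθ
        rw [add_comm]
        exact h
  · exact ⟨a, ha, hfix⟩

end PKF

theorem exists_sub_eq_of_skew (hσ : orderOf σ = 2) (a : F) (ha : σ a = -a) :
    ∃ l : F, l - σ l = a := by
  obtain ⟨η, hη⟩ := exists_trace_eq hσ (1 : F) (map_one σ)
  refine ⟨a * η, ?_⟩
  rw [map_mul, ha]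
  linear_combination a * hη

theorem addSubgroup_eq_top (Γ : AddSubgroup F) (θ γ₀ : F)
    (hθ : ∀ x : F, x ≠ 0 → ∃ k : ℕ, x = θ ^ k)
    (hγ₀ : γ₀ ∈ Γ) (hγ₀0 : γ₀ ≠ 0) (hmul : ∀ γ ∈ Γ, γ * θ ∈ Γ) : Γ = ⊤ := by
  have hpow : ∀ k : ℕ, γ₀ * θ ^ k ∈ Γ := by
    intro k
    induction k with
    | zero => simpa using hγ₀
    | succ k ih =>
      have := hmul _ ih
      rwa [mul_assoc, ← pow_succ] at this
  rw [eq_top_iff]
  intro x _
  by_cases hx : x = 0
  · rw [hx]; exact Γ.zero_mem
  · obtain ⟨k, hk⟩ := hθ (x / γ₀) (div_ne_zero hx hγ₀0)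
    have : x = γ₀ * θ ^ k := by
      rw [← hk]
      field_simp
    rw [this]
    exact hpow k

end Cfsg.Agent.Lib.Helper1.SUR
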