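import Mathlib
import Cfsg.Prelude
import Cfsg.Agent.Lib.Helper2.SU3G1
import Cfsg.Agent.Lib.Helper4.SU3Fld

/-! Transfer between the antidiagonal-form `GJ σ` and the Prelude's `Cfsg.SU 3 F q`
(packages PKG-C and PKG-E2 for S2283). -/

namespace Cfsg.Agent.Lib.SU3Tr

open Matrix Cfsg.Agent.Lib.Helper2.SU3G

section field

variable {F : Type*} [Field F] [Fintype F] {q : ℕ}

theorem two_le_q (hF : Fintype.card F = q ^ 2) : 2 ≤ q := by
  by_contra h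
  have h1 : 1 < Fintype.card F := Fintype.one_lt_card
  interval_cases q <;> omega

theorem sigma_sigma (hF : Fintype.card F = q ^ 2) {σ : F ≃+* F} (hσq : ∀ a : F, σ a = a ^ q)
    (a : F) : σ (σ a) = a := by
  rw [hσq, hσq, ← pow_mul, ← pow_two, ← hF, FiniteField.pow_card]

/-- surjectivity of the norm onto the elements with `c^(q-1) = 1` -/
theorem exists_pow_eq (hF : Fintype.card F = q ^ 2) (c : F) (hc0 : c ≠ 0)
    (hc : c ^ (q - 1) = 1) : ∃ a : F, a ^ (q + 1) = c := by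
  classical
  have hq2 := two_le_q hF
  obtain ⟨g, hg⟩ := IsCyclic.exists_generator (α := Fˣ)
  have hord : orderOf g = q ^ 2 - 1 := by
    rw [orderOf_eq_card_of_forall_mem_zpowers hg, Nat.card_eq_fintype_card, Fintype.card_units, hF]
  have hfac : q ^ 2 - 1 = (q - 1) * (q + 1) := by
    obtain ⟨m, rfl⟩ : ∃ m, q = m + 2 := ⟨q - 2, by omega⟩
    have : (m + 2) ^ 2 = (m + 1) * (m + 3) + 1 := by ring
    rw [this]
    simp
  have hcu := hg (Units.mk0 c hc0)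
  rw [← mem_powers_iff_mem_zpowers, Submonoid.mem_powers_iff] at hcu
  obtain ⟨k, hk⟩ := hcu
  have h1 : g ^ (k * (q - 1)) = 1 := by
    rw [pow_mul, hk]
    apply Units.ext
    simpa using hc
  have h2 : (q - 1) * (q + 1) ∣ k * (q - 1) := by
    rw [← hfac, ← hord]
    exact orderOf_dvd_of_pow_eq_one h1
  have h3 : q + 1 ∣ k := by
    rw [mul_comm k] at h2
    exact Nat.dvd_of_mul_dvd_mul_left (by omega) h2
  obtain ⟨j, rfl⟩ := h3
  refine ⟨((g ^ j : Fˣ) : F), ?_⟩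
  have := congrArg (fun u : Fˣ => (u : F)) hk
  simp only [Units.val_mk0] at this
  rw [← this]
  push_cast
  rw [← pow_mul, mul_comm]

/-- two distinct elements of norm `-1` -/
theorem exists_two (hF : Fintype.card F = q ^ 2) {σ : F ≃+* F} (hσq : ∀ a : F, σ a = a ^ q) :
    ∃ ζ ρ : F, ζ ^ (q + 1) = -1 ∧ ρ ^ (q + 1) = 1 ∧ ρ ≠ 1 ∧ ζ ≠ 0 := by
  have hq2 := two_le_q hF
  have hneg : (-1 : F) ^ (q - 1) = 1 := by
    have h1 : (-1 : F) ^ q = -1 := by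
      rw [← hσq, map_neg, map_one]
    have h2 : (-1 : F) ^ (q - 1) * (-1) = -1 := by
      rw [← pow_succ]
      have : q - 1 + 1 = q := by omega
      rw [this, h1]
    have h3 : (-1 : F) ^ (q - 1) * (-1) = 1 * (-1) := by rw [h2, one_mul]
    exact mul_right_cancel₀ (neg_ne_zero.2 one_ne_zero) h3
  obtain ⟨ζ, hζ⟩ := exists_pow_eq hF (-1 : F) (neg_ne_zero.2 one_ne_zero) hneg
  obtain ⟨ρ, hρ⟩ := Cfsg.Agent.Lib.SU3Fld.exists_rho hF
  refine ⟨ζ, ρ, hζ, ?_, ?_, ?_⟩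
  · rw [← hρ]; exact pow_orderOf_eq_one ρ
  · rintro rfl
    rw [orderOf_one] at hρ
    omega
  · rintro rfl
    rw [zero_pow (by omega)] at hζ
    exact (neg_ne_zero.2 one_ne_zero) hζ.symm

end field

section transfer

variable {F : Type*} [Field F]

/-- the change of basis matrix -/
def PM (ζ ζ' α : F) : Matrix (Fin 3) (Fin 3) F := !![1, 0, α; ζ, 0, α * ζ'; 0, 1, 0]

theorem PM_herm (σ : F ≃+* F) (hσ : ∀ a : F, σ (σ a) = a) (ζ ζ' α : F)
    (h1 : ζ * σ ζ = -1) (h2 : ζ' * σ ζ' = -1) (h3 : α * (1 + ζ' * σ ζ) = 1) :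
    (PM ζ ζ' α)ᵀ * (PM ζ ζ' α).map σ = JM := by
  have h3' : σ α * (1 + σ ζ' * ζ) = 1 := by
    have := congrArg σ h3
    simpa [hσ] using this
  ext i j
  fin_cases i <;> fin_cases j <;>
    simp [PM, JM, Matrix.mul_apply, Fin.sum_univ_three]
  · linear_combination h1
  · linear_combination h3'
  · linear_combination h3
  · linear_combination (α * σ α) * h2

theorem herm_eq_dot {q : ℕ} {σ : F ≃+* F} (hσq : ∀ a : F, σ a = a ^ q) (u v : Fin 3 → F) :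
    Cfsg.hermForm 3 F q u v = u ⬝ᵥ (fun i => σ (v i)) := by
  simp [Cfsg.hermForm, dotProduct, hσq]

theorem form_transfer {q : ℕ} {σ : F ≃+* F} (hσq : ∀ a : F, σ a = a ^ q)
    (P : Matrix (Fin 3) (Fin 3) F) (hP : Pᵀ * P.map σ = JM) (x y : Fin 3 → F) :
    Cfsg.hermForm 3 F q (P *ᵥ x) (P *ᵥ y) = hJ σ x y := by
  rw [herm_eq_dot hσq, map_mulVec, hJ_eq, ← hP, ← Matrix.mulVec_mulVec,
    Matrix.dotProduct_mulVec x, Matrix.vecMul_transpose]

theorem det_JM : (JM : Matrix (Fin 3) (Fin 3) F).det = -1 := by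
  simp [JM, Matrix.det_fin_three]

theorem isUnit_det_of_herm (σ : F ≃+* F) (P : Matrix (Fin 3) (Fin 3) F)
    (hP : Pᵀ * P.map σ = JM) : IsUnit P.det := by
  have h := congrArg Matrix.det hP
  rw [Matrix.det_mul, Matrix.det_transpose, det_JM] at h
  rw [isUnit_iff_ne_zero]
  intro h0
  rw [h0, zero_mul] at h
  exact (neg_ne_zero.2 one_ne_zero) h.symm

theorem mem_SU_of {q : ℕ} {σ : F ≃+* F} (hσq : ∀ a : F, σ a = a ^ q)
    (P Pi : Matrix (Fin 3) (Fin 3) F) (h1 : P * Pi = 1)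
    (hP : Pᵀ * P.map σ = JM) (g : ↥(GJ σ)) (B : SpecialLinearGroup (Fin 3) F)
    (hB : (B : Matrix (Fin 3) (Fin 3) F) = P * mat g * Pi) : B ∈ Cfsg.SU 3 F q := by
  intro u v
  show Cfsg.hermForm 3 F q ((B : Matrix (Fin 3) (Fin 3) F) *ᵥ u)
    ((B : Matrix (Fin 3) (Fin 3) F) *ᵥ v) = Cfsg.hermForm 3 F q u v
  have hg : ∀ x y : Fin 3 → F, hJ σ (mat g *ᵥ x) (mat g *ᵥ y) = hJ σ x y := g.2
  rw [hB, ← Matrix.mulVec_mulVec, ← Matrix.mulVec_mulVec, ← Matrix.mulVec_mulVec,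
    ← Matrix.mulVec_mulVec, form_transfer hσq P hP, hg, ← form_transfer hσq P hP,
    Matrix.mulVec_mulVec, Matrix.mulVec_mulVec, h1, Matrix.one_mulVec, Matrix.one_mulVec]

theorem mem_GJ_of {q : ℕ} {σ : F ≃+* F} (hσq : ∀ a : F, σ a = a ^ q)
    (P Pi : Matrix (Fin 3) (Fin 3) F) (h1 : P * Pi = 1)
    (hP : Pᵀ * P.map σ = JM) (B : ↥(Cfsg.SU 3 F q)) (A : SpecialLinearGroup (Fin 3) F)
    (hA : (A : Matrix (Fin 3) (Fin 3) F)
      = Pi * ((B : SpecialLinearGroup (Fin 3) F) : Matrix (Fin 3) (Fin 3) F) * P) :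
    A ∈ GJ σ := by
  intro x y
  show hJ σ ((A : Matrix (Fin 3) (Fin 3) F) *ᵥ x) ((A : Matrix (Fin 3) (Fin 3) F) *ᵥ y) = hJ σ x y
  have hB : ∀ u v : Fin 3 → F, Cfsg.hermForm 3 F q
      (((B : SpecialLinearGroup (Fin 3) F) : Matrix (Fin 3) (Fin 3) F) *ᵥ u)
      (((B : SpecialLinearGroup (Fin 3) F) : Matrix (Fin 3) (Fin 3) F) *ᵥ v)
      = Cfsg.hermForm 3 F q u v := B.2
  rw [← form_transfer hσq P hP, hA, Matrix.mulVec_mulVec, Matrix.mulVec_mulVec,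
    ← Matrix.mul_assoc, ← Matrix.mul_assoc, h1, Matrix.one_mul, ← Matrix.mulVec_mulVec,
    ← Matrix.mulVec_mulVec, hB, form_transfer hσq P hP]

end transfer

theorem transfer {F : Type*} [Field F] [Fintype F] {q : ℕ} (hF : Fintype.card F = q ^ 2)
    {σ : F ≃+* F} (hσq : ∀ a : F, σ a = a ^ q) :
    ∃ (φ : ↥(GJ σ) ≃* ↥(Cfsg.SU 3 F q)) (P Pi : Matrix (Fin 3) (Fin 3) F),
      P * Pi = 1 ∧ Pi * P = 1 ∧ P.transpose * P.map σ = JM ∧
      ∀ g : ↥(GJ σ), (((φ g : ↥(Cfsg.SU 3 F q)) : Matrix.SpecialLinearGroup (Fin 3) F) :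
        Matrix (Fin 3) (Fin 3) F) = P * mat g * Pi := by
  have hσ := sigma_sigma hF hσq
  obtain ⟨ζ, ρ, hζ, hρ, hρ1, hζ0⟩ := exists_two hF hσq
  have hζσ : ζ * σ ζ = -1 := by rw [hσq, ← pow_succ', hζ]
  have hρσ : ρ * σ ρ = 1 := by rw [hσq, ← pow_succ', hρ]
  have h2 : (ζ * ρ) * σ (ζ * ρ) = -1 := by
    rw [map_mul]
    linear_combination (ρ * σ ρ) * hζσ - hρσ
  have hne : 1 + (ζ * ρ) * σ ζ ≠ 0 := by
    intro h
    apply hρ1
    linear_combination (-1) * h + ρ * hζσ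
  set α := (1 + (ζ * ρ) * σ ζ)⁻¹ with hα
  have h3 : α * (1 + (ζ * ρ) * σ ζ) = 1 := inv_mul_cancel₀ hne
  set P := PM ζ (ζ * ρ) α with hPdef
  have hP : Pᵀ * P.map σ = JM := PM_herm σ hσ ζ (ζ * ρ) α hζσ h2 h3
  have hdet : IsUnit P.det := isUnit_det_of_herm σ P hP
  have h1 : P * P⁻¹ = 1 := Matrix.mul_nonsing_inv P hdet
  have h1' : P⁻¹ * P = 1 := Matrix.nonsing_inv_mul P hdet
  have hdetmul : ∀ A : Matrix (Fin 3) (Fin 3) F, (P * A * P⁻¹).det = A.det := by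
    intro A
    rw [Matrix.det_mul, Matrix.det_mul, mul_comm P.det, mul_assoc, ← Matrix.det_mul, h1,
      Matrix.det_one, mul_one]
  have hdetmul' : ∀ A : Matrix (Fin 3) (Fin 3) F, (P⁻¹ * A * P).det = A.det := by
    intro A
    rw [Matrix.det_mul, Matrix.det_mul, mul_comm (P⁻¹).det, mul_assoc, mul_comm (P⁻¹).det,
      ← Matrix.det_mul, h1, Matrix.det_one, mul_one]
  let toF : ↥(GJ σ) → ↥(Cfsg.SU 3 F q) := fun g =>
    ⟨⟨P * mat g * P⁻¹, by rw [hdetmul, mat_det]⟩,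
      mem_SU_of hσq P P⁻¹ h1 hP g _ rfl⟩
  let invF : ↥(Cfsg.SU 3 F q) → ↥(GJ σ) := fun B =>
    ⟨⟨P⁻¹ * ((B : SpecialLinearGroup (Fin 3) F) : Matrix (Fin 3) (Fin 3) F) * P, by
        rw [hdetmul']; exact (B : SpecialLinearGroup (Fin 3) F).2⟩,
      mem_GJ_of hσq P P⁻¹ h1 hP B _ rfl⟩
  refine ⟨{ toFun := toF, invFun := invF, left_inv := ?_, right_inv := ?_, map_mul' := ?_ },
    P, P⁻¹, h1, h1', hP, fun g => rfl⟩
  · intro g
    apply mat_injective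
    show P⁻¹ * (P * mat g * P⁻¹) * P = mat g
    rw [Matrix.mul_assoc P, ← Matrix.mul_assoc P⁻¹, h1', Matrix.one_mul, Matrix.mul_assoc, h1',
      Matrix.mul_one]
  · intro B
    apply Subtype.ext
    apply Subtype.ext
    show P * (P⁻¹ * ((B : SpecialLinearGroup (Fin 3) F) : Matrix (Fin 3) (Fin 3) F) * P) * P⁻¹
      = ((B : SpecialLinearGroup (Fin 3) F) : Matrix (Fin 3) (Fin 3) F)
    rw [Matrix.mul_assoc P⁻¹, ← Matrix.mul_assoc P, h1, Matrix.one_mul, Matrix.mul_assoc, h1,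
      Matrix.mul_one]
  · intro g g'
    apply Subtype.ext
    apply Subtype.ext
    show P * mat (g * g') * P⁻¹ = (P * mat g * P⁻¹) * (P * mat g' * P⁻¹)
    rw [mat_mul]
    have : (P * mat g * P⁻¹) * (P * mat g' * P⁻¹) = P * mat g * (P⁻¹ * P) * mat g' * P⁻¹ := by
      simp only [Matrix.mul_assoc]
    rw [this, h1', Matrix.mul_one]
    simp only [Matrix.mul_assoc]

theorem of_GJ {F : Type*} [Field F] [Fintype F] {q : ℕ} (hF : Fintype.card F = q ^ 2)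
    {σ : F ≃+* F} (hσq : ∀ a : F, σ a = a ^ q)
    (h : ∃ u g : ↥(GJ σ), (IsNilpotent (mat u - 1) ∧ (mat u - 1) ^ (3 - 1) ≠ 0) ∧
      Subgroup.closure ({u, g * u * g⁻¹} : Set ↥(GJ σ)) = ⊤) :
    ∃ u g : ↥(Cfsg.SU 3 F q),
      (IsNilpotent (((u : Matrix.SpecialLinearGroup (Fin 3) F) : Matrix (Fin 3) (Fin 3) F) - 1) ∧
        (((u : Matrix.SpecialLinearGroup (Fin 3) F) : Matrix (Fin 3) (Fin 3) F) - 1) ^ (3 - 1) ≠ 0) ∧
      Subgroup.closure ({u, g * u * g⁻¹} : Set ↥(Cfsg.SU 3 F q)) = ⊤ := by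
  obtain ⟨φ, P, Pi, h1, h1', -, hφ⟩ := transfer hF hσq
  obtain ⟨u, g, ⟨hnil, hne⟩, hcl⟩ := h
  have hconj : ∀ k : ℕ, (P * (mat u - 1) * Pi) ^ k = P * (mat u - 1) ^ k * Pi := by
    intro k
    induction k with
    | zero => simp [h1]
    | succ k ih =>
      rw [pow_succ, ih, pow_succ]
      have : P * (mat u - 1) ^ k * Pi * (P * (mat u - 1) * Pi)
          = P * (mat u - 1) ^ k * (Pi * P) * (mat u - 1) * Pi := by
        simp only [Matrix.mul_assoc]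
      rw [this, h1', Matrix.mul_one, Matrix.mul_assoc P]
  have hsub : (((φ u : ↥(Cfsg.SU 3 F q)) : Matrix.SpecialLinearGroup (Fin 3) F) :
      Matrix (Fin 3) (Fin 3) F) - 1 = P * (mat u - 1) * Pi := by
    rw [hφ, Matrix.mul_sub, Matrix.sub_mul, Matrix.mul_one, h1]
  refine ⟨φ u, φ g, ⟨?_, ?_⟩, ?_⟩
  · rw [hsub]
    obtain ⟨k, hk⟩ := hnil
    exact ⟨k, by rw [hconj, hk, Matrix.mul_zero, Matrix.zero_mul]⟩
  · rw [hsub, hconj]
    intro h0
    apply hne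
    have := congrArg (fun M => Pi * M * P) h0
    simp only [Matrix.mul_zero, Matrix.zero_mul] at this
    rw [← this]
    simp only [Matrix.mul_assoc]
    rw [h1', Matrix.mul_one, ← Matrix.mul_assoc, h1', Matrix.one_mul]
  · have hmap : (Subgroup.closure ({u, g * u * g⁻¹} : Set ↥(GJ σ))).map φ.toMonoidHom
        = Subgroup.closure ({φ u, φ g * φ u * (φ g)⁻¹} : Set ↥(Cfsg.SU 3 F q)) := by
      rw [MonoidHom.map_closure, Set.image_pair]
      simp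
    rw [← hmap, hcl, Subgroup.map_top_of_surjective _ φ.surjective]

end Cfsg.Agent.Lib.SU3Tr
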