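import Mathlib

set_option autoImplicit false
set_option linter.dupNamespace false

/-! A concrete, computable field with 64 elements (package PKG-G for S2283):
`K8 = F_2[t]/(t^3+t+1)` (coefficients as `Bool`, for fast kernel evaluation), `K64 = K8[ω]/(ω^2+ω+1)`. -/

namespace Cfsg.Agent.Lib.K64

/-- the field with eight elements: `c0 + c1 t + c2 t^2`, `t^3 = t + 1` -/
structure K8 : Type where
  c0 : Bool
  c1 : Bool
  c2 : Bool
  deriving DecidableEq

namespace K8

/-- the elements as triples -/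
def equivProd : K8 ≃ Bool × Bool × Bool where
  toFun x := (x.c0, x.c1, x.c2)
  invFun p := ⟨p.1, p.2.1, p.2.2⟩
  left_inv _ := rfl
  right_inv _ := rfl

/-- the list of all elements (explicit, for fast kernel evaluation) -/
def elemsList : List K8 := [⟨false, false, false⟩, ⟨false, false, true⟩, ⟨false, true, false⟩, ⟨false, true, true⟩, ⟨true, false, false⟩, ⟨true, false, true⟩, ⟨true, true, false⟩, ⟨true, true, true⟩]

instance : Fintype K8 where
  elems := ⟨(elemsList : Multiset K8), by decide⟩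
  complete := by
    rintro ⟨a, b, c⟩
    revert a b c
    decide

instance : Zero K8 := ⟨⟨false, false, false⟩⟩
instance : One K8 := ⟨⟨true, false, false⟩⟩
instance : Add K8 := ⟨fun x y => ⟨xor x.c0 y.c0, xor x.c1 y.c1, xor x.c2 y.c2⟩⟩
instance : Neg K8 := ⟨fun x => x⟩
instance : Mul K8 := ⟨fun x y =>
  ⟨xor (x.c0 && y.c0) (xor (x.c1 && y.c2) (x.c2 && y.c1)),
   xor (xor (xor (x.c0 && y.c1) (x.c1 && y.c0)) (xor (x.c1 && y.c2) (x.c2 && y.c1))) (x.c2 && y.c2),
   xor (xor (xor (x.c0 && y.c2) (x.c1 && y.c1)) (x.c2 && y.c0)) (x.c2 && y.c2)⟩⟩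
/-- `x⁻¹ = x^6` -/
instance : Inv K8 := ⟨fun x => ((x * x) * x) * ((x * x) * x)⟩

instance : Field K8 where
  add_assoc := by decide +kernel
  zero_add := by decide +kernel
  add_zero := by decide +kernel
  add_comm := by decide +kernel
  neg_add_cancel := by decide +kernel
  mul_assoc := by decide +kernel
  one_mul := by decide +kernel
  mul_one := by decide +kernel
  left_distrib := by decide +kernel
  right_distrib := by decide +kernel
  zero_mul := by decide +kernel
  mul_zero := by decide +kernel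
  mul_comm := by decide +kernel
  exists_pair_ne := ⟨0, 1, by decide +kernel⟩
  mul_inv_cancel := by decide +kernel
  inv_zero := rfl
  nsmul := nsmulRec
  zsmul := zsmulRec
  qsmul := _
  nnqsmul := _

theorem card : Fintype.card K8 = 8 := rfl

end K8

/-- the field with 64 elements: `re + im ω`, `ω^2 = ω + 1` -/
@[ext] structure K64 : Type where
  re : K8
  im : K8
  deriving DecidableEq

namespace K64

/-- the elements as pairs -/
def equivProd : K64 ≃ K8 × K8 where
  toFun x := (x.re, x.im)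
  invFun p := ⟨p.1, p.2⟩
  left_inv _ := rfl
  right_inv _ := rfl

/-- the list of all elements (explicit, for fast kernel evaluation) -/
def elemsList : List K64 := [
    ⟨⟨false, false, false⟩, ⟨false, false, false⟩⟩, ⟨⟨false, false, false⟩, ⟨false, false, true⟩⟩, ⟨⟨false, false, false⟩, ⟨false, true, false⟩⟩, ⟨⟨false, false, false⟩, ⟨false, true, true⟩⟩,
    ⟨⟨false, false, false⟩, ⟨true, false, false⟩⟩, ⟨⟨false, false, false⟩, ⟨true, false, true⟩⟩, ⟨⟨false, false, false⟩, ⟨true, true, false⟩⟩, ⟨⟨false, false, false⟩, ⟨true, true, true⟩⟩,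
    ⟨⟨false, false, true⟩, ⟨false, false, false⟩⟩, ⟨⟨false, false, true⟩, ⟨false, false, true⟩⟩, ⟨⟨false, false, true⟩, ⟨false, true, false⟩⟩, ⟨⟨false, false, true⟩, ⟨false, true, true⟩⟩,
    ⟨⟨false, false, true⟩, ⟨true, false, false⟩⟩, ⟨⟨false, false, true⟩, ⟨true, false, true⟩⟩, ⟨⟨false, false, true⟩, ⟨true, true, false⟩⟩, ⟨⟨false, false, true⟩, ⟨true, true, true⟩⟩,
    ⟨⟨false, true, false⟩, ⟨false, false, false⟩⟩, ⟨⟨false, true, false⟩, ⟨false, false, true⟩⟩, ⟨⟨false, true, false⟩, ⟨false, true, false⟩⟩, ⟨⟨false, true, false⟩, ⟨false, true, true⟩⟩,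
    ⟨⟨false, true, false⟩, ⟨true, false, false⟩⟩, ⟨⟨false, true, false⟩, ⟨true, false, true⟩⟩, ⟨⟨false, true, false⟩, ⟨true, true, false⟩⟩, ⟨⟨false, true, false⟩, ⟨true, true, true⟩⟩,
    ⟨⟨false, true, true⟩, ⟨false, false, false⟩⟩, ⟨⟨false, true, true⟩, ⟨false, false, true⟩⟩, ⟨⟨false, true, true⟩, ⟨false, true, false⟩⟩, ⟨⟨false, true, true⟩, ⟨false, true, true⟩⟩,
    ⟨⟨false, true, true⟩, ⟨true, false, false⟩⟩, ⟨⟨false, true, true⟩, ⟨true, false, true⟩⟩, ⟨⟨false, true, true⟩, ⟨true, true, false⟩⟩, ⟨⟨false, true, true⟩, ⟨true, true, true⟩⟩,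
    ⟨⟨true, false, false⟩, ⟨false, false, false⟩⟩, ⟨⟨true, false, false⟩, ⟨false, false, true⟩⟩, ⟨⟨true, false, false⟩, ⟨false, true, false⟩⟩, ⟨⟨true, false, false⟩, ⟨false, true, true⟩⟩,
    ⟨⟨true, false, false⟩, ⟨true, false, false⟩⟩, ⟨⟨true, false, false⟩, ⟨true, false, true⟩⟩, ⟨⟨true, false, false⟩, ⟨true, true, false⟩⟩, ⟨⟨true, false, false⟩, ⟨true, true, true⟩⟩,
    ⟨⟨true, false, true⟩, ⟨false, false, false⟩⟩, ⟨⟨true, false, true⟩, ⟨false, false, true⟩⟩, ⟨⟨true, false, true⟩, ⟨false, true, false⟩⟩, ⟨⟨true, false, true⟩, ⟨false, true, true⟩⟩,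
    ⟨⟨true, false, true⟩, ⟨true, false, false⟩⟩, ⟨⟨true, false, true⟩, ⟨true, false, true⟩⟩, ⟨⟨true, false, true⟩, ⟨true, true, false⟩⟩, ⟨⟨true, false, true⟩, ⟨true, true, true⟩⟩,
    ⟨⟨true, true, false⟩, ⟨false, false, false⟩⟩, ⟨⟨true, true, false⟩, ⟨false, false, true⟩⟩, ⟨⟨true, true, false⟩, ⟨false, true, false⟩⟩, ⟨⟨true, true, false⟩, ⟨false, true, true⟩⟩,
    ⟨⟨true, true, false⟩, ⟨true, false, false⟩⟩, ⟨⟨true, true, false⟩, ⟨true, false, true⟩⟩, ⟨⟨true, true, false⟩, ⟨true, true, false⟩⟩, ⟨⟨true, true, false⟩, ⟨true, true, true⟩⟩,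
    ⟨⟨true, true, true⟩, ⟨false, false, false⟩⟩, ⟨⟨true, true, true⟩, ⟨false, false, true⟩⟩, ⟨⟨true, true, true⟩, ⟨false, true, false⟩⟩, ⟨⟨true, true, true⟩, ⟨false, true, true⟩⟩,
    ⟨⟨true, true, true⟩, ⟨true, false, false⟩⟩, ⟨⟨true, true, true⟩, ⟨true, false, true⟩⟩, ⟨⟨true, true, true⟩, ⟨true, true, false⟩⟩, ⟨⟨true, true, true⟩, ⟨true, true, true⟩⟩]

instance : Fintype K64 where
  elems := ⟨(elemsList : Multiset K64), by decide +kernel⟩
  complete := by
    rintro ⟨⟨a, b, c⟩, ⟨d, e, f⟩⟩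
    revert a b c d e f
    decide +kernel

instance : Zero K64 := ⟨⟨0, 0⟩⟩
instance : One K64 := ⟨⟨1, 0⟩⟩
instance : Add K64 := ⟨fun x y => ⟨x.re + y.re, x.im + y.im⟩⟩
instance : Neg K64 := ⟨fun x => ⟨-x.re, -x.im⟩⟩
instance : Mul K64 := ⟨fun x y =>
  ⟨x.re * y.re + x.im * y.im, x.re * y.im + x.im * y.re + x.im * y.im⟩⟩

/-- the conjugate `a + b ω ↦ (a + b) + b ω` (as a function) -/
def conjFun (x : K64) : K64 := ⟨x.re + x.im, x.im⟩

/-- the norm `a^2 + a b + b^2` -/
def nrm (x : K64) : K8 := x.re * x.re + x.re * x.im + x.im * x.im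

instance : Inv K64 := ⟨fun x => ⟨(x.re + x.im) * (nrm x)⁻¹, x.im * (nrm x)⁻¹⟩⟩

@[simp] theorem zero_re : (0 : K64).re = 0 := rfl
@[simp] theorem zero_im : (0 : K64).im = 0 := rfl
@[simp] theorem one_re : (1 : K64).re = 1 := rfl
@[simp] theorem one_im : (1 : K64).im = 0 := rfl
@[simp] theorem add_re (x y : K64) : (x + y).re = x.re + y.re := rfl
@[simp] theorem add_im (x y : K64) : (x + y).im = x.im + y.im := rfl
@[simp] theorem neg_re (x : K64) : (-x).re = -x.re := rfl
@[simp] theorem neg_im (x : K64) : (-x).im = -x.im := rfl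
@[simp] theorem mul_re (x y : K64) : (x * y).re = x.re * y.re + x.im * y.im := rfl
@[simp] theorem mul_im (x y : K64) :
    (x * y).im = x.re * y.im + x.im * y.re + x.im * y.im := rfl

instance : Field K64 where
  add_assoc := by intro x y z; ext <;> simp [add_assoc]
  zero_add := by intro x; ext <;> simp
  add_zero := by intro x; ext <;> simp
  add_comm := by intro x y; ext <;> simp [add_comm]
  neg_add_cancel := by intro x; ext <;> simp
  mul_assoc := by intro x y z; ext <;> simp <;> ring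
  one_mul := by intro x; ext <;> simp
  mul_one := by intro x; ext <;> simp
  left_distrib := by intro x y z; ext <;> simp <;> ring
  right_distrib := by intro x y z; ext <;> simp <;> ring
  zero_mul := by intro x; ext <;> simp
  mul_zero := by intro x; ext <;> simp
  mul_comm := by intro x y; ext <;> simp <;> ring
  exists_pair_ne := ⟨0, 1, by decide +kernel⟩
  mul_inv_cancel := by decide +kernel
  inv_zero := rfl
  nsmul := nsmulRec
  zsmul := zsmulRec
  qsmul := _
  nnqsmul := _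

theorem card : Fintype.card K64 = 8 ^ 2 := rfl

theorem conjFun_mul (x y : K64) : conjFun (x * y) = conjFun x * conjFun y := by
  revert x y
  decide +kernel

theorem conjFun_add (x y : K64) : conjFun (x + y) = conjFun x + conjFun y := by
  revert x y
  decide +kernel

theorem conjFun_conjFun (x : K64) : conjFun (conjFun x) = x := by
  revert x
  decide +kernel

/-- the conjugation as a ring automorphism -/
def conj : K64 ≃+* K64 where
  toFun := conjFun
  invFun := conjFun
  left_inv := conjFun_conjFun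
  right_inv := conjFun_conjFun
  map_mul' := conjFun_mul
  map_add' := conjFun_add

theorem conj_apply (x : K64) : conj x = conjFun x := rfl

theorem conj_eq_pow (x : K64) : conj x = x ^ 8 := by
  revert x
  decide +kernel

theorem conj_conj (x : K64) : conj (conj x) = x := conjFun_conjFun x

end K64

/-! top-level aliases -/

theorem card : Fintype.card K64 = 8 ^ 2 := _root_.Cfsg.Agent.Lib.K64.K64.card

/-- the conjugation `x ↦ x^8` -/
abbrev conj : K64 ≃+* K64 := _root_.Cfsg.Agent.Lib.K64.K64.conj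

theorem conj_eq_pow (x : K64) : conj x = x ^ 8 := _root_.Cfsg.Agent.Lib.K64.K64.conj_eq_pow x

theorem conj_conj (x : K64) : conj (conj x) = x := _root_.Cfsg.Agent.Lib.K64.K64.conj_conj x

end Cfsg.Agent.Lib.K64
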