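import Mathlib
import Cfsg.Prelude
import Cfsg.Agent.Lib.Helper1.SUCongr

/-! Invariance of the S2283 statement under field isomorphism (package PKG-E). -/

namespace Cfsg.Agent.Lib.SU3Iso

open Matrix Cfsg.Agent.Lib.Helper1.SUCongr

theorem of_ringEquiv {K F : Type*} [Field K] [Field F] (e : K ≃+* F) (q : ℕ)
    (h : ∃ u g : ↥(Cfsg.SU 3 K q),
      (IsNilpotent (((u : Matrix.SpecialLinearGroup (Fin 3) K) : Matrix (Fin 3) (Fin 3) K) - 1) ∧
        (((u : Matrix.SpecialLinearGroup (Fin 3) K) : Matrix (Fin 3) (Fin 3) K) - 1) ^ (3 - 1) ≠ 0) ∧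
      Subgroup.closure ({u, g * u * g⁻¹} : Set ↥(Cfsg.SU 3 K q)) = ⊤) :
    ∃ u g : ↥(Cfsg.SU 3 F q),
      (IsNilpotent (((u : Matrix.SpecialLinearGroup (Fin 3) F) : Matrix (Fin 3) (Fin 3) F) - 1) ∧
        (((u : Matrix.SpecialLinearGroup (Fin 3) F) : Matrix (Fin 3) (Fin 3) F) - 1) ^ (3 - 1) ≠ 0) ∧
      Subgroup.closure ({u, g * u * g⁻¹} : Set ↥(Cfsg.SU 3 F q)) = ⊤ := by
  obtain ⟨u, g, ⟨hnil, hne⟩, hcl⟩ := h
  set φ : ↥(Cfsg.SU 3 K q) ≃* ↥(Cfsg.SU 3 F q) := suCongr e with hφ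
  set E : Matrix (Fin 3) (Fin 3) K →+* Matrix (Fin 3) (Fin 3) F :=
    (e : K →+* F).mapMatrix with hE
  have hcoe : ∀ x : ↥(Cfsg.SU 3 K q),
      (((φ x : ↥(Cfsg.SU 3 F q)) : Matrix.SpecialLinearGroup (Fin 3) F) :
        Matrix (Fin 3) (Fin 3) F)
      = E ((x : Matrix.SpecialLinearGroup (Fin 3) K) : Matrix (Fin 3) (Fin 3) K) := fun x => rfl
  have hinj : Function.Injective E := by
    intro A B hAB
    ext i j
    have := congrFun (congrFun hAB i) j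
    exact e.injective this
  have hsub : (((φ u : ↥(Cfsg.SU 3 F q)) : Matrix.SpecialLinearGroup (Fin 3) F) :
      Matrix (Fin 3) (Fin 3) F) - 1
      = E (((u : Matrix.SpecialLinearGroup (Fin 3) K) : Matrix (Fin 3) (Fin 3) K) - 1) := by
    rw [hcoe, map_sub, map_one]
  refine ⟨φ u, φ g, ⟨?_, ?_⟩, ?_⟩
  · rw [hsub]
    exact hnil.map E
  · rw [hsub, ← map_pow]
    intro h0
    apply hne
    apply hinj
    rw [h0, map_zero]
  · have hmap : (Subgroup.closure ({u, g * u * g⁻¹} : Set ↥(Cfsg.SU 3 K q))).map φ.toMonoidHom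
        = Subgroup.closure ({φ u, φ g * φ u * (φ g)⁻¹} : Set ↥(Cfsg.SU 3 F q)) := by
      rw [MonoidHom.map_closure, Set.image_pair]
      simp
    rw [← hmap, hcl, Subgroup.map_top_of_surjective _ φ.surjective]

end Cfsg.Agent.Lib.SU3Iso
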