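import Mathlib
import Cfsg.Prelude.Def_Transfer

/-!
# S4395: definitions shared by all packages (swarm; paper proof `notes/S4395_paper_lead.md`)
-/

set_option autoImplicit false
universe u

namespace Cfsg.Agent.Lib.Lead.Sch

/-- minimal non-p-nilpotent: no normal p-complement, but every proper subgroup has one. -/
def MinNonPNilp (p : ℕ) (X : Type u) [Group X] : Prop :=
  ¬ Cfsg.HasNormalPComplement p X ∧ ∀ K : Subgroup X, K ≠ ⊤ → Cfsg.HasNormalPComplement p ↥K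

/-- the exponent `a₀` of the universal group. -/
noncomputable def a0 (p q : ℕ) : ℕ :=
  if orderOf (p : ZMod q) % 2 = 1 then orderOf (p : ZMod q) else 3 * orderOf (p : ZMod q) / 2

/-- Schmidt datum: `X = P ⋊ ⟨y⟩`, `C = Φ(P) = P ∩ Z(X)`. -/
structure SD (p q : ℕ) (X : Type u) [Group X] where
  P : Subgroup X
  C : Subgroup X
  y : X
  P_normal : P.Normal
  P_pgroup : IsPGroup p P
  y_order : ∃ k : ℕ, orderOf y = q ^ k
  gen : P ⊔ Subgroup.zpowers y = ⊤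
  yq_central : y ^ q ∈ Subgroup.center X
  C_le : C ≤ P
  C_central : C ≤ Subgroup.center X
  C_exp : ∀ c ∈ C, c ^ p = 1
  quot_comm : ∀ u ∈ P, ∀ v ∈ P, u * v * u⁻¹ * v⁻¹ ∈ C
  quot_exp : ∀ u ∈ P, u ^ p ∈ C
  C_gen : C ≤ Subgroup.closure ({x : X | ∃ u ∈ P, x = u ^ p} ∪ {x : X | ∃ u ∈ P, ∃ v ∈ P, x = u * v * u⁻¹ * v⁻¹})
  irr : ∀ D : Subgroup X, C ≤ D → D ≤ P → (∀ d ∈ D, y * d * y⁻¹ ∈ D) → D = C ∨ D = P
  nongen : ∀ D : Subgroup X, D ≤ P → D ⊔ C = P → D = P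
  moved : ∃ u ∈ P, y * u * y⁻¹ ≠ u

/-- `(V, T)` is an irreducible nontrivial `𝔽_p[ℤ/q]`-module (powers of `T` written as iterates). -/
structure IrrMod (p q : ℕ) (V : Type u) [AddCommGroup V] (T : V ≃+ V) : Prop where
  exp : ∀ v : V, p • v = 0
  pow : ∀ v : V, (⇑T)^[q] v = v
  ne_one : ∃ v : V, T v ≠ v
  irr : ∀ W : AddSubgroup V, (∀ w ∈ W, T w ∈ W) → W = ⊥ ∨ W = ⊤

end Cfsg.Agent.Lib.Lead.Sch
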