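import Mathlib

set_option autoImplicit false

/-! S3797 package BR (helper1's plan notes/S3797_plan_helper1.md): Brauer's permutation lemma for an
elementary abelian 2-group `V`: a group transitive on `V∖0` is transitive on the non-zero additive
characters `V →+ ZMod 2`.  Burnside's orbit count + equal numbers of fixed points. -/

namespace Cfsg.Agent.Lib.Lead.TIBR

open scoped DomMulAct
open MulAction

theorem card_dual_aux {A : Type*} [AddCommGroup A] [Module (ZMod 2) A] [Finite A] :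
    Nat.card (A →+ ZMod 2) = Nat.card A := by
  have e : (A →+ ZMod 2) ≃ (Module.Dual (ZMod 2) A) :=
    (AddMonoidHom.toZModLinearMapEquiv 2).toEquiv
  rw [Nat.card_congr e]
  rw [Module.natCard_eq_pow_finrank (K := ZMod 2) (V := Module.Dual (ZMod 2) A),
    Module.natCard_eq_pow_finrank (K := ZMod 2) (V := A), Subspace.dual_finrank_eq]

theorem card_dual_two {A : Type*} [AddCommGroup A] [Finite A] (h2 : ∀ a : A, a + a = 0) :
    Nat.card (A →+ ZMod 2) = Nat.card A := by
  let _ : Module (ZMod 2) A :=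
    AddCommGroup.zmodModule (n := 2) (fun a => by rw [two_nsmul]; exact h2 a)
  exact card_dual_aux

section
variable {𝒩 V : Type*} [Group 𝒩] [AddCommGroup V] [DistribMulAction 𝒩 V]

theorem dma_smul_apply (n : 𝒩) (l : V →+ ZMod 2) (v : V) :
    (DomMulAct.mk n • l) v = l (n • v) := rfl

/-- the subgroup of additive characters killing a subgroup `R` is the dual of `V ⧸ R` -/
noncomputable def annEquiv (R : AddSubgroup V) :
    {l : V →+ ZMod 2 // R ≤ l.ker} ≃ (V ⧸ R →+ ZMod 2) where
  toFun l := QuotientAddGroup.lift R l.1 l.2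
  invFun f := ⟨f.comp (QuotientAddGroup.mk' R), fun r hr => by
    rw [AddMonoidHom.mem_ker, AddMonoidHom.comp_apply, QuotientAddGroup.mk'_apply,
      (QuotientAddGroup.eq_zero_iff r).mpr hr, map_zero]⟩
  left_inv l := by
    apply Subtype.ext
    ext v
    rfl
  right_inv f := by
    ext v
    rfl

theorem card_fixedBy_dual [Finite V] (hV2 : ∀ v : V, v + v = 0) (n : 𝒩) :
    Nat.card (fixedBy (V →+ ZMod 2) (DomMulAct.mk n)) = Nat.card (fixedBy V n) := by
  classical
  set φ : V →+ V := DistribSMul.toAddMonoidHom V n - AddMonoidHom.id V with hφ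
  have hφv : ∀ v : V, φ v = n • v - v := fun v => rfl
  -- fixed points on `V` = kernel
  have h1 : Nat.card (fixedBy V n) = Nat.card φ.ker := by
    apply Nat.card_congr
    refine Equiv.subtypeEquivRight (fun v => ?_)
    rw [mem_fixedBy, AddMonoidHom.mem_ker, hφv, sub_eq_zero]
  -- fixed points on the dual = annihilator of the range
  have h2 : Nat.card (fixedBy (V →+ ZMod 2) (DomMulAct.mk n)) =
      Nat.card {l : V →+ ZMod 2 // φ.range ≤ l.ker} := by
    apply Nat.card_congr
    refine Equiv.subtypeEquivRight (fun l => ?_)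
    rw [mem_fixedBy]
    constructor
    · rintro h _ ⟨v, rfl⟩
      rw [AddMonoidHom.mem_ker, hφv, map_sub, sub_eq_zero]
      have := DFunLike.congr_fun h v
      rw [dma_smul_apply] at this
      exact this
    · intro h
      ext v
      rw [dma_smul_apply]
      have := h ⟨v, rfl⟩
      rw [AddMonoidHom.mem_ker, hφv, map_sub, sub_eq_zero] at this
      rw [this]
  rw [h1, h2, Nat.card_congr (annEquiv φ.range),
    card_dual_two (A := V ⧸ φ.range) (fun a => by
      induction a using QuotientAddGroup.induction_on with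
      | H v => rw [← QuotientAddGroup.mk_add, hV2]; rfl)]
  have e1 := AddSubgroup.card_eq_card_quotient_mul_card_addSubgroup φ.range
  have e2 := AddSubgroup.card_eq_card_quotient_mul_card_addSubgroup φ.ker
  have e3 : Nat.card (V ⧸ φ.ker) = Nat.card φ.range :=
    Nat.card_congr (QuotientAddGroup.quotientKerEquivRange φ).toEquiv
  rw [e3] at e2
  have hpos : 0 < Nat.card φ.range := Nat.card_pos
  have : Nat.card (V ⧸ φ.range) * Nat.card φ.range = Nat.card φ.ker * Nat.card φ.range := by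
    rw [← e1, e2, mul_comm]
  exact Nat.eq_of_mul_eq_mul_right hpos this

end

theorem dual_transitive {𝒩 V : Type*} [Group 𝒩] [Finite 𝒩] [AddCommGroup V] [Finite V]
    [DistribMulAction 𝒩 V] (hV2 : ∀ v : V, v + v = 0)
    (htrans : ∀ v v' : V, v ≠ 0 → v' ≠ 0 → ∃ n : 𝒩, n • v = v')
    (l l' : V →+ ZMod 2) (hl : l ≠ 0) (hl' : l' ≠ 0) :
    ∃ n : 𝒩, ∀ v : V, l' v = l (n • v) := by
  classical
  have : Fintype 𝒩 := Fintype.ofFinite 𝒩
  have : Finite 𝒩ᵈᵐᵃ := Finite.of_equiv 𝒩 DomMulAct.mk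
  have : Fintype 𝒩ᵈᵐᵃ := Fintype.ofFinite _
  have : Finite (V →+ ZMod 2) := Finite.of_injective (fun f => (f : V → ZMod 2)) DFunLike.coe_injective
  have : Fintype (Quotient (orbitRel 𝒩 V)) := Fintype.ofFinite _
  have : Fintype (Quotient (orbitRel 𝒩ᵈᵐᵃ (V →+ ZMod 2))) := Fintype.ofFinite _
  have : ∀ g : 𝒩, Fintype (fixedBy V g) := fun g => Fintype.ofFinite _
  have : ∀ g : 𝒩ᵈᵐᵃ, Fintype (fixedBy (V →+ ZMod 2) g) := fun g => Fintype.ofFinite _
  have b1 := sum_card_fixedBy_eq_card_orbits_mul_card_group 𝒩 V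
  have b2 := sum_card_fixedBy_eq_card_orbits_mul_card_group 𝒩ᵈᵐᵃ (V →+ ZMod 2)
  have hsum : (∑ g : 𝒩ᵈᵐᵃ, Fintype.card (fixedBy (V →+ ZMod 2) g)) =
      ∑ g : 𝒩, Fintype.card (fixedBy V g) := by
    rw [← Fintype.sum_equiv (DomMulAct.mk (M := 𝒩))
      (fun n : 𝒩 => Fintype.card (fixedBy (V →+ ZMod 2) (DomMulAct.mk n)))
      (fun g => Fintype.card (fixedBy (V →+ ZMod 2) g)) (fun _ => rfl)]
    refine Finset.sum_congr rfl (fun n _ => ?_)
    rw [← Nat.card_eq_fintype_card, ← Nat.card_eq_fintype_card]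
    exact card_fixedBy_dual hV2 n
  have hcard : Fintype.card 𝒩ᵈᵐᵃ = Fintype.card 𝒩 :=
    (Fintype.card_congr (DomMulAct.mk (M := 𝒩))).symm
  have hpos : 0 < Fintype.card 𝒩 := Fintype.card_pos
  have horb : Fintype.card (Quotient (orbitRel 𝒩ᵈᵐᵃ (V →+ ZMod 2))) =
      Fintype.card (Quotient (orbitRel 𝒩 V)) := by
    rw [hsum, b1, hcard] at b2
    exact (Nat.eq_of_mul_eq_mul_right hpos b2).symm
  -- at most two orbits on `V`
  have hV : Fintype.card (Quotient (orbitRel 𝒩 V)) ≤ 2 := by
    have hinj : Function.Injective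
        (fun ω : Quotient (orbitRel 𝒩 V) => decide (ω = Quotient.mk'' (0 : V))) := by
      intro a b hab
      induction a using Quotient.inductionOn' with | h a => ?_
      induction b using Quotient.inductionOn' with | h b => ?_
      by_cases ha : (Quotient.mk'' a : Quotient (orbitRel 𝒩 V)) = Quotient.mk'' (0 : V)
      · have hb : (Quotient.mk'' b : Quotient (orbitRel 𝒩 V)) = Quotient.mk'' (0 : V) := by
          simpa [ha] using hab
        rw [ha, hb]
      · have hb : (Quotient.mk'' b : Quotient (orbitRel 𝒩 V)) ≠ Quotient.mk'' (0 : V) := by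
          simpa [ha] using hab
        have ha0 : a ≠ 0 := fun h => ha (by rw [h])
        have hb0 : b ≠ 0 := fun h => hb (by rw [h])
        obtain ⟨n, hn⟩ := htrans b a hb0 ha0
        apply Quotient.sound'
        exact ⟨n, hn⟩
    have := Fintype.card_le_of_injective _ hinj
    simpa using this
  -- the three orbits `0`, `l`, `l'` cannot be distinct
  have h0 : ∀ f : V →+ ZMod 2, f ≠ 0 →
      (Quotient.mk'' (0 : V →+ ZMod 2) : Quotient (orbitRel 𝒩ᵈᵐᵃ (V →+ ZMod 2))) ≠
        Quotient.mk'' f := by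
    intro f hf h
    have h' : (0 : V →+ ZMod 2) ∈ orbit 𝒩ᵈᵐᵃ f := Quotient.exact' h
    obtain ⟨g, hg⟩ := h'
    apply hf
    have hg' : g • f = 0 := hg
    have : g⁻¹ • (g • f) = g⁻¹ • (0 : V →+ ZMod 2) := by rw [hg']
    rw [inv_smul_smul, smul_zero] at this
    exact this
  by_contra hcon
  have hne : (Quotient.mk'' l : Quotient (orbitRel 𝒩ᵈᵐᵃ (V →+ ZMod 2))) ≠ Quotient.mk'' l' := by
    intro h
    have h' : l' ∈ orbit 𝒩ᵈᵐᵃ l := Quotient.exact' h.symm
    obtain ⟨g, hg⟩ := h'
    apply hcon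
    have hg' : g • l = l' := hg
    refine ⟨DomMulAct.mk.symm g, fun v => ?_⟩
    rw [← hg']
    rfl
  have h3 : 2 < Fintype.card (Quotient (orbitRel 𝒩ᵈᵐᵃ (V →+ ZMod 2))) :=
    Fintype.two_lt_card_iff.mpr ⟨_, _, _, h0 l hl, h0 l' hl', hne⟩
  omega

end Cfsg.Agent.Lib.Lead.TIBR
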