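import Mathlib
import Cfsg.Agent.Lib.Helper1.TIDefs
import Cfsg.Agent.Lib.Helper9.TIGS
import Cfsg.Agent.Lib.Lead.TIBR

set_option autoImplicit false
set_option linter.unusedVariables false

/-! S3797 package ND (helper1's plan notes/S3797_plan_helper1.md): if a group is transitive on `V∖0`,
compatible with the anisotropic quadratic map `sq : W → V`, and contains an odd-order subgroup trivial
on `V` and fixed-point-free on `W ≠ 0`, then `|W| = |V|²` and all the forms `l ∘ β` are non-degenerate. -/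

namespace Cfsg.Agent.Lib.Lead.TIND

open Cfsg.Agent.Lib.Helper1.TI Cfsg.Agent.Lib.Helper9.TIGS

/-! ### arithmetic -/

theorem two_pow_mul_odd_inj {m e a b : ℕ} (ha : Odd a) (hb : Odd b)
    (h : 2 ^ m * a = 2 ^ e * b) : m = e ∧ a = b := by
  have key : ∀ {m e a b : ℕ}, Odd b → 2 ^ m * a = 2 ^ e * b → m ≤ e := by
    intro m e a b hb h
    have hc : Nat.Coprime (2 ^ m) b :=
      Nat.Coprime.pow_left m (Nat.coprime_two_left.mpr hb)
    have hd : 2 ^ m ∣ 2 ^ e * b := ⟨a, h.symm⟩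
    have := hc.dvd_of_dvd_mul_right hd
    exact (Nat.pow_dvd_pow_iff_le_right (by norm_num)).mp this
  have h1 := key hb h
  have h2 := key ha h.symm
  have hme : m = e := le_antisymm h1 h2
  subst hme
  exact ⟨rfl, Nat.eq_of_mul_eq_mul_left (by positivity) h⟩

theorem arith (k m d : ℕ) (S : ℤ) (hk : 1 ≤ k) (hm : 1 ≤ m) (hd : d ≤ k)
    (h1 : (2 : ℤ) ^ k + ((2 : ℤ) ^ m - 1) * S = 2 ^ m) (h2 : S ^ 2 = 2 ^ k * 2 ^ d) :
    k = 2 * m ∧ d = 0 := by
  have hn : S.natAbs ^ 2 = 2 ^ (k + d) := by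
    have : ((S.natAbs ^ 2 : ℕ) : ℤ) = ((2 ^ (k + d) : ℕ) : ℤ) := by
      push_cast
      rw [sq_abs, h2, pow_add]
    exact_mod_cast this
  have hdvd : S.natAbs ∣ 2 ^ (k + d) := ⟨S.natAbs, by rw [← hn, sq]⟩
  obtain ⟨e, -, he⟩ := (Nat.dvd_prime_pow Nat.prime_two).mp hdvd
  have h2e : 2 * e = k + d := by
    rw [he, ← pow_mul, mul_comm] at hn
    exact Nat.pow_right_injective (le_refl 2) hn
  have hA : (2 : ℤ) ≤ 2 ^ k := by
    calc (2 : ℤ) = 2 ^ 1 := by norm_num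
      _ ≤ 2 ^ k := pow_le_pow_right₀ (by norm_num) hk
  have hB : (2 : ℤ) ≤ 2 ^ m := by
    calc (2 : ℤ) = 2 ^ 1 := by norm_num
      _ ≤ 2 ^ m := pow_le_pow_right₀ (by norm_num) hm
  have hC : (1 : ℤ) ≤ 2 ^ e := one_le_pow₀ (by norm_num)
  rcases Int.natAbs_eq S with hS | hS
  · exfalso
    rw [he] at hS
    push_cast at hS
    rw [hS] at h1
    nlinarith [mul_nonneg (by linarith : (0 : ℤ) ≤ 2 ^ m - 1) (by linarith : (0 : ℤ) ≤ 2 ^ e - 1)]
  · rw [he] at hS
    push_cast at hS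
    rw [hS] at h1
    -- `2^k - (2^m - 1) 2^e = 2^m`
    have hkm : m < k := by
      by_contra hcon
      push Not at hcon
      have : (2 : ℤ) ^ k ≤ 2 ^ m := pow_le_pow_right₀ (by norm_num) hcon
      nlinarith [mul_pos (by linarith : (0 : ℤ) < 2 ^ m - 1) (by linarith : (0 : ℤ) < 2 ^ e)]
    obtain ⟨j, hj⟩ : ∃ j, k = m + (j + 1) := ⟨k - m - 1, by omega⟩
    have hAj : (2 : ℕ) ≤ 2 ^ (j + 1) := by
      calc (2 : ℕ) = 2 ^ 1 := by norm_num
        _ ≤ 2 ^ (j + 1) := Nat.pow_le_pow_right (by norm_num) (by omega)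
    have hBm : (2 : ℕ) ≤ 2 ^ m := by
      calc (2 : ℕ) = 2 ^ 1 := by norm_num
        _ ≤ 2 ^ m := Nat.pow_le_pow_right (by norm_num) hm
    have hoddj : Odd (2 ^ (j + 1) - 1) := by
      apply Nat.Even.sub_odd (by omega) _ odd_one
      exact (Nat.even_pow.mpr ⟨even_two, by omega⟩)
    have hoddm : Odd (2 ^ m - 1) := by
      apply Nat.Even.sub_odd (by omega) _ odd_one
      exact (Nat.even_pow.mpr ⟨even_two, by omega⟩)
    have hnat : 2 ^ m * (2 ^ (j + 1) - 1) = 2 ^ e * (2 ^ m - 1) := by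
      have : ((2 ^ m * (2 ^ (j + 1) - 1) : ℕ) : ℤ) = ((2 ^ e * (2 ^ m - 1) : ℕ) : ℤ) := by
        rw [Nat.cast_mul, Nat.cast_mul, Nat.cast_sub (by omega), Nat.cast_sub (by omega)]
        push_cast
        rw [hj, pow_add] at h1
        linarith
      exact_mod_cast this
    obtain ⟨hme, hab⟩ := two_pow_mul_odd_inj hoddj hoddm hnat
    have hjm : 2 ^ (j + 1) = 2 ^ m := by omega
    have := Nat.pow_right_injective (le_refl 2) hjm
    omega

/-! ### cardinalities -/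

theorem card_two_pow {A : Type*} [AddCommGroup A] [Finite A] (h2 : ∀ a : A, a + a = 0) :
    ∃ k, Nat.card A = 2 ^ k := by
  let _ : Module (ZMod 2) A :=
    AddCommGroup.zmodModule (n := 2) (fun a => by rw [two_nsmul]; exact h2 a)
  refine ⟨Module.finrank (ZMod 2) A, ?_⟩
  rw [Module.natCard_eq_pow_finrank (K := ZMod 2) (V := A), Nat.card_zmod]

section
variable {𝒩 W V : Type*} [Group 𝒩] [AddCommGroup W] [AddCommGroup V]
  [DistribMulAction 𝒩 W] [DistribMulAction 𝒩 V] (q : QMap W V)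

theorem beta_smul (hequiv : ∀ (n : 𝒩) (w : W), q.sq (n • w) = n • q.sq w) (n : 𝒩) (a b : W) :
    q.β (n • a) (n • b) = n • q.β a b := by
  have h1 := q.sq_add (n • a) (n • b)
  rw [← smul_add, hequiv, q.sq_add, smul_add, smul_add, hequiv, hequiv] at h1
  exact (add_left_cancel h1).symm

/-- `l ∘ sq` is additive along sums of elements of the radical -/
theorem sq_sum_rad (l : V →+ ZMod 2) {ι : Type*} (s : Finset ι) (f : ι → W)
    (hf : ∀ i ∈ s, f i ∈ rad q ⊤ l) :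
    l (q.sq (∑ i ∈ s, f i)) = ∑ i ∈ s, l (q.sq (f i)) := by
  classical
  induction s using Finset.induction_on with
  | empty => simp [q.sq_zero]
  | insert a s ha ih =>
    rw [Finset.sum_insert ha, Finset.sum_insert ha, q.sq_add, map_add, map_add,
      ih (fun i hi => hf i (Finset.mem_insert_of_mem hi))]
    have hmem : ∑ i ∈ s, f i ∈ rad q ⊤ l :=
      AddSubgroup.sum_mem _ (fun i hi => hf i (Finset.mem_insert_of_mem hi))
    rw [((mem_rad q ⊤ l _).mp hmem).2 (f a) (AddSubgroup.mem_top _), add_zero]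

theorem hrad_of_fpf [Finite 𝒩] (hequiv : ∀ (n : 𝒩) (w : W), q.sq (n • w) = n • q.sq w)
    (L : Subgroup 𝒩) (hLodd : Odd (Nat.card L)) (hLV : ∀ l ∈ L, ∀ v : V, l • v = v)
    (hLfpf : ∀ w : W, (∀ l ∈ L, l • w = w) → w = 0) (l : V →+ ZMod 2) :
    ∀ t ∈ rad q ⊤ l, l (q.sq t) = 0 := by
  classical
  intro t ht
  have : Fintype L := Fintype.ofFinite L
  -- the radical is `L`-invariant
  have hinv : ∀ k ∈ L, k • t ∈ rad q ⊤ l := by
    intro k hk
    refine (mem_rad q ⊤ l _).mpr ⟨AddSubgroup.mem_top _, fun w _ => ?_⟩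
    have : w = k • (k⁻¹ • w) := by rw [smul_inv_smul]
    rw [this, beta_smul q hequiv, hLV k hk]
    exact ((mem_rad q ⊤ l _).mp ht).2 _ (AddSubgroup.mem_top _)
  -- the `L`-trace of `t` vanishes
  have hs : ∑ k : L, (k : 𝒩) • t = 0 := by
    apply hLfpf
    intro g hg
    rw [Finset.smul_sum]
    rw [← Fintype.sum_equiv (Equiv.mulLeft (⟨g, hg⟩ : L)) (fun k : L => g • (k : 𝒩) • t)
      (fun k : L => (k : 𝒩) • t)]
    intro k
    simp [mul_smul]
  have h1 := sq_sum_rad q l Finset.univ (fun k : L => (k : 𝒩) • t) (fun k _ => hinv k k.2)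
  rw [hs, q.sq_zero, map_zero] at h1
  have h2 : ∀ k : L, l (q.sq ((k : 𝒩) • t)) = l (q.sq t) := by
    intro k
    rw [hequiv, hLV k k.2]
  rw [Finset.sum_congr rfl (fun k _ => h2 k), Finset.sum_const, Finset.card_univ,
    ← Nat.card_eq_fintype_card, nsmul_eq_mul, (ZMod.natCast_eq_one_iff_odd).mpr hLodd, one_mul] at h1
  exact h1.symm

theorem gsum_smul [Finite W] (hequiv : ∀ (n : 𝒩) (w : W), q.sq (n • w) = n • q.sq w)
    (l l' : V →+ ZMod 2) (n : 𝒩) (h : ∀ v : V, l' v = l (n • v)) :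
    gsum q ⊤ l' = gsum q ⊤ l := by
  unfold gsum
  let e : (⊤ : AddSubgroup W) ≃ (⊤ : AddSubgroup W) :=
    { toFun := fun w => ⟨n • (w : W), AddSubgroup.mem_top _⟩
      invFun := fun w => ⟨n⁻¹ • (w : W), AddSubgroup.mem_top _⟩
      left_inv := fun w => by simp
      right_inv := fun w => by simp }
  rw [← finsum_comp_equiv e (f := fun w : (⊤ : AddSubgroup W) => sgn (l (q.sq (w : W))))]
  apply finsum_congr
  intro w
  rw [h, ← hequiv]
  rfl

end

theorem nondeg_of_transitive {𝒩 W V : Type*} [Group 𝒩] [Finite 𝒩] [AddCommGroup W] [Finite W]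
    [AddCommGroup V] [Finite V] [DistribMulAction 𝒩 W] [DistribMulAction 𝒩 V] (q : QMap W V)
    (hequiv : ∀ (n : 𝒩) (w : W), q.sq (n • w) = n • q.sq w)
    (htrans : ∀ v v' : V, v ≠ 0 → v' ≠ 0 → ∃ n : 𝒩, n • v = v')
    (hW : ∃ w : W, w ≠ 0)
    (L : Subgroup 𝒩) (hLodd : Odd (Nat.card L)) (hLV : ∀ l ∈ L, ∀ v : V, l • v = v)
    (hLfpf : ∀ w : W, (∀ l ∈ L, l • w = w) → w = 0) :
    Nat.card W = Nat.card V ^ 2 ∧ Nondeg q ⊤ := by
  classical
  obtain ⟨w₀, hw₀⟩ := hW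
  have hv₀ : q.sq w₀ ≠ 0 := fun h => hw₀ (q.aniso w₀ h)
  obtain ⟨l₀, hl₀v⟩ := exists_dual_ne_zero q.hV2 hv₀
  have hl₀ : l₀ ≠ 0 := by
    rintro rfl
    exact hl₀v rfl
  have hrad := hrad_of_fpf q hequiv L hLodd hLV hLfpf
  -- all non-trivial Gauss sums are equal
  have hconst : ∀ l : V →+ ZMod 2, l ≠ 0 → gsum q ⊤ l = gsum q ⊤ l₀ := by
    intro l hl
    obtain ⟨n, hn⟩ := TIBR.dual_transitive q.hV2 htrans l₀ l hl₀ hl
    exact gsum_smul q hequiv l₀ l n hn
  set S := gsum q ⊤ l₀ with hS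
  have hfinD : Finite (V →+ ZMod 2) :=
    Finite.of_injective (fun f => (f : V → ZMod 2)) DFunLike.coe_injective
  have : Fintype (V →+ ZMod 2) := Fintype.ofFinite _
  have hsum := finsum_gsum q (⊤ : AddSubgroup W)
  rw [finsum_eq_sum_of_fintype, ← Finset.add_sum_erase Finset.univ _ (Finset.mem_univ 0),
    gsum_zero, Finset.sum_congr rfl (fun l hl => hconst l (Finset.ne_of_mem_erase hl)),
    Finset.sum_const, Finset.card_erase_of_mem (Finset.mem_univ _), Finset.card_univ,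
    ← Nat.card_eq_fintype_card, card_dual q.hV2, AddSubgroup.card_top, nsmul_eq_mul] at hsum
  obtain ⟨k, hk⟩ := card_two_pow q.hW2
  obtain ⟨m, hm⟩ := card_two_pow q.hV2
  have hsq := gsum_sq q ⊤ l₀ (hrad l₀)
  rw [AddSubgroup.card_top] at hsq
  obtain ⟨d, hd⟩ := card_two_pow (A := rad q ⊤ l₀) (fun a => by
    apply Subtype.ext
    exact q.hW2 a)
  have hdk : d ≤ k := by
    have := AddSubgroup.card_addSubgroup_dvd_card (rad q ⊤ l₀)
    rw [hd, hk] at this
    exact (Nat.pow_dvd_pow_iff_le_right (by norm_num)).mp this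
  have hk1 : 1 ≤ k := by
    by_contra hcon
    have hk0 : k = 0 := by omega
    rw [hk0, pow_zero] at hk
    have := (Nat.card_eq_one_iff_unique.mp hk).1
    exact hw₀ (Subsingleton.elim _ _)
  have hm1 : 1 ≤ m := by
    by_contra hcon
    have hm0 : m = 0 := by omega
    rw [hm0, pow_zero] at hm
    have := (Nat.card_eq_one_iff_unique.mp hm).1
    exact hv₀ (Subsingleton.elim _ _)
  have hVpos : 1 ≤ Nat.card V := Nat.card_pos
  rw [Nat.cast_sub hVpos, hk, hm] at hsum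
  rw [hk, hd] at hsq
  push_cast at hsum hsq
  obtain ⟨hk2, hd0⟩ := arith k m d S hk1 hm1 hdk hsum hsq
  refine ⟨by rw [hk, hm, hk2, ← pow_mul, mul_comm], ?_⟩
  intro l hl t _ ht
  have hsq' := gsum_sq q ⊤ l (hrad l)
  rw [hconst l hl, AddSubgroup.card_top, hk] at hsq'
  rw [hd0] at hsq
  push_cast at hsq hsq'
  have hr : ((Nat.card (rad q ⊤ l) : ℕ) : ℤ) = 1 := by
    have hpos : (0 : ℤ) < 2 ^ k := by positivity
    have : (2 : ℤ) ^ k * (Nat.card (rad q ⊤ l) : ℤ) = 2 ^ k * 1 := by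
      rw [← hsq', hsq]
    exact mul_left_cancel₀ hpos.ne' this
  have hr' : Nat.card (rad q ⊤ l) = 1 := by exact_mod_cast hr
  have hbot : rad q ⊤ l = ⊥ := AddSubgroup.eq_bot_of_card_eq _ hr'
  have hmem : t ∈ rad q ⊤ l := (mem_rad q ⊤ l t).mpr ⟨AddSubgroup.mem_top _, ht⟩
  rw [hbot] at hmem
  exact (AddSubgroup.mem_bot).mp hmem

end Cfsg.Agent.Lib.Lead.TIND
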