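import Mathlib
import Cfsg.Prelude.Def_ClassicalGeometry
import Cfsg.Agent.Lib.Helper2.SpIsom

set_option autoImplicit false

/-!
S5955 mini-swarm, package PK-CNT: counting totally isotropic frames in two ways,
`|Ω| · ∏_{j<m} (q^m − q^j) = ∏_{j<m} (q^(2d−j) − q^j)`, and its two corollaries.
-/

namespace Cfsg.Agent.Lib.Helper1.TISp

open Module

section abstract
variable {K V : Type*} [Field K] [AddCommGroup V] [Module K V]

/-- totally isotropic frames of length `k` -/
abbrev CntFrame (B : LinearMap.BilinForm K V) (k : ℕ) : Type _ :=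
  {s : Fin k → V // LinearIndependent K s ∧ ∀ i j, B (s i) (s j) = 0}

/-- the vectors extending a frame -/
abbrev CntExt (B : LinearMap.BilinForm K V) {k : ℕ} (s : Fin k → V) : Type _ :=
  {w : V // (∀ i, B (s i) w = 0) ∧ w ∉ Submodule.span K (Set.range s)}

/-- the totally isotropic subspaces of dimension `m` -/
abbrev CntTI (B : LinearMap.BilinForm K V) (m : ℕ) : Type _ :=
  {W : Submodule K V // finrank K W = m ∧ ∀ u ∈ W, ∀ v ∈ W, B u v = 0}

/-- a frame of length `k + 1` is a frame of length `k` and an extending vector -/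
def cntEquiv (B : LinearMap.BilinForm K V) (hB : B.IsAlt) (k : ℕ) :
    CntFrame B (k + 1) ≃ Σ s : CntFrame B k, CntExt B s.1 where
  toFun s := ⟨⟨Fin.tail s.1, (linearIndependent_finSucc.mp s.2.1).1, fun i j => s.2.2 _ _⟩,
    ⟨s.1 0, fun i => s.2.2 _ _, (linearIndependent_finSucc.mp s.2.1).2⟩⟩
  invFun x := ⟨Fin.cons x.2.1 x.1.1, linearIndependent_finCons.mpr ⟨x.1.2.1, x.2.2.2⟩, by
    intro i j
    refine Fin.cases ?_ (fun i' => ?_) i <;> refine Fin.cases ?_ (fun j' => ?_) j
    · simp only [Fin.cons_zero]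
      exact hB.self_eq_zero _
    · simp only [Fin.cons_zero, Fin.cons_succ]
      rw [← hB.neg_eq, x.2.2.1 j', neg_zero]
    · simp only [Fin.cons_zero, Fin.cons_succ]
      exact x.2.2.1 i'
    · simp only [Fin.cons_succ]
      exact x.1.2.2 i' j'⟩
  left_inv _ := by simp only [Fin.cons_self_tail, Subtype.coe_eta]
  right_inv := by
    rintro ⟨⟨s, hs⟩, ⟨w, hw⟩⟩
    refine Sigma.ext (Subtype.ext (by
      show Fin.tail (Fin.cons w s : Fin (k + 1) → V) = s
      exact Fin.tail_cons _ _)) ?_
    apply (Subtype.heq_iff_coe_eq ?_).2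
    · simp
    · intro x
      simp [Fin.tail_cons]

theorem cnt_finite (K : Type*) {V : Type*} [Field K] [Fintype K] [AddCommGroup V] [Module K V]
    [FiniteDimensional K V] : Finite V := Module.finite_of_finite K

variable [Fintype K] [FiniteDimensional K V]

/-- the number of extensions of a frame -/
theorem cnt_card_ext (B : LinearMap.BilinForm K V) (hB : B.IsAlt)
    (hnd : ∀ x, (∀ y, B x y = 0) → x = 0) {k : ℕ} (s : CntFrame B k) :
    Nat.card (CntExt B s.1) = Fintype.card K ^ (finrank K V - k) - Fintype.card K ^ k := by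
  classical
  have : Finite V := cnt_finite K
  set S := Submodule.span K (Set.range s.1) with hS
  have hBnd : B.Nondegenerate := by
    refine ⟨hnd, fun y hy => hnd y fun x => ?_⟩
    rw [← hB.neg_eq, hy x, neg_zero]
  have hfS : finrank K S = k := by
    rw [hS, finrank_span_eq_card s.2.1, Fintype.card_fin]
  have hfP : finrank K (B.orthogonal S) = finrank K V - k := by
    rw [LinearMap.BilinForm.finrank_orthogonal hBnd, hfS]
  have hmem : ∀ w : V, w ∈ B.orthogonal S ↔ ∀ i, B (s.1 i) w = 0 := by
    intro w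
    rw [LinearMap.BilinForm.mem_orthogonal_iff]
    constructor
    · intro h i
      exact h _ (Submodule.subset_span ⟨i, rfl⟩)
    · intro h u hu
      induction hu using Submodule.span_induction with
      | mem x hx =>
        obtain ⟨i, rfl⟩ := hx
        exact h i
      | zero => simp
      | add x y _ _ hx hy => rw [map_add, LinearMap.add_apply, hx, hy, add_zero]
      | smul a x _ hx => rw [map_smul, LinearMap.smul_apply, hx, smul_zero]
  have hle : (S : Set V) ⊆ (B.orthogonal S : Set V) := by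
    have h1 : S ≤ B.orthogonal S := by
      rw [hS, Submodule.span_le]
      rintro _ ⟨j, rfl⟩
      rw [SetLike.mem_coe, ← hS, hmem]
      intro i
      exact s.2.2 i j
    exact h1
  have e : CntExt B s.1 ≃ ↥((B.orthogonal S : Set V) \ (S : Set V)) :=
    Equiv.subtypeEquivRight fun w => by
      rw [Set.mem_sdiff, SetLike.mem_coe, SetLike.mem_coe, hmem]
  rw [Nat.card_congr e, Nat.card_coe_set_eq, Set.ncard_sdiff hle (Set.toFinite _),
    ← Nat.card_coe_set_eq, ← Nat.card_coe_set_eq]
  have c1 : Nat.card ↥(B.orthogonal S : Set V) = Fintype.card K ^ (finrank K V - k) := by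
    have := Module.natCard_eq_pow_finrank (K := K) (V := ↥(B.orthogonal S))
    rw [hfP, Nat.card_eq_fintype_card (α := K)] at this
    exact this
  have c2 : Nat.card ↥(S : Set V) = Fintype.card K ^ k := by
    have := Module.natCard_eq_pow_finrank (K := K) (V := ↥S)
    rw [hfS, Nat.card_eq_fintype_card (α := K)] at this
    exact this
  rw [c1, c2]

/-- the number of frames -/
theorem cnt_card_frame (B : LinearMap.BilinForm K V) (hB : B.IsAlt)
    (hnd : ∀ x, (∀ y, B x y = 0) → x = 0) (k : ℕ) :
    Nat.card (CntFrame B k) =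
      ∏ j ∈ Finset.range k, (Fintype.card K ^ (finrank K V - j) - Fintype.card K ^ j) := by
  classical
  have : Finite V := cnt_finite K
  induction k with
  | zero =>
    rw [Finset.prod_range_zero]
    haveI : Unique (CntFrame B 0) :=
      { default := ⟨Fin.elim0, linearIndependent_empty_type, fun i => i.elim0⟩
        uniq := fun s => Subtype.ext (funext fun i => i.elim0) }
    exact Nat.card_unique
  | succ k ih =>
    let _ : Fintype (CntFrame B k) := Fintype.ofFinite _
    rw [Nat.card_congr (cntEquiv B hB k), Nat.card_sigma, Finset.prod_range_succ, ← ih]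
    simp only [cnt_card_ext B hB hnd]
    rw [Finset.sum_const, smul_eq_mul, Finset.card_univ, Nat.card_eq_fintype_card]

/-- the subspace spanned by a frame -/
noncomputable def cntSpan (B : LinearMap.BilinForm K V) (m : ℕ) (s : CntFrame B m) : CntTI B m :=
  ⟨Submodule.span K (Set.range s.1), by rw [finrank_span_eq_card s.2.1, Fintype.card_fin], by
    intro u hu v hv
    induction hu using Submodule.span_induction with
    | mem x hx =>
      obtain ⟨i, rfl⟩ := hx
      induction hv using Submodule.span_induction with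
      | mem y hy =>
        obtain ⟨j, rfl⟩ := hy
        exact s.2.2 i j
      | zero => simp
      | add x y _ _ hx hy => rw [map_add, hx, hy, add_zero]
      | smul a x _ hx => rw [map_smul, hx, smul_zero]
    | zero => simp
    | add x y _ _ hx hy => rw [map_add, LinearMap.add_apply, hx, hy, add_zero]
    | smul a x _ hx => rw [map_smul, LinearMap.smul_apply, hx, smul_zero]⟩

/-- the frames spanning a given subspace are its bases -/
noncomputable def cntFiberEquiv (B : LinearMap.BilinForm K V) (m : ℕ) (W : CntTI B m) :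
    {s : CntFrame B m // cntSpan B m s = W} ≃ {t : Fin m → W.1 // LinearIndependent K t} where
  toFun s := ⟨fun i => ⟨s.1.1 i, by
      have h := congrArg Subtype.val s.2
      rw [← h]
      exact Submodule.subset_span ⟨i, rfl⟩⟩,
    LinearIndependent.of_comp W.1.subtype s.1.2.1⟩
  invFun t := ⟨⟨fun i => (t.1 i : V),
      t.2.map' W.1.subtype (Submodule.ker_subtype _),
      fun i j => W.2.2 _ (t.1 i).2 _ (t.1 j).2⟩, by
    apply Subtype.ext
    show Submodule.span K (Set.range fun i => (t.1 i : V)) = W.1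
    apply Submodule.eq_of_le_of_finrank_eq
    · rw [Submodule.span_le]
      rintro _ ⟨i, rfl⟩
      exact (t.1 i).2
    · have h3 := finrank_span_eq_card (t.2.map' W.1.subtype (Submodule.ker_subtype _))
      rw [Fintype.card_fin] at h3
      exact h3.trans W.2.1.symm⟩
  left_inv s := by
    apply Subtype.ext
    apply Subtype.ext
    rfl
  right_inv t := by
    apply Subtype.ext
    funext i
    rfl

/-- the two counts of the frames -/
theorem cnt_main (B : LinearMap.BilinForm K V) (hB : B.IsAlt)
    (hnd : ∀ x, (∀ y, B x y = 0) → x = 0) (m : ℕ) :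
    Nat.card (CntTI B m) * ∏ j ∈ Finset.range m, (Fintype.card K ^ m - Fintype.card K ^ j) =
      ∏ j ∈ Finset.range m, (Fintype.card K ^ (finrank K V - j) - Fintype.card K ^ j) := by
  classical
  have : Finite V := cnt_finite K
  haveI : Finite (CntTI B m) :=
    Finite.of_injective (fun W : CntTI B m => (W.1 : Set V)) fun W W' h =>
      Subtype.ext (SetLike.coe_injective h)
  let _ : Fintype (CntTI B m) := Fintype.ofFinite _
  rw [← cnt_card_frame B hB hnd m, Nat.card_congr (Equiv.sigmaFiberEquiv (cntSpan B m)).symm,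
    Nat.card_sigma]
  have hfib : ∀ W : CntTI B m, Nat.card {s : CntFrame B m // cntSpan B m s = W} =
      ∏ j ∈ Finset.range m, (Fintype.card K ^ m - Fintype.card K ^ j) := by
    intro W
    rw [Nat.card_congr (cntFiberEquiv B m W)]
    have h := card_linearIndependent (K := K) (V := W.1) (k := m) (le_of_eq W.2.1.symm)
    rw [h, W.2.1]
    exact Fin.prod_univ_eq_prod_range (fun j => Fintype.card K ^ m - Fintype.card K ^ j) m
  simp only [hfib]
  rw [Finset.sum_const, smul_eq_mul, Finset.card_univ, Nat.card_eq_fintype_card]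

end abstract

/-- the arithmetic: cancelling the powers of `q` -/
theorem cnt_arith (q N d m : ℕ) (hq : 1 ≤ q) (hmd : m ≤ d)
    (h : N * ∏ j ∈ Finset.range m, (q ^ m - q ^ j) =
      ∏ j ∈ Finset.range m, (q ^ (2 * d - j) - q ^ j)) :
    N * ∏ j ∈ Finset.range m, (q ^ (m - j) - 1) =
      ∏ j ∈ Finset.range m, (q ^ (2 * (d - j)) - 1) := by
  have h1 : ∏ j ∈ Finset.range m, (q ^ m - q ^ j) =
      (∏ j ∈ Finset.range m, q ^ j) * ∏ j ∈ Finset.range m, (q ^ (m - j) - 1) := by
    rw [← Finset.prod_mul_distrib]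
    apply Finset.prod_congr rfl
    intro j hj
    rw [Finset.mem_range] at hj
    have e : m = j + (m - j) := by omega
    nth_rewrite 1 [e]
    rw [pow_add, Nat.mul_sub_one]
  have h2 : ∏ j ∈ Finset.range m, (q ^ (2 * d - j) - q ^ j) =
      (∏ j ∈ Finset.range m, q ^ j) * ∏ j ∈ Finset.range m, (q ^ (2 * (d - j)) - 1) := by
    rw [← Finset.prod_mul_distrib]
    apply Finset.prod_congr rfl
    intro j hj
    rw [Finset.mem_range] at hj
    have e : 2 * d - j = j + 2 * (d - j) := by omega
    rw [e, pow_add, Nat.mul_sub_one]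
  rw [h1, h2] at h
  have hpos : 0 < ∏ j ∈ Finset.range m, q ^ j :=
    Finset.prod_pos fun j _ => Nat.pow_pos (by omega)
  apply Nat.eq_of_mul_eq_mul_left hpos
  rw [← h]
  ring

section cnt
variable {F : Type*} [Field F] [Fintype F] {p : ℕ} [Fact p.Prime] [CharP F p]

/-- the counting identity for the standard symplectic space -/
theorem cnt_symp (d m : ℕ) (hmd : m ≤ d) :
    Nat.card {W : Submodule F (Fin d ⊕ Fin d → F) // finrank F ↥W = m ∧
      (∀ u ∈ W, ∀ v ∈ W, Cfsg.sympForm d F u v = 0)} *
        ∏ j ∈ Finset.range m, (Fintype.card F ^ (m - j) - 1) =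
      ∏ j ∈ Finset.range m, (Fintype.card F ^ (2 * (d - j)) - 1) := by
  have e : {W : Submodule F (Fin d ⊕ Fin d → F) // finrank F ↥W = m ∧
      (∀ u ∈ W, ∀ v ∈ W, Cfsg.sympForm d F u v = 0)} ≃
      CntTI (Cfsg.Agent.Lib.Helper2.SpIsom.sympBilin d F) m :=
    Equiv.subtypeEquivRight fun W => by
      simp only [Cfsg.Agent.Lib.Helper2.SpIsom.sympBilin_apply]
  rw [Nat.card_congr e]
  apply cnt_arith _ _ d m Fintype.card_pos hmd
  have h := cnt_main (Cfsg.Agent.Lib.Helper2.SpIsom.sympBilin d F)
    Cfsg.Agent.Lib.Helper2.SpIsom.sympBilin_isAlt (fun x hx =>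
      Cfsg.Agent.Lib.Helper2.SpIsom.sympForm_nondeg x fun y => by
        rw [← Cfsg.Agent.Lib.Helper2.SpIsom.sympBilin_apply]; exact hx y) m
  have hfin : finrank F (Fin d ⊕ Fin d → F) = 2 * d := by
    rw [Module.finrank_fintype_fun_eq_card, Fintype.card_sum, Fintype.card_fin]
    omega
  rw [hfin] at h
  exact h

theorem not_char_dvd_card_ti (d m : ℕ) (hmd : m ≤ d) :
    ¬ p ∣ Nat.card {W : Submodule F (Fin d ⊕ Fin d → F) // finrank F ↥W = m ∧
      (∀ u ∈ W, ∀ v ∈ W, Cfsg.sympForm d F u v = 0)} := by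
  intro hp
  have hpp : p.Prime := Fact.out
  have h := cnt_symp (F := F) d m hmd
  have hdvd : p ∣ ∏ j ∈ Finset.range m, (Fintype.card F ^ (2 * (d - j)) - 1) := by
    rw [← h]
    exact Dvd.dvd.mul_right hp _
  obtain ⟨j, hj, hpj⟩ := (Prime.dvd_finsetProd_iff hpp.prime _).1 hdvd
  rw [Finset.mem_range] at hj
  have hpq : p ∣ Fintype.card F := by
    obtain ⟨n, -, hn⟩ := FiniteField.card F p
    rw [hn]
    exact dvd_pow_self p n.ne_zero
  have hpq' : p ∣ Fintype.card F ^ (2 * (d - j)) := hpq.trans (dvd_pow_self _ (by omega))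
  have hpos : 1 ≤ Fintype.card F ^ (2 * (d - j)) := Nat.one_le_pow _ _ Fintype.card_pos
  have h1 : p ∣ 1 := by
    have := (Nat.dvd_sub hpq' hpj)
    rwa [Nat.sub_sub_self hpos] at this
  exact hpp.one_lt.ne' (Nat.dvd_one.1 h1)

theorem exists_dvd_of_dvd_card_ti (d m : ℕ) (hmd : m ≤ d) (r : ℕ) (hr : r.Prime) (hrp : r ≠ p)
    (h : r ∣ Nat.card {W : Submodule F (Fin d ⊕ Fin d → F) // finrank F ↥W = m ∧
      (∀ u ∈ W, ∀ v ∈ W, Cfsg.sympForm d F u v = 0)}) :
    ∃ j, j < m ∧ r ∣ Fintype.card F ^ (2 * (d - j)) - 1 := by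
  have h0 := cnt_symp (F := F) d m hmd
  have hdvd : r ∣ ∏ j ∈ Finset.range m, (Fintype.card F ^ (2 * (d - j)) - 1) := by
    rw [← h0]
    exact Dvd.dvd.mul_right h _
  obtain ⟨j, hj, hrj⟩ := (Prime.dvd_finsetProd_iff hr.prime _).1 hdvd
  exact ⟨j, Finset.mem_range.1 hj, hrj⟩

end cnt

end Cfsg.Agent.Lib.Helper1.TISp
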