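import Mathlib

/-!
# Weil representation of `Sp_{2n}(F)`, `F` finite of odd order: definitions

Hilbert space `H = ((Fin n → F) → ℂ)`, Weyl operators `weyl ψ x y`, parity `par`,
odd / even functions, explicit operators of the (lower triangular) Siegel parabolic.
Used for the existence half of S2347.
-/

namespace Cfsg.Agent.Lib.Lead.Weil

open Matrix

variable {F : Type*} [Field F] {n : ℕ}

/-- The function space on which everything acts. -/
abbrev Hsp (n : ℕ) (F : Type*) : Type _ := (Fin n → F) → ℂ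

/-- Weyl operator: `(weyl ψ x y f) t = ψ (y ⬝ t + x ⬝ y / 2) * f (t + x)`. -/
noncomputable def weyl (ψ : AddChar F ℂ) (x y : Fin n → F) : Hsp n F →ₗ[ℂ] Hsp n F where
  toFun f := fun t => ψ (y ⬝ᵥ t + 2⁻¹ * (x ⬝ᵥ y)) * f (t + x)
  map_add' f g := by funext t; simp [mul_add]
  map_smul' c f := by funext t; simp [mul_left_comm]

@[simp] theorem weyl_apply (ψ : AddChar F ℂ) (x y : Fin n → F) (f : Hsp n F) (t : Fin n → F) :
    weyl ψ x y f t = ψ (y ⬝ᵥ t + 2⁻¹ * (x ⬝ᵥ y)) * f (t + x) := rfl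

/-- Weyl operator indexed by a vector of `F^{2n}` (as `Fin n ⊕ Fin n → F`). -/
noncomputable def W (ψ : AddChar F ℂ) (v : Fin n ⊕ Fin n → F) : Hsp n F →ₗ[ℂ] Hsp n F :=
  weyl ψ (v ∘ Sum.inl) (v ∘ Sum.inr)

/-- The alternating form `x ⬝ y' - x' ⬝ y`. -/
def altB (u v : Fin n ⊕ Fin n → F) : F :=
  (u ∘ Sum.inl) ⬝ᵥ (v ∘ Sum.inr) - (v ∘ Sum.inl) ⬝ᵥ (u ∘ Sum.inr)

/-- Parity operator `(par f) t = f (-t)`. -/
def par : Hsp n F →ₗ[ℂ] Hsp n F where
  toFun f := fun t => f (-t)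
  map_add' f g := by funext t; simp
  map_smul' c f := by funext t; simp

@[simp] theorem par_apply (f : Hsp n F) (t : Fin n → F) : par f t = f (-t) := rfl

/-- Odd functions. -/
def oddS (n : ℕ) (F : Type*) [Field F] : Submodule ℂ (Hsp n F) where
  carrier := {f | ∀ t, f (-t) = - f t}
  add_mem' := by intro f g hf hg t; simp [hf t, hg t, add_comm]
  zero_mem' := by intro t; simp
  smul_mem' := by intro c f hf t; simp [hf t]

/-- Even functions. -/
def evenS (n : ℕ) (F : Type*) [Field F] : Submodule ℂ (Hsp n F) where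
  carrier := {f | ∀ t, f (-t) = f t}
  add_mem' := by intro f g hf hg t; simp [hf t, hg t]
  zero_mem' := by intro t; simp
  smul_mem' := by intro c f hf t; simp [hf t]

theorem mem_oddS {f : Hsp n F} : f ∈ oddS n F ↔ ∀ t, f (-t) = - f t := Iff.rfl
theorem mem_evenS {f : Hsp n F} : f ∈ evenS n F ↔ ∀ t, f (-t) = f t := Iff.rfl

/-- Multiplication by the quadratic character `t ↦ ψ (-(t ⬝ C t)/2)`. -/
noncomputable def mulQ (ψ : AddChar F ℂ) (C : Matrix (Fin n) (Fin n) F) : Hsp n F →ₗ[ℂ] Hsp n F where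
  toFun f := fun t => ψ (-(2⁻¹ * (t ⬝ᵥ C *ᵥ t))) * f t
  map_add' f g := by funext t; simp [mul_add]
  map_smul' c f := by funext t; simp [mul_left_comm]

@[simp] theorem mulQ_apply (ψ : AddChar F ℂ) (C : Matrix (Fin n) (Fin n) F) (f : Hsp n F)
    (t : Fin n → F) : mulQ ψ C f t = ψ (-(2⁻¹ * (t ⬝ᵥ C *ᵥ t))) * f t := rfl

/-- Dilation `f ↦ f (A⁻¹ ·)`. -/
noncomputable def dilA (A : Matrix (Fin n) (Fin n) F) : Hsp n F →ₗ[ℂ] Hsp n F where
  toFun f := fun t => f (A⁻¹ *ᵥ t)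
  map_add' f g := by funext t; simp
  map_smul' c f := by funext t; simp

@[simp] theorem dilA_apply (A : Matrix (Fin n) (Fin n) F) (f : Hsp n F) (t : Fin n → F) :
    dilA A f t = f (A⁻¹ *ᵥ t) := rfl

/-- `T` implements the symplectic matrix `g` on the Weyl operators. -/
def Implements (ψ : AddChar F ℂ) (g : Matrix (Fin n ⊕ Fin n) (Fin n ⊕ Fin n) F)
    (T : Hsp n F →ₗ[ℂ] Hsp n F) : Prop :=
  ∀ v, T ∘ₗ W ψ v = W ψ (g *ᵥ v) ∘ₗ T

end Cfsg.Agent.Lib.Lead.Weil
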