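import Mathlib
import Cfsg.Agent.Lib.Lead.WeilDefs

/-!
# PK-W7 (S2347 existence half): irreducibility core on odd functions.
-/

namespace Cfsg.Agent.Lib.Lead.Weil

open Matrix

variable {F : Type*} [Field F] [Fintype F] [DecidableEq F] {n : ℕ} (ψ : AddChar F ℂ)

/-- `GL_n` is transitive on non-zero vectors. -/
theorem exists_gl_map {s t : Fin n → F} (hs : s ≠ 0) (ht : t ≠ 0) :
    ∃ A : Matrix (Fin n) (Fin n) F, IsUnit A.det ∧ A *ᵥ s = t := by
  -- a functional φ with φ ⬝ s = 1 and φ ⬝ t ≠ 0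
  obtain ⟨φ, hφs, hφt⟩ : ∃ φ : Fin n → F, φ ⬝ᵥ s = 1 ∧ φ ⬝ᵥ t ≠ 0 := by
    by_cases hex : ∃ i, s i ≠ 0 ∧ t i ≠ 0
    · obtain ⟨i, hsi, hti⟩ := hex
      refine ⟨Pi.single i (s i)⁻¹, ?_, ?_⟩
      · rw [single_dotProduct, inv_mul_cancel₀ hsi]
      · rw [single_dotProduct]; exact mul_ne_zero (inv_ne_zero hsi) hti
    · push_neg at hex
      obtain ⟨i, hsi⟩ : ∃ i, s i ≠ 0 := by
        by_contra h; push_neg at h; exact hs (funext h)
      obtain ⟨j, htj⟩ : ∃ j, t j ≠ 0 := by
        by_contra h; push_neg at h; exact ht (funext h)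
      have hti : t i = 0 := hex i hsi
      have hsj : s j = 0 := by
        by_contra h; exact htj (hex j h)
      refine ⟨Pi.single i (s i)⁻¹ + Pi.single j 1, ?_, ?_⟩
      · rw [add_dotProduct, single_dotProduct, single_dotProduct, inv_mul_cancel₀ hsi, hsj]; simp
      · rw [add_dotProduct, single_dotProduct, single_dotProduct, hti]; simpa using htj
  refine ⟨1 + replicateCol Unit (t - s) * replicateRow Unit φ, ?_, ?_⟩
  · rw [det_one_add_replicateCol_mul_replicateRow, dotProduct_sub, hφs]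
    simpa using hφt
  · have : (replicateCol Unit (t - s) * replicateRow Unit φ) *ᵥ s = (φ ⬝ᵥ s) • (t - s) := by
      funext a
      simp [mulVec, dotProduct, Matrix.mul_apply, Finset.mul_sum, mul_assoc, mul_comm]
    rw [add_mulVec, one_mulVec, this, hφs, one_smul]
    abel

/-- the quadratic expression for a matrix unit. -/
theorem dot_single_mulVec (i j : Fin n) (c : F) (x : Fin n → F) :
    x ⬝ᵥ (Matrix.single i j c) *ᵥ x = c * x i * x j := by
  rw [single_mulVec]
  have : Function.update (0 : Fin n → F) i (c * x j) = Pi.single i (c * x j) := rfl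
  rw [this, dotProduct_single]
  ring

/-- the character `B ↦ ψ (s ⬝ B s - t ⬝ B t)` on all matrices. -/
noncomputable def sepChar (s t : Fin n → F) : AddChar (Matrix (Fin n) (Fin n) F) ℂ where
  toFun B := ψ (s ⬝ᵥ B *ᵥ s - t ⬝ᵥ B *ᵥ t)
  map_zero_eq_one' := by simp
  map_add_eq_mul' B B' := by
    rw [← AddChar.map_add_eq_mul]
    congr 1
    rw [add_mulVec, add_mulVec, dotProduct_add, dotProduct_add]
    ring

theorem sepChar_apply (s t : Fin n → F) (B : Matrix (Fin n) (Fin n) F) :
    sepChar ψ s t B = ψ (s ⬝ᵥ B *ᵥ s - t ⬝ᵥ B *ᵥ t) := rfl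

theorem sepChar_eq_zero_imp (hψ : ψ ≠ 1) {s t : Fin n → F} (h : sepChar ψ s t = 0) :
    ∀ i j, s i * s j = t i * t j := by
  intro i j
  by_contra hne
  have hd : s i * s j - t i * t j ≠ 0 := sub_ne_zero.mpr hne
  obtain ⟨r, hr⟩ := AddChar.ne_one_iff.mp hψ
  have h1 : sepChar ψ s t (Matrix.single i j (r / (s i * s j - t i * t j))) = 1 := by
    rw [h]; rfl
  rw [sepChar_apply, dot_single_mulVec, dot_single_mulVec] at h1
  have : r / (s i * s j - t i * t j) * s i * s j - r / (s i * s j - t i * t j) * t i * t j = r := by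
    field_simp
  rw [this] at h1
  exact hr h1

theorem eq_or_eq_neg_of_prod (h2 : (2 : F) ≠ 0) {s t : Fin n → F} (hs : s ≠ 0)
    (h : ∀ i j, s i * s j = t i * t j) : t = s ∨ t = -s := by
  obtain ⟨i, hsi⟩ : ∃ i, s i ≠ 0 := by
    by_contra h'; push_neg at h'; exact hs (funext h')
  have hii := h i i
  have hsq : (t i - s i) * (t i + s i) = 0 := by linear_combination -hii
  rcases mul_eq_zero.mp hsq with h1 | h1
  · left
    have hti : t i = s i := sub_eq_zero.mp h1
    funext j
    have := h i j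
    rw [hti] at this
    exact (mul_left_cancel₀ hsi this).symm
  · right
    have hti : t i = - s i := eq_neg_of_add_eq_zero_left h1
    funext j
    have := h i j
    rw [hti] at this
    have h3 : s i * s j = s i * (- t j) := by rw [this]; ring
    have := mul_left_cancel₀ hsi h3
    rw [Pi.neg_apply, this, neg_neg]

/-- separation: the restriction of `f ∈ M` to `{s, -s}` stays in `M`. -/
theorem restrict_mem (hψ : ψ ≠ 1) (h2 : (2 : F) ≠ 0) (M : Submodule ℂ (Hsp n F))
    (h1 : ∀ C : Matrix (Fin n) (Fin n) F, C.IsSymm → ∀ f ∈ M, mulQ ψ C f ∈ M)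
    {f : Hsp n F} (hf : f ∈ M) {s : Fin n → F} (hs : s ≠ 0) :
    (fun t => if t = s ∨ t = -s then f t else 0) ∈ M := by
  classical
  set N : ℂ := (Fintype.card (Matrix (Fin n) (Fin n) F) : ℂ) with hN
  have hN0 : N ≠ 0 := Nat.cast_ne_zero.mpr Fintype.card_ne_zero
  have hg : (N⁻¹ • ∑ B : Matrix (Fin n) (Fin n) F, ψ (s ⬝ᵥ B *ᵥ s) • mulQ ψ (B + Bᵀ) f) ∈ M :=
    M.smul_mem _ (Submodule.sum_mem _ fun B _ => M.smul_mem _ (h1 _ (isSymm_add_transpose_self B) f hf))
  convert hg using 1
  funext t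
  rw [Pi.smul_apply, Finset.sum_apply]
  have hterm : ∀ B : Matrix (Fin n) (Fin n) F,
      (ψ (s ⬝ᵥ B *ᵥ s) • mulQ ψ (B + Bᵀ) f) t = sepChar ψ s t B * f t := by
    intro B
    rw [Pi.smul_apply, mulQ_apply, smul_eq_mul, ← mul_assoc, ← AddChar.map_add_eq_mul, sepChar_apply]
    congr 2
    have h22 : (2 : F)⁻¹ * 2 = 1 := inv_mul_cancel₀ h2
    have hT : t ⬝ᵥ Bᵀ *ᵥ t = t ⬝ᵥ B *ᵥ t := by
      rw [mulVec_transpose, dotProduct_comm, ← dotProduct_mulVec]
    rw [add_mulVec, dotProduct_add, hT]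
    linear_combination (-(t ⬝ᵥ B *ᵥ t)) * h22
  rw [Finset.sum_congr rfl (fun B _ => hterm B), ← Finset.sum_mul, AddChar.sum_eq_ite]
  by_cases hst : t = s ∨ t = -s
  · rw [if_pos hst]
    have h0 : sepChar ψ s t = 0 := by
      apply DFunLike.ext
      intro B
      rw [sepChar_apply]
      rcases hst with rfl | rfl
      · simp
      · simp [mulVec_neg]
    rw [if_pos h0, smul_eq_mul, ← mul_assoc, inv_mul_cancel₀ hN0, one_mul]
  · rw [if_neg hst]
    have h0 : sepChar ψ s t ≠ 0 := by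
      intro h0
      exact hst (eq_or_eq_neg_of_prod h2 hs (sepChar_eq_zero_imp ψ hψ h0))
    rw [if_neg h0, zero_mul, smul_zero]

/-- the odd delta function `δ_s - δ_{-s}`. -/
noncomputable def oddDelta (s : Fin n → F) : Hsp n F := Pi.single s 1 - Pi.single (-s) 1

theorem oddDelta_apply (s u : Fin n → F) :
    oddDelta s u = (if u = s then 1 else 0) - (if u = -s then 1 else 0) := by
  unfold oddDelta
  rw [Pi.sub_apply, Pi.single_apply, Pi.single_apply]

theorem dilA_oddDelta (A : Matrix (Fin n) (Fin n) F) (hA : IsUnit A.det) (s : Fin n → F) :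
    dilA A (oddDelta s) = oddDelta (A *ᵥ s) := by
  funext u
  rw [dilA_apply, oddDelta_apply, oddDelta_apply]
  have e1 : A⁻¹ *ᵥ u = s ↔ u = A *ᵥ s := by
    constructor
    · intro h; rw [← h, mulVec_mulVec, Matrix.mul_nonsing_inv A hA, one_mulVec]
    · intro h; rw [h, mulVec_mulVec, Matrix.nonsing_inv_mul A hA, one_mulVec]
  have e2 : A⁻¹ *ᵥ u = -s ↔ u = -(A *ᵥ s) := by
    constructor
    · intro h; rw [← mulVec_neg, ← h, mulVec_mulVec, Matrix.mul_nonsing_inv A hA, one_mulVec]
    · intro h; rw [h, mulVec_neg, mulVec_mulVec, Matrix.nonsing_inv_mul A hA, one_mulVec]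
  simp only [e1, e2]

theorem odd_irreducible_core (hψ : ψ ≠ 1) (h2 : (2 : F) ≠ 0) (M : Submodule ℂ (Hsp n F)) (hM : M ≤ oddS n F)
    (h1 : ∀ C : Matrix (Fin n) (Fin n) F, C.IsSymm → ∀ f ∈ M, mulQ ψ C f ∈ M)
    (h3 : ∀ A : Matrix (Fin n) (Fin n) F, IsUnit A.det → ∀ f ∈ M, dilA A f ∈ M) :
    M = ⊥ ∨ M = oddS n F := by
  classical
  by_cases hbot : M = ⊥
  · left; exact hbot
  right
  obtain ⟨f, hfM, hf0⟩ := (Submodule.ne_bot_iff M).mp hbot
  have hfodd : ∀ t, f (-t) = - f t := hM hfM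
  obtain ⟨s, hfs⟩ : ∃ s, f s ≠ 0 := by
    by_contra h; push_neg at h; exact hf0 (funext h)
  have hs : s ≠ 0 := by
    rintro rfl
    have := hfodd 0
    rw [neg_zero] at this
    have h0 : f 0 = 0 := by
      have h4 : (2 : ℂ) * f 0 = 0 := by linear_combination this
      rcases mul_eq_zero.mp h4 with h5 | h5
      · norm_num at h5
      · exact h5
    exact hfs h0
  have hsne : s ≠ -s := by
    intro h
    have h4 : (2 : F) • s = 0 := by rw [two_smul]; nth_rewrite 1 [h]; simp
    rcases smul_eq_zero.mp h4 with h5 | h5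
    · exact h2 h5
    · exact hs h5
  -- δ_s - δ_{-s} ∈ M
  have hδs : oddDelta s ∈ M := by
    have hr := restrict_mem ψ hψ h2 M h1 hfM hs
    have : oddDelta s = (f s)⁻¹ • (fun t => if t = s ∨ t = -s then f t else 0) := by
      funext u
      rw [oddDelta_apply, Pi.smul_apply, smul_eq_mul]
      by_cases hus : u = s
      · subst hus
        rw [if_pos rfl, if_neg hsne, if_pos (Or.inl rfl), inv_mul_cancel₀ hfs, sub_zero]
      · by_cases hus' : u = -s
        · subst hus'
          rw [if_neg hus, if_pos rfl, if_pos (Or.inr rfl), hfodd s]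
          field_simp
          ring
        · rw [if_neg hus, if_neg hus', if_neg (by tauto), mul_zero, sub_zero]
    rw [this]
    exact M.smul_mem _ hr
  -- all odd deltas
  have hδ : ∀ t : Fin n → F, oddDelta t ∈ M := by
    intro t
    by_cases ht : t = 0
    · subst ht
      have : oddDelta (0 : Fin n → F) = 0 := by
        unfold oddDelta; rw [neg_zero, sub_self]
      rw [this]; exact M.zero_mem
    · obtain ⟨A, hA, hAs⟩ := exists_gl_map hs ht
      rw [← hAs, ← dilA_oddDelta A hA s]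
      exact h3 A hA _ hδs
  refine le_antisymm hM ?_
  intro g hg
  have hgodd : ∀ t, g (-t) = - g t := hg
  have : g = (2 : ℂ)⁻¹ • ∑ t : Fin n → F, g t • oddDelta t := by
    funext u
    rw [Pi.smul_apply, Finset.sum_apply]
    have hterm : ∀ t : Fin n → F, (g t • oddDelta t) u
        = (if t = u then g t else 0) - (if t = -u then g t else 0) := by
      intro t
      rw [Pi.smul_apply, oddDelta_apply, smul_eq_mul, mul_sub]
      congr 1
      · by_cases h : t = u
        · rw [if_pos h, if_pos h.symm, mul_one]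
        · rw [if_neg h, if_neg (Ne.symm h), mul_zero]
      · by_cases h : t = -u
        · rw [if_pos h, if_pos (by rw [h, neg_neg]), mul_one]
        · rw [if_neg h, if_neg (by intro h'; apply h; rw [h', neg_neg]), mul_zero]
    rw [Finset.sum_congr rfl (fun t _ => hterm t), Finset.sum_sub_distrib,
      Finset.sum_ite_eq' Finset.univ u, Finset.sum_ite_eq' Finset.univ (-u)]
    simp only [Finset.mem_univ, if_true]
    rw [hgodd u, smul_eq_mul]
    ring
  rw [this]
  exact M.smul_mem _ (Submodule.sum_mem _ fun t _ => M.smul_mem _ (hδ t))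

end Cfsg.Agent.Lib.Lead.Weil
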