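import Mathlib

set_option autoImplicit false

namespace Cfsg.Agent.Lib.Lead.TransInv

open Polynomial Module

variable {p : ℕ} [Fact p.Prime] {K : Type*} [Field K] [CharP K p]

/-- The cast `ZMod p → K` as a function. -/
noncomputable def ι (j : ZMod p) : K := (ZMod.cast j : K)

theorem ι_eq (j : ZMod p) : (ι j : K) = ZMod.castHom (dvd_refl p) K j := rfl

theorem ι_sub_one (j : ZMod p) : (ι (j - 1) : K) = ι j - 1 := by
  rw [ι_eq, ι_eq, map_sub, map_one]

theorem ι_injective : Function.Injective (ι : ZMod p → K) := by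
  intro a b h
  rw [ι_eq, ι_eq] at h
  exact (ZMod.castHom (dvd_refl p) K).injective h

/-- Evaluation of polynomials on the prime field. -/
noncomputable def ev : K[X] →ₗ[K] (ZMod p → K) where
  toFun P := fun j => P.eval (ι j)
  map_add' := by intro P Q; funext j; simp
  map_smul' := by intro c P; funext j; simp

theorem ev_apply (P : K[X]) (j : ZMod p) : ev P j = P.eval (ι j) := rfl

/-- The difference operator. -/
def Nop : (ZMod p → K) →ₗ[K] (ZMod p → K) where
  toFun f := fun j => f (j - 1) - f j
  map_add' := by intro f g; funext j; simp only [Pi.add_apply]; ring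
  map_smul' := by intro c f; funext j; simp only [Pi.smul_apply, smul_eq_mul, RingHom.id_apply]; ring

theorem Nop_apply (f : ZMod p → K) (j : ZMod p) : Nop f j = f (j - 1) - f j := rfl

/-- Polynomial functions of degree less than `r`. -/
noncomputable def Vr (r : ℕ) : Submodule K (ZMod p → K) := (degreeLT K r).map ev

theorem mem_Vr {r : ℕ} {f : ZMod p → K} :
    f ∈ (Vr r : Submodule K (ZMod p → K)) ↔
      ∃ P : K[X], P.degree < r ∧ ∀ j : ZMod p, f j = P.eval (ZMod.cast j : K) := by
  constructor
  · rintro ⟨P, hP, rfl⟩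
    exact ⟨P, mem_degreeLT.mp hP, fun j => rfl⟩
  · rintro ⟨P, hP, hf⟩
    refine ⟨P, mem_degreeLT.mpr hP, ?_⟩
    funext j
    exact (hf j).symm

theorem Nop_ev (P : K[X]) : Nop (ev P : ZMod p → K) = ev (taylor (-1) P - P) := by
  funext j
  rw [Nop_apply, ev_apply, ev_apply, ev_apply, eval_sub, taylor_eval, ι_sub_one]
  ring_nf

theorem Nop_Vr (r : ℕ) (f : ZMod p → K) (hf : f ∈ (Vr (r + 1) : Submodule K (ZMod p → K))) :
    Nop f ∈ (Vr r : Submodule K (ZMod p → K)) := by
  obtain ⟨P, hP0', rfl⟩ := hf
  have hP : P ∈ degreeLT K (r + 1) := hP0'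
  rw [Nop_ev]
  refine ⟨taylor (-1) P - P, ?_, rfl⟩
  show taylor (-1) P - P ∈ degreeLT K r
  rw [mem_degreeLT] at hP ⊢
  by_cases hP0 : P = 0
  · subst hP0
    simp only [map_zero, sub_zero, degree_zero]
    exact WithBot.bot_lt_coe _
  · have h1 : (taylor (-1) P - P).degree < (taylor (-1) P).degree := by
      apply degree_sub_lt (degree_taylor P (-1))
      · intro h
        apply hP0
        have := (taylor_injective (-1 : K)) (h.trans (map_zero _).symm)
        exact this
      · exact leadingCoeff_taylor (R := K) (-1) P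
    rw [degree_taylor] at h1
    have h2 : P.degree ≤ ((r : ℕ) : WithBot ℕ) := by
      have h3 : P.degree < ((r + 1 : ℕ) : WithBot ℕ) := hP
      rw [degree_eq_natDegree hP0] at h3 ⊢
      have h4 := WithBot.coe_lt_coe.mp h3
      exact WithBot.coe_le_coe.mpr (by simp only [Nat.cast_id] at h4 ⊢; omega)
    exact lt_of_lt_of_le h1 h2

theorem Vr_le_ker (r : ℕ) :
    (Vr r : Submodule K (ZMod p → K)) ≤ LinearMap.ker ((Nop : End K (ZMod p → K)) ^ r) := by
  induction r with
  | zero =>
    rintro _ ⟨P, hP0', rfl⟩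
    have hP : P ∈ degreeLT K 0 := hP0'
    rw [mem_degreeLT] at hP
    have : P = 0 := by
      rw [← degree_eq_bot]
      have h : P.degree < ((0 : ℕ) : WithBot ℕ) := hP
      by_contra hne
      obtain ⟨n, hn⟩ := WithBot.ne_bot_iff_exists.mp hne
      rw [← hn] at h
      have := WithBot.coe_lt_coe.mp h
      omega
    rw [this, map_zero]
    exact Submodule.zero_mem _
  | succ r ih =>
    intro f hf
    rw [LinearMap.mem_ker, pow_succ, Module.End.mul_apply]
    exact ih (Nop_Vr r f hf)

theorem ev_injOn (r : ℕ) (hr : r ≤ p) (P : K[X]) (hP : P ∈ degreeLT K r)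
    (h : (ev P : ZMod p → K) = 0) : P = 0 := by
  rw [mem_degreeLT] at hP
  by_cases hP0 : P = 0
  · exact hP0
  apply eq_zero_of_natDegree_lt_card_of_eval_eq_zero P (ι_injective (p := p) (K := K))
  · intro j
    have := congrFun h j
    exact this
  · rw [ZMod.card]
    have := (natDegree_lt_iff_degree_lt hP0).mpr hP
    omega

theorem finrank_Vr (r : ℕ) (hr : r ≤ p) :
    finrank K (Vr r : Submodule K (ZMod p → K)) = r := by
  have hinj : Function.Injective ((ev : K[X] →ₗ[K] (ZMod p → K)).domRestrict (degreeLT K r)) := by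
    rw [← LinearMap.ker_eq_bot, LinearMap.ker_eq_bot']
    rintro ⟨P, hP⟩ h
    apply Subtype.ext
    exact ev_injOn r hr P hP h
  have h1 : (Vr r : Submodule K (ZMod p → K)) =
      LinearMap.range ((ev : K[X] →ₗ[K] (ZMod p → K)).domRestrict (degreeLT K r)) := by
    rw [LinearMap.range_domRestrict]
    rfl
  rw [h1, LinearMap.finrank_range_of_inj hinj, (degreeLTEquiv K r).finrank_eq,
    Module.finrank_fintype_fun_eq_card, Fintype.card_fin]

theorem Vr_top : (Vr p : Submodule K (ZMod p → K)) = ⊤ := by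
  apply Submodule.eq_top_of_finrank_eq
  rw [finrank_Vr p le_rfl, Module.finrank_fintype_fun_eq_card, ZMod.card]

theorem Nop_pow_p : (Nop : End K (ZMod p → K)) ^ p = 0 := by
  apply LinearMap.ext
  intro f
  have : f ∈ (Vr p : Submodule K (ZMod p → K)) := by rw [Vr_top]; trivial
  exact Vr_le_ker p this

end Cfsg.Agent.Lib.Lead.TransInv
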