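import Mathlib
import Cfsg.Agent.Lib.Lead.TransInv1

set_option autoImplicit false

namespace Cfsg.Agent.Lib.Lead.TransInv

open Polynomial Module

section general

variable {K : Type*} [Field K] {V : Type*} [AddCommGroup V] [Module K V] [FiniteDimensional K V]

theorem finrank_ker_comp_le (g f : V →ₗ[K] V) :
    finrank K (LinearMap.ker (g ∘ₗ f)) ≤ finrank K (LinearMap.ker f) + finrank K (LinearMap.ker g) := by
  set U := LinearMap.ker (g ∘ₗ f) with hU
  have h1 := (f.domRestrict U).finrank_range_add_finrank_ker
  have h2 : finrank K (LinearMap.range (f.domRestrict U)) ≤ finrank K (LinearMap.ker g) := by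
    apply Submodule.finrank_mono
    rintro _ ⟨⟨x, hx⟩, rfl⟩
    rw [LinearMap.mem_ker]
    exact hx
  have h3 : finrank K (LinearMap.ker (f.domRestrict U)) ≤ finrank K (LinearMap.ker f) := by
    rw [LinearMap.ker_domRestrict]
    have hinj : Function.Injective
        ((U.subtype).restrict (p := (LinearMap.ker f).comap U.subtype) (q := LinearMap.ker f)
          (fun x hx => hx)) := by
      intro a b hab
      have := congrArg Subtype.val hab
      simp only [LinearMap.restrict_coe_apply, Submodule.subtype_apply] at this
      exact Subtype.ext (Subtype.ext this)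
    exact LinearMap.finrank_le_finrank_of_injective hinj
  omega

theorem finrank_ker_pow_le (N : End K V) (h1 : finrank K (LinearMap.ker N) ≤ 1) (r : ℕ) :
    finrank K (LinearMap.ker (N ^ r)) ≤ r := by
  induction r with
  | zero =>
    have : LinearMap.ker (N ^ 0) = ⊥ := by
      rw [pow_zero]
      exact LinearMap.ker_id
    rw [this, finrank_bot]
  | succ r ih =>
    have h2 : N ^ (r + 1) = N ∘ₗ (N ^ r) := by
      rw [pow_succ']
      rfl
    rw [h2]
    have := finrank_ker_comp_le N (N ^ r)
    omega

/-- An invariant subspace of a nilpotent operator of dimension `r` is killed by the `r`th power. -/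
theorem le_ker_pow_finrank (N : End K V) (hN : IsNilpotent N) (W : Submodule K V)
    (hW : ∀ x ∈ W, N x ∈ W) : W ≤ LinearMap.ker (N ^ finrank K W) := by
  have hnil : IsNilpotent (N.restrict hW) := Module.End.isNilpotent.restrict hW hN
  have h1 := hnil.charpoly_eq_X_pow_finrank
  have h2 := LinearMap.aeval_self_charpoly (N.restrict hW)
  rw [h1, map_pow, aeval_X] at h2
  intro x hx
  rw [LinearMap.mem_ker]
  have h3 := DFunLike.congr_fun h2 ⟨x, hx⟩
  rw [Module.End.pow_restrict (finrank K W) hW] at h3
  have h4 := congrArg Subtype.val h3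
  simpa using h4

end general

variable {p : ℕ} [Fact p.Prime] {K : Type*} [Field K] [CharP K p]

theorem const_of_ker_Nop (f : ZMod p → K) (hf : Nop f = 0) (j : ZMod p) : f j = f 0 := by
  have h1 : ∀ i : ZMod p, f (i - 1) = f i := by
    intro i
    have := congrFun hf i
    rw [Nop_apply] at this
    exact sub_eq_zero.mp this
  have h2 : ∀ n : ℕ, f (n : ZMod p) = f 0 := by
    intro n
    induction n with
    | zero => simp
    | succ n ih =>
      have := h1 ((n + 1 : ℕ) : ZMod p)
      rw [← ih, ← this]
      congr 1
      push_cast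
      ring
  have := h2 (ZMod.val j)
  rwa [ZMod.natCast_zmod_val] at this

theorem finrank_ker_Nop :
    finrank K (LinearMap.ker (Nop : End K (ZMod p → K))) ≤ 1 := by
  have h : LinearMap.ker (Nop : End K (ZMod p → K)) ≤ Submodule.span K {fun _ => (1 : K)} := by
    intro f hf
    rw [Submodule.mem_span_singleton]
    refine ⟨f 0, ?_⟩
    funext j
    rw [const_of_ker_Nop f hf j]
    simp
  calc finrank K (LinearMap.ker (Nop : End K (ZMod p → K)))
      ≤ finrank K (Submodule.span K {fun _ : ZMod p => (1 : K)}) := Submodule.finrank_mono h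
    _ ≤ 1 := by
        have hne : (fun _ : ZMod p => (1 : K)) ≠ 0 := by
          intro h
          have := congrFun h 0
          simp at this
        exact (finrank_span_singleton hne).le

theorem Nop_isNilpotent : IsNilpotent (Nop : End K (ZMod p → K)) := ⟨p, Nop_pow_p⟩

omit [CharP K p] in
theorem finrank_le_p (W : Submodule K (ZMod p → K)) : finrank K W ≤ p := by
  have := Submodule.finrank_le W
  rwa [Module.finrank_fintype_fun_eq_card, ZMod.card] at this

theorem eq_Vr_of_invariant (W : Submodule K (ZMod p → K)) (hW : ∀ f ∈ W, Nop f ∈ W) :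
    W = Vr (finrank K W) := by
  obtain ⟨r, hr⟩ : ∃ r, r = finrank K W := ⟨_, rfl⟩
  rw [← hr]
  have hrp : r ≤ p := hr ▸ finrank_le_p W
  have h1 : W ≤ LinearMap.ker ((Nop : End K (ZMod p → K)) ^ r) := by
    rw [hr]
    exact le_ker_pow_finrank Nop Nop_isNilpotent W hW
  have h2 : finrank K (LinearMap.ker ((Nop : End K (ZMod p → K)) ^ r)) ≤ r := by
    exact finrank_ker_pow_le (Nop : End K (ZMod p → K)) (finrank_ker_Nop (p := p) (K := K)) r
  have h3 : W = LinearMap.ker ((Nop : End K (ZMod p → K)) ^ r) := by
    apply Submodule.eq_of_le_of_finrank_le h1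
    rw [← hr]
    exact h2
  have h4 : (Vr r : Submodule K (ZMod p → K)) = LinearMap.ker ((Nop : End K (ZMod p → K)) ^ r) := by
    apply Submodule.eq_of_le_of_finrank_le (Vr_le_ker r)
    rw [finrank_Vr r hrp]
    exact h2
  rw [h4]
  exact h3

end Cfsg.Agent.Lib.Lead.TransInv
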