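import Mathlib
import Cfsg.Agent.Lib.Lead.TransInv2

set_option autoImplicit false

namespace Cfsg.Agent.Lib.Lead.TransInv

open Polynomial Module

variable {p : ℕ} [Fact p.Prime] {K : Type*} [Field K] [CharP K p]

/-- Invariance of a subspace of functions under a group of permutations of `ZMod p`. -/
def Inv (G : Subgroup (Equiv.Perm (ZMod p))) (U : Submodule K (ZMod p → K)) : Prop :=
  ∀ g ∈ G, ∀ f ∈ U, (fun j => f (g⁻¹ j)) ∈ U

theorem eq_Vr_of_Inv (G : Subgroup (Equiv.Perm (ZMod p)))
    (ht : Equiv.addRight (1 : ZMod p) ∈ G) (U : Submodule K (ZMod p → K)) (hU : Inv G U) :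
    U = Vr (finrank K U) := by
  apply eq_Vr_of_invariant
  intro f hf
  have h1 := hU _ ht f hf
  have h2 : (fun j => f ((Equiv.addRight (1 : ZMod p))⁻¹ j)) = fun j => f (j - 1) := by
    funext j
    rw [Equiv.neg_addRight, Equiv.coe_addRight, sub_eq_add_neg]
  rw [h2] at h1
  have : Nop f = (fun j => f (j - 1)) - f := by
    funext j
    rfl
  rw [this]
  exact U.sub_mem h1 hf

/-- The dot product as a bilinear form. -/
noncomputable def dotB : LinearMap.BilinForm K (ZMod p → K) :=
  LinearMap.mk₂ K (fun f h => ∑ x, f x * h x)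
    (by intro a b c; simp only [Pi.add_apply, add_mul, Finset.sum_add_distrib])
    (by intro c a b; simp only [Pi.smul_apply, smul_eq_mul, mul_assoc, Finset.mul_sum])
    (by intro a b c; simp only [Pi.add_apply, mul_add, Finset.sum_add_distrib])
    (by intro c a b; simp only [Pi.smul_apply, smul_eq_mul, Finset.mul_sum]; 
        apply Finset.sum_congr rfl; intro x _; ring)

omit [CharP K p] in
theorem dotB_apply (f h : ZMod p → K) : dotB f h = ∑ x, f x * h x := rfl

omit [CharP K p] in
theorem dotB_nondeg : (dotB : LinearMap.BilinForm K (ZMod p → K)).Nondegenerate := by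
  constructor
  · intro f hf
    funext x
    have := hf (Pi.single x 1)
    rw [dotB_apply] at this
    simpa [Pi.single_apply] using this
  · intro f hf
    funext x
    have := hf (Pi.single x 1)
    rw [dotB_apply] at this
    simpa [Pi.single_apply] using this

omit [CharP K p] in
theorem Inv_perp (G : Subgroup (Equiv.Perm (ZMod p))) (U : Submodule K (ZMod p → K))
    (hU : Inv G U) : Inv G (dotB.orthogonal U) := by
  intro g hg f hf
  rw [LinearMap.BilinForm.mem_orthogonal_iff] at hf ⊢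
  intro u hu
  have h1 := hf _ (hU g⁻¹ (G.inv_mem hg) u hu)
  rw [dotB_apply] at h1 ⊢
  rw [inv_inv] at h1
  rw [← h1]
  exact Fintype.sum_equiv g⁻¹ _ _ (fun x => by
    show u x * f (g⁻¹ x) = u (g (g⁻¹ x)) * f (g⁻¹ x)
    have : g (g⁻¹ x) = x := by
      rw [← Equiv.Perm.mul_apply, mul_inv_cancel, Equiv.Perm.one_apply]
    rw [this])

omit [CharP K p] in
theorem finrank_perp (U : Submodule K (ZMod p → K)) :
    finrank K (dotB.orthogonal U) = p - finrank K U := by
  rw [LinearMap.BilinForm.finrank_orthogonal dotB_nondeg, Module.finrank_fintype_fun_eq_card,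
    ZMod.card]

omit [Fact p.Prime] [CharP K p] in
theorem Vr_mono {r s : ℕ} (h : r ≤ s) :
    (Vr r : Submodule K (ZMod p → K)) ≤ Vr s :=
  Submodule.map_mono (degreeLT_mono (by exact_mod_cast h))

/-- Affine permutations of `ZMod p`, seen through `ι`. -/
def IsAff (K : Type*) [Field K] [CharP K p] (g : Equiv.Perm (ZMod p)) : Prop :=
  ∃ a b : K, ∀ j, (ι (g j) : K) = a * ι j + b

theorem arith_key (e d q : ℕ) (he : 1 ≤ e) (hed : e ≤ d) (hq : 2 * d + 2 ≤ q)
    (H : ∀ i ≤ d, i * e < q → i * e ≤ d) : e = 1 := by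
  by_contra hne
  have he2 : 2 ≤ e := by omega
  by_cases hde : d * e < q
  · have := H d le_rfl hde
    nlinarith
  · push Not at hde
    have hi1 : (q - 1) / e * e ≤ q - 1 := Nat.div_mul_le_self _ _
    have hi2 : q - 1 < e * ((q - 1) / e + 1) := Nat.lt_mul_div_succ _ (by omega)
    have hi3 : (q - 1) / e ≤ d := by
      by_contra hcon
      push Not at hcon
      have : d * e < (q - 1) / e * e := Nat.mul_lt_mul_of_pos_right hcon (by omega)
      omega
    have h5 := H _ hi3 (by omega)
    have h6 : e * ((q - 1) / e + 1) = (q - 1) / e * e + e := by ring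
    omega

theorem ι_zero : (ι (0 : ZMod p) : K) = 0 := by rw [ι_eq, map_zero]
theorem ι_one : (ι (1 : ZMod p) : K) = 1 := by rw [ι_eq, map_one]

theorem ev_X_pow_mem (i d : ℕ) (hi : i ≤ d) :
    (fun j : ZMod p => (ι j : K) ^ i) ∈ (Vr (d + 1) : Submodule K (ZMod p → K)) := by
  refine ⟨X ^ i, ?_, ?_⟩
  · show X ^ i ∈ degreeLT K (d + 1)
    rw [mem_degreeLT]
    calc (X ^ i : K[X]).degree ≤ (i : WithBot ℕ) := degree_X_pow_le i
      _ < ((d + 1 : ℕ) : WithBot ℕ) := by exact_mod_cast Nat.lt_succ_of_le hi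
  · funext j
    rw [ev_apply, eval_pow, eval_X]

theorem isAff_of_Inv (G : Subgroup (Equiv.Perm (ZMod p))) (d : ℕ) (hd : 1 ≤ d)
    (hdp : 2 * d + 2 ≤ p) (hU : Inv G (Vr (d + 1) : Submodule K (ZMod p → K)))
    (g : Equiv.Perm (ZMod p)) (hg : g ∈ G) : IsAff K g := by
  have hg' : g⁻¹ ∈ G := G.inv_mem hg
  -- the polynomial of g
  have h1 := hU g⁻¹ hg' _ (ev_X_pow_mem (p := p) (K := K) 1 d hd)
  rw [inv_inv] at h1
  obtain ⟨P, hP', hPg⟩ := h1
  have hP : P ∈ degreeLT K (d + 1) := hP'
  rw [mem_degreeLT] at hP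
  have hPg' : ∀ j, (ι (g j) : K) = P.eval (ι j) := by
    intro j
    have := congrFun hPg j
    rw [ev_apply] at this
    rw [pow_one] at this
    exact this.symm
  have hP0 : P ≠ 0 := by
    intro h0
    have h2 := hPg' 0
    have h3 := hPg' 1
    rw [h0, eval_zero] at h2 h3
    have := ι_injective (p := p) (K := K) (h2.trans h3.symm)
    exact zero_ne_one (g.injective this)
  have hPd : P.natDegree ≤ d := by
    have := (natDegree_lt_iff_degree_lt hP0).mpr hP
    omega
  have he1 : 1 ≤ P.natDegree := by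
    by_contra hcon
    push Not at hcon
    have h0 : P.natDegree = 0 := by omega
    obtain ⟨c, hc⟩ := natDegree_eq_zero.mp h0
    have h2 := hPg' 0
    have h3 := hPg' 1
    rw [← hc, eval_C] at h2 h3
    have := ι_injective (p := p) (K := K) (h2.trans h3.symm)
    exact zero_ne_one (g.injective this)
  have H : ∀ i ≤ d, i * P.natDegree < p → i * P.natDegree ≤ d := by
    intro i hi hlt
    have h4 := hU g⁻¹ hg' _ (ev_X_pow_mem (p := p) (K := K) i d hi)
    rw [inv_inv] at h4
    obtain ⟨Q, hQ', hQg⟩ := h4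
    have hQ : Q ∈ degreeLT K (d + 1) := hQ'
    have h5 : (ev (P ^ i - Q) : ZMod p → K) = 0 := by
      funext j
      have := congrFun hQg j
      rw [ev_apply] at this
      rw [ev_apply, eval_sub, eval_pow, ← hPg', this, sub_self]
      rfl
    have h6 : P ^ i - Q ∈ degreeLT K p := by
      apply Submodule.sub_mem
      · rw [mem_degreeLT]
        have : (P ^ i).degree = ((i * P.natDegree : ℕ) : WithBot ℕ) := by
          rw [degree_eq_natDegree (pow_ne_zero i hP0), natDegree_pow]
        rw [this]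
        exact_mod_cast hlt
      · exact degreeLT_mono (by exact_mod_cast (by omega : d + 1 ≤ p)) hQ
    have h7 := ev_injOn p le_rfl _ h6 h5
    have h8 : P ^ i = Q := sub_eq_zero.mp h7
    rw [mem_degreeLT, ← h8, degree_eq_natDegree (pow_ne_zero i hP0), natDegree_pow] at hQ
    have : i * P.natDegree < d + 1 := by exact_mod_cast hQ
    omega
  have he := arith_key P.natDegree d p he1 hPd hdp H
  obtain ⟨a, b, hab⟩ := exists_eq_X_add_C_of_natDegree_le_one (le_of_eq he)
  refine ⟨a, b, fun j => ?_⟩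
  rw [hPg', hab]
  simp

theorem solvable_of_isAff (G : Subgroup (Equiv.Perm (ZMod p)))
    (hG : ∀ g ∈ G, IsAff K g) : Group.IsSolvable G := by
  have hne : ∀ g : G, (ι ((g : Equiv.Perm (ZMod p)) 1) : K) - ι ((g : Equiv.Perm (ZMod p)) 0) ≠ 0 := by
    intro g h
    have := ι_injective (p := p) (K := K) (sub_eq_zero.mp h)
    exact one_ne_zero ((g : Equiv.Perm (ZMod p)).injective this)
  have hform : ∀ g : G, ∀ j, (ι ((g : Equiv.Perm (ZMod p)) j) : K) =
      (ι ((g : Equiv.Perm (ZMod p)) 1) - ι ((g : Equiv.Perm (ZMod p)) 0)) * ι j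
        + ι ((g : Equiv.Perm (ZMod p)) 0) := by
    intro g j
    obtain ⟨a, b, hab⟩ := hG g g.2
    rw [hab 1, hab 0, hab j, ι_zero, ι_one]
    ring
  let φ : G →* Kˣ :=
    { toFun := fun g => Units.mk0 _ (hne g)
      map_one' := by
        apply Units.ext
        simp [ι_zero, ι_one]
      map_mul' := by
        intro g h
        apply Units.ext
        simp only [Units.val_mk0, Units.val_mul, Subgroup.coe_mul, Equiv.Perm.coe_mul,
          Function.comp_apply]
        rw [hform g ((h : Equiv.Perm (ZMod p)) 1), hform g ((h : Equiv.Perm (ZMod p)) 0)]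
        ring }
  have hker : ∀ g : G, g ∈ φ.ker → ∀ j, (ι ((g : Equiv.Perm (ZMod p)) j) : K) =
      ι j + ι ((g : Equiv.Perm (ZMod p)) 0) := by
    intro g hg j
    have h1 : φ g = 1 := hg
    have h2 := congrArg Units.val h1
    simp only [φ, MonoidHom.coe_mk, OneHom.coe_mk, Units.val_mk0, Units.val_one] at h2
    rw [hform g j, h2, one_mul]
  have : Group.IsSolvable φ.ker := by
    apply Group.isSolvable_of_comm
    rintro ⟨g, hg⟩ ⟨h, hh⟩
    apply Subtype.ext
    apply Subtype.ext
    apply Equiv.ext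
    intro j
    apply ι_injective (p := p) (K := K)
    show (ι ((g : Equiv.Perm (ZMod p)) ((h : Equiv.Perm (ZMod p)) j)) : K) =
      ι ((h : Equiv.Perm (ZMod p)) ((g : Equiv.Perm (ZMod p)) j))
    rw [hker g hg ((h : Equiv.Perm (ZMod p)) j), hker h hh j,
      hker h hh ((g : Equiv.Perm (ZMod p)) j), hker g hg j]
    ring
  exact Group.isSolvable_of_ker_le_range φ.ker.subtype φ (by simp)

theorem solvable_of_Inv (G : Subgroup (Equiv.Perm (ZMod p)))
    (ht : Equiv.addRight (1 : ZMod p) ∈ G) (U : Submodule K (ZMod p → K)) (hU : Inv G U)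
    (h2 : 2 ≤ finrank K U) (h3 : finrank K U + 2 ≤ p) : Group.IsSolvable G := by
  have hU1 := eq_Vr_of_Inv G ht U hU
  have hU2 := eq_Vr_of_Inv G ht _ (Inv_perp G U hU)
  rw [finrank_perp] at hU2
  obtain ⟨r, hr⟩ : ∃ r, r = finrank K U := ⟨_, rfl⟩
  rw [← hr] at hU1 hU2 h2 h3
  have hI1 : Inv G (Vr r : Submodule K (ZMod p → K)) := hU1 ▸ hU
  have hI2 : Inv G (Vr (p - r) : Submodule K (ZMod p → K)) := hU2 ▸ Inv_perp G U hU
  apply solvable_of_isAff (K := K)
  intro g hg
  by_cases hcase : 2 * r ≤ p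
  · obtain ⟨d, rfl⟩ : ∃ d, r = d + 1 := ⟨r - 1, by omega⟩
    exact isAff_of_Inv G d (by omega) (by omega) hI1 g hg
  · obtain ⟨d, hd⟩ : ∃ d, p - r = d + 1 := ⟨p - r - 1, by omega⟩
    rw [hd] at hI2
    exact isAff_of_Inv G d (by omega) (by omega) hI2 g hg

end Cfsg.Agent.Lib.Lead.TransInv
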