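import Mathlib
import Cfsg.Agent.Lib.Lead.TransInv3

set_option autoImplicit false

namespace Cfsg.Agent.Lib.Lead.TransInv

open Polynomial Module MulAction

variable {p : ℕ} [Fact p.Prime]

/-- Coordinates on a set of prime size with a transitive group: a bijection with `ZMod p` along which some
element of the group is the translation by one. -/
theorem exists_coord {α : Type*} [Fintype α] [DecidableEq α] (hα : Fintype.card α = p)
    (G : Subgroup (Equiv.Perm α)) [IsPretransitive G α] :
    ∃ (e : ZMod p ≃ α) (σ : Equiv.Perm α), σ ∈ G ∧ ∀ j, σ (e j) = e (j + 1) := by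
  have hp : p.Prime := Fact.out
  have hne : Nonempty α := by
    rw [← Fintype.card_pos_iff, hα]
    exact hp.pos
  obtain ⟨a₀⟩ := hne
  have hdvd : p ∣ Nat.card G := by
    have h1 := MulAction.index_stabilizer_of_transitive G a₀
    rw [Nat.card_eq_fintype_card, hα] at h1
    rw [← h1]
    exact Subgroup.index_dvd_card _
  obtain ⟨x, hx⟩ := exists_prime_orderOf_dvd_card' p hdvd
  set σ : Equiv.Perm α := (x : Equiv.Perm α) with hσdef
  have hσG : σ ∈ G := x.2
  have hσ : orderOf σ = p := by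
    rw [hσdef, Subgroup.orderOf_coe]
    exact hx
  have hcyc : σ.IsCycle :=
    Equiv.Perm.isCycle_of_prime_order'' (hα.symm ▸ hp) (hσ.trans hα.symm)
  have hsupp : ∀ a : α, σ a ≠ a := by
    have h1 : σ.support.card = Fintype.card α := by
      rw [← hcyc.orderOf, hσ, hα]
    have h2 : σ.support = Finset.univ := (Finset.card_eq_iff_eq_univ _).mp h1
    intro a
    rw [← Equiv.Perm.mem_support, h2]
    exact Finset.mem_univ a
  have hpow : ∀ n : ℕ, σ ^ (n % p) = σ ^ n := by
    intro n
    rw [← hσ]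
    exact pow_mod_orderOf σ n
  let e₀ : ZMod p → α := fun j => (σ ^ j.val) a₀
  have hsurj : Function.Surjective e₀ := by
    intro b
    obtain ⟨i, hi⟩ := hcyc.exists_pow_eq (hsupp a₀) (hsupp b)
    refine ⟨(i : ZMod p), ?_⟩
    show (σ ^ ((i : ZMod p)).val) a₀ = b
    rw [ZMod.val_natCast, hpow]
    exact hi
  have hbij : Function.Bijective e₀ := by
    rw [Fintype.bijective_iff_surjective_and_card]
    exact ⟨hsurj, by rw [ZMod.card, hα]⟩
  refine ⟨Equiv.ofBijective e₀ hbij, σ, hσG, fun j => ?_⟩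
  show σ ((σ ^ j.val) a₀) = (σ ^ (j + 1).val) a₀
  rw [ZMod.val_add, ZMod.val_one, hpow, pow_succ', Equiv.Perm.mul_apply]

variable {K : Type*} [Field K] [CharP K p]

/-- Transported group. -/
def tgrp {α : Type*} (e : ZMod p ≃ α) (G : Subgroup (Equiv.Perm α)) :
    Subgroup (Equiv.Perm (ZMod p)) :=
  G.map (e.symm.permCongrHom : Equiv.Perm α →* Equiv.Perm (ZMod p))

theorem mem_tgrp {α : Type*} (e : ZMod p ≃ α) (G : Subgroup (Equiv.Perm α))
    (g' : Equiv.Perm (ZMod p)) :
    g' ∈ tgrp e G ↔ ∃ g ∈ G, ∀ j, g' j = e.symm (g (e j)) := by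
  constructor
  · rintro ⟨g, hg, rfl⟩
    exact ⟨g, hg, fun j => rfl⟩
  · rintro ⟨g, hg, h⟩
    refine ⟨g, hg, ?_⟩
    apply Equiv.ext
    intro j
    rw [h j]
    rfl

theorem solvable_of_tgrp {α : Type*} (e : ZMod p ≃ α) (G : Subgroup (Equiv.Perm α))
    (h : Group.IsSolvable (tgrp e G)) : Group.IsSolvable G := by
  let f : G →* tgrp e G :=
    { toFun := fun g => ⟨e.symm.permCongrHom (g : Equiv.Perm α), ⟨g, g.2, rfl⟩⟩
      map_one' := by
        apply Subtype.ext
        exact map_one e.symm.permCongrHom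
      map_mul' := by
        intro a b
        apply Subtype.ext
        exact map_mul e.symm.permCongrHom _ _ }
  have hf : Function.Injective f := by
    intro a b hab
    have h1 := congrArg Subtype.val hab
    have h2 : e.symm.permCongrHom (a : Equiv.Perm α) = e.symm.permCongrHom (b : Equiv.Perm α) := h1
    exact Subtype.ext (e.symm.permCongrHom.injective h2)
  exact Group.isSolvable_of_isSolvable_injective hf

/-- The main solvability criterion for groups of prime degree. -/
theorem solvable_of_invariant {α : Type*} [Fintype α] [DecidableEq α] (hα : Fintype.card α = p)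
    (G : Subgroup (Equiv.Perm α)) [IsPretransitive G α]
    (W : Submodule K (α → K)) (hW : ∀ g ∈ G, ∀ f ∈ W, (fun x => f (g⁻¹ x)) ∈ W)
    (h2 : 2 ≤ finrank K W) (h3 : finrank K W + 2 ≤ p) : Group.IsSolvable G := by
  obtain ⟨e, σ, hσG, hσ⟩ := exists_coord hα G
  apply solvable_of_tgrp e G
  have ht : Equiv.addRight (1 : ZMod p) ∈ tgrp e G := by
    rw [mem_tgrp]
    refine ⟨σ, hσG, fun j => ?_⟩
    rw [hσ, Equiv.symm_apply_apply]
    rfl
  let L : (α → K) ≃ₗ[K] (ZMod p → K) := LinearEquiv.funCongrLeft K K e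
  have hL : ∀ f j, L f j = f (e j) := fun f j => rfl
  have hU : Inv (tgrp e G) (W.map (L : (α → K) →ₗ[K] (ZMod p → K))) := by
    intro g' hg' f' hf'
    have hg'' : g'⁻¹ ∈ tgrp e G := (tgrp e G).inv_mem hg'
    rw [mem_tgrp] at hg''
    obtain ⟨g, hg, hgg⟩ := hg''
    obtain ⟨f, hf, rfl⟩ := hf'
    have hg1 : g⁻¹ ∈ G := G.inv_mem hg
    refine ⟨fun x => f (g⁻¹⁻¹ x), hW g⁻¹ hg1 f hf, ?_⟩
    funext j
    show f (g⁻¹⁻¹ (e j)) = f (e (g'⁻¹ j))
    rw [hgg, Equiv.apply_symm_apply, inv_inv]
  have hfin : finrank K (W.map (L : (α → K) →ₗ[K] (ZMod p → K))) = finrank K W :=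
    LinearEquiv.finrank_map_eq L W
  exact solvable_of_Inv (K := K) (tgrp e G) ht _ hU (by rw [hfin]; exact h2) (by rw [hfin]; exact h3)

theorem aff_two : ∀ g : Equiv.Perm (ZMod 2), ∀ j, g j = (g 1 - g 0) * j + g 0 := by
  decide

theorem aff_three : ∀ g : Equiv.Perm (ZMod 3), ∀ j, g j = (g 1 - g 0) * j + g 0 := by
  decide

theorem solvable_of_le_three {α : Type*} [Fintype α] [DecidableEq α] (hα : Fintype.card α = p)
    (hp3 : p ≤ 3) (G : Subgroup (Equiv.Perm α)) [IsPretransitive G α] : Group.IsSolvable G := by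
  obtain ⟨e, σ, hσG, hσ⟩ := exists_coord hα G
  apply solvable_of_tgrp e G
  have hp : p.Prime := Fact.out
  have hp2 := hp.two_le
  have key : ∀ g : Equiv.Perm (ZMod p), ∀ j, g j = (g 1 - g 0) * j + g 0 := by
    have : p = 2 ∨ p = 3 := by omega
    rcases this with h | h
    · subst h
      exact aff_two
    · subst h
      exact aff_three
  apply solvable_of_isAff (K := ZMod p)
  intro g _
  refine ⟨g 1 - g 0, g 0, fun j => ?_⟩
  have : ∀ x : ZMod p, (ι x : ZMod p) = x := fun x => ZMod.cast_id _ x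
  rw [this, this]
  exact key g j

end Cfsg.Agent.Lib.Lead.TransInv
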