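import Mathlib

set_option autoImplicit false

namespace Cfsg.Agent.Lib.Lead.ModPerm

open MulAction

/-- A `p`-group acting on a finite set, in characteristic `p`: every nonzero invariant subspace of the
function space contains a nonzero invariant function. -/
theorem exists_fixed_vector {p : ℕ} [Fact p.Prime] {P : Type*} [Group P] [Finite P]
    (hP : IsPGroup p P) {K : Type*} [Field K] [CharP K p] {Ω : Type*} [MulAction P Ω]
    (U : Submodule K (Ω → K)) (hU : ∀ g : P, ∀ v ∈ U, (fun x => v (g⁻¹ • x)) ∈ U)
    (hne : U ≠ ⊥) : ∃ u ∈ U, u ≠ 0 ∧ ∀ g : P, (fun x => u (g⁻¹ • x)) = u := by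
  classical
  obtain ⟨f, hfU, hf0⟩ := (Submodule.ne_bot_iff _).mp hne
  letI := ZMod.algebra K p
  -- the translation operators
  let T : P → ((Ω → K) →ₗ[ZMod p] (Ω → K)) := fun g =>
    { toFun := fun v x => v (g⁻¹ • x)
      map_add' := fun _ _ => rfl
      map_smul' := fun _ _ => rfl }
  have hT1 : ∀ v, T 1 v = v := by
    intro v; funext x
    change v ((1 : P)⁻¹ • x) = v x
    rw [inv_one, one_smul]
  have hTmul : ∀ g h v, T (g * h) v = T g (T h v) := by
    intro g h v; funext x
    change v ((g * h)⁻¹ • x) = v (h⁻¹ • (g⁻¹ • x))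
    rw [mul_inv_rev, mul_smul]
  let S : Set (Ω → K) := Set.range (fun g : P => T g f)
  have hSfin : S.Finite := Set.finite_range _
  let A : Submodule (ZMod p) (Ω → K) := Submodule.span (ZMod p) S
  have hAU : ∀ v ∈ A, v ∈ U := by
    intro v hv
    have hle : A ≤ U.restrictScalars (ZMod p) := by
      rw [Submodule.span_le]
      rintro _ ⟨g, rfl⟩
      exact hU g f hfU
    exact hle hv
  have hfA : f ∈ A := Submodule.subset_span ⟨1, hT1 f⟩
  have hTA : ∀ g : P, ∀ v ∈ A, T g v ∈ A := by
    intro g v hv
    have hle : A ≤ A.comap (T g) := by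
      rw [Submodule.span_le]
      rintro _ ⟨h, rfl⟩
      rw [SetLike.mem_coe, Submodule.mem_comap, ← hTmul]
      exact Submodule.subset_span ⟨g * h, rfl⟩
    exact hle hv
  haveI : Module.Finite (ZMod p) A := Module.Finite.span_of_finite (ZMod p) hSfin
  haveI : Finite A := Module.finite_of_finite (ZMod p)
  letI : MulAction P A :=
    { smul := fun g a => ⟨T g a.1, hTA g a.1 a.2⟩
      one_smul := fun a => Subtype.ext (hT1 a.1)
      mul_smul := fun g h a => Subtype.ext (hTmul g h a.1) }
  have hpA : p ∣ Nat.card A := by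
    rw [Module.natCard_eq_pow_finrank (K := ZMod p) (V := A), Nat.card_zmod]
    have hpos : 0 < Module.finrank (ZMod p) A := by
      rw [Module.finrank_pos_iff_exists_ne_zero]
      exact ⟨⟨f, hfA⟩, fun h => hf0 (congrArg Subtype.val h)⟩
    exact dvd_pow_self p hpos.ne'
  have h0fix : (0 : A) ∈ fixedPoints P A := by
    intro g
    apply Subtype.ext
    change T g 0 = 0
    exact map_zero _
  obtain ⟨b, hbfix, hb0⟩ := hP.exists_fixed_point_of_prime_dvd_card_of_fixed_point A hpA h0fix
  refine ⟨b.1, hAU b.1 b.2, fun h => hb0 (Subtype.ext h.symm), fun g => ?_⟩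
  have := hbfix g
  exact congrArg Subtype.val this

end Cfsg.Agent.Lib.Lead.ModPerm

namespace Cfsg.Agent.Lib.Lead.ModPerm

open MulAction

/-- A Sylow `p`-subgroup of a transitive group of `p`-power degree is transitive. -/
theorem sylow_transitive {p f : ℕ} [Fact p.Prime] {G : Type*} [Group G] [Finite G] {Ω : Type*}
    [Fintype Ω] [MulAction G Ω] [IsPretransitive G Ω] (hcard : Fintype.card Ω = p ^ f)
    (P : Sylow p G) : IsPretransitive P Ω := by
  classical
  have hp := (Fact.out : p.Prime)
  have hne : Nonempty Ω := by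
    rw [← Fintype.card_pos_iff, hcard]
    exact pow_pos hp.pos f
  obtain ⟨a⟩ := hne
  -- |G| = |Ω| |G_a|
  have hG := Subgroup.card_mul_index (stabilizer G a)
  rw [MulAction.index_stabilizer_of_transitive, Nat.card_eq_fintype_card (α := Ω), hcard] at hG
  have hPcard := P.card_eq_multiplicity
  have hGa0 : Nat.card (stabilizer G a) ≠ 0 := Nat.card_pos.ne'
  rw [← hG, Nat.factorization_mul hGa0 (pow_pos hp.pos f).ne', Finsupp.add_apply,
    Nat.factorization_pow, Finsupp.smul_apply, hp.factorization_self, smul_eq_mul, mul_one]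
    at hPcard
  -- the stabilizer in P
  have hPa := Subgroup.card_mul_index (stabilizer P a)
  rw [MulAction.index_stabilizer] at hPa
  have hPap : IsPGroup p (stabilizer P a) := P.isPGroup'.to_subgroup _
  obtain ⟨j, hj⟩ := hPap.exists_card_eq
  have hdvd : Nat.card (stabilizer P a) ∣ Nat.card (stabilizer G a) := by
    let φ : stabilizer P a →* stabilizer G a :=
      { toFun := fun g => ⟨((g : P) : G), by
          have := g.2
          rw [mem_stabilizer_iff] at this ⊢
          exact this⟩
        map_one' := rfl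
        map_mul' := fun _ _ => rfl }
    apply Subgroup.card_dvd_of_injective φ
    intro x y hxy
    have := congrArg (fun z : stabilizer G a => (z : G)) hxy
    exact Subtype.ext (Subtype.ext this)
  rw [hj] at hdvd
  have hjle : j ≤ (Nat.card (stabilizer G a)).factorization p :=
    (hp.pow_dvd_iff_le_factorization hGa0).mp hdvd
  -- the orbit is large
  have horb : p ^ f ≤ (orbit P a).ncard := by
    rw [hj, hPcard] at hPa
    have e : (Nat.card (stabilizer G a)).factorization p + f =
        j + (((Nat.card (stabilizer G a)).factorization p - j) + f) := by omega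
    rw [e, pow_add] at hPa
    have := Nat.eq_of_mul_eq_mul_left (pow_pos hp.pos j) hPa
    rw [this, pow_add]
    exact Nat.le_mul_of_pos_left _ (pow_pos hp.pos _)
  have huniv : orbit P a = Set.univ := by
    rw [Set.eq_univ_iff_ncard, Nat.card_eq_fintype_card, hcard]
    apply le_antisymm
    · rw [← hcard, ← Nat.card_eq_fintype_card]
      exact Set.ncard_le_card _
    · exact horb
  constructor
  intro x y
  have hx : x ∈ orbit P a := by rw [huniv]; trivial
  have hy : y ∈ orbit P a := by rw [huniv]; trivial
  obtain ⟨g, rfl⟩ := hx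
  obtain ⟨h, rfl⟩ := hy
  exact ⟨h * g⁻¹, by rw [mul_smul, inv_smul_smul]⟩

end Cfsg.Agent.Lib.Lead.ModPerm
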