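import Mathlib
import Cfsg.Agent.S0670

set_option autoImplicit false

namespace Cfsg.Agent.Lib.Lead.ModPerm

open MulAction Cfsg

/-- In characteristic `p`, for a transitive action of degree `p ^ f`, every proper invariant subspace
of the permutation module lies inside the sum-zero functions. -/
theorem le_sumZero_or_eq_top {G : Type*} [Group G] [Finite G] {K : Type*} [Field K] {p f : ℕ}
    [Fact p.Prime] [CharP K p] {Ω : Type*} [Fintype Ω] [MulAction G Ω] [IsPretransitive G Ω]
    (hf : 1 ≤ f) (hcard : Fintype.card Ω = p ^ f) (U : Subrepresentation (permRep K G Ω)) :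
    U.toSubmodule ≤ (permSumZero K G Ω).toSubmodule ∨ U.toSubmodule = ⊤ := by
  classical
  by_cases htop : U.toSubmodule = ⊤
  · exact Or.inr htop
  left
  obtain ⟨ℓ, hℓ0, hℓ⟩ := Submodule.exists_le_ker_of_lt_top U.toSubmodule (lt_top_iff_ne_top.mpr htop)
  -- the orthogonal subrepresentation
  let Uperp : Subrepresentation (permRep K G Ω) :=
    { toSubmodule :=
        { carrier := {h | ∀ u ∈ U.toSubmodule, ∑ x, h x * u x = 0}
          add_mem' := by
            intro h₁ h₂ hh₁ hh₂ u hu
            simp only [Pi.add_apply, add_mul, Finset.sum_add_distrib]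
            rw [hh₁ u hu, hh₂ u hu, add_zero]
          zero_mem' := by
            intro u _
            simp
          smul_mem' := by
            intro c h hh u hu
            simp only [Pi.smul_apply, smul_eq_mul, mul_assoc, ← Finset.mul_sum]
            rw [hh u hu, mul_zero] }
      apply_mem_toSubmodule := by
        intro g h hh u hu
        change ∑ x, h (g⁻¹ • x) * u x = 0
        have hu' := U.apply_mem_toSubmodule g⁻¹ hu
        have := hh _ hu'
        change ∑ x, h x * u ((g⁻¹)⁻¹ • x) = 0 at this
        rw [inv_inv] at this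
        rw [← this]
        exact Fintype.sum_equiv (MulAction.toPerm g⁻¹) _ _ (fun x => by
          change h (g⁻¹ • x) * u x = h (g⁻¹ • x) * u (g • (g⁻¹ • x))
          rw [smul_inv_smul]) }
  -- the functional gives a nonzero element of Uperp
  have e : ∀ x : Ω, (fun j => if x = j then (1 : K) else 0) = Pi.single x 1 := by
    intro x
    funext j
    rw [Pi.single_apply]
    by_cases hxj : x = j
    · rw [if_pos hxj, if_pos hxj.symm]
    · rw [if_neg hxj, if_neg (fun h => hxj h.symm)]
  have hc : (fun x => ℓ (Pi.single x 1)) ∈ Uperp.toSubmodule := by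
    intro u hu
    have h1 : ℓ u = 0 := hℓ hu
    rw [LinearMap.pi_apply_eq_sum_univ ℓ u] at h1
    rw [← h1]
    apply Finset.sum_congr rfl
    intro x _
    rw [smul_eq_mul, mul_comm, e x]
  have hne : Uperp.toSubmodule ≠ ⊥ := by
    intro hbot
    apply hℓ0
    apply LinearMap.ext
    intro u
    rw [LinearMap.pi_apply_eq_sum_univ ℓ u, LinearMap.zero_apply]
    apply Finset.sum_eq_zero
    intro x _
    have h0 : (fun x => ℓ (Pi.single x 1)) = 0 := by
      have := hc
      rw [hbot, Submodule.mem_bot] at this
      exact this
    have h1 := congrFun h0 x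
    simp only [Pi.zero_apply] at h1
    rw [e x, h1, smul_zero]
  have hC := Cfsg.Agent.S0670.result hf hcard Uperp hne
  have h1 : (fun _ => (1 : K)) ∈ Uperp.toSubmodule := by
    apply hC
    change (fun _ => (1 : K)) ∈ Submodule.span K {fun _ => (1 : K)}
    exact Submodule.mem_span_singleton_self _
  intro u hu
  have := h1 u hu
  simp only [one_mul] at this
  exact this

end Cfsg.Agent.Lib.Lead.ModPerm
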