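import Mathlib
import Cfsg.Agent.Lib.Lead.TwoAdic

set_option autoImplicit false

namespace Cfsg.Agent.Lib.Lead

section
variable (k : ℕ)

/-- normal forms for an involutory automorphism `r` of `ZMod (2 ^ k)` and a fixed element `s` -/
theorem exists_normal_form (hk : 2 ≤ k) (r s : ZMod (2 ^ k)) (h1 : r * r = 1) (h2 : r * s = s)
    (h3 : r ≠ 1) :
    ∃ i : ZMod (2 ^ k), (r = -1 ∧ (r + 1) * i + s = 0) ∨ (r = -1 ∧ (r + 1) * i + s = 2 ^ (k - 1)) ∨
      (3 ≤ k ∧ r = 1 + 2 ^ (k - 1) ∧ (r + 1) * i + s = 0) ∨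
      (3 ≤ k ∧ r = 2 ^ (k - 1) - 1 ∧ (r + 1) * i + s = 0) := by
  have h2' : (r - 1) * s = 0 := by rw [sub_mul, h2, one_mul, sub_self]
  have hpow : (2 : ZMod (2 ^ k)) ^ (k - 1) * 2 = 0 := by
    rw [← pow_succ]
    exact zmod_two_pow_of_le k (by omega)
  -- the case `r = -1`
  have hneg : r = -1 → ∃ i : ZMod (2 ^ k), (r = -1 ∧ (r + 1) * i + s = 0) ∨
      (r = -1 ∧ (r + 1) * i + s = 2 ^ (k - 1)) ∨
      (3 ≤ k ∧ r = 1 + 2 ^ (k - 1) ∧ (r + 1) * i + s = 0) ∨
      (3 ≤ k ∧ r = 2 ^ (k - 1) - 1 ∧ (r + 1) * i + s = 0) := by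
    intro hr
    have h4 : 2 * s = 0 := by
      rw [hr] at h2'
      have : (-1 - 1 : ZMod (2 ^ k)) * s = -(2 * s) := by ring
      rw [this, neg_eq_zero] at h2'
      exact h2'
    refine ⟨0, ?_⟩
    rcases two_mul_eq_zero_cases k (by omega) s h4 with h5 | h5
    · left
      exact ⟨hr, by rw [mul_zero, zero_add, h5]⟩
    · right; left
      exact ⟨hr, by rw [mul_zero, zero_add, h5]⟩
  rcases sq_eq_one_cases k hk r h1 with hA | hB
  · -- `2 (r - 1) = 0`
    rcases two_mul_eq_zero_cases k (by omega) (r - 1) hA with h4 | h4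
    · exact absurd (sub_eq_zero.mp h4) h3
    · have hr : r = 1 + 2 ^ (k - 1) := by rw [← h4]; ring
      by_cases hk3 : 3 ≤ k
      · -- modular case
        have h5 : 2 ^ (k - 1) * s = 0 := by rw [← h4]; exact h2'
        obtain ⟨s', hs'⟩ := even_of_two_pow_mul_eq_zero k (by omega) s h5
        refine ⟨-((1 - 2 ^ (k - 2)) * s'), Or.inr (Or.inr (Or.inl ⟨hk3, hr, ?_⟩))⟩
        have h6 : (2 : ZMod (2 ^ k)) ^ (k - 1) * 2 ^ (k - 2) = 0 := by
          rw [← pow_add]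
          exact zmod_two_pow_of_le k (by omega)
        have h7 : (2 : ZMod (2 ^ k)) * 2 ^ (k - 2) = 2 ^ (k - 1) := by
          rw [← pow_succ']; congr 1; omega
        rw [hr, hs']
        have : (1 + 2 ^ (k - 1) + 1 : ZMod (2 ^ k)) * -((1 - 2 ^ (k - 2)) * s') + 2 * s' =
            (-(2 ^ (k - 1)) + 2 * 2 ^ (k - 2) + 2 ^ (k - 1) * 2 ^ (k - 2)) * s' := by ring
        rw [this, h6, h7]
        ring
      · -- `k = 2`
        have hk2 : k = 2 := by omega
        apply hneg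
        rw [hr, hk2]
        have h8 : (2 : ZMod (2 ^ 2)) ^ 2 = 0 := zmod_two_pow_self 2
        have : (1 + 2 ^ (2 - 1) : ZMod (2 ^ 2)) = -1 + 2 ^ 2 := by norm_num
        rw [this, h8, add_zero]
  · -- `2 (r + 1) = 0`
    rcases two_mul_eq_zero_cases k (by omega) (r + 1) hB with h4 | h4
    · exact hneg (eq_neg_of_add_eq_zero_left h4)
    · have hr : r = 2 ^ (k - 1) - 1 := by rw [← h4]; ring
      have hk3 : 3 ≤ k := by
        by_contra hlt
        have hk2 : k = 2 := by omega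
        apply h3
        rw [hr, hk2]
        have h8 : (2 : ZMod (2 ^ 2)) ^ 2 = 0 := zmod_two_pow_self 2
        have : (2 ^ (2 - 1) - 1 : ZMod (2 ^ 2)) = 1 - 2 ^ 2 + 2 * 2 := by norm_num
        rw [this]
        have h9 : (2 : ZMod (2 ^ 2)) * 2 = 2 ^ 2 := by norm_num
        rw [h9, h8]; ring
      have h5 : (2 : ZMod (2 ^ k)) ^ (k - 1) * s = 2 * s := by
        have : (r - 1) * s = 2 ^ (k - 1) * s - 2 * s := by rw [hr]; ring
        rw [this] at h2'
        exact sub_eq_zero.mp h2'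
      have h6 : (2 : ZMod (2 ^ k)) ^ (k - 1) * s = 0 := by
        have h7 : (2 : ZMod (2 ^ k)) ^ (k - 2) * (2 ^ (k - 1) * s) = 2 ^ (k - 2) * (2 * s) := by
          rw [h5]
        have h8 : (2 : ZMod (2 ^ k)) ^ (k - 2) * (2 ^ (k - 1) * s) = 0 := by
          rw [← mul_assoc, ← pow_add, zmod_two_pow_of_le k (by omega), zero_mul]
        have h9 : (2 : ZMod (2 ^ k)) ^ (k - 2) * (2 * s) = 2 ^ (k - 1) * s := by
          rw [← mul_assoc, ← pow_succ]; congr 2; omega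
        rw [← h9, ← h7, h8]
      have h7 : 2 * s = 0 := by rw [← h5, h6]
      rcases two_mul_eq_zero_cases k (by omega) s h7 with h8 | h8
      · exact ⟨0, Or.inr (Or.inr (Or.inr ⟨hk3, hr, by rw [mul_zero, zero_add, h8]⟩))⟩
      · refine ⟨1, Or.inr (Or.inr (Or.inr ⟨hk3, hr, ?_⟩))⟩
        rw [mul_one, h4, h8, ← mul_two]
        exact hpow

end

end Cfsg.Agent.Lib.Lead
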