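import Mathlib
import Cfsg.Prelude.Def_Transfer
import Cfsg.Prelude.Def_PLocal
import Cfsg.Prelude.Def_CaseTheorems
import Cfsg.Agent.Lib.Lead.CyclicMax
import Cfsg.Agent.Lib.Lead.CyclicMaxTwoB
import Cfsg.Agent.Lib.Lead.RankThree2
import Cfsg.Agent.Lib.Helper1.DihedralIso

set_option autoImplicit false

namespace Cfsg.Agent.Lib.Lead

namespace SympType

section
variable {H : Type*} [Group H] [Finite H] {p : ℕ} [hp : Fact p.Prime]

/-- In an odd `p`-group with a cyclic maximal subgroup `C`, the `p`-th powers of the elements of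
`C` are central. -/
theorem pow_p_mem_center_of_cyclic_maximal (hp2 : p ≠ 2) (hH : IsPGroup p H) (C : Subgroup H)
    (hC : IsCyclic C) (hCi : C.index = p) : ∀ c ∈ C, c ^ p ∈ Subgroup.center H := by
  classical
  by_cases hcyc : IsCyclic H
  · intro c _
    letI := IsCyclic.commGroup (α := H)
    rw [Subgroup.mem_center_iff]
    intro g
    exact mul_comm _ _
  obtain ⟨E, hEc, hEe, hEcard, hET⟩ := exists_omega_of_cyclic_maximal hp2 hH hcyc C hC hCi
  haveI hCn : C.Normal := normal_of_index_eq_p hH C hCi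
  -- an element of order `p` outside `C`
  obtain ⟨b₀, hb₀E, hb₀C⟩ : ∃ b₀ ∈ E, b₀ ∉ C := by
    by_contra hall
    push Not at hall
    have h1 : Nat.card (E.subgroupOf C) ≤ p :=
      card_le_of_forall_pow_eq_one (E.subgroupOf C) p hp.out.pos (fun x hx => by
        apply Subtype.ext
        rw [Subgroup.coe_pow, Subgroup.coe_one]
        exact hEe x hx)
    have h2 : Nat.card (E.subgroupOf C) = Nat.card E := by
      rw [← Nat.card_congr (Subgroup.subgroupOfEquivOfLe hall).toEquiv]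
    rw [h2, hEcard] at h1
    have := hp.out.one_lt
    nlinarith
  haveI hEn : E.Normal := by
    refine ⟨fun e he g => hET _ ?_⟩
    rw [conj_pow, hEe e he, mul_one, mul_inv_cancel]
  set D : Subgroup H := Subgroup.centralizer (E : Set H) with hD
  have hDcard := card_le_card_centralizer_mul_of_sq hH E hEcard
  have hpowD : ∀ c : H, c ^ p ∈ D := by
    intro c
    have hidx : D.index ∣ p := by
      have h1 := D.card_mul_index
      have h2 : D.index ≤ p := by
        rw [← h1] at hDcard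
        exact Nat.le_of_mul_le_mul_left hDcard Nat.card_pos
      obtain ⟨k, hk⟩ := IsPGroup.iff_card.mp hH
      have h3 : D.index ∣ p ^ k := by rw [← hk]; exact Subgroup.index_dvd_card D
      obtain ⟨i, -, hi⟩ := (Nat.dvd_prime_pow hp.out).mp h3
      rw [hi] at h2 ⊢
      rcases i with _ | _ | i
      · simp
      · simp
      · exfalso
        have : p ^ 2 ≤ p ^ (i + 1 + 1) := Nat.pow_le_pow_right hp.out.pos (by omega)
        have := hp.out.one_lt
        nlinarith
    rcases (Nat.dvd_prime hp.out).mp hidx with h | h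
    · rw [Subgroup.index_eq_one] at h
      rw [h]; exact Subgroup.mem_top _
    · rw [← h]; exact Subgroup.pow_index_mem D c
  intro c hc
  have hcomm : b₀ * c ^ p = c ^ p * b₀ := Subgroup.mem_centralizer_iff.mp (hpowD c) b₀ hb₀E
  -- `C ⊔ zpowers b₀ = ⊤`
  have hcoatom : IsCoatom C := isCoatom_of_index_prime (by rw [hCi]; exact hp.out)
  have htop : C ⊔ Subgroup.zpowers b₀ = ⊤ := by
    apply hcoatom.2
    refine lt_of_le_of_ne le_sup_left ?_
    intro h2
    apply hb₀C
    rw [h2]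
    exact (le_sup_right : Subgroup.zpowers b₀ ≤ _) (Subgroup.mem_zpowers b₀)
  have hCcomm : ∀ x ∈ C, x * c ^ p = c ^ p * x := by
    intro x hx
    letI := IsCyclic.commGroup (α := C)
    have := mul_comm (⟨x, hx⟩ : C) (⟨c, hc⟩ ^ p)
    exact congrArg Subtype.val this
  have hle : C ⊔ Subgroup.zpowers b₀ ≤ Subgroup.centralizer {c ^ p} := by
    apply sup_le
    · intro x hx
      rw [Subgroup.mem_centralizer_singleton_iff]
      exact hCcomm x hx
    · rw [Subgroup.zpowers_le, Subgroup.mem_centralizer_singleton_iff]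
      exact hcomm
  rw [Subgroup.mem_center_iff]
  intro g
  have hg : g ∈ Subgroup.centralizer {c ^ p} := hle (by rw [htop]; exact Subgroup.mem_top g)
  rw [Subgroup.mem_centralizer_singleton_iff] at hg
  exact hg

end

section
variable {G : Type*} [Group G]

theorem powerClosure_zpowers (p : ℕ) (a : G) :
    Cfsg.powerClosure p 1 (Subgroup.zpowers a) = Subgroup.zpowers (a ^ p) := by
  unfold Cfsg.powerClosure
  apply le_antisymm
  · rw [Subgroup.closure_le]
    rintro y ⟨x, hx, rfl⟩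
    obtain ⟨k, rfl⟩ := Subgroup.mem_zpowers_iff.mp hx
    rw [pow_one, SetLike.mem_coe, Subgroup.mem_zpowers_iff]
    refine ⟨k, ?_⟩
    rw [← zpow_natCast, ← zpow_natCast, ← zpow_mul, ← zpow_mul, mul_comm]
  · rw [Subgroup.zpowers_le]
    apply Subgroup.subset_closure
    exact ⟨a, Subgroup.mem_zpowers a, by rw [pow_one]⟩

theorem mem_centralizer_zpowers_iff (b g : G) :
    g ∈ Subgroup.centralizer (Subgroup.zpowers b : Set G) ↔ g * b = b * g := by
  constructor
  · intro h
    exact (Subgroup.mem_centralizer_iff.mp h b (Subgroup.mem_zpowers b)).symm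
  · intro h
    rw [Subgroup.mem_centralizer_iff]
    intro x hx
    obtain ⟨k, rfl⟩ := Subgroup.mem_zpowers_iff.mp hx
    exact ((show Commute g b from h).zpow_right k).eq.symm

/-- bounding a relative index by a conjugation map -/
theorem relIndex_le_of_conj {U M : Subgroup G} (a : G) (T : Set G) [Finite T]
    (hUa : ∀ u ∈ U, u * a = a * u)
    (hc : ∀ m ∈ M, m * a * m⁻¹ * a⁻¹ ∈ T)
    (hcent : ∀ g ∈ M, g * a = a * g → g ∈ U) : U.relIndex M ≤ Nat.card T := by
  classical
  rw [Subgroup.relIndex, Subgroup.index]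
  let f : (↥M ⧸ U.subgroupOf M) → T := Quotient.lift
    (fun m : M => (⟨(m : G) * a * (m : G)⁻¹ * a⁻¹, hc m m.2⟩ : T)) (by
      intro m₁ m₂ h
      have h1 : m₁⁻¹ * m₂ ∈ U.subgroupOf M := QuotientGroup.leftRel_apply.mp h
      rw [Subgroup.mem_subgroupOf] at h1
      have h2 := hUa _ h1
      apply Subtype.ext
      show (m₁ : G) * a * (m₁ : G)⁻¹ * a⁻¹ = (m₂ : G) * a * (m₂ : G)⁻¹ * a⁻¹
      simp only [Subgroup.coe_mul, Subgroup.coe_inv] at h2
      have h3 : (m₂ : G) * a * (m₂ : G)⁻¹ = (m₁ : G) * a * (m₁ : G)⁻¹ := by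
        have : (m₂ : G) = (m₁ : G) * ((m₁ : G)⁻¹ * (m₂ : G)) := by group
        rw [this]
        have h4 : (m₁ : G) * ((m₁ : G)⁻¹ * (m₂ : G)) * a * ((m₁ : G) * ((m₁ : G)⁻¹ * (m₂ : G)))⁻¹ =
            (m₁ : G) * (((m₁ : G)⁻¹ * (m₂ : G)) * a) * ((m₁ : G)⁻¹ * (m₂ : G))⁻¹ * (m₁ : G)⁻¹ := by
          group
        rw [h4, h2]
        group
      rw [h3])
  have hf : Function.Injective f := by
    intro q₁ q₂
    induction q₁ using Quotient.inductionOn with
    | _ m₁ =>
    induction q₂ using Quotient.inductionOn with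
    | _ m₂ =>
    intro h
    apply Quotient.sound
    apply QuotientGroup.leftRel_apply.mpr
    rw [Subgroup.mem_subgroupOf]
    have h1 : (m₁ : G) * a * (m₁ : G)⁻¹ * a⁻¹ = (m₂ : G) * a * (m₂ : G)⁻¹ * a⁻¹ :=
      congrArg Subtype.val h
    have h2 : (m₁ : G) * a * (m₁ : G)⁻¹ = (m₂ : G) * a * (m₂ : G)⁻¹ := mul_right_cancel h1
    apply hcent _ (M.mul_mem (M.inv_mem m₁.2) m₂.2)
    show ((m₁ : G)⁻¹ * (m₂ : G)) * a = a * ((m₁ : G)⁻¹ * (m₂ : G))
    have h3 : a = (m₁ : G)⁻¹ * ((m₂ : G) * a * (m₂ : G)⁻¹) * (m₁ : G) := by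
      rw [← h2]; group
    calc (m₁ : G)⁻¹ * (m₂ : G) * a = ((m₁ : G)⁻¹ * ((m₂ : G) * a * (m₂ : G)⁻¹) * (m₁ : G)) *
          ((m₁ : G)⁻¹ * (m₂ : G)) := by group
      _ = a * ((m₁ : G)⁻¹ * (m₂ : G)) := by rw [← h3]
  exact Nat.card_le_card_of_injective f hf

end

end SympType

end Cfsg.Agent.Lib.Lead
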