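import Mathlib
import Cfsg.Agent.Lib.Lead.SympType1
import Cfsg.Agent.Lib.Lead.ExtraspecialCentral

set_option autoImplicit false

namespace Cfsg.Agent.Lib.Lead

namespace SympType

section
variable {G : Type*} [Group G] [Finite G] {p : ℕ} [hp : Fact p.Prime]
  (hG : IsPGroup p G) (U : Subgroup G) [hUn : U.Normal] (a : G) (hUa : Subgroup.zpowers a = U)
  (n : ℕ) (hao : orderOf a = p ^ n) (hC : Subgroup.centralizer (U : Set G) = U)

/-- the subgroup `M = C_G(℧¹(U))` -/
def MM (p : ℕ) (U : Subgroup G) : Subgroup G :=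
  Subgroup.centralizer (Cfsg.powerClosure p 1 U : Set G)

include hUa in
theorem mem_MM_iff (g : G) : g ∈ MM p U ↔ g * a ^ p = a ^ p * g := by
  unfold MM
  rw [← hUa, powerClosure_zpowers, mem_centralizer_zpowers_iff]

include hUa hC in
theorem mem_of_comm (g : G) (h : g * a = a * g) : g ∈ U := by
  have h1 : g ∈ Subgroup.centralizer (U : Set G) := by
    rw [← hUa, mem_centralizer_zpowers_iff]
    exact h
  rwa [hC] at h1

include hUa in
theorem comm_of_mem (u : G) (hu : u ∈ U) : u * a = a * u := by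
  rw [← hUa] at hu
  obtain ⟨k, rfl⟩ := Subgroup.mem_zpowers_iff.mp hu
  exact ((Commute.refl a).zpow_left k).eq

include hUa in
theorem U_le_MM : U ≤ MM p U := by
  intro u hu
  rw [mem_MM_iff U a hUa]
  exact ((show Commute u a from comm_of_mem U a hUa u hu).pow_right p).eq

include hUa in
theorem comm_of_mem_mem (u v : G) (hu : u ∈ U) (hv : v ∈ U) : u * v = v * u := by
  rw [← hUa] at hu hv
  obtain ⟨k, rfl⟩ := Subgroup.mem_zpowers_iff.mp hu
  obtain ⟨l, rfl⟩ := Subgroup.mem_zpowers_iff.mp hv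
  exact (((Commute.refl a).zpow_left k).zpow_right l).eq

/-- the elements of `U` of order dividing `p` -/
def TT (p : ℕ) (U : Subgroup G) : Set G := {u | u ∈ U ∧ u ^ p = 1}

instance : Finite (TT p U) := Set.toFinite _ |>.to_subtype

include hUa in
theorem card_TT_le : Nat.card (TT p U) ≤ p := by
  haveI : IsCyclic U := by
    rw [← hUa]; infer_instance
  refine le_trans ?_ (card_pow_eq_one_le_of_isCyclic (C := U) p hp.out.pos)
  apply Nat.card_le_card_of_injective
    (fun x : TT p U => (⟨⟨x.1, x.2.1⟩, by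
      apply Subtype.ext
      rw [Subgroup.coe_pow, Subgroup.coe_one]
      exact x.2.2⟩ : {y : U // y ^ p = 1}))
  intro x y hxy
  apply Subtype.ext
  have := congrArg (fun z : {y : U // y ^ p = 1} => ((z : U) : G)) hxy
  exact this

include hUa in
theorem conj_mem_TT (m : G) (hm : m ∈ MM p U) : m * a * m⁻¹ * a⁻¹ ∈ TT p U := by
  have haU : a ∈ U := by rw [← hUa]; exact Subgroup.mem_zpowers a
  have h1 : m * a * m⁻¹ ∈ U := hUn.conj_mem a haU m
  refine ⟨U.mul_mem h1 (U.inv_mem haU), ?_⟩
  have hcomm : Commute (m * a * m⁻¹) a⁻¹ :=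
    comm_of_mem_mem U a hUa _ _ h1 (U.inv_mem haU)
  rw [hcomm.mul_pow, conj_pow, inv_pow]
  rw [mem_MM_iff U a hUa] at hm
  rw [hm]
  group

include hUa hC in
theorem relIndex_MM_le : U.relIndex (MM p U) ≤ p := by
  refine le_trans (relIndex_le_of_conj a (TT p U) (comm_of_mem U a hUa)
    (conj_mem_TT U a hUa) (fun g _ h => mem_of_comm U a hUa hC g h)) (card_TT_le U a hUa)

omit [Finite G] hp hUn in
theorem card_mul_relIndex' {K : Subgroup G} (hUK : U ≤ K) :
    Nat.card U * U.relIndex K = Nat.card K := by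
  have h1 := (U.subgroupOf K).card_mul_index
  rw [Nat.card_congr (Subgroup.subgroupOfEquivOfLe hUK).toEquiv] at h1
  exact h1

include hG hUa hao hC in
theorem relIndex_MM_eq_of_odd (hp2 : p ≠ 2) (hne : U ≠ ⊤) : U.relIndex (MM p U) = p := by
  classical
  have hUcard : Nat.card U = p ^ n := by rw [← hUa, Nat.card_zpowers, hao]
  obtain ⟨k, hk⟩ := IsPGroup.iff_card.mp hG
  have hnk : n < k := by
    by_contra h
    push Not at h
    apply hne
    apply Subgroup.eq_top_of_le_card
    rw [hUcard, hk]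
    exact Nat.pow_le_pow_right hp.out.pos h
  obtain ⟨K, hKcard, hUK⟩ := Sylow.exists_subgroup_card_pow_succ
    (by rw [hk]; exact pow_dvd_pow p hnk) hUcard
  have hrel : U.relIndex K = p := by
    have h1 := card_mul_relIndex' U hUK
    rw [hUcard, hKcard, pow_succ] at h1
    exact Nat.eq_of_mul_eq_mul_left (pow_pos hp.out.pos n) h1
  have hKM : K ≤ MM p U := by
    intro x hx
    rw [mem_MM_iff U a hUa]
    have hcyc : IsCyclic (U.subgroupOf K) := by
      haveI : IsCyclic U := by rw [← hUa]; infer_instance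
      exact isCyclic_of_surjective (Subgroup.subgroupOfEquivOfLe hUK).symm.toMonoidHom
        (Subgroup.subgroupOfEquivOfLe hUK).symm.surjective
    have haK : a ∈ K := hUK (by rw [← hUa]; exact Subgroup.mem_zpowers a)
    have h1 := pow_p_mem_center_of_cyclic_maximal hp2 (hG.to_subgroup K) (U.subgroupOf K) hcyc hrel
      ⟨a, haK⟩ (by rw [Subgroup.mem_subgroupOf]; rw [← hUa]; exact Subgroup.mem_zpowers a)
    rw [Subgroup.mem_center_iff] at h1
    have h2 := h1 ⟨x, hx⟩
    exact congrArg Subtype.val h2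
  have h3 := Subgroup.relIndex_mul_relIndex U K (MM p U) hUK hKM
  rw [hrel] at h3
  have h4 : U.relIndex (MM p U) ≤ p := relIndex_MM_le U a hUa hC
  have h5 : p ∣ U.relIndex (MM p U) := ⟨_, h3.symm⟩
  have h6 : U.relIndex (MM p U) ≠ 0 := by
    rw [Subgroup.relIndex]
    exact Subgroup.index_ne_zero_of_finite
  exact le_antisymm h4 (Nat.le_of_dvd (Nat.pos_of_ne_zero h6) h5)

include hUa in
/-- every normal elementary abelian subgroup lies in `M` -/
theorem le_MM_of_normal_elementary (F : Subgroup G) [hFn : F.Normal]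
    (hFe : ∀ x ∈ F, x ^ p = 1) : F ≤ MM p U := by
  intro f hf
  rw [mem_MM_iff U a hUa]
  have haU : a ∈ U := by rw [← hUa]; exact Subgroup.mem_zpowers a
  have h1 : f * a * f⁻¹ ∈ U := hUn.conj_mem a haU f
  have h2 : f * a * f⁻¹ * a⁻¹ ∈ F := by
    have : f * a * f⁻¹ * a⁻¹ = f * (a * f⁻¹ * a⁻¹) := by group
    rw [this]
    exact F.mul_mem hf (hFn.conj_mem _ (F.inv_mem hf) a)
  have h3 := hFe _ h2
  have hcomm : Commute (f * a * f⁻¹) a⁻¹ :=
    comm_of_mem_mem U a hUa _ _ h1 (U.inv_mem haU)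
  rw [hcomm.mul_pow, conj_pow, inv_pow] at h3
  have h4 : f * a ^ p * f⁻¹ = a ^ p := by
    rw [mul_inv_eq_one] at h3
    exact h3
  calc f * a ^ p = (f * a ^ p * f⁻¹) * f := by group
    _ = a ^ p * f := by rw [h4]

end

section
variable {G : Type*} [Group G] [Finite G] {p : ℕ} [hp : Fact p.Prime]

/-- from an `Ω₁` of the right shape inside `M` to the conclusions on `omegaOne p M` -/
theorem omegaOne_of_sub (M : Subgroup G) (E : Subgroup M) (hEc : IsMulCommutative E)
    (hEe : ∀ e ∈ E, e ^ p = 1) (hEcard : Nat.card E = p ^ 2)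
    (hET : ∀ y : M, y ^ p = 1 → y ∈ E) :
    Cfsg.omegaOne p M = E.map M.subtype := by
  unfold Cfsg.omegaOne
  apply le_antisymm
  · rw [Subgroup.closure_le]
    rintro x ⟨hxM, hxp⟩
    refine ⟨⟨x, hxM⟩, hET _ ?_, rfl⟩
    apply Subtype.ext
    rw [Subgroup.coe_pow, Subgroup.coe_one]
    exact hxp
  · rintro _ ⟨e, he, rfl⟩
    apply Subgroup.subset_closure
    refine ⟨e.2, ?_⟩
    have := hEe e he
    exact congrArg Subtype.val this

theorem isElementaryAbelian_map (M : Subgroup G) (E : Subgroup M) (hEc : IsMulCommutative E)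
    (hEe : ∀ e ∈ E, e ^ p = 1) : Cfsg.IsElementaryAbelian p (E.map M.subtype) := by
  constructor
  · constructor
    constructor
    rintro ⟨_, x, hx, rfl⟩ ⟨_, y, hy, rfl⟩
    apply Subtype.ext
    have := hEc.is_comm.comm ⟨x, hx⟩ ⟨y, hy⟩
    have h2 := congrArg (fun z : E => ((z : M) : G)) this
    exact h2
  · rintro _ ⟨e, he, rfl⟩
    have := hEe e he
    exact congrArg Subtype.val this

theorem card_map_subtype' (M : Subgroup G) (E : Subgroup M) :
    Nat.card (E.map M.subtype) = Nat.card E :=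
  (Nat.card_congr (E.equivMapOfInjective M.subtype M.subtype_injective).toEquiv).symm

end

end SympType

end Cfsg.Agent.Lib.Lead
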