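import Mathlib
import Cfsg.Agent.Lib.Lead.SympType2

set_option autoImplicit false

namespace Cfsg.Agent.Lib.Lead

namespace SympType

section
variable {G : Type*} [Group G] [Finite G] {p : ℕ} [hp : Fact p.Prime]
  (hG : IsPGroup p G) (U : Subgroup G) [hUn : U.Normal] (a : G) (hUa : Subgroup.zpowers a = U)
  (n : ℕ) (hao : orderOf a = p ^ n) (hC : Subgroup.centralizer (U : Set G) = U)

include hG hUa hao hC in
theorem two_le_n (hne : U ≠ ⊤) : 2 ≤ n := by
  by_contra hlt
  push Not at hlt
  apply hne
  have hUcard : Nat.card U = p ^ n := by rw [← hUa, Nat.card_zpowers, hao]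
  have hcen : a ∈ Subgroup.center G := by
    interval_cases n
    · rw [pow_zero, orderOf_eq_one_iff] at hao
      rw [hao]; exact Subgroup.one_mem _
    · rw [pow_one] at hUcard
      exact le_center_of_normal_of_card_prime hG U hUcard
        (by rw [← hUa]; exact Subgroup.mem_zpowers a)
  rw [eq_top_iff]
  intro g _
  apply mem_of_comm U a hUa hC
  exact (Subgroup.mem_center_iff.mp hcen g)

include hUa in
/-- the characteristic property, from the shape of `Ω₁(M)` -/
theorem omegaOne_characteristic
    (hEe : Cfsg.IsElementaryAbelian p (Cfsg.omegaOne p (MM p U)))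
    (hEcard : Nat.card (Cfsg.omegaOne p (MM p U)) = p ^ 2) :
    (Cfsg.omegaOne p (MM p U)).Characteristic := by
  classical
  have hMn : (MM p U).Normal := by
    unfold MM
    haveI : (Cfsg.powerClosure p 1 U).Normal := by
      rw [← hUa, powerClosure_zpowers]
      constructor
      intro x hx g
      obtain ⟨k, rfl⟩ := Subgroup.mem_zpowers_iff.mp hx
      have haU : a ∈ U := by rw [← hUa]; exact Subgroup.mem_zpowers a
      have h1 : g * a * g⁻¹ ∈ Subgroup.zpowers a := by rw [hUa]; exact hUn.conj_mem a haU g
      obtain ⟨l, hl⟩ := Subgroup.mem_zpowers_iff.mp h1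
      rw [Subgroup.mem_zpowers_iff]
      refine ⟨l * k, ?_⟩
      have h2 : g * (a ^ p) ^ k * g⁻¹ = ((g * a * g⁻¹) ^ p) ^ k := by
        have := map_zpow (MulAut.conj g) (a ^ p) k
        rw [map_pow] at this
        simpa [MulAut.conj_apply] using this
      rw [h2, ← hl, ← zpow_natCast, ← zpow_natCast, ← zpow_mul, ← zpow_mul, ← zpow_mul]
      congr 1
      ring
    exact Subgroup.normal_centralizer
  -- uniqueness
  have huniq : ∀ F : Subgroup G, F.Normal → (∀ x ∈ F, x ^ p = 1) → Nat.card F = p ^ 2 →
      F = Cfsg.omegaOne p (MM p U) := by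
    intro F hFn hFe hFcard
    have h1 : F ≤ MM p U := le_MM_of_normal_elementary U a hUa F hFe
    have h2 : F ≤ Cfsg.omegaOne p (MM p U) := by
      intro x hx
      apply Subgroup.subset_closure
      exact ⟨h1 hx, hFe x hx⟩
    exact Subgroup.eq_of_le_of_card_ge h2 (by rw [hEcard, hFcard])
  constructor
  intro φ
  apply huniq
  · exact Subgroup.Normal.comap (by
      -- normality of `omegaOne p M`
      constructor
      intro x hx g
      unfold Cfsg.omegaOne at hx ⊢
      have : (MulAut.conj g) x ∈ (Subgroup.closure {x : G | x ∈ MM p U ∧ x ^ p = 1}).map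
          (MulAut.conj g).toMonoidHom := Subgroup.mem_map_of_mem _ hx
      rw [MonoidHom.map_closure] at this
      refine Subgroup.closure_mono ?_ this
      rintro _ ⟨y, ⟨hyM, hyp⟩, rfl⟩
      refine ⟨hMn.conj_mem y hyM g, ?_⟩
      show (g * y * g⁻¹) ^ p = 1
      rw [conj_pow, hyp, mul_one, mul_inv_cancel]) _
  · intro x hx
    have h1 : φ x ∈ Cfsg.omegaOne p (MM p U) := hx
    have h2 := hEe.2 _ h1
    rw [← map_pow] at h2
    exact φ.injective (by rw [h2, map_one])
  · rw [← hEcard, Subgroup.comap_equiv_eq_map_symm']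
    exact Subgroup.card_map_of_injective φ.symm.injective

end

end SympType

end Cfsg.Agent.Lib.Lead
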