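import Mathlib
import Cfsg.Agent.Lib.Lead.SympType3

set_option autoImplicit false

namespace Cfsg.Agent.Lib.Lead

namespace SympType

section
variable {G : Type*} [Group G] [Finite G]

/-- the classification of non-abelian `2`-groups with a cyclic maximal subgroup, for subgroups -/
theorem exists_generators_sub (H U : Subgroup G) (hUH : U ≤ H) (n : ℕ) (hn : 2 ≤ n)
    (hHcard : Nat.card H = 2 ^ (n + 1)) (hUcyc : IsCyclic U) (hUcard : Nat.card U = 2 ^ n)
    (hna : ∃ x ∈ H, ∃ y ∈ H, x * y ≠ y * x) :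
    ∃ a b : G, Subgroup.zpowers a = U ∧ orderOf a = 2 ^ n ∧ b ∈ H ∧ b ∉ U ∧
      ((b ^ 2 = 1 ∧ b * a * b⁻¹ = a⁻¹) ∨ (b ^ 2 = a ^ (2 ^ (n - 1)) ∧ b * a * b⁻¹ = a⁻¹) ∨
        (3 ≤ n ∧ b ^ 2 = 1 ∧ b * a * b⁻¹ = a ^ (1 + 2 ^ (n - 1))) ∨
        (3 ≤ n ∧ b ^ 2 = 1 ∧ b * a * b⁻¹ = a ^ (2 ^ (n - 1) - 1))) := by
  classical
  have hcyc : IsCyclic (U.subgroupOf H) :=
    isCyclic_of_surjective (Subgroup.subgroupOfEquivOfLe hUH).symm.toMonoidHom
      (Subgroup.subgroupOfEquivOfLe hUH).symm.surjective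
  have hidx : (U.subgroupOf H).index = 2 := by
    have h1 := card_mul_relIndex' U hUH
    rw [hUcard, hHcard, pow_succ] at h1
    exact Nat.eq_of_mul_eq_mul_left (by positivity) h1
  have hna' : ∃ x y : H, x * y ≠ y * x := by
    obtain ⟨x, hx, y, hy, hxy⟩ := hna
    refine ⟨⟨x, hx⟩, ⟨y, hy⟩, fun h => hxy ?_⟩
    exact congrArg Subtype.val h
  obtain ⟨a', b', hCa, hao, hb, hforms⟩ :=
    exists_generators_of_cyclic_maximal_two' (n + 1) (by omega) hHcard (U.subgroupOf H) hcyc hidx
      hna'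
  have e1 : n + 1 - 1 = n := by omega
  have e2 : n + 1 - 2 = n - 1 := by omega
  rw [e1] at hao
  rw [e2] at hforms
  refine ⟨(a' : G), (b' : G), ?_, ?_, b'.2, ?_, ?_⟩
  · have h1 : (Subgroup.zpowers a').map H.subtype = Subgroup.zpowers (a' : G) := by
      rw [MonoidHom.map_zpowers]; rfl
    rw [← h1, hCa, Subgroup.subgroupOf_map_subtype, inf_eq_left.mpr hUH]
  · rw [Subgroup.orderOf_coe, hao]
  · intro hbU
    apply hb
    rw [hCa, Subgroup.mem_subgroupOf]
    exact hbU
  · have hc2 : ∀ x : H, ((x ^ 2 : H) : G) = (x : G) ^ 2 := fun x => Subgroup.coe_pow H x 2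
    have hconj : ((b' * a' * b'⁻¹ : H) : G) = (b' : G) * (a' : G) * (b' : G)⁻¹ := by
      simp only [Subgroup.coe_mul, Subgroup.coe_inv]
    rcases hforms with ⟨h1, h2⟩ | ⟨h1, h2⟩ | ⟨h0, h1, h2⟩ | ⟨h0, h1, h2⟩
    · left
      refine ⟨?_, ?_⟩
      · rw [← hc2, h1]; rfl
      · rw [← hconj, h2]; rfl
    · right; left
      refine ⟨?_, ?_⟩
      · rw [← hc2, h1]; rfl
      · rw [← hconj, h2]; rfl
    · right; right; left
      refine ⟨by omega, ?_, ?_⟩
      · rw [← hc2, h1]; rfl
      · rw [← hconj, h2]; rfl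
    · right; right; right
      refine ⟨by omega, ?_, ?_⟩
      · rw [← hc2, h1]; rfl
      · rw [← hconj, h2]; rfl

/-- the centralizer of an element of order `4` generating a normal subgroup has index at most `2` -/
theorem index_centralizer_le_two (w : G) (hw : orderOf w = 4) [hn : (Subgroup.zpowers w).Normal] :
    (Subgroup.centralizer (Subgroup.zpowers w : Set G)).index ≤ 2 := by
  classical
  have hw4 : w ^ 4 = 1 := by rw [← hw]; exact pow_orderOf_eq_one w
  have hw1 : w ≠ 1 := by
    intro h; rw [h, orderOf_one] at hw; norm_num at hw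
  have hw2 : w ^ 2 ≠ 1 := by
    intro h
    have := orderOf_dvd_of_pow_eq_one h
    rw [hw] at this
    norm_num at this
  set T : Set G := {1, w⁻¹ * w⁻¹} with hT
  haveI : Finite T := Set.toFinite _ |>.to_subtype
  have hcardT : Nat.card T ≤ 2 := by
    rw [Nat.card_coe_set_eq]
    exact (Set.ncard_insert_le _ _).trans (by rw [Set.ncard_singleton])
  have h1 := relIndex_le_of_conj (U := Subgroup.centralizer (Subgroup.zpowers w : Set G))
    (M := ⊤) w T
    (fun u hu => ((mem_centralizer_zpowers_iff w u).mp hu))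
    (fun g _ => by
      have h2 : g * w * g⁻¹ ∈ Subgroup.zpowers w := hn.conj_mem w (Subgroup.mem_zpowers w) g
      obtain ⟨k, hk⟩ := Subgroup.mem_zpowers_iff.mp h2
      -- reduce `k` modulo `4`
      have hk4 : w ^ k = w ^ (k % 4) := by
        conv_lhs => rw [← Int.emod_add_mul_ediv k 4]
        rw [zpow_add, zpow_mul]
        have : w ^ (4 : ℤ) = 1 := by exact_mod_cast hw4
        rw [this, one_zpow, mul_one]
      have hr : k % 4 = 0 ∨ k % 4 = 1 ∨ k % 4 = 2 ∨ k % 4 = 3 := by omega
      rw [hk4] at hk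
      rcases hr with hr | hr | hr | hr
      · exfalso
        rw [hr, zpow_zero] at hk
        apply hw1
        have : g * w * g⁻¹ = 1 := hk.symm
        rw [mul_inv_eq_one] at this
        exact mul_left_cancel (this.trans (mul_one g).symm)
      · left
        rw [hr, zpow_one] at hk
        rw [← hk, mul_inv_cancel]
      · exfalso
        rw [hr] at hk
        have h3 : (g * w * g⁻¹) ^ 2 = 1 := by
          rw [← hk]
          have : (w ^ (2 : ℤ)) ^ 2 = w ^ 4 := by
            rw [← zpow_natCast, ← zpow_mul]; norm_num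
          rw [this, hw4]
        rw [conj_pow, mul_inv_eq_one] at h3
        exact hw2 (mul_left_cancel (h3.trans (mul_one g).symm))
      · right
        rw [hr] at hk
        rw [Set.mem_singleton_iff, ← hk]
        have : w ^ (3 : ℤ) = w⁻¹ := by
          have h4 : w ^ (3 : ℤ) * w = 1 := by
            have : w ^ (3 : ℤ) * w = w ^ 4 := by
              rw [← zpow_natCast w 4]
              conv_lhs => rw [← zpow_one w, ← zpow_mul, ← zpow_add]
              norm_num
            rw [this, hw4]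
          exact eq_inv_of_mul_eq_one_left h4
        rw [this])
    (fun g _ h => (mem_centralizer_zpowers_iff w g).mpr h)
  rw [Subgroup.relIndex_top_right] at h1
  exact h1.trans hcardT

end

end SympType

end Cfsg.Agent.Lib.Lead
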