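import Mathlib
import Cfsg.Agent.Lib.Lead.SympType4

set_option autoImplicit false

namespace Cfsg.Agent.Lib.Lead

namespace SympType

section
variable {G : Type*} [Group G] [Finite G]

/-- recognition of the dihedral, quaternion and quasi-dihedral groups -/
theorem conclusion_A (n : ℕ) (hn : 2 ≤ n) (hGcard : Nat.card G = 2 ^ (n + 1)) (a b : G)
    (hao : orderOf a = 2 ^ n) (hb : b ∉ Subgroup.zpowers a)
    (hforms : (b ^ 2 = 1 ∧ b * a * b⁻¹ = a⁻¹) ∨ (b ^ 2 = a ^ (2 ^ (n - 1)) ∧ b * a * b⁻¹ = a⁻¹) ∨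
        (3 ≤ n ∧ b ^ 2 = 1 ∧ b * a * b⁻¹ = a ^ (2 ^ (n - 1) - 1))) :
    (∃ m : ℕ, Nonempty (G ≃* DihedralGroup m)) ∨ (∃ m : ℕ, Nonempty (G ≃* QuaternionGroup m)) ∨
      Cfsg.IsQuasiDihedral G := by
  classical
  have hb1 : b ≠ 1 := fun h => hb (h ▸ Subgroup.one_mem _)
  rcases hforms with ⟨h1, h2⟩ | ⟨h1, h2⟩ | ⟨h0, h1, h2⟩
  · left
    refine ⟨2 ^ n, ?_⟩
    have hbo : orderOf b = 2 := orderOf_eq_prime h1 hb1
    have hbb : b * b = 1 := by rw [← sq]; exact h1
    have hbinv : b⁻¹ = b := inv_eq_of_mul_eq_one_right hbb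
    have hy2 : (b * a) ^ 2 = 1 := by
      have h3 : b * a = a⁻¹ * b := by
        calc b * a = (b * a * b⁻¹) * b := by group
          _ = a⁻¹ * b := by rw [h2]
      rw [sq]
      calc b * a * (b * a) = (b * a) * b * a := by group
        _ = a⁻¹ * b * b * a := by rw [h3]
        _ = a⁻¹ * (b * b) * a := by group
        _ = 1 := by rw [hbb]; group
    have hy1 : b * a ≠ 1 := by
      intro h
      apply hb
      have : b = a⁻¹ := eq_inv_of_mul_eq_one_left h
      rw [this]
      exact Subgroup.inv_mem _ (Subgroup.mem_zpowers a)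
    have hyo : orderOf (b * a) = 2 := orderOf_eq_prime hy2 hy1
    have hxy : b * (b * a) = a := by rw [← mul_assoc, hbb, one_mul]
    have hne : orderOf (b * (b * a)) ≠ 0 := by
      rw [hxy, hao]; positivity
    obtain ⟨e⟩ := Cfsg.Agent.Lib.Helper1.DihedralIso.closure_equiv_dihedral b (b * a) hbo hyo hne
    rw [hxy, hao] at e
    have htop : Subgroup.closure ({b, b * a} : Set G) = ⊤ := by
      apply Subgroup.eq_top_of_card_eq
      rw [Nat.card_congr e.toEquiv, DihedralGroup.nat_card, hGcard, pow_succ, mul_comm]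
    exact ⟨(Subgroup.topEquiv.symm.trans (MulEquiv.subgroupCongr htop.symm)).trans e⟩
  · right; left
    refine ⟨2 ^ (n - 1), ?_⟩
    haveI : NeZero (2 ^ (n - 1)) := ⟨by positivity⟩
    have e1 : 2 * 2 ^ (n - 1) = 2 ^ n := by
      rw [← pow_succ']; congr 1; omega
    exact quaternion_recognition (2 ^ (n - 1)) a b (by rw [hao, e1]) h1 h2 hb
      (by rw [hGcard, pow_succ, ← e1]; ring)
  · right; right
    exact ⟨n, h0, hGcard, a, b, hao, orderOf_eq_prime h1 hb1, h2⟩

end

section
variable {G : Type*} [Group G] [Finite G]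

/-- `Ω₁` of the modular `2`-group -/
theorem omega_two (M U : Subgroup G) (hUM : U ≤ M) (a b : G) (hUa : Subgroup.zpowers a = U)
    (n : ℕ) (hn : 3 ≤ n) (hao : orderOf a = 2 ^ n) (hrel : U.relIndex M = 2) (hbM : b ∈ M)
    (hbU : b ∉ U) (hb2 : b ^ 2 = 1) (hba : b * a * b⁻¹ = a ^ (1 + 2 ^ (n - 1))) :
    Cfsg.IsElementaryAbelian 2 (Cfsg.omegaOne 2 M) ∧ Nat.card (Cfsg.omegaOne 2 M) = 2 ^ 2 := by
  classical
  have haU : a ∈ U := by rw [← hUa]; exact Subgroup.mem_zpowers a
  have hapow : a ^ (2 ^ n) = 1 := by rw [← hao]; exact pow_orderOf_eq_one a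
  set z : G := a ^ (2 ^ (n - 1)) with hz
  have e1 : 2 ^ (n - 1) * 2 = 2 ^ n := by
    rw [← pow_succ]; congr 1; omega
  have hz2 : z ^ 2 = 1 := by rw [hz, ← pow_mul, e1, hapow]
  have hzz : z * z = 1 := by rw [← sq]; exact hz2
  have hz1 : z ≠ 1 := by
    rw [hz]
    apply pow_ne_one_of_lt_orderOf (by positivity)
    rw [hao]
    exact Nat.pow_lt_pow_right (by norm_num) (by omega)
  have hzU : z ∈ U := U.pow_mem haU _
  have hbb : b * b = 1 := by rw [← sq]; exact hb2
  have hbinv : b⁻¹ = b := inv_eq_of_mul_eq_one_right hbb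
  have hzpow : ∀ k : ℕ, z ^ k = 1 ∨ z ^ k = z := by
    intro k
    rcases Nat.even_or_odd' k with ⟨j, hj | hj⟩
    · left; rw [hj, pow_mul, hz2, one_pow]
    · right; rw [hj, pow_succ, pow_mul, hz2, one_pow, one_mul]
  -- conjugation by `b` on powers of `a`
  have hconj : ∀ k : ℕ, b * a ^ k * b⁻¹ = a ^ k * z ^ k := by
    intro k
    rw [← conj_pow, hba, ← pow_mul, hz, ← pow_mul, ← pow_add]
    congr 1
    ring
  have hbz : b * z = z * b := by
    have h1 := hconj (2 ^ (n - 1))
    rw [← hz] at h1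
    have h2 : z ^ (2 ^ (n - 1)) = 1 := by
      have : 2 ^ (n - 1) = 2 * 2 ^ (n - 2) := by
        rw [← pow_succ']; congr 1; omega
      rw [this, pow_mul, hz2, one_pow]
    rw [h2, mul_one] at h1
    calc b * z = (b * z * b⁻¹) * b := by group
      _ = z * b := by rw [h1]
  -- Claim 1
  have hclaim1 : ∀ x ∈ U, x ^ 2 = 1 → x = 1 ∨ x = z := by
    intro x hx hx2
    rw [← hUa] at hx
    obtain ⟨i, hi⟩ := (isOfFinOrder_of_finite a).mem_powers_iff_mem_zpowers.mpr hx
    have hi' : a ^ i = x := hi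
    subst hi'
    rw [← pow_mul] at hx2
    have h1 : 2 ^ n ∣ i * 2 := by rw [← hao]; exact orderOf_dvd_of_pow_eq_one hx2
    rw [← e1] at h1
    have h2 : 2 ^ (n - 1) ∣ i := Nat.dvd_of_mul_dvd_mul_right (by norm_num) h1
    obtain ⟨j, rfl⟩ := h2
    rw [pow_mul, ← hz]
    exact hzpow j
  -- index two
  have hidx : (U.subgroupOf M).index = 2 := hrel
  have hcos : ∀ x ∈ M, x ∉ U → b⁻¹ * x ∈ U := by
    intro x hxM hxU
    have h1 := Subgroup.mul_mem_iff_of_index_two hidx (a := (⟨b, hbM⟩ : M)⁻¹) (b := ⟨x, hxM⟩)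
    have h2 : ((⟨b, hbM⟩ : M)⁻¹ * ⟨x, hxM⟩ ∈ U.subgroupOf M) ↔ b⁻¹ * x ∈ U := by
      rw [Subgroup.mem_subgroupOf]; rfl
    have h3 : ((⟨b, hbM⟩ : M)⁻¹ ∈ U.subgroupOf M) ↔ b⁻¹ ∈ U := by
      rw [Subgroup.mem_subgroupOf]; rfl
    have h4 : ((⟨x, hxM⟩ : M) ∈ U.subgroupOf M) ↔ x ∈ U := by
      rw [Subgroup.mem_subgroupOf]
    rw [h2, h3, h4] at h1
    apply h1.mpr
    constructor
    · intro h; exfalso; apply hbU; have := U.inv_mem h; rwa [inv_inv] at this
    · intro h; exact absurd h hxU
  -- Claim 2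
  have hclaim2 : ∀ x ∈ M, x ∉ U → x ^ 2 = 1 → x = b ∨ x = b * z := by
    intro x hxM hxU hx2
    have hu := hcos x hxM hxU
    have hu' := hu
    rw [← hUa] at hu'
    obtain ⟨i, hi⟩ := (isOfFinOrder_of_finite a).mem_powers_iff_mem_zpowers.mpr hu'
    have hi' : a ^ i = b⁻¹ * x := hi
    have hx : x = b * a ^ i := by rw [hi']; group
    have hsq : a ^ (2 * i) * z ^ i = 1 := by
      have h1 : x ^ 2 = (b * a ^ i * b⁻¹) * (b * b) * a ^ i := by
        rw [hx, sq]; group
      rw [h1, hconj, hbb, mul_one] at hx2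
      rw [two_mul, pow_add]
      have hc : Commute (a ^ i) (z ^ i) := by
        rw [hz]; exact ((Commute.refl a).pow_left i).pow_right _ |>.pow_right i
      calc a ^ i * a ^ i * z ^ i = a ^ i * (a ^ i * z ^ i) := by group
        _ = a ^ i * (z ^ i * a ^ i) := by rw [hc.eq]
        _ = a ^ i * z ^ i * a ^ i := by group
        _ = 1 := hx2
    have hieven : Even i := by
      by_contra hodd
      rw [Nat.not_even_iff_odd] at hodd
      obtain ⟨j, hj⟩ := hodd
      have hzi : z ^ i = z := by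
        rw [hj, pow_succ, pow_mul, hz2, one_pow, one_mul]
      rw [hzi] at hsq
      have h1 : a ^ (2 * i) = z := by
        have : a ^ (2 * i) = z⁻¹ := eq_inv_of_mul_eq_one_left hsq
        rw [this]; exact inv_eq_of_mul_eq_one_right hzz
      rw [hz, pow_eq_pow_iff_modEq, hao] at h1
      have h4 : (4 : ℕ) ∣ 2 ^ n := by
        have : 2 ^ n = 4 * 2 ^ (n - 2) := by
          have : n = 2 + (n - 2) := by omega
          rw [this, pow_add]; norm_num
        exact ⟨_, this⟩
      have h2 := Nat.ModEq.of_dvd h4 h1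
      have h5 : 2 ^ (n - 1) % 4 = 0 := by
        have : 2 ^ (n - 1) = 4 * 2 ^ (n - 3) := by
          have : n - 1 = 2 + (n - 3) := by omega
          rw [this, pow_add]; norm_num
        rw [this]; exact Nat.mul_mod_right 4 _
      unfold Nat.ModEq at h2
      rw [h5] at h2
      omega
    obtain ⟨j, hj⟩ := hieven
    have hzi : z ^ i = 1 := by
      rw [hj, ← two_mul, pow_mul, hz2, one_pow]
    rw [hzi, mul_one] at hsq
    have h1 : (a ^ i) ^ 2 = 1 := by rw [← pow_mul, mul_comm]; exact hsq
    rcases hclaim1 (a ^ i) (U.pow_mem haU i) h1 with h | h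
    · left; rw [hx, h, mul_one]
    · right; rw [hx, h]
  have hbz1 : b * z ≠ 1 := by
    intro h
    apply hbU
    have : b = z⁻¹ := eq_inv_of_mul_eq_one_left h
    rw [this]; exact U.inv_mem hzU
  have hbzsq : (b * z) ^ 2 = 1 := by
    rw [sq]
    calc b * z * (b * z) = b * (z * b) * z := by group
      _ = b * (b * z) * z := by rw [hbz]
      _ = (b * b) * (z * z) := by group
      _ = 1 := by rw [hbb, hzz, one_mul]
  have hzM : z ∈ M := hUM hzU
  -- the set of involutions
  have hset : {x : G | x ∈ M ∧ x ^ 2 = 1} = ({1, z, b, b * z} : Set G) := by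
    ext x
    simp only [Set.mem_setOf_eq, Set.mem_insert_iff, Set.mem_singleton_iff]
    constructor
    · rintro ⟨hxM, hx2⟩
      by_cases hxU : x ∈ U
      · rcases hclaim1 x hxU hx2 with h | h
        · left; exact h
        · right; left; exact h
      · rcases hclaim2 x hxM hxU hx2 with h | h
        · right; right; left; exact h
        · right; right; right; exact h
    · rintro (rfl | rfl | rfl | rfl)
      · exact ⟨M.one_mem, one_pow 2⟩
      · exact ⟨hzM, hz2⟩
      · exact ⟨hbM, hb2⟩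
      · exact ⟨M.mul_mem hbM hzM, hbzsq⟩
  -- `omegaOne` is a Klein four-group
  have hom : Cfsg.omegaOne 2 M = Subgroup.closure ({1, z, b, b * z} : Set G) := by
    unfold Cfsg.omegaOne
    rw [hset]
  have hS : ∀ x ∈ ({1, z, b, b * z} : Set G), x * z = z * x ∧ x * b = b * x := by
    intro x hx
    simp only [Set.mem_insert_iff, Set.mem_singleton_iff] at hx
    rcases hx with h | h | h | h
    · rw [h]; exact ⟨by rw [one_mul, mul_one], by rw [one_mul, mul_one]⟩
    · rw [h]; exact ⟨rfl, hbz.symm⟩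
    · rw [h]; exact ⟨hbz, rfl⟩
    · rw [h]
      refine ⟨?_, ?_⟩
      · calc b * z * z = (b * z) * z := rfl
          _ = (z * b) * z := by rw [hbz]
          _ = z * (b * z) := by group
      · calc b * z * b = b * (z * b) := by group
          _ = b * (b * z) := by rw [hbz]
  have hcomm : IsMulCommutative (Subgroup.closure ({1, z, b, b * z} : Set G)) := by
    apply Subgroup.isMulCommutative_closure
    intro u hu v hv
    obtain ⟨huz, hub⟩ := hS u hu
    simp only [Set.mem_insert_iff, Set.mem_singleton_iff] at hv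
    rcases hv with h | h | h | h
    · rw [h, one_mul, mul_one]
    · rw [h]; exact huz
    · rw [h]; exact hub
    · rw [h]
      calc u * (b * z) = (u * b) * z := by group
        _ = (b * u) * z := by rw [hub]
        _ = b * (u * z) := by group
        _ = b * (z * u) := by rw [huz]
        _ = b * z * u := by group
  have hcarrier : ((Subgroup.closure ({1, z, b, b * z} : Set G) : Subgroup G) : Set G) =
      ({1, z, b, b * z} : Set G) := by
    apply Set.Subset.antisymm
    · intro x hx
      have hx' : x ∈ Subgroup.closure ({1, z, b, b * z} : Set G) := hx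
      have hxM : x ∈ M := by
        refine (Subgroup.closure_le M).mpr ?_ hx'
        rw [← hset]
        exact fun y hy => hy.1
      have hx2 : x ^ 2 = 1 := by
        refine Subgroup.closure_induction (p := fun y _ => y ^ 2 = 1) ?_ ?_ ?_ ?_ hx'
        · intro y hy
          rw [← hset] at hy
          exact hy.2
        · exact one_pow 2
        · intro y w hy hw ihy ihw
          have hc := hcomm.is_comm.comm ⟨y, hy⟩ ⟨w, hw⟩
          have hc' : y * w = w * y := congrArg Subtype.val hc
          rw [(show Commute y w from hc').mul_pow, ihy, ihw, one_mul]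
        · intro y hy ihy
          rw [inv_pow, ihy, inv_one]
      rw [← hset]
      exact ⟨hxM, hx2⟩
    · exact Subgroup.subset_closure
  refine ⟨⟨by rw [hom]; exact hcomm, ?_⟩, ?_⟩
  · intro x hx
    rw [hom] at hx
    have : x ∈ ({1, z, b, b * z} : Set G) := by rw [← hcarrier]; exact hx
    rw [← hset] at this
    exact this.2
  · rw [hom]
    have h1 : Nat.card (Subgroup.closure ({1, z, b, b * z} : Set G)) =
        Set.ncard ((Subgroup.closure ({1, z, b, b * z} : Set G) : Subgroup G) : Set G) :=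
      Nat.card_coe_set_eq _
    rw [h1, hcarrier]
    have hzb : z ≠ b := fun h => hbU (h ▸ hzU)
    have hzbz : z ≠ b * z := by
      intro h
      have : b = 1 := by
        have h2 : 1 * z = b * z := by rw [one_mul]; exact h
        exact (mul_right_cancel h2).symm
      apply hbU; rw [this]; exact U.one_mem
    have hbbz : b ≠ b * z := by
      intro h
      apply hz1
      have h2 : b * 1 = b * z := by rw [mul_one]; exact h
      exact (mul_left_cancel h2).symm
    have hb1 : (1 : G) ≠ b := fun h => hbU (h ▸ U.one_mem)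
    have c1 : (1 : G) ∉ ({z, b, b * z} : Set G) := by
      simp only [Set.mem_insert_iff, Set.mem_singleton_iff, not_or]
      exact ⟨hz1.symm, hb1, hbz1.symm⟩
    have c2 : z ∉ ({b, b * z} : Set G) := by
      simp only [Set.mem_insert_iff, Set.mem_singleton_iff, not_or]
      exact ⟨hzb, hzbz⟩
    have c3 : b ∉ ({b * z} : Set G) := by
      simp only [Set.mem_singleton_iff]
      exact hbbz
    rw [Set.ncard_insert_of_notMem c1, Set.ncard_insert_of_notMem c2,
      Set.ncard_insert_of_notMem c3, Set.ncard_singleton]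
    norm_num

end

end SympType

end Cfsg.Agent.Lib.Lead
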