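import Mathlib
import Cfsg.Agent.Lib.Lead.SympType5

set_option autoImplicit false

namespace Cfsg.Agent.Lib.Lead

namespace SympType

section
variable {G : Type*} [Group G]

theorem conj_pow_nat {a b : G} {r : ℕ} (h : b * a * b⁻¹ = a ^ r) (j : ℕ) :
    b * a ^ j * b⁻¹ = (a ^ j) ^ r := by
  rw [← conj_pow, h, ← pow_mul, ← pow_mul, mul_comm]

theorem conj_pow_inv {a b : G} (h : b * a * b⁻¹ = a⁻¹) (j : ℕ) :
    b * a ^ j * b⁻¹ = (a ^ j)⁻¹ := by
  rw [← conj_pow, h, inv_pow]

/-- an element inverted by `b` and of order `4` is not centralized by `b` -/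
theorem not_comm_of_inv {w b : G} (hw : orderOf w = 4) (h : b * w * b⁻¹ = w⁻¹) :
    b * w ≠ w * b := by
  intro hc
  have h1 : b * w * b⁻¹ = w := by rw [hc]; group
  rw [h1] at h
  have h2 : w ^ 2 = 1 := by
    rw [sq]
    nth_rewrite 1 [h]
    exact inv_mul_cancel w
  have := orderOf_dvd_of_pow_eq_one h2
  rw [hw] at this
  norm_num at this

end

section
variable {G : Type*} [Group G] [Finite G] {p : ℕ} [hp : Fact p.Prime]

theorem conclusion_B (U : Subgroup G) [hUn : U.Normal] (a : G) (hUa : Subgroup.zpowers a = U)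
    (hrel : U.relIndex (MM p U) = p)
    (hE : Cfsg.IsElementaryAbelian p (Cfsg.omegaOne p (MM p U)) ∧
      Nat.card (Cfsg.omegaOne p (MM p U)) = p ^ 2) :
    U.relIndex (Subgroup.centralizer (Cfsg.powerClosure p 1 U : Set G)) = p ∧
      Cfsg.IsElementaryAbelian p
        (Cfsg.omegaOne p (Subgroup.centralizer (Cfsg.powerClosure p 1 U : Set G))) ∧
      Nat.card ↥(Cfsg.omegaOne p (Subgroup.centralizer (Cfsg.powerClosure p 1 U : Set G))) =
        p ^ 2 ∧
      (Cfsg.omegaOne p (Subgroup.centralizer (Cfsg.powerClosure p 1 U : Set G))).Characteristic :=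
  ⟨hrel, hE.1, hE.2, omegaOne_characteristic U a hUa hE.1 hE.2⟩

end

section
variable {G : Type*} [Group G] [Finite G]

/-- the case `p = 2` -/
theorem main_two (hG : IsPGroup 2 G) (hna : ∃ x y : G, x * y ≠ y * x) (U : Subgroup G)
    [hUn : U.Normal] (a : G) (hUa : Subgroup.zpowers a = U) (n : ℕ) (hao : orderOf a = 2 ^ n)
    (hC : Subgroup.centralizer (U : Set G) = U) (hn2 : 2 ≤ n) (hne : U ≠ ⊤) :
    (Nat.card G = 2 ^ (n + 1) ∧
      ((∃ m : ℕ, Nonempty (G ≃* DihedralGroup m)) ∨ (∃ m : ℕ, Nonempty (G ≃* QuaternionGroup m)) ∨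
        Cfsg.IsQuasiDihedral G)) ∨
    (U.relIndex (MM 2 U) = 2 ∧ Cfsg.IsElementaryAbelian 2 (Cfsg.omegaOne 2 (MM 2 U)) ∧
      Nat.card (Cfsg.omegaOne 2 (MM 2 U)) = 2 ^ 2) := by
  classical
  haveI : Fact (Nat.Prime 2) := ⟨Nat.prime_two⟩
  have hUcard : Nat.card U = 2 ^ n := by rw [← hUa, Nat.card_zpowers, hao]
  have hUcyc : IsCyclic U := by rw [← hUa]; infer_instance
  have haU : a ∈ U := by rw [← hUa]; exact Subgroup.mem_zpowers a
  have hapow : a ^ (2 ^ n) = 1 := by rw [← hao]; exact pow_orderOf_eq_one a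
  have hnaT : ∃ x ∈ (⊤ : Subgroup G), ∃ y ∈ (⊤ : Subgroup G), x * y ≠ y * x := by
    obtain ⟨x, y, hxy⟩ := hna
    exact ⟨x, Subgroup.mem_top x, y, Subgroup.mem_top y, hxy⟩
  -- when `U` has index two, we are in case (A), provided the generator is not of modular type
  have hcaseA : U.index ≤ 2 → (∀ a₁ b : G, Subgroup.zpowers a₁ = U → b ∉ U →
      b * a₁ * b⁻¹ = a₁ ^ (1 + 2 ^ (n - 1)) → 3 ≤ n → False) →
      (Nat.card G = 2 ^ (n + 1) ∧
      ((∃ m : ℕ, Nonempty (G ≃* DihedralGroup m)) ∨ (∃ m : ℕ, Nonempty (G ≃* QuaternionGroup m)) ∨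
        Cfsg.IsQuasiDihedral G)) := by
    intro hidx hmod
    have hidx2 : U.index = 2 := by
      have h0 : U.index ≠ 0 := Subgroup.index_ne_zero_of_finite
      have h1 : U.index ≠ 1 := fun h => hne (Subgroup.index_eq_one.mp h)
      omega
    have hGcard : Nat.card G = 2 ^ (n + 1) := by
      rw [← U.card_mul_index, hUcard, hidx2, pow_succ]
    have hTcard : Nat.card (⊤ : Subgroup G) = 2 ^ (n + 1) := by
      rw [Subgroup.card_top, hGcard]
    obtain ⟨a₁, b, hUa₁, hao₁, -, hbU, hforms⟩ :=
      exists_generators_sub ⊤ U le_top n hn2 hTcard hUcyc hUcard hnaT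
    refine ⟨hGcard, conclusion_A n hn2 hGcard a₁ b hao₁ (by rw [hUa₁]; exact hbU) ?_⟩
    rcases hforms with h | h | ⟨h0, h1, h2⟩ | h
    · left; exact h
    · right; left; exact h
    · exact absurd (hmod a₁ b hUa₁ hbU h2 h0) id
    · right; right; exact h
  -- modular type elements lie in `M`
  have hmodM : ∀ a₁ b : G, Subgroup.zpowers a₁ = U →
      b * a₁ * b⁻¹ = a₁ ^ (1 + 2 ^ (n - 1)) → b ∈ MM 2 U := by
    intro a₁ b hUa₁ hba
    rw [mem_MM_iff U a₁ hUa₁]
    have hao₁ : orderOf a₁ = 2 ^ n := by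
      rw [← Nat.card_zpowers, hUa₁, hUcard]
    have h1 := conj_pow_nat hba 2
    have h2 : (a₁ ^ 2) ^ (1 + 2 ^ (n - 1)) = a₁ ^ 2 := by
      rw [← pow_mul]
      have : 2 * (1 + 2 ^ (n - 1)) = 2 + 2 ^ n := by
        have : 2 * 2 ^ (n - 1) = 2 ^ n := by
          rw [← pow_succ']; congr 1; omega
        rw [mul_add, mul_one, this]
      rw [this, pow_add, ← hao₁, pow_orderOf_eq_one, mul_one]
    rw [h2] at h1
    calc b * a₁ ^ 2 = (b * a₁ ^ 2 * b⁻¹) * b := by group
      _ = a₁ ^ 2 * b := by rw [h1]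
  rcases Nat.lt_or_ge n 3 with hn3 | hn3
  · -- `n = 2`
    have hn : n = 2 := by omega
    left
    apply hcaseA
    · have hao4 : orderOf a = 4 := by rw [hao, hn]; norm_num
      haveI : (Subgroup.zpowers a).Normal := by rw [hUa]; exact hUn
      have h1 := index_centralizer_le_two a hao4
      rw [hUa, hC] at h1
      exact h1
    · intro a₁ b _ _ _ h3
      omega
  · by_cases hM : MM 2 U = U
    · -- `M = U`
      left
      -- the element `w` of order four
      set w : G := a ^ (2 ^ (n - 2)) with hw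
      have hwo : orderOf w = 4 := by
        rw [hw, orderOf_pow' a (by positivity), hao,
          Nat.gcd_eq_right (pow_dvd_pow 2 (by omega : n - 2 ≤ n))]
        have : 2 ^ n = 2 ^ (n - 2) * 4 := by
          have : n = (n - 2) + 2 := by omega
          conv_lhs => rw [this, pow_add]
          norm_num
        rw [this, Nat.mul_div_cancel_left _ (by positivity)]
      have hwU : w ∈ U := U.pow_mem haU _
      haveI hwn : (Subgroup.zpowers w).Normal := by
        constructor
        intro x hx g
        obtain ⟨k, rfl⟩ := Subgroup.mem_zpowers_iff.mp hx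
        have h1 : g * a * g⁻¹ ∈ Subgroup.zpowers a := by rw [hUa]; exact hUn.conj_mem a haU g
        obtain ⟨l, hl⟩ := Subgroup.mem_zpowers_iff.mp h1
        rw [Subgroup.mem_zpowers_iff]
        refine ⟨l * k, ?_⟩
        have h2 : g * (a ^ (2 ^ (n - 2))) ^ k * g⁻¹ = ((g * a * g⁻¹) ^ (2 ^ (n - 2))) ^ k := by
          have := map_zpow (MulAut.conj g) (a ^ (2 ^ (n - 2))) k
          rw [map_pow] at this
          simpa [MulAut.conj_apply] using this
        rw [hw, h2, ← hl, ← zpow_natCast, ← zpow_natCast, ← zpow_mul, ← zpow_mul, ← zpow_mul]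
        congr 1
        ring
      set K : Subgroup G := Subgroup.centralizer (Subgroup.zpowers w : Set G) with hK
      have hKidx : K.index ≤ 2 := index_centralizer_le_two w hwo
      have hUK : U ≤ K := by
        intro u hu
        rw [hK, mem_centralizer_zpowers_iff]
        exact comm_of_mem_mem U a hUa u w hu hwU
      have hcommK : ∀ g ∈ K, g * w = w * g := fun g hg =>
        (mem_centralizer_zpowers_iff w g).mp hg
      have hKU : K = U := by
        by_contra hKU
        obtain ⟨k', hk'⟩ := IsPGroup.iff_card.mp (hG.to_subgroup K)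
        have hlt : n < k' := by
          by_contra h
          push Not at h
          apply hKU
          symm
          apply Subgroup.eq_of_le_of_card_ge hUK
          rw [hUcard, hk']
          exact Nat.pow_le_pow_right (by norm_num) h
        have hUKcard : Nat.card (U.subgroupOf K) = 2 ^ n := by
          rw [Nat.card_congr (Subgroup.subgroupOfEquivOfLe hUK).toEquiv, hUcard]
        obtain ⟨H', hH'card, hUH'⟩ := Sylow.exists_subgroup_card_pow_succ
          (by rw [hk']; exact pow_dvd_pow 2 hlt) hUKcard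
        set H : Subgroup G := H'.map K.subtype with hH
        have hHcard : Nat.card H = 2 ^ (n + 1) := by
          rw [hH, card_map_subtype', hH'card]
        have hUH : U ≤ H := by
          intro u hu
          exact ⟨⟨u, hUK hu⟩, hUH' (by rw [Subgroup.mem_subgroupOf]; exact hu), rfl⟩
        have hHK : H ≤ K := by
          rintro _ ⟨x, _, rfl⟩
          exact x.2
        have hnaH : ∃ x ∈ H, ∃ y ∈ H, x * y ≠ y * x := by
          obtain ⟨h, hhH, hhU⟩ : ∃ h ∈ H, h ∉ U := by
            by_contra hall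
            push Not at hall
            have := Subgroup.card_le_of_le (show H ≤ U from hall)
            rw [hHcard, hUcard, pow_succ] at this
            have : 0 < 2 ^ n := by positivity
            omega
          exact ⟨h, hhH, a, hUH haU, fun hc => hhU (mem_of_comm U a hUa hC h hc)⟩
        obtain ⟨a₁, b, hUa₁, hao₁, hbH, hbU, hforms⟩ :=
          exists_generators_sub H U hUH n hn2 hHcard hUcyc hUcard hnaH
        have hbw : b * w = w * b := hcommK b (hHK hbH)
        have hwa₁ : w ∈ Subgroup.zpowers a₁ := by rw [hUa₁]; exact hwU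
        obtain ⟨j, hj⟩ := (isOfFinOrder_of_finite a₁).mem_powers_iff_mem_zpowers.mpr hwa₁
        have hj' : a₁ ^ j = w := hj
        have hw4 : w ^ 4 = 1 := by rw [← hwo]; exact pow_orderOf_eq_one w
        rcases hforms with ⟨-, h2⟩ | ⟨-, h2⟩ | ⟨-, -, h2⟩ | ⟨-, -, h2⟩
        · have h3 := conj_pow_inv h2 j
          rw [hj'] at h3
          exact not_comm_of_inv hwo h3 hbw
        · have h3 := conj_pow_inv h2 j
          rw [hj'] at h3
          exact not_comm_of_inv hwo h3 hbw
        · apply hbU
          have := hmodM a₁ b hUa₁ h2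
          rwa [hM] at this
        · have h3 := conj_pow_nat h2 j
          rw [hj'] at h3
          have h4 : w ^ (2 ^ (n - 1) - 1) = w⁻¹ := by
            apply eq_inv_of_mul_eq_one_left
            rw [← pow_succ]
            have : 2 ^ (n - 1) - 1 + 1 = 4 * 2 ^ (n - 3) := by
              have h5 : 2 ^ (n - 1) = 4 * 2 ^ (n - 3) := by
                have : n - 1 = 2 + (n - 3) := by omega
                rw [this, pow_add]; norm_num
              have : 0 < 2 ^ (n - 1) := by positivity
              omega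
            rw [this, pow_mul, hw4, one_pow]
          rw [h4] at h3
          exact not_comm_of_inv hwo h3 hbw
      apply hcaseA
      · rw [← hKU]; exact hKidx
      · intro a₁ b hUa₁ hbU hba _
        apply hbU
        have := hmodM a₁ b hUa₁ hba
        rwa [hM] at this
    · -- `U < M`
      right
      have hUM : U ≤ MM 2 U := U_le_MM U a hUa
      have hrel : U.relIndex (MM 2 U) = 2 := by
        have h1 : U.relIndex (MM 2 U) ≤ 2 := relIndex_MM_le U a hUa hC
        have h0 : U.relIndex (MM 2 U) ≠ 0 := by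
          rw [Subgroup.relIndex]; exact Subgroup.index_ne_zero_of_finite
        have h2 : U.relIndex (MM 2 U) ≠ 1 := by
          intro h
          rw [Subgroup.relIndex_eq_one] at h
          exact hM (le_antisymm h hUM)
        omega
      have hMcard : Nat.card (MM 2 U) = 2 ^ (n + 1) := by
        rw [← card_mul_relIndex' U hUM, hUcard, hrel, pow_succ]
      have hnaM : ∃ x ∈ MM 2 U, ∃ y ∈ MM 2 U, x * y ≠ y * x := by
        obtain ⟨m, hmM, hmU⟩ : ∃ m ∈ MM 2 U, m ∉ U := by
          by_contra hall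
          push Not at hall
          exact hM (le_antisymm hall hUM)
        exact ⟨m, hmM, a, hUM haU, fun hc => hmU (mem_of_comm U a hUa hC m hc)⟩
      obtain ⟨a₁, b, hUa₁, hao₁, hbM, hbU, hforms⟩ :=
        exists_generators_sub (MM 2 U) U hUM n hn2 hMcard hUcyc hUcard hnaM
      have hbc : b * a₁ ^ 2 = a₁ ^ 2 * b := (mem_MM_iff U a₁ hUa₁ b).mp hbM
      have hconj2 : b * a₁ ^ 2 * b⁻¹ = a₁ ^ 2 := by rw [hbc]; group
      have hnot4 : a₁ ^ 4 ≠ 1 := by
        intro h
        have h1 := orderOf_dvd_of_pow_eq_one h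
        rw [hao₁] at h1
        have h2 : 2 ^ n ≤ 4 := Nat.le_of_dvd (by norm_num) h1
        have h3 : 2 ^ 3 ≤ 2 ^ n := Nat.pow_le_pow_right (by norm_num) hn3
        omega
      have hinvcase : b * a₁ ^ 2 * b⁻¹ = (a₁ ^ 2)⁻¹ → False := by
        intro h
        rw [hconj2] at h
        apply hnot4
        have h1 : a₁ ^ 2 * a₁ ^ 2 = 1 := by
          nth_rewrite 1 [h]
          exact inv_mul_cancel _
        rw [← pow_add] at h1
        exact h1
      rcases hforms with ⟨-, h2⟩ | ⟨-, h2⟩ | ⟨-, h1, h2⟩ | ⟨-, -, h2⟩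
      · exact absurd (conj_pow_inv h2 2) (fun h => hinvcase h)
      · exact absurd (conj_pow_inv h2 2) (fun h => hinvcase h)
      · have := omega_two (MM 2 U) U hUM a₁ b hUa₁ n hn3 hao₁ hrel hbM hbU h1 h2
        exact ⟨hrel, this.1, this.2⟩
      · exfalso
        apply hinvcase
        rw [conj_pow_nat h2 2]
        apply eq_inv_of_mul_eq_one_left
        rw [← pow_mul, ← pow_add]
        have : 2 * (2 ^ (n - 1) - 1) + 2 = 2 ^ n := by
          have h5 : 2 * 2 ^ (n - 1) = 2 ^ n := by
            rw [← pow_succ']; congr 1; omega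
          have : 0 < 2 ^ (n - 1) := by positivity
          omega
        rw [this, ← hao₁, pow_orderOf_eq_one]

end

end SympType

end Cfsg.Agent.Lib.Lead
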