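import Mathlib
import Cfsg.Agent.Lib.Lead.SympType6

set_option autoImplicit false

namespace Cfsg.Agent.Lib.Lead

namespace SympType

section
variable {G : Type*} [Group G] [Finite G] {p : ℕ} [hp : Fact p.Prime]

/-- **`p`-groups with a self-centralizing cyclic normal subgroup.** -/
theorem selfCentralizing_cyclic_normal (hG : IsPGroup p G) (hna : ¬ IsMulCommutative G)
    (U : Subgroup G) [hUn : U.Normal] (hU : IsCyclic U) (n : ℕ) (hUcard : Nat.card U = p ^ n)
    (hC : Subgroup.centralizer (U : Set G) = U) :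
    (p = 2 ∧ Nat.card G = 2 ^ (n + 1) ∧
      ((∃ m : ℕ, Nonempty (G ≃* DihedralGroup m)) ∨ (∃ m : ℕ, Nonempty (G ≃* QuaternionGroup m)) ∨
        Cfsg.IsQuasiDihedral G)) ∨
    (U.relIndex (Subgroup.centralizer (Cfsg.powerClosure p 1 U : Set G)) = p ∧
      Cfsg.IsElementaryAbelian p
        (Cfsg.omegaOne p (Subgroup.centralizer (Cfsg.powerClosure p 1 U : Set G))) ∧
      Nat.card ↥(Cfsg.omegaOne p (Subgroup.centralizer (Cfsg.powerClosure p 1 U : Set G))) =
        p ^ 2 ∧
      (Cfsg.omegaOne p (Subgroup.centralizer (Cfsg.powerClosure p 1 U : Set G))).Characteristic) := by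
  classical
  obtain ⟨a', ha'⟩ := IsCyclic.exists_generator (α := U)
  set a : G := (a' : G) with ha
  have hUa : Subgroup.zpowers a = U := by
    apply le_antisymm
    · rw [Subgroup.zpowers_le]; exact a'.2
    · intro u hu
      obtain ⟨k, hk⟩ := Subgroup.mem_zpowers_iff.mp (ha' ⟨u, hu⟩)
      rw [Subgroup.mem_zpowers_iff]
      refine ⟨k, ?_⟩
      have := congrArg Subtype.val hk
      rwa [Subgroup.coe_zpow] at this
  have hao : orderOf a = p ^ n := by
    rw [← Nat.card_zpowers, hUa, hUcard]
  have hnc : ∃ x y : G, x * y ≠ y * x := by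
    by_contra h
    push Not at h
    exact hna ⟨⟨h⟩⟩
  have hne : U ≠ ⊤ := by
    intro h
    obtain ⟨x, y, hxy⟩ := hnc
    exact hxy (comm_of_mem_mem U a hUa x y (by rw [h]; exact Subgroup.mem_top x)
      (by rw [h]; exact Subgroup.mem_top y))
  have hn2 : 2 ≤ n := two_le_n hG U a hUa n hao hC hne
  by_cases hp2 : p = 2
  · subst hp2
    rcases main_two hG hnc U a hUa n hao hC hn2 hne with h | h
    · left; exact ⟨rfl, h.1, h.2⟩
    · right
      exact conclusion_B U a hUa h.1 h.2
  · right
    have hrel : U.relIndex (MM p U) = p := relIndex_MM_eq_of_odd hG U a hUa n hao hC hp2 hne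
    have hUM : U ≤ MM p U := U_le_MM U a hUa
    have hcyc : IsCyclic (U.subgroupOf (MM p U)) :=
      isCyclic_of_surjective (Subgroup.subgroupOfEquivOfLe hUM).symm.toMonoidHom
        (Subgroup.subgroupOfEquivOfLe hUM).symm.surjective
    have hncM : ¬ IsCyclic (MM p U) := by
      intro hcM
      letI := IsCyclic.commGroup (α := MM p U)
      have hle : MM p U ≤ U := by
        intro m hm
        apply mem_of_comm U a hUa hC
        have haM : a ∈ MM p U := hUM (by rw [← hUa]; exact Subgroup.mem_zpowers a)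
        have := mul_comm (⟨m, hm⟩ : MM p U) ⟨a, haM⟩
        exact congrArg Subtype.val this
      have h1 : U.relIndex (MM p U) = 1 := Subgroup.relIndex_eq_one.mpr hle
      rw [hrel] at h1
      exact hp.out.one_lt.ne' h1
    obtain ⟨E, hEc, hEe, hEcard, hET⟩ :=
      exists_omega_of_cyclic_maximal hp2 (hG.to_subgroup (MM p U)) hncM
        (U.subgroupOf (MM p U)) hcyc hrel
    have hom := omegaOne_of_sub (MM p U) E hEc hEe hEcard hET
    apply conclusion_B U a hUa hrel
    rw [hom]
    exact ⟨isElementaryAbelian_map (MM p U) E hEc hEe, by rw [card_map_subtype', hEcard]⟩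

end

end SympType

end Cfsg.Agent.Lib.Lead
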