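import Mathlib
import Cfsg.Agent.Lib.Lead.SympType7
import Cfsg.Agent.Lib.Lead.Nilpotent
import Cfsg.Agent.Lib.Lead.UniqueOrderP1
import Cfsg.Agent.Lib.Lead.BurnsideBasis
import Cfsg.Agent.Lib.Lead.Frattini2

set_option autoImplicit false

namespace Cfsg.Agent.Lib.Lead

namespace HallSymp

open scoped commutatorElement

section
variable (p : ℕ) (G : Type*) [Group G]

/-- `Ω₁(Z(G))`: the central elements of order dividing `p` -/
def Zp : Subgroup G where
  carrier := {x | x ∈ Subgroup.center G ∧ x ^ p = 1}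
  mul_mem' := by
    rintro x y ⟨hx, hxp⟩ ⟨hy, hyp⟩
    refine ⟨mul_mem hx hy, ?_⟩
    have hc : Commute x y := Subgroup.mem_center_iff.mp hy x
    rw [hc.mul_pow, hxp, hyp, one_mul]
  one_mem' := ⟨Subgroup.one_mem _, one_pow p⟩
  inv_mem' := by
    rintro x ⟨hx, hxp⟩
    exact ⟨inv_mem hx, by rw [inv_pow, hxp, inv_one]⟩

variable {p G}

theorem mem_Zp {x : G} : x ∈ Zp p G ↔ x ∈ Subgroup.center G ∧ x ^ p = 1 := Iff.rfl

theorem Zp_le_center : Zp p G ≤ Subgroup.center G := fun _ hx => hx.1

instance : (Zp p G).Normal := by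
  constructor
  intro x hx g
  have h1 : g * x * g⁻¹ = x := by
    have := Subgroup.mem_center_iff.mp hx.1 g
    rw [this, mul_assoc, mul_inv_cancel, mul_one]
  rw [h1]; exact hx

instance : (Zp p G).Characteristic := by
  rw [Subgroup.characteristic_iff_comap_le]
  intro φ x hx
  have hx' : φ x ∈ Zp p G := hx
  refine ⟨?_, ?_⟩
  · rw [Subgroup.mem_center_iff]
    intro g
    have := Subgroup.mem_center_iff.mp hx'.1 (φ g)
    rw [← map_mul, ← map_mul] at this
    exact φ.injective this
  · have := hx'.2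
    rw [← map_pow] at this
    exact φ.injective (by rw [this, map_one])

variable (p G)

/-- the preimage of `Ω₁(Z(G/Z₀))` -/
def AA : Subgroup G := (Zp p (G ⧸ Zp p G)).comap (QuotientGroup.mk' (Zp p G))

variable {p G}

theorem mem_AA {x : G} : x ∈ AA p G ↔ (∀ g : G, ⁅x, g⁆ ∈ Zp p G) ∧ x ^ p ∈ Zp p G := by
  unfold AA
  rw [Subgroup.mem_comap, mem_Zp, Subgroup.mem_center_iff]
  constructor
  · rintro ⟨h1, h2⟩
    refine ⟨?_, ?_⟩
    · intro g
      rw [← QuotientGroup.eq_one_iff, commutatorElement_def]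
      have := h1 (QuotientGroup.mk' (Zp p G) g)
      simp only [QuotientGroup.mk'_apply] at this
      rw [QuotientGroup.mk_mul, QuotientGroup.mk_mul, QuotientGroup.mk_mul, QuotientGroup.mk_inv,
        QuotientGroup.mk_inv]
      simp only [QuotientGroup.mk'_apply] at h1
      rw [← this]
      group
    · rw [← QuotientGroup.eq_one_iff, QuotientGroup.mk_pow]
      exact h2
  · rintro ⟨h1, h2⟩
    refine ⟨?_, ?_⟩
    · intro q
      obtain ⟨g, rfl⟩ := QuotientGroup.mk'_surjective (Zp p G) q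
      have := h1 g
      rw [← QuotientGroup.eq_one_iff, commutatorElement_def, QuotientGroup.mk_mul,
        QuotientGroup.mk_mul, QuotientGroup.mk_mul, QuotientGroup.mk_inv,
        QuotientGroup.mk_inv] at this
      simp only [QuotientGroup.mk'_apply]
      have h3 : (x : G ⧸ Zp p G) * (g : G ⧸ Zp p G) = (g : G ⧸ Zp p G) * (x : G ⧸ Zp p G) := by
        have h4 := mul_inv_eq_one.mp this
        have h5 := mul_inv_eq_iff_eq_mul.mp h4
        exact h5
      exact h3.symm
    · have := (QuotientGroup.eq_one_iff (N := Zp p G) (x ^ p)).mpr h2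
      rw [QuotientGroup.mk_pow] at this
      exact this

theorem Zp_le_AA : Zp p G ≤ AA p G := by
  intro z hz
  rw [mem_AA]
  refine ⟨fun g => ?_, (Zp p G).pow_mem hz p⟩
  have h1 : ⁅z, g⁆ = 1 := by
    rw [commutatorElement_eq_one_iff_commute]
    exact (Subgroup.mem_center_iff.mp hz.1 g).symm
  rw [h1]; exact Subgroup.one_mem _

instance : (AA p G).Characteristic := by
  rw [Subgroup.characteristic_iff_comap_le]
  intro φ x hx
  have hx' : φ x ∈ AA p G := hx
  rw [mem_AA] at hx' ⊢
  have hZ : ∀ y : G, φ y ∈ Zp p G → y ∈ Zp p G := by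
    intro y hy
    have := (Subgroup.characteristic_iff_comap_le.mp (inferInstance : (Zp p G).Characteristic)) φ
    exact this hy
  refine ⟨fun g => hZ _ ?_, hZ _ ?_⟩
  · rw [map_commutatorElement]
    exact hx'.1 (φ g)
  · rw [map_pow]; exact hx'.2

variable (p G)

/-- the centre of `A`, inside `G` -/
def ZA : Subgroup G := AA p G ⊓ Subgroup.centralizer (AA p G : Set G)

variable {p G}

instance : (ZA p G).Characteristic := by unfold ZA; infer_instance

instance : IsMulCommutative (ZA p G) := by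
  constructor
  constructor
  rintro ⟨x, hx⟩ ⟨y, hy⟩
  apply Subtype.ext
  exact (Subgroup.mem_centralizer_iff.mp hy.2 x hx.1)

theorem Zp_le_ZA : Zp p G ≤ ZA p G := by
  intro z hz
  refine ⟨Zp_le_AA hz, ?_⟩
  show z ∈ Subgroup.centralizer (AA p G : Set G)
  rw [Subgroup.mem_centralizer_iff]
  intro a _
  exact Subgroup.mem_center_iff.mp hz.1 a

/-- commutators with elements of `A` are central -/
theorem comm_mem_Zp {x : G} (hx : x ∈ AA p G) (g : G) : ⁅x, g⁆ ∈ Zp p G := (mem_AA.mp hx).1 g

theorem comm_mem_Zp' {x : G} (hx : x ∈ AA p G) (g : G) : ⁅g, x⁆ ∈ Zp p G := by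
  have := (Zp p G).inv_mem (comm_mem_Zp hx g)
  rwa [commutatorElement_inv] at this

/-- every subgroup of `A` containing `Z₀` is normal -/
theorem normal_of_le_AA (E : Subgroup G) (hE : E ≤ AA p G) (hZ : Zp p G ≤ E) : E.Normal := by
  constructor
  intro e he g
  have h1 : g * e * g⁻¹ = ⁅g, e⁆ * e := by rw [commutatorElement_def]; group
  rw [h1]
  exact E.mul_mem (hZ (comm_mem_Zp' (hE he) g)) he

end

end HallSymp

end Cfsg.Agent.Lib.Lead
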