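import Mathlib
import Cfsg.Agent.Lib.Lead.HallSymp1

set_option autoImplicit false

namespace Cfsg.Agent.Lib.Lead

namespace HallSymp

open scoped commutatorElement

section
variable {G : Type*} [Group G] [Finite G] {p : ℕ} [hp : Fact p.Prime]
  (hG : IsPGroup p G)
  (hsymp : ∀ A : Subgroup G, A.Characteristic → IsMulCommutative A → IsCyclic A)

include hsymp in
/-- in `Z(A)` the elements of order dividing `p` are few -/
theorem card_torsion_ZA_le : Nat.card {x : ZA p G // x ^ p = 1} ≤ p := by
  haveI : IsCyclic (ZA p G) := hsymp (ZA p G) inferInstance inferInstance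
  exact card_pow_eq_one_le_of_isCyclic (C := ZA p G) p hp.out.pos

include hsymp in
theorem card_Zp_le : Nat.card (Zp p G) ≤ p := by
  refine le_trans ?_ (card_torsion_ZA_le hsymp)
  apply Nat.card_le_card_of_injective
    (fun z : Zp p G => (⟨⟨z.1, Zp_le_ZA z.2⟩, by
      apply Subtype.ext
      rw [Subgroup.coe_pow, Subgroup.coe_one]
      exact z.2.2⟩ : {x : ZA p G // x ^ p = 1}))
  intro x y hxy
  apply Subtype.ext
  have := congrArg (fun z : {x : ZA p G // x ^ p = 1} => ((z : ZA p G) : G)) hxy
  exact this

include hG hsymp in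
theorem card_Zp_eq [Nontrivial G] : Nat.card (Zp p G) = p := by
  apply le_antisymm (card_Zp_le hsymp)
  haveI : Nontrivial (Subgroup.center G) := hG.center_nontrivial
  have hdvd : p ∣ Nat.card (Subgroup.center G) := by
    obtain ⟨k, hk⟩ := IsPGroup.iff_card.mp (hG.to_subgroup (Subgroup.center G))
    rw [hk]
    have hk0 : k ≠ 0 := by
      rintro rfl
      rw [pow_zero] at hk
      have := (Nat.card_eq_one_iff_unique.mp hk).1
      exact not_subsingleton _ this
    exact dvd_pow_self p hk0
  obtain ⟨z, hz⟩ := exists_prime_orderOf_dvd_card' p hdvd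
  have hzZ : (z : G) ∈ Zp p G := by
    refine ⟨z.2, ?_⟩
    have := pow_orderOf_eq_one z
    rw [hz] at this
    have h2 := congrArg Subtype.val this
    rwa [Subgroup.coe_pow] at h2
  have hz1 : (z : G) ≠ 1 := by
    intro h
    have : z = 1 := Subtype.ext h
    rw [this, orderOf_one] at hz
    exact hp.out.one_lt.ne hz
  have hle : Subgroup.zpowers (z : G) ≤ Zp p G := Subgroup.zpowers_le.mpr hzZ
  have := Subgroup.card_le_of_le hle
  rw [Nat.card_zpowers, Subgroup.orderOf_coe, hz] at this
  exact this

include hG hsymp in
/-- elements of `Z(A)` of order dividing `p` lie in `Z₀` -/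
theorem mem_Zp_of_mem_ZA [Nontrivial G] {x : G} (hx : x ∈ ZA p G) (hxp : x ^ p = 1) :
    x ∈ Zp p G := by
  classical
  by_contra hxZ
  have h1 := card_torsion_ZA_le (p := p) hsymp
  have h2 := card_Zp_eq hG hsymp
  -- an injection from `Option (Zp p G)`
  let f : Option (Zp p G) → {y : ZA p G // y ^ p = 1} := fun o =>
    match o with
    | none => ⟨⟨x, hx⟩, by
        apply Subtype.ext
        rw [Subgroup.coe_pow, Subgroup.coe_one]
        exact hxp⟩
    | some z => ⟨⟨z.1, Zp_le_ZA z.2⟩, by
        apply Subtype.ext
        rw [Subgroup.coe_pow, Subgroup.coe_one]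
        exact z.2.2⟩
  have hf : Function.Injective f := by
    intro a b hab
    have hab' := congrArg (fun z : {y : ZA p G // y ^ p = 1} => ((z : ZA p G) : G)) hab
    cases a with
    | none =>
      cases b with
      | none => rfl
      | some l =>
        exfalso
        have h3 : x = l.1 := hab'
        exact hxZ (h3 ▸ l.2)
    | some l =>
      cases b with
      | none =>
        exfalso
        have h3 : l.1 = x := hab'
        exact hxZ (h3 ▸ l.2)
      | some l' =>
        have h3 : l.1 = l'.1 := hab'
        rw [Subtype.ext h3]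
  have h3 := Nat.card_le_card_of_injective f hf
  have := Fintype.ofFinite (Zp p G)
  rw [Nat.card_eq_fintype_card (α := Option (Zp p G)), Fintype.card_option,
    ← Nat.card_eq_fintype_card, h2] at h3
  omega

end

end HallSymp

end Cfsg.Agent.Lib.Lead
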