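import Mathlib
import Cfsg.Agent.Lib.Lead.HallSymp2

set_option autoImplicit false

namespace Cfsg.Agent.Lib.Lead

namespace HallSymp

open scoped commutatorElement

section
variable {G : Type*} [Group G] [Finite G] {p : ℕ} [hp : Fact p.Prime]

theorem ZA_le_AA : ZA p G ≤ AA p G := inf_le_left

/-- a minimal supplement of `Z(A)` in `A` -/
theorem exists_min_supplement : ∃ E : Subgroup G, E ≤ AA p G ∧ E ⊔ ZA p G = AA p G ∧
    ∀ E₁ : Subgroup G, E₁ ≤ E → E₁ ⊔ ZA p G = AA p G → E₁ = E := by
  have hfin : {E : Subgroup G | E ≤ AA p G ∧ E ⊔ ZA p G = AA p G}.Finite := Set.toFinite _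
  obtain ⟨E, ⟨hE1, hE2⟩, hmin⟩ := hfin.exists_minimal
    ⟨AA p G, le_refl _, sup_eq_left.mpr ZA_le_AA⟩
  refine ⟨E, hE1, hE2, ?_⟩
  intro E₁ h1 h2
  exact le_antisymm h1 (hmin ⟨h1.trans hE1, h2⟩ h1)

/-- the minimal supplement meets `Z(A)` inside its Frattini subgroup -/
theorem inf_ZA_le_frattini (E : Subgroup G) (hE2 : E ⊔ ZA p G = AA p G)
    (hmin : ∀ E₁ : Subgroup G, E₁ ≤ E → E₁ ⊔ ZA p G = AA p G → E₁ = E) :
    (ZA p G).subgroupOf E ≤ frattini E := by
  rw [le_frattini_iff]
  intro M hM
  by_contra hnot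
  have hsup : M ⊔ (ZA p G).subgroupOf E = ⊤ := by
    apply hM.2
    exact lt_of_le_of_ne le_sup_left (fun h => hnot (by rw [h]; exact le_sup_right))
  set E₁ : Subgroup G := M.map E.subtype with hE₁
  have hE₁E : E₁ ≤ E := by
    rintro _ ⟨x, _, rfl⟩
    exact x.2
  have h1 : E ≤ E₁ ⊔ ZA p G := by
    intro e he
    have h2 : (⟨e, he⟩ : E) ∈ M ⊔ (ZA p G).subgroupOf E := by rw [hsup]; exact Subgroup.mem_top _
    have h3 : E.subtype ⟨e, he⟩ ∈ (M ⊔ (ZA p G).subgroupOf E).map E.subtype :=
      Subgroup.mem_map_of_mem _ h2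
    rw [Subgroup.map_sup, Subgroup.subgroupOf_map_subtype] at h3
    have h3' : e ∈ M.map E.subtype ⊔ (ZA p G ⊓ E) := h3
    exact (sup_le_sup_left (inf_le_left : ZA p G ⊓ E ≤ ZA p G) (M.map E.subtype)) h3'
  have h4 : E₁ ⊔ ZA p G = AA p G := by
    apply le_antisymm
    · rw [← hE2]
      exact sup_le (hE₁E.trans le_sup_left) le_sup_right
    · rw [← hE2]
      exact sup_le h1 le_sup_right
  have h5 := hmin E₁ hE₁E h4
  have h6 : M = ⊤ := by
    rw [eq_top_iff]
    intro x _
    have hx : (x : G) ∈ E₁ := by rw [h5]; exact x.2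
    obtain ⟨y, hy, hyx⟩ := hx
    have : y = x := Subtype.ext hyx
    rwa [← this]
  exact hM.1 h6

end

section
variable {G : Type*} [Group G] [Finite G] {p : ℕ} [hp : Fact p.Prime]
  (hG : IsPGroup p G)
  (hsymp : ∀ A : Subgroup G, A.Characteristic → IsMulCommutative A → IsCyclic A)

/-- an abelian minimal supplement is trivial -/
theorem min_supplement_abelian (E : Subgroup G) (hE1 : E ≤ AA p G)
    (hE2 : E ⊔ ZA p G = AA p G)
    (hmin : ∀ E₁ : Subgroup G, E₁ ≤ E → E₁ ⊔ ZA p G = AA p G → E₁ = E)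
    (hab : ∀ x ∈ E, ∀ y ∈ E, x * y = y * x) : E = ⊥ := by
  symm
  apply hmin ⊥ bot_le
  rw [bot_sup_eq]
  apply le_antisymm ZA_le_AA
  intro a ha
  refine ⟨ha, ?_⟩
  -- `a` centralizes `E ⊔ ZA`
  have hle : E ⊔ ZA p G ≤ Subgroup.centralizer (E ⊔ ZA p G : Subgroup G) := by
    rw [Subgroup.le_centralizer_iff, ← Subgroup.le_centralizer_iff]
    rw [sup_le_iff]
    constructor
    · intro x hx
      rw [Subgroup.mem_centralizer_iff]
      intro y hy
      have hy' : y ∈ E ⊔ ZA p G := hy
      -- `x` commutes with `E` and with `ZA`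
      have hcent : E ⊔ ZA p G ≤ Subgroup.centralizer {x} := by
        rw [sup_le_iff]
        constructor
        · intro e he
          rw [Subgroup.mem_centralizer_singleton_iff]
          exact hab e he x hx
        · intro z hz
          rw [Subgroup.mem_centralizer_singleton_iff]
          exact (Subgroup.mem_centralizer_iff.mp hz.2 x (hE1 hx)).symm
      have := hcent hy'
      rw [Subgroup.mem_centralizer_singleton_iff] at this
      exact this
    · intro z hz
      rw [Subgroup.mem_centralizer_iff]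
      intro y hy
      have hy' : y ∈ AA p G := by rw [← hE2]; exact hy
      exact Subgroup.mem_centralizer_iff.mp hz.2 y hy'
  have ha' : a ∈ E ⊔ ZA p G := by rw [hE2]; exact ha
  have := hle ha'
  rw [hE2] at this
  exact this

include hG hsymp in
/-- a non-abelian minimal supplement is extraspecial with centre `Z₀` -/
theorem min_supplement_extraspecial [Nontrivial G] (E : Subgroup G) (hE1 : E ≤ AA p G)
    (hE2 : E ⊔ ZA p G = AA p G)
    (hmin : ∀ E₁ : Subgroup G, E₁ ≤ E → E₁ ⊔ ZA p G = AA p G → E₁ = E)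
    (x y : G) (hx : x ∈ E) (hy : y ∈ E) (hxy : x * y ≠ y * x) :
    Cfsg.IsExtraspecial p E ∧ Zp p G ≤ E ∧ E ⊓ Subgroup.centralizer (E : Set G) = Zp p G := by
  classical
  have hZcard : Nat.card (Zp p G) = p := card_Zp_eq hG hsymp
  -- the commutator generates `Z₀`
  have hc1 : ⁅x, y⁆ ≠ 1 := by
    intro h
    exact hxy (commutatorElement_eq_one_iff_commute.mp h).eq
  have hcZ : ⁅x, y⁆ ∈ Zp p G := comm_mem_Zp (hE1 hx) y
  have hcE : ⁅x, y⁆ ∈ E := by
    rw [commutatorElement_def]
    exact E.mul_mem (E.mul_mem (E.mul_mem hx hy) (E.inv_mem hx)) (E.inv_mem hy)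
  have hZgen : Zp p G = Subgroup.zpowers ⁅x, y⁆ := by
    symm
    apply Subgroup.eq_of_le_of_card_ge (Subgroup.zpowers_le.mpr hcZ)
    rw [hZcard, Nat.card_zpowers]
    have h1 : orderOf ⁅x, y⁆ = p := orderOf_eq_prime hcZ.2 hc1
    rw [h1]
  have hZE : Zp p G ≤ E := by rw [hZgen]; exact Subgroup.zpowers_le.mpr hcE
  -- the three subgroups of `E`
  set N : Subgroup E := (Zp p G).subgroupOf E with hN
  have hNcard : Nat.card N = p := by
    rw [hN, Nat.card_congr (Subgroup.subgroupOfEquivOfLe hZE).toEquiv, hZcard]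
  have hEp : IsPGroup p E := hG.to_subgroup E
  -- commutators of `E` lie in `N`
  have hcommN : commutator E ≤ N := by
    rw [commutator_def, Subgroup.commutator_le]
    intro u _ v _
    rw [hN, Subgroup.mem_subgroupOf]
    have : ((⁅u, v⁆ : E) : G) = ⁅(u : G), (v : G)⁆ := by
      simp only [commutatorElement_def, Subgroup.coe_mul, Subgroup.coe_inv]
    rw [this]
    exact comm_mem_Zp (hE1 u.2) v
  have hpowN : ∀ u : E, u ^ p ∈ N := by
    intro u
    rw [hN, Subgroup.mem_subgroupOf, Subgroup.coe_pow]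
    exact (mem_AA.mp (hE1 u.2)).2
  have hfrN : frattini E ≤ N := frattini_le_of_elementary_quotient N hcommN hpowN
  have hNcomm : N ≤ commutator E := by
    intro u hu
    rw [hN, Subgroup.mem_subgroupOf, hZgen] at hu
    obtain ⟨k, hk⟩ := Subgroup.mem_zpowers_iff.mp hu
    have h1 : u = (⁅(⟨x, hx⟩ : E), ⟨y, hy⟩⁆) ^ k := by
      apply Subtype.ext
      rw [Subgroup.coe_zpow, ← hk]
      simp only [commutatorElement_def, Subgroup.coe_mul, Subgroup.coe_inv]
    rw [h1, commutator_def]
    exact Subgroup.zpow_mem _ (Subgroup.commutator_mem_commutator (Subgroup.mem_top _)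
      (Subgroup.mem_top _)) k
  have hcommeq : commutator E = N := le_antisymm hcommN hNcomm
  have hfreq : frattini E = N := by
    apply le_antisymm hfrN
    rw [← hcommeq]
    exact commutator_le_frattini_of_isPGroup hEp
  -- the centre
  have hcenter : Subgroup.center E = N := by
    apply le_antisymm
    · intro u hu
      apply hfrN
      apply inf_ZA_le_frattini E hE2 hmin
      rw [Subgroup.mem_subgroupOf]
      -- `u` centralizes `E` and `ZA`, hence `A`
      have huA : (u : G) ∈ AA p G := hE1 u.2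
      refine ⟨huA, ?_⟩
      have hcent : E ⊔ ZA p G ≤ Subgroup.centralizer {(u : G)} := by
        rw [sup_le_iff]
        constructor
        · intro e he
          rw [Subgroup.mem_centralizer_singleton_iff]
          have := Subgroup.mem_center_iff.mp hu ⟨e, he⟩
          exact congrArg Subtype.val this
        · intro z hz
          rw [Subgroup.mem_centralizer_singleton_iff]
          exact (Subgroup.mem_centralizer_iff.mp hz.2 (u : G) huA).symm
      show (u : G) ∈ Subgroup.centralizer (AA p G : Set G)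
      rw [Subgroup.mem_centralizer_iff]
      intro a ha
      have ha' : a ∈ E ⊔ ZA p G := by rw [hE2]; exact ha
      have := hcent ha'
      rw [Subgroup.mem_centralizer_singleton_iff] at this
      exact this
    · intro u hu
      rw [hN, Subgroup.mem_subgroupOf] at hu
      rw [Subgroup.mem_center_iff]
      intro v
      apply Subtype.ext
      exact Subgroup.mem_center_iff.mp hu.1 (v : G)
  refine ⟨⟨⟨hEp, by rw [hfreq, hcenter], by rw [hcommeq, hcenter]⟩, by rw [hcenter, hNcard]⟩,
    hZE, ?_⟩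
  -- `E ⊓ C(E) = Z₀`
  apply le_antisymm
  · intro u hu
    have h1 : (⟨u, hu.1⟩ : E) ∈ Subgroup.center E := by
      rw [Subgroup.mem_center_iff]
      intro v
      apply Subtype.ext
      exact Subgroup.mem_centralizer_iff.mp hu.2 (v : G) v.2
    rw [hcenter, hN, Subgroup.mem_subgroupOf] at h1
    exact h1
  · intro z hz
    refine ⟨hZE hz, ?_⟩
    show z ∈ Subgroup.centralizer (E : Set G)
    rw [Subgroup.mem_centralizer_iff]
    intro e _
    exact Subgroup.mem_center_iff.mp hz.1 e

end

end HallSymp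

end Cfsg.Agent.Lib.Lead
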