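import Mathlib
import Cfsg.Agent.Lib.Lead.HallSymp3
import Cfsg.Agent.Lib.Lead.ExtraspecialCentral
import Cfsg.Agent.Lib.Lead.CyclicP
import Cfsg.Agent.Lib.Lead.Frattini

set_option autoImplicit false

namespace Cfsg.Agent.Lib.Lead

namespace HallSymp

open scoped commutatorElement

section
variable {H : Type*} [Group H] [Finite H] {p : ℕ} [hp : Fact p.Prime]

/-- a `p`-group with Frattini quotient of order at most `p` is cyclic -/
theorem isCyclic_of_frattini_index_le (hH : IsPGroup p H) (n : ℕ)
    (hn : (frattini H).index = p ^ n) (hn1 : n ≤ 1) : IsCyclic H := by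
  classical
  haveI := Fintype.ofFinite H
  obtain ⟨T, -, hTcard, hT⟩ := (burnside_basis p n hH hn).1 Finset.univ (by
    rw [Finset.coe_univ, Subgroup.closure_univ])
  have hT1 : T.card ≤ 1 := by omega
  rcases Nat.lt_or_ge T.card 1 with h0 | h1
  · have : T = ∅ := Finset.card_eq_zero.mp (by omega)
    rw [this, Finset.coe_empty, Subgroup.closure_empty] at hT
    haveI : Subsingleton H := by
      constructor
      intro a b
      have ha : a ∈ (⊥ : Subgroup H) := by rw [hT]; exact Subgroup.mem_top _
      have hb : b ∈ (⊥ : Subgroup H) := by rw [hT]; exact Subgroup.mem_top _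
      rw [Subgroup.mem_bot] at ha hb
      rw [ha, hb]
    infer_instance
  · have h2 : T.card = 1 := le_antisymm hT1 h1
    obtain ⟨t, rfl⟩ := Finset.card_eq_one.mp h2
    rw [Finset.coe_singleton, ← Subgroup.zpowers_eq_closure] at hT
    refine ⟨⟨t, fun x => ?_⟩⟩
    have : x ∈ Subgroup.zpowers t := by rw [hT]; exact Subgroup.mem_top _
    exact this

/-- the structure of a non-cyclic `p`-group all of whose normal abelian subgroups are cyclic -/
theorem lemmaN (hH : IsPGroup p H)
    (hN : ∀ F : Subgroup H, F.Normal → IsMulCommutative F → IsCyclic F) (hnc : ¬ IsCyclic H) :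
    p = 2 ∧ ∃ n : ℕ, 2 ≤ n ∧ Nat.card H = 2 ^ (n + 1) ∧
      ((∃ m : ℕ, Nonempty (H ≃* DihedralGroup m)) ∨ (∃ m : ℕ, Nonempty (H ≃* QuaternionGroup m)) ∨
        Cfsg.IsQuasiDihedral H) := by
  classical
  have htop : ∀ U : Subgroup H, IsCyclic U → U = ⊤ → False := by
    intro U hU hUt
    apply hnc
    subst hUt
    exact (MulEquiv.isCyclic Subgroup.topEquiv).mp hU
  have hna : ¬ IsMulCommutative H := by
    intro h
    have h1 : IsMulCommutative (⊤ : Subgroup H) :=
      ⟨⟨fun a b => Subtype.ext (h.is_comm.comm a.1 b.1)⟩⟩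
    exact htop ⊤ (hN ⊤ inferInstance h1) rfl
  obtain ⟨U, hUn, hUc, hmax⟩ := exists_max_normal_abelian H
  haveI := hUn
  haveI := hUc
  haveI : Group.IsNilpotent H := hH.isNilpotent
  have hC : Subgroup.centralizer (U : Set H) = U := centralizer_eq_of_max_abelian_normal U hmax
  have hUcyc : IsCyclic U := hN U hUn hUc
  obtain ⟨n, hn⟩ := IsPGroup.iff_card.mp (hH.to_subgroup U)
  have hcen : ¬ U ≤ Subgroup.center H := by
    intro hle
    have h1 : Subgroup.centralizer (U : Set H) = ⊤ := by
      rw [Subgroup.centralizer_eq_top_iff_subset]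
      exact hle
    rw [hC] at h1
    exact htop U hUcyc h1
  rcases SympType.selfCentralizing_cyclic_normal hH hna U hUcyc n hn hC with h | h
  · obtain ⟨hp2, hcard, htypes⟩ := h
    refine ⟨hp2, n, ?_, hcard, htypes⟩
    by_contra hlt
    have hn1 : n = 0 ∨ n = 1 := by omega
    rcases hn1 with rfl | rfl
    · rw [pow_zero] at hn
      have : U = ⊥ := Subgroup.card_eq_one.mp hn
      apply hcen
      rw [this]
      exact bot_le
    · rw [pow_one] at hn
      exact hcen (le_center_of_normal_of_card_prime hH U hn)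
  · exfalso
    obtain ⟨-, hEA, hcard, hchar⟩ := h
    set W := Cfsg.omegaOne p (Subgroup.centralizer (Cfsg.powerClosure p 1 U : Set H)) with hW
    haveI := hchar
    have hWn : W.Normal := inferInstance
    haveI hWcyc : IsCyclic W := hN W hWn hEA.1
    have h1 := card_pow_eq_one_le_of_isCyclic (C := W) p hp.out.pos
    have h2 : Nat.card W ≤ Nat.card {x : W // x ^ p = 1} := by
      apply Nat.card_le_card_of_injective (fun w : W => (⟨w, by
        apply Subtype.ext
        rw [Subgroup.coe_pow, Subgroup.coe_one]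
        exact hEA.2 w.1 w.2⟩ : {x : W // x ^ p = 1}))
      intro a b hab
      exact congrArg (fun z : {x : W // x ^ p = 1} => (z : W)) hab
    rw [hcard] at h2
    have h3 : p ^ 2 ≤ p := h2.trans h1
    have h4 : 2 ≤ p := hp.out.two_le
    nlinarith
end

end HallSymp

end Cfsg.Agent.Lib.Lead
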