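import Mathlib
import Cfsg.Prelude.Def_OddOrderLocal
import Cfsg.Agent.Lib.Helper4.MetaTwo2
import Cfsg.Agent.Lib.Helper7.Meta7
import Cfsg.Agent.Lib.Lead.BurnsideBasis

set_option autoImplicit false

namespace Cfsg.Agent.Lib.Lead.MetaAut

section
variable {D : Type*} [Group D]

theorem isMetacyclic_of_mulEquiv {E : Type*} [Group E] (e : D ≃* E) (h : Cfsg.IsMetacyclic D) :
    Cfsg.IsMetacyclic E := by
  obtain ⟨N, hNn, hNc, hQc⟩ := h
  haveI := hNn
  haveI := hNc
  haveI := hQc
  have hNn' : (N.map e.toMonoidHom).Normal := Subgroup.Normal.map hNn _ e.surjective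
  haveI := hNn'
  refine ⟨N.map e.toMonoidHom, hNn', ?_, ?_⟩
  · exact isCyclic_of_surjective (e.subgroupMap N).toMonoidHom (e.subgroupMap N).surjective
  · let φ : D ⧸ N →* E ⧸ N.map e.toMonoidHom :=
      QuotientGroup.map N (N.map e.toMonoidHom) e.toMonoidHom (Subgroup.le_comap_map _ _)
    apply isCyclic_of_surjective φ
    intro q
    obtain ⟨y, rfl⟩ := QuotientGroup.mk_surjective q
    exact ⟨QuotientGroup.mk (e.symm y), by
      show QuotientGroup.mk (e (e.symm y)) = _
      rw [e.apply_symm_apply]⟩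

theorem frattini_index_dvd_sq [Finite D] {p : ℕ} [hp : Fact p.Prime] (hD : IsPGroup p D)
    (hm : Cfsg.IsMetacyclic D) : (frattini D).index ∣ p ^ 2 := by
  classical
  obtain ⟨a, t, -, hgen⟩ := Cfsg.Agent.Lib.Helper4.MetaTwo.exists_gens hm
  have htop : Subgroup.closure (({a, t} : Finset D) : Set D) = ⊤ := by
    rw [eq_top_iff]
    intro w _
    obtain ⟨j, i, rfl⟩ := hgen w
    refine Subgroup.mul_mem _ (Subgroup.zpow_mem _ (Subgroup.subset_closure ?_) _)
      (Subgroup.zpow_mem _ (Subgroup.subset_closure ?_) _)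
    · simp
    · simp
  have h1 := Cfsg.Agent.Lib.Lead.card_closure_sup_frattini_le hD ({a, t} : Finset D)
  rw [htop, top_sup_eq, Subgroup.card_top] at h1
  have hc : ({a, t} : Finset D).card ≤ 2 := Finset.card_le_two
  have h2 : Nat.card D ≤ p ^ 2 * Nat.card (frattini D) :=
    h1.trans (Nat.mul_le_mul_right _ (Nat.pow_le_pow_right hp.out.pos hc))
  have h3 : (frattini D).index ≤ p ^ 2 := by
    rw [← (frattini D).card_mul_index] at h2
    have hpos : 0 < Nat.card (frattini D) := Nat.card_pos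
    rw [mul_comm] at h2
    exact Nat.le_of_mul_le_mul_right h2 hpos
  obtain ⟨n, hn⟩ := IsPGroup.iff_card.mp hD
  have h4 : (frattini D).index ∣ p ^ n := by rw [← hn]; exact Subgroup.index_dvd_card _
  obtain ⟨k, -, hk⟩ := (Nat.dvd_prime_pow hp.out).mp h4
  rw [hk] at h3 ⊢
  exact pow_dvd_pow p ((Nat.pow_le_pow_iff_right hp.out.one_lt).mp h3)

end

section
variable {Z α : Type*} [Group Z] [MulAction Z α]

theorem exists_fixed_of_invariant_set [Finite α] {r : ℕ} [Fact r.Prime] (hZ : IsPGroup r Z)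
    (S : Set α) (hS : ∀ (z : Z), ∀ a ∈ S, z • a ∈ S) (hr : ¬ r ∣ Nat.card S) :
    ∃ a ∈ S, ∀ z : Z, z • a = a := by
  let T : SubMulAction Z α := { carrier := S, smul_mem' := fun z a ha => hS z a ha }
  have hcard : ¬ r ∣ Nat.card T := hr
  obtain ⟨⟨a, ha⟩, hfix⟩ := hZ.nonempty_fixed_point_of_prime_not_dvd_card T hcard
  refine ⟨a, ha, fun z => ?_⟩
  have := hfix z
  exact congrArg Subtype.val this

end

section
variable {D : Type*} [Group D] [Finite D]

/-- an automorphism of `r`-power order of a metacyclic `p`-group is trivial unless `r ∣ p² - 1` -/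
theorem aut_eq_one_of_metacyclic {p r : ℕ} [hp : Fact p.Prime] [hrf : Fact r.Prime]
    (hD : IsPGroup p D) (hm : Cfsg.IsMetacyclic D) (hr : ¬ r ∣ p ^ 2 - 1) (hrp : r ≠ p)
    (σ : MulAut D) (j : ℕ) (hσ : σ ^ (r ^ j) = 1) : σ = 1 := by
  classical
  -- the fixed subgroup
  let C : Subgroup D :=
    { carrier := {x | σ x = x}
      one_mem' := map_one σ
      mul_mem' := fun {a b} ha hb => by
        show σ (a * b) = a * b
        rw [map_mul, ha, hb]
      inv_mem' := fun {a} ha => by
        show σ a⁻¹ = a⁻¹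
        rw [map_inv, ha] }
  have hC : ∀ x, x ∈ C ↔ σ x = x := fun x => Iff.rfl
  suffices hCtop : C = ⊤ by
    ext x
    have : x ∈ C := by rw [hCtop]; trivial
    exact this
  apply frattini_nongenerating
  by_contra hK
  set K := C ⊔ frattini D with hKdef
  -- the group generated by σ
  let Z := Subgroup.zpowers σ
  have hZ : IsPGroup r Z := by
    apply IsPGroup.of_card (n := (Nat.card Z).factorization r)
    have h1 : Nat.card Z ∣ r ^ j := by
      rw [Nat.card_zpowers]; exact orderOf_dvd_of_pow_eq_one hσ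
    obtain ⟨k, -, hk⟩ := (Nat.dvd_prime_pow hrf.out).mp h1
    rw [hk, hrf.out.factorization_pow]
    simp
  -- invariance of K
  have hσΦ : ∀ x ∈ frattini D, σ x ∈ frattini D := by
    intro x hx
    exact (Subgroup.characteristic_iff_le_comap.mp (frattini_characteristic (G := D))) σ hx
  have hσK : ∀ x ∈ K, σ x ∈ K := by
    have h : K ≤ K.comap σ.toMonoidHom := by
      rw [hKdef]
      refine sup_le ?_ ?_
      · intro x hx
        rw [Subgroup.mem_comap]
        have : σ x = x := hx
        show σ x ∈ _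
        rw [this]; exact Subgroup.mem_sup_left hx
      · intro x hx
        exact Subgroup.mem_sup_right (hσΦ x hx)
    exact fun x hx => h hx
  have hσK' : ∀ x, σ x ∈ K ↔ x ∈ K := by
    intro x
    refine ⟨fun h => ?_, hσK x⟩
    have hsurj : K.map σ.toMonoidHom = K := by
      apply Subgroup.eq_of_le_of_card_ge
      · rintro _ ⟨y, hy, rfl⟩; exact hσK y hy
      · rw [Subgroup.card_map_of_injective σ.injective]
    rw [← hsurj] at h
    obtain ⟨y, hy, hyx⟩ := h
    have : y = x := σ.injective hyx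
    rw [← this]; exact hy
  let St : Subgroup (MulAut D) :=
    { carrier := {τ | ∀ x, τ x ∈ K ↔ x ∈ K}
      one_mem' := fun x => Iff.rfl
      mul_mem' := fun {a b} ha hb x => by
        show a (b x) ∈ K ↔ x ∈ K
        rw [ha, hb]
      inv_mem' := fun {a} ha x => by
        have h := ha (a⁻¹ x)
        rw [MulAut.apply_inv_self] at h
        exact h.symm }
  have hZSt : Z ≤ St := by
    rw [Subgroup.zpowers_le]
    exact hσK'
  have hpowK : ∀ (z : Z) (x : D), (z : MulAut D) x ∈ K ↔ x ∈ K := fun z x => hZSt z.2 x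
  -- the action of Z on D
  let S : Set D := {x | x ∉ K}
  have hSinv : ∀ (z : Z), ∀ a ∈ S, z • a ∈ S := by
    intro z a ha hza
    apply ha
    have h3 : (z • a : D) = (z : MulAut D) a := rfl
    rw [h3] at hza
    exact (hpowK z a).mp hza
  -- cardinality of S
  have hKidx : K.index ∣ p ^ 2 :=
    (Subgroup.index_dvd_of_le le_sup_right).trans (frattini_index_dvd_sq hD hm)
  have hKidx1 : K.index ≠ 1 := fun h => hK (Subgroup.index_eq_one.mp h)
  have hScard : Nat.card S = Nat.card K * (K.index - 1) := by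
    have h1 : Nat.card S = Nat.card D - Nat.card K := by
      have : S = (K : Set D)ᶜ := rfl
      rw [this, Nat.card_coe_set_eq, Set.ncard_compl, ← Nat.card_coe_set_eq]
      rfl
    rw [h1, ← K.card_mul_index, Nat.mul_sub, mul_one]
  have hrS : ¬ r ∣ Nat.card S := by
    rw [hScard]
    intro h
    rcases (Nat.Prime.dvd_mul hrf.out).mp h with h1 | h1
    · obtain ⟨n, hn⟩ := IsPGroup.iff_card.mp (hD.to_subgroup K)
      rw [hn] at h1
      exact hrp ((Nat.prime_dvd_prime_iff_eq hrf.out hp.out).mp (hrf.out.dvd_of_dvd_pow h1))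
    · obtain ⟨k, hk2, hk⟩ := (Nat.dvd_prime_pow hp.out).mp hKidx
      rw [hk] at h1 hKidx1
      have hk0 : k ≠ 0 := by
        rintro rfl; exact hKidx1 (pow_zero p)
      have hk12 : k = 1 ∨ k = 2 := by omega
      rcases hk12 with rfl | rfl
      · apply hr
        have : p ^ 2 - 1 = (p ^ 1 - 1) * (p + 1) := by
          have hp1 : 1 ≤ p := hp.out.pos
          obtain ⟨q, rfl⟩ : ∃ q, p = q + 1 := ⟨p - 1, by omega⟩
          simp only [pow_one, Nat.add_sub_cancel]
          have : (q + 1) ^ 2 = q * (q + 1 + 1) + 1 := by ring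
          rw [this, Nat.add_sub_cancel]
        rw [this]
        exact Dvd.dvd.mul_right h1 _
      · exact hr h1
  obtain ⟨a, haS, hafix⟩ := exists_fixed_of_invariant_set hZ S hSinv hrS
  apply haS
  have h1 : σ a = a := hafix ⟨σ, Subgroup.mem_zpowers σ⟩
  exact Subgroup.mem_sup_left h1

end

end Cfsg.Agent.Lib.Lead.MetaAut
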