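import Mathlib

set_option autoImplicit false

universe u v w

namespace Cfsg.Agent.Lib.Lead.FF

open Module

variable {K : Type u} [Field K] {V : Type v} [AddCommGroup V] [Module K V]
variable {G : Type w} [Group G]

/-- vectors fixed by a subgroup -/
def fix (ρ : G →* Module.End K V) (S : Subgroup G) : Submodule K V where
  carrier := {v | ∀ g ∈ S, ρ g v = v}
  add_mem' := by
    intro a b ha hb g hg
    rw [map_add, ha g hg, hb g hg]
  zero_mem' := by
    intro g _
    exact map_zero _
  smul_mem' := by
    intro c x hx g hg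
    rw [map_smul, hx g hg]

theorem mem_fix (ρ : G →* Module.End K V) (S : Subgroup G) (v : V) :
    v ∈ fix ρ S ↔ ∀ g ∈ S, ρ g v = v := Iff.rfl

theorem rho_inv_apply (ρ : G →* Module.End K V) (g : G) (v : V) : ρ g⁻¹ (ρ g v) = v := by
  have : ρ g⁻¹ * ρ g = 1 := by rw [← map_mul, inv_mul_cancel, map_one]
  have h2 := LinearMap.congr_fun this v
  simpa using h2

theorem rho_apply_inv (ρ : G →* Module.End K V) (g : G) (v : V) : ρ g (ρ g⁻¹ v) = v := by
  have := rho_inv_apply ρ g⁻¹ v
  rwa [inv_inv] at this

theorem rho_injective (ρ : G →* Module.End K V) (g : G) : Function.Injective (ρ g) := by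
  intro a b hab
  have := congrArg (ρ g⁻¹) hab
  rwa [rho_inv_apply, rho_inv_apply] at this

theorem rho_mul_apply (ρ : G →* Module.End K V) (g h : G) (v : V) : ρ (g * h) v = ρ g (ρ h v) := by
  rw [map_mul]; rfl

/-- the "spreading" map -/
noncomputable def spread [Fintype G] (ρ : G →* Module.End K V) (E : Subgroup G) [Fintype E]
    (W : Submodule K V) : (E → W) →ₗ[K] V where
  toFun w := ∑ e : E, ρ (e : G) (w e : V)
  map_add' := by
    intro a b
    simp [Finset.sum_add_distrib]
  map_smul' := by
    intro c a
    simp [Finset.smul_sum]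

theorem spread_apply [Fintype G] (ρ : G →* Module.End K V) (E : Subgroup G) [Fintype E]
    (W : Submodule K V) (w : E → W) : spread ρ E W w = ∑ e : E, ρ (e : G) (w e : V) := rfl

theorem spread_injective [Fintype G] (ρ : G →* Module.End K V) (E : Subgroup G) [Fintype E]
    (W : Submodule K V) (hind : iSupIndep (fun e : E => W.map (ρ (e : G)))) :
    Function.Injective (spread ρ E W) := by
  rw [← LinearMap.ker_eq_bot, LinearMap.ker_eq_bot']
  intro w hw
  rw [spread_apply] at hw
  have h := (iSupIndep_iff_finsetSum_eq_zero_imp_eq_zero _).mp hind Finset.univ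
    (fun e => ρ (e : G) (w e : V)) (fun e _ => Submodule.mem_map_of_mem (w e).2) hw
  funext e
  have he := h e (Finset.mem_univ _)
  have : (w e : V) = 0 := by
    apply rho_injective ρ (e : G)
    rw [he, map_zero]
  exact Subtype.ext this

theorem range_spread [Fintype G] (ρ : G →* Module.End K V) (E : Subgroup G) [Fintype E]
    (W : Submodule K V) :
    LinearMap.range (spread ρ E W) = ⨆ e : E, W.map (ρ (e : G)) := by
  classical
  apply le_antisymm
  · rintro _ ⟨w, rfl⟩
    rw [spread_apply]
    apply Submodule.sum_mem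
    intro e _
    exact Submodule.mem_iSup_of_mem e (Submodule.mem_map_of_mem (w e).2)
  · apply iSup_le
    intro e
    rintro _ ⟨x, hx, rfl⟩
    refine ⟨Pi.single e ⟨x, hx⟩, ?_⟩
    rw [spread_apply, Finset.sum_eq_single e]
    · simp
    · intro b _ hb
      simp [Pi.single_eq_of_ne hb]
    · intro h; exact absurd (Finset.mem_univ _) h

theorem finrank_iSup_map [Fintype G] [FiniteDimensional K V] (ρ : G →* Module.End K V)
    (E : Subgroup G) [Fintype E]
    (W : Submodule K V) (hind : iSupIndep (fun e : E => W.map (ρ (e : G)))) :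
    finrank K ↥(⨆ e : E, W.map (ρ (e : G))) = Fintype.card E * finrank K W := by
  rw [← range_spread, LinearMap.finrank_range_of_inj (spread_injective ρ E W hind),
    Module.finrank_pi_fintype]
  simp

/-- the trace map `w ↦ ∑ e, ρ e w` -/
noncomputable def trc [Fintype G] (ρ : G →* Module.End K V) (E : Subgroup G) [Fintype E]
    (W : Submodule K V) : W →ₗ[K] V where
  toFun w := ∑ e : E, ρ (e : G) (w : V)
  map_add' := by
    intro a b
    simp [Finset.sum_add_distrib]
  map_smul' := by
    intro c a
    simp [Finset.smul_sum]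

theorem trc_apply [Fintype G] (ρ : G →* Module.End K V) (E : Subgroup G) [Fintype E]
    (W : Submodule K V) (w : W) : trc ρ E W w = ∑ e : E, ρ (e : G) (w : V) := rfl

theorem trc_eq_spread [Fintype G] (ρ : G →* Module.End K V) (E : Subgroup G) [Fintype E]
    (W : Submodule K V) (w : W) : trc ρ E W w = spread ρ E W (fun _ => w) := rfl

theorem trc_injective [Fintype G] (ρ : G →* Module.End K V) (E : Subgroup G) [Fintype E]
    (W : Submodule K V) (hind : iSupIndep (fun e : E => W.map (ρ (e : G)))) :
    Function.Injective (trc ρ E W) := by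
  intro a b hab
  rw [trc_eq_spread, trc_eq_spread] at hab
  have := spread_injective ρ E W hind hab
  exact congrFun this 1

theorem range_trc [Fintype G] (ρ : G →* Module.End K V) (E : Subgroup G) [Fintype E]
    (W : Submodule K V) (hind : iSupIndep (fun e : E => W.map (ρ (e : G)))) :
    LinearMap.range (trc ρ E W) = (⨆ e : E, W.map (ρ (e : G))) ⊓ fix ρ E := by
  classical
  apply le_antisymm
  · rintro _ ⟨w, rfl⟩
    refine ⟨?_, ?_⟩
    · rw [trc_eq_spread, ← range_spread]
      exact LinearMap.mem_range_self _ _
    · intro g hg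
      rw [trc_apply, map_sum]
      have : ∀ e : E, ρ g (ρ (e : G) (w : V)) = ρ ((⟨g, hg⟩ * e : E) : G) (w : V) := by
        intro e
        rw [Subgroup.coe_mul, rho_mul_apply]
      simp_rw [this]
      exact Fintype.sum_equiv (Equiv.mulLeft (⟨g, hg⟩ : E)) _ _ (fun e => rfl)
  · rintro v ⟨hvX, hvf⟩
    rw [SetLike.mem_coe, ← range_spread] at hvX
    obtain ⟨w, rfl⟩ := hvX
    -- all the components are equal
    have key : ∀ g : E, w g = w 1 := by
      intro g
      have h1 : ρ (g : G) (spread ρ E W w) = spread ρ E W w := hvf g g.2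
      rw [spread_apply, map_sum] at h1
      have h2 : ∑ e : E, ρ (g : G) (ρ (e : G) (w e : V))
          = ∑ e : E, ρ (e : G) (w (g⁻¹ * e) : V) := by
        have : ∀ e : E, ρ (g : G) (ρ (e : G) (w e : V)) = ρ ((g * e : E) : G) (w e : V) := by
          intro e
          rw [Subgroup.coe_mul, rho_mul_apply]
        simp_rw [this]
        apply Fintype.sum_equiv (Equiv.mulLeft g)
        intro e
        simp
      rw [h2] at h1
      have h3 := (iSupIndep_iff_finsetSum_eq_imp_eq _).mp hind Finset.univ
        (fun e => ρ (e : G) (w (g⁻¹ * e) : V)) (fun e => ρ (e : G) (w e : V))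
        (fun e _ => ⟨Submodule.mem_map_of_mem (w _).2, Submodule.mem_map_of_mem (w e).2⟩) h1
      have h4 := h3 g (Finset.mem_univ _)
      have h5 := rho_injective ρ (g : G) h4
      rw [inv_mul_cancel] at h5
      exact (Subtype.ext h5).symm
    refine ⟨w 1, ?_⟩
    rw [trc_eq_spread]
    congr 1
    funext g
    exact (key g).symm

theorem finrank_iSup_map_inf_fix [Fintype G] [FiniteDimensional K V] (ρ : G →* Module.End K V)
    (E : Subgroup G) [Fintype E]
    (W : Submodule K V) (hind : iSupIndep (fun e : E => W.map (ρ (e : G)))) :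
    finrank K ↥((⨆ e : E, W.map (ρ (e : G))) ⊓ fix ρ E) = finrank K W := by
  rw [← range_trc ρ E W hind, LinearMap.finrank_range_of_inj (trc_injective ρ E W hind)]

end Cfsg.Agent.Lib.Lead.FF
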