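import Mathlib
import Cfsg.Agent.Lib.Lead.FF1

set_option autoImplicit false

universe u v w

namespace Cfsg.Agent.Lib.Lead.FF

open Module

variable {K : Type u} [Field K] {V : Type v} [AddCommGroup V] [Module K V]
variable {G : Type w} [Group G]

theorem fix_split (ρ : G →* Module.End K V) (E : Subgroup G) (X Y : Submodule K V)
    (hXY : IsCompl X Y) (hX : ∀ e ∈ E, ∀ x ∈ X, ρ e x ∈ X) (hY : ∀ e ∈ E, ∀ y ∈ Y, ρ e y ∈ Y) :
    fix ρ E = (X ⊓ fix ρ E) ⊔ (Y ⊓ fix ρ E) := by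
  apply le_antisymm
  · intro v hv
    have hv' : v ∈ X ⊔ Y := by rw [hXY.sup_eq_top]; trivial
    obtain ⟨x, hx, y, hy, rfl⟩ := Submodule.mem_sup.mp hv'
    have hfx : ∀ e ∈ E, ρ e x = x ∧ ρ e y = y := by
      intro e he
      have h1 := hv e he
      rw [map_add] at h1
      have h2 : ρ e x - x = y - ρ e y := by
        rw [sub_eq_sub_iff_add_eq_add]
        rw [h1, add_comm]
      have h3 : ρ e x - x ∈ X ⊓ Y :=
        ⟨X.sub_mem (hX e he x hx) hx, by rw [h2]; exact Y.sub_mem hy (hY e he y hy)⟩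
      rw [hXY.inf_eq_bot, Submodule.mem_bot] at h3
      refine ⟨sub_eq_zero.mp h3, ?_⟩
      rw [h3] at h2
      exact (sub_eq_zero.mp h2.symm).symm
    exact Submodule.add_mem_sup ⟨hx, fun e he => (hfx e he).1⟩ ⟨hy, fun e he => (hfx e he).2⟩
  · exact sup_le inf_le_right inf_le_right

theorem finrank_fix_split [FiniteDimensional K V] (ρ : G →* Module.End K V) (E : Subgroup G)
    (X Y : Submodule K V)
    (hXY : IsCompl X Y) (hX : ∀ e ∈ E, ∀ x ∈ X, ρ e x ∈ X) (hY : ∀ e ∈ E, ∀ y ∈ Y, ρ e y ∈ Y) :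
    finrank K ↥(fix ρ E) = finrank K ↥(X ⊓ fix ρ E) + finrank K ↥(Y ⊓ fix ρ E) := by
  have h := Submodule.finrank_sup_add_finrank_inf_eq (X ⊓ fix ρ E) (Y ⊓ fix ρ E)
  have hbot : (X ⊓ fix ρ E) ⊓ (Y ⊓ fix ρ E) = ⊥ := by
    apply le_antisymm _ bot_le
    rw [← hXY.inf_eq_bot]
    exact inf_le_inf inf_le_left inf_le_left
  rw [hbot, finrank_bot, add_zero, ← fix_split ρ E X Y hXY hX hY] at h
  exact h

/-- restriction of a representation to an invariant subspace -/
def res (ρ : G →* Module.End K V) (Y : Submodule K V) (hY : ∀ g, ∀ y ∈ Y, ρ g y ∈ Y) :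
    G →* Module.End K Y where
  toFun g := (ρ g).restrict (hY g)
  map_one' := by
    ext y
    simp
  map_mul' := by
    intro a b
    ext y
    simp [rho_mul_apply]

theorem res_apply (ρ : G →* Module.End K V) (Y : Submodule K V) (hY : ∀ g, ∀ y ∈ Y, ρ g y ∈ Y)
    (g : G) (y : Y) : ((res ρ Y hY g) y : V) = ρ g (y : V) := rfl

theorem fix_res (ρ : G →* Module.End K V) (Y : Submodule K V) (hY : ∀ g, ∀ y ∈ Y, ρ g y ∈ Y)
    (S : Subgroup G) : fix (res ρ Y hY) S = (fix ρ S).comap Y.subtype := by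
  ext y
  constructor
  · intro h g hg
    have := h g hg
    have h2 := congrArg Subtype.val this
    rwa [res_apply] at h2
  · intro h g hg
    apply Subtype.ext
    rw [res_apply]
    exact h g hg

theorem finrank_fix_res [FiniteDimensional K V] (ρ : G →* Module.End K V) (Y : Submodule K V)
    (hY : ∀ g, ∀ y ∈ Y, ρ g y ∈ Y) (S : Subgroup G) :
    finrank K ↥(fix (res ρ Y hY) S) = finrank K ↥(Y ⊓ fix ρ S) := by
  rw [fix_res]
  have h1 : (fix ρ S).comap Y.subtype = (Y ⊓ fix ρ S).comap Y.subtype := by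
    ext y
    simp
  rw [h1]
  exact (Submodule.comapSubtypeEquivOfLe (inf_le_left : Y ⊓ fix ρ S ≤ Y)).finrank_eq

end Cfsg.Agent.Lib.Lead.FF
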