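import Mathlib
import Cfsg.Agent.Lib.Lead.FF2
import Cfsg.Agent.S0032
import Cfsg.Agent.S0033

set_option autoImplicit false

universe u v w

namespace Cfsg.Agent.Lib.Lead.FF

open Module

variable {G : Type w} [Group G] [Finite G] (U E : Subgroup G) [U.Normal]

theorem fpf_conj (hfpf : ∀ e ∈ E, e ≠ 1 → ∀ u ∈ U, e * u = u * e → u = 1)
    {e : G} (he : e ∈ E) (he1 : e ≠ 1) :
    MonoidHom.FixedPointFree ((MulAut.conjNormal e : ↥U ≃* ↥U) : ↥U →* ↥U) := by
  intro x hx
  have h1 : e * (x : G) * e⁻¹ = x := by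
    have := congrArg Subtype.val hx
    simpa using this
  have h2 : e * (x : G) = (x : G) * e := by
    calc e * (x : G) = e * (x : G) * e⁻¹ * e := by group
      _ = (x : G) * e := by rw [h1]
  exact Subtype.ext (hfpf e he he1 x x.2 h2)

theorem fpf_mod (hfpf : ∀ e ∈ E, e ≠ 1 → ∀ u ∈ U, e * u = u * e → u = 1)
    (N : Subgroup G) [N.Normal] {e u : G} (he : e ∈ E) (he1 : e ≠ 1) (hu : u ∈ U)
    (h : (e * u * e⁻¹)⁻¹ * u ∈ N) : u ∈ N := by
  have := Cfsg.Agent.S0032.result (MulAut.conjNormal e : ↥U ≃* ↥U) (fpf_conj U E hfpf he he1)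
    (N.subgroupOf U) (by
      intro n hn
      rw [Subgroup.mem_subgroupOf] at hn ⊢
      simpa using (inferInstance : N.Normal).conj_mem _ hn e) ⟨u, hu⟩ (by
      rw [Subgroup.mem_subgroupOf]
      simpa using h)
  rwa [Subgroup.mem_subgroupOf] at this

theorem nilpotent_U (hfpf : ∀ e ∈ E, e ≠ 1 → ∀ u ∈ U, e * u = u * e → u = 1) (hE : E ≠ ⊥) :
    Group.IsNilpotent U := by
  classical
  by_cases hU : U = ⊥
  · subst hU
    infer_instance
  have hcard : Nat.card E ≠ 1 := by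
    intro h1
    exact hE (Subgroup.card_eq_one.mp h1)
  obtain ⟨r, hr, hrd⟩ := Nat.exists_prime_and_dvd hcard
  haveI : Fact r.Prime := ⟨hr⟩
  obtain ⟨⟨e, heE⟩, hho⟩ := exists_prime_orderOf_dvd_card' r hrd
  have hho' : orderOf e = r := by
    rw [← hho]
    exact (Subgroup.orderOf_mk e heE).symm
  have he1 : e ≠ 1 := by
    intro h
    rw [h, orderOf_one] at hho'
    exact hr.one_lt.ne hho'
  have hφ := fpf_conj U E hfpf heE he1
  apply Cfsg.Agent.S0033.result (MulAut.conjNormal e : ↥U ≃* ↥U) hφ r hr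
  -- order of the automorphism
  have hdvd : orderOf (MulAut.conjNormal e : ↥U ≃* ↥U) ∣ r := by
    rw [← hho']
    exact orderOf_map_dvd (MulAut.conjNormal (H := U)) e
  rcases (Nat.dvd_prime hr).mp hdvd with h1 | h1
  · exfalso
    rw [orderOf_eq_one_iff] at h1
    apply hU
    rw [Subgroup.eq_bot_iff_forall]
    intro x hx
    have := hφ ⟨x, hx⟩ (by rw [h1]; rfl)
    exact congrArg Subtype.val this
  · exact h1

variable {K : Type u} [Field K] {V : Type v} [AddCommGroup V] [Module K V]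

/-- a "central modulo the kernel" element acting nontrivially -/
theorem exists_central (hfpf : ∀ e ∈ E, e ≠ 1 → ∀ u ∈ U, e * u = u * e → u = 1) (hE : E ≠ ⊥)
    (ρ : G →* Module.End K V) (hnt : ∃ u ∈ U, ρ u ≠ 1) :
    ∃ a ∈ U, ρ a ≠ 1 ∧ ∀ u ∈ U, ρ (u * a) = ρ (a * u) := by
  classical
  haveI := nilpotent_U U E hfpf hE
  let f : ↥U →* (Module.End K V)ˣ := ρ.toHomUnits.comp U.subtype
  haveI : Group.IsNilpotent f.range :=
    nilpotent_of_surjective f.rangeRestrict f.rangeRestrict_surjective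
  obtain ⟨u0, hu0, hu0ne⟩ := hnt
  haveI : Nontrivial f.range := by
    refine ⟨⟨f ⟨u0, hu0⟩, ⟨_, rfl⟩⟩, 1, ?_⟩
    intro h
    apply hu0ne
    have h2 := congrArg (fun x : f.range => ((x : (Module.End K V)ˣ) : Module.End K V)) h
    simpa [f] using h2
  have hc := Group.IsNilpotent.center_ne_bot (G := f.range)
  rw [Ne, Subgroup.eq_bot_iff_forall] at hc
  push Not at hc
  obtain ⟨⟨z, ⟨⟨a, ha⟩, rfl⟩⟩, hzc, hz1⟩ := hc
  refine ⟨a, ha, ?_, ?_⟩
  · intro h
    apply hz1
    apply Subtype.ext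
    apply Units.ext
    simpa [f] using h
  · intro u hu
    rw [Subgroup.mem_center_iff] at hzc
    have := hzc ⟨f ⟨u, hu⟩, ⟨_, rfl⟩⟩
    have h2 := congrArg (fun x : f.range => ((x : (Module.End K V)ˣ) : Module.End K V)) this
    simpa [f] using h2

end Cfsg.Agent.Lib.Lead.FF
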