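import Mathlib
import Cfsg.Agent.Lib.Lead.FF3

set_option autoImplicit false

universe u v w

namespace Cfsg.Agent.Lib.Lead.FF

open Module Polynomial

variable {G : Type w} [Group G] (U : Subgroup G) [U.Normal]
variable {K : Type u} [Field K] {V : Type v} [AddCommGroup V] [Module K V]

/-- elements of `U` acting centrally modulo the kernel of `ρ` -/
def cen (ρ : G →* Module.End K V) : Subgroup G where
  carrier := {a | a ∈ U ∧ ∀ u ∈ U, ρ (u * a) = ρ (a * u)}
  mul_mem' := by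
    rintro a b ⟨ha, hac⟩ ⟨hb, hbc⟩
    refine ⟨U.mul_mem ha hb, ?_⟩
    intro u hu
    calc ρ (u * (a * b)) = ρ (u * a) * ρ b := by rw [← map_mul, mul_assoc]
      _ = ρ (a * u) * ρ b := by rw [hac u hu]
      _ = ρ a * ρ (u * b) := by rw [map_mul, mul_assoc, ← map_mul]
      _ = ρ a * ρ (b * u) := by rw [hbc u hu]
      _ = ρ (a * b * u) := by rw [← map_mul, mul_assoc]
  one_mem' := ⟨U.one_mem, fun u _ => by rw [mul_one, one_mul]⟩
  inv_mem' := by
    rintro a ⟨ha, hac⟩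
    refine ⟨U.inv_mem ha, ?_⟩
    intro u hu
    have h := hac u hu
    calc ρ (u * a⁻¹) = ρ a⁻¹ * ρ (a * u) * ρ a⁻¹ := by
          rw [← map_mul, ← map_mul]; congr 1; group
      _ = ρ a⁻¹ * ρ (u * a) * ρ a⁻¹ := by rw [h]
      _ = ρ (a⁻¹ * u) := by rw [← map_mul, ← map_mul]; congr 1; group

theorem mem_cen (ρ : G →* Module.End K V) (a : G) :
    a ∈ cen U ρ ↔ a ∈ U ∧ ∀ u ∈ U, ρ (u * a) = ρ (a * u) := Iff.rfl

theorem cen_le (ρ : G →* Module.End K V) : cen U ρ ≤ U := fun _ h => h.1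

theorem cen_conj_mem (ρ : G →* Module.End K V) {a : G} (ha : a ∈ cen U ρ) (g : G) :
    g * a * g⁻¹ ∈ cen U ρ := by
  obtain ⟨haU, hac⟩ := ha
  refine ⟨(inferInstance : U.Normal).conj_mem a haU g, ?_⟩
  intro u hu
  have hu' : g⁻¹ * u * g ∈ U := by
    have := (inferInstance : U.Normal).conj_mem u hu g⁻¹
    simpa using this
  have h := hac _ hu'
  calc ρ (u * (g * a * g⁻¹)) = ρ g * ρ (g⁻¹ * u * g * a) * ρ g⁻¹ := by
        rw [← map_mul, ← map_mul]; congr 1; group
    _ = ρ g * ρ (a * (g⁻¹ * u * g)) * ρ g⁻¹ := by rw [h]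
    _ = ρ (g * a * g⁻¹ * u) := by rw [← map_mul, ← map_mul]; congr 1; group

theorem cen_comm (ρ : G →* Module.End K V) {a b : G} (ha : a ∈ cen U ρ) (hb : b ∈ cen U ρ) :
    ρ a * ρ b = ρ b * ρ a := by
  rw [← map_mul, ← map_mul]
  exact hb.2 a ha.1

theorem cen_comm_U (ρ : G →* Module.End K V) {a u : G} (ha : a ∈ cen U ρ) (hu : u ∈ U) :
    ρ u * ρ a = ρ a * ρ u := by
  rw [← map_mul, ← map_mul]
  exact ha.2 u hu

/-- the simultaneous eigenspaces -/
def Vx (ρ : G →* Module.End K V) (χ : cen U ρ → K) : Submodule K V :=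
  ⨅ a : cen U ρ, (ρ (a : G)).maxGenEigenspace (χ a)

theorem pairwise_commute (ρ : G →* Module.End K V) :
    Pairwise fun i j : cen U ρ => Commute (ρ (i : G)) (ρ (j : G)) := by
  intro i j _
  exact cen_comm U ρ i.2 j.2

theorem iSup_Vx [IsAlgClosed K] [FiniteDimensional K V] (ρ : G →* Module.End K V) :
    ⨆ χ : cen U ρ → K, Vx U ρ χ = ⊤ :=
  Module.End.iSup_iInf_maxGenEigenspace_eq_top_of_iSup_maxGenEigenspace_eq_top_of_commute
    (fun a : cen U ρ => ρ (a : G)) (pairwise_commute U ρ)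
    (fun a => Module.End.iSup_maxGenEigenspace_eq_top _)

theorem indep_Vx (ρ : G →* Module.End K V) : iSupIndep (Vx U ρ) := by
  apply Module.End.independent_iInf_maxGenEigenspace_of_forall_mapsTo
  intro i j φ
  apply Module.End.mapsTo_maxGenEigenspace_of_comm
  rcases eq_or_ne i j with rfl | hij
  · exact Commute.refl _
  · exact (pairwise_commute U ρ hij).symm

theorem rho_pow_card [Finite G] (ρ : G →* Module.End K V) {a : G} (ha : a ∈ U) :
    (ρ a) ^ Nat.card U = 1 := by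
  rw [← map_pow]
  have : (⟨a, ha⟩ : U) ^ Nat.card U = 1 := pow_card_eq_one'
  have h2 := congrArg Subtype.val this
  rw [Subgroup.coe_pow] at h2
  simp only [Subgroup.coe_one] at h2
  rw [h2, map_one]

theorem rho_semisimple [Finite G] (ρ : G →* Module.End K V) (hU : (Nat.card U : K) ≠ 0)
    {a : G} (ha : a ∈ U) : (ρ a).IsSemisimple := by
  have hsq : Squarefree (X ^ Nat.card U - C (1 : K)) :=
    (separable_X_pow_sub_C (1 : K) hU one_ne_zero).squarefree
  apply Module.End.isSemisimple_of_squarefree_aeval_eq_zero hsq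
  rw [map_sub, map_pow, aeval_X, aeval_C, rho_pow_card U ρ ha]
  simp

theorem mem_Vx [Finite G] (ρ : G →* Module.End K V) (hU : (Nat.card U : K) ≠ 0)
    (χ : cen U ρ → K) (v : V) :
    v ∈ Vx U ρ χ ↔ ∀ a : cen U ρ, ρ (a : G) v = χ a • v := by
  unfold Vx
  rw [Submodule.mem_iInf]
  constructor
  · intro h a
    have := h a
    rw [(rho_semisimple U ρ hU (cen_le U ρ a.2)).isFinitelySemisimple.maxGenEigenspace_eq_eigenspace,
      Module.End.mem_eigenspace_iff] at this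
    exact this
  · intro h a
    rw [(rho_semisimple U ρ hU (cen_le U ρ a.2)).isFinitelySemisimple.maxGenEigenspace_eq_eigenspace,
      Module.End.mem_eigenspace_iff]
    exact h a

/-- the action on "characters" -/
def act (ρ : G →* Module.End K V) (g : G) (χ : cen U ρ → K) : cen U ρ → K :=
  fun a => χ ⟨g⁻¹ * a * g, by
    have := cen_conj_mem U ρ a.2 g⁻¹
    simpa using this⟩

theorem act_apply (ρ : G →* Module.End K V) (g : G) (χ : cen U ρ → K) (a : cen U ρ) :
    act U ρ g χ a = χ ⟨g⁻¹ * a * g, by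
      have := cen_conj_mem U ρ a.2 g⁻¹
      simpa using this⟩ := rfl

theorem act_one (ρ : G →* Module.End K V) (χ : cen U ρ → K) : act U ρ 1 χ = χ := by
  funext a
  rw [act_apply]
  congr 1
  apply Subtype.ext
  simp

theorem act_mul (ρ : G →* Module.End K V) (g h : G) (χ : cen U ρ → K) :
    act U ρ (g * h) χ = act U ρ g (act U ρ h χ) := by
  funext a
  rw [act_apply, act_apply, act_apply]
  congr 1
  apply Subtype.ext
  simp only
  group

theorem map_Vx_le [Finite G] (ρ : G →* Module.End K V) (hU : (Nat.card U : K) ≠ 0)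
    (g : G) (χ : cen U ρ → K) : (Vx U ρ χ).map (ρ g) ≤ Vx U ρ (act U ρ g χ) := by
  rintro _ ⟨v, hv, rfl⟩
  rw [SetLike.mem_coe, mem_Vx U ρ hU] at hv
  rw [mem_Vx U ρ hU]
  intro a
  have h1 := hv ⟨g⁻¹ * a * g, by
    have := cen_conj_mem U ρ a.2 g⁻¹
    simpa using this⟩
  rw [act_apply]
  calc ρ (a : G) (ρ g v) = ρ g (ρ (g⁻¹ * a * g) v) := by
        rw [← rho_mul_apply, ← rho_mul_apply]
        congr 2
        group
    _ = _ := by
        rw [h1, map_smul]

theorem map_Vx [Finite G] (ρ : G →* Module.End K V) (hU : (Nat.card U : K) ≠ 0)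
    (g : G) (χ : cen U ρ → K) : (Vx U ρ χ).map (ρ g) = Vx U ρ (act U ρ g χ) := by
  apply le_antisymm (map_Vx_le U ρ hU g χ)
  intro w hw
  have h1 : ρ g⁻¹ w ∈ Vx U ρ (act U ρ g⁻¹ (act U ρ g χ)) :=
    map_Vx_le U ρ hU g⁻¹ _ (Submodule.mem_map_of_mem hw)
  rw [← act_mul, inv_mul_cancel, act_one] at h1
  refine ⟨ρ g⁻¹ w, h1, ?_⟩
  exact rho_apply_inv ρ g w

theorem Vx_U_invariant [Finite G] (ρ : G →* Module.End K V) (hU : (Nat.card U : K) ≠ 0)
    {u : G} (hu : u ∈ U) (χ : cen U ρ → K) {v : V} (hv : v ∈ Vx U ρ χ) : ρ u v ∈ Vx U ρ χ := by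
  rw [mem_Vx U ρ hU] at hv ⊢
  intro a
  have h := cen_comm_U U ρ a.2 hu
  calc ρ (a : G) (ρ u v) = (ρ (a : G) * ρ u) v := rfl
    _ = (ρ u * ρ (a : G)) v := by rw [h]
    _ = ρ u (ρ (a : G) v) := rfl
    _ = _ := by rw [hv a, map_smul]

/-- the trivial character's eigenspace is the fixed space -/
theorem Vx_one [Finite G] (ρ : G →* Module.End K V) (hU : (Nat.card U : K) ≠ 0) :
    Vx U ρ (fun _ => 1) = fix ρ (cen U ρ) := by
  ext v
  rw [mem_Vx U ρ hU, mem_fix]
  constructor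
  · intro h a ha
    have := h ⟨a, ha⟩
    simpa using this
  · intro h a
    simpa using h a a.2

end Cfsg.Agent.Lib.Lead.FF
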