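import Mathlib
import Cfsg.Agent.Lib.Lead.FF4

set_option autoImplicit false

universe u v w

namespace Cfsg.Agent.Lib.Lead.FF

open Module Polynomial

variable {G : Type w} [Group G] [Finite G] (U E : Subgroup G) [U.Normal]
variable {K : Type u} [Field K] {V : Type v} [AddCommGroup V] [Module K V]

/-- the pointwise stabilizer of an eigenspace inside `cen`, as a subgroup of `U` -/
def stabVx (ρ : G →* Module.End K V) (χ : cen U ρ → K) : Subgroup ↥U where
  carrier := {x | (x : G) ∈ cen U ρ ∧ ∀ v ∈ Vx U ρ χ, ρ (x : G) v = v}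
  mul_mem' := by
    rintro a b ⟨ha, hav⟩ ⟨hb, hbv⟩
    refine ⟨by simpa using (cen U ρ).mul_mem ha hb, ?_⟩
    intro v hv
    rw [Subgroup.coe_mul, rho_mul_apply, hbv v hv, hav v hv]
  one_mem' := ⟨by simpa using (cen U ρ).one_mem, fun v _ => by simp⟩
  inv_mem' := by
    rintro a ⟨ha, hav⟩
    refine ⟨by simpa using (cen U ρ).inv_mem ha, ?_⟩
    intro v hv
    have := hav v hv
    calc ρ ((a⁻¹ : U) : G) v = ρ ((a : G)⁻¹) (ρ (a : G) v) := by rw [this]; rfl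
      _ = v := rho_inv_apply ρ _ v

instance stabVx_normal (ρ : G →* Module.End K V) (χ : cen U ρ → K) : (stabVx U ρ χ).Normal := by
  constructor
  rintro x ⟨hx, hxv⟩ u
  refine ⟨by simpa using cen_conj_mem U ρ hx (u : G), ?_⟩
  intro v hv
  have h1 : ρ ((u * x * u⁻¹ : U) : G) = ρ (x : G) := by
    have hc := cen_comm_U U ρ hx u.2
    calc ρ ((u * x * u⁻¹ : U) : G) = ρ (u : G) * ρ (x : G) * ρ ((u : G)⁻¹) := by
          rw [← map_mul, ← map_mul]; rfl
      _ = ρ (x : G) * ρ (u : G) * ρ ((u : G)⁻¹) := by rw [hc]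
      _ = ρ (x : G) := by rw [mul_assoc, ← map_mul, mul_inv_cancel, map_one, mul_one]
  rw [h1]
  exact hxv v hv

theorem Vx_le_fix_of_act_eq (hfpf : ∀ e ∈ E, e ≠ 1 → ∀ u ∈ U, e * u = u * e → u = 1)
    (ρ : G →* Module.End K V) (hU : (Nat.card U : K) ≠ 0)
    {e : G} (he : e ∈ E) (he1 : e ≠ 1) (χ : cen U ρ → K) (hχ : act U ρ e χ = χ) :
    Vx U ρ χ ≤ fix ρ (cen U ρ) := by
  have hχ' : act U ρ e⁻¹ χ = χ := by
    conv_lhs => rw [← hχ]
    rw [← act_mul, inv_mul_cancel, act_one]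
  -- invariance of the stabilizer under `e`
  have hNe : ∀ n ∈ stabVx U ρ χ, (MulAut.conjNormal e : ↥U ≃* ↥U) n ∈ stabVx U ρ χ := by
    rintro x ⟨hx, hxv⟩
    refine ⟨by simpa using cen_conj_mem U ρ hx e, ?_⟩
    intro v hv
    have h1 : ρ e⁻¹ v ∈ Vx U ρ χ := by
      have := map_Vx_le U ρ hU e⁻¹ χ (Submodule.mem_map_of_mem hv)
      rwa [hχ'] at this
    have h2 := hxv _ h1
    calc ρ (((MulAut.conjNormal e : ↥U ≃* ↥U) x : U) : G) v
        = ρ (e * (x : G) * e⁻¹) v := by simp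
      _ = ρ e (ρ (x : G) (ρ e⁻¹ v)) := by rw [rho_mul_apply, rho_mul_apply]
      _ = ρ e (ρ e⁻¹ v) := by rw [h2]
      _ = v := rho_apply_inv ρ e v
  intro v hv
  rw [mem_fix]
  intro a ha
  have haU : a ∈ U := cen_le U ρ ha
  have key : (⟨a, haU⟩ : U) ∈ stabVx U ρ χ := by
    apply Cfsg.Agent.S0032.result (MulAut.conjNormal e : ↥U ≃* ↥U) (fpf_conj U E hfpf he he1)
      (stabVx U ρ χ) hNe
    have hmem : e * a * e⁻¹ ∈ cen U ρ := cen_conj_mem U ρ ha e
    refine ⟨?_, ?_⟩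
    · have := (cen U ρ).mul_mem ((cen U ρ).inv_mem hmem) ha
      simpa using this
    · intro w hw
      rw [mem_Vx U ρ hU] at hw
      have h1 := hw ⟨a, ha⟩
      have h2 := hw ⟨e * a * e⁻¹, hmem⟩
      have h3 : χ ⟨e * a * e⁻¹, hmem⟩ = χ ⟨a, ha⟩ := by
        have := congrFun hχ ⟨e * a * e⁻¹, hmem⟩
        rw [act_apply] at this
        rw [← this]
        congr 1
        apply Subtype.ext
        simp only
        group
      rw [h3] at h2
      have : (((MulAut.conjNormal e : ↥U ≃* ↥U) ⟨a, haU⟩)⁻¹ * ⟨a, haU⟩ : U) =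
          (⟨(e * a * e⁻¹)⁻¹ * a, U.mul_mem (U.inv_mem (cen_le U ρ hmem)) haU⟩ : U) := by
        apply Subtype.ext
        simp
      rw [this]
      simp only
      rw [rho_mul_apply, h1, ← h2]
      exact rho_inv_apply ρ _ w
  exact key.2 v hv

theorem act_free (hfpf : ∀ e ∈ E, e ≠ 1 → ∀ u ∈ U, e * u = u * e → u = 1)
    (ρ : G →* Module.End K V) (hU : (Nat.card U : K) ≠ 0)
    {e : G} (he : e ∈ E) (he1 : e ≠ 1) (χ : cen U ρ → K) (hχ : act U ρ e χ = χ)
    (hne : Vx U ρ χ ≠ ⊥) : χ = fun _ => 1 := by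
  by_contra hcon
  have hle := Vx_le_fix_of_act_eq U E hfpf ρ hU he he1 χ hχ
  rw [← Vx_one U ρ hU] at hle
  have hd : Disjoint (Vx U ρ χ) (Vx U ρ (fun _ => 1)) :=
    Module.End.disjoint_iInf_maxGenEigenspace (fun a : cen U ρ => ρ (a : G)) hcon
  apply hne
  exact le_bot_iff.mp (hd (le_refl _) hle)

end Cfsg.Agent.Lib.Lead.FF
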