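import Mathlib
import Cfsg.Agent.Lib.Lead.FF5

set_option autoImplicit false

universe u v w

namespace Cfsg.Agent.Lib.Lead.FF

open Module Polynomial

variable {G : Type w} [Group G] [Finite G] (U E : Subgroup G) [U.Normal]
variable {K : Type u} [Field K]

theorem ff_core [IsAlgClosed K]
    (hfpf : ∀ e ∈ E, e ≠ 1 → ∀ u ∈ U, e * u = u * e → u = 1)
    (hG : ∀ g : G, ∃ u ∈ U, ∃ e ∈ E, g = u * e) (hU : (Nat.card U : K) ≠ 0) :
    ∀ n : ℕ, ∀ (V : Type v) [AddCommGroup V] [Module K V] [FiniteDimensional K V]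
      (ρ : G →* Module.End K V), finrank K V = n → fix ρ U = ⊥ →
      finrank K V = Nat.card E * finrank K ↥(fix ρ E) := by
  intro n
  induction n using Nat.strong_induction_on with
  | _ n ih =>
  intro V _ _ _ ρ hn hfix
  classical
  haveI : Fintype G := Fintype.ofFinite G
  by_cases hE : E = ⊥
  · subst hE
    have : fix ρ ⊥ = ⊤ := by
      ext v
      simp [mem_fix]
    rw [this]
    simp
  by_cases hV : finrank K V = 0
  · have h2 : finrank K ↥(fix ρ E) = 0 := by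
      have := Submodule.finrank_le (fix ρ E)
      omega
    rw [hV, h2, mul_zero]
  -- `U` acts nontrivially
  have hnt : ∃ u ∈ U, ρ u ≠ 1 := by
    by_contra hcon
    push Not at hcon
    have : fix ρ U = ⊤ := by
      ext v
      simp only [mem_fix, Submodule.mem_top, iff_true]
      intro g hg
      rw [hcon g hg]
      rfl
    rw [hfix] at this
    apply hV
    rw [← finrank_top K V, ← this, finrank_bot]
  obtain ⟨a, haU, ha1, hac⟩ := exists_central U E hfpf hE ρ hnt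
  have hacen : a ∈ cen U ρ := ⟨haU, hac⟩
  -- a nontrivial character
  have hex : ∃ χ0 : cen U ρ → K, χ0 ≠ (fun _ => 1) ∧ Vx U ρ χ0 ≠ ⊥ := by
    by_contra hcon
    push Not at hcon
    have htop : Vx U ρ (fun _ => 1) = ⊤ := by
      rw [eq_top_iff, ← iSup_Vx U ρ]
      apply iSup_le
      intro χ
      by_cases h : χ = fun _ => 1
      · rw [h]
      · rw [hcon χ h]
        exact bot_le
    rw [Vx_one U ρ hU] at htop
    apply ha1
    ext v
    have : v ∈ fix ρ (cen U ρ) := by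
      rw [htop]
      trivial
    exact this a hacen
  obtain ⟨χ0, hχ01, hχ0ne⟩ := hex
  have hinj : Function.Injective (fun e : E => act U ρ (e : G) χ0) := by
    intro e1 e2 h
    simp only at h
    by_contra hne
    have h1 : act U ρ ((e2⁻¹ * e1 : E) : G) χ0 = χ0 := by
      rw [Subgroup.coe_mul, act_mul, h, ← act_mul]
      simp [act_one]
    have h2 : ((e2⁻¹ * e1 : E) : G) ≠ 1 := by
      intro h0
      apply hne
      have : e2⁻¹ * e1 = 1 := Subtype.ext h0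
      exact (inv_mul_eq_one.mp this).symm
    exact hχ01 (act_free U E hfpf ρ hU (e2⁻¹ * e1).2 h2 χ0 h1 hχ0ne)
  have hind : iSupIndep (fun e : E => (Vx U ρ χ0).map (ρ (e : G))) := by
    have : (fun e : E => (Vx U ρ χ0).map (ρ (e : G))) =
        (Vx U ρ) ∘ (fun e : E => act U ρ (e : G) χ0) := by
      funext e
      exact map_Vx U ρ hU e χ0
    rw [this]
    exact (indep_Vx U ρ).comp hinj
  -- the two pieces
  let O : Set (cen U ρ → K) := Set.range (fun e : E => act U ρ (e : G) χ0)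
  have hOfin : O.Finite := Set.finite_range _
  have hX : (⨆ e : E, (Vx U ρ χ0).map (ρ (e : G))) = ⨆ χ ∈ O, Vx U ρ χ := by
    rw [iSup_range]
    congr 1
    funext e
    exact map_Vx U ρ hU e χ0
  have hcompl : IsCompl (⨆ χ ∈ O, Vx U ρ χ) (⨆ χ ∈ Oᶜ, Vx U ρ χ) := by
    constructor
    · exact (indep_Vx U ρ).disjoint_biSup_biSup' disjoint_compl_right hOfin
    · rw [codisjoint_iff, ← iSup_Vx U ρ, iSup_split (Vx U ρ) (fun χ => χ ∈ O)]
      rfl
  -- invariance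
  have hOact : ∀ e ∈ E, ∀ χ, χ ∈ O ↔ act U ρ e χ ∈ O := by
    intro e he χ
    constructor
    · rintro ⟨e', rfl⟩
      refine ⟨⟨e, he⟩ * e', ?_⟩
      simp only
      rw [Subgroup.coe_mul, act_mul]
    · rintro ⟨e', he'⟩
      refine ⟨⟨e, he⟩⁻¹ * e', ?_⟩
      simp only at he' ⊢
      rw [Subgroup.coe_mul, act_mul, he', ← act_mul]
      simp [act_one]
  have hXE : ∀ e ∈ E, ∀ x ∈ (⨆ χ ∈ O, Vx U ρ χ), ρ e x ∈ (⨆ χ ∈ O, Vx U ρ χ) := by
    intro e he x hx
    have : (⨆ χ ∈ O, Vx U ρ χ).map (ρ e) ≤ ⨆ χ ∈ O, Vx U ρ χ := by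
      rw [Submodule.map_iSup]
      apply iSup_le
      intro χ
      rw [Submodule.map_iSup]
      apply iSup_le
      intro hχ
      rw [map_Vx U ρ hU]
      exact le_biSup (Vx U ρ) ((hOact e he χ).mp hχ)
    exact this (Submodule.mem_map_of_mem hx)
  have hYE : ∀ e ∈ E, ∀ x ∈ (⨆ χ ∈ Oᶜ, Vx U ρ χ), ρ e x ∈ (⨆ χ ∈ Oᶜ, Vx U ρ χ) := by
    intro e he x hx
    have : (⨆ χ ∈ Oᶜ, Vx U ρ χ).map (ρ e) ≤ ⨆ χ ∈ Oᶜ, Vx U ρ χ := by
      rw [Submodule.map_iSup]
      apply iSup_le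
      intro χ
      rw [Submodule.map_iSup]
      apply iSup_le
      intro hχ
      rw [map_Vx U ρ hU]
      exact le_biSup (Vx U ρ) (show act U ρ e χ ∈ Oᶜ from fun h => hχ ((hOact e he χ).mpr h))
    exact this (Submodule.mem_map_of_mem hx)
  have hYU : ∀ u ∈ U, ∀ x ∈ (⨆ χ ∈ Oᶜ, Vx U ρ χ), ρ u x ∈ (⨆ χ ∈ Oᶜ, Vx U ρ χ) := by
    intro u hu x hx
    have : (⨆ χ ∈ Oᶜ, Vx U ρ χ).map (ρ u) ≤ ⨆ χ ∈ Oᶜ, Vx U ρ χ := by
      rw [Submodule.map_iSup]
      apply iSup_le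
      intro χ
      rw [Submodule.map_iSup]
      apply iSup_le
      intro hχ
      refine le_trans ?_ (le_biSup (Vx U ρ) hχ)
      rintro _ ⟨v, hv, rfl⟩
      exact Vx_U_invariant U ρ hU hu χ hv
    exact this (Submodule.mem_map_of_mem hx)
  have hYG : ∀ g : G, ∀ y ∈ (⨆ χ ∈ Oᶜ, Vx U ρ χ), ρ g y ∈ (⨆ χ ∈ Oᶜ, Vx U ρ χ) := by
    intro g y hy
    obtain ⟨u, hu, e, he, rfl⟩ := hG g
    rw [rho_mul_apply]
    exact hYU u hu _ (hYE e he y hy)
  -- dimension count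
  have hdim := Submodule.finrank_add_eq_of_isCompl hcompl
  have hX1 := finrank_iSup_map ρ E (Vx U ρ χ0) hind
  have hX2 := finrank_iSup_map_inf_fix ρ E (Vx U ρ χ0) hind
  rw [hX] at hX1 hX2
  have hXpos : 0 < finrank K ↥(Vx U ρ χ0) := by
    rw [Module.finrank_pos_iff]
    exact (Submodule.nontrivial_iff_ne_bot).mpr hχ0ne
  have hEpos : 0 < Fintype.card E := Fintype.card_pos
  have hYlt : finrank K ↥(⨆ χ ∈ Oᶜ, Vx U ρ χ) < n := by
    have : 0 < Fintype.card E * finrank K ↥(Vx U ρ χ0) := Nat.mul_pos hEpos hXpos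
    omega
  have hYfix : fix (res ρ _ hYG) U = ⊥ := by
    rw [fix_res, hfix]
    exact LinearMap.ker_eq_bot.mpr (Submodule.injective_subtype _)
  have hIH := ih _ hYlt ↥(⨆ χ ∈ Oᶜ, Vx U ρ χ) (res ρ _ hYG) rfl hYfix
  rw [finrank_fix_res] at hIH
  have hsplit := finrank_fix_split ρ E _ _ hcompl hXE hYE
  rw [hsplit, hX2, ← hdim, hX1, hIH, Nat.card_eq_fintype_card]
  ring

end Cfsg.Agent.Lib.Lead.FF
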