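import Mathlib
import Cfsg.Agent.Lib.Lead.FF6

set_option autoImplicit false

universe u v w

namespace Cfsg.Agent.Lib.Lead.FF

open Module TensorProduct

variable {G : Type w} [Group G] [Fintype G]
variable {F : Type u} [Field F] {V : Type v} [AddCommGroup V] [Module F V]

/-- the operator `∑ s, ρ s - |S|` whose kernel is the fixed space -/
noncomputable def avgop (ρ : G →* Module.End F V) (S : Subgroup G) [Fintype S] : Module.End F V :=
  (∑ s : S, ρ (s : G)) - (Fintype.card S : F) • (1 : Module.End F V)

theorem fix_eq_ker_avgop (ρ : G →* Module.End F V) (S : Subgroup G) [Fintype S]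
    (hS : (Fintype.card S : F) ≠ 0) : fix ρ S = LinearMap.ker (avgop ρ S) := by
  ext v
  rw [LinearMap.mem_ker, mem_fix]
  unfold avgop
  rw [LinearMap.sub_apply, LinearMap.sum_apply, LinearMap.smul_apply, sub_eq_zero]
  constructor
  · intro h
    have : ∀ s : S, ρ (s : G) v = v := fun s => h s s.2
    simp [this, Nat.cast_smul_eq_nsmul]
  · intro h g hg
    have h1 : ρ g (∑ s : S, ρ (s : G) v) = ∑ s : S, ρ (s : G) v := by
      rw [map_sum]
      have : ∀ e : S, ρ g (ρ (e : G) v) = ρ ((⟨g, hg⟩ * e : S) : G) v := by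
        intro e
        rw [Subgroup.coe_mul, rho_mul_apply]
      simp_rw [this]
      exact Fintype.sum_equiv (Equiv.mulLeft (⟨g, hg⟩ : S)) _ _ (fun e => rfl)
    rw [h] at h1
    simp only [Module.End.one_apply, map_smul] at h1
    exact smul_right_injective V hS h1

variable (K : Type u) [Field K] [Algebra F K]

/-- base change of a representation -/
noncomputable def bc (ρ : G →* Module.End F V) : G →* Module.End K (K ⊗[F] V) :=
  ((Module.End.baseChangeHom F K V : Module.End F V →ₐ[F] Module.End K (K ⊗[F] V)) :
    Module.End F V →* Module.End K (K ⊗[F] V)).comp ρ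

theorem bc_apply (ρ : G →* Module.End F V) (g : G) : bc K ρ g = (ρ g).baseChange K := rfl

theorem avgop_bc (ρ : G →* Module.End F V) (S : Subgroup G) [Fintype S] :
    avgop (bc K ρ) S = (avgop ρ S).baseChange K := by
  have h : (avgop ρ S).baseChange K = Module.End.baseChangeHom F K V (avgop ρ S) := rfl
  rw [h]
  unfold avgop
  rw [map_sub, map_sum, Nat.cast_smul_eq_nsmul, Nat.cast_smul_eq_nsmul, map_nsmul, map_one]
  rfl

theorem finrank_ker_baseChange [FiniteDimensional F V] (T : Module.End F V) :
    finrank K ↥(LinearMap.ker (T.baseChange K)) = finrank F ↥(LinearMap.ker T) := by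
  have e := LinearMap.tensorKerEquiv K K T
  have h1 : finrank K (K ⊗[F] ↥(LinearMap.ker T)) = finrank F ↥(LinearMap.ker T) :=
    Module.finrank_baseChange
  rw [← h1]
  exact e.symm.finrank_eq

end Cfsg.Agent.Lib.Lead.FF
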