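import Mathlib
import Cfsg.Agent.Lib.Lead.FF7

set_option autoImplicit false

universe u v w

namespace Cfsg.Agent.Lib.Lead.FF

open Module TensorProduct

variable {G : Type w} [Group G] [Finite G] (U E : Subgroup G) [U.Normal]
variable {F : Type u} [Field F] {V : Type v} [AddCommGroup V] [Module F V]

theorem finrank_fix_bc [Fintype G] [FiniteDimensional F V] (K : Type u) [Field K] [Algebra F K]
    (ρ : G →* Module.End F V) (S : Subgroup G) [Fintype S] (hS : (Fintype.card S : F) ≠ 0) :
    finrank K ↥(fix (bc K ρ) S) = finrank F ↥(fix ρ S) := by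
  have hS' : (Fintype.card S : K) ≠ 0 := by
    intro h
    apply hS
    have : algebraMap F K (Fintype.card S : F) = 0 := by rw [map_natCast]; exact h
    exact (map_eq_zero _).mp this
  rw [fix_eq_ker_avgop (bc K ρ) S hS', fix_eq_ker_avgop ρ S hS, avgop_bc,
    finrank_ker_baseChange]

/-- **Frobenius action on a module**: if `U ⋊ E` is a Frobenius group acting on a finite
dimensional space over a field in which `|U|` and `|E|` are invertible, and `U` has no nonzero
fixed vector, then `dim V = |E| · dim C_V(E)`. -/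
theorem ff_field [FiniteDimensional F V]
    (hfpf : ∀ e ∈ E, e ≠ 1 → ∀ u ∈ U, e * u = u * e → u = 1)
    (hG : ∀ g : G, ∃ u ∈ U, ∃ e ∈ E, g = u * e)
    (ρ : G →* Module.End F V) (hU : (Nat.card U : F) ≠ 0) (hE : (Nat.card E : F) ≠ 0)
    (hfix : fix ρ U = ⊥) :
    finrank F V = Nat.card E * finrank F ↥(fix ρ E) := by
  classical
  haveI : Fintype G := Fintype.ofFinite G
  let K := AlgebraicClosure F
  have hUK : (Nat.card U : K) ≠ 0 := by
    intro h
    apply hU
    have : algebraMap F K (Nat.card U : F) = 0 := by rw [map_natCast]; exact h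
    exact (map_eq_zero _).mp this
  rw [Nat.card_eq_fintype_card] at hU hE
  have h1 : fix (bc K ρ) U = ⊥ := by
    have := finrank_fix_bc K ρ U hU
    rw [hfix, finrank_bot] at this
    exact Submodule.finrank_eq_zero.mp this
  have h2 := ff_core U E hfpf hG hUK _ (K ⊗[F] V) (bc K ρ) rfl h1
  rw [finrank_fix_bc K ρ E hE, Module.finrank_baseChange] at h2
  exact h2

end Cfsg.Agent.Lib.Lead.FF
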