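import Mathlib
import Cfsg.Agent.Lib.Lead.FF8

set_option autoImplicit false

universe u v w

namespace Cfsg.Agent.Lib.Lead.FF

open Module

variable {G : Type w} [Group G] [Fintype G] (U E : Subgroup G) [U.Normal]
variable {F : Type u} [Field F] {V : Type v} [AddCommGroup V] [Module F V]

/-- the norm operator of a subgroup -/
noncomputable def nrm (ρ : G →* Module.End F V) (S : Subgroup G) [Fintype S] : Module.End F V :=
  ∑ s : S, ρ (s : G)

theorem nrm_apply (ρ : G →* Module.End F V) (S : Subgroup G) [Fintype S] (v : V) :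
    nrm ρ S v = ∑ s : S, ρ (s : G) v := by
  unfold nrm
  rw [LinearMap.sum_apply]

theorem rho_nrm (ρ : G →* Module.End F V) (S : Subgroup G) [Fintype S] {g : G} (hg : g ∈ S)
    (v : V) : ρ g (nrm ρ S v) = nrm ρ S v := by
  rw [nrm_apply, map_sum]
  have : ∀ e : S, ρ g (ρ (e : G) v) = ρ ((⟨g, hg⟩ * e : S) : G) v := by
    intro e
    rw [Subgroup.coe_mul, rho_mul_apply]
  simp_rw [this]
  exact Fintype.sum_equiv (Equiv.mulLeft (⟨g, hg⟩ : S)) _ _ (fun e => rfl)

theorem nrm_mem_fix (ρ : G →* Module.End F V) (S : Subgroup G) [Fintype S] (v : V) :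
    nrm ρ S v ∈ fix ρ S := fun _ hg => rho_nrm ρ S hg v

theorem nrm_of_mem_fix (ρ : G →* Module.End F V) (S : Subgroup G) [Fintype S] {v : V}
    (hv : v ∈ fix ρ S) : nrm ρ S v = (Fintype.card S : F) • v := by
  rw [nrm_apply]
  have : ∀ s : S, ρ (s : G) v = v := fun s => hv s s.2
  simp [this, Nat.cast_smul_eq_nsmul]

/-- the norm operator of a normal subgroup commutes with the action -/
theorem nrm_rho [Fintype U] (ρ : G →* Module.End F V) (g : G) (v : V) :
    nrm ρ U (ρ g v) = ρ g (nrm ρ U v) := by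
  rw [nrm_apply, nrm_apply, map_sum]
  have h1 : ∀ s : U, ρ (s : G) (ρ g v) =
      ρ g (ρ (((MulAut.conjNormal g⁻¹ : ↥U ≃* ↥U) s : U) : G) v) := by
    intro s
    rw [← rho_mul_apply, ← rho_mul_apply]
    congr 2
    simp only [MulAut.conjNormal_apply]
    group
  simp_rw [h1]
  exact Fintype.sum_equiv (MulAut.conjNormal g⁻¹ : ↥U ≃* ↥U).toEquiv _ _ (fun e => rfl)

theorem isCompl_fix_ker_nrm (ρ : G →* Module.End F V) (S : Subgroup G) [Fintype S]
    (hS : (Fintype.card S : F) ≠ 0) : IsCompl (fix ρ S) (LinearMap.ker (nrm ρ S)) := by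
  constructor
  · rw [Submodule.disjoint_def]
    intro v hv hk
    rw [LinearMap.mem_ker, nrm_of_mem_fix ρ S hv] at hk
    exact (smul_eq_zero.mp hk).resolve_left hS
  · rw [codisjoint_iff, eq_top_iff]
    intro v _
    have h1 : (Fintype.card S : F)⁻¹ • nrm ρ S v ∈ fix ρ S :=
      (fix ρ S).smul_mem _ (nrm_mem_fix ρ S v)
    have h2 : v - (Fintype.card S : F)⁻¹ • nrm ρ S v ∈ LinearMap.ker (nrm ρ S) := by
      rw [LinearMap.mem_ker, map_sub, map_smul, nrm_of_mem_fix ρ S (nrm_mem_fix ρ S v),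
        smul_smul, inv_mul_cancel₀ hS, one_smul, sub_self]
    have : v = (Fintype.card S : F)⁻¹ • nrm ρ S v + (v - (Fintype.card S : F)⁻¹ • nrm ρ S v) := by
      abel
    rw [this]
    exact Submodule.add_mem_sup h1 h2

theorem fix_top_eq (ρ : G →* Module.End F V)
    (hG : ∀ g : G, ∃ u ∈ U, ∃ e ∈ E, g = u * e) : fix ρ ⊤ = fix ρ U ⊓ fix ρ E := by
  ext v
  constructor
  · intro h
    exact ⟨fun g _ => h g trivial, fun g _ => h g trivial⟩
  · rintro ⟨h1, h2⟩ g _
    obtain ⟨u, hu, e, he, rfl⟩ := hG g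
    rw [rho_mul_apply, h2 e he, h1 u hu]

/-- the general dimension formula for a Frobenius group action in coprime characteristic -/
theorem ff_general [FiniteDimensional F V]
    (hfpf : ∀ e ∈ E, e ≠ 1 → ∀ u ∈ U, e * u = u * e → u = 1)
    (hG : ∀ g : G, ∃ u ∈ U, ∃ e ∈ E, g = u * e)
    (ρ : G →* Module.End F V) (hU : (Nat.card U : F) ≠ 0) (hE : (Nat.card E : F) ≠ 0) :
    Nat.card E * finrank F ↥(fix ρ ⊤) + finrank F V =
      Nat.card E * finrank F ↥(fix ρ E) + finrank F ↥(fix ρ U) := by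
  classical
  haveI : Fintype U := Fintype.ofFinite U
  have hU' : (Fintype.card U : F) ≠ 0 := by rwa [Nat.card_eq_fintype_card] at hU
  have hcompl := isCompl_fix_ker_nrm ρ U hU'
  have hWG : ∀ g : G, ∀ y ∈ LinearMap.ker (nrm ρ U), ρ g y ∈ LinearMap.ker (nrm ρ U) := by
    intro g y hy
    rw [LinearMap.mem_ker] at hy ⊢
    rw [nrm_rho, hy, map_zero]
  have hXG : ∀ g : G, ∀ x ∈ fix ρ U, ρ g x ∈ fix ρ U := by
    intro g x hx u hu
    have hu' : g⁻¹ * u * g ∈ U := by
      have := (inferInstance : U.Normal).conj_mem u hu g⁻¹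
      simpa using this
    calc ρ u (ρ g x) = ρ g (ρ (g⁻¹ * u * g) x) := by
          rw [← rho_mul_apply, ← rho_mul_apply]; congr 2; group
      _ = ρ g x := by rw [hx _ hu']
  have hWfix : fix (res ρ _ hWG) U = ⊥ := by
    rw [fix_res, eq_bot_iff]
    intro y hy
    rw [Submodule.mem_comap] at hy
    have : (y : V) ∈ fix ρ U ⊓ LinearMap.ker (nrm ρ U) := ⟨hy, y.2⟩
    rw [hcompl.inf_eq_bot, Submodule.mem_bot] at this
    rw [Submodule.mem_bot]
    exact Subtype.ext this
  have h1 := ff_field U E hfpf hG (res ρ _ hWG) hU hE hWfix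
  rw [finrank_fix_res] at h1
  have h2 := finrank_fix_split ρ E _ _ hcompl (fun e _ => hXG e) (fun e _ => hWG e)
  have h3 := Submodule.finrank_add_eq_of_isCompl hcompl
  rw [fix_top_eq U E ρ hG]
  rw [h2, ← h3, h1]
  ring

end Cfsg.Agent.Lib.Lead.FF
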