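import Mathlib
import Cfsg.Agent.Lib.Lead.FF9

set_option autoImplicit false

universe u w

namespace Cfsg.Agent.Lib.Lead.FF

open Module

variable {B : Type w} [Group B] [Finite B]
variable {Q : Type u} [CommGroup Q] [Finite Q]

section FPdef

variable {Q' : Type u} [Group Q']

/-- fixed points of a subgroup of the acting group -/
def FP (φ : B →* MulAut Q') (S : Subgroup B) : Subgroup Q' where
  carrier := {q | ∀ s ∈ S, φ s q = q}
  mul_mem' := by
    intro a b ha hb s hs
    rw [map_mul, ha s hs, hb s hs]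
  one_mem' := by
    intro s _
    exact map_one _
  inv_mem' := by
    intro a ha s hs
    rw [map_inv, ha s hs]

theorem mem_FP (φ : B →* MulAut Q') (S : Subgroup B) (q : Q') :
    q ∈ FP φ S ↔ ∀ s ∈ S, φ s q = q := Iff.rfl

end FPdef

/-- an elementary abelian group, written additively, as a type carrying its `ZMod ℓ`-structure -/
def EA (ℓ : ℕ) (Q : Type u) [CommGroup Q] (_hexp : ∀ q : Q, q ^ ℓ = 1) : Type u := Additive Q

section

variable (ℓ : ℕ) [Fact ℓ.Prime] (hexp : ∀ q : Q, q ^ ℓ = 1)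

instance : AddCommGroup (EA ℓ Q hexp) := inferInstanceAs (AddCommGroup (Additive Q))

instance : Finite (EA ℓ Q hexp) := inferInstanceAs (Finite (Additive Q))

instance : Module (ZMod ℓ) (EA ℓ Q hexp) :=
  AddCommGroup.zmodModule (n := ℓ) (G := EA ℓ Q hexp) (fun x => by
    show Additive.ofMul ((Additive.toMul (x : Additive Q)) ^ ℓ) = (0 : Additive Q)
    rw [hexp]
    rfl)

/-- into the additive copy -/
def EA.mk (q : Q) : EA ℓ Q hexp := Additive.ofMul q

/-- out of the additive copy -/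
def EA.out (x : EA ℓ Q hexp) : Q := Additive.toMul (x : Additive Q)

/-- the linear representation attached to an action on an elementary abelian group -/
def linRep (φ : B →* MulAut Q) : B →* Module.End (ZMod ℓ) (EA ℓ Q hexp) where
  toFun := fun b => AddMonoidHom.toZModLinearMap ℓ
    (show EA ℓ Q hexp →+ EA ℓ Q hexp from MonoidHom.toAdditive (φ b).toMonoidHom)
  map_one' := by
    apply LinearMap.ext
    intro x
    show EA.mk ℓ hexp (φ 1 (EA.out ℓ hexp x)) = x
    rw [map_one]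
    rfl
  map_mul' := by
    intro a b
    apply LinearMap.ext
    intro x
    show EA.mk ℓ hexp (φ (a * b) (EA.out ℓ hexp x)) =
      EA.mk ℓ hexp (φ a (φ b (EA.out ℓ hexp x)))
    rw [map_mul]
    rfl

theorem linRep_apply (φ : B →* MulAut Q) (b : B) (x : EA ℓ Q hexp) :
    linRep ℓ hexp φ b x = EA.mk ℓ hexp (φ b (EA.out ℓ hexp x)) := rfl

theorem card_fix_linRep (φ : B →* MulAut Q) (S : Subgroup B) :
    Nat.card ↥(fix (linRep ℓ hexp φ) S) = Nat.card ↥(FP φ S) := by
  apply Nat.card_congr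
  refine ⟨fun x => ⟨EA.out ℓ hexp (x : EA ℓ Q hexp), ?_⟩,
    fun q => ⟨EA.mk ℓ hexp (q : Q), ?_⟩, fun x => rfl, fun q => rfl⟩
  · intro s hs
    have := x.2 s hs
    rw [linRep_apply] at this
    exact congrArg (EA.out ℓ hexp) this
  · intro s hs
    rw [linRep_apply]
    exact congrArg (EA.mk ℓ hexp) (q.2 s hs)

theorem card_fix_pow (φ : B →* MulAut Q) (S : Subgroup B) :
    Nat.card ↥(FP φ S) = ℓ ^ finrank (ZMod ℓ) ↥(fix (linRep ℓ hexp φ) S) := by
  rw [← card_fix_linRep ℓ hexp φ S, Module.natCard_eq_pow_finrank (K := ZMod ℓ), Nat.card_zmod]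

theorem card_Q_pow : Nat.card Q = ℓ ^ finrank (ZMod ℓ) (EA ℓ Q hexp) := by
  have : Nat.card Q = Nat.card (EA ℓ Q hexp) := rfl
  rw [this, Module.natCard_eq_pow_finrank (K := ZMod ℓ), Nat.card_zmod]

include hexp in
/-- Frobenius action on an elementary abelian group, coprime case -/
theorem ff_elem (U E : Subgroup B) [U.Normal]
    (hfpf : ∀ e ∈ E, e ≠ 1 → ∀ u ∈ U, e * u = u * e → u = 1)
    (hG : ∀ g : B, ∃ u ∈ U, ∃ e ∈ E, g = u * e)
    (φ : B →* MulAut Q) (hU : ¬ ℓ ∣ Nat.card U) (hE : ¬ ℓ ∣ Nat.card E) :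
    Nat.card ↥(FP φ ⊤) ^ Nat.card E * Nat.card Q =
      Nat.card ↥(FP φ E) ^ Nat.card E * Nat.card ↥(FP φ U) := by
  classical
  haveI : Fintype B := Fintype.ofFinite B
  have hU' : (Nat.card U : ZMod ℓ) ≠ 0 := by
    rw [Ne, ZMod.natCast_eq_zero_iff]
    exact hU
  have hE' : (Nat.card E : ZMod ℓ) ≠ 0 := by
    rw [Ne, ZMod.natCast_eq_zero_iff]
    exact hE
  have h := ff_general U E hfpf hG (linRep ℓ hexp φ) hU' hE'
  rw [card_fix_pow ℓ hexp φ ⊤, card_fix_pow ℓ hexp φ E, card_fix_pow ℓ hexp φ U, card_Q_pow ℓ hexp,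
    ← pow_mul, ← pow_mul, ← pow_add, ← pow_add]
  congr 1
  rw [mul_comm _ (Nat.card E), mul_comm _ (Nat.card E)]
  exact h

end

end Cfsg.Agent.Lib.Lead.FF
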