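import Mathlib
import Cfsg.Agent.Lib.Lead.FF10

set_option autoImplicit false

universe u

namespace Cfsg.Agent.Lib.Lead.FF

variable {X : Type u} [Group X]

/-- conjugation action of a normalizing subgroup -/
def conjAct (H B : Subgroup X) (hB : B ≤ Subgroup.normalizer (H : Set X)) : ↥B →* MulAut ↥H where
  toFun b :=
    { toFun := fun h => ⟨(b : X) * h * (b : X)⁻¹, (Subgroup.mem_normalizer_iff.mp (hB b.2) h).mp h.2⟩
      invFun := fun h => ⟨(b : X)⁻¹ * h * (b : X), by
        have := (Subgroup.mem_normalizer_iff.mp (hB (B.inv_mem b.2)) h).mp h.2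
        simpa using this⟩
      left_inv := fun h => by
        apply Subtype.ext
        simp only
        group
      right_inv := fun h => by
        apply Subtype.ext
        simp only
        group
      map_mul' := fun h k => by
        apply Subtype.ext
        simp only [Subgroup.coe_mul]
        group }
  map_one' := by
    apply MulEquiv.ext
    intro h
    apply Subtype.ext
    simp
  map_mul' := by
    intro a b
    apply MulEquiv.ext
    intro h
    apply Subtype.ext
    simp only [Subgroup.coe_mul, MulAut.mul_apply, MulEquiv.coe_mk, Equiv.coe_fn_mk]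
    group

@[simp] theorem conjAct_apply (H B : Subgroup X) (hB : B ≤ Subgroup.normalizer (H : Set X))
    (b : B) (h : H) : ((conjAct H B hB b h : H) : X) = (b : X) * h * (b : X)⁻¹ := rfl

variable (H M B : Subgroup X) (hMH : M ≤ H) (hHM : H ≤ Subgroup.normalizer (M : Set X))
  (hBH : B ≤ Subgroup.normalizer (H : Set X)) (hBM : B ≤ Subgroup.normalizer (M : Set X))

include hBM in
theorem map_conjAct (b : B) :
    (M.subgroupOf H).map ((conjAct H B hBH b : ↥H ≃* ↥H) : ↥H →* ↥H) = M.subgroupOf H := by
  ext x
  rw [Subgroup.mem_map, Subgroup.mem_subgroupOf]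
  constructor
  · rintro ⟨y, hy, rfl⟩
    rw [Subgroup.mem_subgroupOf] at hy
    exact (Subgroup.mem_normalizer_iff.mp (hBM b.2) y).mp hy
  · intro hx
    refine ⟨(conjAct H B hBH b).symm x, ?_, by simp⟩
    rw [Subgroup.mem_subgroupOf]
    have := (Subgroup.mem_normalizer_iff.mp (hBM (B.inv_mem b.2)) x).mp hx
    have h2 : (((conjAct H B hBH b).symm x : H) : X) = (b : X)⁻¹ * x * (b : X) := rfl
    rw [h2]
    simpa using this

/-- the action on the section `H/M` -/
def secAct [(M.subgroupOf H).Normal] : ↥B →* MulAut (↥H ⧸ M.subgroupOf H) where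
  toFun b := QuotientGroup.congr (M.subgroupOf H) (M.subgroupOf H) (conjAct H B hBH b)
    (map_conjAct H M B hBH hBM b)
  map_one' := by
    apply MulEquiv.ext
    intro q
    induction q using QuotientGroup.induction_on with
    | H h => simp
  map_mul' := by
    intro a b
    apply MulEquiv.ext
    intro q
    induction q using QuotientGroup.induction_on with
    | H h => simp

theorem secAct_mk [(M.subgroupOf H).Normal] (b : B) (h : H) :
    secAct H M B hBH hBM b (QuotientGroup.mk h) = QuotientGroup.mk (conjAct H B hBH b h) := rfl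

end Cfsg.Agent.Lib.Lead.FF
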