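import Mathlib
import Cfsg.Agent.Lib.Lead.FF11
import Cfsg.Agent.Lib.Lead.CoprimeAction

set_option autoImplicit false

universe u

namespace Cfsg.Agent.Lib.Lead.FF

open Cfsg.Agent.Lib.Lead

variable {X : Type u} [Group X]

/-- elements of `K ⊔ A` are products when `A` normalises `K` -/
theorem exists_mul_of_mem_sup_n {K A : Subgroup X} (hAK : A ≤ Subgroup.normalizer (K : Set X))
    {x : X} (hx : x ∈ K ⊔ A) : ∃ κ ∈ K, ∃ a ∈ A, x = κ * a := by
  let T : Subgroup X :=
    { carrier := {x | ∃ κ ∈ K, ∃ a ∈ A, x = κ * a}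
      one_mem' := ⟨1, K.one_mem, 1, A.one_mem, by simp⟩
      mul_mem' := by
        rintro _ _ ⟨κ, hκ, a, ha, rfl⟩ ⟨κ', hκ', a', ha', rfl⟩
        refine ⟨κ * (a * κ' * a⁻¹), K.mul_mem hκ ?_, a * a', A.mul_mem ha ha', by group⟩
        exact (Subgroup.mem_normalizer_iff.mp (hAK ha) κ').mp hκ'
      inv_mem' := by
        rintro _ ⟨κ, hκ, a, ha, rfl⟩
        refine ⟨a⁻¹ * κ⁻¹ * a⁻¹⁻¹, ?_, a⁻¹, A.inv_mem ha, by group⟩
        exact (Subgroup.mem_normalizer_iff.mp (hAK (A.inv_mem ha)) κ⁻¹).mp (K.inv_mem hκ) }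
  have hle : K ⊔ A ≤ T := by
    apply sup_le
    · intro κ hκ
      exact ⟨κ, hκ, 1, A.one_mem, by simp⟩
    · intro a ha
      exact ⟨1, K.one_mem, a, ha, by simp⟩
  exact hle hx

variable (H M B : Subgroup X)

/-- the commutative group structure on an abelian section -/
@[reducible] def secComm [(M.subgroupOf H).Normal]
    (hcomm : ∀ a ∈ H, ∀ b ∈ H, a⁻¹ * b⁻¹ * a * b ∈ M) : CommGroup (↥H ⧸ M.subgroupOf H) :=
  { (inferInstance : Group (↥H ⧸ M.subgroupOf H)) with
    mul_comm := by
      intro a b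
      induction a using QuotientGroup.induction_on with
      | H a =>
        induction b using QuotientGroup.induction_on with
        | H b =>
          rw [← QuotientGroup.mk_mul, ← QuotientGroup.mk_mul, QuotientGroup.eq,
            Subgroup.mem_subgroupOf]
          have := hcomm b b.2 a a.2
          have h2 : (((a * b)⁻¹ * (b * a) : H) : X) = (b : X)⁻¹ * (a : X)⁻¹ * b * a := by
            simp only [Subgroup.coe_mul, Subgroup.coe_inv]
            group
          rw [h2]
          exact this }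

theorem sec_exp [(M.subgroupOf H).Normal] (ℓ : ℕ) (hexp : ∀ h ∈ H, h ^ ℓ ∈ M)
    (q : ↥H ⧸ M.subgroupOf H) : q ^ ℓ = 1 := by
  induction q using QuotientGroup.induction_on with
  | H h =>
    rw [← QuotientGroup.mk_pow, QuotientGroup.eq_one_iff, Subgroup.mem_subgroupOf]
    simpa using hexp h h.2

variable [Finite X]

/-- cardinality of the full preimage in `X` of a subgroup of the section -/
theorem card_preimage_sec [(M.subgroupOf H).Normal] (hMH : M ≤ H)
    (T : Subgroup (↥H ⧸ M.subgroupOf H)) :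
    Nat.card ↥((T.comap (QuotientGroup.mk' (M.subgroupOf H))).map H.subtype) =
      Nat.card M * Nat.card T := by
  have h1 : Nat.card ↥((T.comap (QuotientGroup.mk' (M.subgroupOf H))).map H.subtype) =
      Nat.card ↥(T.comap (QuotientGroup.mk' (M.subgroupOf H))) :=
    (Nat.card_congr (Subgroup.equivMapOfInjective _ H.subtype H.subtype_injective).toEquiv).symm
  rw [h1]
  have h2 := QuotientGroup.card_preimage_mk (M.subgroupOf H) (T : Set (↥H ⧸ M.subgroupOf H))
  rw [card_subgroupOf_of_le hMH] at h2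
  exact h2

end Cfsg.Agent.Lib.Lead.FF
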