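import Mathlib
import Cfsg.Agent.Lib.Lead.FF12

set_option autoImplicit false

universe u

namespace Cfsg.Agent.Lib.Lead.FF

open Cfsg.Agent.Lib.Lead

variable {X : Type u} [Group X] [Finite X]
variable (H M B : Subgroup X) (hMH : M ≤ H) (hHM : H ≤ Subgroup.normalizer (M : Set X))
  (hBH : B ≤ Subgroup.normalizer (H : Set X)) (hBM : B ≤ Subgroup.normalizer (M : Set X))

include hMH hHM in
/-- the preimage of the fixed points on the section is `C_H(S) M` (coprime action) -/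
theorem preimage_FP_eq [(M.subgroupOf H).Normal] (S : Subgroup X) (hSB : S ≤ B)
    (hcop : (Nat.card S).Coprime (Nat.card H))
    (hsolv : Group.IsSolvable S ∨ Group.IsSolvable H) :
    ((FP (secAct H M B hBH hBM) (S.subgroupOf B)).comap
      (QuotientGroup.mk' (M.subgroupOf H))).map H.subtype =
      (H ⊓ Subgroup.centralizer (S : Set X)) ⊔ M := by
  apply le_antisymm
  · rintro _ ⟨k, hk, rfl⟩
    rw [SetLike.mem_coe, Subgroup.mem_comap, mem_FP] at hk
    have hfix : ∀ a ∈ S, a * (k : X) * a⁻¹ * (k : X)⁻¹ ∈ M := by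
      intro a ha
      have h1 := hk ⟨a, hSB ha⟩ (by rw [Subgroup.mem_subgroupOf]; exact ha)
      rw [QuotientGroup.mk'_apply, secAct_mk, QuotientGroup.eq, Subgroup.mem_subgroupOf] at h1
      have h2 : (((conjAct H B hBH ⟨a, hSB ha⟩ k)⁻¹ * k : H) : X) = (a * (k : X) * a⁻¹)⁻¹ * k := rfl
      rw [h2] at h1
      -- conjugate by `k`
      have h3 := M.inv_mem h1
      have h4 := (Subgroup.mem_normalizer_iff.mp (hHM k.2) _).mp h3
      have h5 : (k : X) * ((a * (k : X) * a⁻¹)⁻¹ * k)⁻¹ * (k : X)⁻¹ = a * (k : X) * a⁻¹ * (k : X)⁻¹ := by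
        group
      rwa [h5] at h4
    obtain ⟨c, hc, hkc⟩ := coprime_fixed_coset S H (hSB.trans hBH) hcop hsolv M hMH hHM
      (hSB.trans hBM) k k.2 hfix
    have : (k : X) = c * ((k : X)⁻¹ * c)⁻¹ := by group
    show (k : X) ∈ _
    rw [this]
    exact Subgroup.mul_mem _ (Subgroup.mem_sup_left hc) (Subgroup.mem_sup_right (M.inv_mem hkc))
  · apply sup_le
    · rintro c ⟨hcH, hcC⟩
      refine ⟨⟨c, hcH⟩, ?_, rfl⟩
      rw [SetLike.mem_coe, Subgroup.mem_comap, mem_FP]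
      intro s hs
      rw [QuotientGroup.mk'_apply, secAct_mk]
      congr 1
      apply Subtype.ext
      rw [conjAct_apply]
      rw [Subgroup.mem_subgroupOf] at hs
      have := (Subgroup.mem_centralizer_iff.mp hcC) s hs
      simp only
      rw [this]
      group
    · intro m hm
      refine ⟨⟨m, hMH hm⟩, ?_, rfl⟩
      rw [SetLike.mem_coe, Subgroup.mem_comap]
      have : (QuotientGroup.mk' (M.subgroupOf H)) ⟨m, hMH hm⟩ = 1 := by
        rw [QuotientGroup.mk'_apply, QuotientGroup.eq_one_iff, Subgroup.mem_subgroupOf]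
        exact hm
      rw [this]
      exact Subgroup.one_mem _

end Cfsg.Agent.Lib.Lead.FF

namespace Cfsg.Agent.Lib.Lead.FF

open Cfsg.Agent.Lib.Lead

variable {X : Type u} [Group X] [Finite X]

/-- The Frobenius fixed-point formula on an elementary abelian section `H/M`. -/
theorem ff_section (ℓ : ℕ) [Fact ℓ.Prime] (H M U E : Subgroup X) (hMH : M ≤ H)
    (hHM : H ≤ Subgroup.normalizer (M : Set X))
    (hBH : U ⊔ E ≤ Subgroup.normalizer (H : Set X))
    (hBM : U ⊔ E ≤ Subgroup.normalizer (M : Set X))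
    (hcomm : ∀ a ∈ H, ∀ b ∈ H, a⁻¹ * b⁻¹ * a * b ∈ M) (hexp : ∀ h ∈ H, h ^ ℓ ∈ M)
    (hEU : E ≤ Subgroup.normalizer (U : Set X))
    (hfpf : ∀ e ∈ E, e ≠ 1 → ∀ u ∈ U, e * u = u * e → u = 1)
    (hcop : (Nat.card ↥(U ⊔ E)).Coprime (Nat.card H)) (hsolv : Group.IsSolvable H)
    (hℓU : ¬ ℓ ∣ Nat.card U) (hℓE : ¬ ℓ ∣ Nat.card E) :
    Nat.card ↥((H ⊓ Subgroup.centralizer ((U ⊔ E : Subgroup X) : Set X)) ⊔ M) ^ Nat.card E *
        Nat.card H =
      Nat.card ↥((H ⊓ Subgroup.centralizer (E : Set X)) ⊔ M) ^ Nat.card E *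
        Nat.card ↥((H ⊓ Subgroup.centralizer (U : Set X)) ⊔ M) := by
  classical
  haveI : (M.subgroupOf H).Normal := Subgroup.normal_subgroupOf_of_le_normalizer hHM
  letI : CommGroup (↥H ⧸ M.subgroupOf H) := secComm H M hcomm
  have hBU : U ⊔ E ≤ Subgroup.normalizer (U : Set X) := sup_le Subgroup.le_normalizer hEU
  haveI : (U.subgroupOf (U ⊔ E)).Normal := Subgroup.normal_subgroupOf_of_le_normalizer hBU
  have hfpf' : ∀ e ∈ E.subgroupOf (U ⊔ E), e ≠ 1 → ∀ u ∈ U.subgroupOf (U ⊔ E),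
      e * u = u * e → u = 1 := by
    intro e he he1 u hu heu
    rw [Subgroup.mem_subgroupOf] at he hu
    apply Subtype.ext
    apply hfpf e he (fun h => he1 (Subtype.ext h)) u hu
    have := congrArg Subtype.val heu
    simpa using this
  have hG' : ∀ g : ↥(U ⊔ E), ∃ u ∈ U.subgroupOf (U ⊔ E), ∃ e ∈ E.subgroupOf (U ⊔ E),
      g = u * e := by
    intro g
    obtain ⟨u, hu, e, he, hg⟩ := exists_mul_of_mem_sup_n hEU g.2
    refine ⟨⟨u, Subgroup.mem_sup_left hu⟩, by rw [Subgroup.mem_subgroupOf]; exact hu,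
      ⟨e, Subgroup.mem_sup_right he⟩, by rw [Subgroup.mem_subgroupOf]; exact he, ?_⟩
    apply Subtype.ext
    simpa using hg
  have hcU : Nat.card ↥(U.subgroupOf (U ⊔ E)) = Nat.card U := card_subgroupOf_of_le le_sup_left
  have hcE : Nat.card ↥(E.subgroupOf (U ⊔ E)) = Nat.card E := card_subgroupOf_of_le le_sup_right
  have key := ff_elem ℓ (sec_exp H M ℓ hexp) (U.subgroupOf (U ⊔ E)) (E.subgroupOf (U ⊔ E))
    hfpf' hG' (secAct H M (U ⊔ E) hBH hBM) (by rw [hcU]; exact hℓU) (by rw [hcE]; exact hℓE)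
  rw [hcE] at key
  -- translate the three fixed-point groups
  have hcopS : ∀ S : Subgroup X, S ≤ U ⊔ E → (Nat.card S).Coprime (Nat.card H) := fun S hS =>
    Nat.Coprime.coprime_dvd_left (Subgroup.card_dvd_of_le hS) hcop
  have tr : ∀ S : Subgroup X, S ≤ U ⊔ E →
      Nat.card ↥((H ⊓ Subgroup.centralizer (S : Set X)) ⊔ M) =
        Nat.card M * Nat.card ↥(FP (secAct H M (U ⊔ E) hBH hBM) (S.subgroupOf (U ⊔ E))) := by
    intro S hS
    rw [← preimage_FP_eq H M (U ⊔ E) hMH hHM hBH hBM S hS (hcopS S hS) (Or.inr hsolv),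
      card_preimage_sec H M hMH]
  have hH : Nat.card H = Nat.card M * Nat.card (↥H ⧸ M.subgroupOf H) := by
    rw [Subgroup.card_eq_card_quotient_mul_card_subgroup (M.subgroupOf H),
      card_subgroupOf_of_le hMH, mul_comm]
  rw [tr _ le_rfl, tr _ le_sup_right, tr _ le_sup_left, hH, Subgroup.subgroupOf_self,
    mul_pow, mul_pow]
  calc Nat.card M ^ Nat.card E * Nat.card ↥(FP (secAct H M (U ⊔ E) hBH hBM) ⊤) ^ Nat.card E *
        (Nat.card M * Nat.card (↥H ⧸ M.subgroupOf H))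
      = Nat.card M ^ Nat.card E * Nat.card M *
        (Nat.card ↥(FP (secAct H M (U ⊔ E) hBH hBM) ⊤) ^ Nat.card E *
          Nat.card (↥H ⧸ M.subgroupOf H)) := by ring
    _ = Nat.card M ^ Nat.card E * Nat.card M *
        (Nat.card ↥(FP (secAct H M (U ⊔ E) hBH hBM) (E.subgroupOf (U ⊔ E))) ^ Nat.card E *
          Nat.card ↥(FP (secAct H M (U ⊔ E) hBH hBM) (U.subgroupOf (U ⊔ E)))) := by rw [key]
    _ = _ := by ring

end Cfsg.Agent.Lib.Lead.FF
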