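import Mathlib
import Cfsg.Agent.Lib.Lead.FF13

set_option autoImplicit false

universe u

namespace Cfsg.Agent.Lib.Lead.FF

open Cfsg.Agent.Lib.Lead

variable {X : Type u} [Group X] [Finite X]

/-- a characteristic subgroup of a solvable group with elementary abelian quotient -/
theorem exists_char_section (H : Subgroup X) (hsolv : Group.IsSolvable H) (hH : H ≠ ⊥) :
    ∃ (ℓ : ℕ) (M : Subgroup X), ℓ.Prime ∧ ℓ ∣ Nat.card H ∧ M ≤ H ∧ M ≠ H ∧
      Subgroup.normalizer (H : Set X) ≤ Subgroup.normalizer (M : Set X) ∧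
      (∀ a ∈ H, ∀ b ∈ H, a⁻¹ * b⁻¹ * a * b ∈ M) ∧ (∀ h ∈ H, h ^ ℓ ∈ M) := by
  classical
  haveI : Nontrivial ↥H := (Subgroup.nontrivial_iff_ne_bot H).mpr hH
  have hlt := IsSolvable.commutator_lt_top_of_nontrivial ↥H
  -- the abelianization is nontrivial
  have hAnt : Nat.card (Abelianization ↥H) ≠ 1 := by
    intro h1
    have hsub : Subsingleton (Abelianization ↥H) := (Nat.card_eq_one_iff_unique.mp h1).1
    apply hlt.ne
    rw [← Abelianization.ker_of, eq_top_iff]
    intro x _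
    rw [MonoidHom.mem_ker]
    exact Subsingleton.elim _ _
  obtain ⟨ℓ, hℓ, hℓd⟩ := Nat.exists_prime_and_dvd hAnt
  haveI : Fact ℓ.Prime := ⟨hℓ⟩
  have hℓH : ℓ ∣ Nat.card H := by
    have : Nat.card (Abelianization ↥H) ∣ Nat.card ↥H :=
      Subgroup.card_quotient_dvd_card (commutator ↥H)
    exact hℓd.trans this
  let P : Subgroup (Abelianization ↥H) := (powMonoidHom ℓ : Abelianization ↥H →* _).range
  have hP : P ≠ ⊤ := by
    intro htop
    have hsurj : Function.Surjective (powMonoidHom ℓ : Abelianization ↥H →* _) :=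
      MonoidHom.range_eq_top.mp htop
    have hinj := (Finite.injective_iff_surjective).mpr hsurj
    obtain ⟨a, ha⟩ := exists_prime_orderOf_dvd_card' ℓ hℓd
    have h1 : (powMonoidHom ℓ : Abelianization ↥H →* _) a = (powMonoidHom ℓ : _ →* _) 1 := by
      simp only [powMonoidHom_apply, one_pow]
      rw [← ha]
      exact pow_orderOf_eq_one a
    have h2 := hinj h1
    rw [h2, orderOf_one] at ha
    exact hℓ.one_lt.ne ha
  let M' : Subgroup ↥H := P.comap Abelianization.of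
  have hM'top : M' ≠ ⊤ := by
    intro htop
    apply hP
    rw [eq_top_iff]
    intro a _
    obtain ⟨h, rfl⟩ := QuotientGroup.mk_surjective a
    have : h ∈ M' := by rw [htop]; trivial
    exact this
  refine ⟨ℓ, M'.map H.subtype, hℓ, hℓH, Subgroup.map_subtype_le _, ?_, ?_, ?_, ?_⟩
  · intro h
    apply hM'top
    rw [eq_top_iff]
    intro x _
    have : (x : X) ∈ M'.map H.subtype := by rw [h]; exact x.2
    obtain ⟨y, hy, hyx⟩ := this
    have : y = x := Subtype.ext hyx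
    rwa [this] at hy
  · -- characteristic
    have key : ∀ g ∈ Subgroup.normalizer (H : Set X), ∀ m ∈ M'.map H.subtype,
        g * m * g⁻¹ ∈ M'.map H.subtype := by
      rintro g hg _ ⟨m, hm, rfl⟩
      let α : ↥H ≃* ↥H := conjAct H (Subgroup.normalizer (H : Set X)) le_rfl ⟨g, hg⟩
      refine ⟨α m, ?_, rfl⟩
      obtain ⟨a, ha⟩ := hm
      refine ⟨α.abelianizationCongr a, ?_⟩
      simp only [powMonoidHom_apply] at ha ⊢
      rw [← map_pow, ha, abelianizationCongr_of]
    intro g hg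
    rw [Subgroup.mem_normalizer_iff]
    intro m
    constructor
    · exact key g hg m
    · intro h
      have := key g⁻¹ (Subgroup.inv_mem _ hg) _ h
      have h2 : g⁻¹ * (g * m * g⁻¹) * g⁻¹⁻¹ = m := by group
      rwa [h2] at this
  · intro a ha b hb
    refine ⟨⟨a, ha⟩⁻¹ * ⟨b, hb⟩⁻¹ * ⟨a, ha⟩ * ⟨b, hb⟩, ?_, rfl⟩
    show Abelianization.of _ ∈ P
    have : Abelianization.of (⟨a, ha⟩⁻¹ * ⟨b, hb⟩⁻¹ * ⟨a, ha⟩ * ⟨b, hb⟩ : ↥H) = 1 := by
      simp only [map_mul, map_inv]
      rw [mul_comm (Abelianization.of (⟨a, ha⟩ : ↥H))⁻¹, mul_assoc, mul_assoc,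
        ← mul_assoc _ (Abelianization.of (⟨a, ha⟩ : ↥H))]
      simp
    rw [this]
    exact P.one_mem
  · intro h hh
    refine ⟨⟨h, hh⟩ ^ ℓ, ?_, rfl⟩
    show Abelianization.of _ ∈ P
    refine ⟨Abelianization.of ⟨h, hh⟩, ?_⟩
    simp only [powMonoidHom_apply]
    rw [← map_pow]

end Cfsg.Agent.Lib.Lead.FF
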