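import Mathlib
import Cfsg.Agent.Lib.Lead.FF14

set_option autoImplicit false

universe u

namespace Cfsg.Agent.Lib.Lead.FF

open Cfsg.Agent.Lib.Lead

variable {X : Type u} [Group X] [Finite X]

/-- lifting count: `|C_H(S) M| · |C_M(S)| = |C_H(S)| · |M|` -/
theorem card_lift (H M S : Subgroup X) (hMH : M ≤ H)
    (hHM : H ≤ Subgroup.normalizer (M : Set X)) :
    Nat.card ↥((H ⊓ Subgroup.centralizer (S : Set X)) ⊔ M) *
        Nat.card ↥(M ⊓ Subgroup.centralizer (S : Set X)) =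
      Nat.card ↥(H ⊓ Subgroup.centralizer (S : Set X)) * Nat.card M := by
  have h := card_sup_mul_card_inf (H ⊓ Subgroup.centralizer (S : Set X)) M
    (inf_le_left.trans hHM)
  have h2 : (H ⊓ Subgroup.centralizer (S : Set X)) ⊓ M = M ⊓ Subgroup.centralizer (S : Set X) := by
    rw [inf_comm, ← inf_assoc, inf_eq_left.mpr hMH]
  rwa [h2] at h

/-- **Fixed-point formula for a Frobenius group acting coprimely on a solvable group.** -/
theorem ff_solvable (U E : Subgroup X) (hEU : E ≤ Subgroup.normalizer (U : Set X))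
    (hfpf : ∀ e ∈ E, e ≠ 1 → ∀ u ∈ U, e * u = u * e → u = 1) :
    ∀ n : ℕ, ∀ H : Subgroup X, Nat.card H = n →
      U ⊔ E ≤ Subgroup.normalizer (H : Set X) → Group.IsSolvable H →
      (Nat.card ↥(U ⊔ E)).Coprime (Nat.card H) →
      Nat.card ↥(H ⊓ Subgroup.centralizer ((U ⊔ E : Subgroup X) : Set X)) ^ Nat.card E *
          Nat.card H =
        Nat.card ↥(H ⊓ Subgroup.centralizer (E : Set X)) ^ Nat.card E *
          Nat.card ↥(H ⊓ Subgroup.centralizer (U : Set X)) := by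
  intro n
  induction n using Nat.strong_induction_on with
  | _ n ih =>
  intro H hn hBH hsolv hcop
  by_cases hH : H = ⊥
  · subst hH
    simp
  obtain ⟨ℓ, M, hℓ, hℓH, hMH, hMne, hNM, hcomm, hexp⟩ := exists_char_section H hsolv hH
  haveI : Fact ℓ.Prime := ⟨hℓ⟩
  have hHM : H ≤ Subgroup.normalizer (M : Set X) := Subgroup.le_normalizer.trans hNM
  have hBM : U ⊔ E ≤ Subgroup.normalizer (M : Set X) := hBH.trans hNM
  have hMlt : Nat.card M < n := by
    rw [← hn]
    apply lt_of_le_of_ne (Subgroup.card_le_of_le hMH)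
    intro h
    exact hMne (Subgroup.eq_of_le_of_card_ge hMH h.ge)
  haveI := hsolv
  have hMsolv : Group.IsSolvable M := isSolvable_of_le hMH
  have hMcop : (Nat.card ↥(U ⊔ E)).Coprime (Nat.card M) :=
    Nat.Coprime.coprime_dvd_right (Subgroup.card_dvd_of_le hMH) hcop
  have hIH := ih _ hMlt M rfl hBM hMsolv hMcop
  have hℓB : ¬ ℓ ∣ Nat.card ↥(U ⊔ E) := by
    intro h
    have := Nat.Coprime.eq_one_of_dvd (hcop.symm.coprime_dvd_left hℓH) h
    exact hℓ.one_lt.ne' this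
  have hℓU : ¬ ℓ ∣ Nat.card U := fun h => hℓB (h.trans (Subgroup.card_dvd_of_le le_sup_left))
  have hℓE : ¬ ℓ ∣ Nat.card E := fun h => hℓB (h.trans (Subgroup.card_dvd_of_le le_sup_right))
  have hleaf := ff_section ℓ H M U E hMH hHM hBH hBM hcomm hexp hEU hfpf hcop hsolv hℓU hℓE
  have hB := card_lift H M (U ⊔ E) hMH hHM
  have hE := card_lift H M E hMH hHM
  have hU := card_lift H M U hMH hHM
  have hmpos : 0 < Nat.card M ^ (Nat.card E + 1) := pow_pos Nat.card_pos _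
  apply Nat.eq_of_mul_eq_mul_left hmpos
  generalize Nat.card ↥(H ⊓ Subgroup.centralizer ((U ⊔ E : Subgroup X) : Set X)) = cB at *
  generalize Nat.card ↥(H ⊓ Subgroup.centralizer (E : Set X)) = cE at *
  generalize Nat.card ↥(H ⊓ Subgroup.centralizer (U : Set X)) = cU at *
  generalize Nat.card ↥(M ⊓ Subgroup.centralizer ((U ⊔ E : Subgroup X) : Set X)) = cB' at *
  generalize Nat.card ↥(M ⊓ Subgroup.centralizer (E : Set X)) = cE' at *
  generalize Nat.card ↥(M ⊓ Subgroup.centralizer (U : Set X)) = cU' at *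
  generalize Nat.card ↥((H ⊓ Subgroup.centralizer ((U ⊔ E : Subgroup X) : Set X)) ⊔ M) = dB at *
  generalize Nat.card ↥((H ⊓ Subgroup.centralizer (E : Set X)) ⊔ M) = dE at *
  generalize Nat.card ↥((H ⊓ Subgroup.centralizer (U : Set X)) ⊔ M) = dU at *
  generalize Nat.card M = m at *
  generalize Nat.card E = e at *
  generalize Nat.card H = h at *
  calc m ^ (e + 1) * (cB ^ e * h) = (cB * m) ^ e * h * m := by ring
    _ = (dB * cB') ^ e * h * m := by rw [hB]
    _ = (dB ^ e * h) * (cB' ^ e * m) := by ring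
    _ = (dE ^ e * dU) * (cE' ^ e * cU') := by rw [hleaf, hIH]
    _ = (dE * cE') ^ e * (dU * cU') := by ring
    _ = (cE * m) ^ e * (cU * m) := by rw [hE, hU]
    _ = m ^ (e + 1) * (cE ^ e * cU) := by ring

end Cfsg.Agent.Lib.Lead.FF

namespace Cfsg.Agent.Lib.Lead.FF

variable {X : Type u} [Group X] [Finite X]

theorem le_normalizer_of_conj_mem (A K : Subgroup X) (h : ∀ a ∈ A, ∀ k ∈ K, a * k * a⁻¹ ∈ K) :
    A ≤ Subgroup.normalizer (K : Set X) := by
  intro a ha
  rw [Subgroup.mem_normalizer_iff]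
  intro k
  constructor
  · exact h a ha k
  · intro hk
    have := h a⁻¹ (A.inv_mem ha) _ hk
    have h2 : a⁻¹ * (a * k * a⁻¹) * a⁻¹⁻¹ = k := by group
    rwa [h2] at this

theorem s1545 (U E H : Subgroup X)
    (hUn : ∀ e ∈ E, ∀ u ∈ U, e * u * e⁻¹ ∈ U)
    (hfpf : ∀ e ∈ E, e ≠ 1 → ∀ u ∈ U, e * u = u * e → u = 1)
    (hHn : ∀ x ∈ U ⊔ E, ∀ h ∈ H, x * h * x⁻¹ ∈ H) (hsolv : Group.IsSolvable H)
    (hcop : Nat.Coprime (Nat.card H) (Nat.card ↥(U ⊔ E))) :
    Nat.card ↥(H ⊓ Subgroup.centralizer ((U ⊔ E : Subgroup X) : Set X)) ^ Nat.card E *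
        Nat.card H =
      Nat.card ↥(H ⊓ Subgroup.centralizer (E : Set X)) ^ Nat.card E *
        Nat.card ↥(H ⊓ Subgroup.centralizer (U : Set X)) :=
  ff_solvable U E (le_normalizer_of_conj_mem E U hUn) hfpf _ H rfl
    (le_normalizer_of_conj_mem (U ⊔ E) H hHn) hsolv hcop.symm

end Cfsg.Agent.Lib.Lead.FF
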