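import Mathlib
import Cfsg.Agent.Lib.Lead.FF9

set_option autoImplicit false

universe u v w

namespace Cfsg.Agent.Lib.Lead.FF

open Module Polynomial

variable {G : Type w} [Group G] [Finite G] (U E : Subgroup G) [U.Normal]
variable {K : Type u} [Field K]

/-- two endomorphisms preserving a line commute on it -/
theorem commute_on_line {V : Type v} [AddCommGroup V] [Module K V] (L : Submodule K V)
    (hL : finrank K L = 1) (S T : Module.End K V) (hS : ∀ v ∈ L, S v ∈ L) (hT : ∀ v ∈ L, T v ∈ L)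
    {v : V} (hv : v ∈ L) : S (T v) = T (S v) := by
  obtain ⟨⟨w, hwL⟩, hw⟩ := finrank_eq_one_iff'.mp hL
  have hsp : ∀ x ∈ L, ∃ c : K, c • w = x := by
    intro x hx
    obtain ⟨c, hc⟩ := hw.2 ⟨x, hx⟩
    exact ⟨c, congrArg Subtype.val hc⟩
  obtain ⟨c, rfl⟩ := hsp v hv
  obtain ⟨s, hs⟩ := hsp _ (hS w hwL)
  obtain ⟨t, ht⟩ := hsp _ (hT w hwL)
  have e1 : S (T (c • w)) = (c * t * s) • w := by
    rw [map_smul, ← ht, map_smul, map_smul, ← hs, smul_smul, smul_smul]
  have e2 : T (S (c • w)) = (c * s * t) • w := by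
    rw [map_smul, ← hs, map_smul, map_smul, ← ht, smul_smul, smul_smul]
  rw [e1, e2]
  congr 1
  ring

/-- the core of the "one-dimensional fixed space" theorem, no fixed vectors for the kernel -/
theorem one_dim_core [IsAlgClosed K]
    (hfpf : ∀ e ∈ E, e ≠ 1 → ∀ u ∈ U, e * u = u * e → u = 1)
    (hG : ∀ g : G, ∃ u ∈ U, ∃ e ∈ E, g = u * e) (hU : (Nat.card U : K) ≠ 0)
    {V : Type v} [AddCommGroup V] [Module K V] [FiniteDimensional K V]
    (ρ : G →* Module.End K V) (hfix : fix ρ U = ⊥) (h1 : finrank K ↥(fix ρ E) ≤ 1) :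
    ∀ a ∈ U, ∀ b ∈ U, ρ (a * b) = ρ (b * a) := by
  classical
  haveI : Fintype G := Fintype.ofFinite G
  have hff := ff_core U E hfpf hG hU _ V ρ rfl hfix
  by_cases hV : finrank K V = 0
  · intro a _ b _
    haveI : Subsingleton V := Module.finrank_zero_iff.mp hV
    apply LinearMap.ext
    intro v
    exact Subsingleton.elim _ _
  by_cases hE : E = ⊥
  · subst hE
    have : fix ρ ⊥ = ⊤ := by
      ext v
      simp [mem_fix]
    rw [this, finrank_top] at h1 hff
    -- `V` is a line fixed by nothing: then `U` acts by scalars... use `hff` only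
    -- here `finrank V ≤ 1`, and `fix ρ U = ⊥`; commutativity on a line
    intro a ha b hb
    have hV1 : finrank K V = 1 := by omega
    have hL : finrank K (⊤ : Submodule K V) = 1 := by rw [finrank_top]; exact hV1
    apply LinearMap.ext
    intro v
    rw [rho_mul_apply, rho_mul_apply]
    exact commute_on_line ⊤ hL (ρ a) (ρ b) (fun _ _ => trivial) (fun _ _ => trivial) trivial
  have hnt : ∃ u ∈ U, ρ u ≠ 1 := by
    by_contra hcon
    push Not at hcon
    have : fix ρ U = ⊤ := by
      ext v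
      simp only [mem_fix, Submodule.mem_top, iff_true]
      intro g hg
      rw [hcon g hg]
      rfl
    rw [hfix] at this
    apply hV
    rw [← finrank_top K V, ← this, finrank_bot]
  obtain ⟨a, haU, ha1, hac⟩ := exists_central U E hfpf hE ρ hnt
  have hacen : a ∈ cen U ρ := ⟨haU, hac⟩
  have hex : ∃ χ0 : cen U ρ → K, χ0 ≠ (fun _ => 1) ∧ Vx U ρ χ0 ≠ ⊥ := by
    by_contra hcon
    push Not at hcon
    have htop : Vx U ρ (fun _ => 1) = ⊤ := by
      rw [eq_top_iff, ← iSup_Vx U ρ]
      apply iSup_le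
      intro χ
      by_cases h : χ = fun _ => 1
      · rw [h]
      · rw [hcon χ h]
        exact bot_le
    rw [Vx_one U ρ hU] at htop
    apply ha1
    ext v
    have : v ∈ fix ρ (cen U ρ) := by
      rw [htop]
      trivial
    exact this a hacen
  obtain ⟨χ0, hχ01, hχ0ne⟩ := hex
  have hinj : Function.Injective (fun e : E => act U ρ (e : G) χ0) := by
    intro e1 e2 h
    simp only at h
    by_contra hne
    have h1 : act U ρ ((e2⁻¹ * e1 : E) : G) χ0 = χ0 := by
      rw [Subgroup.coe_mul, act_mul, h, ← act_mul]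
      simp [act_one]
    have h2 : ((e2⁻¹ * e1 : E) : G) ≠ 1 := by
      intro h0
      apply hne
      have : e2⁻¹ * e1 = 1 := Subtype.ext h0
      exact (inv_mul_eq_one.mp this).symm
    exact hχ01 (act_free U E hfpf ρ hU (e2⁻¹ * e1).2 h2 χ0 h1 hχ0ne)
  have hind : iSupIndep (fun e : E => (Vx U ρ χ0).map (ρ (e : G))) := by
    have : (fun e : E => (Vx U ρ χ0).map (ρ (e : G))) =
        (Vx U ρ) ∘ (fun e : E => act U ρ (e : G) χ0) := by
      funext e
      exact map_Vx U ρ hU e χ0
    rw [this]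
    exact (indep_Vx U ρ).comp hinj
  have hX1 := finrank_iSup_map ρ E (Vx U ρ χ0) hind
  have hXpos : 0 < finrank K ↥(Vx U ρ χ0) := by
    rw [Module.finrank_pos_iff]
    exact (Submodule.nontrivial_iff_ne_bot).mpr hχ0ne
  have hEpos : 0 < Fintype.card E := Fintype.card_pos
  have hXle := Submodule.finrank_le (⨆ e : E, (Vx U ρ χ0).map (ρ (e : G)))
  rw [Nat.card_eq_fintype_card] at hff
  -- dimension count
  have hf1 : finrank K ↥(fix ρ E) = 1 := by
    rcases Nat.lt_or_ge (finrank K ↥(fix ρ E)) 1 with h | h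
    · exfalso
      have : finrank K ↥(fix ρ E) = 0 := by omega
      rw [this, mul_zero] at hff
      exact hV hff
    · omega
  rw [hf1, mul_one] at hff
  have hW1 : finrank K ↥(Vx U ρ χ0) = 1 := by
    by_contra hne
    have h2 : 2 ≤ finrank K ↥(Vx U ρ χ0) := by omega
    have : Fintype.card E * 2 ≤ Fintype.card E * finrank K ↥(Vx U ρ χ0) :=
      Nat.mul_le_mul_left _ h2
    omega
  have hXtop : (⨆ e : E, (Vx U ρ χ0).map (ρ (e : G))) = ⊤ := by
    apply Submodule.eq_top_of_finrank_eq
    rw [hX1, hW1, mul_one, hff]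
  -- commutation on each line
  intro x hx y hy
  have hcomm : ∀ v ∈ (⨆ e : E, (Vx U ρ χ0).map (ρ (e : G))), ρ x (ρ y v) = ρ y (ρ x v) := by
    intro v hv
    induction hv using Submodule.iSup_induction' with
    | mem e v hv =>
      have hLe : finrank K ↥((Vx U ρ χ0).map (ρ (e : G))) = 1 := by
        rw [← hW1]
        exact LinearEquiv.finrank_eq
          (Submodule.equivMapOfInjective (ρ (e : G)) (rho_injective ρ _) (Vx U ρ χ0)).symm
      have hinv : ∀ u ∈ U, ∀ w ∈ (Vx U ρ χ0).map (ρ (e : G)), ρ u w ∈ (Vx U ρ χ0).map (ρ (e : G)) := by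
        intro u hu w hw
        rw [map_Vx U ρ hU] at hw ⊢
        exact Vx_U_invariant U ρ hU hu _ hw
      exact commute_on_line _ hLe (ρ x) (ρ y) (hinv x hx) (hinv y hy) hv
    | zero => simp
    | add v w _ _ hv hw => rw [map_add, map_add, map_add, map_add, hv, hw]
  apply LinearMap.ext
  intro v
  rw [rho_mul_apply, rho_mul_apply]
  exact hcomm v (by rw [hXtop]; trivial)

end Cfsg.Agent.Lib.Lead.FF
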