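import Mathlib
import Cfsg.Agent.Lib.Lead.FF16
import Cfsg.Agent.Lib.Lead.FF10

set_option autoImplicit false

universe u v w

namespace Cfsg.Agent.Lib.Lead.FF

open Module TensorProduct

section closed

variable {G : Type w} [Group G] [Finite G] (U E : Subgroup G) [U.Normal]
variable {K : Type u} [Field K]

theorem one_dim_closed [IsAlgClosed K]
    (hfpf : ∀ e ∈ E, e ≠ 1 → ∀ u ∈ U, e * u = u * e → u = 1)
    (hG : ∀ g : G, ∃ u ∈ U, ∃ e ∈ E, g = u * e) (hU : (Nat.card U : K) ≠ 0)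
    {V : Type v} [AddCommGroup V] [Module K V] [FiniteDimensional K V]
    (ρ : G →* Module.End K V) (h1 : finrank K ↥(fix ρ E) ≤ 1) :
    ∀ a ∈ U, ∀ b ∈ U, ρ (a * b) = ρ (b * a) := by
  classical
  haveI : Fintype G := Fintype.ofFinite G
  haveI : Fintype U := Fintype.ofFinite U
  have hU' : (Fintype.card U : K) ≠ 0 := by rwa [Nat.card_eq_fintype_card] at hU
  have hcompl := isCompl_fix_ker_nrm ρ U hU'
  have hWG : ∀ g : G, ∀ y ∈ LinearMap.ker (nrm ρ U), ρ g y ∈ LinearMap.ker (nrm ρ U) := by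
    intro g y hy
    rw [LinearMap.mem_ker] at hy ⊢
    rw [nrm_rho, hy, map_zero]
  have hWfix : fix (res ρ _ hWG) U = ⊥ := by
    rw [fix_res, eq_bot_iff]
    intro y hy
    rw [Submodule.mem_comap] at hy
    have : (y : V) ∈ fix ρ U ⊓ LinearMap.ker (nrm ρ U) := ⟨hy, y.2⟩
    rw [hcompl.inf_eq_bot, Submodule.mem_bot] at this
    rw [Submodule.mem_bot]
    exact Subtype.ext this
  have hW1 : finrank K ↥(fix (res ρ _ hWG) E) ≤ 1 := by
    rw [finrank_fix_res]
    exact le_trans (Submodule.finrank_mono inf_le_right) h1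
  have hW := one_dim_core U E hfpf hG hU (res ρ _ hWG) hWfix hW1
  intro a ha b hb
  apply LinearMap.ext
  intro v
  have hv : v ∈ fix ρ U ⊔ LinearMap.ker (nrm ρ U) := by
    rw [hcompl.sup_eq_top]
    trivial
  obtain ⟨x, hx, y, hy, rfl⟩ := Submodule.mem_sup.mp hv
  rw [map_add, map_add]
  congr 1
  · rw [hx _ (U.mul_mem ha hb), hx _ (U.mul_mem hb ha)]
  · have := LinearMap.congr_fun (hW a ha b hb) ⟨y, hy⟩
    exact congrArg Subtype.val this

end closed

section field

variable {G : Type w} [Group G] [Finite G] (U E : Subgroup G) [U.Normal]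
variable {F : Type u} [Field F] {V : Type v} [AddCommGroup V] [Module F V]

theorem eq_of_baseChange_eq [FiniteDimensional F V] (K : Type u) [Field K] [Algebra F K]
    (S T : Module.End F V) (h : S.baseChange K = T.baseChange K) : S = T := by
  have h0 : (S - T).baseChange K = 0 := by
    rw [LinearMap.baseChange_sub, h]
    exact sub_self (T.baseChange K)
  have h1 := finrank_ker_baseChange K (S - T)
  rw [h0, LinearMap.ker_zero, finrank_top, Module.finrank_baseChange] at h1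
  have h2 : LinearMap.ker (S - T) = ⊤ := Submodule.eq_top_of_finrank_eq h1.symm
  have h3 : S - T = 0 := LinearMap.ker_eq_top.mp h2
  exact sub_eq_zero.mp h3

theorem one_dim_field [FiniteDimensional F V]
    (hfpf : ∀ e ∈ E, e ≠ 1 → ∀ u ∈ U, e * u = u * e → u = 1)
    (hG : ∀ g : G, ∃ u ∈ U, ∃ e ∈ E, g = u * e)
    (ρ : G →* Module.End F V) (hU : (Nat.card U : F) ≠ 0) (hE : (Nat.card E : F) ≠ 0)
    (h1 : finrank F ↥(fix ρ E) ≤ 1) :
    ∀ a ∈ U, ∀ b ∈ U, ρ (a * b) = ρ (b * a) := by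
  classical
  haveI : Fintype G := Fintype.ofFinite G
  let K := AlgebraicClosure F
  have hUK : (Nat.card U : K) ≠ 0 := by
    intro h
    apply hU
    have : algebraMap F K (Nat.card U : F) = 0 := by rw [map_natCast]; exact h
    exact (map_eq_zero _).mp this
  rw [Nat.card_eq_fintype_card] at hE
  have h1K : finrank K ↥(fix (bc K ρ) E) ≤ 1 := by
    rw [finrank_fix_bc K ρ E hE]
    exact h1
  have := one_dim_closed U E hfpf hG hUK (bc K ρ) h1K
  intro a ha b hb
  exact eq_of_baseChange_eq K _ _ (this a ha b hb)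

end field

section elem

variable {B : Type w} [Group B] [Finite B]
variable {Q : Type u} [CommGroup Q] [Finite Q]
variable (ℓ : ℕ) [Fact ℓ.Prime] (hexp : ∀ q : Q, q ^ ℓ = 1)

include hexp in
theorem one_dim_elem (U E : Subgroup B) [U.Normal]
    (hfpf : ∀ e ∈ E, e ≠ 1 → ∀ u ∈ U, e * u = u * e → u = 1)
    (hG : ∀ g : B, ∃ u ∈ U, ∃ e ∈ E, g = u * e)
    (φ : B →* MulAut Q) (hU : ¬ ℓ ∣ Nat.card U) (hE : ¬ ℓ ∣ Nat.card E)
    (h1 : Nat.card ↥(FP φ E) ≤ ℓ) :
    ∀ a ∈ U, ∀ b ∈ U, φ (a * b) = φ (b * a) := by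
  classical
  have hU' : (Nat.card U : ZMod ℓ) ≠ 0 := by
    rw [Ne, ZMod.natCast_eq_zero_iff]
    exact hU
  have hE' : (Nat.card E : ZMod ℓ) ≠ 0 := by
    rw [Ne, ZMod.natCast_eq_zero_iff]
    exact hE
  have hf : finrank (ZMod ℓ) ↥(fix (linRep ℓ hexp φ) E) ≤ 1 := by
    rw [card_fix_pow ℓ hexp φ E] at h1
    have hℓ1 : 1 < ℓ := (Fact.out : ℓ.Prime).one_lt
    by_contra hcon
    push Not at hcon
    have : ℓ ^ 2 ≤ ℓ ^ finrank (ZMod ℓ) ↥(fix (linRep ℓ hexp φ) E) :=
      Nat.pow_le_pow_right (by omega) hcon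
    have h3 : ℓ ^ 2 ≤ ℓ := this.trans h1
    nlinarith
  have key := one_dim_field U E hfpf hG (linRep ℓ hexp φ) hU' hE' hf
  intro a ha b hb
  apply MulEquiv.ext
  intro q
  have := LinearMap.congr_fun (key a ha b hb) (EA.mk ℓ hexp q)
  rw [linRep_apply, linRep_apply] at this
  exact this

end elem

end Cfsg.Agent.Lib.Lead.FF
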