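import Mathlib
import Cfsg.Agent.Lib.Lead.FF17
import Cfsg.Agent.Lib.Lead.FF13

set_option autoImplicit false

universe u

namespace Cfsg.Agent.Lib.Lead.FF

open Cfsg.Agent.Lib.Lead

variable {X : Type u} [Group X] [Finite X]

/-- On an elementary abelian section on which the complement has at most `ℓ` fixed points,
the derived subgroup of the kernel acts trivially. -/
theorem comm_trivial_on_section (ℓ : ℕ) [Fact ℓ.Prime] (H M U E : Subgroup X) (hMH : M ≤ H)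
    (hHM : H ≤ Subgroup.normalizer (M : Set X))
    (hBH : U ⊔ E ≤ Subgroup.normalizer (H : Set X))
    (hBM : U ⊔ E ≤ Subgroup.normalizer (M : Set X))
    (hcomm : ∀ a ∈ H, ∀ b ∈ H, a⁻¹ * b⁻¹ * a * b ∈ M) (hexp : ∀ h ∈ H, h ^ ℓ ∈ M)
    (hEU : E ≤ Subgroup.normalizer (U : Set X))
    (hfpf : ∀ e ∈ E, e ≠ 1 → ∀ u ∈ U, e * u = u * e → u = 1)
    (hcop : (Nat.card ↥(U ⊔ E)).Coprime (Nat.card H)) (hsolv : Group.IsSolvable H)
    (hℓU : ¬ ℓ ∣ Nat.card U) (hℓE : ¬ ℓ ∣ Nat.card E)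
    (h1 : Nat.card ↥((H ⊓ Subgroup.centralizer (E : Set X)) ⊔ M) ≤ ℓ * Nat.card M) :
    ∀ k ∈ ⁅U, U⁆, ∀ h ∈ H, k * h * k⁻¹ * h⁻¹ ∈ M := by
  classical
  haveI : (M.subgroupOf H).Normal := Subgroup.normal_subgroupOf_of_le_normalizer hHM
  letI : CommGroup (↥H ⧸ M.subgroupOf H) := secComm H M hcomm
  have hBU : U ⊔ E ≤ Subgroup.normalizer (U : Set X) := sup_le Subgroup.le_normalizer hEU
  haveI : (U.subgroupOf (U ⊔ E)).Normal := Subgroup.normal_subgroupOf_of_le_normalizer hBU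
  have hfpf' : ∀ e ∈ E.subgroupOf (U ⊔ E), e ≠ 1 → ∀ u ∈ U.subgroupOf (U ⊔ E),
      e * u = u * e → u = 1 := by
    intro e he he1 u hu heu
    rw [Subgroup.mem_subgroupOf] at he hu
    apply Subtype.ext
    apply hfpf e he (fun h => he1 (Subtype.ext h)) u hu
    have := congrArg Subtype.val heu
    simpa using this
  have hG' : ∀ g : ↥(U ⊔ E), ∃ u ∈ U.subgroupOf (U ⊔ E), ∃ e ∈ E.subgroupOf (U ⊔ E),
      g = u * e := by
    intro g
    obtain ⟨u, hu, e, he, hg⟩ := exists_mul_of_mem_sup_n hEU g.2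
    refine ⟨⟨u, Subgroup.mem_sup_left hu⟩, by rw [Subgroup.mem_subgroupOf]; exact hu,
      ⟨e, Subgroup.mem_sup_right he⟩, by rw [Subgroup.mem_subgroupOf]; exact he, ?_⟩
    apply Subtype.ext
    simpa using hg
  have hcU : Nat.card ↥(U.subgroupOf (U ⊔ E)) = Nat.card U := card_subgroupOf_of_le le_sup_left
  have hcE : Nat.card ↥(E.subgroupOf (U ⊔ E)) = Nat.card E := card_subgroupOf_of_le le_sup_right
  have hcopE : (Nat.card E).Coprime (Nat.card H) :=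
    Nat.Coprime.coprime_dvd_left (Subgroup.card_dvd_of_le le_sup_right) hcop
  have hFP : Nat.card ↥(FP (secAct H M (U ⊔ E) hBH hBM) (E.subgroupOf (U ⊔ E))) ≤ ℓ := by
    have h2 : Nat.card ↥((H ⊓ Subgroup.centralizer (E : Set X)) ⊔ M) =
        Nat.card M * Nat.card ↥(FP (secAct H M (U ⊔ E) hBH hBM) (E.subgroupOf (U ⊔ E))) := by
      rw [← preimage_FP_eq H M (U ⊔ E) hMH hHM hBH hBM E le_sup_right hcopE (Or.inr hsolv),
        card_preimage_sec H M hMH]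
    rw [h2, mul_comm ℓ] at h1
    exact Nat.le_of_mul_le_mul_left h1 Nat.card_pos
  have key := one_dim_elem ℓ (sec_exp H M ℓ hexp) (U.subgroupOf (U ⊔ E)) (E.subgroupOf (U ⊔ E))
    hfpf' hG' (secAct H M (U ⊔ E) hBH hBM) (by rw [hcU]; exact hℓU) (by rw [hcE]; exact hℓE) hFP
  -- the commutator subgroup lies in the kernel of the action on the section
  have hker : ⁅U.subgroupOf (U ⊔ E), U.subgroupOf (U ⊔ E)⁆ ≤
      (secAct H M (U ⊔ E) hBH hBM).ker := by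
    rw [Subgroup.commutator_le]
    intro a ha b hb
    rw [MonoidHom.mem_ker, commutatorElement_def]
    have h3 : a * b * a⁻¹ * b⁻¹ = (a * b) * (b * a)⁻¹ := by group
    rw [h3, map_mul, map_inv, key a ha b hb, mul_inv_cancel]
  intro k hk h hh
  have hk' : k ∈ (⁅U.subgroupOf (U ⊔ E), U.subgroupOf (U ⊔ E)⁆).map (U ⊔ E).subtype := by
    rw [Subgroup.map_commutator, Subgroup.map_subgroupOf_eq_of_le le_sup_left]
    exact hk
  obtain ⟨k', hk'c, rfl⟩ := hk'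
  have h4 := hker hk'c
  rw [MonoidHom.mem_ker] at h4
  have h5 := MulEquiv.congr_fun h4 (QuotientGroup.mk ⟨h, hh⟩)
  rw [secAct_mk, MulAut.one_apply] at h5
  have h6 := (QuotientGroup.eq.mp h5.symm)
  rw [Subgroup.mem_subgroupOf] at h6
  have h7 : (((⟨h, hh⟩ : H)⁻¹ * (conjAct H (U ⊔ E) hBH k' ⟨h, hh⟩) : H) : X) =
      h⁻¹ * ((k' : X) * h * (k' : X)⁻¹) := rfl
  rw [h7] at h6
  have h8 := (Subgroup.mem_normalizer_iff.mp (hHM hh) _).mp h6
  have h9 : h * (h⁻¹ * ((k' : X) * h * (k' : X)⁻¹)) * h⁻¹ = (k' : X) * h * (k' : X)⁻¹ * h⁻¹ := by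
    group
  rw [h9] at h8
  exact h8

end Cfsg.Agent.Lib.Lead.FF
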