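import Mathlib
import Cfsg.Agent.Lib.Lead.FF19
import Cfsg.Agent.Lib.Lead.FF15
import Cfsg.Agent.Lib.Lead.Frattini
import Cfsg.Agent.Lib.Lead.CoprimeFrattini

set_option autoImplicit false

universe u

open scoped commutatorElement

namespace Cfsg.Agent.Lib.Lead.FF

open Cfsg.Agent.Lib.Lead

variable {X : Type u} [Group X] [Finite X]

/-- a cyclic subgroup whose `ℓ`-th powers lie in `Φ` has small image modulo `Φ` -/
theorem card_sup_le_of_cyclic (ℓ : ℕ) (hℓ : 0 < ℓ) (C Φ : Subgroup X) (hC : IsCyclic C)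
    (hCΦ : C ≤ Subgroup.normalizer (Φ : Set X)) (hpow : ∀ c ∈ C, c ^ ℓ ∈ Φ) :
    Nat.card ↥(C ⊔ Φ) ≤ ℓ * Nat.card Φ := by
  classical
  obtain ⟨⟨c, hcC⟩, hgen⟩ := hC.exists_generator
  have hcard : Nat.card C = orderOf c := by
    have h1 : Nat.card C = orderOf (⟨c, hcC⟩ : C) := by
      rw [← Nat.card_zpowers]
      have : Subgroup.zpowers (⟨c, hcC⟩ : C) = ⊤ := by
        rw [eq_top_iff]
        intro x _
        exact hgen x
      rw [this, Subgroup.card_top]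
    rw [h1]
    exact Subgroup.orderOf_mk c hcC
  have hz : Subgroup.zpowers (c ^ ℓ) ≤ C ⊓ Φ := by
    rw [Subgroup.zpowers_le]
    exact ⟨C.pow_mem hcC ℓ, hpow c hcC⟩
  have h2 : orderOf (c ^ ℓ) ≤ Nat.card ↥(C ⊓ Φ) := by
    rw [← Nat.card_zpowers]
    exact Subgroup.card_le_of_le hz
  have h3 : orderOf c ≤ ℓ * orderOf (c ^ ℓ) := by
    rw [orderOf_pow]
    have hg : Nat.gcd (orderOf c) ℓ ∣ orderOf c := Nat.gcd_dvd_left _ _
    have hgl : Nat.gcd (orderOf c) ℓ ≤ ℓ := Nat.le_of_dvd hℓ (Nat.gcd_dvd_right _ _)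
    have h0 : orderOf c / Nat.gcd (orderOf c) ℓ * Nat.gcd (orderOf c) ℓ = orderOf c :=
      Nat.div_mul_cancel hg
    calc orderOf c = orderOf c / Nat.gcd (orderOf c) ℓ * Nat.gcd (orderOf c) ℓ := h0.symm
      _ ≤ orderOf c / Nat.gcd (orderOf c) ℓ * ℓ := Nat.mul_le_mul_left _ hgl
      _ = ℓ * (orderOf c / Nat.gcd (orderOf c) ℓ) := mul_comm _ _
  have h4 := card_sup_mul_card_inf C Φ hCΦ
  have hpos : 0 < Nat.card ↥(C ⊓ Φ) := Nat.card_pos
  have h5 : Nat.card ↥(C ⊔ Φ) * Nat.card ↥(C ⊓ Φ) ≤ ℓ * Nat.card Φ * Nat.card ↥(C ⊓ Φ) := by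
    rw [h4, hcard]
    calc orderOf c * Nat.card Φ ≤ ℓ * orderOf (c ^ ℓ) * Nat.card Φ := Nat.mul_le_mul_right _ h3
      _ ≤ ℓ * Nat.card ↥(C ⊓ Φ) * Nat.card Φ :=
        Nat.mul_le_mul_right _ (Nat.mul_le_mul_left _ h2)
      _ = ℓ * Nat.card Φ * Nat.card ↥(C ⊓ Φ) := by ring
  exact Nat.le_of_mul_le_mul_right h5 hpos

end Cfsg.Agent.Lib.Lead.FF

namespace Cfsg.Agent.Lib.Lead.FF

open Cfsg.Agent.Lib.Lead

variable {X : Type u} [Group X] [Finite X]

theorem commutator_self_le (K : Subgroup X) : ⁅K, K⁆ ≤ K := by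
  rw [Subgroup.commutator_le]
  intro a ha b hb
  rw [commutatorElement_def]
  exact K.mul_mem (K.mul_mem (K.mul_mem ha hb) (K.inv_mem ha)) (K.inv_mem hb)

/-- the derived subgroup of the Frobenius kernel centralizes an invariant `ℓ`-subgroup on which
the complement has cyclic fixed points -/
theorem comm_centralizes_pgroup (ℓ : ℕ) [Fact ℓ.Prime] (K R P : Subgroup X) (hP : IsPGroup ℓ P)
    (hRK : R ≤ Subgroup.normalizer (K : Set X))
    (hfpf : ∀ e ∈ R, e ≠ 1 → ∀ u ∈ K, e * u = u * e → u = 1)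
    (hBP : K ⊔ R ≤ Subgroup.normalizer (P : Set X))
    (hcop : (Nat.card ↥(K ⊔ R)).Coprime (Nat.card P))
    (hcyc : IsCyclic ↥(P ⊓ Subgroup.centralizer (R : Set X))) :
    ⁅K, K⁆ ≤ Subgroup.centralizer (P : Set X) := by
  classical
  by_cases hPbot : P = ⊥
  · subst hPbot
    intro k _
    rw [Subgroup.mem_centralizer_iff]
    intro h hh
    rw [Subgroup.coe_bot, Set.mem_singleton_iff] at hh
    subst hh
    simp
  have hℓ : ℓ.Prime := Fact.out
  have hℓP : ℓ ∣ Nat.card P := by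
    obtain ⟨n, hn⟩ := IsPGroup.iff_card.mp hP
    rw [hn]
    have hn0 : n ≠ 0 := by
      rintro rfl
      rw [pow_zero] at hn
      exact hPbot (Subgroup.card_eq_one.mp hn)
    exact dvd_pow_self ℓ hn0
  have hℓB : ¬ ℓ ∣ Nat.card ↥(K ⊔ R) := by
    intro h
    have := Nat.Coprime.eq_one_of_dvd (hcop.symm.coprime_dvd_left hℓP) h
    exact hℓ.one_lt.ne' this
  have hℓK : ¬ ℓ ∣ Nat.card K := fun h => hℓB (h.trans (Subgroup.card_dvd_of_le le_sup_left))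
  have hℓR : ¬ ℓ ∣ Nat.card R := fun h => hℓB (h.trans (Subgroup.card_dvd_of_le le_sup_right))
  set Φ : Subgroup X := (frattini ↥P).map P.subtype with hΦ
  have hΦP : Φ ≤ P := Subgroup.map_subtype_le _
  have hNΦ : Subgroup.normalizer (P : Set X) ≤ Subgroup.normalizer (Φ : Set X) :=
    le_normalizer_map_characteristic P (frattini ↥P)
  have hPΦ : P ≤ Subgroup.normalizer (Φ : Set X) := Subgroup.le_normalizer.trans hNΦ
  have hcomm : ∀ a ∈ P, ∀ b ∈ P, a⁻¹ * b⁻¹ * a * b ∈ Φ := by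
    intro a ha b hb
    refine ⟨⁅(⟨a, ha⟩ : P)⁻¹, (⟨b, hb⟩ : P)⁻¹⁆, ?_, ?_⟩
    · apply commutator_le_frattini_of_isPGroup hP
      exact Subgroup.commutator_mem_commutator (Subgroup.mem_top _) (Subgroup.mem_top _)
    · rw [commutatorElement_def]
      simp
  have hexp : ∀ h ∈ P, h ^ ℓ ∈ Φ := by
    intro h hh
    exact ⟨⟨h, hh⟩ ^ ℓ, pow_mem_frattini_of_isPGroup hP _, rfl⟩
  haveI : Group.IsNilpotent ↥P := hP.isNilpotent
  have hPsolv : Group.IsSolvable ↥P := inferInstance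
  have h1 : Nat.card ↥((P ⊓ Subgroup.centralizer (R : Set X)) ⊔ Φ) ≤ ℓ * Nat.card Φ :=
    card_sup_le_of_cyclic ℓ hℓ.pos _ Φ hcyc (inf_le_left.trans hPΦ)
      (fun c hc => hexp c hc.1)
  have htriv := comm_trivial_on_section ℓ P Φ K R hΦP hPΦ hBP (hBP.trans hNΦ) hcomm hexp hRK hfpf
    hcop hPsolv hℓK hℓR h1
  have hKK : ⁅K, K⁆ ≤ K ⊔ R := (commutator_self_le K).trans le_sup_left
  apply coprime_trivial_on_frattini_quotient ⁅K, K⁆ P (hKK.trans hBP)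
  · have h2 : Nat.card (frattini ↥P) ∣ Nat.card P := Subgroup.card_subgroup_dvd_card _
    exact Nat.Coprime.coprime_dvd_left (Subgroup.card_dvd_of_le hKK)
      (Nat.Coprime.coprime_dvd_right h2 hcop)
  · exact htriv

end Cfsg.Agent.Lib.Lead.FF
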