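import Mathlib
import Cfsg.Agent.Lib.Lead.FF20

set_option autoImplicit false

universe u

open scoped commutatorElement

namespace Cfsg.Agent.Lib.Lead.FF

open Cfsg.Agent.Lib.Lead

variable {X : Type u} [Group X] [Finite X]

theorem inf_centralizer_zpowers (M : Subgroup X) (x : X) :
    M ⊓ Subgroup.centralizer ((Subgroup.zpowers x : Subgroup X) : Set X) =
      M ⊓ Subgroup.centralizer ({x} : Set X) := by
  apply le_antisymm
  · apply inf_le_inf_left
    apply Subgroup.centralizer_le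
    intro y hy
    rw [Set.mem_singleton_iff] at hy
    subst hy
    exact Subgroup.mem_zpowers y
  · rintro m ⟨hmM, hmc⟩
    refine ⟨hmM, ?_⟩
    show m ∈ Subgroup.centralizer ((Subgroup.zpowers x : Subgroup X) : Set X)
    rw [Subgroup.mem_centralizer_iff]
    rintro _ ⟨n, rfl⟩
    have hmc' : m ∈ Subgroup.centralizer ({x} : Set X) := hmc
    have h1 : x * m = m * x := (Subgroup.mem_centralizer_singleton_iff.mp hmc').symm
    have h2 : Commute x m := h1
    exact (h2.zpow_left n).eq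

theorem s1446 (K R M : Subgroup X) (hR1 : R ≠ ⊥)
    (hRK : R ≤ Subgroup.normalizer (K : Set X))
    (hfrob : ∀ r ∈ R, r ≠ 1 → K ⊓ Subgroup.centralizer ({r} : Set X) = ⊥)
    (hM1 : M ≠ ⊥) (hMn : Group.IsNilpotent M) (hKM : K ≤ Subgroup.normalizer (M : Set X))
    (hRM : R ≤ Subgroup.normalizer (M : Set X))
    (hcop : (Nat.card ↥(K ⊔ R)).Coprime (Nat.card M))
    (hCK : M ⊓ Subgroup.centralizer (K : Set X) = ⊥)
    (hpr : ∀ x ∈ R, x ≠ 1 →
      M ⊓ Subgroup.centralizer ({x} : Set X) = M ⊓ Subgroup.centralizer (R : Set X)) :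
    (Nat.card R).Prime ∧
      Nat.card M = Nat.card ↥(M ⊓ Subgroup.centralizer (R : Set X)) ^ Nat.card R ∧
      (IsCyclic ↥(M ⊓ Subgroup.centralizer (R : Set X)) →
        ⁅K, K⁆ ≤ Subgroup.centralizer (M : Set X)) := by
  classical
  have hfpf : ∀ e ∈ R, e ≠ 1 → ∀ u ∈ K, e * u = u * e → u = 1 := by
    intro e he he1 u hu heu
    have : u ∈ K ⊓ Subgroup.centralizer ({e} : Set X) :=
      ⟨hu, Subgroup.mem_centralizer_singleton_iff.mpr heu.symm⟩
    rw [hfrob e he he1, Subgroup.mem_bot] at this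
    exact this
  have hBM : K ⊔ R ≤ Subgroup.normalizer (M : Set X) := sup_le hKM hRM
  haveI := hMn
  have hMsolv : Group.IsSolvable M := inferInstance
  -- the formula for `R`
  have hCB : Nat.card ↥(M ⊓ Subgroup.centralizer ((K ⊔ R : Subgroup X) : Set X)) = 1 := by
    rw [Subgroup.card_eq_one, eq_bot_iff, ← hCK]
    exact inf_le_inf_left _ (Subgroup.centralizer_le (by exact_mod_cast (le_sup_left : K ≤ K ⊔ R)))
  have hCK1 : Nat.card ↥(M ⊓ Subgroup.centralizer (K : Set X)) = 1 := by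
    rw [hCK, Subgroup.card_bot]
  have f1 := ff_solvable K R hRK hfpf _ M rfl hBM hMsolv hcop
  rw [hCB, hCK1, one_pow, one_mul, mul_one] at f1
  -- an element of prime order
  have hcard : Nat.card R ≠ 1 := fun h1 => hR1 (Subgroup.card_eq_one.mp h1)
  obtain ⟨p, hp, hpd⟩ := Nat.exists_prime_and_dvd hcard
  haveI : Fact p.Prime := ⟨hp⟩
  obtain ⟨⟨x, hxR⟩, hxo⟩ := exists_prime_orderOf_dvd_card' p hpd
  have hxo' : orderOf x = p := by
    rw [← hxo]
    exact (Subgroup.orderOf_mk x hxR).symm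
  have hx1 : x ≠ 1 := by
    intro h
    rw [h, orderOf_one] at hxo'
    exact hp.one_lt.ne hxo'
  have hZR : Subgroup.zpowers x ≤ R := by
    rw [Subgroup.zpowers_le]
    exact hxR
  have hB0 : K ⊔ Subgroup.zpowers x ≤ K ⊔ R := sup_le_sup_left hZR K
  have hcop0 : (Nat.card ↥(K ⊔ Subgroup.zpowers x)).Coprime (Nat.card M) :=
    Nat.Coprime.coprime_dvd_left (Subgroup.card_dvd_of_le hB0) hcop
  have hCB0 : Nat.card ↥(M ⊓ Subgroup.centralizer ((K ⊔ Subgroup.zpowers x : Subgroup X) : Set X))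
      = 1 := by
    rw [Subgroup.card_eq_one, eq_bot_iff, ← hCK]
    exact inf_le_inf_left _ (Subgroup.centralizer_le
      (by exact_mod_cast (le_sup_left : K ≤ K ⊔ Subgroup.zpowers x)))
  have f2 := ff_solvable K (Subgroup.zpowers x) (hZR.trans hRK)
    (fun e he he1 u hu heu => hfpf e (hZR he) he1 u hu heu) _ M rfl (hB0.trans hBM) hMsolv hcop0
  rw [hCB0, hCK1, one_pow, one_mul, mul_one, inf_centralizer_zpowers, hpr x hxR hx1,
    Nat.card_zpowers, hxo'] at f2
  -- compare exponents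
  have hMcard : 2 ≤ Nat.card M := by
    have h0 : Nat.card M ≠ 1 := fun h => hM1 (Subgroup.card_eq_one.mp h)
    have : 0 < Nat.card M := Nat.card_pos
    omega
  have hc2 : 2 ≤ Nat.card ↥(M ⊓ Subgroup.centralizer (R : Set X)) := by
    by_contra hcon
    push Not at hcon
    have hpos : 0 < Nat.card ↥(M ⊓ Subgroup.centralizer (R : Set X)) := Nat.card_pos
    have h1 : Nat.card ↥(M ⊓ Subgroup.centralizer (R : Set X)) = 1 := by omega
    rw [h1, one_pow] at f1
    omega
  have hRp : Nat.card R = p := by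
    have := f1.symm.trans f2
    exact Nat.pow_right_injective hc2 this
  refine ⟨hRp ▸ hp, f1, ?_⟩
  -- the third part
  intro hcyc
  rw [Subgroup.le_centralizer_iff]
  -- `T = C_M(K')` has order divisible by `|M|`
  have hdvd : Nat.card M ∣ Nat.card ↥(M ⊓ Subgroup.centralizer ((⁅K, K⁆ : Subgroup X) : Set X)) := by
    rw [← Nat.factorization_prime_le_iff_dvd Nat.card_pos.ne' Nat.card_pos.ne']
    intro ℓ hℓ
    haveI : Fact ℓ.Prime := ⟨hℓ⟩
    obtain ⟨P0⟩ : Nonempty (Sylow ℓ ↥M) := inferInstance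
    haveI : (P0 : Subgroup ↥M).Characteristic := Sylow.characteristic_of_normal P0 inferInstance
    set P : Subgroup X := (P0 : Subgroup ↥M).map M.subtype with hPdef
    have hPM : P ≤ M := Subgroup.map_subtype_le _
    have hPp : IsPGroup ℓ P := P0.isPGroup'.map M.subtype
    have hNP : Subgroup.normalizer (M : Set X) ≤ Subgroup.normalizer (P : Set X) :=
      le_normalizer_map_characteristic M (P0 : Subgroup ↥M)
    have hPcard : Nat.card P = ℓ ^ (Nat.card M).factorization ℓ := by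
      rw [← P0.card_eq_multiplicity]
      exact (Nat.card_congr (Subgroup.equivMapOfInjective _ M.subtype
        M.subtype_injective).toEquiv).symm
    have hPcyc : IsCyclic ↥(P ⊓ Subgroup.centralizer (R : Set X)) := by
      haveI := hcyc
      exact Subgroup.isCyclic_of_le (inf_le_inf_right _ hPM)
    have hcen := comm_centralizes_pgroup ℓ K R P hPp hRK hfpf (hBM.trans hNP)
      (Nat.Coprime.coprime_dvd_right (Subgroup.card_dvd_of_le hPM) hcop) hPcyc
    have hPT : P ≤ M ⊓ Subgroup.centralizer ((⁅K, K⁆ : Subgroup X) : Set X) :=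
      le_inf hPM (Subgroup.le_centralizer_iff.mp hcen)
    have h3 : ℓ ^ (Nat.card M).factorization ℓ ∣
        Nat.card ↥(M ⊓ Subgroup.centralizer ((⁅K, K⁆ : Subgroup X) : Set X)) := by
      rw [← hPcard]
      exact Subgroup.card_dvd_of_le hPT
    exact (hℓ.pow_dvd_iff_le_factorization Nat.card_pos.ne').mp h3
  have hle : Nat.card M ≤ Nat.card ↥(M ⊓ Subgroup.centralizer ((⁅K, K⁆ : Subgroup X) : Set X)) :=
    Nat.le_of_dvd Nat.card_pos hdvd
  have heq : M ⊓ Subgroup.centralizer ((⁅K, K⁆ : Subgroup X) : Set X) = M :=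
    Subgroup.eq_of_le_of_card_ge inf_le_left hle
  rw [← heq]
  exact inf_le_right

end Cfsg.Agent.Lib.Lead.FF
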