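import Mathlib
import Cfsg.Agent.Lib.Lead.GT12

set_option autoImplicit false

/-!
Thompson's normal `p`-complement theorem: the two-hypothesis reduction.  Basic definitions and the
transport of the hypotheses.
-/

namespace Cfsg.Agent.Lib.Lead

namespace Thom

open GT
open scoped Pointwise

universe u

/-- the centre of `D`, as a subgroup of the ambient group -/
def Zc {X : Type*} [Group X] (D : Subgroup X) : Subgroup X :=
  D ⊓ Subgroup.centralizer (D : Set X)

theorem Zc_le {X : Type*} [Group X] (D : Subgroup X) : Zc D ≤ D := inf_le_left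

theorem le_centralizer_Zc {X : Type*} [Group X] (D : Subgroup X) :
    D ≤ Subgroup.centralizer (Zc D : Set X) := by
  intro d hd
  rw [Subgroup.mem_centralizer_iff]
  intro z hz
  exact ((Subgroup.mem_centralizer_iff.mp hz.2) d hd).symm

theorem Zc_map_of_injOn {X Y : Type*} [Group X] [Group Y] (f : X →* Y) (D : Subgroup X)
    (hf : Set.InjOn f (D : Set X)) : Zc (D.map f) = (Zc D).map f := by
  apply le_antisymm
  · rintro _ ⟨⟨d, hd, rfl⟩, hc⟩
    refine ⟨d, ⟨hd, ?_⟩, rfl⟩
    show d ∈ Subgroup.centralizer (D : Set X)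
    rw [Subgroup.mem_centralizer_iff]
    intro e he
    have h1 := (Subgroup.mem_centralizer_iff.mp hc) (f e) ⟨e, he, rfl⟩
    rw [← map_mul, ← map_mul] at h1
    exact hf (D.mul_mem he hd) (D.mul_mem hd he) h1
  · rintro _ ⟨z, hz, rfl⟩
    refine ⟨⟨z, hz.1, rfl⟩, ?_⟩
    show f z ∈ Subgroup.centralizer ((D.map f : Subgroup Y) : Set Y)
    rw [Subgroup.mem_centralizer_iff]
    rintro _ ⟨e, he, rfl⟩
    rw [← map_mul, ← map_mul, (Subgroup.mem_centralizer_iff.mp hz.2) e he]

/-- the axioms of a Thompson-type functor -/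
structure IsJFunctor (p : ℕ) (J : ∀ (X : Type u) [Group X], Subgroup X → Subgroup X) : Prop where
  sec : IsSecFunctor p J
  mid : ∀ (X : Type u) [Group X] [Finite X] (D R : Subgroup X), IsPGroup p D → J X D ≤ R → R ≤ D →
    J X R = J X D

/-- the hypotheses of Thompson's theorem -/
def THyp (p : ℕ) (J : ∀ (X : Type u) [Group X], Subgroup X → Subgroup X) (X : Type u) [Group X]
    (T : Subgroup X) : Prop :=
  PNilp p (Subgroup.normalizer (J X T : Set X)) ∧ PNilp p (Subgroup.centralizer (Zc T : Set X))

section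

variable {p : ℕ} [hpf : Fact p.Prime] {J : ∀ (X : Type u) [Group X], Subgroup X → Subgroup X}

theorem map_centralizer_equiv {X Y : Type*} [Group X] [Group Y] (e : X ≃* Y) (A : Subgroup X) :
    (Subgroup.centralizer (A : Set X)).map e.toMonoidHom =
      Subgroup.centralizer ((A.map e.toMonoidHom : Subgroup Y) : Set Y) := by
  ext y
  constructor
  · rintro ⟨x, hx, rfl⟩
    rw [Subgroup.mem_centralizer_iff]
    rintro _ ⟨a, ha, rfl⟩
    show e a * e x = e x * e a
    rw [← map_mul, ← map_mul, (Subgroup.mem_centralizer_iff.mp hx) a ha]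
  · intro hy
    refine ⟨e.symm y, ?_, by simp⟩
    show e.symm y ∈ Subgroup.centralizer (A : Set X)
    rw [Subgroup.mem_centralizer_iff]
    intro a ha
    have h1 := (Subgroup.mem_centralizer_iff.mp hy) (e a) ⟨a, ha, rfl⟩
    apply e.injective
    rw [map_mul, map_mul, e.apply_symm_apply]
    exact h1

theorem pnilp_centralizer_equiv {X Y : Type u} [Group X] [Group Y] [Finite X] (e : X ≃* Y)
    (A : Subgroup X) (h : PNilp p (Subgroup.centralizer (A : Set X))) :
    PNilp p (Subgroup.centralizer ((A.map e.toMonoidHom : Subgroup Y) : Set Y)) := by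
  rw [← map_centralizer_equiv]
  exact h.of_equiv ((Subgroup.centralizer (A : Set X)).equivMapOfInjective e.toMonoidHom e.injective)

/-- transport along an isomorphism -/
theorem THyp.equiv (hJ : IsJFunctor p J) {X Y : Type u} [Group X] [Group Y] [Finite X] [Finite Y]
    (e : X ≃* Y) (T : Subgroup X) (hT : IsPGroup p T) (h : THyp p J X T) :
    THyp p J Y (T.map e.toMonoidHom) := by
  refine ⟨hJ.sec.pnilp_equiv e T hT h.1, ?_⟩
  rw [Zc_map_of_injOn e.toMonoidHom T (Set.injOn_of_injective e.injective)]
  exact pnilp_centralizer_equiv e _ h.2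

/-- restriction of the centralizer hypothesis -/
theorem pnilp_centralizer_restrict {X : Type u} [Group X] [Finite X] (M : Subgroup X)
    (D' : Subgroup M) (A : Subgroup X) (hA : A ≤ (Zc D').map M.subtype)
    (h : PNilp p (Subgroup.centralizer (A : Set X))) :
    PNilp p (Subgroup.centralizer (Zc D' : Set M)) := by
  let f : Subgroup.centralizer (Zc D' : Set M) →* Subgroup.centralizer (A : Set X) :=
    MonoidHom.codRestrict (M.subtype.comp (Subgroup.centralizer (Zc D' : Set M)).subtype) _
      (fun x => by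
        rw [Subgroup.mem_centralizer_iff]
        intro a ha
        obtain ⟨z, hz, rfl⟩ := hA ha
        have h1 := (Subgroup.mem_centralizer_iff.mp x.2) z hz
        exact congrArg Subtype.val h1)
  apply h.of_injective f
  intro x y hxy
  have := congrArg Subtype.val hxy
  exact Subtype.ext (Subtype.ext this)

/-- restriction to a subgroup containing `T` -/
theorem THyp.restrict (hJ : IsJFunctor p J) {X : Type u} [Group X] [Finite X]
    (T : Subgroup X) (hT : IsPGroup p T) (h : THyp p J X T) (M : Subgroup X) (hTM : T ≤ M) :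
    THyp p J M (T.subgroupOf M) := by
  have hTp : IsPGroup p (T.subgroupOf M) :=
    hT.comap_of_injective M.subtype M.subtype_injective
  refine ⟨?_, ?_⟩
  · apply hJ.sec.pnilp_restrict M (T.subgroupOf M) hTp
    rw [Subgroup.map_subgroupOf_eq_of_le hTM]
    exact h.1
  · apply pnilp_centralizer_restrict M (T.subgroupOf M) (Zc T) _ h.2
    rw [← Zc_map_of_injOn M.subtype (T.subgroupOf M) (Set.injOn_of_injective M.subtype_injective),
      Subgroup.map_subgroupOf_eq_of_le hTM]

/-- centralizers of `p`-subgroups in a quotient by a normal `p'`-subgroup -/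
theorem centralizer_map_mk {X : Type u} [Group X] [Finite X] (R : Subgroup X) [hR : R.Normal]
    (hRc : (Nat.card R).Coprime p) (U : Subgroup X) (hU : IsPGroup p U) :
    Subgroup.centralizer ((U.map (QuotientGroup.mk' R) : Subgroup (X ⧸ R)) : Set (X ⧸ R)) =
      (Subgroup.centralizer (U : Set X)).map (QuotientGroup.mk' R) := by
  apply le_antisymm
  · intro gb hgb
    have hgbN : gb ∈ Subgroup.normalizer ((U.map (QuotientGroup.mk' R) : Subgroup (X ⧸ R)) :
        Set (X ⧸ R)) := Subgroup.centralizer_le_normalizer _ hgb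
    rw [normalizer_map_mk R hRc U hU] at hgbN
    obtain ⟨g, hg, rfl⟩ := hgbN
    refine ⟨g, ?_, rfl⟩
    show g ∈ Subgroup.centralizer (U : Set X)
    rw [Subgroup.mem_centralizer_iff]
    intro u hu
    have hinj := injOn_mk_of_coprime R hRc U hU
    have h1 : g * u * g⁻¹ ∈ U := (Subgroup.mem_normalizer_iff.mp hg u).mp hu
    have h2 := (Subgroup.mem_centralizer_iff.mp hgb) (QuotientGroup.mk' R u) ⟨u, hu, rfl⟩
    have h3 : QuotientGroup.mk' R (g * u * g⁻¹) = QuotientGroup.mk' R u := by
      rw [map_mul, map_mul, ← h2, map_inv, mul_inv_cancel_right]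
    have h4 := hinj h1 hu h3
    calc u * g = (g * u * g⁻¹) * g := by rw [h4]
      _ = g * u := by group
  · rintro _ ⟨g, hg, rfl⟩
    rw [Subgroup.mem_centralizer_iff]
    rintro _ ⟨u, hu, rfl⟩
    rw [← map_mul, ← map_mul, (Subgroup.mem_centralizer_iff.mp hg) u hu]

/-- the hypotheses pass to the quotient by a normal `p'`-subgroup -/
theorem THyp.quot_coprime (hJ : IsJFunctor p J) {X : Type u} [Group X] [Finite X]
    (R : Subgroup X) [R.Normal] (hRc : (Nat.card R).Coprime p) (T : Subgroup X)
    (hT : IsPGroup p T) (h : THyp p J X T) :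
    THyp p J (X ⧸ R) (T.map (QuotientGroup.mk' R)) := by
  refine ⟨hJ.sec.pnilp_quot_coprime R hRc T hT h.1, ?_⟩
  rw [Zc_map_of_injOn _ T (injOn_mk_of_coprime R hRc T hT),
    centralizer_map_mk R hRc (Zc T) (hT.to_le (Zc_le T))]
  exact h.2.of_surjective ((QuotientGroup.mk' R).subgroupMap _)
    ((QuotientGroup.mk' R).subgroupMap_surjective _)

end

end Thom

end Cfsg.Agent.Lib.Lead
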