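import Mathlib
import Cfsg.Agent.Lib.Lead.ZJFun
import Cfsg.Agent.S1969
import Cfsg.Agent.S0664

set_option autoImplicit false

namespace Cfsg.Agent.Lib.Lead

namespace ZJFun

universe u

open Cfsg.Agent.Lib.Helper9 in
/-- Qd(p)-free ⇒ Z(J) controls strong fusion in every section -/
theorem controls_of_qd_free {G : Type u} [Group G] [Finite G] {p : ℕ} [Fact p.Prime] (hp : p ≠ 2)
    (h : ¬ Cfsg.Involves ↥(Cfsg.qd p) G) :
    ∀ (K R : Subgroup G) [hR : (R.subgroupOf K).Normal], ∀ T : Sylow p (K ⧸ R.subgroupOf K),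
      Cfsg.ControlsStrongFusion p
        (Cfsg.centerThompsonAOf (T : Subgroup (K ⧸ R.subgroupOf K))) := by
  intro K R hR T
  have hmain := Cfsg.Agent.S1969.result (G := G) (p := p) WZJ (isCharPFunctor_WZJ p) ?_ K R T
  · rw [inducedFunctor_WZJ] at hmain
    exact hmain
  · intro K' R' hR' hc T'
    rw [inducedFunctor_WZJ]
    apply Cfsg.Agent.S0664.result hp ?_ hc T'
    intro hinv
    apply h
    apply involves_of_isSectionOf
    have h1 : IsSectionOf ↥(Cfsg.qd p) (↥K' ⧸ R'.subgroupOf K') := isSectionOf_of_involves (by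
      obtain ⟨K2, R2, hR2, ⟨e⟩⟩ := hinv
      exact ⟨K2, R2, hR2, ⟨e⟩⟩)
    have h2 : IsSectionOf (↥K' ⧸ R'.subgroupOf K') G :=
      ⟨K', QuotientGroup.mk' _, QuotientGroup.mk'_surjective _⟩
    exact h1.trans h2

end ZJFun

end Cfsg.Agent.Lib.Lead
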