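import Mathlib
import Cfsg.Agent.Lib.Lead.ZJFun2
import Cfsg.Agent.Lib.Lead.Qd1

set_option autoImplicit false

/-! Bender–Glauberman §10, part a: in a group of odd order the normalizer of `Z(J(P))` controls
strong fusion in a Sylow subgroup `P`. -/

namespace Cfsg.Agent.Lib.Lead.BG10

open Cfsg Cfsg.Agent.Lib.Lead Cfsg.Agent.Lib.Helper4 Cfsg.Agent.Lib.Helper7

universe u

/-- the central involution of the block `SL₂` -/
def negOne (p : ℕ) : Matrix.SpecialLinearGroup (Fin 2) (ZMod p) :=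
  ⟨!![-1, 0; 0, -1], by simp [Matrix.det_fin_two]⟩

theorem negOne_mul_self (p : ℕ) : negOne p * negOne p = 1 := by
  apply Subtype.ext
  rw [Matrix.SpecialLinearGroup.coe_mul]
  ext i j
  fin_cases i <;> fin_cases j <;> simp [negOne, Matrix.mul_apply, Fin.sum_univ_two]

theorem two_dvd_card_qd (p : ℕ) [hp : Fact p.Prime] (hp2 : p ≠ 2) :
    2 ∣ Nat.card ↥(Cfsg.qd p) := by
  set z : ↥(Cfsg.qd p) := ⟨QdLib.delta p (negOne p), QdLib.delta_mem_qd p _⟩ with hz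
  have hzz : z ^ 2 = 1 := by
    apply Subtype.ext
    rw [pow_two]
    show QdLib.delta p (negOne p) * QdLib.delta p (negOne p) = 1
    rw [← map_mul, negOne_mul_self, map_one]
  have hz1 : z ≠ 1 := by
    intro h0
    have h1 : (QdLib.delta p (negOne p) : Matrix.SpecialLinearGroup (Fin 3) (ZMod p)) = 1 :=
      congrArg Subtype.val h0
    have h2 := congrArg (fun M : Matrix.SpecialLinearGroup (Fin 3) (ZMod p) => M.1 0 0) h1
    have h3 : (-1 : ZMod p) = 1 := by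
      have h2' : (QdLib.deltaMat p (negOne p).1) 0 0 = (1 : Matrix (Fin 3) (Fin 3) (ZMod p)) 0 0 := h2
      simpa [QdLib.deltaMat, negOne] using h2'
    have h4 : (2 : ZMod p) = 0 := by
      have : (1 : ZMod p) + 1 = 0 := by nth_rewrite 1 [← h3]; ring
      rw [← this]; norm_num
    have h5 : ((2 : ℕ) : ZMod p) = 0 := by exact_mod_cast h4
    rw [ZMod.natCast_eq_zero_iff] at h5
    exact hp2 ((Nat.prime_dvd_prime_iff_eq hp.out Nat.prime_two).mp h5)
  have h2 : orderOf z = 2 := orderOf_eq_prime hzz hz1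
  rw [← h2]
  exact orderOf_dvd_natCard z

theorem not_involves_qd_of_odd {G : Type u} [Group G] [Finite G] (hodd : Odd (Nat.card G))
    {p : ℕ} [hp : Fact p.Prime] (hp2 : p ≠ 2) : ¬ Cfsg.Involves ↥(Cfsg.qd p) G := by
  rintro ⟨K, R, hR, ⟨e⟩⟩
  have h1 : Nat.card ↥(Cfsg.qd p) ∣ Nat.card G := by
    rw [← Nat.card_congr e.toEquiv]
    exact (Subgroup.card_quotient_dvd_card _).trans (Subgroup.card_subgroup_dvd_card K)
  have h2 : 2 ∣ Nat.card G := (two_dvd_card_qd p hp2).trans h1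
  exact (Nat.not_even_iff_odd.mpr hodd) (even_iff_two_dvd.mpr h2)

/-- Glauberman: in a group of odd order, `N(Z(J(T)))` controls strong fusion in a Sylow subgroup
`T` -/
theorem zj_controls {G : Type u} [Group G] [Finite G] (hodd : Odd (Nat.card G)) {p : ℕ}
    [hp : Fact p.Prime] (hp2 : p ≠ 2) (T : Sylow p G) (A : Set G) (hA : A ⊆ (T : Subgroup G))
    (g : G) (hgA : lc g A ⊆ (T : Subgroup G)) :
    ∃ n ∈ Subgroup.normalizer (Cfsg.centerThompsonAOf (T : Subgroup G) : Set G),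
      ∀ a ∈ A, n * a * n⁻¹ = g * a * g⁻¹ := by
  have hfree := not_involves_qd_of_odd hodd (p := p) hp2
  have h𝓦 : ∀ W' ∈ ({ZJFun.WZJ} : Set (∀ (Q : Type u) [Group Q], Subgroup Q)),
      Cfsg.IsCharPFunctor.{u} p W' := by
    intro W' hW'
    rw [Set.mem_singleton_iff.mp hW']; exact ZJFun.isCharPFunctor_WZJ p
  have hloc : ∀ (K R : Subgroup G) [hR : (R.subgroupOf K).Normal],
      Subgroup.centralizer ((Cfsg.pCore p (↥K ⧸ R.subgroupOf K) : Subgroup (↥K ⧸ R.subgroupOf K)) :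
        Set (↥K ⧸ R.subgroupOf K)) ≤ Cfsg.pCore p (↥K ⧸ R.subgroupOf K) →
      ∀ T' : Sylow p (↥K ⧸ R.subgroupOf K), (Cfsg.inducedFunctor (G := (↥K ⧸ R.subgroupOf K))
        ZJFun.WZJ ((T' : Subgroup (↥K ⧸ R.subgroupOf K)))).Normal := by
    intro K' R' hR' hc T'
    rw [ZJFun.inducedFunctor_WZJ]
    apply Cfsg.Agent.S0664.result hp2 ?_ hc T'
    intro hinv
    apply hfree
    apply Cfsg.Agent.Lib.Helper9.involves_of_isSectionOf
    have h1 : Cfsg.Agent.Lib.Helper9.IsSectionOf ↥(Cfsg.qd p) (↥K' ⧸ R'.subgroupOf K') :=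
      Cfsg.Agent.Lib.Helper9.isSectionOf_of_involves (by
        obtain ⟨K2, R2, hR2, ⟨e⟩⟩ := hinv
        exact ⟨K2, R2, hR2, ⟨e⟩⟩)
    have h2 : Cfsg.Agent.Lib.Helper9.IsSectionOf (↥K' ⧸ R'.subgroupOf K') G :=
      ⟨K', QuotientGroup.mk' _, QuotientGroup.mk'_surjective _⟩
    exact h1.trans h2
  have hloc' : ∀ (K R : Subgroup G) [hR : (R.subgroupOf K).Normal],
      Subgroup.centralizer ((Cfsg.pCore p (↥K ⧸ R.subgroupOf K) : Subgroup (↥K ⧸ R.subgroupOf K)) :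
        Set (↥K ⧸ R.subgroupOf K)) ≤ Cfsg.pCore p (↥K ⧸ R.subgroupOf K) →
      Cfsg.FamilyControlsStrongFusionIn p (indFam {ZJFun.WZJ} (↥K ⧸ R.subgroupOf K)) ⊤ := by
    intro K R hR hc
    obtain ⟨T'⟩ : Nonempty (Sylow p (↥K ⧸ R.subgroupOf K)) := inferInstance
    apply fcsf_top_of_reach T'
    intro A h hA hhA
    apply Reach.single hA ?_ hhA
    refine ⟨Cfsg.inducedFunctor ZJFun.WZJ, ⟨ZJFun.WZJ, rfl, rfl⟩, ⟨Subgroup.mem_top _, ?_⟩⟩
    have hn := hloc K R hc T'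
    rw [Subgroup.normalizer_eq_top_iff.mpr hn]
    exact Subgroup.mem_top _
  have hmain := fcsf_of_sections (G := G) h𝓦 hloc' G (IsSectionOf.refl G)
  have hTi : ¬ p ∣ (T : Subgroup G).relIndex ⊤ := by
    rw [Subgroup.relIndex_top_right]; exact T.not_dvd_index
  obtain ⟨c, hc, hceq⟩ := reach_of_familyControls (indFam_isConjugacyFunctor h𝓦) hmain le_top
    T.isPGroup' hTi A g (Subgroup.mem_top _) hA hgA
  refine ⟨c, ?_, hceq⟩
  apply Cfsg.Agent.S1969.fchain_mem hc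
  rintro _ ⟨W', hW', rfl⟩
  rw [Set.mem_singleton_iff.mp hW']
  show Subgroup.normalizer ((Cfsg.inducedFunctor ZJFun.WZJ (T : Subgroup G) : Subgroup G) : Set G) ≤ _
  rw [ZJFun.inducedFunctor_WZJ]

end Cfsg.Agent.Lib.Lead.BG10
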