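import Mathlib
import Cfsg.Agent.Lib.Lead.ClassTwo
import Cfsg.Agent.Lib.Helper7.Conj

set_option autoImplicit false

/-! Bender–Glauberman Lemma 9.5, part a: the characteristic subgroup `Ω₁(Z₂(S) ∩ T)`. -/

namespace Cfsg.Agent.Lib.Lead.BG95

open Cfsg.Agent.Lib.Lead Cfsg.Agent.Lib.Helper7
open scoped commutatorElement

universe u

variable {G : Type u} [Group G]

/-- the elements of `S` all of whose commutators with `S` centralize `S` (the second centre) -/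
def z2 (S : Subgroup G) : Subgroup G where
  carrier := {x | x ∈ S ∧ ∀ s ∈ S, x * s * x⁻¹ * s⁻¹ ∈ Subgroup.centralizer (S : Set G)}
  one_mem' := ⟨S.one_mem, fun s _ => by
    have : (1 : G) * s * 1⁻¹ * s⁻¹ = 1 := by group
    rw [this]; exact Subgroup.one_mem _⟩
  mul_mem' := by
    rintro x y ⟨hx, hx'⟩ ⟨hy, hy'⟩
    refine ⟨S.mul_mem hx hy, fun s hs => ?_⟩
    have hc := hy' s hs
    have h1 : x * (y * s * y⁻¹ * s⁻¹) * x⁻¹ = y * s * y⁻¹ * s⁻¹ := by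
      have := (Subgroup.mem_centralizer_iff.mp hc) x hx
      rw [this]; group
    have h2 : x * y * s * (x * y)⁻¹ * s⁻¹ =
        (x * (y * s * y⁻¹ * s⁻¹) * x⁻¹) * (x * s * x⁻¹ * s⁻¹) := by group
    rw [h2, h1]
    exact Subgroup.mul_mem _ hc (hx' s hs)
  inv_mem' := by
    rintro x ⟨hx, hx'⟩
    refine ⟨S.inv_mem hx, fun s hs => ?_⟩
    have hc := hx' s hs
    have hc' := Subgroup.inv_mem _ hc
    have h1 : x⁻¹ * (x * s * x⁻¹ * s⁻¹)⁻¹ * x = (x * s * x⁻¹ * s⁻¹)⁻¹ := by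
      have := (Subgroup.mem_centralizer_iff.mp hc') x hx
      calc x⁻¹ * (x * s * x⁻¹ * s⁻¹)⁻¹ * x = x⁻¹ * ((x * s * x⁻¹ * s⁻¹)⁻¹ * x) := by group
        _ = x⁻¹ * (x * (x * s * x⁻¹ * s⁻¹)⁻¹) := by rw [← this]
        _ = (x * s * x⁻¹ * s⁻¹)⁻¹ := by group
    have h2 : x⁻¹ * s * x⁻¹⁻¹ * s⁻¹ = x⁻¹ * (x * s * x⁻¹ * s⁻¹)⁻¹ * x := by group
    rw [h2, h1]
    exact hc'

theorem z2_le (S : Subgroup G) : z2 S ≤ S := fun _ h => h.1

theorem mem_z2 {S : Subgroup G} {x : G} :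
    x ∈ z2 S ↔ x ∈ S ∧ ∀ s ∈ S, x * s * x⁻¹ * s⁻¹ ∈ Subgroup.centralizer (S : Set G) := Iff.rfl

/-- commutators in `z2 S` are central in `z2 S` -/
theorem z2_class_two (S : Subgroup G) (a b : ↥(z2 S)) : ⁅a, b⁆ ∈ Subgroup.center ↥(z2 S) := by
  rw [Subgroup.mem_center_iff]
  intro w
  apply Subtype.ext
  have hc : (a : G) * (b : G) * (a : G)⁻¹ * (b : G)⁻¹ ∈ Subgroup.centralizer (S : Set G) :=
    a.2.2 (b : G) b.2.1
  have := (Subgroup.mem_centralizer_iff.mp hc) (w : G) w.2.1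
  simpa [commutatorElement_def] using this

theorem z2_cj (g : G) (S : Subgroup G) : z2 (cj g S) = cj g (z2 S) := by
  ext x
  rw [mem_cj, mem_z2, mem_z2, mem_cj]
  constructor
  · rintro ⟨h1, h2⟩
    refine ⟨h1, fun s hs => ?_⟩
    have hs' : g * s * g⁻¹ ∈ cj g S := by
      rw [mem_cj]
      have : g⁻¹ * (g * s * g⁻¹) * g = s := by group
      rw [this]; exact hs
    have h3 := h2 _ hs'
    rw [Subgroup.mem_centralizer_iff] at h3 ⊢
    intro y hy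
    have hy' : g * y * g⁻¹ ∈ cj g S := by
      rw [mem_cj]
      have : g⁻¹ * (g * y * g⁻¹) * g = y := by group
      rw [this]; exact hy
    have h4 := h3 _ hy'
    have e1 : g⁻¹ * x * g * s * (g⁻¹ * x * g)⁻¹ * s⁻¹ =
        g⁻¹ * (x * (g * s * g⁻¹) * x⁻¹ * (g * s * g⁻¹)⁻¹) * g := by group
    rw [e1]
    calc y * (g⁻¹ * (x * (g * s * g⁻¹) * x⁻¹ * (g * s * g⁻¹)⁻¹) * g)
        = g⁻¹ * (g * y * g⁻¹ * (x * (g * s * g⁻¹) * x⁻¹ * (g * s * g⁻¹)⁻¹)) * g := by group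
      _ = g⁻¹ * ((x * (g * s * g⁻¹) * x⁻¹ * (g * s * g⁻¹)⁻¹) * (g * y * g⁻¹)) * g := by rw [h4]
      _ = g⁻¹ * (x * (g * s * g⁻¹) * x⁻¹ * (g * s * g⁻¹)⁻¹) * g * y := by group
  · rintro ⟨h1, h2⟩
    refine ⟨h1, fun s hs => ?_⟩
    rw [mem_cj] at hs
    have h3 := h2 _ hs
    rw [Subgroup.mem_centralizer_iff] at h3 ⊢
    intro y hy
    rw [SetLike.mem_coe, mem_cj] at hy
    have h4 := h3 _ hy
    have e1 : g⁻¹ * x * g * (g⁻¹ * s * g) * (g⁻¹ * x * g)⁻¹ * (g⁻¹ * s * g)⁻¹ =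
        g⁻¹ * (x * s * x⁻¹ * s⁻¹) * g := by group
    rw [e1] at h4
    calc y * (x * s * x⁻¹ * s⁻¹)
        = g * (g⁻¹ * y * g * (g⁻¹ * (x * s * x⁻¹ * s⁻¹) * g)) * g⁻¹ := by group
      _ = g * (g⁻¹ * (x * s * x⁻¹ * s⁻¹) * g * (g⁻¹ * y * g)) * g⁻¹ := by rw [h4]
      _ = x * s * x⁻¹ * s⁻¹ * y := by group

/-- `Ω₁(Z₂(S) ∩ T)` -/
def omz (t : ℕ) (S T : Subgroup G) : Subgroup G :=
  Subgroup.closure {x | x ∈ z2 S ∧ x ∈ T ∧ x ^ t = 1}

theorem mem_omz_iff {t : ℕ} [Fact t.Prime] (ht : t ≠ 2) {S T : Subgroup G} {x : G} :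
    x ∈ omz t S T ↔ x ∈ z2 S ∧ x ∈ T ∧ x ^ t = 1 := by
  constructor
  · intro hx
    induction hx using Subgroup.closure_induction with
    | mem y hy => exact hy
    | one => exact ⟨Subgroup.one_mem _, Subgroup.one_mem _, one_pow _⟩
    | mul a b _ _ ha hb =>
      refine ⟨Subgroup.mul_mem _ ha.1 hb.1, Subgroup.mul_mem _ ha.2.1 hb.2.1, ?_⟩
      have h := mul_pow_eq_one_of_class_two (P := ↥(z2 S)) ht (z2_class_two S)
        ⟨a, ha.1⟩ ⟨b, hb.1⟩ (Subtype.ext (by simpa using ha.2.2)) (Subtype.ext (by simpa using hb.2.2))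
      have := congrArg Subtype.val h
      simpa using this
    | inv a _ ha =>
      refine ⟨Subgroup.inv_mem _ ha.1, Subgroup.inv_mem _ ha.2.1, ?_⟩
      rw [inv_pow, ha.2.2, inv_one]
  · intro hx
    exact Subgroup.subset_closure hx

theorem omz_le_left (t : ℕ) (S T : Subgroup G) : omz t S T ≤ S := by
  unfold omz
  rw [Subgroup.closure_le]
  intro x hx
  exact z2_le S hx.1

theorem omz_le_right (t : ℕ) (S T : Subgroup G) : omz t S T ≤ T := by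
  unfold omz
  rw [Subgroup.closure_le]
  intro x hx
  exact hx.2.1

theorem omz_pow {t : ℕ} [Fact t.Prime] (ht : t ≠ 2) {S T : Subgroup G} {x : G}
    (hx : x ∈ omz t S T) : x ^ t = 1 := ((mem_omz_iff ht).mp hx).2.2

theorem omz_cj (t : ℕ) (g : G) (S T : Subgroup G) :
    omz t (cj g S) (cj g T) = cj g (omz t S T) := by
  unfold omz
  rw [show cj g (Subgroup.closure {x | x ∈ z2 S ∧ x ∈ T ∧ x ^ t = 1}) =
    (Subgroup.closure {x | x ∈ z2 S ∧ x ∈ T ∧ x ^ t = 1}).map (MulAut.conj g).toMonoidHom from rfl,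
    MonoidHom.map_closure]
  congr 1
  ext x
  simp only [Set.mem_setOf_eq, Set.mem_image]
  constructor
  · rintro ⟨h1, h2, h3⟩
    rw [z2_cj, mem_cj] at h1
    rw [mem_cj] at h2
    refine ⟨g⁻¹ * x * g, ⟨h1, h2, ?_⟩, ?_⟩
    · have : (g⁻¹ * x * g) ^ t = g⁻¹ * x ^ t * g := by
        have := map_pow (MulAut.conj g⁻¹).toMonoidHom x t
        simpa [MulAut.conj_apply] using this.symm
      rw [this, h3]; group
    · show g * (g⁻¹ * x * g) * g⁻¹ = x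
      group
  · rintro ⟨y, ⟨h1, h2, h3⟩, rfl⟩
    refine ⟨?_, ?_, ?_⟩
    · rw [z2_cj]; exact ⟨y, h1, rfl⟩
    · exact ⟨y, h2, rfl⟩
    · rw [← map_pow, h3, map_one]

/-- an element normalizing `S` and `T` normalizes `omz t S T` -/
theorem omz_normalizer {t : ℕ} {S T : Subgroup G} {g : G}
    (hS : g ∈ Subgroup.normalizer (S : Set G)) (hT : g ∈ Subgroup.normalizer (T : Set G)) :
    g ∈ Subgroup.normalizer (omz t S T : Set G) := by
  rw [mem_normalizer_iff_cj] at hS hT ⊢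
  rw [← omz_cj, hS, hT]

/-- commutators of `omz` with `S` lie in `omz ⊓ C(S)` -/
theorem omz_comm_mem {t : ℕ} [Fact t.Prime] (ht : t ≠ 2) {S T : Subgroup G}
    (hST : S ≤ Subgroup.normalizer (T : Set G)) {x s : G} (hx : x ∈ omz t S T) (hs : s ∈ S) :
    x * s * x⁻¹ * s⁻¹ ∈ omz t S T ⊓ Subgroup.centralizer (S : Set G) := by
  obtain ⟨h1, h2, h3⟩ := (mem_omz_iff ht).mp hx
  have hc : x * s * x⁻¹ * s⁻¹ ∈ Subgroup.centralizer (S : Set G) := h1.2 s hs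
  refine ⟨(mem_omz_iff ht).mpr ⟨⟨?_, ?_⟩, ?_, ?_⟩, hc⟩
  · exact S.mul_mem (S.mul_mem (S.mul_mem h1.1 hs) (S.inv_mem h1.1)) (S.inv_mem hs)
  · intro s' hs'
    have := (Subgroup.mem_centralizer_iff.mp hc) s' hs'
    have e : x * s * x⁻¹ * s⁻¹ * s' * (x * s * x⁻¹ * s⁻¹)⁻¹ * s'⁻¹ = 1 := by
      rw [← this]; group
    rw [e]; exact Subgroup.one_mem _
  · have h4 : s * x⁻¹ * s⁻¹ ∈ T := by
      have := (Subgroup.mem_normalizer_iff.mp (hST hs) x⁻¹).mp (T.inv_mem h2)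
      exact this
    have e : x * s * x⁻¹ * s⁻¹ = x * (s * x⁻¹ * s⁻¹) := by group
    rw [e]; exact T.mul_mem h2 h4
  · have hcomm : Commute ⁅x, s⁆ x := by
      rw [commutatorElement_def]
      exact ((Subgroup.mem_centralizer_iff.mp hc) x h1.1).symm
    have := commutatorElement_pow_left x s hcomm t
    rw [h3] at this
    rw [← commutatorElement_def, ← this]
    simp [commutatorElement_def]

/-- `S` normalizes `omz t S T` -/
theorem le_normalizer_omz {t : ℕ} (S T : Subgroup G)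
    (hST : S ≤ Subgroup.normalizer (T : Set G)) : S ≤ Subgroup.normalizer (omz t S T : Set G) :=
  fun _ hs => omz_normalizer (Subgroup.le_normalizer hs) (hST hs)

end Cfsg.Agent.Lib.Lead.BG95
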