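import Mathlib
import Cfsg.Agent.Lib.Lead.BG95a
import Cfsg.Agent.Lib.Helper4.BG9e
import Cfsg.Agent.Lib.Lead.AbelianSylowB
import Cfsg.Agent.Lib.Lead.FF15

set_option autoImplicit false

/-! Bender–Glauberman Lemma 9.5, part b: `Ω₁(Z₂(S) ∩ T)` is noncyclic and its noncyclic subgroups
have centralizers of rank at least three. -/

namespace Cfsg.Agent.Lib.Lead.BG95

open Cfsg Cfsg.Agent.Lib.Lead Cfsg.Agent.Lib.Helper7 Cfsg.Agent.Lib.Helper4
open Cfsg.Agent.Lib.Helper4.BG7 Cfsg.Agent.Lib.Helper4.BG76 Cfsg.Agent.Lib.Helper4.BG8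
open Cfsg.Agent.Lib.Helper4.BG9
open scoped commutatorElement

universe u

variable {G : Type u} [Group G] [Finite G]

theorem card_lt_card_of_lt {A B : Subgroup G} (h : A < B) : Nat.card A < Nat.card B := by
  refine lt_of_le_of_ne (Subgroup.card_le_of_le h.le) ?_
  intro h0
  exact h.ne (Subgroup.eq_of_le_of_card_ge h.le h0.ge)

/-- a cyclic group of exponent `t` has at most `t` elements -/
theorem card_le_of_isCyclic_of_exp {t : ℕ} (ht : 0 < t) {H : Subgroup G} (hc : IsCyclic ↥H)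
    (hexp : ∀ x ∈ H, x ^ t = 1) : Nat.card H ≤ t := by
  classical
  have := Fintype.ofFinite ↥H
  have h2 : ∀ b : ↥H, b ^ t = 1 := fun b => Subtype.ext (by simpa using hexp b b.2)
  have h3 := IsCyclic.card_pow_eq_one_le (α := ↥H) ht
  have h4 : (Finset.univ.filter (fun a : ↥H => a ^ t = 1)) = Finset.univ := by
    ext b; simp [h2 b]
  rw [h4, Finset.card_univ] at h3
  rw [Nat.card_eq_fintype_card]; exact h3

/-- a subgroup of exponent `t` containing a nontrivial element `z` and an element outside `⟨z⟩`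
is not cyclic -/
theorem not_isCyclic_of_two {t : ℕ} [ht : Fact t.Prime] {H : Subgroup G}
    (hexp : ∀ x ∈ H, x ^ t = 1) {z e : G} (hz : z ∈ H) (hz1 : z ≠ 1) (he : e ∈ H)
    (hez : e ∉ Subgroup.zpowers z) : ¬ IsCyclic ↥H := by
  intro hc
  have h1 := card_le_of_isCyclic_of_exp ht.out.pos hc hexp
  have h2 : Subgroup.zpowers z < H := by
    refine lt_of_le_of_ne (Subgroup.zpowers_le.mpr hz) ?_
    intro h0
    exact hez (h0 ▸ he)
  have h3 := card_lt_card_of_lt h2
  have h4 : Nat.card (Subgroup.zpowers z) = t := by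
    rw [Nat.card_zpowers]
    exact orderOf_eq_prime (hexp z hz) hz1
  omega

/-- `Ω₁(Z₂(S) ∩ T)` is not cyclic when `T` is a noncyclic normal subgroup of the `t`-group `S` -/
theorem omz_not_isCyclic {t : ℕ} [ht : Fact t.Prime] (ht2 : t ≠ 2) {S T : Subgroup G}
    (hS : IsPGroup t S) (hTS : T ≤ S) (hST : S ≤ Subgroup.normalizer (T : Set G))
    (hTnc : ¬ IsCyclic ↥T) : ¬ IsCyclic ↥(omz t S T) := by
  have hTp : IsPGroup t T := hS.to_le hTS
  -- step a: `omz t T T` has more than `t` elements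
  obtain ⟨A, hAn, hAe, hAc⟩ := Cfsg.Agent.S0126.result (R := ↥T) ht2 hTp hTnc
  have htt : t < t ^ 2 := by
    have := ht.out.one_lt
    nlinarith
  obtain ⟨z, hzA, hzc, hz1, e, heA, hez, hcomm⟩ :=
    exists_central_and_second (Y := ↥T) hTp A (by rw [hAc]; exact htt) hAe.2
  have hzU : (z : G) ∈ omz t T T := by
    rw [mem_omz_iff ht2]
    refine ⟨⟨z.2, fun s hs => ?_⟩, z.2, ?_⟩
    · have h1 := Subgroup.mem_center_iff.mp hzc ⟨s, hs⟩
      have h2 : (z : G) * s = s * (z : G) := by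
        have := congrArg Subtype.val h1
        simpa using this.symm
      have e1 : (z : G) * s * (z : G)⁻¹ * s⁻¹ = 1 := by rw [h2]; group
      rw [e1]; exact Subgroup.one_mem _
    · have := congrArg Subtype.val (hAe.2 z hzA)
      simpa using this
  have hcen : ∀ w ∈ Subgroup.zpowers z, (w : G) ∈ Subgroup.centralizer (T : Set G) := by
    intro w hw
    obtain ⟨k, rfl⟩ := Subgroup.mem_zpowers_iff.mp hw
    rw [Subgroup.mem_centralizer_iff]
    intro s hs
    have h1 : z ^ k ∈ Subgroup.center ↥T := Subgroup.zpow_mem _ hzc k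
    have h2 := Subgroup.mem_center_iff.mp h1 ⟨s, hs⟩
    have := congrArg Subtype.val h2
    simpa using this
  have heU : (e : G) ∈ omz t T T := by
    rw [mem_omz_iff ht2]
    refine ⟨⟨e.2, fun s hs => ?_⟩, e.2, ?_⟩
    · have h1 := hcen _ (hcomm ⟨s, hs⟩)
      simpa using h1
    · have := congrArg Subtype.val (hAe.2 e heA)
      simpa using this
  have hez' : (e : G) ∉ Subgroup.zpowers (z : G) := by
    intro h0
    apply hez
    obtain ⟨k, hk⟩ := Subgroup.mem_zpowers_iff.mp h0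
    rw [Subgroup.mem_zpowers_iff]
    exact ⟨k, Subtype.ext (by simpa using hk)⟩
  have hz1' : (z : G) ≠ 1 := fun h0 => hz1 (Subtype.ext h0)
  set Û := omz t T T with hÛ
  have hÛexp : ∀ x ∈ Û, x ^ t = 1 := fun x hx => omz_pow ht2 hx
  have hÛS : Û ≤ S := (omz_le_left t T T).trans hTS
  have hÛT : Û ≤ T := omz_le_left t T T
  have hSÛ : S ≤ Subgroup.normalizer (Û : Set G) := fun s hs => omz_normalizer (hST hs) (hST hs)
  have hcardÛ : t < Nat.card Û := by
    have h2 : Subgroup.zpowers (z : G) < Û := by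
      refine lt_of_le_of_ne (Subgroup.zpowers_le.mpr hzU) ?_
      intro h0
      exact hez' (h0 ▸ heU)
    have h3 := card_lt_card_of_lt h2
    have h4 : Nat.card (Subgroup.zpowers (z : G)) = t := by
      rw [Nat.card_zpowers]
      exact orderOf_eq_prime (hÛexp _ hzU) hz1'
    omega
  -- step b/c: apply the same lemma inside `S`
  haveI hNn : (Û.subgroupOf S).Normal := Subgroup.normal_subgroupOf_of_le_normalizer hSÛ
  have hNcard : t < Nat.card (Û.subgroupOf S) := by
    rw [Nat.card_congr (Subgroup.subgroupOfEquivOfLe hÛS).toEquiv]; exact hcardÛ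
  have hNexp : ∀ x ∈ Û.subgroupOf S, x ^ t = 1 := by
    intro x hx
    apply Subtype.ext
    have := hÛexp (x : G) (Subgroup.mem_subgroupOf.mp hx)
    simpa using this
  obtain ⟨z', hz'N, hz'c, hz'1, e', he'N, he'z, hcomm'⟩ :=
    exists_central_and_second (Y := ↥S) hS (Û.subgroupOf S) hNcard hNexp
  have hcen' : ∀ w ∈ Subgroup.zpowers z', (w : G) ∈ Subgroup.centralizer (S : Set G) := by
    intro w hw
    obtain ⟨k, rfl⟩ := Subgroup.mem_zpowers_iff.mp hw
    rw [Subgroup.mem_centralizer_iff]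
    intro s hs
    have h1 : z' ^ k ∈ Subgroup.center ↥S := Subgroup.zpow_mem _ hz'c k
    have h2 := Subgroup.mem_center_iff.mp h1 ⟨s, hs⟩
    have := congrArg Subtype.val h2
    simpa using this
  have hz'U : (z' : G) ∈ omz t S T := by
    rw [mem_omz_iff ht2]
    refine ⟨⟨z'.2, fun s hs => ?_⟩, hÛT (Subgroup.mem_subgroupOf.mp hz'N),
      hÛexp _ (Subgroup.mem_subgroupOf.mp hz'N)⟩
    have h1 := hcen' z' (Subgroup.mem_zpowers z')
    have h2 := (Subgroup.mem_centralizer_iff.mp h1) s hs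
    have e1 : (z' : G) * s * (z' : G)⁻¹ * s⁻¹ = 1 := by rw [← h2]; group
    rw [e1]; exact Subgroup.one_mem _
  have he'U : (e' : G) ∈ omz t S T := by
    rw [mem_omz_iff ht2]
    refine ⟨⟨e'.2, fun s hs => ?_⟩, hÛT (Subgroup.mem_subgroupOf.mp he'N),
      hÛexp _ (Subgroup.mem_subgroupOf.mp he'N)⟩
    have h1 := hcen' _ (hcomm' ⟨s, hs⟩)
    simpa using h1
  have he'z' : (e' : G) ∉ Subgroup.zpowers (z' : G) := by
    intro h0
    apply he'z
    obtain ⟨k, hk⟩ := Subgroup.mem_zpowers_iff.mp h0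
    rw [Subgroup.mem_zpowers_iff]
    exact ⟨k, Subtype.ext (by simpa using hk)⟩
  exact not_isCyclic_of_two (fun x hx => omz_pow ht2 hx) hz'U
    (fun h0 => hz'1 (Subtype.ext h0)) he'U he'z'

/-- Lemma N: a normal elementary abelian subgroup of order `t²` of a `t`-group `S` of rank at least
three has centralizer of rank at least three -/
theorem rank_centralizer_of_normal_sq {t : ℕ} [ht : Fact t.Prime] (ht2 : t ≠ 2) {S Y : Subgroup G}
    (hS : IsPGroup t S) (hS3 : ¬ PRankLE t 2 ↥S) (hYS : Y ≤ S)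
    (hSY : S ≤ Subgroup.normalizer (Y : Set G)) (hY : IsElementaryAbelian t Y)
    (hYc : Nat.card Y = t ^ 2) : ¬ PRankLE t 2 ↥(Subgroup.centralizer (Y : Set G)) := by
  haveI hEn : (Y.subgroupOf S).Normal := Subgroup.normal_subgroupOf_of_le_normalizer hSY
  have hE : IsElementaryAbelian t (Y.subgroupOf S) := by
    refine ⟨⟨⟨?_⟩⟩, ?_⟩
    · rintro ⟨a, ha⟩ ⟨b, hb⟩
      apply Subtype.ext
      apply Subtype.ext
      have := hY.1.is_comm.comm ⟨(a : G), Subgroup.mem_subgroupOf.mp ha⟩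
        ⟨(b : G), Subgroup.mem_subgroupOf.mp hb⟩
      show (a : G) * (b : G) = (b : G) * (a : G)
      exact congrArg Subtype.val this
    · intro a ha
      apply Subtype.ext
      have := hY.2 (a : G) (Subgroup.mem_subgroupOf.mp ha)
      simpa using this
  have hE2 : Nat.card (Y.subgroupOf S) = t ^ 2 := by
    rw [Nat.card_congr (Subgroup.subgroupOfEquivOfLe hYS).toEquiv]; exact hYc
  obtain ⟨A₀, hEA₀, hA₀n, hA₀c, hA₀r⟩ :=
    Cfsg.Agent.S1452.result (R := ↥S) t ht2 hS hS3 (Y.subgroupOf S) hE hE2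
  have hle : A₀.map S.subtype ≤ Subgroup.centralizer (Y : Set G) := by
    rintro _ ⟨a, ha, rfl⟩
    rw [Subgroup.mem_centralizer_iff]
    intro y hy
    have hyA : (⟨y, hYS hy⟩ : ↥S) ∈ A₀ := hEA₀ (Subgroup.mem_subgroupOf.mpr hy)
    have h1 : a ∈ Subgroup.centralizer (A₀ : Set ↥S) := by rw [hA₀c]; exact ha
    have := (Subgroup.mem_centralizer_iff.mp h1) _ hyA
    exact congrArg Subtype.val this
  have h3 : ¬ PRankLE t 2 ↥(A₀.map S.subtype) := by
    intro h
    apply hA₀r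
    exact Rk2.prankLE_of_injective
      (A₀.equivMapOfInjective S.subtype S.subtype_injective).toMonoidHom
      (A₀.equivMapOfInjective S.subtype S.subtype_injective).injective h
  obtain ⟨E, hEle, hEe, hEcard⟩ := exists_elementary_of_not_pRankLE h3
  exact not_pRankLE_of_elementary (hEle.trans hle) hEe hEcard

/-- a noncyclic subgroup of `Ω₁(Z₂(S) ∩ T)` contains a noncyclic subgroup whose centralizer has
rank at least three -/
theorem exists_fat_of_le_omz {t : ℕ} [ht : Fact t.Prime] (ht2 : t ≠ 2) {S T Y : Subgroup G}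
    (hS : IsPGroup t S) (hS3 : ¬ PRankLE t 2 ↥S) (hST : S ≤ Subgroup.normalizer (T : Set G))
    (hYU : Y ≤ omz t S T) (hYnc : ¬ IsCyclic ↥Y) :
    ∃ Y₂ : Subgroup G, Y₂ ≤ Y ∧ IsPGroup t Y₂ ∧ ¬ IsCyclic ↥Y₂ ∧
      ¬ PRankLE t 2 ↥(Subgroup.centralizer (Y₂ : Set G)) := by
  have hUS : omz t S T ≤ S := omz_le_left t S T
  have hYexp : ∀ x ∈ Y, x ^ t = 1 := fun x hx => omz_pow ht2 (hYU hx)
  have hYp : IsPGroup t Y := hS.to_le (hYU.trans hUS)
  have htt : t < t ^ 2 := by
    have := ht.out.one_lt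
    nlinarith
  -- a subgroup of order `t²`
  obtain ⟨k, hk⟩ := IsPGroup.iff_card.mp hYp
  have hk2 : 2 ≤ k := by
    by_contra hlt
    push Not at hlt
    apply hYnc
    interval_cases k
    · rw [pow_zero] at hk
      have : Subsingleton ↥Y := (Nat.card_eq_one_iff_unique.mp hk).1
      exact isCyclic_of_subsingleton
    · rw [pow_one] at hk
      exact isCyclic_of_prime_card hk
  obtain ⟨K, hK⟩ := Sylow.exists_subgroup_card_pow_prime (G := ↥Y) t
    (show t ^ 2 ∣ Nat.card ↥Y by rw [hk]; exact pow_dvd_pow t hk2)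
  set Y₂ : Subgroup G := K.map Y.subtype with hY₂
  have hY₂Y : Y₂ ≤ Y := Subgroup.map_subtype_le _
  have hY₂c : Nat.card Y₂ = t ^ 2 := by
    rw [hY₂, Subgroup.card_map_of_injective Y.subtype_injective]; exact hK
  have hY₂exp : ∀ x ∈ Y₂, x ^ t = 1 := fun x hx => hYexp x (hY₂Y hx)
  have hY₂p : IsPGroup t Y₂ := hYp.to_le hY₂Y
  have hY₂comm : ∀ a ∈ Y₂, ∀ b ∈ Y₂, a * b = b * a := by
    intro a ha b hb
    have hcm : IsMulCommutative ↥Y₂ := IsPGroup.isMulCommutative_of_card_eq_prime_sq hY₂c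
    have := hcm.is_comm.comm ⟨a, ha⟩ ⟨b, hb⟩
    exact congrArg Subtype.val this
  have hY₂e : IsElementaryAbelian t Y₂ :=
    ⟨⟨⟨fun a b => Subtype.ext (hY₂comm a a.2 b b.2)⟩⟩, hY₂exp⟩
  have hY₂nc : ¬ IsCyclic ↥Y₂ := not_isCyclic_of_elementary hY₂e (by rw [hY₂c]; exact htt)
  refine ⟨Y₂, hY₂Y, hY₂p, hY₂nc, ?_⟩
  have hY₂S : Y₂ ≤ S := hY₂Y.trans (hYU.trans hUS)
  by_cases hn : S ≤ Subgroup.normalizer (Y₂ : Set G)
  · exact rank_centralizer_of_normal_sq ht2 hS hS3 hY₂S hn hY₂e hY₂c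
  · have hex : ∃ s ∈ S, ∃ y ∈ Y₂, s * y * s⁻¹ ∉ Y₂ := by
      by_contra hcon
      push Not at hcon
      exact hn (Cfsg.Agent.Lib.Lead.FF.le_normalizer_of_conj_mem S Y₂ hcon)
    obtain ⟨s, hs, y, hy, hsy⟩ := hex
    have hyU : y⁻¹ ∈ omz t S T := Subgroup.inv_mem _ (hYU (hY₂Y hy))
    have hc := omz_comm_mem ht2 hST hyU hs
    set c := y⁻¹ * s * y⁻¹⁻¹ * s⁻¹ with hcdef
    have hcY : c ∉ Y₂ := by
      intro h0
      apply hsy
      have : s * y * s⁻¹ = y * c := by rw [hcdef]; group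
      rw [this]; exact Y₂.mul_mem hy h0
    have hcS : c ∈ Subgroup.centralizer (S : Set G) := hc.2
    have hct : c ^ t = 1 := omz_pow ht2 hc.1
    have hcomm : ∀ a ∈ Y₂, ∀ z ∈ Subgroup.zpowers c, a * z = z * a := by
      intro a ha z hz
      obtain ⟨j, rfl⟩ := Subgroup.mem_zpowers_iff.mp hz
      have h1 : c ^ j ∈ Subgroup.centralizer (S : Set G) := Subgroup.zpow_mem _ hcS j
      exact (Subgroup.mem_centralizer_iff.mp h1) a (hY₂S ha)
    set Y₃ := Y₂ ⊔ Subgroup.zpowers c with hY₃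
    have hY₃form : ∀ x ∈ Y₃, ∃ a ∈ Y₂, ∃ j : ℤ, x = a * c ^ j := by
      intro x hx
      obtain ⟨a, ha, z, hz, rfl⟩ := mem_sup_of_commute Y₂ (Subgroup.zpowers c) hcomm hx
      obtain ⟨j, rfl⟩ := Subgroup.mem_zpowers_iff.mp hz
      exact ⟨a, ha, j, rfl⟩
    have hcj : ∀ (a : G), a ∈ Y₂ → ∀ j : ℤ, a * c ^ j = c ^ j * a := fun a ha j =>
      hcomm a ha _ (Subgroup.zpow_mem _ (Subgroup.mem_zpowers c) j)
    have hY₃e : IsElementaryAbelian t Y₃ := by
      refine ⟨⟨⟨?_⟩⟩, ?_⟩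
      · rintro ⟨x, hx⟩ ⟨x', hx'⟩
        apply Subtype.ext
        obtain ⟨a, ha, j, rfl⟩ := hY₃form x hx
        obtain ⟨b, hb, j', rfl⟩ := hY₃form x' hx'
        show a * c ^ j * (b * c ^ j') = b * c ^ j' * (a * c ^ j)
        calc a * c ^ j * (b * c ^ j') = a * (c ^ j * b) * c ^ j' := by group
          _ = a * (b * c ^ j) * c ^ j' := by rw [hcj b hb j]
          _ = (a * b) * (c ^ j * c ^ j') := by group
          _ = (b * a) * (c ^ j' * c ^ j) := by
            rw [hY₂comm a ha b hb, ← zpow_add, ← zpow_add, add_comm]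
          _ = b * (a * c ^ j') * c ^ j := by group
          _ = b * (c ^ j' * a) * c ^ j := by rw [hcj a ha j']
          _ = b * c ^ j' * (a * c ^ j) := by group
      · intro x hx
        obtain ⟨a, ha, j, rfl⟩ := hY₃form x hx
        have hcm : Commute a (c ^ j) := hcj a ha j
        rw [hcm.mul_pow, hY₂exp a ha, one_mul, ← zpow_natCast, ← zpow_mul, mul_comm, zpow_mul,
          zpow_natCast, hct, one_zpow]
    have hY₃card : t ^ 2 < Nat.card Y₃ := by
      rw [← hY₂c]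
      apply card_lt_card_of_lt
      refine lt_of_le_of_ne le_sup_left ?_
      intro h0
      apply hcY
      rw [h0]
      exact Subgroup.mem_sup_right (Subgroup.mem_zpowers c)
    have hY₃le : Y₃ ≤ Subgroup.centralizer (Y₂ : Set G) := by
      intro x hx
      obtain ⟨a, ha, j, rfl⟩ := hY₃form x hx
      rw [Subgroup.mem_centralizer_iff]
      intro b hb
      calc b * (a * c ^ j) = (b * a) * c ^ j := by group
        _ = (a * b) * c ^ j := by rw [hY₂comm b hb a ha]
        _ = a * (b * c ^ j) := by group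
        _ = a * (c ^ j * b) := by rw [hcj b hb j]
        _ = a * c ^ j * b := by group
    exact not_pRankLE_of_elementary hY₃le hY₃e hY₃card

end Cfsg.Agent.Lib.Lead.BG95
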