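import Mathlib
import Cfsg.Agent.Lib.Lead.BG95b
import Cfsg.Agent.Lib.Lead.GenCentralizers
import Cfsg.Agent.Lib.Lead.CoprimeTools

set_option autoImplicit false

/-! Bender–Glauberman Lemma 9.5, part c: an elementary abelian group of order `p³` acting on a
group of exponent `t`: kernel lines. -/

namespace Cfsg.Agent.Lib.Lead.BG95

open Cfsg Cfsg.Agent.Lib.Lead Cfsg.Agent.Lib.Helper7 Cfsg.Agent.Lib.Helper4
open Cfsg.Agent.Lib.Helper4.BG7 Cfsg.Agent.Lib.Helper4.BG76 Cfsg.Agent.Lib.Helper4.BG8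
open Cfsg.Agent.Lib.Helper4.BG9

universe u

variable {G : Type u} [Group G] [Finite G]

/-- the subgroups of order `p²` of `E` -/
def IsLine (p : ℕ) (E ℓ : Subgroup G) : Prop := ℓ ≤ E ∧ Nat.card ℓ = p ^ 2

section geometry

variable {p : ℕ} [hp : Fact p.Prime] {E : Subgroup G}

theorem comm_of_elementary (hE : IsElementaryAbelian p E) {a b : G} (ha : a ∈ E) (hb : b ∈ E) :
    a * b = b * a :=
  congrArg Subtype.val (hE.1.is_comm.comm ⟨a, ha⟩ ⟨b, hb⟩)

theorem elementary_of_le (hE : IsElementaryAbelian p E) {F : Subgroup G} (hF : F ≤ E) :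
    IsElementaryAbelian p F :=
  ⟨⟨⟨fun a b => Subtype.ext (comm_of_elementary hE (hF a.2) (hF b.2))⟩⟩, fun a ha => hE.2 a (hF ha)⟩

theorem le_normalizer_of_elementary (hE : IsElementaryAbelian p E) {F H : Subgroup G} (hF : F ≤ E)
    (hH : H ≤ E) : F ≤ Subgroup.normalizer (H : Set G) := by
  refine le_trans ?_ (Subgroup.centralizer_le_normalizer _)
  intro a ha
  rw [Subgroup.mem_centralizer_iff]
  intro b hb
  exact comm_of_elementary hE (hH hb) (hF ha)

theorem card_zpowers_of_elementary (hE : IsElementaryAbelian p E) {a : G} (ha : a ∈ E)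
    (ha1 : a ≠ 1) : Nat.card (Subgroup.zpowers a) = p := by
  rw [Nat.card_zpowers]
  exact orderOf_eq_prime (hE.2 a ha) ha1

theorem exists_not_mem_of_card_lt {H E : Subgroup G} (h : Nat.card H < Nat.card E) :
    ∃ x ∈ E, x ∉ H := by
  by_contra hcon
  push Not at hcon
  have : E ≤ H := hcon
  have := Subgroup.card_le_of_le this
  omega

theorem card_sup_zpowers (hE : IsElementaryAbelian p E) {a b : G} (ha : a ∈ E) (ha1 : a ≠ 1)
    (hb : b ∈ E) (hba : b ∉ Subgroup.zpowers a) :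
    Nat.card (Subgroup.zpowers a ⊔ Subgroup.zpowers b : Subgroup G) = p ^ 2 := by
  have hb1 : b ≠ 1 := fun h0 => hba (h0 ▸ Subgroup.one_mem _)
  have hca := card_zpowers_of_elementary hE ha ha1
  have hcb := card_zpowers_of_elementary hE hb hb1
  have hn : Subgroup.zpowers a ≤ Subgroup.normalizer ((Subgroup.zpowers b : Subgroup G) : Set G) :=
    le_normalizer_of_elementary hE (Subgroup.zpowers_le.mpr ha) (Subgroup.zpowers_le.mpr hb)
  have h1 := card_sup_mul_card_inf (Subgroup.zpowers a) (Subgroup.zpowers b) hn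
  have h2 : (Subgroup.zpowers a ⊓ Subgroup.zpowers b : Subgroup G) = ⊥ := by
    by_contra hne
    have hdvd : Nat.card (Subgroup.zpowers a ⊓ Subgroup.zpowers b : Subgroup G) ∣ p := by
      rw [← hcb]; exact Subgroup.card_dvd_of_le inf_le_right
    rcases (Nat.dvd_prime hp.out).mp hdvd with h | h
    · exact hne (Subgroup.card_eq_one.mp h)
    · have : (Subgroup.zpowers a ⊓ Subgroup.zpowers b : Subgroup G) = Subgroup.zpowers b :=
        Subgroup.eq_of_le_of_card_ge inf_le_right (by rw [h, hcb])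
      apply hba
      have h3 : Subgroup.zpowers b ≤ Subgroup.zpowers a := this ▸ inf_le_left
      exact h3 (Subgroup.mem_zpowers b)
  rw [h2, Subgroup.card_bot, mul_one, hca, hcb] at h1
  rw [h1]; ring

theorem isLine_sup_zpowers (hE : IsElementaryAbelian p E) {a b : G} (ha : a ∈ E) (ha1 : a ≠ 1)
    (hb : b ∈ E) (hba : b ∉ Subgroup.zpowers a) :
    IsLine p E (Subgroup.zpowers a ⊔ Subgroup.zpowers b) :=
  ⟨sup_le (Subgroup.zpowers_le.mpr ha) (Subgroup.zpowers_le.mpr hb), card_sup_zpowers hE ha ha1 hb hba⟩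

theorem pow_lt_pow_p (i j : ℕ) (h : i < j) : p ^ i < p ^ j :=
  Nat.pow_lt_pow_right hp.out.one_lt h

theorem exists_line_not_mem (hE : IsElementaryAbelian p E) (hcard : Nat.card E = p ^ 3) {a : G}
    (ha : a ∈ E) (ha1 : a ≠ 1) : ∃ ℓ : Subgroup G, IsLine p E ℓ ∧ a ∉ ℓ := by
  have hca := card_zpowers_of_elementary hE ha ha1
  obtain ⟨b, hb, hba⟩ := exists_not_mem_of_card_lt (H := Subgroup.zpowers a) (E := E)
    (by rw [hca, hcard]; have := pow_lt_pow_p (p := p) 1 3 (by norm_num); simpa using this)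
  have hL := card_sup_zpowers hE ha ha1 hb hba
  obtain ⟨c, hc, hcL⟩ := exists_not_mem_of_card_lt
    (H := (Subgroup.zpowers a ⊔ Subgroup.zpowers b : Subgroup G)) (E := E)
    (by rw [hL, hcard]; exact pow_lt_pow_p 2 3 (by norm_num))
  have hb1 : b ≠ 1 := fun h0 => hba (h0 ▸ Subgroup.one_mem _)
  have hcb : c ∉ Subgroup.zpowers b := fun h0 => hcL (Subgroup.mem_sup_right h0)
  refine ⟨Subgroup.zpowers b ⊔ Subgroup.zpowers c, isLine_sup_zpowers hE hb hb1 hc hcb, ?_⟩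
  intro haℓ
  have hle : (Subgroup.zpowers a ⊔ Subgroup.zpowers b : Subgroup G) ≤
      Subgroup.zpowers b ⊔ Subgroup.zpowers c :=
    sup_le (Subgroup.zpowers_le.mpr haℓ) le_sup_left
  have heq := Subgroup.eq_of_le_of_card_ge hle
    (by rw [hL, card_sup_zpowers hE hb hb1 hc hcb])
  apply hcL
  rw [heq]
  exact Subgroup.mem_sup_right (Subgroup.mem_zpowers c)

theorem exists_line (hE : IsElementaryAbelian p E) (hcard : Nat.card E = p ^ 3) :
    ∃ ℓ : Subgroup G, IsLine p E ℓ := by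
  have h1 : Nat.card (⊥ : Subgroup G) < Nat.card E := by
    rw [Subgroup.card_bot, hcard]; exact Nat.one_lt_pow (by norm_num) hp.out.one_lt
  obtain ⟨a, ha, ha0⟩ := exists_not_mem_of_card_lt h1
  have ha1 : a ≠ 1 := fun h0 => ha0 (h0 ▸ Subgroup.one_mem _)
  obtain ⟨ℓ, hℓ, -⟩ := exists_line_not_mem hE hcard ha ha1
  exact ⟨ℓ, hℓ⟩

theorem line_inf_sup (hE : IsElementaryAbelian p E) (hcard : Nat.card E = p ^ 3)
    {ℓ₁ ℓ₂ : Subgroup G} (h₁ : IsLine p E ℓ₁) (h₂ : IsLine p E ℓ₂) (hne : ℓ₁ ≠ ℓ₂) :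
    Nat.card (ℓ₁ ⊓ ℓ₂ : Subgroup G) = p ∧ ℓ₁ ⊔ ℓ₂ = E := by
  have hn : ℓ₁ ≤ Subgroup.normalizer (ℓ₂ : Set G) := le_normalizer_of_elementary hE h₁.1 h₂.1
  have h1 := card_sup_mul_card_inf ℓ₁ ℓ₂ hn
  rw [h₁.2, h₂.2] at h1
  have hle : ℓ₁ ⊔ ℓ₂ ≤ E := sup_le h₁.1 h₂.1
  have hlt : ℓ₁ < ℓ₁ ⊔ ℓ₂ := by
    refine lt_of_le_of_ne le_sup_left ?_
    intro h0
    have h3 : ℓ₂ ≤ ℓ₁ := by rw [h0]; exact le_sup_right
    exact hne (Subgroup.eq_of_le_of_card_ge h3 (by rw [h₁.2, h₂.2])).symm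
  have hlt' := card_lt_card_of_lt hlt
  rw [h₁.2] at hlt'
  have hdvd : Nat.card (ℓ₁ ⊔ ℓ₂ : Subgroup G) ∣ p ^ 3 := by
    rw [← hcard]; exact Subgroup.card_dvd_of_le hle
  obtain ⟨i, hi, hci⟩ := (Nat.dvd_prime_pow hp.out).mp hdvd
  rw [hci] at hlt'
  have hi2 : 2 < i := (Nat.pow_lt_pow_iff_right hp.out.one_lt).mp hlt'
  have hi3 : i = 3 := by omega
  rw [hi3] at hci
  have hsup : ℓ₁ ⊔ ℓ₂ = E := Subgroup.eq_of_le_of_card_ge hle (by rw [hci, hcard])
  refine ⟨?_, hsup⟩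
  rw [hci] at h1
  have h4 : p ^ 3 * Nat.card (ℓ₁ ⊓ ℓ₂ : Subgroup G) = p ^ 3 * p := by rw [h1]; ring
  exact Nat.eq_of_mul_eq_mul_left (pow_pos hp.out.pos 3) h4

theorem exists_mem_line_inf (hE : IsElementaryAbelian p E) (hcard : Nat.card E = p ^ 3)
    {ℓ₁ ℓ₂ : Subgroup G} (h₁ : IsLine p E ℓ₁) (h₂ : IsLine p E ℓ₂) (hne : ℓ₁ ≠ ℓ₂) :
    ∃ a : G, a ∈ ℓ₁ ∧ a ∈ ℓ₂ ∧ a ≠ 1 ∧ (ℓ₁ ⊓ ℓ₂ : Subgroup G) = Subgroup.zpowers a := by
  obtain ⟨hc, -⟩ := line_inf_sup hE hcard h₁ h₂ hne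
  have hne' : (ℓ₁ ⊓ ℓ₂ : Subgroup G) ≠ ⊥ := by
    intro h0
    rw [h0, Subgroup.card_bot] at hc
    exact hp.out.one_lt.ne hc
  obtain ⟨⟨a, ha⟩, ha1⟩ := (Subgroup.ne_bot_iff_exists_ne_one).mp hne'
  have ha1' : a ≠ 1 := fun h0 => ha1 (Subtype.ext h0)
  refine ⟨a, ha.1, ha.2, ha1', ?_⟩
  symm
  apply Subgroup.eq_of_le_of_card_ge (Subgroup.zpowers_le.mpr ha)
  rw [hc, card_zpowers_of_elementary hE (h₁.1 ha.1) ha1']

end geometry

section action

variable {p : ℕ} [hp : Fact p.Prime] {E : Subgroup G}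

theorem centralizer_singleton_inf_le (a b : G) :
    Subgroup.centralizer ({a} : Set G) ⊓ Subgroup.centralizer ({b} : Set G) ≤
      Subgroup.centralizer ((Subgroup.zpowers a ⊔ Subgroup.zpowers b : Subgroup G) : Set G) := by
  intro x hx
  have h1 : (Subgroup.zpowers a ⊔ Subgroup.zpowers b : Subgroup G) ≤
      Subgroup.centralizer ({x} : Set G) := by
    apply sup_le
    · rw [Subgroup.zpowers_le, Subgroup.mem_centralizer_singleton_iff]
      exact (Subgroup.mem_centralizer_singleton_iff.mp hx.1).symm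
    · rw [Subgroup.zpowers_le, Subgroup.mem_centralizer_singleton_iff]
      exact (Subgroup.mem_centralizer_singleton_iff.mp hx.2).symm
  rw [Subgroup.mem_centralizer_iff]
  intro y hy
  exact Subgroup.mem_centralizer_singleton_iff.mp (h1 hy)

/-- generation by the centralizers of lines -/
theorem le_of_lines (hE : IsElementaryAbelian p E) (hcard : Nat.card E = p ^ 3)
    {U W : Subgroup G} (hEU : E ≤ Subgroup.normalizer (U : Set G))
    (hcop : (Nat.card E).Coprime (Nat.card U))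
    (h : ∀ ℓ : Subgroup G, IsLine p E ℓ → U ⊓ Subgroup.centralizer (ℓ : Set G) ≤ W) : U ≤ W := by
  haveI : IsMulCommutative ↥E := hE.1
  have hEnc : ¬ IsCyclic ↥E := not_isCyclic_of_elementary hE
    (by rw [hcard]; have := pow_lt_pow_p (p := p) 1 3 (by norm_num); simpa using this)
  rw [← generated_by_centralizers E U hEnc hEU hcop]
  apply iSup₂_le
  rintro a ⟨ha, ha1⟩
  obtain ⟨ℓ', hℓ', haℓ'⟩ := exists_line_not_mem hE hcard ha ha1
  have hℓ'e := elementary_of_le hE hℓ'.1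
  haveI : IsMulCommutative ↥ℓ' := hℓ'e.1
  have hℓ'nc : ¬ IsCyclic ↥ℓ' := not_isCyclic_of_elementary hℓ'e
    (by rw [hℓ'.2]; have := pow_lt_pow_p (p := p) 1 2 (by norm_num); simpa using this)
  set Ka := U ⊓ Subgroup.centralizer ({a} : Set G) with hKa
  have hℓ'K : ℓ' ≤ Subgroup.normalizer (Ka : Set G) := by
    intro x hx
    apply normalizer_inf_le' U (Subgroup.centralizer ({a} : Set G))
    refine ⟨hEU (hℓ'.1 hx), Subgroup.le_normalizer ?_⟩
    rw [Subgroup.mem_centralizer_singleton_iff]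
    exact comm_of_elementary hE (hℓ'.1 hx) ha
  have hcop' : (Nat.card ℓ').Coprime (Nat.card Ka) :=
    Nat.Coprime.coprime_dvd_left (Subgroup.card_dvd_of_le hℓ'.1)
      (Nat.Coprime.coprime_dvd_right (Subgroup.card_dvd_of_le inf_le_left) hcop)
  rw [← generated_by_centralizers ℓ' Ka hℓ'nc hℓ'K hcop']
  apply iSup₂_le
  rintro b ⟨hb, hb1⟩
  have hbE : b ∈ E := hℓ'.1 hb
  have hba : b ∉ Subgroup.zpowers a := by
    intro h0
    apply haℓ'
    -- `⟨a⟩ = ⟨b⟩`
    have h1 : Subgroup.zpowers b = Subgroup.zpowers a :=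
      Subgroup.eq_of_le_of_card_ge (Subgroup.zpowers_le.mpr h0)
        (by rw [card_zpowers_of_elementary hE ha ha1, card_zpowers_of_elementary hE hbE hb1])
    have : a ∈ Subgroup.zpowers b := h1 ▸ Subgroup.mem_zpowers a
    exact (Subgroup.zpowers_le.mpr hb) this
  refine le_trans ?_ (h _ (isLine_sup_zpowers hE ha ha1 hbE hba))
  rw [hKa, inf_assoc]
  exact inf_le_inf_left U (centralizer_singleton_inf_le a b)

/-- a nontrivial cyclic group of prime exponent `t` has order `t` -/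
theorem card_eq_of_isCyclic_of_exp {t : ℕ} [ht : Fact t.Prime] {H : Subgroup G}
    (hc : IsCyclic ↥H) (hexp : ∀ x ∈ H, x ^ t = 1) (hH : H ≠ ⊥) : Nat.card H = t := by
  have h1 := card_le_of_isCyclic_of_exp ht.out.pos hc hexp
  obtain ⟨⟨x, hx⟩, hx1⟩ := (Subgroup.ne_bot_iff_exists_ne_one).mp hH
  have hx1' : x ≠ 1 := fun h0 => hx1 (Subtype.ext h0)
  have h2 : Nat.card (Subgroup.zpowers x) = t := by
    rw [Nat.card_zpowers]
    exact orderOf_eq_prime (hexp x hx) hx1'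
  have h3 := Subgroup.card_le_of_le (Subgroup.zpowers_le.mpr hx)
  omega

/-- the kernel lines -/
theorem kernel_lines (hE : IsElementaryAbelian p E) (hcard : Nat.card E = p ^ 3)
    {t : ℕ} [ht : Fact t.Prime] {U : Subgroup G} (hEU : E ≤ Subgroup.normalizer (U : Set G))
    (hcop : (Nat.card E).Coprime (Nat.card U)) (hUexp : ∀ x ∈ U, x ^ t = 1)
    (hUnc : ¬ IsCyclic ↥U)
    (hcyc : ∀ ℓ : Subgroup G, IsLine p E ℓ →
      IsCyclic ↥(U ⊓ Subgroup.centralizer (ℓ : Set G) : Subgroup G)) :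
    U ⊓ Subgroup.centralizer (E : Set G) = ⊥ ∧
    (∃ ℓ₁ ℓ₂ : Subgroup G, IsLine p E ℓ₁ ∧ IsLine p E ℓ₂ ∧ ℓ₁ ≠ ℓ₂ ∧
      U ⊓ Subgroup.centralizer (ℓ₁ : Set G) ≠ ⊥ ∧ U ⊓ Subgroup.centralizer (ℓ₂ : Set G) ≠ ⊥) ∧
    (∀ ℓ : Subgroup G, IsLine p E ℓ → U ⊓ Subgroup.centralizer (ℓ : Set G) ≠ ⊥ →
      Nat.card (U ⊓ Subgroup.centralizer (ℓ : Set G) : Subgroup G) = t ∧
      E ⊓ Subgroup.centralizer ((U ⊓ Subgroup.centralizer (ℓ : Set G) : Subgroup G) : Set G) = ℓ) := by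
  have hexpℓ : ∀ ℓ : Subgroup G, ∀ x ∈ U ⊓ Subgroup.centralizer (ℓ : Set G), x ^ t = 1 :=
    fun ℓ x hx => hUexp x hx.1
  have hcyc_of_le : ∀ ℓ : Subgroup G, IsLine p E ℓ → U ≤ U ⊓ Subgroup.centralizer (ℓ : Set G) →
      False := by
    intro ℓ hℓ hle
    apply hUnc
    have : U = U ⊓ Subgroup.centralizer (ℓ : Set G) := le_antisymm hle inf_le_left
    rw [this]; exact hcyc ℓ hℓ
  -- (a)
  have ha : U ⊓ Subgroup.centralizer (E : Set G) = ⊥ := by
    by_contra hne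
    obtain ⟨ℓ₀, hℓ₀⟩ := exists_line hE hcard
    have hXle : ∀ ℓ : Subgroup G, IsLine p E ℓ →
        U ⊓ Subgroup.centralizer (E : Set G) ≤ U ⊓ Subgroup.centralizer (ℓ : Set G) :=
      fun ℓ hℓ => inf_le_inf_left U (Subgroup.centralizer_le hℓ.1)
    have hXcard : t ≤ Nat.card (U ⊓ Subgroup.centralizer (E : Set G) : Subgroup G) := by
      have hc : IsCyclic ↥(U ⊓ Subgroup.centralizer (E : Set G) : Subgroup G) := by
        have h1 := hcyc ℓ₀ hℓ₀
        have h2 : IsCyclic ↥((U ⊓ Subgroup.centralizer (E : Set G)).subgroupOf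
          (U ⊓ Subgroup.centralizer (ℓ₀ : Set G))) := Subgroup.isCyclic _
        exact (Subgroup.subgroupOfEquivOfLe (hXle ℓ₀ hℓ₀)).isCyclic.mp h2
      exact (card_eq_of_isCyclic_of_exp hc (fun x hx => hUexp x hx.1) hne).ge
    have heq : ∀ ℓ : Subgroup G, IsLine p E ℓ →
        U ⊓ Subgroup.centralizer (ℓ : Set G) = U ⊓ Subgroup.centralizer (E : Set G) := by
      intro ℓ hℓ
      symm
      apply Subgroup.eq_of_le_of_card_ge (hXle ℓ hℓ)
      exact (card_le_of_isCyclic_of_exp ht.out.pos (hcyc ℓ hℓ) (hexpℓ ℓ)).trans hXcard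
    have hU : U ≤ U ⊓ Subgroup.centralizer (E : Set G) :=
      le_of_lines hE hcard hEU hcop (fun ℓ hℓ => (heq ℓ hℓ).le)
    exact hcyc_of_le ℓ₀ hℓ₀ (hU.trans (hXle ℓ₀ hℓ₀))
  refine ⟨ha, ?_, ?_⟩
  · -- (b)
    have h1 : ∃ ℓ₁ : Subgroup G, IsLine p E ℓ₁ ∧ U ⊓ Subgroup.centralizer (ℓ₁ : Set G) ≠ ⊥ := by
      by_contra hcon
      push Not at hcon
      have hU : U ≤ ⊥ := le_of_lines hE hcard hEU hcop (fun ℓ hℓ => (hcon ℓ hℓ).le)
      apply hUnc
      rw [le_bot_iff.mp hU]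
      exact isCyclic_of_subsingleton
    obtain ⟨ℓ₁, hℓ₁, hne₁⟩ := h1
    by_contra hcon
    push Not at hcon
    have hU : U ≤ U ⊓ Subgroup.centralizer (ℓ₁ : Set G) := by
      apply le_of_lines hE hcard hEU hcop
      intro ℓ hℓ
      by_cases heq : ℓ = ℓ₁
      · rw [heq]
      · by_contra hnle
        have hne₂ : U ⊓ Subgroup.centralizer (ℓ : Set G) ≠ ⊥ := by
          intro h0
          apply hnle
          rw [h0]; exact bot_le
        exact hne₂ (hcon ℓ₁ ℓ hℓ₁ hℓ (Ne.symm heq) hne₁)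
    exact hcyc_of_le ℓ₁ hℓ₁ hU
  · -- (d)
    intro ℓ hℓ hne
    refine ⟨card_eq_of_isCyclic_of_exp (hcyc ℓ hℓ) (hexpℓ ℓ) hne, ?_⟩
    set Uℓ := U ⊓ Subgroup.centralizer (ℓ : Set G) with hUℓ
    have hle : ℓ ≤ E ⊓ Subgroup.centralizer (Uℓ : Set G) := by
      refine le_inf hℓ.1 ?_
      rw [Subgroup.le_centralizer_iff]
      exact inf_le_right
    by_contra hneq
    have hlt : ℓ < E ⊓ Subgroup.centralizer (Uℓ : Set G) := lt_of_le_of_ne hle (Ne.symm hneq)
    have hlt' := card_lt_card_of_lt hlt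
    rw [hℓ.2] at hlt'
    have hdvd : Nat.card (E ⊓ Subgroup.centralizer (Uℓ : Set G) : Subgroup G) ∣ p ^ 3 := by
      rw [← hcard]; exact Subgroup.card_dvd_of_le inf_le_left
    obtain ⟨i, hi, hci⟩ := (Nat.dvd_prime_pow hp.out).mp hdvd
    rw [hci] at hlt'
    have hi2 : 2 < i := (Nat.pow_lt_pow_iff_right hp.out.one_lt).mp hlt'
    have hi3 : i = 3 := by omega
    rw [hi3] at hci
    have hEeq : E ⊓ Subgroup.centralizer (Uℓ : Set G) = E :=
      Subgroup.eq_of_le_of_card_ge inf_le_left (by rw [hci, hcard])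
    have hEc : E ≤ Subgroup.centralizer (Uℓ : Set G) := by rw [← hEeq]; exact inf_le_right
    apply hne
    rw [← le_bot_iff, ← ha]
    refine le_inf inf_le_left ?_
    rw [Subgroup.le_centralizer_iff]
    exact hEc

end action

section index

/-- a group of exponent `p` acting on a group of prime order `t`: the kernel has index at most `p` -/
theorem relIndex_centralizer_le {p t : ℕ} [hp : Fact p.Prime] [ht : Fact t.Prime] {E X : Subgroup G}
    (hEexp : ∀ e ∈ E, e ^ p = 1) (hEX : E ≤ Subgroup.normalizer (X : Set G))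
    (hX : Nat.card X = t) : (E ⊓ Subgroup.centralizer (X : Set G)).relIndex E ≤ p := by
  classical
  set φ := Cfsg.Agent.Lib.Lead.FF.conjAct X E hEX with hφ
  have hker : φ.ker = (E ⊓ Subgroup.centralizer (X : Set G)).subgroupOf E := by
    ext e
    rw [MonoidHom.mem_ker, Subgroup.mem_subgroupOf, Subgroup.mem_inf]
    constructor
    · intro h
      refine ⟨e.2, ?_⟩
      rw [Subgroup.mem_centralizer_iff]
      intro x hx
      have h1 : (φ e) ⟨x, hx⟩ = ⟨x, hx⟩ := by rw [h]; rfl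
      have h2 := congrArg Subtype.val h1
      rw [hφ, Cfsg.Agent.Lib.Lead.FF.conjAct_apply] at h2
      calc x * (e : G) = ((e : G) * x * (e : G)⁻¹) * (e : G) := by rw [h2]
        _ = (e : G) * x := by group
    · rintro ⟨-, h⟩
      apply MulEquiv.ext
      intro x
      apply Subtype.ext
      rw [hφ, Cfsg.Agent.Lib.Lead.FF.conjAct_apply]
      have := (Subgroup.mem_centralizer_iff.mp h) (x : G) x.2
      show (e : G) * (x : G) * (e : G)⁻¹ = (x : G)
      rw [← this]; group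
  have hXc : IsCyclic ↥X := isCyclic_of_prime_card hX
  have hcyc : IsCyclic (MulAut ↥X) := by
    have e := IsCyclic.mulAutMulEquiv ↥X
    rw [hX] at e
    exact isCyclic_of_surjective e.symm.toMonoidHom e.symm.surjective
  have hrc : IsCyclic ↥φ.range := Subgroup.isCyclic _
  have hexp : ∀ y : ↥φ.range, y ^ p = 1 := by
    rintro ⟨_, e, rfl⟩
    apply Subtype.ext
    show (φ e) ^ p = 1
    rw [← map_pow]
    have : e ^ p = 1 := Subtype.ext (by simpa using hEexp (e : G) e.2)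
    rw [this, map_one]
  have hcard : Nat.card ↥φ.range ≤ p := by
    have := Fintype.ofFinite ↥φ.range
    have h3 := IsCyclic.card_pow_eq_one_le (α := ↥φ.range) hp.out.pos
    have h4 : (Finset.univ.filter (fun a : ↥φ.range => a ^ p = 1)) = Finset.univ := by
      ext b; simp [hexp b]
    rw [h4, Finset.card_univ] at h3
    rw [Nat.card_eq_fintype_card]; exact h3
  show ((E ⊓ Subgroup.centralizer (X : Set G)).subgroupOf E).index ≤ p
  rw [← hker, Subgroup.index_ker]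
  exact hcard

end index

end Cfsg.Agent.Lib.Lead.BG95
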