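import Mathlib
import Cfsg.Agent.Lib.Lead.BG95c

set_option autoImplicit false

/-! Bender–Glauberman Lemma 9.5, part d: the context, "big" maximal subgroups, the Sylow subgroup `S`
and the subgroup `U`. -/

namespace Cfsg.Agent.Lib.Lead.BG95

open Cfsg Cfsg.Agent.Lib.Lead Cfsg.Agent.Lib.Helper7 Cfsg.Agent.Lib.Helper4
open Cfsg.Agent.Lib.Helper4.BG7 Cfsg.Agent.Lib.Helper4.BG76 Cfsg.Agent.Lib.Helper4.BG8
open Cfsg.Agent.Lib.Helper4.BG9

universe u

variable {G : Type u} [Group G] [Finite G]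

/-- `M` is the only maximal subgroup containing `Y` -/
def UM (M Y : Subgroup G) : Prop := ∀ L : Subgroup G, IsCoatom L → Y ≤ L → L = M

theorem UM.le {M Y X : Subgroup G} (h : UM M Y) (hX : X ≠ ⊤) (hYX : Y ≤ X) : X ≤ M := by
  obtain ⟨L, hL, hXL⟩ := exists_coatom_ge hX
  rw [← h L hL (hYX.trans hXL)]
  exact hXL

theorem UM.mono {M Y X : Subgroup G} (h : UM M Y) (hYX : Y ≤ X) : UM M X :=
  fun L hL hXL => h L hL (hYX.trans hXL)

theorem um_of_inUnique {M Y : Subgroup G} (hY : InUniqueMaximal Y) (hM : IsCoatom M) (hYM : Y ≤ M) :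
    UM M Y := by
  obtain ⟨M', ⟨hM', hYM'⟩, huniq⟩ := hY
  intro L hL hYL
  rw [huniq L ⟨hL, hYL⟩, huniq M ⟨hM, hYM⟩]

theorem inUnique_of_um {M Y : Subgroup G} (h : UM M Y) (hM : IsCoatom M) (hYM : Y ≤ M) :
    InUniqueMaximal Y :=
  ⟨M, ⟨hM, hYM⟩, fun L hL => h L hL.1 hL.2⟩

theorem UM.conj {M Y : Subgroup G} (h : UM M Y) (g : G) : UM (cj g M) (cj g Y) := by
  intro L hL hYL
  have h1 : cj g⁻¹ L = M := by
    apply h _ (isCoatom_cj hL g⁻¹)
    have := cj_mono g⁻¹ hYL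
    rwa [cj_inv_cj] at this
  rw [← h1, cj_cj_inv]

/-- the standing hypotheses of Lemma 9.5, with the conclusion negated -/
structure Ctx (p : ℕ) (P A : Subgroup G) : Prop where
  hG : IsMinSimpleOddOrder G
  hPsyl : ∃ T : Sylow p G, (T : Subgroup G) = P
  hA : IsSCN P A
  hA3 : ¬ PRankLE p 2 ↥A
  hnU : ¬ InUniqueMaximal A

namespace Ctx

variable {p : ℕ} [hp : Fact p.Prime] {P A : Subgroup G}

theorem hPp (c : Ctx p P A) : IsPGroup p P := by
  obtain ⟨T, hT⟩ := c.hPsyl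
  rw [← hT]; exact T.isPGroup'

theorem hAP (c : Ctx p P A) : A ≤ P := c.hA.1

theorem hAp (c : Ctx p P A) : IsPGroup p A := c.hPp.to_le c.hAP

theorem hAc (c : Ctx p P A) : ∀ a ∈ A, ∀ b ∈ A, a * b = b * a := scn_comm c.hA

theorem hAcomm (c : Ctx p P A) : IsMulCommutative ↥A :=
  ⟨⟨fun a b => Subtype.ext (c.hAc a.1 a.2 b.1 b.2)⟩⟩

theorem exists_E (c : Ctx p P A) :
    ∃ E : Subgroup G, E ≤ A ∧ IsElementaryAbelian p E ∧ p ^ 2 < Nat.card E :=
  exists_elementary_of_not_pRankLE c.hA3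

theorem hA1 (c : Ctx p P A) : A ≠ ⊥ := by
  obtain ⟨E, hEA, -, hEcard⟩ := c.exists_E
  intro h0
  rw [h0] at hEA
  have : E = ⊥ := le_bot_iff.mp hEA
  rw [this, Subgroup.card_bot] at hEcard
  have := Nat.one_le_pow 2 p hp.out.pos
  omega

theorem hpA (c : Ctx p P A) : p ∣ Nat.card A := by
  rcases c.hAp.card_eq_or_dvd with h2 | h2
  · exact absurd (Subgroup.card_eq_one.mp h2) c.hA1
  · exact h2

theorem hpG (c : Ctx p P A) : p ∣ Nat.card G := c.hpA.trans (Subgroup.card_subgroup_dvd_card A)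

theorem hp2 (c : Ctx p P A) : p ≠ 2 := ne_two_of_odd c.hG c.hpG

theorem hr1 (c : Ctx p P A) : ¬ PRankLE p 1 ↥A := by
  intro h1
  apply c.hA3
  intro B' hB' hBe'
  have h2 := h1 B' hB' hBe'
  have h3 : p ^ 1 ≤ p ^ 2 := Nat.pow_le_pow_right hp.out.pos (by norm_num)
  omega

theorem hTH (c : Ctx p P A) : TransitivityHypothesis A := by
  obtain ⟨T, hT⟩ := c.hPsyl
  exact theorem_7_6 c.hG c.hpG c.hAp (Or.inr ⟨T, by rw [hT]; exact c.hA, c.hr1⟩)

theorem hAcent (c : Ctx p P A) : A ≤ Subgroup.centralizer (A : Set G) := by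
  have : A ≤ P ⊓ Subgroup.centralizer (A : Set G) := by rw [c.hA.2.2]
  exact this.trans inf_le_right

theorem not_dvd_card (c : Ctx p P A) {q : ℕ} (hq : q.Prime) (hqp : q ≠ p) : ¬ q ∣ Nat.card A := by
  intro hd
  obtain ⟨n, hn⟩ := IsPGroup.iff_card.mp c.hAp
  rw [hn] at hd
  exact hqp ((Nat.prime_dvd_prime_iff_eq hq hp.out).mp (hq.dvd_of_dvd_pow hd))

theorem htr (c : Ctx p P A) {q : ℕ} (hq : q.Prime) (hqp : q ≠ p) : Transitive A q := by
  obtain ⟨E, hEA, hE, hEcard⟩ := c.exists_E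
  apply theorem_7_3 c.hG c.hTH _ hq (c.not_dvd_card hq hqp)
  intro hR'
  exact not_pRankLE_of_elementary (le_inf hEA (hEA.trans c.hAcent)) hE hEcard (hR' p hp.out)

theorem hPπ (c : Ctx p P A) : ∀ r : ℕ, r.Prime → r ∣ Nat.card P → r ∣ Nat.card A := by
  intro r hr' hd
  obtain ⟨n, hn⟩ := IsPGroup.iff_card.mp c.hPp
  rw [hn] at hd
  have : r = p := (Nat.prime_dvd_prime_iff_eq hr' hp.out).mp (hr'.dvd_of_dvd_pow hd)
  rw [this]; exact c.hpA

theorem hsn (c : Ctx p P A) : (A.subgroupOf P).IsSubnormal := by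
  have : (A.subgroupOf P).Normal := Subgroup.normal_subgroupOf_of_le_normalizer c.hA.2.1
  exact Subgroup.Normal.isSubnormal this

theorem hP_ne_top (c : Ctx p P A) : P ≠ ⊤ := isPGroup_ne_top c.hG c.hPp

theorem hA_ne_top (c : Ctx p P A) : A ≠ ⊤ := isPGroup_ne_top c.hG c.hAp

theorem thm75 (c : Ctx p P A) {q : ℕ} (hq : q.Prime) (hqp : q ≠ p) :
    TransitivityHypothesis P ∧ cpi P = cpi A ∧ Transitive P q ∧
      maxInvSubgroups ⊤ P {q} ⊆ maxInvSubgroups ⊤ A {q} :=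
  theorem_7_5 c.hG c.hTH hq (c.not_dvd_card hq hqp) c.hP_ne_top c.hPπ c.hAP c.hsn (c.htr hq hqp)

theorem KA_P_le (c : Ctx p P A) : KA P ≤ KA A := by
  have h1 : cpi P = cpi A := cpi_eq c.hAP c.hPπ
  have h2 := KA_inf_centralizer c.hG c.hTH c.hAP
  show piCoreOf (cpi P) (Subgroup.centralizer (P : Set G)) ≤ KA A
  rw [h1, ← h2]
  exact inf_le_left

theorem coprime_iff (c : Ctx p P A) (m : ℕ) : IsPiNum (cpi A) m ↔ m.Coprime p :=
  isPiNum_cpi_iff c.hAp c.hA1 m

/-- an `A`-invariant `p'`-subgroup of a proper subgroup `X ≥ A` lies in `O_{p'}(X)` -/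
theorem inv_le_core (c : Ctx p P A) {X Y : Subgroup G} (hX : X ≠ ⊤) (hAX : A ≤ X) (hYX : Y ≤ X)
    (hY : (Nat.card Y).Coprime p) (hAY : A ≤ Subgroup.normalizer (Y : Set G)) :
    Y ≤ piCoreOf (cpi A) X :=
  le_piCoreOf_of_mem_inv c.hTH hX hAX ⟨hYX, (c.coprime_iff _).mpr hY, hAY⟩

theorem card_core_coprime (c : Ctx p P A) (X : Subgroup G) :
    (Nat.card (piCoreOf (cpi A) X)).Coprime p :=
  (c.coprime_iff _).mp (isPiNum_card_piCoreOf _ _)

/-- no noncyclic elementary abelian subgroup of `A` consists of elements with centralizers in a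
common maximal subgroup -/
theorem no_good (c : Ctx p P A) {M : Subgroup G} (hM : IsCoatom M) {D : Subgroup G} (hDA : D ≤ A)
    (hDe : IsElementaryAbelian p D) (hDnc : ¬ IsCyclic ↥D)
    (hgood : ∀ d ∈ D, d ≠ 1 → Subgroup.centralizer ({d} : Set G) ≤ M) : False := by
  have hD1 : D ≠ ⊥ := by
    intro h0
    apply hDnc
    rw [h0]
    exact isCyclic_of_subsingleton
  obtain ⟨b, hb1⟩ := (Subgroup.ne_bot_iff_exists_ne_one.mp hD1)
  have hb1' : (b : G) ≠ 1 := fun h0 => hb1 (Subtype.ext h0)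
  have hDM : D ≤ M := by
    refine le_trans ?_ (hgood b b.2 hb1')
    intro e he
    rw [Subgroup.mem_centralizer_singleton_iff]
    exact congrArg Subtype.val (hDe.1.is_comm.comm ⟨e, he⟩ b)
  have hDU : InUniqueMaximal D :=
    Cfsg.Agent.S1398.result c.hG M hM p D hDM hDe hDnc (Or.inl hgood)
  exact c.hnU (inUniqueMaximal_mono hDU hDA c.hA_ne_top)

end Ctx

/-- a maximal subgroup containing `A` whose Fitting subgroup has `t`-rank at least three -/
structure Big (A M : Subgroup G) (t : ℕ) : Prop where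
  hM : IsCoatom M
  hAM : A ≤ M
  hbig : ¬ PRankLE t 2 ↥(fittingOf M)

namespace Big

variable {p : ℕ} [hp : Fact p.Prime] {P A M : Subgroup G} {t : ℕ} [ht : Fact t.Prime]

theorem hM_ne_top (b : Big A M t) : M ≠ ⊤ := b.hM.1

theorem t_ne_p (c : Ctx p P A) (b : Big A M t) : t ≠ p := by
  intro h0
  subst h0
  exact c.hnU (lemma_9_4 c.hG b.hM b.hbig c.hAp c.hAcomm c.hA3)

theorem exists_V (b : Big A M t) :
    ∃ V : Subgroup G, V ≤ opOf t M ∧ IsElementaryAbelian t V ∧ t ^ 2 < Nat.card V := by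
  obtain ⟨V, hVF, hV, hVcard⟩ := exists_elementary_of_not_pRankLE b.hbig
  exact ⟨V, le_opOf_of_le_fittingOf hVF (isPGroup_of_elementary hV), hV, hVcard⟩

theorem T_rank (b : Big A M t) : ¬ PRankLE t 2 ↥(opOf t M) := by
  obtain ⟨V, hVT, hV, hVcard⟩ := b.exists_V
  exact not_pRankLE_of_elementary hVT hV hVcard

theorem T_ne_bot (b : Big A M t) : opOf t M ≠ ⊥ := by
  obtain ⟨V, hVT, -, hVcard⟩ := b.exists_V
  intro h0
  rw [h0] at hVT
  have : V = ⊥ := le_bot_iff.mp hVT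
  rw [this, Subgroup.card_bot] at hVcard
  have := Nat.one_le_pow 2 t ht.out.pos
  omega

theorem t_dvd (b : Big A M t) : t ∣ Nat.card G := by
  rcases (opOf_isPGroup t M).card_eq_or_dvd with h2 | h2
  · exact absurd (Subgroup.card_eq_one.mp h2) b.T_ne_bot
  · exact h2.trans (Subgroup.card_subgroup_dvd_card _)

theorem t_ne_two (hG : IsMinSimpleOddOrder G) (b : Big A M t) : t ≠ 2 := ne_two_of_odd hG b.t_dvd

theorem T_not_cyclic (b : Big A M t) : ¬ IsCyclic ↥(opOf t M) := by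
  obtain ⟨V, hVT, hV, hVcard⟩ := b.exists_V
  intro hc
  have h1 : IsCyclic ↥(V.subgroupOf (opOf t M)) := Subgroup.isCyclic _
  have h2 : IsCyclic ↥V := (Subgroup.subgroupOfEquivOfLe hVT).isCyclic.mp h1
  have htt : t < t ^ 2 := by
    have := ht.out.one_lt
    nlinarith
  exact not_isCyclic_of_elementary hV (by omega) h2

/-- noncyclic `t`-subgroups of `M` whose centralizer has `t`-rank at least three lie in no other
maximal subgroup -/
theorem fat_um (hG : IsMinSimpleOddOrder G) (b : Big A M t) {Y : Subgroup G} (hYM : Y ≤ M)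
    (hYp : IsPGroup t Y) (hnc : ¬ IsCyclic ↥Y)
    (h3 : ¬ PRankLE t 2 ↥(Subgroup.centralizer (Y : Set G))) : UM M Y := by
  obtain ⟨V, hVT, hV, hVcard⟩ := b.exists_V
  have hVp : IsPGroup t V := isPGroup_of_elementary hV
  have hV3 : ¬ PRankLE t 2 ↥V := not_pRankLE_of_elementary le_rfl hV hVcard
  have hVU : InUniqueMaximal V := lemma_9_4 hG b.hM b.hbig hVp hV.1 hV3
  have hYU : InUniqueMaximal Y := lemma_9_3 hG hVp hV.1 hV3 hVU hYp hnc h3
  exact um_of_inUnique hYU b.hM hYM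

theorem um_T (hG : IsMinSimpleOddOrder G) (b : Big A M t) : UM M (opOf t M) := by
  obtain ⟨V, hVT, hV, hVcard⟩ := b.exists_V
  have hVp : IsPGroup t V := isPGroup_of_elementary hV
  have hV3 : ¬ PRankLE t 2 ↥V := not_pRankLE_of_elementary le_rfl hV hVcard
  have hVU : InUniqueMaximal V := lemma_9_4 hG b.hM b.hbig hVp hV.1 hV3
  exact (um_of_inUnique hVU b.hM (hVT.trans (opOf_le t M))).mono hVT

end Big

/-- an `A`-invariant Sylow `t`-subgroup of `O_{p'}(M)` -/
structure SData (A M : Subgroup G) (t : ℕ) (S : Subgroup G) : Prop where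
  hSO : SylIn t (piCoreOf (cpi A) M) S
  hAS : A ≤ Subgroup.normalizer (S : Set G)

namespace SData

variable {p : ℕ} [hp : Fact p.Prime] {P A M S : Subgroup G} {t : ℕ} [ht : Fact t.Prime]

theorem hSp (s : SData A M t S) : IsPGroup t S := s.hSO.2.1

theorem S_le (s : SData A M t S) : S ≤ M := s.hSO.1.trans (piCoreOf_le _ _)

theorem T_le_core (c : Ctx p P A) (b : Big A M t) : opOf t M ≤ piCoreOf (cpi A) M := by
  apply le_piCoreOf (opOf_le t M) (le_normalizer_opOf t M)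
  rw [c.coprime_iff]
  exact coprime_of_isPGroup_ne (Big.t_ne_p c b) (opOf_isPGroup t M)

theorem T_le (c : Ctx p P A) (b : Big A M t) (s : SData A M t S) : opOf t M ≤ S :=
  SylIn.normal_le s.hSO (T_le_core c b)
    ((piCoreOf_le _ _).trans (le_normalizer_opOf t M)) (opOf_isPGroup t M)

theorem S_norm_T (s : SData A M t S) : S ≤ Subgroup.normalizer (opOf t M : Set G) :=
  s.S_le.trans (le_normalizer_opOf t M)

theorem S_rank (c : Ctx p P A) (b : Big A M t) (s : SData A M t S) : ¬ PRankLE t 2 ↥S := by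
  obtain ⟨V, hVT, hV, hVcard⟩ := b.exists_V
  exact not_pRankLE_of_elementary (hVT.trans (T_le c b s)) hV hVcard

theorem S_ne_bot (c : Ctx p P A) (b : Big A M t) (s : SData A M t S) : S ≠ ⊥ := by
  intro h0
  have := T_le c b s
  rw [h0] at this
  exact b.T_ne_bot (le_bot_iff.mp this)

theorem normalizer_le (c : Ctx p P A) (b : Big A M t) (s : SData A M t S) :
    Subgroup.normalizer (S : Set G) ≤ M :=
  (Big.um_T c.hG b).le (normalizer_ne_top c.hG (S_ne_bot c b s) (isPGroup_ne_top c.hG s.hSp))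
    ((T_le c b s).trans Subgroup.le_normalizer)

theorem mem_maxInv (c : Ctx p P A) (b : Big A M t) (s : SData A M t S) :
    S ∈ maxInvSubgroups ⊤ A {t} := by
  refine ⟨⟨le_top, isPiNum_singleton_of_isPGroup s.hSp, s.hAS⟩, ?_⟩
  intro R hR hSR
  have hRp : IsPGroup t R := isPGroup_of_isPiNum_singleton hR.2.1
  have hRM : R ≤ M := (Big.um_T c.hG b).le (isPGroup_ne_top c.hG hRp) ((T_le c b s).trans hSR)
  have hRO : R ≤ piCoreOf (cpi A) M :=
    c.inv_le_core b.hM_ne_top b.hAM hRM (coprime_of_isPGroup_ne (Big.t_ne_p c b) hRp) hR.2.2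
  exact eq_of_isPGroup_of_relIndex hSR hRO hRp s.hSO.2.2

/-- existence of an invariant Sylow subgroup for any `p`-subgroup `B ≥ A` of `M` -/
theorem exists_of_le (c : Ctx p P A) (b : Big A M t) {B : Subgroup G} (hAB : A ≤ B) (hBM : B ≤ M)
    (hBp : IsPGroup p B) :
    ∃ S : Subgroup G, SData A M t S ∧ B ≤ Subgroup.normalizer (S : Set G) := by
  set O := piCoreOf (cpi A) M with hO
  have hBO : B ≤ Subgroup.normalizer (O : Set G) := hBM.trans (le_normalizer_piCoreOf _ _)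
  have hcop : (Nat.card B).Coprime (Nat.card O) := by
    obtain ⟨n, hn⟩ := IsPGroup.iff_card.mp hBp
    rw [hn]
    exact Nat.Coprime.pow_left n (c.card_core_coprime M).symm
  have hBs : Group.IsSolvable ↥B := isSolvable_of_isPGroup' hBp
  obtain ⟨Q, hQ⟩ := Cfsg.Agent.S0023.result B O hBO hcop (Or.inl hBs) t
  exact ⟨(Q : Subgroup ↥O).map O.subtype, ⟨sylIn_map_sylow Q, hAB.trans hQ⟩, hQ⟩

theorem exists_sdata (c : Ctx p P A) (b : Big A M t) : ∃ S : Subgroup G, SData A M t S := by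
  obtain ⟨S, hS, -⟩ := exists_of_le c b le_rfl b.hAM c.hAp
  exact ⟨S, hS⟩

/-- the subgroup `U = Ω₁(Z₂(S) ∩ T)` -/
abbrev U (t : ℕ) (M S : Subgroup G) : Subgroup G := omz t S (opOf t M)

theorem U_le_T (S : Subgroup G) : U t M S ≤ opOf t M := omz_le_right t S _

theorem U_le_S (S : Subgroup G) : U t M S ≤ S := omz_le_left t S _

theorem U_le_M (S : Subgroup G) : U t M S ≤ M := (U_le_T S).trans (opOf_le t M)

theorem U_exp (c : Ctx p P A) (b : Big A M t) {x : G} (hx : x ∈ U t M S) : x ^ t = 1 :=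
  omz_pow (Big.t_ne_two c.hG b) hx

theorem U_not_cyclic (c : Ctx p P A) (b : Big A M t) (s : SData A M t S) :
    ¬ IsCyclic ↥(U t M S) :=
  omz_not_isCyclic (Big.t_ne_two c.hG b) s.hSp (T_le c b s) s.S_norm_T b.T_not_cyclic

theorem U_normalizer {g : G} (hgS : g ∈ Subgroup.normalizer (S : Set G)) (hgM : g ∈ M) :
    g ∈ Subgroup.normalizer (U t M S : Set G) :=
  omz_normalizer hgS (le_normalizer_opOf t M hgM)

theorem A_norm_U (b : Big A M t) (s : SData A M t S) :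
    A ≤ Subgroup.normalizer (U t M S : Set G) :=
  fun _ ha => U_normalizer (s.hAS ha) (b.hAM ha)

theorem U_coprime (c : Ctx p P A) (b : Big A M t) (s : SData A M t S) :
    (Nat.card (U t M S)).Coprime p :=
  coprime_of_isPGroup_ne (Big.t_ne_p c b) (s.hSp.to_le (U_le_S S))

/-- every noncyclic subgroup of `U` lies in no maximal subgroup other than `M` -/
theorem um_of_le_U (c : Ctx p P A) (b : Big A M t) (s : SData A M t S) {Y : Subgroup G}
    (hY : Y ≤ U t M S) (hnc : ¬ IsCyclic ↥Y) : UM M Y := by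
  obtain ⟨Y₂, hY₂Y, hY₂p, hY₂nc, hY₂3⟩ := exists_fat_of_le_omz (Big.t_ne_two c.hG b) s.hSp
    (S_rank c b s) s.S_norm_T hY hnc
  exact (Big.fat_um c.hG b (hY₂Y.trans (hY.trans (U_le_M S))) hY₂p hY₂nc hY₂3).mono hY₂Y

/-- an element centralizing a noncyclic subgroup of `U` has its centralizer in `M` -/
theorem good_of_centralizes (c : Ctx p P A) (b : Big A M t) (s : SData A M t S) {Y : Subgroup G}
    (hY : Y ≤ U t M S) (hnc : ¬ IsCyclic ↥Y) {g : G} (hg1 : g ≠ 1)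
    (hg : Y ≤ Subgroup.centralizer ({g} : Set G)) : Subgroup.centralizer ({g} : Set G) ≤ M :=
  (um_of_le_U c b s hY hnc).le (center_ne_top c.hG hg1) hg

end SData

end Cfsg.Agent.Lib.Lead.BG95
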