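import Mathlib
import Cfsg.Agent.Lib.Lead.BG95d

set_option autoImplicit false

/-! Bender–Glauberman Lemma 9.5, part e: `Ω₁(A)` has order `p³` and every big maximal subgroup
containing `A` contains `K_A`, `N(A)`, `P` and `N(P)`. -/

namespace Cfsg.Agent.Lib.Lead.BG95

open Cfsg Cfsg.Agent.Lib.Lead Cfsg.Agent.Lib.Helper7 Cfsg.Agent.Lib.Helper4
open Cfsg.Agent.Lib.Helper4.BG7 Cfsg.Agent.Lib.Helper4.BG76 Cfsg.Agent.Lib.Helper4.BG8
open Cfsg.Agent.Lib.Helper4.BG9

universe u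

variable {G : Type u} [Group G] [Finite G]

theorem inf_centralizer_le_centralizer_sup (H K : Subgroup G) :
    Subgroup.centralizer (H : Set G) ⊓ Subgroup.centralizer (K : Set G) ≤
      Subgroup.centralizer ((H ⊔ K : Subgroup G) : Set G) := by
  intro x hx
  have h1 : H ⊔ K ≤ Subgroup.centralizer ({x} : Set G) := by
    apply sup_le
    · intro y hy
      rw [Subgroup.mem_centralizer_singleton_iff]
      exact (Subgroup.mem_centralizer_iff.mp hx.1) y hy
    · intro y hy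
      rw [Subgroup.mem_centralizer_singleton_iff]
      exact (Subgroup.mem_centralizer_iff.mp hx.2) y hy
  rw [Subgroup.mem_centralizer_iff]
  intro y hy
  exact Subgroup.mem_centralizer_singleton_iff.mp (h1 hy)

theorem centralizer_le_singleton {D : Subgroup G} {d : G} (hd : d ∈ D) :
    Subgroup.centralizer (D : Set G) ≤ Subgroup.centralizer ({d} : Set G) :=
  Subgroup.centralizer_le (Set.singleton_subset_iff.mpr hd)

/-- the conclusions of the kernel line analysis -/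
structure KData (p t : ℕ) (E U : Subgroup G) : Prop where
  hE : IsElementaryAbelian p E
  hcard : Nat.card E = p ^ 3
  hexp : ∀ x ∈ U, x ^ t = 1
  hfix : U ⊓ Subgroup.centralizer (E : Set G) = ⊥
  hex : ∃ ℓ₁ ℓ₂ : Subgroup G, IsLine p E ℓ₁ ∧ IsLine p E ℓ₂ ∧ ℓ₁ ≠ ℓ₂ ∧
      U ⊓ Subgroup.centralizer (ℓ₁ : Set G) ≠ ⊥ ∧ U ⊓ Subgroup.centralizer (ℓ₂ : Set G) ≠ ⊥
  hline : ∀ ℓ : Subgroup G, IsLine p E ℓ → U ⊓ Subgroup.centralizer (ℓ : Set G) ≠ ⊥ →
      Nat.card (U ⊓ Subgroup.centralizer (ℓ : Set G) : Subgroup G) = t ∧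
      E ⊓ Subgroup.centralizer ((U ⊓ Subgroup.centralizer (ℓ : Set G) : Subgroup G) : Set G) = ℓ
  hgen : ∀ W : Subgroup G,
      (∀ ℓ : Subgroup G, IsLine p E ℓ → U ⊓ Subgroup.centralizer (ℓ : Set G) ≤ W) → U ≤ W

namespace KData

variable {p t : ℕ} [hp : Fact p.Prime] [ht : Fact t.Prime] {E U : Subgroup G}

/-- a subgroup of `U` containing the fixed points of two distinct kernel lines is not cyclic -/
theorem not_cyclic_of_two (k : KData p t E U) {ℓ₁ ℓ₂ : Subgroup G} (h₁ : IsLine p E ℓ₁)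
    (h₂ : IsLine p E ℓ₂) (hne : ℓ₁ ≠ ℓ₂) (hk₁ : U ⊓ Subgroup.centralizer (ℓ₁ : Set G) ≠ ⊥)
    (hk₂ : U ⊓ Subgroup.centralizer (ℓ₂ : Set G) ≠ ⊥) {Y : Subgroup G} (hYU : Y ≤ U)
    (hY₁ : U ⊓ Subgroup.centralizer (ℓ₁ : Set G) ≤ Y)
    (hY₂ : U ⊓ Subgroup.centralizer (ℓ₂ : Set G) ≤ Y) : ¬ IsCyclic ↥Y := by
  intro hc
  have hcard := card_le_of_isCyclic_of_exp ht.out.pos hc (fun x hx => k.hexp x (hYU hx))
  have e₁ := Subgroup.eq_of_le_of_card_ge hY₁ (by rw [(k.hline ℓ₁ h₁ hk₁).1]; exact hcard)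
  have e₂ := Subgroup.eq_of_le_of_card_ge hY₂ (by rw [(k.hline ℓ₂ h₂ hk₂).1]; exact hcard)
  apply hk₁
  rw [← le_bot_iff, ← k.hfix]
  refine le_inf inf_le_left ?_
  have h3 : U ⊓ Subgroup.centralizer (ℓ₁ : Set G) ≤
      Subgroup.centralizer (ℓ₁ : Set G) ⊓ Subgroup.centralizer (ℓ₂ : Set G) := by
    refine le_inf inf_le_right ?_
    rw [e₁, ← e₂]
    exact inf_le_right
  refine h3.trans ?_
  rw [← (line_inf_sup k.hE k.hcard h₁ h₂ hne).2]
  exact inf_centralizer_le_centralizer_sup ℓ₁ ℓ₂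

end KData

variable {p : ℕ} [hp : Fact p.Prime] {P A M S : Subgroup G} {t : ℕ} [ht : Fact t.Prime]

/-- `Ω₁(A)` -/
def Ctx.E (c : Ctx p P A) : Subgroup G := omegaAb p A c.hAc

namespace Ctx

theorem E_le (c : Ctx p P A) : c.E ≤ A := fun _ hx => hx.1

theorem E_elem (c : Ctx p P A) : IsElementaryAbelian p c.E :=
  ⟨isCommutative_of_le c.hAc c.E_le, fun _ ha => ha.2⟩

theorem le_E (c : Ctx p P A) {D : Subgroup G} (hDA : D ≤ A) (hD : ∀ d ∈ D, d ^ p = 1) :
    D ≤ c.E := fun d hd => ⟨hDA hd, hD d hd⟩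

theorem E_card_gt (c : Ctx p P A) : p ^ 2 < Nat.card c.E := by
  obtain ⟨E', hE'A, hE', hE'card⟩ := c.exists_E
  exact lt_of_lt_of_le hE'card (Subgroup.card_le_of_le (c.le_E hE'A hE'.2))

theorem normalizer_le_E (c : Ctx p P A) :
    Subgroup.normalizer (A : Set G) ≤ Subgroup.normalizer (c.E : Set G) := by
  intro n hn
  apply Cfsg.Agent.Lib.Lead.FF.le_normalizer_of_conj_mem (Subgroup.normalizer (A : Set G)) c.E _ hn
  intro a ha k hk
  refine ⟨(Subgroup.mem_normalizer_iff.mp ha k).mp hk.1, ?_⟩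
  have : (a * k * a⁻¹) ^ p = a * k ^ p * a⁻¹ := by
    have := map_pow (MulAut.conj a).toMonoidHom k p
    simpa [MulAut.conj_apply] using this
  rw [this, hk.2]; group

end Ctx

namespace SData

/-- a noncyclic elementary abelian subgroup of `A` has cyclic fixed points on `U` -/
theorem cyclic_of_noncyclic (c : Ctx p P A) (b : Big A M t) (s : SData A M t S) {D : Subgroup G}
    (hDA : D ≤ A) (hDe : IsElementaryAbelian p D) (hDnc : ¬ IsCyclic ↥D) :
    IsCyclic ↥(U t M S ⊓ Subgroup.centralizer (D : Set G) : Subgroup G) := by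
  by_contra hnc
  apply c.no_good b.hM hDA hDe hDnc
  intro d hd hd1
  exact good_of_centralizes c b s inf_le_left hnc hd1 (inf_le_right.trans (centralizer_le_singleton hd))

theorem line_noncyclic {E ℓ : Subgroup G} (hE : IsElementaryAbelian p E) (hℓ : IsLine p E ℓ) :
    IsElementaryAbelian p ℓ ∧ ¬ IsCyclic ↥ℓ := by
  have h1 := elementary_of_le hE hℓ.1
  refine ⟨h1, not_isCyclic_of_elementary h1 ?_⟩
  rw [hℓ.2]
  have := pow_lt_pow_p (p := p) 1 2 (by norm_num)
  simpa using this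

/-- the kernel line data for an elementary abelian subgroup of `A` of order `p³` -/
theorem kdata (c : Ctx p P A) (b : Big A M t) (s : SData A M t S) {E : Subgroup G} (hEA : E ≤ A)
    (hE : IsElementaryAbelian p E) (hcard : Nat.card E = p ^ 3) : KData p t E (U t M S) := by
  have hEU : E ≤ Subgroup.normalizer (U t M S : Set G) := hEA.trans (A_norm_U b s)
  have hcop : (Nat.card E).Coprime (Nat.card (U t M S)) := by
    rw [hcard]
    exact Nat.Coprime.pow_left 3 (U_coprime c b s).symm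
  have hexp : ∀ x ∈ U t M S, x ^ t = 1 := fun x hx => U_exp c b hx
  have hcyc : ∀ ℓ : Subgroup G, IsLine p E ℓ →
      IsCyclic ↥(U t M S ⊓ Subgroup.centralizer (ℓ : Set G) : Subgroup G) := by
    intro ℓ hℓ
    obtain ⟨h1, h2⟩ := line_noncyclic hE hℓ
    exact cyclic_of_noncyclic c b s (hℓ.1.trans hEA) h1 h2
  obtain ⟨h1, h2, h3⟩ := kernel_lines hE hcard hEU hcop hexp (U_not_cyclic c b s) hcyc
  exact ⟨hE, hcard, hexp, h1, h2, h3, fun W hW => le_of_lines hE hcard hEU hcop hW⟩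

/-- `Ω₁(A)` has order `p³` -/
theorem card_E (c : Ctx p P A) (b : Big A M t) (s : SData A M t S) : Nat.card c.E = p ^ 3 := by
  have hEp : IsPGroup p c.E := isPGroup_of_elementary c.E_elem
  obtain ⟨k, hk⟩ := IsPGroup.iff_card.mp hEp
  have hk2 : 2 < k := by
    have := c.E_card_gt
    rw [hk] at this
    exact (Nat.pow_lt_pow_iff_right hp.out.one_lt).mp this
  by_contra hne
  have hk4 : 4 ≤ k := by
    rcases Nat.lt_or_ge k 4 with h | h
    · exfalso
      apply hne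
      have : k = 3 := by omega
      rw [hk, this]
    · exact h
  -- a subgroup of order `p³`
  obtain ⟨K, hK⟩ := Sylow.exists_subgroup_card_pow_prime (G := ↥c.E) p
    (show p ^ 3 ∣ Nat.card ↥c.E by rw [hk]; exact pow_dvd_pow p (by omega))
  set E₃ : Subgroup G := K.map c.E.subtype with hE₃
  have hE₃E : E₃ ≤ c.E := Subgroup.map_subtype_le _
  have hE₃c : Nat.card E₃ = p ^ 3 := by
    rw [hE₃, Subgroup.card_map_of_injective c.E.subtype_injective]; exact hK
  have hE₃e : IsElementaryAbelian p E₃ := elementary_of_le c.E_elem hE₃E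
  have kd := kdata c b s (hE₃E.trans c.E_le) hE₃e hE₃c
  obtain ⟨ℓ₁, ℓ₂, h₁, h₂, hne12, hk₁, hk₂⟩ := kd.hex
  set U₁ := U t M S ⊓ Subgroup.centralizer (ℓ₁ : Set G) with hU₁
  set U₂ := U t M S ⊓ Subgroup.centralizer (ℓ₂ : Set G) with hU₂
  have hEU : c.E ≤ Subgroup.normalizer (U t M S : Set G) := c.E_le.trans (A_norm_U b s)
  have hnorm : ∀ ℓ : Subgroup G, ℓ ≤ c.E → c.E ≤ Subgroup.normalizer
      ((U t M S ⊓ Subgroup.centralizer (ℓ : Set G) : Subgroup G) : Set G) := by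
    intro ℓ hℓ x hx
    apply normalizer_inf_le'
    refine ⟨hEU hx, Subgroup.le_normalizer ?_⟩
    rw [Subgroup.mem_centralizer_iff]
    intro y hy
    exact comm_of_elementary c.E_elem (hℓ hy) hx
  have hr₁ := relIndex_centralizer_le (p := p) (t := t) c.E_elem.2 (hnorm ℓ₁ (h₁.1.trans hE₃E))
    (kd.hline ℓ₁ h₁ hk₁).1
  have hr₂ := relIndex_centralizer_le (p := p) (t := t) c.E_elem.2 (hnorm ℓ₂ (h₂.1.trans hE₃E))
    (kd.hline ℓ₂ h₂ hk₂).1
  set H₁ := c.E ⊓ Subgroup.centralizer (U₁ : Set G) with hH₁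
  set H₂ := c.E ⊓ Subgroup.centralizer (U₂ : Set G) with hH₂
  set D := H₁ ⊓ H₂ with hD
  have hDE : D ≤ c.E := inf_le_left.trans inf_le_left
  have hrD : D.relIndex c.E ≤ p * p :=
    (Subgroup.relIndex_inf_le).trans (Nat.mul_le_mul hr₁ hr₂)
  have hDcard : p ^ 2 ≤ Nat.card D := by
    have h1 := BG7.card_mul_relIndex hDE
    rw [hk] at h1
    have h2 : p ^ 4 ≤ p ^ k := Nat.pow_le_pow_right hp.out.pos hk4
    have h3 : p ^ 4 ≤ Nat.card D * (p * p) := by
      calc p ^ 4 ≤ p ^ k := h2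
        _ = Nat.card D * D.relIndex c.E := h1.symm
        _ ≤ Nat.card D * (p * p) := Nat.mul_le_mul_left _ hrD
    have h4 : p ^ 4 = p ^ 2 * (p * p) := by ring
    rw [h4] at h3
    exact Nat.le_of_mul_le_mul_right h3 (Nat.mul_pos hp.out.pos hp.out.pos)
  have hDe : IsElementaryAbelian p D := elementary_of_le c.E_elem hDE
  have hDnc : ¬ IsCyclic ↥D := by
    apply not_isCyclic_of_elementary hDe
    have := pow_lt_pow_p (p := p) 1 2 (by norm_num)
    rw [pow_one] at this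
    omega
  have hcyc := cyclic_of_noncyclic c b s (hDE.trans c.E_le) hDe hDnc
  have hle₁ : U₁ ≤ U t M S ⊓ Subgroup.centralizer (D : Set G) := by
    refine le_inf inf_le_left ?_
    rw [Subgroup.le_centralizer_iff]
    exact inf_le_left.trans inf_le_right
  have hle₂ : U₂ ≤ U t M S ⊓ Subgroup.centralizer (D : Set G) := by
    refine le_inf inf_le_left ?_
    rw [Subgroup.le_centralizer_iff]
    exact inf_le_right.trans inf_le_right
  exact kd.not_cyclic_of_two h₁ h₂ hne12 hk₁ hk₂ inf_le_left hle₁ hle₂ hcyc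

/-- the kernel line data for `Ω₁(A)` -/
theorem kdataE (c : Ctx p P A) (b : Big A M t) (s : SData A M t S) :
    KData p t c.E (U t M S) :=
  kdata c b s c.E_le c.E_elem (card_E c b s)

/-- some nonidentity element of `Ω₁(A)` has its centralizer in `M` -/
theorem exists_good (c : Ctx p P A) (b : Big A M t) (s : SData A M t S) :
    ∃ a₀ ∈ c.E, a₀ ≠ 1 ∧ Subgroup.centralizer ({a₀} : Set G) ≤ M := by
  have kd := kdataE c b s
  obtain ⟨ℓ₁, ℓ₂, h₁, h₂, hne12, hk₁, hk₂⟩ := kd.hex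
  obtain ⟨a₀, ha₁, ha₂, ha01, -⟩ := exists_mem_line_inf kd.hE kd.hcard h₁ h₂ hne12
  refine ⟨a₀, h₁.1 ha₁, ha01, ?_⟩
  have hnc : ¬ IsCyclic ↥(U t M S ⊓ Subgroup.centralizer ({a₀} : Set G) : Subgroup G) :=
    kd.not_cyclic_of_two h₁ h₂ hne12 hk₁ hk₂ inf_le_left
      (inf_le_inf_left _ (centralizer_le_singleton ha₁))
      (inf_le_inf_left _ (centralizer_le_singleton ha₂))
  exact good_of_centralizes c b s inf_le_left hnc ha01 inf_le_right

end SData

namespace Big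

/-- `K_A ≤ M` -/
theorem KA_le (c : Ctx p P A) (b : Big A M t) : KA A ≤ M := by
  obtain ⟨S, s⟩ := SData.exists_sdata c b
  obtain ⟨a₀, ha₀, ha01, hgood⟩ := SData.exists_good c b s
  refine le_trans ?_ hgood
  exact (KA_le_centralizer A).trans (centralizer_le_singleton (c.E_le ha₀))

/-- `N(A) ≤ M` -/
theorem normalizer_A_le (c : Ctx p P A) (b : Big A M t) : Subgroup.normalizer (A : Set G) ≤ M := by
  obtain ⟨S, s⟩ := SData.exists_sdata c b
  intro n hn
  have hS := SData.mem_maxInv c b s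
  have h1 := map_conj_mem_maxInv' hn hS
  obtain ⟨k, hk, e⟩ := c.htr ht.out (Big.t_ne_p c b) S hS _ h1
  have h2 : k⁻¹ * n ∈ Subgroup.normalizer (S : Set G) := by
    apply Cfsg.Agent.Lib.Helper4.ThreeStep.mem_normalizer_of_map_conj_eq
    rw [← map_conj_map_conj, e, map_conj_map_conj, inv_mul_cancel, map_one]
    exact Subgroup.map_id S
  have h3 : n = k * (k⁻¹ * n) := by group
  rw [h3]
  exact M.mul_mem (KA_le c b hk) (SData.normalizer_le c b s h2)

/-- `P ≤ M` -/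
theorem P_le (c : Ctx p P A) (b : Big A M t) : P ≤ M := c.hA.2.1.trans (normalizer_A_le c b)

/-- every maximal `A`-invariant `t`-subgroup has its normalizer in `M` -/
theorem normalizer_maxInv_le (c : Ctx p P A) (b : Big A M t) {Q : Subgroup G}
    (hQ : Q ∈ maxInvSubgroups ⊤ A {t}) : Subgroup.normalizer (Q : Set G) ≤ M := by
  obtain ⟨S, s⟩ := SData.exists_sdata c b
  have hS := SData.mem_maxInv c b s
  obtain ⟨k, hk, e⟩ := c.htr ht.out (Big.t_ne_p c b) S hS Q hQ
  have hkM : k ∈ M := KA_le c b hk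
  have h1 : Subgroup.normalizer (Q : Set G) = cj k (Subgroup.normalizer (S : Set G)) := by
    rw [e]
    exact (normalizer_cj k S)
  rw [h1]
  exact cj_le_of_mem hkM (SData.normalizer_le c b s)

/-- `N(P) ≤ M` -/
theorem normalizer_P_le (c : Ctx p P A) (b : Big A M t) : Subgroup.normalizer (P : Set G) ≤ M := by
  obtain ⟨-, -, htrP, hsub⟩ := c.thm75 ht.out (Big.t_ne_p c b)
  obtain ⟨Q, hQ, -⟩ := exists_maxInv_ge (bot_mem_inv P {t})
  rw [normalizer_eq_sup htrP hQ]
  apply sup_le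
  · exact c.KA_P_le.trans (KA_le c b)
  · exact inf_le_right.trans (normalizer_maxInv_le c b (hsub hQ))

end Big

end Cfsg.Agent.Lib.Lead.BG95
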