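import Mathlib
import Cfsg.Agent.Lib.Lead.BG95e
import Cfsg.Agent.S0026
import Cfsg.Agent.Lib.Helper4.Rk2m

set_option autoImplicit false

/-! Bender–Glauberman Lemma 9.5, part f: centralizers of points of kernel lines lie in no
"small" maximal subgroup, and the Frobenius argument for two big maximal subgroups. -/

namespace Cfsg.Agent.Lib.Lead.BG95

open Cfsg Cfsg.Agent.Lib.Lead Cfsg.Agent.Lib.Helper7 Cfsg.Agent.Lib.Helper4
open Cfsg.Agent.Lib.Helper4.BG7 Cfsg.Agent.Lib.Helper4.BG76 Cfsg.Agent.Lib.Helper4.BG8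
open Cfsg.Agent.Lib.Helper4.BG9
open scoped commutatorElement

universe u

variable {G : Type u} [Group G] [Finite G]

/-- in a proper subgroup whose Fitting subgroup has rank at most two, the derived subgroup lies in
the Fitting subgroup -/
theorem comm_le_fittingOf (hG : IsMinSimpleOddOrder G) {L : Subgroup G} (hL : L ≠ ⊤)
    (hsmall : RankLE 2 ↥(fittingOf L)) : ⁅L, L⁆ ≤ fittingOf L := by
  haveI : Group.IsSolvable ↥L := solvable_of_ne_top hG hL
  have hodd : Odd (Nat.card ↥L) := odd_card_sub hG L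
  have hr : RankLE 2 ↥(Cfsg.fittingSubgroup ↥L) := by
    intro q hq
    haveI : Fact q.Prime := ⟨hq⟩
    exact Rk2.prankLE_of_injective
      ((Cfsg.fittingSubgroup ↥L).equivMapOfInjective L.subtype L.subtype_injective).toMonoidHom
      ((Cfsg.fittingSubgroup ↥L).equivMapOfInjective L.subtype L.subtype_injective).injective
      (hsmall q hq)
  have h := (Rk2.hyp420_of hodd (Or.inr hr)).commutator_le_fitting
  rw [← Subgroup.map_subtype_commutator]
  exact Subgroup.map_mono h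

theorem cj_eq_of_mem_centralizer {k : G} {H : Subgroup G}
    (hk : k ∈ Subgroup.centralizer (H : Set G)) : cj k H = H :=
  mem_normalizer_iff_cj.mp (Subgroup.centralizer_le_normalizer _ hk)

theorem centralizer_cj (k : G) (H : Subgroup G) :
    Subgroup.centralizer ((cj k H : Subgroup G) : Set G) = cj k (Subgroup.centralizer (H : Set G)) := by
  ext x
  rw [mem_cj, Subgroup.mem_centralizer_iff, Subgroup.mem_centralizer_iff]
  constructor
  · intro h y hy
    have h1 : k * y * k⁻¹ ∈ cj k H := ⟨y, hy, rfl⟩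
    have h2 := h _ h1
    calc y * (k⁻¹ * x * k) = k⁻¹ * (k * y * k⁻¹ * x) * k := by group
      _ = k⁻¹ * (x * (k * y * k⁻¹)) * k := by rw [h2]
      _ = k⁻¹ * x * k * y := by group
  · rintro h _ ⟨y, hy, rfl⟩
    have h2 := h y hy
    show k * y * k⁻¹ * x = x * (k * y * k⁻¹)
    calc k * y * k⁻¹ * x = k * (y * (k⁻¹ * x * k)) * k⁻¹ := by group
      _ = k * ((k⁻¹ * x * k) * y) * k⁻¹ := by rw [h2]
      _ = x * (k * y * k⁻¹) := by group

variable {p : ℕ} [hp : Fact p.Prime] {P A M S : Subgroup G} {t : ℕ} [ht : Fact t.Prime]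

namespace Big

/-- two big maximal subgroups containing `A` for the same prime coincide -/
theorem eq_of_same_prime (c : Ctx p P A) {M' : Subgroup G} (b : Big A M t) (b' : Big A M' t) :
    M' = M := by
  obtain ⟨S, s⟩ := SData.exists_sdata c b
  obtain ⟨S', s'⟩ := SData.exists_sdata c b'
  have hS := SData.mem_maxInv c b s
  have hS' := SData.mem_maxInv c b' s'
  obtain ⟨k, hk, e⟩ := c.htr ht.out (Big.t_ne_p c b) S hS S' hS'
  have hkM : k ∈ M := KA_le c b hk
  have h1 : S' ≤ M := by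
    rw [e]
    exact cj_le_of_mem hkM s.S_le
  have h2 : opOf t M' ≤ M := (SData.T_le c b' s').trans h1
  exact (um_T c.hG b' M b.hM h2).symm

end Big

namespace SData

/-- an element of `Ω₁(A)` normalizes the fixed points on `U` of any subgroup of `Ω₁(A)` -/
theorem E_norm_fix (c : Ctx p P A) (b : Big A M t) (s : SData A M t S) {ℓ : Subgroup G}
    (hℓ : ℓ ≤ c.E) : c.E ≤ Subgroup.normalizer
      ((U t M S ⊓ Subgroup.centralizer (ℓ : Set G) : Subgroup G) : Set G) := by
  intro x hx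
  apply normalizer_inf_le'
  refine ⟨A_norm_U b s (c.E_le hx), Subgroup.le_normalizer ?_⟩
  rw [Subgroup.mem_centralizer_iff]
  intro y hy
  exact comm_of_elementary c.E_elem (hℓ hy) hx

/-- an element of `Ω₁(A)` outside a kernel line does not commute with any nonidentity fixed point
of that line -/
theorem not_comm_of_not_mem (c : Ctx p P A) (b : Big A M t) (s : SData A M t S) {ℓ : Subgroup G}
    (hℓ : IsLine p c.E ℓ) (hk : U t M S ⊓ Subgroup.centralizer (ℓ : Set G) ≠ ⊥) {h : G}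
    (hh : h ∈ c.E) (hhℓ : h ∉ ℓ) {u : G} (hu : u ∈ U t M S ⊓ Subgroup.centralizer (ℓ : Set G))
    (hu1 : u ≠ 1) : h * u ≠ u * h := by
  have kd := kdataE c b s
  obtain ⟨hcard, hker⟩ := kd.hline ℓ hℓ hk
  intro hcomm
  apply hhℓ
  rw [← hker]
  refine ⟨hh, ?_⟩
  have hzp : Subgroup.zpowers u = U t M S ⊓ Subgroup.centralizer (ℓ : Set G) := by
    apply Subgroup.eq_of_le_of_card_ge (Subgroup.zpowers_le.mpr hu)
    rw [hcard, Nat.card_zpowers]
    exact (orderOf_eq_prime (kd.hexp u hu.1) hu1).ge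
  show h ∈ Subgroup.centralizer
    ((U t M S ⊓ Subgroup.centralizer (ℓ : Set G) : Subgroup G) : Set G)
  rw [← hzp, Subgroup.mem_centralizer_iff]
  intro y hy
  obtain ⟨j, rfl⟩ := Subgroup.mem_zpowers_iff.mp hy
  exact ((Commute.zpow_left (show Commute u h from hcomm.symm) j)).eq

/-- the fixed points of a kernel line lie in the derived subgroup of any subgroup containing them
and `Ω₁(A)` -/
theorem fix_le_commutator (c : Ctx p P A) (b : Big A M t) (s : SData A M t S) {ℓ : Subgroup G}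
    (hℓ : IsLine p c.E ℓ) (hk : U t M S ⊓ Subgroup.centralizer (ℓ : Set G) ≠ ⊥) {L : Subgroup G}
    (hEL : c.E ≤ L) (hUL : U t M S ⊓ Subgroup.centralizer (ℓ : Set G) ≤ L) :
    U t M S ⊓ Subgroup.centralizer (ℓ : Set G) ≤ ⁅L, L⁆ := by
  have kd := kdataE c b s
  obtain ⟨hcard, hker⟩ := kd.hline ℓ hℓ hk
  obtain ⟨h, hh, hhℓ⟩ := exists_not_mem_of_card_lt (H := ℓ) (E := c.E)
    (by rw [hℓ.2, kd.hcard]; exact pow_lt_pow_p 2 3 (by norm_num))
  obtain ⟨⟨u, hu⟩, hu1⟩ := (Subgroup.ne_bot_iff_exists_ne_one).mp hk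
  have hu1' : u ≠ 1 := fun h0 => hu1 (Subtype.ext h0)
  have hne := not_comm_of_not_mem c b s hℓ hk hh hhℓ hu hu1'
  set w := h * u * h⁻¹ * u⁻¹ with hw
  have hw1 : w ≠ 1 := by
    intro h0
    apply hne
    calc h * u = (h * u * h⁻¹ * u⁻¹) * u * h := by group
      _ = u * h := by rw [← hw, h0, one_mul]
  have hwU : w ∈ U t M S ⊓ Subgroup.centralizer (ℓ : Set G) := by
    have h1 := (Subgroup.mem_normalizer_iff.mp (E_norm_fix c b s hℓ.1 hh) u).mp hu
    exact Subgroup.mul_mem _ h1 (Subgroup.inv_mem _ hu)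
  have hwL : w ∈ ⁅L, L⁆ := by
    have := Subgroup.commutator_mem_commutator (hEL hh) (hUL hu)
    rwa [commutatorElement_def] at this
  have hzp : Subgroup.zpowers w = U t M S ⊓ Subgroup.centralizer (ℓ : Set G) := by
    apply Subgroup.eq_of_le_of_card_ge (Subgroup.zpowers_le.mpr hwU)
    rw [hcard, Nat.card_zpowers]
    exact (orderOf_eq_prime (kd.hexp w hwU.1) hw1).ge
  rw [← hzp, Subgroup.zpowers_le]
  exact hwL

/-- the centre part `U ∩ C(S)` equals its commutator with `Ω₁(A)` -/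
theorem center_part_eq_commutator (c : Ctx p P A) (b : Big A M t) (s : SData A M t S) :
    U t M S ⊓ Subgroup.centralizer (S : Set G) =
      ⁅U t M S ⊓ Subgroup.centralizer (S : Set G), c.E⁆ := by
  have kd := kdataE c b s
  set Z₀ := U t M S ⊓ Subgroup.centralizer (S : Set G) with hZ₀
  have hEZ : c.E ≤ Subgroup.normalizer (Z₀ : Set G) := by
    intro x hx
    apply normalizer_inf_le'
    refine ⟨A_norm_U b s (c.E_le hx), ?_⟩
    exact normalizer_le_normalizer_centralizer S (s.hAS (c.E_le hx))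
  have hcop : (Nat.card c.E).Coprime (Nat.card Z₀) := by
    rw [kd.hcard]
    apply Nat.Coprime.pow_left 3
    exact (Nat.Coprime.coprime_dvd_left (Subgroup.card_dvd_of_le inf_le_left) (U_coprime c b s)).symm
  have hEs : Group.IsSolvable ↥c.E := isSolvable_of_isPGroup' (isPGroup_of_elementary c.E_elem)
  have h := Cfsg.Agent.S0026.result c.E Z₀ hEZ hcop (Or.inl hEs)
  have h2 : Z₀ ⊓ Subgroup.centralizer (c.E : Set G) = ⊥ := by
    rw [← le_bot_iff, ← kd.hfix]
    exact inf_le_inf_right _ inf_le_left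
  rw [h2, sup_bot_eq] at h
  exact h.symm

/-- Step 4: the centralizer of a nonidentity point of a kernel line lies in no maximal subgroup
whose Fitting subgroup has rank at most two -/
theorem not_small (c : Ctx p P A) (b : Big A M t) (s : SData A M t S) {ℓ : Subgroup G}
    (hℓ : IsLine p c.E ℓ) (hk : U t M S ⊓ Subgroup.centralizer (ℓ : Set G) ≠ ⊥) {g : G}
    (hg : g ∈ ℓ) (hg1 : g ≠ 1) {L : Subgroup G} (hL : IsCoatom L)
    (hgL : Subgroup.centralizer ({g} : Set G) ≤ L) (hsmall : RankLE 2 ↥(fittingOf L)) : False := by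
  have ht2 := Big.t_ne_two c.hG b
  have kd := kdataE c b s
  set Uℓ := U t M S ⊓ Subgroup.centralizer (ℓ : Set G) with hUℓ
  have hgA : g ∈ A := c.E_le (hℓ.1 hg)
  have hAL : A ≤ L := by
    refine le_trans ?_ hgL
    intro a ha
    rw [Subgroup.mem_centralizer_singleton_iff]
    exact c.hAc a ha g hgA
  have hEL : c.E ≤ L := c.E_le.trans hAL
  have hUL : Uℓ ≤ L := (inf_le_right.trans (centralizer_le_singleton hg)).trans hgL
  have hcomm := comm_le_fittingOf c.hG hL.1 hsmall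
  have hUℓp : IsPGroup t Uℓ := s.hSp.to_le (inf_le_left.trans (U_le_S S))
  have hUW : Uℓ ≤ opOf t L :=
    le_opOf_of_le_fittingOf ((fix_le_commutator c b s hℓ hk hEL hUL).trans hcomm) hUℓp
  set W := opOf t L with hW
  have hW1 : W ≠ ⊥ := fun h0 => hk (le_bot_iff.mp (h0 ▸ hUW))
  have hNW : Subgroup.normalizer (W : Set G) = L :=
    normalizer_eq_of_isCoatom c.hG hL hW1 (opOf_le t L) (le_normalizer_opOf t L)
  have hWinv : W ∈ invSubgroups ⊤ A {t} :=
    ⟨le_top, isPiNum_singleton_of_isPGroup (opOf_isPGroup t L), hAL.trans (le_normalizer_opOf t L)⟩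
  obtain ⟨Qs, hQs, hWQ⟩ := exists_maxInv_ge hWinv
  obtain ⟨k, hk', e⟩ := c.htr ht.out (Big.t_ne_p c b) S (mem_maxInv c b s) Qs hQs
  have hkM : k ∈ M := Big.KA_le c b hk'
  have hkA : k ∈ Subgroup.centralizer (A : Set G) := KA_le_centralizer A hk'
  have hkE : k ∈ Subgroup.centralizer (c.E : Set G) := Subgroup.centralizer_le c.E_le hkA
  have hQs' : Qs = cj k S := e
  set Z₀ := U t M S ⊓ Subgroup.centralizer (S : Set G) with hZ₀
  -- (i), (ii): `cj k Z₀ ≤ C(W) ≤ L`
  have hZ'C : cj k Z₀ ≤ Subgroup.centralizer (W : Set G) := by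
    have h1 : cj k Z₀ ≤ cj k (Subgroup.centralizer (S : Set G)) := cj_mono k inf_le_right
    rw [← centralizer_cj, ← hQs'] at h1
    exact h1.trans (Subgroup.centralizer_le hWQ)
  have hZ'L : cj k Z₀ ≤ L := by
    rw [← hNW]
    exact hZ'C.trans (Subgroup.centralizer_le_normalizer _)
  -- (iii): `cj k Z₀ ≤ [L, L]`
  have hZ'comm : cj k Z₀ ≤ ⁅L, L⁆ := by
    have hcp : Z₀ = ⁅Z₀, c.E⁆ := center_part_eq_commutator c b s
    have h1 : cj k Z₀ = ⁅cj k Z₀, c.E⁆ := by
      conv_lhs => rw [hcp]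
      have h2 : cj k ⁅Z₀, c.E⁆ = ⁅cj k Z₀, cj k c.E⁆ := Subgroup.map_commutator _ _ _
      rw [h2, cj_eq_of_mem_centralizer hkE]
    rw [h1]
    exact Subgroup.commutator_mono hZ'L hEL
  have hZ'p : IsPGroup t (cj k Z₀) := by
    have h1 : IsPGroup t Z₀ := s.hSp.to_le (inf_le_left.trans (U_le_S S))
    exact h1.map _
  have hZ'W : cj k Z₀ ≤ W := le_opOf_of_le_fittingOf (hZ'comm.trans hcomm) hZ'p
  -- (iv): `cj k U` normalizes `W`
  have hU'N : cj k (U t M S) ≤ Subgroup.normalizer (W : Set G) := by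
    apply Cfsg.Agent.Lib.Lead.FF.le_normalizer_of_conj_mem
    intro x hx w hw
    rw [mem_cj] at hx
    have hw' : k⁻¹ * w * k ∈ S := by
      have := hWQ hw
      rw [hQs', mem_cj] at this
      exact this
    have h1 := omz_comm_mem ht2 s.S_norm_T hx hw'
    have h2 : x * w * x⁻¹ * w⁻¹ ∈ cj k Z₀ := by
      rw [mem_cj]
      have e1 : k⁻¹ * (x * w * x⁻¹ * w⁻¹) * k =
          (k⁻¹ * x * k) * (k⁻¹ * w * k) * (k⁻¹ * x * k)⁻¹ * (k⁻¹ * w * k)⁻¹ := by group
      rw [e1]
      exact h1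
    have e2 : x * w * x⁻¹ = (x * w * x⁻¹ * w⁻¹) * w := by group
    rw [e2]
    exact W.mul_mem (hZ'W h2) hw
  -- (v): `L = M`
  have hU'L : cj k (U t M S) ≤ L := by rw [← hNW]; exact hU'N
  have hum : UM M (cj k (U t M S)) := by
    have h1 := (um_of_le_U c b s le_rfl (U_not_cyclic c b s)).conj k
    rwa [cj_eq_self_of_mem hkM] at h1
  have hLM : L = M := hum L hL hU'L
  rw [hLM] at hsmall
  exact b.hbig (hsmall t ht.out)

/-- the centralizer of the fixed points of a kernel line lies in `M` -/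
theorem centralizer_fix_le (c : Ctx p P A) (b : Big A M t) (s : SData A M t S) {ℓ : Subgroup G}
    (hℓ : IsLine p c.E ℓ) (hk : U t M S ⊓ Subgroup.centralizer (ℓ : Set G) ≠ ⊥) :
    Subgroup.centralizer ((U t M S ⊓ Subgroup.centralizer (ℓ : Set G) : Subgroup G) : Set G) ≤ M := by
  have kd := kdataE c b s
  obtain ⟨hcard, -⟩ := kd.hline ℓ hℓ hk
  set Uℓ := U t M S ⊓ Subgroup.centralizer (ℓ : Set G) with hUℓ
  set Z₀ := U t M S ⊓ Subgroup.centralizer (S : Set G) with hZ₀
  set Y := U t M S ⊓ Subgroup.centralizer (Uℓ : Set G) with hY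
  have hUℓp : IsPGroup t Uℓ := s.hSp.to_le (inf_le_left.trans (U_le_S S))
  have hUℓc : IsCyclic ↥Uℓ := isCyclic_of_prime_card hcard
  have hUℓY : Uℓ ≤ Y := by
    refine le_inf inf_le_left ?_
    intro x hx
    rw [Subgroup.mem_centralizer_iff]
    intro y hy
    obtain ⟨gen, hgen⟩ := hUℓc
    obtain ⟨i, hi⟩ := Subgroup.mem_zpowers_iff.mp (hgen ⟨x, hx⟩)
    obtain ⟨j, hj⟩ := Subgroup.mem_zpowers_iff.mp (hgen ⟨y, hy⟩)
    have hx' : x = ((gen ^ i : ↥Uℓ) : G) := by rw [hi]
    have hy' : y = ((gen ^ j : ↥Uℓ) : G) := by rw [hj]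
    rw [hx', hy']
    have : (gen ^ j : ↥Uℓ) * gen ^ i = gen ^ i * gen ^ j := (zpow_mul_comm gen i j).symm
    exact congrArg Subtype.val this
  have hZY : Z₀ ≤ Y := by
    refine le_inf inf_le_left ?_
    exact inf_le_right.trans (Subgroup.centralizer_le (inf_le_left.trans (U_le_S S)))
  -- `Z₀ ≠ ⊥`
  have hZ1 : Z₀ ≠ ⊥ := by
    haveI : Group.IsNilpotent ↥S := s.hSp.isNilpotent
    have hSU : S ≤ Subgroup.normalizer (U t M S : Set G) := le_normalizer_omz S _ s.S_norm_T
    haveI : ((U t M S).subgroupOf S).Normal := Subgroup.normal_subgroupOf_of_le_normalizer hSU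
    have hU1 : (U t M S).subgroupOf S ≠ ⊥ := by
      intro h0
      apply U_not_cyclic c b s
      have : U t M S = ⊥ := by
        rw [← le_bot_iff]
        intro x hx
        have h1 : (⟨x, U_le_S S hx⟩ : ↥S) ∈ (U t M S).subgroupOf S := Subgroup.mem_subgroupOf.mpr hx
        rw [h0, Subgroup.mem_bot] at h1
        rw [Subgroup.mem_bot]
        exact congrArg Subtype.val h1
      rw [this]
      exact isCyclic_of_subsingleton
    obtain ⟨⟨z, hz⟩, hz1⟩ := (Subgroup.ne_bot_iff_exists_ne_one).mp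
      (inf_center_ne_bot ((U t M S).subgroupOf S) hU1)
    intro h0
    apply hz1
    apply Subtype.ext
    apply Subtype.ext
    have hzZ : (z : G) ∈ Z₀ := by
      refine ⟨Subgroup.mem_subgroupOf.mp hz.1, ?_⟩
      show (z : G) ∈ Subgroup.centralizer (S : Set G)
      rw [Subgroup.mem_centralizer_iff]
      intro y hy
      have := Subgroup.mem_center_iff.mp hz.2 ⟨y, hy⟩
      exact congrArg Subtype.val this
    rw [h0, Subgroup.mem_bot] at hzZ
    exact hzZ
  have hYnc : ¬ IsCyclic ↥Y := by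
    intro hc
    have hYcard := card_le_of_isCyclic_of_exp ht.out.pos hc (fun x hx => kd.hexp x hx.1)
    have e₁ : Uℓ = Y := Subgroup.eq_of_le_of_card_ge hUℓY (by rw [hcard]; exact hYcard)
    have hZcard : Nat.card Z₀ = t := by
      have hdvd : Nat.card Z₀ ∣ t := by
        rw [← hcard, e₁]; exact Subgroup.card_dvd_of_le hZY
      rcases (Nat.dvd_prime ht.out).mp hdvd with h | h
      · exact absurd (Subgroup.card_eq_one.mp h) hZ1
      · exact h
    have e₂ : Z₀ = Y := Subgroup.eq_of_le_of_card_ge hZY (by rw [hZcard]; exact hYcard)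
    have hUℓS : Uℓ ≤ Subgroup.centralizer (S : Set G) := by
      rw [e₁, ← e₂]; exact inf_le_right
    have hUY : U t M S ≤ Y := by
      refine le_inf le_rfl ?_
      rw [Subgroup.le_centralizer_iff]
      exact hUℓS.trans (Subgroup.centralizer_le (U_le_S S))
    apply U_not_cyclic c b s
    have : U t M S = Y := le_antisymm hUY inf_le_left
    rw [this]; exact hc
  have hum := um_of_le_U c b s (inf_le_left : Y ≤ U t M S) hYnc
  obtain ⟨⟨u, hu⟩, hu1⟩ := (Subgroup.ne_bot_iff_exists_ne_one).mp hk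
  have hu1' : u ≠ 1 := fun h0 => hu1 (Subtype.ext h0)
  have hCne : Subgroup.centralizer (Uℓ : Set G) ≠ ⊤ := by
    intro h0
    apply center_ne_top c.hG hu1'
    rw [eq_top_iff, ← h0]
    exact centralizer_le_singleton hu
  refine hum.le hCne ?_
  exact inf_le_right

/-- Step 5: the Frobenius argument -/
theorem c2 (c : Ctx p P A) (b : Big A M t) (s : SData A M t S) {ℓ : Subgroup G}
    (hℓ : IsLine p c.E ℓ) (hk : U t M S ⊓ Subgroup.centralizer (ℓ : Set G) ≠ ⊥) {g : G}
    (hg : g ∈ ℓ) {L : Subgroup G} {t' : ℕ} [ht' : Fact t'.Prime] (b' : Big A L t')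
    (hgL : Subgroup.centralizer ({g} : Set G) ≤ L) (hLM : L ≠ M) {h : G} (hh : h ∈ c.E)
    (hhℓ : h ∉ ℓ) (hgood : Subgroup.centralizer ({h} : Set G) ≤ M) : False := by
  have kd := kdataE c b s
  obtain ⟨hcard, hker⟩ := kd.hline ℓ hℓ hk
  set Uℓ := U t M S ⊓ Subgroup.centralizer (ℓ : Set G) with hUℓ
  set T' := opOf t' L with hT'
  have htt' : t' ≠ t := by
    intro h0
    subst h0
    exact hLM (Big.eq_of_same_prime c b b')
  have ht'p : t' ≠ p := Big.t_ne_p c b'
  have hUL : Uℓ ≤ L := (inf_le_right.trans (centralizer_le_singleton hg)).trans hgL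
  have hhL : h ∈ L := b'.hAM (c.E_le hh)
  have hh1 : h ≠ 1 := fun h0 => hhℓ (h0 ▸ Subgroup.one_mem _)
  have hhp : h ^ p = 1 := c.E_elem.2 h hh
  have hzh : Nat.card (Subgroup.zpowers h) = p := card_zpowers_of_elementary c.E_elem hh hh1
  -- (a) `Uℓ` does not centralize `T'`
  have hnot : ¬ T' ≤ Subgroup.centralizer (Uℓ : Set G) := by
    intro hle
    have h1 : T' ≤ M := hle.trans (centralizer_fix_le c b s hℓ hk)
    exact hLM ((Big.um_T c.hG b' M b.hM h1).symm)
  -- (b) the fixed point formula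
  have hhN : Subgroup.zpowers h ≤ Subgroup.normalizer (Uℓ : Set G) :=
    Subgroup.zpowers_le.mpr (E_norm_fix c b s hℓ.1 hh)
  have hUn : ∀ e ∈ Subgroup.zpowers h, ∀ u ∈ Uℓ, e * u * e⁻¹ ∈ Uℓ :=
    fun e he u hu => (Subgroup.mem_normalizer_iff.mp (hhN he) u).mp hu
  have hfpf : ∀ e ∈ Subgroup.zpowers h, e ≠ 1 → ∀ u ∈ Uℓ, e * u = u * e → u = 1 := by
    intro e he he1 u hu hcomm
    by_contra hu1
    have heE : e ∈ c.E := (Subgroup.zpowers_le.mpr hh) he
    have heℓ : e ∉ ℓ := by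
      intro h0
      apply hhℓ
      have h2 : Subgroup.zpowers e = Subgroup.zpowers h := by
        apply Subgroup.eq_of_le_of_card_ge (Subgroup.zpowers_le.mpr he)
        rw [hzh, card_zpowers_of_elementary c.E_elem heE he1]
      have : h ∈ Subgroup.zpowers e := h2 ▸ Subgroup.mem_zpowers h
      exact (Subgroup.zpowers_le.mpr h0) this
    exact not_comm_of_not_mem c b s hℓ hk heE heℓ hu hu1 hcomm
  have hBL : Uℓ ⊔ Subgroup.zpowers h ≤ L := sup_le hUL (Subgroup.zpowers_le.mpr hhL)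
  have hHn : ∀ x ∈ Uℓ ⊔ Subgroup.zpowers h, ∀ y ∈ T', x * y * x⁻¹ ∈ T' :=
    fun x hx y hy => (Subgroup.mem_normalizer_iff.mp (le_normalizer_opOf t' L (hBL hx)) y).mp hy
  have hsolv : Group.IsSolvable ↥T' := isSolvable_of_isPGroup' (opOf_isPGroup t' L)
  have hcop : Nat.Coprime (Nat.card T') (Nat.card ↥(Uℓ ⊔ Subgroup.zpowers h)) := by
    have h1 := card_sup_mul_card_inf (Subgroup.zpowers h) Uℓ hhN
    rw [hzh, hcard, sup_comm] at h1
    have hdvd : Nat.card ↥(Uℓ ⊔ Subgroup.zpowers h) ∣ p * t := Dvd.intro _ h1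
    obtain ⟨n, hn⟩ := IsPGroup.iff_card.mp (opOf_isPGroup t' L)
    rw [hn]
    apply Nat.Coprime.pow_left
    apply Nat.Coprime.coprime_dvd_right hdvd
    exact Nat.Coprime.mul_right ((Nat.coprime_primes ht'.out hp.out).mpr ht'p)
      ((Nat.coprime_primes ht'.out ht.out).mpr htt')
  have hff := Cfsg.Agent.Lib.Lead.FF.s1545 Uℓ (Subgroup.zpowers h) T' hUn hfpf hHn hsolv hcop
  -- the fixed points of `h` on `T'` are centralized by `Uℓ`
  have hfix : T' ⊓ Subgroup.centralizer ((Subgroup.zpowers h : Subgroup G) : Set G) ≤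
      T' ⊓ Subgroup.centralizer ((Uℓ ⊔ Subgroup.zpowers h : Subgroup G) : Set G) := by
    intro x hx
    refine ⟨hx.1, ?_⟩
    apply inf_centralizer_le_centralizer_sup
    refine ⟨?_, hx.2⟩
    have hxM : x ∈ M := by
      apply hgood
      rw [Subgroup.mem_centralizer_singleton_iff]
      exact ((Subgroup.mem_centralizer_iff.mp hx.2) h (Subgroup.mem_zpowers h)).symm
    show x ∈ Subgroup.centralizer (Uℓ : Set G)
    rw [Subgroup.mem_centralizer_iff]
    intro u hu
    have huT : u ∈ opOf t M := U_le_T S hu.1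
    have h1 : x * u * x⁻¹ * u⁻¹ ∈ opOf t M := by
      have := (Subgroup.mem_normalizer_iff.mp (le_normalizer_opOf t M hxM) u).mp huT
      exact Subgroup.mul_mem _ this (Subgroup.inv_mem _ huT)
    have h2 : x * u * x⁻¹ * u⁻¹ ∈ T' := by
      have := (Subgroup.mem_normalizer_iff.mp (le_normalizer_opOf t' L (hUL hu)) x⁻¹).mp
        (Subgroup.inv_mem _ hx.1)
      have e1 : x * u * x⁻¹ * u⁻¹ = x * (u * x⁻¹ * u⁻¹) := by group
      rw [e1]
      exact Subgroup.mul_mem _ hx.1 this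
    have h3 : opOf t M ⊓ T' = ⊥ :=
      Cfsg.Agent.Lib.Helper6.isPGroup_inf_coprime_eq_bot (coprime_of_isPGroup_ne htt' (opOf_isPGroup t' L))
        (opOf_isPGroup t M)
    have h4 : x * u * x⁻¹ * u⁻¹ = 1 := by
      have : x * u * x⁻¹ * u⁻¹ ∈ opOf t M ⊓ T' := ⟨h1, h2⟩
      rw [h3, Subgroup.mem_bot] at this
      exact this
    calc u * x = (x * u * x⁻¹ * u⁻¹)⁻¹ * (x * u) := by group
      _ = x * u := by rw [h4, inv_one, one_mul]
  have heq : T' ⊓ Subgroup.centralizer ((Subgroup.zpowers h : Subgroup G) : Set G) =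
      T' ⊓ Subgroup.centralizer ((Uℓ ⊔ Subgroup.zpowers h : Subgroup G) : Set G) :=
    le_antisymm hfix (inf_le_inf_left _ (Subgroup.centralizer_le
      (le_sup_right : Subgroup.zpowers h ≤ Uℓ ⊔ Subgroup.zpowers h)))
  rw [heq] at hff
  have hpos : 0 < Nat.card ↥(T' ⊓ Subgroup.centralizer
      ((Uℓ ⊔ Subgroup.zpowers h : Subgroup G) : Set G)) ^ Nat.card ↥(Subgroup.zpowers h) :=
    pow_pos Nat.card_pos _
  have hcardeq : Nat.card T' = Nat.card ↥(T' ⊓ Subgroup.centralizer (Uℓ : Set G)) :=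
    Nat.eq_of_mul_eq_mul_left hpos hff
  apply hnot
  have : T' ⊓ Subgroup.centralizer (Uℓ : Set G) = T' :=
    Subgroup.eq_of_le_of_card_ge inf_le_left hcardeq.le
  rw [← this]
  exact inf_le_right

end SData

end Cfsg.Agent.Lib.Lead.BG95
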