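import Mathlib
import Cfsg.Agent.Lib.Lead.BG95f
import Cfsg.Agent.Lib.Lead.ExtraspecialCentral

set_option autoImplicit false

/-! Bender–Glauberman Lemma 9.5, part g: arrows, the unique good point, and `Ω₁(A) ≤ Z(P)`. -/

namespace Cfsg.Agent.Lib.Lead.BG95

open Cfsg Cfsg.Agent.Lib.Lead Cfsg.Agent.Lib.Helper7 Cfsg.Agent.Lib.Helper4
open Cfsg.Agent.Lib.Helper4.BG7 Cfsg.Agent.Lib.Helper4.BG76 Cfsg.Agent.Lib.Helper4.BG8
open Cfsg.Agent.Lib.Helper4.BG9
open scoped commutatorElement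

universe u

variable {G : Type u} [Group G] [Finite G]

variable {p : ℕ} [hp : Fact p.Prime] {P A M S : Subgroup G} {t : ℕ} [ht : Fact t.Prime]

namespace Ctx

theorem A_le_centralizer (c : Ctx p P A) {g : G} (hg : g ∈ A) :
    A ≤ Subgroup.centralizer ({g} : Set G) := by
  intro a ha
  rw [Subgroup.mem_centralizer_singleton_iff]
  exact c.hAc a ha g hg

/-- a maximal subgroup containing `A` is big or its Fitting subgroup has rank at most two -/
theorem big_or_small (c : Ctx p P A) {L : Subgroup G} (hL : IsCoatom L) (hAL : A ≤ L) :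
    RankLE 2 ↥(fittingOf L) ∨ ∃ t' : ℕ, t'.Prime ∧ Big A L t' := by
  by_cases hsmall : RankLE 2 ↥(fittingOf L)
  · exact Or.inl hsmall
  · right
    unfold RankLE at hsmall
    push Not at hsmall
    obtain ⟨t', ht', hbig⟩ := hsmall
    exact ⟨t', ht', ⟨hL, hAL, hbig⟩⟩

end Ctx

namespace SData

/-- the centralizer of a nonidentity point of a kernel line lies in a big maximal subgroup -/
theorem kernel_point_big (c : Ctx p P A) (b : Big A M t) (s : SData A M t S) {ℓ : Subgroup G}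
    (hℓ : IsLine p c.E ℓ) (hk : U t M S ⊓ Subgroup.centralizer (ℓ : Set G) ≠ ⊥) {g : G}
    (hg : g ∈ ℓ) (hg1 : g ≠ 1) :
    ∃ (L : Subgroup G) (t' : ℕ), t'.Prime ∧ Big A L t' ∧
      Subgroup.centralizer ({g} : Set G) ≤ L := by
  obtain ⟨L, hL, hgL⟩ := exists_coatom_ge (center_ne_top c.hG hg1)
  have hAL : A ≤ L := (c.A_le_centralizer (c.E_le (hℓ.1 hg))).trans hgL
  rcases c.big_or_small hL hAL with hsmall | ⟨t', ht', b'⟩
  · exact (not_small c b s hℓ hk hg hg1 hL hgL hsmall).elim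
  · exact ⟨L, t', ht', b', hgL⟩

/-- every kernel line has an arrow -/
theorem exists_arrow (c : Ctx p P A) (b : Big A M t) (s : SData A M t S) {ℓ : Subgroup G}
    (hℓ : IsLine p c.E ℓ) (hk : U t M S ⊓ Subgroup.centralizer (ℓ : Set G) ≠ ⊥) :
    ∃ g ∈ ℓ, g ≠ 1 ∧ ∃ (L : Subgroup G) (t' : ℕ), t'.Prime ∧ Big A L t' ∧
      Subgroup.centralizer ({g} : Set G) ≤ L ∧ L ≠ M := by
  by_contra hcon
  push Not at hcon
  obtain ⟨hℓe, hℓnc⟩ := line_noncyclic c.E_elem hℓ
  apply c.no_good b.hM (hℓ.1.trans c.E_le) hℓe hℓnc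
  intro d hd hd1
  obtain ⟨L, t', ht', b', hdL⟩ := kernel_point_big c b s hℓ hk hd hd1
  have := hcon d hd hd1 L t' ht' b' hdL
  rw [← this]
  exact hdL

/-- the unique good point -/
theorem good_unique (c : Ctx p P A) (b : Big A M t) (s : SData A M t S) :
    ∃ a₀ ∈ c.E, a₀ ≠ 1 ∧ Subgroup.centralizer ({a₀} : Set G) ≤ M ∧
      (∀ h ∈ c.E, h ≠ 1 → Subgroup.centralizer ({h} : Set G) ≤ M → h ∈ Subgroup.zpowers a₀) ∧
      (∀ ℓ : Subgroup G, IsLine p c.E ℓ →
        U t M S ⊓ Subgroup.centralizer (ℓ : Set G) ≠ ⊥ → a₀ ∈ ℓ) ∧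
      U t M S ≤ Subgroup.centralizer ({a₀} : Set G) := by
  have kd := kdataE c b s
  -- every good point lies on every kernel line
  have key : ∀ h ∈ c.E, Subgroup.centralizer ({h} : Set G) ≤ M → ∀ ℓ : Subgroup G,
      IsLine p c.E ℓ → U t M S ⊓ Subgroup.centralizer (ℓ : Set G) ≠ ⊥ → h ∈ ℓ := by
    intro h hh hgood ℓ hℓ hk
    by_contra hhℓ
    obtain ⟨g, hg, -, L, t', ht', b', hgL, hLM⟩ := exists_arrow c b s hℓ hk
    haveI : Fact t'.Prime := ⟨ht'⟩
    exact c2 c b s hℓ hk hg b' hgL hLM hh hhℓ hgood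
  obtain ⟨a₀, ha₀, ha01, hgood₀⟩ := exists_good c b s
  obtain ⟨ℓ₁, ℓ₂, h₁, h₂, hne12, hk₁, hk₂⟩ := kd.hex
  obtain ⟨a', ha'₁, ha'₂, ha'1, hinf⟩ := exists_mem_line_inf kd.hE kd.hcard h₁ h₂ hne12
  have ha₀inf : a₀ ∈ ℓ₁ ⊓ ℓ₂ := ⟨key a₀ ha₀ hgood₀ ℓ₁ h₁ hk₁, key a₀ ha₀ hgood₀ ℓ₂ h₂ hk₂⟩
  have hzp : Subgroup.zpowers a₀ = ℓ₁ ⊓ ℓ₂ := by
    apply Subgroup.eq_of_le_of_card_ge (Subgroup.zpowers_le.mpr ha₀inf)
    rw [hinf, card_zpowers_of_elementary kd.hE ha₀ ha01,
      card_zpowers_of_elementary kd.hE (h₁.1 ha'₁) ha'1]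
  refine ⟨a₀, ha₀, ha01, hgood₀, ?_, fun ℓ hℓ hk => key a₀ ha₀ hgood₀ ℓ hℓ hk, ?_⟩
  · intro h hh _ hgood
    rw [hzp]
    exact ⟨key h hh hgood ℓ₁ h₁ hk₁, key h hh hgood ℓ₂ h₂ hk₂⟩
  · have h1 : U t M S ≤ U t M S ⊓ Subgroup.centralizer ({a₀} : Set G) := by
      apply kd.hgen
      intro ℓ hℓ
      by_cases hk : U t M S ⊓ Subgroup.centralizer (ℓ : Set G) = ⊥
      · rw [hk]; exact bot_le
      · exact inf_le_inf_left _ (centralizer_le_singleton (key a₀ ha₀ hgood₀ ℓ hℓ hk))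
    exact h1.trans inf_le_right

/-- good points are centralized by `P`, and the subgroups they generate are normalized by `N(A)` -/
theorem good_facts (c : Ctx p P A) (b : Big A M t) (s : SData A M t S) {g : G} (hg : g ∈ c.E)
    (hg1 : g ≠ 1) (hgood : Subgroup.centralizer ({g} : Set G) ≤ M) :
    Subgroup.normalizer (A : Set G) ≤ Subgroup.normalizer ((Subgroup.zpowers g : Subgroup G) : Set G) ∧
      P ≤ Subgroup.centralizer ({g} : Set G) := by
  have kd := kdataE c b s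
  obtain ⟨a₀, ha₀, ha01, hgood₀, huniq, -, -⟩ := good_unique c b s
  have hzp : Subgroup.zpowers g = Subgroup.zpowers a₀ := by
    apply Subgroup.eq_of_le_of_card_ge (Subgroup.zpowers_le.mpr (huniq g hg hg1 hgood))
    rw [card_zpowers_of_elementary kd.hE ha₀ ha01, card_zpowers_of_elementary kd.hE hg hg1]
  have hN : Subgroup.normalizer (A : Set G) ≤
      Subgroup.normalizer ((Subgroup.zpowers g : Subgroup G) : Set G) := by
    apply Cfsg.Agent.Lib.Lead.FF.le_normalizer_of_conj_mem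
    intro x hx y hy
    obtain ⟨j, rfl⟩ := Subgroup.mem_zpowers_iff.mp hy
    have hxM : x ∈ M := Big.normalizer_A_le c b hx
    have hxE : x * g * x⁻¹ ∈ c.E := (Subgroup.mem_normalizer_iff.mp (c.normalizer_le_E hx) g).mp hg
    have hx1 : x * g * x⁻¹ ≠ 1 := by
      intro h0
      apply hg1
      calc g = x⁻¹ * (x * g * x⁻¹) * x := by group
        _ = 1 := by rw [h0]; group
    have hxgood : Subgroup.centralizer ({x * g * x⁻¹} : Set G) ≤ M := by
      intro y hy
      rw [Subgroup.mem_centralizer_singleton_iff] at hy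
      have h1 : x⁻¹ * y * x ∈ Subgroup.centralizer ({g} : Set G) := by
        rw [Subgroup.mem_centralizer_singleton_iff]
        calc x⁻¹ * y * x * g = x⁻¹ * (y * (x * g * x⁻¹)) * x := by group
          _ = x⁻¹ * ((x * g * x⁻¹) * y) * x := by rw [hy]
          _ = g * (x⁻¹ * y * x) := by group
      have h2 := hgood h1
      have h3 : y = x * (x⁻¹ * y * x) * x⁻¹ := by group
      rw [h3]
      exact M.mul_mem (M.mul_mem hxM h2) (M.inv_mem hxM)
    have h4 := huniq _ hxE hx1 hxgood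
    rw [← hzp] at h4
    have h5 : x * g ^ j * x⁻¹ = (x * g * x⁻¹) ^ j := by
      have := map_zpow (MulAut.conj x).toMonoidHom g j
      simpa [MulAut.conj_apply] using this
    rw [h5]
    exact Subgroup.zpow_mem _ h4 j
  refine ⟨hN, ?_⟩
  -- `P` centralizes the normal subgroup `⟨g⟩` of order `p`
  set Z := Subgroup.zpowers g with hZ
  have hZP : Z ≤ P := Subgroup.zpowers_le.mpr (c.hAP (c.E_le hg))
  have hPZ : P ≤ Subgroup.normalizer (Z : Set G) := c.hA.2.1.trans hN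
  haveI : (Z.subgroupOf P).Normal := Subgroup.normal_subgroupOf_of_le_normalizer hPZ
  have hcardZ : Nat.card (Z.subgroupOf P) = p := by
    rw [Nat.card_congr (Subgroup.subgroupOfEquivOfLe hZP).toEquiv]
    exact card_zpowers_of_elementary kd.hE hg hg1
  have hcen := le_center_of_normal_of_card_prime (G := ↥P) c.hPp (Z.subgroupOf P) hcardZ
  intro x hx
  rw [Subgroup.mem_centralizer_singleton_iff]
  have hgZ : (⟨g, hZP (Subgroup.mem_zpowers g)⟩ : ↥P) ∈ Z.subgroupOf P :=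
    Subgroup.mem_subgroupOf.mpr (Subgroup.mem_zpowers g)
  have := Subgroup.mem_center_iff.mp (hcen hgZ) ⟨x, hx⟩
  exact congrArg Subtype.val this

/-- points of kernel lines are centralized by `P` and normalized by `N(A)` -/
theorem kernel_point_facts (c : Ctx p P A) (b : Big A M t) (s : SData A M t S) {ℓ : Subgroup G}
    (hℓ : IsLine p c.E ℓ) (hk : U t M S ⊓ Subgroup.centralizer (ℓ : Set G) ≠ ⊥) {g : G}
    (hg : g ∈ ℓ) :
    Subgroup.normalizer (A : Set G) ≤ Subgroup.normalizer ((Subgroup.zpowers g : Subgroup G) : Set G) ∧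
      P ≤ Subgroup.centralizer ({g} : Set G) := by
  by_cases hg1 : g = 1
  · subst hg1
    constructor
    · rw [Subgroup.zpowers_one_eq_bot]
      intro x _
      rw [Subgroup.mem_normalizer_iff]
      intro y
      rw [Subgroup.mem_bot, Subgroup.mem_bot]
      constructor
      · intro h; rw [h]; group
      · intro h
        have : y = x⁻¹ * (x * y * x⁻¹) * x := by group
        rw [this, h]; group
    · intro x _
      rw [Subgroup.mem_centralizer_singleton_iff]
      simp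
  · obtain ⟨L, t', ht', b', hgL⟩ := kernel_point_big c b s hℓ hk hg hg1
    haveI : Fact t'.Prime := ⟨ht'⟩
    obtain ⟨S', s'⟩ := exists_sdata c b'
    exact good_facts c b' s' (hℓ.1 hg) hg1 hgL

/-- `Ω₁(A) ≤ Z(P)` -/
theorem P_le_centralizer_E (c : Ctx p P A) (b : Big A M t) (s : SData A M t S) :
    P ≤ Subgroup.centralizer (c.E : Set G) := by
  have kd := kdataE c b s
  obtain ⟨ℓ₁, ℓ₂, h₁, h₂, hne12, hk₁, hk₂⟩ := kd.hex
  rw [← (line_inf_sup kd.hE kd.hcard h₁ h₂ hne12).2]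
  intro x hx
  apply inf_centralizer_le_centralizer_sup
  constructor
  · show x ∈ Subgroup.centralizer (ℓ₁ : Set G)
    rw [Subgroup.mem_centralizer_iff]
    intro g hg
    have := (kernel_point_facts c b s h₁ hk₁ hg).2 hx
    exact (Subgroup.mem_centralizer_singleton_iff.mp this).symm
  · show x ∈ Subgroup.centralizer (ℓ₂ : Set G)
    rw [Subgroup.mem_centralizer_iff]
    intro g hg
    have := (kernel_point_facts c b s h₂ hk₂ hg).2 hx
    exact (Subgroup.mem_centralizer_singleton_iff.mp this).symm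

end SData

end Cfsg.Agent.Lib.Lead.BG95
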