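import Mathlib
import Cfsg.Agent.Lib.Lead.BG95g

set_option autoImplicit false

/-! Bender–Glauberman Lemma 9.5, part h: no maximal subgroup containing `A` is big. -/

namespace Cfsg.Agent.Lib.Lead.BG95

open Cfsg Cfsg.Agent.Lib.Lead Cfsg.Agent.Lib.Helper7 Cfsg.Agent.Lib.Helper4
open Cfsg.Agent.Lib.Helper4.BG7 Cfsg.Agent.Lib.Helper4.BG76 Cfsg.Agent.Lib.Helper4.BG8
open Cfsg.Agent.Lib.Helper4.BG9
open scoped commutatorElement

universe u

variable {G : Type u} [Group G] [Finite G]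

/-- the derived subgroup of a group normalizing a subgroup of prime order centralizes it -/
theorem commutator_le_centralizer_of_prime_card {t : ℕ} [ht : Fact t.Prime] {Q X : Subgroup G}
    (hQX : Q ≤ Subgroup.normalizer (X : Set G)) (hX : Nat.card X = t) :
    ⁅Q, Q⁆ ≤ Subgroup.centralizer (X : Set G) := by
  classical
  set φ := Cfsg.Agent.Lib.Lead.FF.conjAct X Q hQX with hφ
  have hXc : IsCyclic ↥X := isCyclic_of_prime_card hX
  have hcomm : ∀ f g : MulAut ↥X, f * g = g * f := by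
    intro f g
    have e := IsCyclic.mulAutMulEquiv ↥X
    apply e.injective
    rw [map_mul, map_mul, mul_comm]
  have key : ∀ a ∈ Q, ∀ b ∈ Q, ∀ x ∈ X, a * b * x * (a * b)⁻¹ = b * a * x * (b * a)⁻¹ := by
    intro a ha b hb x hx
    have h1 : φ ⟨a, ha⟩ * φ ⟨b, hb⟩ = φ ⟨b, hb⟩ * φ ⟨a, ha⟩ := hcomm _ _
    have h2 : φ (⟨a, ha⟩ * ⟨b, hb⟩) = φ (⟨b, hb⟩ * ⟨a, ha⟩) := by
      rw [map_mul, map_mul, h1]
    have h3 := congrArg (fun f : MulAut ↥X => ((f ⟨x, hx⟩ : ↥X) : G)) h2
    simp only [hφ, Cfsg.Agent.Lib.Lead.FF.conjAct_apply] at h3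
    exact h3
  rw [Subgroup.commutator_le]
  intro a ha b hb
  rw [Subgroup.mem_centralizer_iff]
  intro x hx
  have h4 := key a⁻¹ (Q.inv_mem ha) b⁻¹ (Q.inv_mem hb) x hx
  rw [commutatorElement_def]
  calc x * (a * b * a⁻¹ * b⁻¹)
      = (a * b) * (b⁻¹ * a⁻¹ * x * (b⁻¹ * a⁻¹)⁻¹) * (a⁻¹ * b⁻¹) := by group
    _ = (a * b) * (a⁻¹ * b⁻¹ * x * (a⁻¹ * b⁻¹)⁻¹) * (a⁻¹ * b⁻¹) := by rw [h4]
    _ = a * b * a⁻¹ * b⁻¹ * x := by group

/-- two distinct commuting subgroups of prime order and exponent `t` generate a noncyclic group -/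
theorem not_isCyclic_sup {t : ℕ} (ht : 0 < t) {H K : Subgroup G}
    (hcomm : ∀ y ∈ H, ∀ z ∈ K, y * z = z * y) (hH : ∀ x ∈ H, x ^ t = 1) (hK : ∀ x ∈ K, x ^ t = 1)
    (hHc : Nat.card H = t) (hKc : Nat.card K = t) (hne : K ≠ H) : ¬ IsCyclic ↥(H ⊔ K : Subgroup G) := by
  intro hc
  have hexp : ∀ x ∈ H ⊔ K, x ^ t = 1 := by
    intro x hx
    obtain ⟨y, hy, z, hz, rfl⟩ := mem_sup_of_commute H K hcomm hx
    rw [(show Commute y z from hcomm y hy z hz).mul_pow, hH y hy, hK z hz, one_mul]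
  have hcard := card_le_of_isCyclic_of_exp ht hc hexp
  have e1 : H = H ⊔ K := Subgroup.eq_of_le_of_card_ge le_sup_left (by rw [hHc]; exact hcard)
  have hKH : K ≤ H := le_sup_right.trans e1.ge
  exact hne (Subgroup.eq_of_le_of_card_ge hKH (by rw [hHc, hKc]))

variable {p : ℕ} [hp : Fact p.Prime] {P A M S : Subgroup G} {t : ℕ} [ht : Fact t.Prime]

namespace SData

/-- `U ∩ C(S)` is not trivial -/
theorem center_part_ne_bot (c : Ctx p P A) (b : Big A M t) (s : SData A M t S) :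
    U t M S ⊓ Subgroup.centralizer (S : Set G) ≠ ⊥ := by
  haveI : Group.IsNilpotent ↥S := s.hSp.isNilpotent
  have hSU : S ≤ Subgroup.normalizer (U t M S : Set G) := le_normalizer_omz S _ s.S_norm_T
  haveI : ((U t M S).subgroupOf S).Normal := Subgroup.normal_subgroupOf_of_le_normalizer hSU
  have hU1 : (U t M S).subgroupOf S ≠ ⊥ := by
    intro h0
    apply U_not_cyclic c b s
    have : U t M S = ⊥ := by
      rw [← le_bot_iff]
      intro x hx
      have h1 : (⟨x, U_le_S S hx⟩ : ↥S) ∈ (U t M S).subgroupOf S := Subgroup.mem_subgroupOf.mpr hx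
      rw [h0, Subgroup.mem_bot] at h1
      rw [Subgroup.mem_bot]
      exact congrArg Subtype.val h1
    rw [this]
    exact isCyclic_of_subsingleton
  obtain ⟨⟨z, hz⟩, hz1⟩ := (Subgroup.ne_bot_iff_exists_ne_one).mp
    (inf_center_ne_bot ((U t M S).subgroupOf S) hU1)
  intro h0
  apply hz1
  apply Subtype.ext
  apply Subtype.ext
  have hzZ : (z : G) ∈ U t M S ⊓ Subgroup.centralizer (S : Set G) := by
    refine ⟨Subgroup.mem_subgroupOf.mp hz.1, ?_⟩
    show (z : G) ∈ Subgroup.centralizer (S : Set G)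
    rw [Subgroup.mem_centralizer_iff]
    intro y hy
    have := Subgroup.mem_center_iff.mp hz.2 ⟨y, hy⟩
    exact congrArg Subtype.val this
  rw [h0, Subgroup.mem_bot] at hzZ
  exact hzZ

/-- (i): for `P`-invariant `S`, the derived subgroup of `P` centralizes `U` -/
theorem derived_le_centralizer_U (c : Ctx p P A) (b : Big A M t) (s : SData A M t S)
    (hPS : P ≤ Subgroup.normalizer (S : Set G)) :
    ⁅P, P⁆ ≤ Subgroup.centralizer (U t M S : Set G) := by
  have kd := kdataE c b s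
  have hPU : P ≤ Subgroup.normalizer (U t M S : Set G) :=
    fun x hx => U_normalizer (hPS hx) (Big.P_le c b hx)
  have hPE := P_le_centralizer_E c b s
  have h1 : U t M S ≤ U t M S ⊓ Subgroup.centralizer ((⁅P, P⁆ : Subgroup G) : Set G) := by
    apply kd.hgen
    intro ℓ hℓ
    by_cases hk : U t M S ⊓ Subgroup.centralizer (ℓ : Set G) = ⊥
    · rw [hk]; exact bot_le
    · refine le_inf inf_le_left ?_
      rw [Subgroup.le_centralizer_iff]
      apply commutator_le_centralizer_of_prime_card _ (kd.hline ℓ hℓ hk).1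
      intro x hx
      apply normalizer_inf_le'
      refine ⟨hPU hx, Subgroup.le_normalizer ?_⟩
      exact Subgroup.centralizer_le hℓ.1 (hPE hx)
  rw [Subgroup.le_centralizer_iff]
  exact h1.trans inf_le_right

end SData

namespace Big

/-- centralizers of nonidentity elements of `P'` lie in `M` only -/
theorem derived_um (c : Ctx p P A) (b : Big A M t) {z : G} (hz : z ∈ ⁅P, P⁆) :
    UM M (Subgroup.centralizer ({z} : Set G)) := by
  obtain ⟨S, s, hPS⟩ := SData.exists_of_le c b c.hAP (Big.P_le c b) c.hPp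
  have hzU := SData.derived_le_centralizer_U c b s hPS hz
  have hUz : SData.U t M S ≤ Subgroup.centralizer ({z} : Set G) := by
    intro u hu
    rw [Subgroup.mem_centralizer_singleton_iff]
    exact (Subgroup.mem_centralizer_iff.mp hzU) u hu
  exact (SData.um_of_le_U c b s le_rfl (SData.U_not_cyclic c b s)).mono hUz

/-- (6a): `P` is abelian -/
theorem derived_eq_bot (c : Ctx p P A) (b : Big A M t) : ⁅P, P⁆ = ⊥ := by
  by_contra hne
  obtain ⟨⟨z, hz⟩, hz1⟩ := (Subgroup.ne_bot_iff_exists_ne_one).mp hne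
  have hz1' : z ≠ 1 := fun h0 => hz1 (Subtype.ext h0)
  obtain ⟨S, s⟩ := SData.exists_sdata c b
  have kd := SData.kdataE c b s
  obtain ⟨ℓ₁, ℓ₂, h₁, h₂, hne12, hk₁, hk₂⟩ := kd.hex
  obtain ⟨g, hg, hg1, L, t', ht', b', hgL, hLM⟩ := SData.exists_arrow c b s h₁ hk₁
  haveI : Fact t'.Prime := ⟨ht'⟩
  have hum := derived_um c b hz
  have hum' := derived_um c b' hz
  obtain ⟨L₀, hL₀, hzL₀⟩ := exists_coatom_ge (center_ne_top c.hG hz1')
  exact hLM ((hum' L₀ hL₀ hzL₀).symm.trans (hum L₀ hL₀ hzL₀))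

/-- `G` is generated by its `p'`-elements -/
theorem pResidual_eq_top (c : Ctx p P A) : Cfsg.pResidual p G = ⊤ := by
  have := c.hG.2.1
  have hn : (Cfsg.pResidual p G).Normal := Cfsg.Agent.Lib.Lead.pResidual_normal p
  rcases hn.eq_bot_or_eq_top with h | h
  · exfalso
    have hpg : IsPGroup p ↥(⊤ : Subgroup G) := by
      intro g
      obtain ⟨u, v, hguv, ⟨k, hk⟩, hv⟩ := Cfsg.Agent.Lib.Lead.exists_ppart_decomp p (g : G)
      have hv1 : v = 1 := by
        have : v ∈ Cfsg.pResidual p G := Cfsg.Agent.Lib.Lead.mem_pResidual_of_coprime hv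
        rw [h, Subgroup.mem_bot] at this
        exact this
      refine ⟨k, ?_⟩
      apply Subtype.ext
      rw [Subgroup.coe_pow, hguv, hv1, mul_one, hk]
      rfl
    exact isPGroup_ne_top c.hG hpg rfl
  · exact h

/-- (6b): no maximal subgroup containing `A` is big -/
theorem no_big (c : Ctx p P A) (b : Big A M t) : False := by
  have hder := derived_eq_bot c b
  have hPcomm : ∀ x ∈ P, ∀ y ∈ P, x * y = y * x := by
    intro x hx y hy
    have h1 : ⁅x, y⁆ ∈ ⁅P, P⁆ := Subgroup.commutator_mem_commutator hx hy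
    rw [hder, Subgroup.mem_bot, commutatorElement_eq_one_iff_mul_comm] at h1
    exact h1
  have hPA : P = A := by
    apply le_antisymm _ c.hAP
    intro x hx
    have h : x ∈ P ⊓ Subgroup.centralizer (A : Set G) :=
      ⟨hx, Subgroup.mem_centralizer_iff.mpr (fun a ha => hPcomm a (c.hAP ha) x hx)⟩
    rwa [c.hA.2.2] at h
  -- `P ≤ [N(P), N(P)]`
  have hPN : P ≤ ⁅Subgroup.normalizer (A : Set G), Subgroup.normalizer (A : Set G)⁆ := by
    obtain ⟨T₀, hT₀⟩ := c.hPsyl
    haveI : IsMulCommutative ↥(T₀ : Subgroup G) :=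
      ⟨⟨fun x y => Subtype.ext (hPcomm x.1 (hT₀ ▸ x.2) y.1 (hT₀ ▸ y.2))⟩⟩
    have h1 := Cfsg.Agent.Lib.Lead.sylow_inf_pResidual_eq T₀
    rw [pResidual_eq_top c, inf_top_eq, hT₀] at h1
    have h2 : ⁅P, Subgroup.normalizer (P : Set G)⁆ ≤
        ⁅Subgroup.normalizer (P : Set G), Subgroup.normalizer (P : Set G)⁆ :=
      Subgroup.commutator_mono Subgroup.le_normalizer le_rfl
    rw [← h1, hPA] at h2
    rw [hPA]
    exact h2
  obtain ⟨S, s⟩ := SData.exists_sdata c b
  have kd := SData.kdataE c b s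
  set Z₀ := SData.U t M S ⊓ Subgroup.centralizer (S : Set G) with hZ₀
  have hZ1 : Z₀ ≠ ⊥ := SData.center_part_ne_bot c b s
  have hEZ : c.E ≤ Subgroup.normalizer (Z₀ : Set G) := by
    intro x hx
    apply normalizer_inf_le'
    refine ⟨SData.A_norm_U b s (c.E_le hx), ?_⟩
    exact normalizer_le_normalizer_centralizer S (s.hAS (c.E_le hx))
  have hcop : (Nat.card c.E).Coprime (Nat.card Z₀) := by
    rw [kd.hcard]
    apply Nat.Coprime.pow_left 3
    exact (Nat.Coprime.coprime_dvd_left (Subgroup.card_dvd_of_le inf_le_left)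
      (SData.U_coprime c b s)).symm
  have hex : ∃ ℓ₀ : Subgroup G, IsLine p c.E ℓ₀ ∧
      Z₀ ⊓ Subgroup.centralizer (ℓ₀ : Set G) ≠ ⊥ := by
    by_contra hcon
    push Not at hcon
    apply hZ1
    rw [← le_bot_iff]
    apply le_of_lines kd.hE kd.hcard hEZ hcop
    intro ℓ hℓ
    rw [hcon ℓ hℓ]
  obtain ⟨ℓ₀, hℓ₀, hZℓ⟩ := hex
  set X := SData.U t M S ⊓ Subgroup.centralizer (ℓ₀ : Set G) with hX
  have hZX : Z₀ ⊓ Subgroup.centralizer (ℓ₀ : Set G) ≤ X := inf_le_inf_right _ inf_le_left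
  have hk : X ≠ ⊥ := fun h0 => hZℓ (le_bot_iff.mp (h0 ▸ hZX))
  obtain ⟨hXcard, hker⟩ := kd.hline ℓ₀ hℓ₀ hk
  have hXS : X ≤ Subgroup.centralizer (S : Set G) := by
    have hc : Nat.card ↥(Z₀ ⊓ Subgroup.centralizer (ℓ₀ : Set G) : Subgroup G) = t := by
      have hdvd : Nat.card ↥(Z₀ ⊓ Subgroup.centralizer (ℓ₀ : Set G) : Subgroup G) ∣ t := by
        rw [← hXcard]; exact Subgroup.card_dvd_of_le hZX
      rcases (Nat.dvd_prime ht.out).mp hdvd with h | h
      · exact absurd (Subgroup.card_eq_one.mp h) hZℓ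
      · exact h
    have e : Z₀ ⊓ Subgroup.centralizer (ℓ₀ : Set G) = X :=
      Subgroup.eq_of_le_of_card_ge hZX (by rw [hXcard, hc])
    rw [← e]
    exact inf_le_left.trans inf_le_right
  -- `N(A)` normalizes `ℓ₀`
  have hNℓ : Subgroup.normalizer (A : Set G) ≤ Subgroup.normalizer (ℓ₀ : Set G) := by
    apply Cfsg.Agent.Lib.Lead.FF.le_normalizer_of_conj_mem
    intro n hn g hg
    have h1 := (SData.kernel_point_facts c b s hℓ₀ hk hg).1 hn
    have h2 := (Subgroup.mem_normalizer_iff.mp h1 g).mp (Subgroup.mem_zpowers g)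
    exact (Subgroup.zpowers_le.mpr hg) h2
  have hXT : X ≤ opOf t M := inf_le_left.trans (SData.U_le_T S)
  have hXCT : X ≤ Subgroup.centralizer (opOf t M : Set G) :=
    hXS.trans (Subgroup.centralizer_le (SData.T_le c b s))
  obtain ⟨hℓe, hℓnc⟩ := SData.line_noncyclic c.E_elem hℓ₀
  -- `N(A)` normalizes `X`
  have hNX : Subgroup.normalizer (A : Set G) ≤ Subgroup.normalizer (X : Set G) := by
    intro n hn
    rw [mem_normalizer_iff_cj]
    by_contra hne
    have hnM : n ∈ M := Big.normalizer_A_le c b hn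
    have hnT : cj n (opOf t M) = opOf t M := mem_normalizer_iff_cj.mp (le_normalizer_opOf t M hnM)
    have hnℓ : cj n ℓ₀ = ℓ₀ := mem_normalizer_iff_cj.mp (hNℓ hn)
    have hcjT : cj n X ≤ opOf t M := by
      have := cj_mono n hXT
      rwa [hnT] at this
    have hcjCT : cj n X ≤ Subgroup.centralizer (opOf t M : Set G) := by
      have := cj_mono n hXCT
      rwa [← centralizer_cj, hnT] at this
    have hcjℓ : cj n X ≤ Subgroup.centralizer (ℓ₀ : Set G) := by
      have := cj_mono n (inf_le_right : X ≤ Subgroup.centralizer (ℓ₀ : Set G))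
      rwa [← centralizer_cj, hnℓ] at this
    have hcardcj : Nat.card ↥(cj n X) = t := by
      rw [Subgroup.card_map_of_injective (MulAut.conj n).injective]; exact hXcard
    have hcommXY : ∀ y ∈ X, ∀ z ∈ cj n X, y * z = z * y := by
      intro y hy z hz
      exact ((Subgroup.mem_centralizer_iff.mp (hcjCT hz)) y (hXT hy))
    have hexpX : ∀ x ∈ X, x ^ t = 1 := fun x hx => kd.hexp x hx.1
    have hexpcj : ∀ x ∈ cj n X, x ^ t = 1 := by
      rintro _ ⟨x, hx, rfl⟩
      rw [← map_pow, hexpX x hx, map_one]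
    have hYnc : ¬ IsCyclic ↥(X ⊔ cj n X : Subgroup G) :=
      not_isCyclic_sup ht.out.pos hcommXY hexpX hexpcj hXcard hcardcj hne
    have hYT : X ⊔ cj n X ≤ opOf t M := sup_le hXT hcjT
    have hYCT : X ⊔ cj n X ≤ Subgroup.centralizer (opOf t M : Set G) := sup_le hXCT hcjCT
    have hYℓ : X ⊔ cj n X ≤ Subgroup.centralizer (ℓ₀ : Set G) := sup_le inf_le_right hcjℓ
    have hY3 : ¬ PRankLE t 2 ↥(Subgroup.centralizer ((X ⊔ cj n X : Subgroup G) : Set G)) := by
      obtain ⟨V, hVT, hV, hVcard⟩ := b.exists_V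
      refine not_pRankLE_of_elementary (hVT.trans ?_) hV hVcard
      rw [Subgroup.le_centralizer_iff]
      exact hYCT
    have hum := Big.fat_um c.hG b (hYT.trans (opOf_le t M)) ((opOf_isPGroup t M).to_le hYT) hYnc hY3
    apply c.no_good b.hM (hℓ₀.1.trans c.E_le) hℓe hℓnc
    intro d hd hd1
    exact hum.le (center_ne_top c.hG hd1) (hYℓ.trans (centralizer_le_singleton hd))
  have hcomX := commutator_le_centralizer_of_prime_card hNX hXcard
  have hEX : c.E ≤ Subgroup.centralizer (X : Set G) :=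
    (c.E_le.trans c.hAP).trans (hPN.trans hcomX)
  apply hk
  rw [← le_bot_iff, ← kd.hfix]
  refine le_inf inf_le_left ?_
  rw [Subgroup.le_centralizer_iff]
  exact hEX

end Big

end Cfsg.Agent.Lib.Lead.BG95
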