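import Mathlib
import Cfsg.Agent.Lib.Lead.BG95h

set_option autoImplicit false

/-! Bender–Glauberman Lemma 9.5, part i: the case in which every maximal subgroup containing `A`
has a Fitting subgroup of rank at most two, and the lemma itself. -/

namespace Cfsg.Agent.Lib.Lead.BG95

open Cfsg Cfsg.Agent.Lib.Lead Cfsg.Agent.Lib.Helper7 Cfsg.Agent.Lib.Helper4
open Cfsg.Agent.Lib.Helper4.BG7 Cfsg.Agent.Lib.Helper4.BG76 Cfsg.Agent.Lib.Helper4.BG8
open Cfsg.Agent.Lib.Helper4.BG9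
open scoped commutatorElement

universe u

variable {G : Type u} [Group G] [Finite G]

theorem commutator_self_le (H : Subgroup G) : ⁅H, H⁆ ≤ H := by
  rw [Subgroup.commutator_le]
  intro x hx y hy
  rw [commutatorElement_def]
  exact H.mul_mem (H.mul_mem (H.mul_mem hx hy) (H.inv_mem hx)) (H.inv_mem hy)

/-- `N(P)` normalizes `P ∩ N(P)'` -/
theorem normalizer_le_normalizer_focal (P : Subgroup G) :
    Subgroup.normalizer (P : Set G) ≤ Subgroup.normalizer
      ((P ⊓ ⁅Subgroup.normalizer (P : Set G), Subgroup.normalizer (P : Set G)⁆ : Subgroup G) : Set G) := by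
  intro n hn
  apply normalizer_inf_le'
  refine ⟨hn, ?_⟩
  apply Cfsg.Agent.Lib.Lead.FF.le_normalizer_of_conj_mem (Subgroup.normalizer (P : Set G)) _ _ hn
  intro a ha k hk
  have hkN : k ∈ Subgroup.normalizer (P : Set G) := commutator_self_le _ hk
  have e : a * k * a⁻¹ = ⁅a, k⁆ * k := by rw [commutatorElement_def]; group
  rw [e]
  exact Subgroup.mul_mem _ (Subgroup.commutator_mem_commutator ha hkN) hk

variable {p : ℕ} [hp : Fact p.Prime] {P A : Subgroup G}

namespace Ctx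

/-- an abelian Sylow subgroup lies in the derived subgroup of its normalizer -/
theorem P_le_derived (c : Ctx p P A) (hPcomm : ∀ x ∈ P, ∀ y ∈ P, x * y = y * x) :
    P ≤ ⁅Subgroup.normalizer (P : Set G), Subgroup.normalizer (P : Set G)⁆ := by
  obtain ⟨T₀, hT₀⟩ := c.hPsyl
  have : IsMulCommutative ↥(T₀ : Subgroup G) :=
    ⟨⟨fun x y => Subtype.ext (hPcomm x.1 (hT₀ ▸ x.2) y.1 (hT₀ ▸ y.2))⟩⟩
  have h1 := Cfsg.Agent.Lib.Lead.sylow_inf_pResidual_eq T₀
  rw [Big.pResidual_eq_top c, inf_top_eq, hT₀] at h1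
  calc P = ⁅P, Subgroup.normalizer (P : Set G)⁆ := h1
    _ ≤ ⁅Subgroup.normalizer (P : Set G), Subgroup.normalizer (P : Set G)⁆ :=
      Subgroup.commutator_mono Subgroup.le_normalizer le_rfl

theorem focal_ne_bot (c : Ctx p P A) :
    P ⊓ ⁅Subgroup.normalizer (P : Set G), Subgroup.normalizer (P : Set G)⁆ ≠ ⊥ := by
  intro h0
  have hPcomm : ∀ x ∈ P, ∀ y ∈ P, x * y = y * x := by
    intro x hx y hy
    have h1 : ⁅x, y⁆ ∈ P ⊓ ⁅Subgroup.normalizer (P : Set G), Subgroup.normalizer (P : Set G)⁆ :=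
      ⟨commutator_self_le P (Subgroup.commutator_mem_commutator hx hy),
        Subgroup.commutator_mem_commutator (Subgroup.le_normalizer hx) (Subgroup.le_normalizer hy)⟩
    rw [h0, Subgroup.mem_bot, commutatorElement_eq_one_iff_mul_comm] at h1
    exact h1
  have h2 : P ≤ P ⊓ ⁅Subgroup.normalizer (P : Set G), Subgroup.normalizer (P : Set G)⁆ :=
    le_inf le_rfl (c.P_le_derived hPcomm)
  rw [h0] at h2
  exact c.hA1 (le_bot_iff.mp (c.hAP.trans h2))

/-- the case in which no maximal subgroup containing `A` is big -/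
theorem all_small_false (c : Ctx p P A)
    (hsmall : ∀ L : Subgroup G, IsCoatom L → A ≤ L → RankLE 2 ↥(fittingOf L)) : False := by
  set N := Subgroup.normalizer (P : Set G) with hN
  set P₀ := P ⊓ ⁅N, N⁆ with hP₀
  have hP₀1 : P₀ ≠ ⊥ := c.focal_ne_bot
  have hP₀p : IsPGroup p P₀ := c.hPp.to_le inf_le_left
  have hNP₀ : N ≤ Subgroup.normalizer (P₀ : Set G) := normalizer_le_normalizer_focal P
  obtain ⟨L, hL, hNL⟩ := exists_coatom_ge (normalizer_ne_top c.hG hP₀1 (isPGroup_ne_top c.hG hP₀p))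
  have hPL : P ≤ L := (Subgroup.le_normalizer.trans hNP₀).trans hNL
  have hAL : A ≤ L := c.hAP.trans hPL
  -- `P`-invariant subgroups of prime power order prime to `p` lie in `L`
  have stepA : ∀ q : ℕ, q.Prime → q ≠ p → ∀ Q : Subgroup G, IsPGroup q Q →
      P ≤ Subgroup.normalizer (Q : Set G) → Q ≤ L := by
    intro q hq hqp Q hQ hPQ
    haveI : Fact q.Prime := ⟨hq⟩
    have hQinv : Q ∈ invSubgroups ⊤ P {q} := ⟨le_top, isPiNum_singleton_of_isPGroup hQ, hPQ⟩
    obtain ⟨QP, hQP, hQle⟩ := exists_maxInv_ge hQinv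
    refine hQle.trans ?_
    by_cases hQP1 : QP = ⊥
    · rw [hQP1]; exact bot_le
    have hQPp : IsPGroup q QP := isPGroup_of_mem_maxInv hQP
    obtain ⟨H, hH, hNH⟩ :=
      exists_coatom_ge (normalizer_ne_top c.hG hQP1 (isPGroup_ne_top c.hG hQPp))
    have hPH : P ≤ H := hQP.1.2.2.trans hNH
    have hAH : A ≤ H := c.hAP.trans hPH
    have hQPH : QP ≤ H := Subgroup.le_normalizer.trans hNH
    obtain ⟨-, -, htrP, -⟩ := c.thm75 hq hqp
    have h1 : P₀ ≤ ⁅H, H⁆ := (part_d htrP hQP).trans (Subgroup.commutator_mono hNH hNH)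
    have h2 : P₀ ≤ opOf p H :=
      le_opOf_of_le_fittingOf (h1.trans (comm_le_fittingOf c.hG hH.1 (hsmall H hH hAH))) hP₀p
    have h3 : QP ≤ piCoreOf (cpi A) H :=
      c.inv_le_core hH.1 hAH hQPH (coprime_of_isPGroup_ne hqp hQPp) (c.hAP.trans hQP.1.2.2)
    have h4 : QP ≤ Subgroup.centralizer (P₀ : Set G) := by
      intro y hy
      rw [Subgroup.mem_centralizer_iff]
      intro x hx
      have hxO := h2 hx
      have hyO := h3 hy
      have hxH : x ∈ H := opOf_le p H hxO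
      have hyH : y ∈ H := piCoreOf_le _ _ hyO
      have e1 : x * y * x⁻¹ * y⁻¹ ∈ opOf p H := by
        have := (Subgroup.mem_normalizer_iff.mp (le_normalizer_opOf p H hyH) x⁻¹).mp
          (Subgroup.inv_mem _ hxO)
        have e : x * y * x⁻¹ * y⁻¹ = x * (y * x⁻¹ * y⁻¹) := by group
        rw [e]
        exact Subgroup.mul_mem _ hxO this
      have e2 : x * y * x⁻¹ * y⁻¹ ∈ piCoreOf (cpi A) H := by
        have := (Subgroup.mem_normalizer_iff.mp (le_normalizer_piCoreOf _ _ hxH) y).mp hyO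
        exact Subgroup.mul_mem _ this (Subgroup.inv_mem _ hyO)
      have e3 : opOf p H ⊓ piCoreOf (cpi A) H = ⊥ :=
        Cfsg.Agent.Lib.Helper6.isPGroup_inf_coprime_eq_bot (c.card_core_coprime H)
          (opOf_isPGroup p H)
      have e4 : x * y * x⁻¹ * y⁻¹ = 1 := by
        have : x * y * x⁻¹ * y⁻¹ ∈ opOf p H ⊓ piCoreOf (cpi A) H := ⟨e1, e2⟩
        rw [e3, Subgroup.mem_bot] at this
        exact this
      calc x * y = (x * y * x⁻¹ * y⁻¹) * (y * x) := by group
        _ = y * x := by rw [e4, one_mul]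
    exact h4.trans ((Subgroup.centralizer_le_normalizer _).trans hNL)
  have stepB : ∀ Y : Subgroup G, (Nat.card Y).Coprime p →
      P ≤ Subgroup.normalizer (Y : Set G) → Y ≤ L :=
    fun Y hY hPY => le_of_inv_sylows c.hPp hY hPY stepA
  have hKAL : KA A ≤ L := by
    apply stepB
    · exact (c.coprime_iff _).mp (isPiNum_card_piCoreOf (cpi A) _)
    · exact c.hA.2.1.trans (normalizer_le_normalizer_KA A)
  have stepC : ∀ q : ℕ, q.Prime → q ≠ p → ∀ Q : Subgroup G, IsPGroup q Q →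
      A ≤ Subgroup.normalizer (Q : Set G) → Q ≤ L := by
    intro q hq hqp Q hQ hAQ
    haveI : Fact q.Prime := ⟨hq⟩
    have hQinv : Q ∈ invSubgroups ⊤ A {q} := ⟨le_top, isPiNum_singleton_of_isPGroup hQ, hAQ⟩
    obtain ⟨Qs, hQs, hQle⟩ := exists_maxInv_ge hQinv
    obtain ⟨QP, hQP, -⟩ := exists_maxInv_ge (bot_mem_inv P {q})
    obtain ⟨-, -, -, hsub⟩ := c.thm75 hq hqp
    obtain ⟨k, hk, hkQ⟩ := c.htr hq hqp QP (hsub hQP) Qs hQs
    have hQPL : QP ≤ L := stepA q hq hqp QP (isPGroup_of_mem_maxInv hQP) hQP.1.2.2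
    refine hQle.trans ?_
    rw [hkQ]
    exact cj_le_of_mem (hKAL hk) hQPL
  have h91 : S91 L p A :=
    ⟨c.hG, hL, hAL, c.hAp, c.hA1, fun Y hY hAY => le_of_inv_sylows c.hAp hY hAY stepC⟩
  exact c.hnU (inUnique_of_um h91.main hL hAL)

end Ctx

/-- Bender–Glauberman, Lemma 9.5 -/
theorem lemma_9_5 (hG : IsMinSimpleOddOrder G) (p : ℕ) [Fact p.Prime] (P : Sylow p G)
    (A : Subgroup G) (hA : IsSCN (P : Subgroup G) A) (hA3 : ¬ PRankLE p 2 ↥A) :
    InUniqueMaximal A := by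
  by_contra hnU
  have c : Ctx p (P : Subgroup G) A := ⟨hG, ⟨P, rfl⟩, hA, hA3, hnU⟩
  apply c.all_small_false
  intro L hL hAL
  rcases c.big_or_small hL hAL with h | ⟨t', ht', b'⟩
  · exact h
  · haveI : Fact t'.Prime := ⟨ht'⟩
    exact (Big.no_big c b').elim

end Cfsg.Agent.Lib.Lead.BG95
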