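import Mathlib
import Cfsg.Agent.Lib.Lead.BG10a
import Cfsg.Agent.Lib.Lead.BG95i
import Cfsg.Agent.Lib.Helper4.BG9f

set_option autoImplicit false

/-! Bender–Glauberman §10, part b: Theorem 10.1 (fusion of `p`-subgroups of a maximal subgroup `M`
for `p ∈ σ(M)`). -/

namespace Cfsg.Agent.Lib.Lead.BG10

open Cfsg Cfsg.Agent.Lib.Lead Cfsg.Agent.Lib.Helper7 Cfsg.Agent.Lib.Helper4
open Cfsg.Agent.Lib.Helper4.BG7 Cfsg.Agent.Lib.Helper4.BG76 Cfsg.Agent.Lib.Helper4.BG8
open Cfsg.Agent.Lib.Helper4.BG9 Cfsg.Agent.Lib.Lead.BG95 Cfsg.Agent.Lib.Helper4.ThreeStep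

universe u

variable {G : Type u} [Group G] [Finite G]

/-- the Uniqueness Theorem -/
theorem uniq (hG : IsMinSimpleOddOrder G) {K : Subgroup G} (hK : K ≠ ⊤) (hK2 : ¬ RankLE 1 K)
    (hK3 : ¬ RankLE 2 K ∨ ¬ RankLE 2 (Subgroup.centralizer (K : Set G))) : InUniqueMaximal K :=
  theorem_9_6 hG (fun p _ P A hA hA3 => lemma_9_5 hG p P A hA hA3) K hK hK2 hK3

theorem not_rankLE_of_not_pRankLE {H : Type u} [Group H] {p k : ℕ} (hp : p.Prime)
    (h : ¬ PRankLE p k H) : ¬ RankLE k H := fun h' => h (h' p hp)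

theorem not_pRankLE_mono {H : Type u} [Group H] {p j k : ℕ} (hp : p.Prime) (hjk : j ≤ k)
    (h : ¬ PRankLE p k H) : ¬ PRankLE p j H := by
  intro h1
  apply h
  intro B hB hBe
  have h2 := h1 B hB hBe
  have h3 : p ^ j ≤ p ^ k := Nat.pow_le_pow_right hp.pos hjk
  omega

/-- a `p`-subgroup of rank at least three lies in a unique maximal subgroup -/
theorem uniq_of_rank_three (hG : IsMinSimpleOddOrder G) {p : ℕ} [hp : Fact p.Prime]
    {P : Subgroup G} (hPp : IsPGroup p P) (hr : ¬ PRankLE p 2 ↥P) : InUniqueMaximal P :=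
  uniq hG (isPGroup_ne_top hG hPp)
    (not_rankLE_of_not_pRankLE hp.out (not_pRankLE_mono hp.out (by norm_num) hr))
    (Or.inl (not_rankLE_of_not_pRankLE hp.out hr))

/-- factorization of a solvable group of odd order and `p`-rank at most two -/
theorem exists_mul_of_rank_two (hodd : Odd (Nat.card G)) {p : ℕ} [Fact p.Prime]
    {H P : Subgroup G} (hH : Group.IsSolvable ↥H) (hP : SylIn p H P) (hr : PRankLE p 2 ↥P)
    {d : G} (hd : d ∈ H) :
    ∃ k ∈ cG p H, ∃ n ∈ H ⊓ Subgroup.normalizer (P : Set G), d = k * n := by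
  have h1 : H ≤ cG p H ⊔ (H ⊓ Subgroup.normalizer (P : Set G)) :=
    le_of_rank_two hodd hH hP hr le_sup_left le_sup_right
  exact exists_mul_of_mem_sup (inf_le_left.trans (le_normalizer_cG p H)) (h1 hd)

/-- a Sylow `p`-subgroup `P` of `G` with `N(P) ≤ M` -/
structure SigmaData (M : Subgroup G) (p : ℕ) (P : Subgroup G) : Prop where
  hM : IsCoatom M
  hPM : P ≤ M
  hPsyl : ∃ T : Sylow p G, (T : Subgroup G) = P
  hN : Subgroup.normalizer (P : Set G) ≤ M
  hP1 : P ≠ ⊥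

theorem exists_sigmaData {M : Subgroup G} (hM : IsCoatom M) {p : ℕ} [hp : Fact p.Prime]
    (hpσ : p ∈ sigma M) : ∃ P : Subgroup G, SigmaData M p P := by
  obtain ⟨-, hpM, P₀, hN⟩ := hpσ
  have hsyl := sylIn_map_sylow P₀
  refine ⟨_, hM, hsyl.1, sylow_of_normalizer_le hsyl hN, hN, ?_⟩
  intro h0
  have h1 : Nat.card ↥((P₀ : Subgroup ↥M).map M.subtype) = 1 := by rw [h0]; exact Subgroup.card_bot
  rw [Subgroup.card_map_of_injective M.subtype_injective] at h1
  have h2 := P₀.card_eq_multiplicity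
  rw [h1] at h2
  have h3 : (Nat.card ↥M).factorization p = 0 := by
    by_contra hne
    have : 1 < p ^ (Nat.card ↥M).factorization p := Nat.one_lt_pow hne hp.out.one_lt
    omega
  have h4 : 1 ≤ (Nat.card ↥M).factorization p :=
    (hp.out.dvd_iff_one_le_factorization Nat.card_pos.ne').mp hpM
  omega

namespace SigmaData

variable {M P : Subgroup G} {p : ℕ} [hp : Fact p.Prime]

theorem hPp (d : SigmaData M p P) : IsPGroup p P := by
  obtain ⟨T, hT⟩ := d.hPsyl
  rw [← hT]; exact T.isPGroup'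

theorem p_dvd (d : SigmaData M p P) : p ∣ Nat.card G := by
  rcases d.hPp.card_eq_or_dvd with h2 | h2
  · exact absurd (Subgroup.card_eq_one.mp h2) d.hP1
  · exact h2.trans (Subgroup.card_subgroup_dvd_card _)

theorem sylIn (d : SigmaData M p P) : SylIn p M P := sylIn_of_sylow d.hPsyl d.hPM

/-- `N(Z(J(P))) ⊆ M C(X)` in the sense needed -/
theorem zj_normalizer_factor (hG : IsMinSimpleOddOrder G) (d : SigmaData M p P) {X : Subgroup G}
    (hXP : X ≤ P) {n : G}
    (hn : n ∈ Subgroup.normalizer (centerThompsonAOf P : Set G)) (hnX : cj n X ≤ P) :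
    ∃ m ∈ M, ∃ c ∈ Subgroup.centralizer (X : Set G), n = m * c := by
  have hPp := d.hPp
  have hZ1 : centerThompsonAOf P ≠ ⊥ := zj_ne_bot hPp d.hP1
  have hZp : IsPGroup p (centerThompsonAOf P) := hPp.to_le (zj_le hPp)
  have hHne : Subgroup.normalizer (centerThompsonAOf P : Set G) ≠ ⊤ :=
    normalizer_ne_top hG hZ1 (isPGroup_ne_top hG hZp)
  have hPH : P ≤ Subgroup.normalizer (centerThompsonAOf P : Set G) :=
    Subgroup.le_normalizer.trans (normalizer_le_normalizer_zj hPp)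
  by_cases hr : PRankLE p 2 ↥P
  · -- rank at most two
    set H := Subgroup.normalizer (centerThompsonAOf P : Set G) with hH
    have hHs : Group.IsSolvable ↥H := solvable_of_ne_top hG hHne
    have hsyl : SylIn p H P := sylIn_of_sylow d.hPsyl hPH
    obtain ⟨k, hk, n', hn', e⟩ := exists_mul_of_rank_two hG.1 hHs hsyl hr (H.inv_mem hn)
    have hn'M : n' ∈ M := d.hN hn'.2
    have hn'P : cj n' P = P := mem_normalizer_iff_cj.mp hn'.2
    have hkH : k ∈ H := cG_le p H hk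
    -- `k` centralizes `X`
    have hkX : k ∈ Subgroup.centralizer (X : Set G) := by
      rw [Subgroup.mem_centralizer_iff]
      intro x hx
      have h1 : k⁻¹ * x * k ∈ P := by
        have h2 : n * x * n⁻¹ ∈ P := hnX ⟨x, hx, rfl⟩
        have h3 : n' * (n * x * n⁻¹) * n'⁻¹ ∈ cj n' P := ⟨_, h2, rfl⟩
        rw [hn'P] at h3
        have h5 : n' * (n * x * n⁻¹) * n'⁻¹ = k⁻¹ * x * k := by
          have hn_eq : n = n'⁻¹ * k⁻¹ := by
            have : n⁻¹⁻¹ = (k * n')⁻¹ := by rw [e]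
            rw [inv_inv] at this
            rw [this]; group
          rw [hn_eq]; group
        rwa [h5] at h3
      have hxP : x ∈ P := hXP hx
      have h6 : k⁻¹ * x * k * x⁻¹ ∈ P := P.mul_mem h1 (P.inv_mem hxP)
      have h7 : k⁻¹ * x * k * x⁻¹ ∈ cG p H := by
        have h8 : x * k * x⁻¹ ∈ cG p H :=
          (Subgroup.mem_normalizer_iff.mp (le_normalizer_cG p H (hPH hxP)) k).mp hk
        have e1 : k⁻¹ * x * k * x⁻¹ = k⁻¹ * (x * k * x⁻¹) := by group
        rw [e1]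
        exact Subgroup.mul_mem _ (Subgroup.inv_mem _ hk) h8
      have h9 : P ⊓ cG p H = ⊥ :=
        Cfsg.Agent.Lib.Helper6.isPGroup_inf_coprime_eq_bot (card_cG_coprime p H) hPp
      have h10 : k⁻¹ * x * k * x⁻¹ = 1 := by
        have : k⁻¹ * x * k * x⁻¹ ∈ P ⊓ cG p H := ⟨h6, h7⟩
        rw [h9, Subgroup.mem_bot] at this
        exact this
      calc x * k = k * (k⁻¹ * x * k * x⁻¹) * x := by group
        _ = k * x := by rw [h10, mul_one]
    refine ⟨n'⁻¹, M.inv_mem hn'M, k⁻¹, Subgroup.inv_mem _ hkX, ?_⟩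
    have : n⁻¹⁻¹ = (k * n')⁻¹ := by rw [e]
    rw [inv_inv] at this
    rw [this]; group
  · -- rank at least three
    have hum : UM M P := um_of_inUnique (uniq_of_rank_three hG hPp hr) d.hM d.hPM
    exact ⟨n, hum.le hHne hPH hn, 1, Subgroup.one_mem _, (mul_one n).symm⟩

/-- Theorem 10.1(a) for subgroups of `P` -/
theorem fusion_in_sylow (hG : IsMinSimpleOddOrder G) (d : SigmaData M p P) {X : Subgroup G}
    (hXP : X ≤ P) {g : G} (hg : cj g X ≤ P) :
    ∃ m ∈ M, ∃ c ∈ Subgroup.centralizer (X : Set G), g = m * c := by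
  obtain ⟨T, hT⟩ := d.hPsyl
  have hp2 : p ≠ 2 := ne_two_of_odd hG d.p_dvd
  have hA : (X : Set G) ⊆ (T : Subgroup G) := by rw [hT]; exact hXP
  have hgA : lc g (X : Set G) ⊆ (T : Subgroup G) := by
    rw [hT, lc_subgroup]; exact hg
  obtain ⟨n, hn, hnx⟩ := zj_controls hG.1 hp2 T (X : Set G) hA g hgA
  rw [hT] at hn
  have hnX : cj n X ≤ P := by
    rintro _ ⟨x, hx, rfl⟩
    show n * x * n⁻¹ ∈ P
    rw [hnx x hx]
    exact hg ⟨x, hx, rfl⟩
  obtain ⟨m, hm, c, hc, e⟩ := zj_normalizer_factor hG d hXP hn hnX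
  refine ⟨m, hm, c * (n⁻¹ * g), Subgroup.mul_mem _ hc ?_, by rw [e]; group⟩
  rw [Subgroup.mem_centralizer_iff]
  intro x hx
  have := hnx x hx
  calc x * (n⁻¹ * g) = n⁻¹ * (n * x * n⁻¹) * g := by group
    _ = n⁻¹ * (g * x * g⁻¹) * g := by rw [this]
    _ = n⁻¹ * g * x := by group

/-- Theorem 10.1(a) -/
theorem fusion (hG : IsMinSimpleOddOrder G) (d : SigmaData M p P) {X : Subgroup G}
    (hXp : IsPGroup p X) (hXM : X ≤ M) {g : G} (hg : cj g X ≤ M) :
    ∃ m ∈ M, ∃ c ∈ Subgroup.centralizer (X : Set G), g = m * c := by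
  obtain ⟨m₁, hm₁, h1⟩ := SylIn.exists_conj_le d.sylIn hXM hXp
  obtain ⟨m₂, hm₂, h2⟩ := SylIn.exists_conj_le d.sylIn hg (isPGroup_cj g hXp)
  have h3 : cj (m₂ * g * m₁⁻¹) (cj m₁ X) ≤ P := by
    rw [← cj_mul]
    have : m₂ * g * m₁⁻¹ * m₁ = m₂ * g := by group
    rw [this, cj_mul]
    exact h2
  obtain ⟨m, hm, c', hc', e⟩ := fusion_in_sylow hG d h1 h3
  rw [centralizer_cj, mem_cj] at hc'
  refine ⟨m₂⁻¹ * m * m₁, M.mul_mem (M.mul_mem (M.inv_mem hm₂) hm) hm₁, m₁⁻¹ * c' * m₁, hc', ?_⟩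
  have : g = m₂⁻¹ * (m₂ * g * m₁⁻¹) * m₁ := by group
  rw [this, e]; group

/-- Theorem 10.1(c) -/
theorem normalizer_eq (hG : IsMinSimpleOddOrder G) (d : SigmaData M p P) {X : Subgroup G}
    (hXp : IsPGroup p X) (hXM : X ≤ M) :
    Subgroup.normalizer (X : Set G) =
      (M ⊓ Subgroup.normalizer (X : Set G)) ⊔ Subgroup.centralizer (X : Set G) := by
  apply le_antisymm
  · intro g hg
    have hgX : cj g X = X := mem_normalizer_iff_cj.mp hg
    obtain ⟨m, hm, c, hc, e⟩ := fusion hG d hXp hXM (g := g) (by rw [hgX]; exact hXM)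
    rw [e]
    refine Subgroup.mul_mem_sup ⟨hm, ?_⟩ hc
    have : m = g * c⁻¹ := by rw [e]; group
    rw [this]
    exact Subgroup.mul_mem _ hg
      (Subgroup.centralizer_le_normalizer _ (Subgroup.inv_mem _ hc))
  · exact sup_le inf_le_right (Subgroup.centralizer_le_normalizer _)

end SigmaData

/-- Bender–Glauberman, Theorem 10.1(a),(c) -/
theorem theorem_10_1 (hG : IsMinSimpleOddOrder G) {M : Subgroup G} (hM : IsCoatom M) {p : ℕ}
    [Fact p.Prime] (hp : p ∈ sigma M) {X : Subgroup G} (hXp : IsPGroup p X) (hXM : X ≤ M) :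
    (∀ g : G, X.map (MulAut.conj g).toMonoidHom ≤ M →
      ∃ m ∈ M, ∃ c ∈ Subgroup.centralizer (X : Set G), g = m * c) ∧
    Subgroup.normalizer (X : Set G) =
      (M ⊓ Subgroup.normalizer (X : Set G)) ⊔ Subgroup.centralizer (X : Set G) := by
  obtain ⟨P, d⟩ := exists_sigmaData hM hp
  exact ⟨fun g hg => d.fusion hG hXp hXM hg, d.normalizer_eq hG hXp hXM⟩

end Cfsg.Agent.Lib.Lead.BG10
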