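import Mathlib
import Cfsg.Agent.Lib.Lead.BG10b
import Cfsg.Agent.Lib.Lead.Focal
import Cfsg.Agent.Lib.Helper4.PiCore
import Cfsg.Agent.Lib.Helper4.Rk2m

set_option autoImplicit false

/-! Bender–Glauberman §10, part c: Theorem 10.2 (`M_α` is a normal Hall subgroup). -/

namespace Cfsg.Agent.Lib.Lead.BG10

open Cfsg Cfsg.Agent.Lib.Lead Cfsg.Agent.Lib.Helper7 Cfsg.Agent.Lib.Helper4
open Cfsg.Agent.Lib.Helper4.BG7 Cfsg.Agent.Lib.Helper4.BG76 Cfsg.Agent.Lib.Helper4.BG8
open Cfsg.Agent.Lib.Helper4.BG9 Cfsg.Agent.Lib.Lead.BG95 Cfsg.Agent.Lib.Helper4.ThreeStep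
open scoped commutatorElement

universe u

variable {G : Type u} [Group G] [Finite G]

/-- `α(M) ⊆ σ(M)`, with the Sylow subgroup -/
theorem exists_sigmaData_of_alpha (hG : IsMinSimpleOddOrder G) {M : Subgroup G} (hM : IsCoatom M)
    {p : ℕ} [hp : Fact p.Prime] (hpα : p ∈ alpha M) :
    p ∈ sigma M ∧ ∃ P : Subgroup G, SigmaData M p P ∧ ¬ PRankLE p 2 ↥P := by
  obtain ⟨P₀⟩ : Nonempty (Sylow p ↥M) := inferInstance
  have hsyl := sylIn_map_sylow P₀
  set P := (P₀ : Subgroup ↥M).map M.subtype with hP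
  have hr : ¬ PRankLE p 2 ↥P := fun h => hpα.2 (prankLE_of_sylIn hsyl h)
  have hPp : IsPGroup p P := hsyl.2.1
  have hP1 : P ≠ ⊥ := by
    obtain ⟨E, hEP, -, hEcard⟩ := exists_elementary_of_not_pRankLE hr
    intro h0
    rw [h0] at hEP
    have : E = ⊥ := le_bot_iff.mp hEP
    rw [this, Subgroup.card_bot] at hEcard
    have := Nat.one_le_pow 2 p hp.out.pos
    omega
  have hum : UM M P := um_of_inUnique (uniq_of_rank_three hG hPp hr) hM hsyl.1
  have hN : Subgroup.normalizer (P : Set G) ≤ M :=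
    hum.le (normalizer_ne_top hG hP1 (isPGroup_ne_top hG hPp)) Subgroup.le_normalizer
  have hpM : p ∣ Nat.card ↥M := by
    rcases hPp.card_eq_or_dvd with h2 | h2
    · exact absurd (Subgroup.card_eq_one.mp h2) hP1
    · exact h2.trans (Subgroup.card_dvd_of_le hsyl.1)
  exact ⟨⟨hp.out, hpM, P₀, hN⟩, P, ⟨hM, hsyl.1, sylow_of_normalizer_le hsyl hN, hN, hP1⟩, hr⟩

theorem alpha_subset_sigma (hG : IsMinSimpleOddOrder G) {M : Subgroup G} (hM : IsCoatom M) :
    alpha M ⊆ sigma M := by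
  intro p hp
  haveI : Fact p.Prime := ⟨hp.1⟩
  exact (exists_sigmaData_of_alpha hG hM hp).1

namespace SigmaData

variable {M P : Subgroup G} {p : ℕ} [hp : Fact p.Prime]

/-- Theorem 10.2(b), first half: a Sylow `p`-subgroup of `M`, `p ∈ σ(M)`, lies in `M'` -/
theorem le_commutator (hG : IsMinSimpleOddOrder G) (d : SigmaData M p P) : P ≤ ⁅M, M⁆ := by
  obtain ⟨T, hT⟩ := d.hPsyl
  have hctl : ∀ x ∈ T, ∀ g : G, g * x * g⁻¹ ∈ T → ∃ n ∈ M, n * x * n⁻¹ = g * x * g⁻¹ := by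
    intro x hx g hgx
    have hxP : x ∈ P := by rw [← hT]; exact hx
    have hgxP : g * x * g⁻¹ ∈ P := by rw [← hT]; exact hgx
    have hXP : Subgroup.zpowers x ≤ P := Subgroup.zpowers_le.mpr hxP
    have hgX : cj g (Subgroup.zpowers x) ≤ P := by
      rintro _ ⟨y, hy, rfl⟩
      obtain ⟨j, rfl⟩ := Subgroup.mem_zpowers_iff.mp hy
      have : (MulAut.conj g).toMonoidHom (x ^ j) = (g * x * g⁻¹) ^ j := by
        rw [map_zpow]; rfl
      rw [this]
      exact Subgroup.zpow_mem _ hgxP j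
    obtain ⟨m, hm, c, hc, e⟩ := d.fusion_in_sylow hG hXP hgX
    refine ⟨m, hm, ?_⟩
    have hcx : x * c = c * x :=
      (Subgroup.mem_centralizer_iff.mp hc) x (Subgroup.mem_zpowers x)
    rw [e]
    calc m * x * m⁻¹ = m * (x * c) * c⁻¹ * m⁻¹ := by group
      _ = m * (c * x) * c⁻¹ * m⁻¹ := by rw [hcx]
      _ = m * c * x * (m * c)⁻¹ := by group
  have h1 := commutator_inf_sylow_eq_of_control T M (by rw [hT]; exact d.hPM) hctl
  have h2 : commutator G = ⊤ := by rw [commutator_def]; exact commutator_eq_top hG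
  rw [h2, top_inf_eq, hT] at h1
  rw [h1]
  exact inf_le_left

end SigmaData

section quotient

variable {M : Subgroup G}

theorem alpha_mem_iff {p : ℕ} (hp : p.Prime) : p ∈ alpha M ↔ ¬ PRankLE p 2 ↥M :=
  ⟨fun h => h.2, fun h => ⟨hp, h⟩⟩

/-- the order of `M_α` is prime to every prime outside `α(M)` -/
theorem card_piCore_alpha_coprime {q : ℕ} (hq : q.Prime) (hqα : q ∉ alpha M) :
    (Nat.card (piCore (alpha M) ↥M)).Coprime q := by
  rw [Nat.coprime_comm, Nat.Prime.coprime_iff_not_dvd hq]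
  intro hd
  exact hqα (isPiNum_card_piCore (alpha M) q hq hd)

theorem pCore_quotient_eq_bot {q : ℕ} [hq : Fact q.Prime] (hqα : q ∈ alpha M) :
    pCore q (↥M ⧸ piCore (alpha M) ↥M) = ⊥ := by
  rw [← le_bot_iff, ← piCore_quotient_piCore (G := ↥M) (alpha M)]
  apply le_piCore (pCore_normal q)
  obtain ⟨k, hk⟩ := IsPGroup.iff_card.mp (pCore_isPGroup (G := ↥M ⧸ piCore (alpha M) ↥M) q)
  rw [hk]
  exact IsPiNum.pow hqα hq.out k

/-- the quotient `M / M_α` satisfies the hypotheses of Theorem 4.20 -/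
theorem hyp420_quotient (hG : IsMinSimpleOddOrder G) (hM : IsCoatom M) :
    haveI : Group.IsSolvable ↥M := solvable_of_ne_top hG hM.1
    Rk2.Hyp420 (↥M ⧸ piCore (alpha M) ↥M) := by
  haveI : Group.IsSolvable ↥M := solvable_of_ne_top hG hM.1
  refine ⟨?_, ?_⟩
  · have h1 : Nat.card (↥M ⧸ piCore (alpha M) ↥M) ∣ Nat.card ↥M :=
      Subgroup.card_quotient_dvd_card _
    exact Odd.of_dvd_nat (odd_card_sub hG M) h1
  · intro q hq
    haveI : Fact q.Prime := ⟨hq⟩
    by_cases hqα : q ∈ alpha M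
    · rw [pCore_quotient_eq_bot hqα]
      intro B _ _
      have h1 : Nat.card ↥B = 1 := by
        have : Subsingleton ↥(⊥ : Subgroup (↥M ⧸ piCore (alpha M) ↥M)) := inferInstance
        have : Subsingleton ↥B := inferInstance
        exact Nat.card_of_subsingleton 1
      rw [h1]
      exact Nat.one_le_pow 2 q hq.pos
    · have hr : PRankLE q 2 ↥M := by
        by_contra h
        exact hqα ⟨hq, h⟩
      have h2 := Rk2.prankLE_quotient (piCore (alpha M) ↥M)
        (card_piCore_alpha_coprime hq hqα) hr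
      exact Rk2.prankLE_of_injective (pCore q (↥M ⧸ piCore (alpha M) ↥M)).subtype
        (Subgroup.subtype_injective _) h2

end quotient

end Cfsg.Agent.Lib.Lead.BG10
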