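import Mathlib
import Cfsg.Agent.Lib.Lead.BG10c

set_option autoImplicit false

/-! Bender–Glauberman §10, part d: Theorem 10.2. -/

namespace Cfsg.Agent.Lib.Lead.BG10

open Cfsg Cfsg.Agent.Lib.Lead Cfsg.Agent.Lib.Helper7 Cfsg.Agent.Lib.Helper4
open Cfsg.Agent.Lib.Helper4.BG7 Cfsg.Agent.Lib.Helper4.BG76 Cfsg.Agent.Lib.Helper4.BG8
open Cfsg.Agent.Lib.Helper4.BG9 Cfsg.Agent.Lib.Lead.BG95 Cfsg.Agent.Lib.Helper4.ThreeStep
open scoped commutatorElement

universe u

variable {G : Type u} [Group G] [Finite G] {M : Subgroup G}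

theorem mem_alphaCore_iff {x : G} (hx : x ∈ M) :
    x ∈ alphaCore M ↔ (⟨x, hx⟩ : ↥M) ∈ piCore (alpha M) ↥M := by
  unfold alphaCore
  constructor
  · rintro ⟨y, hy, rfl⟩
    exact hy
  · intro h
    exact ⟨⟨x, hx⟩, h, rfl⟩

theorem alphaCore_le (M : Subgroup G) : alphaCore M ≤ M := Subgroup.map_subtype_le _

theorem card_alphaCore (M : Subgroup G) :
    Nat.card (alphaCore M) = Nat.card (piCore (alpha M) ↥M) :=
  Subgroup.card_map_of_injective M.subtype_injective

theorem relIndex_alphaCore (M : Subgroup G) :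
    (alphaCore M).relIndex M = (piCore (alpha M) ↥M).index := by
  unfold alphaCore Subgroup.relIndex Subgroup.subgroupOf
  rw [Subgroup.comap_map_eq_self_of_injective M.subtype_injective]

/-- for `p ∈ α(M)` the Sylow `p`-subgroups of `M` lie in `M_α` -/
theorem SigmaData.le_alphaCore (hG : IsMinSimpleOddOrder G) {P : Subgroup G} {p : ℕ}
    [hp : Fact p.Prime] (d : SigmaData M p P) (hpα : p ∈ alpha M) : P ≤ alphaCore M := by
  haveI : Group.IsSolvable ↥M := solvable_of_ne_top hG d.hM.1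
  have hyp := hyp420_quotient hG d.hM
  intro x hx
  have hxM : x ∈ M := d.hPM hx
  rw [mem_alphaCore_iff hxM]
  have hxc : x ∈ ⁅M, M⁆ := d.le_commutator hG hx
  rw [← Subgroup.map_subtype_commutator] at hxc
  obtain ⟨y, hy, hyx⟩ := hxc
  have hyx' : y = ⟨x, hxM⟩ := Subtype.ext hyx
  rw [← hyx']
  set K := piCore (alpha M) ↥M with hK
  have h1 : (QuotientGroup.mk' K) y ∈ commutator (↥M ⧸ K) := by
    rw [commutator_def]
    have h2 : (QuotientGroup.mk' K) y ∈
        Subgroup.map (QuotientGroup.mk' K) ⁅(⊤ : Subgroup ↥M), (⊤ : Subgroup ↥M)⁆ :=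
      Subgroup.mem_map_of_mem _ hy
    rw [Subgroup.map_commutator] at h2
    exact Subgroup.commutator_mono le_top le_top h2
  obtain ⟨k, hk⟩ := d.hPp ⟨x, hx⟩
  have hk' : x ^ p ^ k = 1 := by
    have := congrArg Subtype.val hk
    simpa using this
  have h3 : ((QuotientGroup.mk' K) y) ^ p ^ k = 1 := by
    rw [← map_pow]
    have : y ^ p ^ k = 1 := by
      rw [hyx']
      apply Subtype.ext
      rw [Subgroup.coe_pow]
      exact hk'
    rw [this, map_one]
  have h4 := hyp.qElement_mem_pCore hp.out h1 h3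
  rw [pCore_quotient_eq_bot hpα, Subgroup.mem_bot] at h4
  exact (QuotientGroup.eq_one_iff y).mp h4

/-- Bender–Glauberman, Theorem 10.2 -/
theorem theorem_10_2 (hG : IsMinSimpleOddOrder G) (hM : IsCoatom M) :
    IsPiHallOf (alpha M) (alphaCore M) M ∧ IsPiHall (alpha M) (alphaCore M) ∧
      alphaCore M ≤ sigmaCore M ∧ RankLE 2 (↥M ⧸ piCore (alpha M) ↥M) ∧
      Group.IsNilpotent ↥((commutator ↥M).map (QuotientGroup.mk' (piCore (alpha M) ↥M))) := by
  haveI : Group.IsSolvable ↥M := solvable_of_ne_top hG hM.1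
  have hyp := hyp420_quotient hG hM
  have hnum : ∀ p : ℕ, p.Prime → p ∣ Nat.card (alphaCore M) → p ∈ alpha M := by
    intro p hp hd
    rw [card_alphaCore] at hd
    exact isPiNum_card_piCore (alpha M) p hp hd
  have hrel : ∀ p : ℕ, p.Prime → p ∈ alpha M → ¬ p ∣ (alphaCore M).relIndex M := by
    intro p hp hpα hd
    haveI : Fact p.Prime := ⟨hp⟩
    obtain ⟨-, P, d, -⟩ := exists_sigmaData_of_alpha hG hM hpα
    exact d.sylIn.2.2 (hd.trans (Subgroup.relIndex_dvd_of_le_left M (d.le_alphaCore hG hpα)))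
  refine ⟨⟨alphaCore_le M, hnum, hrel⟩, ⟨hnum, ?_⟩, ?_, ?_, ?_⟩
  · intro p hp hpα hd
    haveI : Fact p.Prime := ⟨hp⟩
    obtain ⟨-, P, d, -⟩ := exists_sigmaData_of_alpha hG hM hpα
    rw [← Subgroup.relIndex_mul_index (alphaCore_le M)] at hd
    rcases (Nat.Prime.dvd_mul hp).mp hd with h | h
    · exact hrel p hp hpα h
    · obtain ⟨T, hT⟩ := d.hPsyl
      apply T.not_dvd_index
      rw [hT]
      exact h.trans (Subgroup.index_dvd_of_le d.hPM)
  · unfold alphaCore sigmaCore
    apply Subgroup.map_mono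
    apply le_piCore inferInstance
    intro p hp hd
    exact alpha_subset_sigma hG hM (isPiNum_card_piCore (alpha M) p hp hd)
  · intro q hq
    haveI : Fact q.Prime := ⟨hq⟩
    by_cases hqα : q ∈ alpha M
    · intro B hBc hBe
      have hBp : IsPGroup q ↥B := by
        rintro ⟨b, hb⟩
        refine ⟨1, ?_⟩
        apply Subtype.ext
        rw [pow_one, Subgroup.coe_pow, hBe b hb, Subgroup.coe_one]
      rcases hBp.card_eq_or_dvd with h | h
      · rw [h]; exact Nat.one_le_pow 2 q hq.pos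
      · exfalso
        apply hrel q hq hqα
        rw [relIndex_alphaCore, Subgroup.index_eq_card]
        exact h.trans (Subgroup.card_subgroup_dvd_card B)
    · have hr : PRankLE q 2 ↥M := by
        by_contra h
        exact hqα ⟨hq, h⟩
      exact Rk2.prankLE_quotient (piCore (alpha M) ↥M) (card_piCore_alpha_coprime hq hqα) hr
  · have h1 : (commutator ↥M).map (QuotientGroup.mk' (piCore (alpha M) ↥M)) =
        commutator (↥M ⧸ piCore (alpha M) ↥M) := by
      rw [commutator_def, commutator_def, Subgroup.map_commutator]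
      have : (⊤ : Subgroup ↥M).map (QuotientGroup.mk' (piCore (alpha M) ↥M)) = ⊤ := by
        rw [← MonoidHom.range_eq_map]
        exact MonoidHom.range_eq_top.mpr (QuotientGroup.mk'_surjective _)
      rw [this]
    rw [h1]
    exact hyp.commutator_isNilpotent

end Cfsg.Agent.Lib.Lead.BG10
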