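import Mathlib
import Cfsg.Agent.Lib.Lead.BG95i

set_option autoImplicit false

/-! Bender–Glauberman §10, part e: narrow `p`-groups and automorphisms fixing a maximal
elementary abelian subgroup of order `p²`. -/

namespace Cfsg.Agent.Lib.Lead.BG10

open Cfsg Cfsg.Agent.Lib.Lead
open scoped commutatorElement

universe u

/-- `Ω₁(Z₂(R))` -/
def omegaZ2 (q : ℕ) (R : Type u) [Group R] : Subgroup R :=
  Subgroup.closure {x : R | x ∈ Subgroup.upperCentralSeries R 2 ∧ x ^ q = 1}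

/-- `Ω₁(Z(R))` -/
def omegaZ (q : ℕ) (R : Type u) [Group R] : Subgroup R :=
  Subgroup.closure {x : R | x ∈ Subgroup.center R ∧ x ^ q = 1}

section

variable {R : Type u} [Group R] {q : ℕ}

theorem omegaZ_le_center : omegaZ q R ≤ Subgroup.center R := by
  unfold omegaZ
  rw [Subgroup.closure_le]
  intro x hx
  exact hx.1

theorem omegaZ_pow {z : R} (hz : z ∈ omegaZ q R) : z ^ q = 1 := by
  let S : Subgroup R :=
    { carrier := {x | x ∈ Subgroup.center R ∧ x ^ q = 1}
      one_mem' := ⟨Subgroup.one_mem _, one_pow q⟩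
      mul_mem' := by
        rintro a b ⟨ha, ha'⟩ ⟨hb, hb'⟩
        refine ⟨Subgroup.mul_mem _ ha hb, ?_⟩
        have hc : Commute a b := Subgroup.mem_center_iff.mp hb a
        rw [hc.mul_pow, ha', hb', one_mul]
      inv_mem' := by
        rintro a ⟨ha, ha'⟩
        exact ⟨Subgroup.inv_mem _ ha, by rw [inv_pow, ha', inv_one]⟩ }
  have h1 : omegaZ q R ≤ S := by
    unfold omegaZ
    rw [Subgroup.closure_le]
    intro x hx
    exact hx
  exact (h1 hz).2

theorem omegaZ_le_omegaZ2 : omegaZ q R ≤ omegaZ2 q R := by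
  unfold omegaZ omegaZ2
  apply Subgroup.closure_mono
  rintro x ⟨hx, hx'⟩
  refine ⟨?_, hx'⟩
  have := Subgroup.upperCentralSeries_mono R (show 1 ≤ 2 by norm_num)
  rw [Subgroup.upperCentralSeries_one] at this
  exact this hx

theorem omegaZ2_le : omegaZ2 q R ≤ Subgroup.upperCentralSeries R 2 := by
  unfold omegaZ2
  rw [Subgroup.closure_le]
  intro x hx
  exact hx.1

theorem mem_omegaZ_of {z : R} (hz : z ∈ Subgroup.center R) (hzq : z ^ q = 1) : z ∈ omegaZ q R :=
  Subgroup.subset_closure ⟨hz, hzq⟩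

/-- commutators with elements of `Z₂` are central -/
theorem commutator_mem_center {w : R} (hw : w ∈ Subgroup.upperCentralSeries R 2) (a : R) :
    w * a * w⁻¹ * a⁻¹ ∈ Subgroup.center R := by
  have h1 := (Subgroup.mem_upperCentralSeries_succ_iff (n := 1)).mp hw a
  rw [Subgroup.upperCentralSeries_one, commutatorElement_def] at h1
  exact h1

theorem mem_ucs_two_iff {x : R} : x ∈ Subgroup.upperCentralSeries R 2 ↔
    ∀ y z : R, z * (x * y * x⁻¹ * y⁻¹) = (x * y * x⁻¹ * y⁻¹) * z := by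
  constructor
  · intro hx y z
    exact Subgroup.mem_center_iff.mp (commutator_mem_center hx y) z
  · intro h
    rw [Subgroup.mem_upperCentralSeries_succ_iff (n := 1)]
    intro y
    rw [Subgroup.upperCentralSeries_one, commutatorElement_def, Subgroup.mem_center_iff]
    intro z
    exact h y z

/-- `Ω₁(Z₂(R))` is invariant under automorphisms -/
theorem map_mem_omegaZ2 (σ : MulAut R) {w : R} (hw : w ∈ omegaZ2 q R) : σ w ∈ omegaZ2 q R := by
  unfold omegaZ2 at hw ⊢
  induction hw using Subgroup.closure_induction with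
  | mem x hx =>
    apply Subgroup.subset_closure
    refine ⟨?_, by rw [← map_pow, hx.2, map_one]⟩
    rw [mem_ucs_two_iff]
    intro y z
    have h1 := (mem_ucs_two_iff.mp hx.1) (σ.symm y) (σ.symm z)
    have h2 := congrArg σ h1
    simpa using h2
  | one => rw [map_one]; exact Subgroup.one_mem _
  | mul a b _ _ iha ihb => rw [map_mul]; exact Subgroup.mul_mem _ iha ihb
  | inv a _ iha => rw [map_inv]; exact Subgroup.inv_mem _ iha

end

section fix

variable {R : Type u} [Group R] [Finite R] {q : ℕ} [hq : Fact q.Prime]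

/-- a divisor of `q²` that is larger than `q` is `q²` -/
theorem eq_sq_of_dvd_of_lt {m : ℕ} (hd : m ∣ q ^ 2) (hlt : q < m) : m = q ^ 2 := by
  obtain ⟨i, hi, rfl⟩ := (Nat.dvd_prime_pow hq.out).mp hd
  have : i = 2 := by
    rcases Nat.lt_or_ge i 2 with h | h
    · exfalso
      have h1 : q ^ i ≤ q ^ 1 := Nat.pow_le_pow_right hq.out.pos (by omega)
      rw [pow_one] at h1
      omega
    · omega
  rw [this]

/-- a divisor of `q²` that is smaller than `q²` is at most `q` -/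
theorem le_of_dvd_sq_of_lt {m : ℕ} (hd : m ∣ q ^ 2) (hlt : m < q ^ 2) : m ≤ q := by
  obtain ⟨i, hi, rfl⟩ := (Nat.dvd_prime_pow hq.out).mp hd
  have : i ≤ 1 := by
    by_contra h
    have : i = 2 := by omega
    rw [this] at hlt
    omega
  calc q ^ i ≤ q ^ 1 := Nat.pow_le_pow_right hq.out.pos this
    _ = q := pow_one q

/-- an automorphism of order prime to `q` that fixes a maximal elementary abelian subgroup of order
`q²` of a narrow group of rank at least three fixes `Ω₁(Z₂(R))` elementwise -/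
theorem narrow_fix {E : Subgroup R} (hE : IsElementaryAbelian q E)
    (hEmax : ∀ B : Subgroup R, IsElementaryAbelian q B → E ≤ B → B = E)
    (hET : ¬ E ≤ Subgroup.centralizer (omegaZ2 q R : Set R))
    (hZ : Nat.card (omegaZ q R) = q)
    (hWe : IsElementaryAbelian q (omegaZ2 q R)) (hWcard : Nat.card (omegaZ2 q R) = q ^ 2)
    (σ : MulAut R) (hσE : ∀ e ∈ E, σ e = e) {n : ℕ} (hn : n.Coprime q) (hσn : σ ^ n = 1) :
    ∀ w ∈ omegaZ2 q R, σ w = w := by
  set W := omegaZ2 q R with hW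
  set Z := omegaZ q R with hZdef
  have hZcen : Z ≤ Subgroup.center R := omegaZ_le_center
  have hZW : Z ≤ W := omegaZ_le_omegaZ2
  have hcomZ : ∀ z ∈ Z, ∀ g : R, g * z = z * g := fun z hz g =>
    Subgroup.mem_center_iff.mp (hZcen hz) g
  -- `Z ≤ E`
  have hZE : Z ≤ E := by
    have h1 : IsElementaryAbelian q (Z ⊔ E) := by
      have hmem : ∀ x ∈ Z ⊔ E, ∃ z ∈ Z, ∃ e ∈ E, x = z * e :=
        fun x hx => mem_sup_of_commute Z E (fun y hy z _ => (hcomZ y hy z).symm) hx
      refine ⟨⟨⟨?_⟩⟩, ?_⟩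
      · rintro ⟨x, hx⟩ ⟨y, hy⟩
        apply Subtype.ext
        obtain ⟨z₁, hz₁, e₁, he₁, rfl⟩ := hmem x hx
        obtain ⟨z₂, hz₂, e₂, he₂, rfl⟩ := hmem y hy
        have hee : e₁ * e₂ = e₂ * e₁ :=
          congrArg Subtype.val (hE.1.is_comm.comm ⟨e₁, he₁⟩ ⟨e₂, he₂⟩)
        show z₁ * e₁ * (z₂ * e₂) = z₂ * e₂ * (z₁ * e₁)
        calc z₁ * e₁ * (z₂ * e₂) = z₁ * (e₁ * z₂) * e₂ := by group
          _ = z₁ * (z₂ * e₁) * e₂ := by rw [hcomZ z₂ hz₂ e₁]
          _ = (z₁ * z₂) * (e₁ * e₂) := by group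
          _ = (z₂ * z₁) * (e₂ * e₁) := by rw [hcomZ z₂ hz₂ z₁, hee]
          _ = z₂ * (z₁ * e₂) * e₁ := by group
          _ = z₂ * (e₂ * z₁) * e₁ := by rw [← hcomZ z₁ hz₁ e₂]
          _ = z₂ * e₂ * (z₁ * e₁) := by group
      · intro x hx
        obtain ⟨z, hz, e, he, rfl⟩ := hmem x hx
        have hc : Commute z e := (hcomZ z hz e).symm
        rw [hc.mul_pow, omegaZ_pow hz, hE.2 e he, one_mul]
    have h2 := hEmax (Z ⊔ E) h1 le_sup_right
    exact le_sup_left.trans h2.le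
  -- an element of `E` outside the centralizer of `W`
  obtain ⟨a, haE, haT⟩ := Set.not_subset.mp hET
  have hσa : σ a = a := hσE a haE
  -- the commutator map
  set c : R → R := fun w => w * a * w⁻¹ * a⁻¹ with hc
  have hc_cen : ∀ w ∈ W, c w ∈ Subgroup.center R := fun w hw =>
    commutator_mem_center (omegaZ2_le hw) a
  have hc_one : c 1 = 1 := by simp [hc]
  have hc_mul : ∀ w₁ ∈ W, ∀ w₂ ∈ W, c (w₁ * w₂) = c w₁ * c w₂ := by
    intro w₁ hw₁ w₂ hw₂
    have h2 := Subgroup.mem_center_iff.mp (hc_cen w₂ hw₂)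
    show w₁ * w₂ * a * (w₁ * w₂)⁻¹ * a⁻¹ = (w₁ * a * w₁⁻¹ * a⁻¹) * (w₂ * a * w₂⁻¹ * a⁻¹)
    calc w₁ * w₂ * a * (w₁ * w₂)⁻¹ * a⁻¹
        = w₁ * (w₂ * a * w₂⁻¹ * a⁻¹) * (a * w₁⁻¹ * a⁻¹) := by group
      _ = (w₂ * a * w₂⁻¹ * a⁻¹) * w₁ * (a * w₁⁻¹ * a⁻¹) := by rw [h2 w₁]
      _ = (w₂ * a * w₂⁻¹ * a⁻¹) * (w₁ * a * w₁⁻¹ * a⁻¹) := by group
      _ = (w₁ * a * w₁⁻¹ * a⁻¹) * (w₂ * a * w₂⁻¹ * a⁻¹) := (h2 _).symm
  have hc_pow : ∀ w ∈ W, ∀ k : ℕ, c (w ^ k) = (c w) ^ k := by
    intro w hw k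
    induction k with
    | zero => rw [pow_zero, pow_zero]; exact hc_one
    | succ k ih => rw [pow_succ, hc_mul _ (Subgroup.pow_mem _ hw k) _ hw, ih, pow_succ]
  have hcZ : ∀ w ∈ W, c w ∈ Z := by
    intro w hw
    apply mem_omegaZ_of (hc_cen w hw)
    rw [← hc_pow w hw, hWe.2 w hw, hc_one]
  have hσW : ∀ w ∈ W, σ w ∈ W := fun w hw => map_mem_omegaZ2 σ hw
  have hσc : ∀ w : R, σ (c w) = c (σ w) := by
    intro w
    show σ (w * a * w⁻¹ * a⁻¹) = σ w * a * (σ w)⁻¹ * a⁻¹
    rw [map_mul, map_mul, map_mul, map_inv, map_inv, hσa]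
  -- elements of `W` commuting with `a` lie in `Z`
  have hker : ∀ u ∈ W, u * a = a * u → u ∈ Z := by
    intro u hu hua
    by_contra huZ
    apply haT
    have hlt : Z < Z ⊔ Subgroup.zpowers u := by
      apply lt_of_le_of_ne le_sup_left
      intro h0
      apply huZ
      rw [h0]
      exact Subgroup.mem_sup_right (Subgroup.mem_zpowers u)
    have hle : Z ⊔ Subgroup.zpowers u ≤ W := sup_le hZW (Subgroup.zpowers_le.mpr hu)
    have hcard : Nat.card ↥(Z ⊔ Subgroup.zpowers u : Subgroup R) = q ^ 2 := by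
      apply eq_sq_of_dvd_of_lt
      · rw [← hWcard]; exact Subgroup.card_dvd_of_le hle
      · rw [← hZ]; exact BG95.card_lt_card_of_lt hlt
    have heq : Z ⊔ Subgroup.zpowers u = W :=
      Subgroup.eq_of_le_of_card_ge hle (by rw [hcard, hWcard])
    show a ∈ Subgroup.centralizer (W : Set R)
    rw [← heq, Subgroup.mem_centralizer_iff]
    intro y hy
    have h1 : Z ⊔ Subgroup.zpowers u ≤ Subgroup.centralizer ({a} : Set R) := by
      apply sup_le
      · intro z hz
        rw [Subgroup.mem_centralizer_singleton_iff]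
        exact (hcomZ z hz a).symm
      · rw [Subgroup.zpowers_le, Subgroup.mem_centralizer_singleton_iff]
        exact hua
    exact Subgroup.mem_centralizer_singleton_iff.mp (h1 hy)
  have hkey : ∀ w ∈ W, σ w * w⁻¹ ∈ Z := by
    intro w hw
    have hu : σ w * w⁻¹ ∈ W := Subgroup.mul_mem _ (hσW w hw) (Subgroup.inv_mem _ hw)
    apply hker _ hu
    have h1 : c (σ w) = c w := by
      rw [← hσc]
      exact hσE _ (hZE (hcZ w hw))
    have h2 : c (σ w * w⁻¹) = 1 := by
      rw [hc_mul _ (hσW w hw) _ (Subgroup.inv_mem _ hw), h1,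
        ← hc_mul _ hw _ (Subgroup.inv_mem _ hw), mul_inv_cancel, hc_one]
    have h3 : (σ w * w⁻¹) * a * (σ w * w⁻¹)⁻¹ * a⁻¹ = 1 := h2
    calc σ w * w⁻¹ * a = ((σ w * w⁻¹) * a * (σ w * w⁻¹)⁻¹ * a⁻¹) * a * (σ w * w⁻¹) := by group
      _ = a * (σ w * w⁻¹) := by rw [h3, one_mul]
  intro w hw
  set u := σ w * w⁻¹ with hu
  have huZ : u ∈ Z := hkey w hw
  have hσu : σ u = u := hσE u (hZE huZ)
  have hσw : σ w = u * w := by rw [hu]; group
  have hpow : ∀ k : ℕ, (σ ^ k) w = u ^ k * w := by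
    intro k
    induction k with
    | zero => simp
    | succ k ih =>
      rw [pow_succ', MulAut.mul_apply, ih, map_mul, map_pow, hσu, hσw, pow_succ]
      group
  have h1 := hpow n
  rw [hσn, MulAut.one_apply] at h1
  have hun : u ^ n = 1 := by
    have : u ^ n * w = 1 * w := by rw [one_mul]; exact h1.symm
    exact mul_right_cancel this
  have huq : u ^ q = 1 := omegaZ_pow huZ
  have hu1 : u = 1 := by
    have := pow_gcd_eq_one.mpr ⟨hun, huq⟩
    rw [Nat.Coprime.gcd_eq_one hn, pow_one] at this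
    exact this
  rw [hσw, hu1, one_mul]

/-- in a group of rank at least three, the centralizer of an elementary abelian subgroup `W` of
order `q²` has rank at least three if it is normal of index `q` -/
theorem centralizer_rank_three {W : Subgroup R} (hr : ¬ PRankLE q 2 R)
    (hWe : IsElementaryAbelian q W) (hWcard : Nat.card W = q ^ 2)
    [hTn : (Subgroup.centralizer (W : Set R)).Normal]
    (hTidx : (Subgroup.centralizer (W : Set R)).index = q) :
    ¬ PRankLE q 2 ↥(Subgroup.centralizer (W : Set R)) := by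
  set T := Subgroup.centralizer (W : Set R) with hT
  unfold PRankLE at hr
  push Not at hr
  obtain ⟨E₃, hE₃c, hE₃e, hE₃card⟩ := hr
  have hWT : W ≤ T := by
    intro w hw
    rw [hT, Subgroup.mem_centralizer_iff]
    intro y hy
    exact congrArg Subtype.val (hWe.1.is_comm.comm ⟨y, hy⟩ ⟨w, hw⟩)
  -- it suffices to find a large elementary abelian subgroup of `T`
  have key : ∀ B : Subgroup R, B ≤ T → IsElementaryAbelian q B → q ^ 2 < Nat.card B →
      ¬ PRankLE q 2 ↥T := by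
    intro B hBT hBe hBcard h
    have h1 := h (B.subgroupOf T) ?_ ?_
    · rw [Nat.card_congr (Subgroup.subgroupOfEquivOfLe hBT).toEquiv] at h1
      omega
    · refine ⟨⟨?_⟩⟩
      rintro ⟨x, hx⟩ ⟨y, hy⟩
      apply Subtype.ext
      apply Subtype.ext
      have h0 : (x : R) * (y : R) = (y : R) * (x : R) :=
        congrArg Subtype.val (hBe.1.is_comm.comm ⟨x.1, hx⟩ ⟨y.1, hy⟩)
      exact h0
    · rintro ⟨x, hxT⟩ hx
      apply Subtype.ext
      rw [Subgroup.coe_pow]
      exact hBe.2 x hx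
  by_cases hWE : W ≤ E₃
  · apply key E₃ _ ⟨hE₃c, hE₃e⟩ hE₃card
    intro e he
    rw [hT, Subgroup.mem_centralizer_iff]
    intro w hw
    exact congrArg Subtype.val (hE₃c.is_comm.comm ⟨w, hWE hw⟩ ⟨e, he⟩)
  · set D := E₃ ⊓ T with hD
    have hDT : D ≤ T := inf_le_right
    have hDE : D ≤ E₃ := inf_le_left
    -- `|E₃| ≤ |D| q`
    have h1 : Nat.card D * D.relIndex E₃ = Nat.card E₃ :=
      Cfsg.Agent.Lib.Helper4.BG7.card_mul_relIndex hDE
    have h2 : D.relIndex E₃ ∣ q := by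
      rw [hD, Subgroup.inf_relIndex_left, ← hTidx]
      exact Subgroup.relIndex_dvd_index_of_normal T E₃
    have h3 : D.relIndex E₃ ≤ q := Nat.le_of_dvd hq.out.pos h2
    have h4 : q ^ 2 < Nat.card D * q := by
      calc q ^ 2 < Nat.card E₃ := hE₃card
        _ = Nat.card D * D.relIndex E₃ := h1.symm
        _ ≤ Nat.card D * q := Nat.mul_le_mul_left _ h3
    -- `D ∩ W` is small
    have h5 : Nat.card ↥(D ⊓ W : Subgroup R) ≤ q := by
      apply le_of_dvd_sq_of_lt
      · rw [← hWcard]; exact Subgroup.card_dvd_of_le inf_le_right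
      · rw [← hWcard]
        apply BG95.card_lt_card_of_lt
        apply lt_of_le_of_ne inf_le_right
        intro h0
        apply hWE
        rw [← h0]
        exact inf_le_left.trans hDE
    have hDW : D ≤ Subgroup.normalizer (W : Set R) := by
      refine le_trans ?_ (Subgroup.centralizer_le_normalizer _)
      exact hDT
    have h6 := card_sup_mul_card_inf D W hDW
    rw [hWcard] at h6
    have h7 : q ^ 2 < Nat.card ↥(D ⊔ W : Subgroup R) := by
      by_contra hcon
      push Not at hcon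
      have : Nat.card ↥(D ⊔ W : Subgroup R) * Nat.card ↥(D ⊓ W : Subgroup R) ≤ q ^ 2 * q :=
        Nat.mul_le_mul hcon h5
      rw [h6] at this
      have h8 : Nat.card D * q ^ 2 = (Nat.card D * q) * q := by ring
      rw [h8] at this
      have := Nat.le_of_mul_le_mul_right this hq.out.pos
      omega
    have hcomm : ∀ d ∈ D, ∀ w ∈ W, d * w = w * d := by
      intro d hd w hw
      have := (Subgroup.mem_centralizer_iff.mp (hDT hd)) w hw
      exact this.symm
    apply key (D ⊔ W) (sup_le hDT hWT) _ h7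
    have hmem : ∀ x ∈ D ⊔ W, ∃ d ∈ D, ∃ w ∈ W, x = d * w :=
      fun x hx => mem_sup_of_commute D W hcomm hx
    refine ⟨⟨⟨?_⟩⟩, ?_⟩
    · rintro ⟨x, hx⟩ ⟨y, hy⟩
      apply Subtype.ext
      obtain ⟨d₁, hd₁, w₁, hw₁, rfl⟩ := hmem x hx
      obtain ⟨d₂, hd₂, w₂, hw₂, rfl⟩ := hmem y hy
      have hdd : d₁ * d₂ = d₂ * d₁ :=
        congrArg Subtype.val (hE₃c.is_comm.comm ⟨d₁, hDE hd₁⟩ ⟨d₂, hDE hd₂⟩)
      have hww : w₁ * w₂ = w₂ * w₁ :=
        congrArg Subtype.val (hWe.1.is_comm.comm ⟨w₁, hw₁⟩ ⟨w₂, hw₂⟩)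
      show d₁ * w₁ * (d₂ * w₂) = d₂ * w₂ * (d₁ * w₁)
      calc d₁ * w₁ * (d₂ * w₂) = d₁ * (w₁ * d₂) * w₂ := by group
        _ = d₁ * (d₂ * w₁) * w₂ := by rw [hcomm d₂ hd₂ w₁ hw₁]
        _ = (d₁ * d₂) * (w₁ * w₂) := by group
        _ = (d₂ * d₁) * (w₂ * w₁) := by rw [hdd, hww]
        _ = d₂ * (d₁ * w₂) * w₁ := by group
        _ = d₂ * (w₂ * d₁) * w₁ := by rw [hcomm d₁ hd₁ w₂ hw₂]
        _ = d₂ * w₂ * (d₁ * w₁) := by group
    · intro x hx
      obtain ⟨d, hd, w, hw, rfl⟩ := hmem x hx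
      have hc : Commute d w := hcomm d hd w hw
      rw [hc.mul_pow, hE₃e d (hDE hd), hWe.2 w hw, one_mul]

end fix

end Cfsg.Agent.Lib.Lead.BG10
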