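import Mathlib
import Cfsg.Agent.Lib.Lead.BG10d
import Cfsg.Agent.Lib.Lead.BG10e
import Cfsg.Agent.S1453
import Cfsg.Agent.S0025

set_option autoImplicit false

/-! Bender–Glauberman §10, part f: Lemma 10.3. -/

namespace Cfsg.Agent.Lib.Lead.BG10

open Cfsg Cfsg.Agent.Lib.Lead Cfsg.Agent.Lib.Helper7 Cfsg.Agent.Lib.Helper4
open Cfsg.Agent.Lib.Helper4.BG7 Cfsg.Agent.Lib.Helper4.BG76 Cfsg.Agent.Lib.Helper4.BG8
open Cfsg.Agent.Lib.Helper4.BG9 Cfsg.Agent.Lib.Lead.BG95 Cfsg.Agent.Lib.Helper4.ThreeStep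
open scoped commutatorElement

universe u

variable {G : Type u} [Group G] [Finite G]

theorem elementary_map_subtype {q : ℕ} {Q : Subgroup G} {E : Subgroup ↥Q}
    (hE : IsElementaryAbelian q E) : IsElementaryAbelian q (E.map Q.subtype) := by
  refine ⟨⟨⟨?_⟩⟩, ?_⟩
  · rintro ⟨_, ⟨a, ha, rfl⟩⟩ ⟨_, ⟨b, hb, rfl⟩⟩
    apply Subtype.ext
    have := hE.1.is_comm.comm ⟨a, ha⟩ ⟨b, hb⟩
    have h2 : a * b = b * a := congrArg Subtype.val this
    show (a : G) * (b : G) = (b : G) * (a : G)
    rw [← Subgroup.coe_mul, h2, Subgroup.coe_mul]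
  · rintro _ ⟨a, ha, rfl⟩
    show (a : G) ^ q = 1
    rw [← Subgroup.coe_pow, hE.2 a ha, Subgroup.coe_one]

theorem elementary_subgroupOf {q : ℕ} {Q B : Subgroup G} (hB : IsElementaryAbelian q B) :
    IsElementaryAbelian q (B.subgroupOf Q) := by
  refine ⟨⟨⟨?_⟩⟩, ?_⟩
  · rintro ⟨a, ha⟩ ⟨b, hb⟩
    apply Subtype.ext
    apply Subtype.ext
    have := hB.1.is_comm.comm ⟨a.1, ha⟩ ⟨b.1, hb⟩
    have h0 : (a : G) * (b : G) = (b : G) * (a : G) := congrArg Subtype.val this
    exact h0
  · intro a ha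
    apply Subtype.ext
    rw [Subgroup.coe_pow]
    exact hB.2 a.1 ha

theorem map_subgroupOf_eq {Q B : Subgroup G} (hBQ : B ≤ Q) :
    (B.subgroupOf Q).map Q.subtype = B := by
  rw [Subgroup.subgroupOf_map_subtype]
  exact inf_eq_left.mpr hBQ

/-- an elementary abelian `q`-group of order more than `q` and at most `q²` has order `q²` -/
theorem card_eq_sq {q : ℕ} [hq : Fact q.Prime] {B : Subgroup G} (hB : IsElementaryAbelian q B)
    (h1 : q ^ 1 < Nat.card B) (h2 : ¬ q ^ 2 < Nat.card B) : Nat.card B = q ^ 2 := by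
  obtain ⟨j, hj⟩ := IsPGroup.iff_card.mp (isPGroup_of_elementary hB)
  rw [hj] at h1 h2 ⊢
  have h3 : 1 < j := (Nat.pow_lt_pow_iff_right hq.out.one_lt).mp h1
  have h4 : j ≤ 2 := by
    by_contra h
    apply h2
    exact Nat.pow_lt_pow_right hq.out.one_lt (by omega)
  have : j = 2 := by omega
  rw [this]

/-- Bender–Glauberman, Lemma 10.3 -/
theorem lemma_10_3 (hG : IsMinSimpleOddOrder G) {M : Subgroup G} (hM : IsCoatom M)
    (X : Subgroup G) (hXM : X ≤ M)
    (hXα : ∀ p : ℕ, p.Prime → p ∣ Nat.card X → p ∉ alpha M)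
    (hr : ¬ RankLE 1 ↥(alphaCore M ⊓ Subgroup.centralizer (X : Set G))) :
    InUniqueMaximal (M ⊓ Subgroup.centralizer (X : Set G)) := by
  obtain ⟨q, hq, B, hBle, hBe, hBcard⟩ := exists_elementary_of_not_rankLE hr
  haveI : Fact q.Prime := ⟨hq⟩
  have hBα : B ≤ alphaCore M := hBle.trans inf_le_left
  have hBX : B ≤ Subgroup.centralizer (X : Set G) := hBle.trans inf_le_right
  set K := M ⊓ Subgroup.centralizer (X : Set G) with hK
  have hKne : K ≠ ⊤ := fun h0 => hM.1 (top_le_iff.mp (h0 ▸ inf_le_left))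
  have hBK : B ≤ K := le_inf (hBα.trans (alphaCore_le M)) hBX
  have hBp : IsPGroup q B := isPGroup_of_elementary hBe
  have hBne : B ≠ ⊤ := isPGroup_ne_top hG hBp
  have hB1 : ¬ RankLE 1 ↥B :=
    not_rankLE_of_not_pRankLE hq (not_pRankLE_of_elementary le_rfl hBe hBcard)
  -- it suffices to find a uniqueness subgroup inside `K`
  suffices h : ∃ B' : Subgroup G, B' ≤ K ∧ InUniqueMaximal B' by
    obtain ⟨B', hB'K, hB'U⟩ := h
    exact inUniqueMaximal_mono hB'U hB'K hKne
  by_cases hB3 : q ^ 2 < Nat.card B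
  · exact ⟨B, hBK, uniq hG hBne hB1
      (Or.inl (not_rankLE_of_not_pRankLE hq (not_pRankLE_of_elementary le_rfl hBe hB3)))⟩
  have hBsq : Nat.card B = q ^ 2 := card_eq_sq hBe hBcard hB3
  obtain ⟨⟨-, hnum, hrel⟩, -, -, -, -⟩ := theorem_10_2 hG hM
  have hqB : q ∣ Nat.card B := by rw [hBsq]; exact dvd_pow_self q (by norm_num)
  have hqα : q ∈ alpha M := hnum q hq (hqB.trans (Subgroup.card_dvd_of_le hBα))
  have hqG : q ∣ Nat.card G := hqB.trans (Subgroup.card_subgroup_dvd_card B)
  have hq2 : q ≠ 2 := ne_two_of_odd hG hqG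
  -- an `X`-invariant Sylow subgroup of `M_α` containing `B`
  have hcop : (Nat.card X).Coprime (Nat.card (alphaCore M)) := by
    apply Nat.coprime_of_dvd
    intro k hk hkX hkα
    exact hXα k hk hkX (hnum k hk hkα)
  have hXN : X ≤ Subgroup.normalizer (alphaCore M : Set G) :=
    hXM.trans (le_normalizer_piCoreOf (alpha M) M)
  haveI : Group.IsSolvable ↥(alphaCore M) :=
    solvable_of_ne_top hG (fun h0 => hM.1 (top_le_iff.mp (h0 ▸ alphaCore_le M)))
  have hXB : X ≤ Subgroup.normalizer (B : Set G) := by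
    refine le_trans ?_ (Subgroup.centralizer_le_normalizer _)
    rw [Subgroup.le_centralizer_iff]
    exact hBX
  obtain ⟨Q₀, hBQ, hXQ⟩ := Cfsg.Agent.S0025.result X (alphaCore M) hXN hcop (Or.inr inferInstance)
    q B hBα hBp hXB
  set Q := (Q₀ : Subgroup ↥(alphaCore M)).map (alphaCore M).subtype with hQ
  have hsylα : SylIn q (alphaCore M) Q := sylIn_map_sylow Q₀
  have hQM : Q ≤ M := hsylα.1.trans (alphaCore_le M)
  have hsylM : SylIn q M Q := by
    refine ⟨hQM, hsylα.2.1, ?_⟩
    rw [← Subgroup.relIndex_mul_relIndex Q (alphaCore M) M hsylα.1 (alphaCore_le M)]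
    intro hd
    rcases (Nat.Prime.dvd_mul hq).mp hd with h | h
    · exact hsylα.2.2 h
    · exact hrel q hq hqα h
  have hQp : IsPGroup q Q := hsylα.2.1
  have hQr : ¬ PRankLE q 2 ↥Q := fun h => hqα.2 (prankLE_of_sylIn hsylM h)
  -- the two cases
  set E := B.subgroupOf Q with hE
  have hEe : IsElementaryAbelian q E := elementary_subgroupOf hBe
  have hEcard : Nat.card E = q ^ 2 := by
    rw [hE, Nat.card_congr (Subgroup.subgroupOfEquivOfLe hBQ).toEquiv]; exact hBsq
  by_cases hEmax : ∀ B' : Subgroup ↥Q, IsElementaryAbelian q B' → E ≤ B' → B' = E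
  · -- the narrow case
    obtain ⟨hET, hZ, ⟨hWe, hWcard⟩, hTchar, hTidx⟩ :=
      Cfsg.Agent.S1453.result q hq2 hQp hQr E hEe hEcard hEmax
    have hWfix : ∀ x ∈ X, ∀ w ∈ omegaZ2 q ↥Q, x * (w : G) * x⁻¹ = (w : G) := by
      intro x hx w hw
      set σ := Cfsg.Agent.Lib.Lead.FF.conjAct Q X hXQ ⟨x, hx⟩ with hσ
      have hσE : ∀ e ∈ E, σ e = e := by
        intro e he
        apply Subtype.ext
        rw [hσ, Cfsg.Agent.Lib.Lead.FF.conjAct_apply]
        have h1 : (e : G) ∈ B := he
        have h2 := (Subgroup.mem_centralizer_iff.mp (hBX h1)) x hx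
        show x * (e : G) * x⁻¹ = (e : G)
        rw [h2]; group
      have hn : (Nat.card X).Coprime q := by
        rw [Nat.coprime_comm, Nat.Prime.coprime_iff_not_dvd hq]
        intro hd
        exact hXα q hq hd hqα
      have hσn : σ ^ Nat.card X = 1 := by
        rw [hσ, ← map_pow]
        have : (⟨x, hx⟩ : ↥X) ^ Nat.card X = 1 := pow_card_eq_one'
        rw [this, map_one]
      have h3 := narrow_fix hEe hEmax hET hZ hWe hWcard σ hσE hn hσn w hw
      have h4 := congrArg Subtype.val h3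
      rw [hσ, Cfsg.Agent.Lib.Lead.FF.conjAct_apply] at h4
      exact h4
    set W := (omegaZ2 q ↥Q).map Q.subtype with hW
    have hWQ : W ≤ Q := Subgroup.map_subtype_le _
    have hWX : W ≤ Subgroup.centralizer (X : Set G) := by
      rintro _ ⟨w, hw, rfl⟩
      rw [Subgroup.mem_centralizer_iff]
      intro x hx
      have := hWfix x hx w hw
      show x * (w : G) = (w : G) * x
      calc x * (w : G) = (x * (w : G) * x⁻¹) * x := by group
        _ = (w : G) * x := by rw [this]
    have hWK : W ≤ K := le_inf (hWQ.trans hQM) hWX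
    have hWel : IsElementaryAbelian q W := elementary_map_subtype hWe
    have hWc : Nat.card W = q ^ 2 := by
      rw [hW, Subgroup.card_map_of_injective Q.subtype_injective]; exact hWcard
    have hWp : IsPGroup q W := isPGroup_of_elementary hWel
    have hW1 : ¬ RankLE 1 ↥W := by
      apply not_rankLE_of_not_pRankLE hq
      apply not_pRankLE_of_elementary le_rfl hWel
      rw [hWc]
      exact Nat.pow_lt_pow_right hq.one_lt (by norm_num)
    have hTn : (Subgroup.centralizer ((omegaZ2 q ↥Q : Subgroup ↥Q) : Set ↥Q)).Normal :=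
      @Subgroup.normal_of_characteristic _ _ _ hTchar
    have hTr := centralizer_rank_three (R := ↥Q) (W := omegaZ2 q ↥Q) hQr hWe hWcard hTidx
    have hCr : ¬ PRankLE q 2 ↥(Subgroup.centralizer (W : Set G)) := by
      intro h
      apply hTr
      let f : ↥(Subgroup.centralizer ((omegaZ2 q ↥Q : Subgroup ↥Q) : Set ↥Q)) →*
          ↥(Subgroup.centralizer (W : Set G)) :=
        { toFun := fun t => ⟨(t.1 : G), by
            rw [Subgroup.mem_centralizer_iff]
            rintro _ ⟨w, hw, rfl⟩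
            have := (Subgroup.mem_centralizer_iff.mp t.2) w hw
            exact congrArg Subtype.val this⟩
          map_one' := rfl
          map_mul' := fun _ _ => rfl }
      have hf : Function.Injective f := by
        intro a b hab
        apply Subtype.ext
        apply Subtype.ext
        exact congrArg (fun z : ↥(Subgroup.centralizer (W : Set G)) => (z : G)) hab
      exact Rk2.prankLE_of_injective f hf h
    exact ⟨W, hWK, uniq hG (isPGroup_ne_top hG hWp) hW1
      (Or.inr (not_rankLE_of_not_pRankLE hq hCr))⟩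
  · -- `B` is not a maximal elementary abelian subgroup
    push Not at hEmax
    obtain ⟨B', hB'e, hEB', hB'ne⟩ := hEmax
    set B'' := B'.map Q.subtype with hB''
    have hB''e : IsElementaryAbelian q B'' := elementary_map_subtype hB'e
    have hBB'' : B ≤ B'' := by
      rw [← map_subgroupOf_eq hBQ]
      exact Subgroup.map_mono hEB'
    have hlt : B < B'' := by
      apply lt_of_le_of_ne hBB''
      intro h0
      apply hB'ne
      have h1 : B'.map Q.subtype = E.map Q.subtype := by
        rw [hE, map_subgroupOf_eq hBQ]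
        exact h0.symm
      exact Subgroup.map_injective Q.subtype_injective h1
    have hcard'' : q ^ 2 < Nat.card B'' := by
      rw [← hBsq]; exact card_lt_card_of_lt hlt
    have hB''C : B'' ≤ Subgroup.centralizer (B : Set G) := by
      intro y hy
      rw [Subgroup.mem_centralizer_iff]
      intro b hb
      exact congrArg Subtype.val (hB''e.1.is_comm.comm ⟨b, hBB'' hb⟩ ⟨y, hy⟩)
    exact ⟨B, hBK, uniq hG hBne hB1
      (Or.inr (not_rankLE_of_not_pRankLE hq (not_pRankLE_of_elementary hB''C hB''e hcard'')))⟩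

end Cfsg.Agent.Lib.Lead.BG10
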