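import Mathlib
import Cfsg.Agent.Lib.Lead.BG10f
import Cfsg.Agent.Lib.Lead.NormalRankTwo

set_option autoImplicit false

/-! Bender–Glauberman §10, part g: Lemma 10.4. -/

namespace Cfsg.Agent.Lib.Lead.BG10

open Cfsg Cfsg.Agent.Lib.Lead Cfsg.Agent.Lib.Helper7 Cfsg.Agent.Lib.Helper4
open Cfsg.Agent.Lib.Helper4.BG7 Cfsg.Agent.Lib.Helper4.BG76 Cfsg.Agent.Lib.Helper4.BG8
open Cfsg.Agent.Lib.Helper4.BG9 Cfsg.Agent.Lib.Lead.BG95 Cfsg.Agent.Lib.Helper4.ThreeStep

universe u

/-- a group of odd order in which every elementary abelian subgroup is cyclic is a Z-group -/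
theorem isZGroup_of_rankLE_one {H : Type u} [Group H] [Finite H] (hodd : Odd (Nat.card H))
    (h : RankLE 1 H) : IsZGroup H := by
  refine ⟨fun p hp P => ?_⟩
  haveI : Fact p.Prime := ⟨hp⟩
  by_contra hnc
  have hp2 : p ≠ 2 := by
    rintro rfl
    have hPcard : Nat.card (P : Subgroup H) ∣ Nat.card H := Subgroup.card_subgroup_dvd_card _
    obtain ⟨k, hk⟩ := IsPGroup.iff_card.mp P.isPGroup'
    have hk0 : k = 0 := by
      by_contra hk0
      have h2 : 2 ∣ Nat.card H := dvd_trans (hk ▸ dvd_pow_self 2 hk0) hPcard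
      exact (Nat.not_even_iff_odd.mpr hodd) (even_iff_two_dvd.mpr h2)
    rw [hk0, pow_zero] at hk
    have hbot : (P : Subgroup H) = ⊥ := Subgroup.card_eq_one.mp hk
    apply hnc
    rw [hbot]
    infer_instance
  obtain ⟨W, -, hWc, hWe, hWcard⟩ := exists_normal_elementary_sq hp2 P.isPGroup' hnc
  have hel : IsElementaryAbelian p (W.map (P : Subgroup H).subtype) :=
    elementary_map_subtype (q := p) (Q := (P : Subgroup H)) (E := W) ⟨hWc, hWe⟩
  have h1 := h p hp (W.map (P : Subgroup H).subtype) hel.1 hel.2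
  rw [Subgroup.card_map_of_injective (P : Subgroup H).subtype_injective, hWcard] at h1
  have := Nat.pow_lt_pow_right hp.one_lt (by norm_num : 1 < 2)
  omega

variable {G : Type u} [Group G] [Finite G]

theorem mem_center_map_iff {M : Subgroup G} (Q : Subgroup ↥M) {x : G} :
    x ∈ ((Subgroup.center ↥Q).map Q.subtype).map M.subtype ↔
      x ∈ Q.map M.subtype ∧ ∀ y ∈ Q.map M.subtype, y * x = x * y := by
  constructor
  · rintro ⟨_, ⟨z, hz, rfl⟩, rfl⟩
    refine ⟨⟨(z : ↥M), z.2, rfl⟩, ?_⟩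
    rintro _ ⟨y, hy, rfl⟩
    have h1 := Subgroup.mem_center_iff.mp hz ⟨y, hy⟩
    have h2 := congrArg (fun t : ↥Q => ((t : ↥M) : G)) h1
    simpa using h2
  · rintro ⟨⟨m, hm, rfl⟩, hcomm⟩
    refine ⟨m, ⟨⟨m, hm⟩, ?_, rfl⟩, rfl⟩
    refine Subgroup.mem_center_iff.mpr ?_
    rintro ⟨y, hy⟩
    apply Subtype.ext
    apply Subtype.ext
    exact hcomm _ ⟨y, hy, rfl⟩

/-- if the centralizer (in `M`) of `x` lies in a unique maximal subgroup, so does `C_G(x)` -/
theorem unique_of_inUnique_inf {M : Subgroup G} (hM : IsCoatom M)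
    {C : Subgroup G} (hC : C ≠ ⊤) (h : InUniqueMaximal (M ⊓ C)) :
    C ≤ M ∧ ∀ L : Subgroup G, IsCoatom L → C ≤ L → L = M := by
  obtain ⟨L, ⟨hL, hKL⟩, huniq⟩ := h
  have hLM : M = L := huniq M ⟨hM, inf_le_left⟩
  obtain ⟨L', hL', hCL'⟩ := exists_coatom_ge hC
  have h1 : L' = L := huniq L' ⟨hL', inf_le_right.trans hCL'⟩
  refine ⟨by rw [hLM, ← h1]; exact hCL', fun L'' hL'' hC'' => ?_⟩
  rw [hLM]
  exact huniq L'' ⟨hL'', inf_le_right.trans hC''⟩

/-- Bender–Glauberman, Lemma 10.4 -/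
theorem lemma_10_4 (hG : IsMinSimpleOddOrder G) {M : Subgroup G} (hM : IsCoatom M)
    (p : ℕ) [hp : Fact p.Prime] (hpM : p ∣ Nat.card M) (hpσ : p ∉ sigma M) (P : Sylow p M) :
    ∃ x : G, x ∈ ((Subgroup.center ↥(P : Subgroup M)).map (P : Subgroup M).subtype).map M.subtype ∧
      orderOf x = p ∧
      IsZGroup ↥(alphaCore M ⊓ Subgroup.centralizer ({x} : Set G)) ∧
      ¬ (Subgroup.centralizer ({x} : Set G) ≤ M ∧ ∀ L : Subgroup G, IsCoatom L →
        Subgroup.centralizer ({x} : Set G) ≤ L → L = M) := by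
  classical
  by_contra hcon
  set PG : Subgroup G := (P : Subgroup M).map M.subtype with hPG
  have hPGM : PG ≤ M := Subgroup.map_subtype_le _
  have hN : ¬ Subgroup.normalizer (PG : Set G) ≤ M := fun h => hpσ ⟨hp.out, hpM, P, h⟩
  obtain ⟨g, hgN, hgM⟩ := SetLike.not_le_iff_exists.mp hN
  have hpα : p ∉ alpha M := fun h => hpσ (alpha_subset_sigma hG hM h)
  have key : ∀ x : G,
      x ∈ ((Subgroup.center ↥(P : Subgroup M)).map (P : Subgroup M).subtype).map M.subtype →
      orderOf x = p → (Subgroup.centralizer ({x} : Set G) ≤ M ∧ ∀ L : Subgroup G, IsCoatom L →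
        Subgroup.centralizer ({x} : Set G) ≤ L → L = M) := by
    intro x hxZ hxo
    have hx1 : x ≠ 1 := by
      rintro rfl
      rw [orderOf_one] at hxo
      exact hp.out.one_lt.ne hxo
    by_cases hZ : IsZGroup ↥(alphaCore M ⊓ Subgroup.centralizer ({x} : Set G))
    · by_contra hnu
      exact hcon ⟨x, hxZ, hxo, hZ, hnu⟩
    · have hr : ¬ RankLE 1 ↥(alphaCore M ⊓ Subgroup.centralizer ({x} : Set G)) := fun h =>
        hZ (isZGroup_of_rankLE_one (odd_card_sub hG _) h)
      have hxM : x ∈ M := hPGM ((mem_center_map_iff _).mp hxZ).1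
      have hcz : Subgroup.centralizer ((Subgroup.zpowers x : Subgroup G) : Set G) =
          Subgroup.centralizer ({x} : Set G) := by
        rw [Subgroup.zpowers_eq_closure, Subgroup.centralizer_closure]
      have h103 := lemma_10_3 hG hM (Subgroup.zpowers x) (Subgroup.zpowers_le.mpr hxM)
        (fun q hq hqd => by
          rw [Nat.card_zpowers, hxo] at hqd
          have : q = p := (Nat.prime_dvd_prime_iff_eq hq hp.out).mp hqd
          rw [this]; exact hpα)
        (by rw [hcz]; exact hr)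
      rw [hcz] at h103
      exact unique_of_inUnique_inf hM (center_ne_top hG hx1) h103
  -- an element of order p in Z(P)
  have hPnt : Nontrivial ↥(P : Subgroup M) := by
    have h1 : Nat.card ↥(P : Subgroup M) ≠ 1 := by
      intro h1
      have h2 := P.card_eq_multiplicity
      rw [h1] at h2
      have h3 : (Nat.card ↥M).factorization p = 0 := by
        by_contra h3
        have : 1 < p ^ (Nat.card ↥M).factorization p := Nat.one_lt_pow h3 hp.out.one_lt
        omega
      have hpos : Nat.card ↥M ≠ 0 := Nat.card_pos.ne'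
      have := (hp.out.factorization_pos_of_dvd hpos hpM)
      omega
    exact Finite.one_lt_card_iff_nontrivial.mp (by have := Nat.card_pos (α := ↥(P : Subgroup M)); omega)
  haveI : Nontrivial ↥(Subgroup.center ↥(P : Subgroup M)) := P.isPGroup'.center_nontrivial
  have hZp : IsPGroup p ↥(Subgroup.center ↥(P : Subgroup M)) := P.isPGroup'.to_subgroup _
  have hpZ : p ∣ Nat.card ↥(Subgroup.center ↥(P : Subgroup M)) := by
    rcases hZp.card_eq_or_dvd with h | h
    · have h2 := Finite.one_lt_card_iff_nontrivial.mpr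
        (inferInstance : Nontrivial ↥(Subgroup.center ↥(P : Subgroup M)))
      omega
    · exact h
  obtain ⟨z, hz⟩ := exists_prime_orderOf_dvd_card' p hpZ
  set x₀ : G := (((z : ↥(P : Subgroup M)) : ↥M) : G) with hx₀
  have hx₀Z : x₀ ∈ ((Subgroup.center ↥(P : Subgroup M)).map (P : Subgroup M).subtype).map
      M.subtype := ⟨((z : ↥(P : Subgroup M)) : ↥M), ⟨(z : ↥(P : Subgroup M)), z.2, rfl⟩, rfl⟩
  have hx₀o : orderOf x₀ = p := by
    rw [hx₀, Subgroup.orderOf_coe, Subgroup.orderOf_coe, Subgroup.orderOf_coe]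
    exact hz
  -- conjugate
  set x₁ : G := g * x₀ * g⁻¹ with hx₁
  have hx₁o : orderOf x₁ = p := by
    rw [hx₁, ← MulAut.conj_apply, (MulAut.conj g).orderOf_eq x₀]
    exact hx₀o
  have hconjmem : ∀ y : G, y ∈ PG → g * y * g⁻¹ ∈ PG := fun y hy =>
    (Subgroup.mem_normalizer_iff.mp hgN y).mp hy
  have hconjmem' : ∀ y : G, y ∈ PG → g⁻¹ * y * g ∈ PG := fun y hy => by
    have := (Subgroup.mem_normalizer_iff.mp hgN (g⁻¹ * y * g)).mpr (by
      have : g * (g⁻¹ * y * g) * g⁻¹ = y := by group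
      rw [this]; exact hy)
    exact this
  have hx₁Z : x₁ ∈ ((Subgroup.center ↥(P : Subgroup M)).map (P : Subgroup M).subtype).map
      M.subtype := by
    rw [mem_center_map_iff] at hx₀Z ⊢
    refine ⟨hconjmem _ hx₀Z.1, fun y hy => ?_⟩
    have h1 := hx₀Z.2 _ (hconjmem' y hy)
    rw [hx₁]
    have h2 : y * (g * x₀ * g⁻¹) = g * ((g⁻¹ * y * g) * x₀) * g⁻¹ := by group
    rw [h2, h1]
    group
  obtain ⟨h0le, h0u⟩ := key x₀ hx₀Z hx₀o
  obtain ⟨h1le, -⟩ := key x₁ hx₁Z hx₁o
  have hL : IsCoatom (cj g⁻¹ M) := isCoatom_cj hM g⁻¹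
  have hle : Subgroup.centralizer ({x₀} : Set G) ≤ cj g⁻¹ M := by
    intro y hy
    rw [mem_cj]
    rw [inv_inv]
    apply h1le
    rw [Subgroup.mem_centralizer_singleton_iff] at hy ⊢
    rw [hx₁]
    have h2 : g * y * g⁻¹ * (g * x₀ * g⁻¹) = g * (y * x₀) * g⁻¹ := by group
    rw [h2, hy]
    group
  have hLM : cj g⁻¹ M = M := h0u _ hL hle
  have hM1 : M ≠ ⊥ := by
    rintro rfl
    rw [Subgroup.card_bot] at hpM
    exact hp.out.one_lt.ne' (Nat.dvd_one.mp hpM)
  have hNM : Subgroup.normalizer (M : Set G) = M :=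
    normalizer_eq_of_isCoatom hG hM hM1 le_rfl Subgroup.le_normalizer
  apply hgM
  have : g⁻¹ ∈ Subgroup.normalizer (M : Set G) := mem_normalizer_iff_cj.mpr hLM
  rw [hNM] at this
  simpa using M.inv_mem this

end Cfsg.Agent.Lib.Lead.BG10
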