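import Mathlib
import Cfsg.Agent.Lib.Lead.BG10g
import Cfsg.Agent.Lib.Helper4.CyclicUnique
import Cfsg.Agent.Lib.Helper3.NormalSq2

set_option autoImplicit false

/-! Bender–Glauberman §10, part h: Lemmas 10.5 and 10.6. -/

namespace Cfsg.Agent.Lib.Lead.BG10

open Cfsg Cfsg.Agent.Lib.Lead Cfsg.Agent.Lib.Helper7 Cfsg.Agent.Lib.Helper4
open Cfsg.Agent.Lib.Helper4.BG7 Cfsg.Agent.Lib.Helper4.BG76 Cfsg.Agent.Lib.Helper4.BG8
open Cfsg.Agent.Lib.Helper4.BG9 Cfsg.Agent.Lib.Lead.BG95 Cfsg.Agent.Lib.Helper4.ThreeStep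

universe u

variable {G : Type u} [Group G] [Finite G]

/-- an elementary abelian `p²` subgroup of a maximal subgroup `M` of `p`-rank two is a maximal
elementary abelian subgroup of `G` -/
theorem rank_two_maximal (hG : IsMinSimpleOddOrder G) {M : Subgroup G} (hM : IsCoatom M)
    {p : ℕ} [hp : Fact p.Prime] (hr2 : PRankLE p 2 ↥M) {A : Subgroup G} (hAM : A ≤ M)
    (hA : IsElementaryAbelian p A) (hAcard : Nat.card A = p ^ 2) {B : Subgroup G}
    (hB : IsElementaryAbelian p B) (hAB : A ≤ B) : B = A := by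
  by_contra hne
  have hlt : A < B := lt_of_le_of_ne hAB (Ne.symm hne)
  have hcard : p ^ 2 < Nat.card B := by rw [← hAcard]; exact card_lt_card_of_lt hlt
  have hBC : B ≤ Subgroup.centralizer (A : Set G) := by
    intro b hb
    rw [Subgroup.mem_centralizer_iff]
    intro a ha
    exact congrArg Subtype.val (hB.1.is_comm.comm ⟨a, hAB ha⟩ ⟨b, hb⟩)
  have hAp : IsPGroup p A := isPGroup_of_elementary hA
  have hA1 : ¬ RankLE 1 ↥A := not_rankLE_of_not_pRankLE hp.out
    (not_pRankLE_of_elementary le_rfl hA (by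
      rw [hAcard]; exact Nat.pow_lt_pow_right hp.out.one_lt (by norm_num)))
  have hC2 : ¬ RankLE 2 ↥(Subgroup.centralizer (A : Set G)) :=
    not_rankLE_of_not_pRankLE hp.out (not_pRankLE_of_elementary hBC hB hcard)
  obtain ⟨L, ⟨hL, hAL⟩, huniq⟩ := uniq hG (isPGroup_ne_top hG hAp) hA1 (Or.inr hC2)
  have hML : M = L := huniq M ⟨hM, hAM⟩
  have hAne : A ≠ ⊥ := by
    rintro rfl
    rw [Subgroup.card_bot] at hAcard
    have := Nat.one_lt_pow (n := 2) (by norm_num) hp.out.one_lt
    omega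
  obtain ⟨e, he1⟩ := (Subgroup.ne_bot_iff_exists_ne_one).mp hAne
  have heA' : (e : G) ∈ A := e.2
  have he1' : (e : G) ≠ 1 := fun h => he1 (Subtype.ext h)
  have hCne : Subgroup.centralizer (A : Set G) ≠ ⊤ := by
    intro h0
    apply center_ne_top hG he1'
    rw [eq_top_iff, ← h0]
    exact Subgroup.centralizer_le (by
      intro x hx
      rw [Set.mem_singleton_iff] at hx
      rw [hx]; exact heA')
  obtain ⟨L', hL', hCL'⟩ := exists_coatom_ge hCne
  have hAC : A ≤ Subgroup.centralizer (A : Set G) := le_centralizer_self_of_elementary hA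
  have h1 : L' = L := huniq L' ⟨hL', hAC.trans hCL'⟩
  have hBM : B ≤ M := by rw [hML, ← h1]; exact hBC.trans hCL'
  exact not_pRankLE_of_elementary hBM hB hcard hr2

/-- Bender–Glauberman, Lemma 10.5 -/
theorem lemma_10_5 (hG : IsMinSimpleOddOrder G) {M : Subgroup G} (hM : IsCoatom M)
    {p : ℕ} [hp : Fact p.Prime] (hr2 : PRankLE p 2 ↥M) (hr1 : ¬ PRankLE p 1 ↥M) :
    ¬ IsIdealPrime p G ∧ ∀ A : Subgroup G, A ≤ M → IsElementaryAbelian p A → Nat.card A = p ^ 2 →
      ∀ B : Subgroup G, IsElementaryAbelian p B → A ≤ B → B = A := by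
  refine ⟨?_, fun A hAM hA hAc B hB hAB => rank_two_maximal hG hM hr2 hAM hA hAc hB hAB⟩
  rintro ⟨-, -, hideal⟩
  obtain ⟨E, hEM, hE, hEcard⟩ := exists_elementary_of_not_pRankLE hr1
  have hE2 : Nat.card E = p ^ 2 := card_eq_sq hE hEcard (fun h =>
    not_pRankLE_of_elementary hEM hE h hr2)
  obtain ⟨P, hEP⟩ := (isPGroup_of_elementary hE).exists_le_sylow
  obtain ⟨B, -, hB, hlt⟩ := hideal P E hEP hE hE2
  exact hlt.ne' (rank_two_maximal hG hM hr2 hEM hE hE2 hB hlt.le)

/-- a Sylow subgroup of a group of odd order with `p`-rank at most one is cyclic -/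
theorem isCyclic_sylow_of_pRankLE_one {H : Type u} [Group H] [Finite H] (hodd : Odd (Nat.card H))
    {p : ℕ} [hp : Fact p.Prime] (h : PRankLE p 1 H) (P : Sylow p H) :
    IsCyclic ↥(P : Subgroup H) := by
  by_contra hnc
  have hp2 : p ≠ 2 := by
    rintro rfl
    have hPcard : Nat.card (P : Subgroup H) ∣ Nat.card H := Subgroup.card_subgroup_dvd_card _
    obtain ⟨k, hk⟩ := IsPGroup.iff_card.mp P.isPGroup'
    have hk0 : k = 0 := by
      by_contra hk0
      have h2 : 2 ∣ Nat.card H := dvd_trans (hk ▸ dvd_pow_self 2 hk0) hPcard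
      exact (Nat.not_even_iff_odd.mpr hodd) (even_iff_two_dvd.mpr h2)
    rw [hk0, pow_zero] at hk
    have hbot : (P : Subgroup H) = ⊥ := Subgroup.card_eq_one.mp hk
    apply hnc
    rw [hbot]
    infer_instance
  obtain ⟨W, -, hWc, hWe, hWcard⟩ := exists_normal_elementary_sq hp2 P.isPGroup' hnc
  have hel : IsElementaryAbelian p (W.map (P : Subgroup H).subtype) :=
    elementary_map_subtype (q := p) (Q := (P : Subgroup H)) (E := W) ⟨hWc, hWe⟩
  have h1 := h (W.map (P : Subgroup H).subtype) hel.1 hel.2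
  rw [Subgroup.card_map_of_injective (P : Subgroup H).subtype_injective, hWcard] at h1
  have := Nat.pow_lt_pow_right hp.out.one_lt (by norm_num : 1 < 2)
  omega

/-- subgroups of the same order of a cyclic subgroup coincide -/
theorem eq_of_card_eq_of_le_cyclic {Q X Y : Subgroup G} (hQ : IsCyclic ↥Q) (hX : X ≤ Q) (hY : Y ≤ Q)
    (h : Nat.card X = Nat.card Y) : X = Y := by
  have h1 : X.subgroupOf Q = Y.subgroupOf Q := by
    apply cyclic_subgroup_eq_of_card_eq
    rw [card_subgroupOf_of_le hX, card_subgroupOf_of_le hY, h]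
  rw [← map_subgroupOf_eq hX, ← map_subgroupOf_eq hY, h1]

/-- two commuting elements of order `p` generating distinct subgroups span an elementary abelian
group of order `p²` -/
theorem pair_elementary {p : ℕ} [hp : Fact p.Prime] {z w : G} (hzw : z * w = w * z) (hz1 : z ≠ 1)
    (hzp : z ^ p = 1) (hwp : w ^ p = 1) (hw : w ∉ Subgroup.zpowers z) :
    IsElementaryAbelian p (Subgroup.zpowers z ⊔ Subgroup.zpowers w) ∧
      Nat.card ↥(Subgroup.zpowers z ⊔ Subgroup.zpowers w) = p ^ 2 := by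
  have hel : ∀ u : G, u ^ p = 1 → IsElementaryAbelian p (Subgroup.zpowers u) := by
    intro u hu
    refine ⟨inferInstance, ?_⟩
    intro a ha
    obtain ⟨k, rfl⟩ := Subgroup.mem_zpowers_iff.mp ha
    rw [← zpow_natCast, ← zpow_mul, mul_comm, zpow_mul, zpow_natCast, hu, one_zpow]
  have hcomm : ∀ a ∈ Subgroup.zpowers z, ∀ b ∈ Subgroup.zpowers w, a * b = b * a := by
    intro a ha b hb
    obtain ⟨i, rfl⟩ := Subgroup.mem_zpowers_iff.mp ha
    obtain ⟨j, rfl⟩ := Subgroup.mem_zpowers_iff.mp hb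
    exact ((Commute.zpow_zpow (show Commute z w from hzw)) i j).eq
  refine ⟨Cfsg.Agent.Lib.Helper3.NormalSq.isElementaryAbelian_sup (hel z hzp) (hel w hwp) hcomm, ?_⟩
  have hw1 : w ≠ 1 := fun h => hw (h ▸ Subgroup.one_mem _)
  have hcz : Nat.card (Subgroup.zpowers z) = p := by
    rw [Nat.card_zpowers]; exact orderOf_eq_prime hzp hz1
  have hcw : Nat.card (Subgroup.zpowers w) = p := by
    rw [Nat.card_zpowers]; exact orderOf_eq_prime hwp hw1
  have hinf : Subgroup.zpowers z ⊓ Subgroup.zpowers w = ⊥ := by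
    have hd : Nat.card ↥(Subgroup.zpowers z ⊓ Subgroup.zpowers w) ∣ p := by
      rw [← hcw]; exact Subgroup.card_dvd_of_le inf_le_right
    rcases (Nat.dvd_prime hp.out).mp hd with h | h
    · exact Subgroup.card_eq_one.mp h
    · exfalso
      apply hw
      have h2 : Subgroup.zpowers z ⊓ Subgroup.zpowers w = Subgroup.zpowers w :=
        Subgroup.eq_of_le_of_card_ge inf_le_right (by rw [h, hcw])
      have h3 : Subgroup.zpowers w ≤ Subgroup.zpowers z := by rw [← h2]; exact inf_le_left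
      exact h3 (Subgroup.mem_zpowers w)
  have hnorm : Subgroup.zpowers z ≤ Subgroup.normalizer ((Subgroup.zpowers w : Subgroup G) : Set G) := by
    refine le_trans ?_ (Subgroup.centralizer_le_normalizer _)
    intro a ha
    rw [Subgroup.mem_centralizer_iff]
    intro b hb
    exact (hcomm a ha b hb).symm
  have := card_sup_mul_card_inf _ _ hnorm
  rw [hinf, Subgroup.card_bot, mul_one, hcz, hcw] at this
  rw [this]; ring

/-- in a `p`-group containing an elementary abelian subgroup of order `p²`, every subgroup of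
order `p` lies in an elementary abelian subgroup of order `p²` -/
theorem exists_elementary_sq_ge {p : ℕ} [hp : Fact p.Prime] {Q X E : Subgroup G}
    (hQ : IsPGroup p Q) (hXQ : X ≤ Q) (hX : Nat.card X = p) (hEQ : E ≤ Q)
    (hE : IsElementaryAbelian p E) (hEcard : Nat.card E = p ^ 2) :
    ∃ A : Subgroup G, IsElementaryAbelian p A ∧ Nat.card A = p ^ 2 ∧ X ≤ A := by
  classical
  have hXne : X ≠ ⊥ := by
    rintro rfl
    rw [Subgroup.card_bot] at hX
    exact hp.out.one_lt.ne hX
  have : Nontrivial ↥Q := by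
    rw [Subgroup.nontrivial_iff_ne_bot]
    rintro rfl
    exact hXne (le_bot_iff.mp hXQ)
  have : Nontrivial ↥(Subgroup.center ↥Q) := hQ.center_nontrivial
  have hZp : IsPGroup p ↥(Subgroup.center ↥Q) := hQ.to_subgroup _
  have hpZ : p ∣ Nat.card ↥(Subgroup.center ↥Q) := by
    rcases hZp.card_eq_or_dvd with h | h
    · have h2 := Finite.one_lt_card_iff_nontrivial.mpr
        (inferInstance : Nontrivial ↥(Subgroup.center ↥Q))
      omega
    · exact h
  obtain ⟨z₀, hz₀⟩ := exists_prime_orderOf_dvd_card' p hpZ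
  set z : G := ((z₀ : ↥Q) : G) with hz
  have hzQ : z ∈ Q := (z₀ : ↥Q).2
  have hzo : orderOf z = p := by
    rw [hz, Subgroup.orderOf_coe, Subgroup.orderOf_coe]; exact hz₀
  have hz1 : z ≠ 1 := by
    intro h
    rw [h, orderOf_one] at hzo
    exact hp.out.one_lt.ne hzo
  have hzp : z ^ p = 1 := by rw [← hzo]; exact pow_orderOf_eq_one z
  have hzc : ∀ y ∈ Q, z * y = y * z := by
    intro y hy
    have h1 := Subgroup.mem_center_iff.mp z₀.2 ⟨y, hy⟩
    exact (congrArg Subtype.val h1).symm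
  obtain ⟨x', hx'1⟩ := (Subgroup.ne_bot_iff_exists_ne_one).mp hXne
  set x : G := (x' : G) with hx
  have hxX : x ∈ X := x'.2
  have hx1 : x ≠ 1 := fun h => hx'1 (Subtype.ext h)
  have hxp : x ^ p = 1 := by
    have h1 : (x' : ↥X) ^ Nat.card ↥X = 1 := pow_card_eq_one'
    rw [hX] at h1
    have := congrArg Subtype.val h1
    simpa using this
  have hXz : Subgroup.zpowers x = X := by
    apply Subgroup.eq_of_le_of_card_ge (Subgroup.zpowers_le.mpr hxX)
    rw [Nat.card_zpowers, orderOf_eq_prime hxp hx1, hX]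
  by_cases hzX : z ∈ X
  · have hXz' : Subgroup.zpowers z = X := by
      apply Subgroup.eq_of_le_of_card_ge (Subgroup.zpowers_le.mpr hzX)
      rw [Nat.card_zpowers, hzo, hX]
    have hEX : ¬ E ≤ X := by
      intro h
      have := Subgroup.card_le_of_le h
      rw [hEcard, hX] at this
      have h2 := Nat.pow_lt_pow_right hp.out.one_lt (by norm_num : 1 < 2)
      rw [pow_one] at h2
      omega
    obtain ⟨e, heE, heX⟩ := SetLike.not_le_iff_exists.mp hEX
    obtain ⟨h1, h2⟩ := pair_elementary (hzc e (hEQ heE)) hz1 hzp (hE.2 e heE)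
      (by rw [hXz']; exact heX)
    exact ⟨_, h1, h2, by rw [← hXz']; exact le_sup_left⟩
  · have hxz : x ∉ Subgroup.zpowers z := by
      intro h
      apply hzX
      have h2 : Subgroup.zpowers x = Subgroup.zpowers z := by
        apply Subgroup.eq_of_le_of_card_ge (Subgroup.zpowers_le.mpr h)
        rw [Nat.card_zpowers, Nat.card_zpowers, hzo, orderOf_eq_prime hxp hx1]
      rw [← hXz, h2]
      exact Subgroup.mem_zpowers z
    obtain ⟨h1, h2⟩ := pair_elementary (hzc x (hXQ hxX)) hz1 hzp hxp hxz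
    exact ⟨_, h1, h2, by rw [← hXz]; exact le_sup_right⟩

/-- Bender–Glauberman, Lemma 10.6 -/
theorem lemma_10_6 (hG : IsMinSimpleOddOrder G) {M : Subgroup G} (hM : IsCoatom M)
    {p : ℕ} [hp : Fact p.Prime] (hpσ : p ∉ sigma M) {X : Subgroup G} (hX : Nat.card X = p)
    (hNX : Subgroup.normalizer (X : Set G) ≤ M) :
    (PRankLE p 2 ↥M ∧ ¬ PRankLE p 1 ↥M) ∧ ¬ IsIdealPrime p G ∧
      ∃ A : Subgroup G, IsElementaryAbelian p A ∧ Nat.card A = p ^ 2 ∧ X ≤ A := by
  have hXM : X ≤ M := Subgroup.le_normalizer.trans hNX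
  have hXp : IsPGroup p X := IsPGroup.of_card (n := 1) (by rw [hX, pow_one])
  have hpM : p ∣ Nat.card ↥M := by rw [← hX]; exact Subgroup.card_dvd_of_le hXM
  have hr2 : PRankLE p 2 ↥M := by
    by_contra h
    exact hpσ (alpha_subset_sigma hG hM ⟨hp.out, h⟩)
  obtain ⟨R, hXR, hR⟩ := exists_sylIn_ge hXM hXp
  obtain ⟨T, hT⟩ := SylIn.exists_sylow hR
  have hr1 : ¬ PRankLE p 1 ↥M := by
    intro h1
    have hTc : IsCyclic ↥(T : Subgroup ↥M) :=
      isCyclic_sylow_of_pRankLE_one (odd_card_sub hG M) h1 T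
    have hRc : IsCyclic ↥R := by
      rw [← hT]
      exact isCyclic_of_surjective
        ((T : Subgroup ↥M).equivMapOfInjective M.subtype M.subtype_injective)
        ((T : Subgroup ↥M).equivMapOfInjective M.subtype M.subtype_injective).surjective
    apply hpσ
    refine ⟨hp.out, hpM, T, ?_⟩
    rw [hT]
    intro g hg
    apply hNX
    rw [mem_normalizer_iff_cj]
    have hgR : cj g R = R := mem_normalizer_iff_cj.mp hg
    have h2 : cj g X ≤ R := by rw [← hgR]; exact cj_mono g hXR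
    exact eq_of_card_eq_of_le_cyclic hRc h2 hXR
      (Subgroup.card_map_of_injective (MulAut.conj g).injective)
  refine ⟨⟨hr2, hr1⟩, (lemma_10_5 hG hM hr2 hr1).1, ?_⟩
  obtain ⟨E, hEM, hE, hEcard⟩ := exists_elementary_of_not_pRankLE hr1
  have hE2 : Nat.card E = p ^ 2 := card_eq_sq hE hEcard (fun h =>
    not_pRankLE_of_elementary hEM hE h hr2)
  obtain ⟨c, hcM, hcE⟩ := hR.exists_conj_le hEM (isPGroup_of_elementary hE)
  have hE' : IsElementaryAbelian p (cj c E) := by
    refine ⟨⟨⟨?_⟩⟩, ?_⟩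
    · rintro ⟨_, ⟨a, ha, rfl⟩⟩ ⟨_, ⟨b, hb, rfl⟩⟩
      apply Subtype.ext
      have h0 : a * b = b * a := congrArg Subtype.val (hE.1.is_comm.comm ⟨a, ha⟩ ⟨b, hb⟩)
      show (MulAut.conj c).toMonoidHom a * (MulAut.conj c).toMonoidHom b =
        (MulAut.conj c).toMonoidHom b * (MulAut.conj c).toMonoidHom a
      rw [← map_mul, ← map_mul, h0]
    · rintro _ ⟨a, ha, rfl⟩
      rw [← map_pow, hE.2 a ha, map_one]
  exact exists_elementary_sq_ge hR.2.1 hXR hX hcE hE'
    (by rw [← hE2]; exact Subgroup.card_map_of_injective (MulAut.conj c).injective)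

end Cfsg.Agent.Lib.Lead.BG10
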