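import Mathlib
import Cfsg.Agent.Lib.Lead.BG10h
import Cfsg.Agent.Lib.Helper4.ZP26
import Cfsg.Agent.Lib.Helper4.Rk2j

set_option autoImplicit false

/-! Bender–Glauberman §10, part i: Corollary 10.7(a), every proper subgroup has `p`-length one. -/

namespace Cfsg.Agent.Lib.Lead.BG10

open Cfsg Cfsg.Agent.Lib.Lead Cfsg.Agent.Lib.Helper7 Cfsg.Agent.Lib.Helper4
open Cfsg.Agent.Lib.Helper4.BG7 Cfsg.Agent.Lib.Helper4.BG76 Cfsg.Agent.Lib.Helper4.BG8
open Cfsg.Agent.Lib.Helper4.BG9 Cfsg.Agent.Lib.Lead.BG95 Cfsg.Agent.Lib.Helper4.ThreeStep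
open Cfsg.Agent.Lib.Helper4.ZP
open scoped commutatorElement

universe u

section tools

variable {G : Type u} [Group G] [Finite G]

theorem PL1_of_pLengthLE {p : ℕ} [Fact p.Prime] (h : PLengthLE p 1 G) :
    PL1 p (⊤ : Subgroup G) ⊥ ⊤ := by
  obtain ⟨V, hV0, hV3, hVn, hmono, hev, hodd⟩ := Cfsg.Agent.Lib.Helper7.PSer.of_pLengthLE h
  refine ⟨V 1, V 2, bot_le, hmono 1, le_top, ?_, ?_, ?_, ?_, ?_⟩
  · exact le_of_eq (Subgroup.normalizer_eq_top_iff.mpr (hVn 1)).symm
  · exact le_of_eq (Subgroup.normalizer_eq_top_iff.mpr (hVn 2)).symm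
  · have := hev 0 (by decide)
    rw [hV0] at this
    exact this
  · exact hodd 1 (by decide)
  · have := hev 2 (by decide)
    have e : V (2 + 1) = ⊤ := hV3
    rw [e] at this
    exact this

theorem PL1.sub {p : ℕ} [hp : Fact p.Prime] {Γ M H : Subgroup G} (h : PL1 p Γ ⊥ M) (hMΓ : M ≤ Γ)
    (hHM : H ≤ M) : PL1 p H ⊥ H := by
  obtain ⟨A, B, -, hAB, hBM, hAn, hBn, hA, ⟨k, hk⟩, hB⟩ := h
  have hHA : H ≤ Subgroup.normalizer (A : Set G) := hHM.trans (hMΓ.trans hAn)
  have hHB : H ≤ Subgroup.normalizer (B : Set G) := hHM.trans (hMΓ.trans hBn)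
  have hnorm : ∀ C : Subgroup G, H ≤ Subgroup.normalizer (C : Set G) →
      H ≤ Subgroup.normalizer ((C ⊓ H : Subgroup G) : Set G) := by
    intro C hC g hg
    rw [Subgroup.mem_normalizer_iff]
    intro x
    have h1 := Subgroup.mem_normalizer_iff.mp (hC hg) x
    constructor
    · rintro ⟨hxC, hxH⟩
      exact ⟨h1.mp hxC, H.mul_mem (H.mul_mem hg hxH) (H.inv_mem hg)⟩
    · rintro ⟨hxC, hxH⟩
      refine ⟨h1.mpr hxC, ?_⟩
      have h2 := H.mul_mem (H.mul_mem (H.inv_mem hg) hxH) hg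
      have e : g⁻¹ * (g * x * g⁻¹) * g = x := by group
      rwa [e] at h2
  refine ⟨A ⊓ H, B ⊓ H, bot_le, inf_le_inf_right _ hAB, inf_le_right, hnorm A hHA, hnorm B hHB,
    ?_, ?_, ?_⟩
  · rw [Subgroup.relIndex_bot_left] at hA ⊢
    exact Nat.Coprime.coprime_dvd_left (Subgroup.card_dvd_of_le inf_le_left) hA
  · have e : (A ⊓ H) ⊓ (B ⊓ H) = A ⊓ (B ⊓ H) := by
      ext x
      simp only [Subgroup.mem_inf]
      tauto
    have h1 : (A ⊓ H).relIndex (B ⊓ H) = A.relIndex (B ⊓ H) := by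
      rw [← Subgroup.inf_relIndex_right (A ⊓ H), e, Subgroup.inf_relIndex_right]
    have h2 : A.relIndex (B ⊓ H) ∣ A.relIndex B := by
      have h3 := relIndex_sup_of_le_normalizer (B ⊓ H) A (inf_le_right.trans hHA)
      rw [← h3]
      exact Cfsg.Agent.Lib.Helper7.PSer.relIndex_dvd_of_between le_rfl le_sup_right
        (sup_le inf_le_left hAB)
    rw [hk, ← h1] at h2
    obtain ⟨j, -, hj⟩ := (Nat.dvd_prime_pow hp.out).mp h2
    exact ⟨j, hj⟩
  · rw [Subgroup.inf_relIndex_right]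
    have h3 := relIndex_sup_of_le_normalizer H B hHB
    have h4 : B.relIndex (H ⊔ B) ∣ B.relIndex M :=
      Cfsg.Agent.Lib.Helper7.PSer.relIndex_dvd_of_between le_rfl le_sup_right (sup_le hHM hBM)
    rw [h3] at h4
    exact Nat.Coprime.coprime_dvd_left h4 hB

theorem PL1_of_top {p : ℕ} {M : Subgroup G} (h : PL1 p (⊤ : Subgroup ↥M) ⊥ ⊤) : PL1 p M ⊥ M := by
  have h1 := h.map_of_injective M.subtype M.subtype_injective
  rwa [Subgroup.map_bot, ← MonoidHom.range_eq_map, Subgroup.range_subtype] at h1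

end tools

section comm

variable {X : Type u} [Group X] [Finite X]

theorem commutatorElement_central_mul_left {z a b : X} (hz : ∀ g : X, z * g = g * z) :
    ⁅z * a, b⁆ = ⁅a, b⁆ := by
  have e : ⁅z * a, b⁆ = z * ⁅a, b⁆ * z⁻¹ * ⁅z, b⁆ := by
    simp only [commutatorElement_def]; group
  have h1 : ⁅z, b⁆ = 1 := commutatorElement_eq_one_iff_commute.mpr (hz b)
  rw [e, h1, mul_one, hz ⁅a, b⁆, mul_inv_cancel_right]

theorem commutatorElement_central_mul_right {z a b : X} (hz : ∀ g : X, z * g = g * z) :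
    ⁅a, z * b⁆ = ⁅a, b⁆ := by
  have e : ⁅a, z * b⁆ = ⁅a, z⁆ * (z * ⁅a, b⁆ * z⁻¹) := by
    simp only [commutatorElement_def]; group
  have h1 : ⁅a, z⁆ = 1 := commutatorElement_eq_one_iff_commute.mpr (hz a).symm
  rw [e, h1, one_mul, hz ⁅a, b⁆, mul_inv_cancel_right]

/-- if `X = H ⋊ R` is solvable and `H ≤ X'`, then `H = [H, R]` -/
theorem le_commutator_of_le_derived [Group.IsSolvable X] {H R : Subgroup X} [hHn : H.Normal]
    (hHR : H ⊔ R = ⊤) (hinf : H ⊓ R = ⊥) (hH : H ≤ commutator X) : H ≤ ⁅H, R⁆ := by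
  set N : Subgroup X := ⁅H, R⁆ with hN
  have hNH : N ≤ H := Subgroup.commutator_le_left H R
  have hRH : R ≤ Subgroup.normalizer (H : Set X) := by
    rw [Subgroup.normalizer_eq_top_iff.mpr hHn]; exact le_top
  have hNn : N.Normal := by
    rw [← Subgroup.normalizer_eq_top_iff, eq_top_iff, ← hHR]
    exact sup_le (le_normalizer_commutator_left H R) (le_normalizer_commutator_right H R hRH)
  have hHHn : (⁅H, H⁆ : Subgroup X).Normal := Subgroup.commutator_normal H H
  set D : Subgroup X := N ⊔ ⁅H, H⁆ with hD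
  have hDn : D.Normal := inferInstance
  have hDH : D ≤ H := sup_le hNH (Subgroup.commutator_le_left H H)
  -- Step 1: `H ≤ D`
  have hstep1 : H ≤ D := by
    set π := QuotientGroup.mk' D with hπ
    have hcomm_mem : ∀ h ∈ H, ∀ g : X, ⁅h, g⁆ ∈ D := by
      intro h hh g
      have hg : g ∈ H ⊔ R := by rw [hHR]; trivial
      obtain ⟨h', hh', r, hr, rfl⟩ := exists_mul_of_mem_sup hRH hg
      have e : ⁅h, h' * r⁆ = ⁅h, h'⁆ * (h' * ⁅h, r⁆ * h'⁻¹) := by
        simp only [commutatorElement_def]; group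
      rw [e]
      apply D.mul_mem
      · exact le_sup_right (a := N) (Subgroup.commutator_mem_commutator hh hh')
      · apply le_sup_left (b := ⁅H, H⁆)
        exact hNn.conj_mem _ (Subgroup.commutator_mem_commutator hh hr) h'
    have hcen : ∀ h ∈ H, ∀ y : X ⧸ D, π h * y = y * π h := by
      intro h hh y
      obtain ⟨g, rfl⟩ := QuotientGroup.mk'_surjective D y
      have h1 : π ⁅h, g⁆ = 1 := (QuotientGroup.eq_one_iff _).mpr (hcomm_mem h hh g)
      rw [map_commutatorElement] at h1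
      exact (commutatorElement_eq_one_iff_commute.mp h1).eq
    have hcommle : commutator X ≤ (R.map π).comap π := by
      rw [commutator_def, Subgroup.commutator_le]
      intro g₁ _ g₂ _
      have hg₁ : g₁ ∈ H ⊔ R := by rw [hHR]; trivial
      have hg₂ : g₂ ∈ H ⊔ R := by rw [hHR]; trivial
      obtain ⟨h₁, hh₁, r₁, hr₁, rfl⟩ := exists_mul_of_mem_sup hRH hg₁
      obtain ⟨h₂, hh₂, r₂, hr₂, rfl⟩ := exists_mul_of_mem_sup hRH hg₂
      rw [Subgroup.mem_comap, map_commutatorElement, map_mul, map_mul,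
        commutatorElement_central_mul_left (hcen h₁ hh₁),
        commutatorElement_central_mul_right (hcen h₂ hh₂), ← map_commutatorElement]
      exact Subgroup.mem_map_of_mem _ (Subgroup.commutator_mem_commutator hr₁ hr₂ |>
        (Subgroup.commutator_le_self R ·))
    intro h hh
    have h1 := hcommle (hH hh)
    rw [Subgroup.mem_comap] at h1
    obtain ⟨r, hr, hrh⟩ := h1
    have h2 : r⁻¹ * h ∈ D := QuotientGroup.eq.mp hrh
    have h3 : r ∈ H := by
      have h4 : r⁻¹ ∈ H := by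
        have := H.mul_mem (hDH h2) (H.inv_mem hh)
        rwa [mul_inv_cancel_right] at this
      simpa using H.inv_mem h4
    have h5 : r ∈ H ⊓ R := ⟨h3, hr⟩
    rw [hinf, Subgroup.mem_bot] at h5
    rw [h5, inv_one, one_mul] at h2
    exact h2
  -- Step 2
  set π' := QuotientGroup.mk' N with hπ'
  have hbar : H.map π' ≤ ⁅H.map π', H.map π'⁆ := by
    calc H.map π' ≤ D.map π' := Subgroup.map_mono hstep1
      _ = N.map π' ⊔ (⁅H, H⁆ : Subgroup X).map π' := Subgroup.map_sup _ _ _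
      _ = ⁅H.map π', H.map π'⁆ := by
        have : N.map π' = ⊥ := by
          rw [Subgroup.map_eq_bot_iff, QuotientGroup.ker_mk']
        rw [this, bot_sup_eq, Subgroup.map_commutator]
  have hbot : H.map π' = ⊥ := by
    by_contra hne
    exact (IsSolvable.commutator_lt_of_ne_bot hne).not_ge hbar
  rw [Subgroup.map_eq_bot_iff, QuotientGroup.ker_mk'] at hbot
  exact hbot

end comm

section main

variable {G : Type u} [Group G] [Finite G]

theorem sigma_not_dvd_index_commutator (hG : IsMinSimpleOddOrder G) {M : Subgroup G}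
    (hM : IsCoatom M) {r : ℕ} (hr : r ∈ sigma M) : ¬ r ∣ (commutator ↥M).index := by
  haveI : Fact r.Prime := ⟨hr.1⟩
  obtain ⟨P, d⟩ := exists_sigmaData hM hr
  have hle : P ≤ ⁅M, M⁆ := d.le_commutator hG
  have hMM : (⁅M, M⁆ : Subgroup G) ≤ M := Subgroup.commutator_le_self M
  have hrel : (⁅M, M⁆ : Subgroup G).relIndex M = (commutator ↥M).index := by
    rw [← Subgroup.map_subtype_commutator]
    unfold Subgroup.relIndex Subgroup.subgroupOf
    rw [Subgroup.comap_map_eq_self_of_injective M.subtype_injective]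
  intro hd
  apply d.sylIn.2.2
  rw [← Subgroup.relIndex_mul_relIndex P ⁅M, M⁆ M hle hMM, hrel]
  exact Dvd.dvd.mul_left hd _

/-- `p`-length one of a maximal subgroup `M` for `p ∈ α(M)` -/
theorem pl1_alpha (hG : IsMinSimpleOddOrder G) {M : Subgroup G} (hM : IsCoatom M) {p : ℕ}
    [hp : Fact p.Prime] (hpα : p ∈ alpha M) : PL1 p M ⊥ M := by
  classical
  haveI : Group.IsSolvable ↥M := solvable_of_ne_top hG hM.1
  have hodd : Odd (Nat.card ↥M) := odd_card_sub hG M
  set H : Subgroup ↥M := piCore (alpha M) ↥M with hHdef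
  haveI hHn : H.Normal := piCore_normal (alpha M) ↥M
  have hHnum : ∀ r : ℕ, r.Prime → r ∣ Nat.card H → r ∈ alpha M := fun r hr hd =>
    isPiNum_card_piCore (alpha M) r hr hd
  obtain ⟨⟨-, -, hrel⟩, -, -, -, -⟩ := theorem_10_2 hG hM
  have hidx : ∀ r : ℕ, r.Prime → r ∈ alpha M → ¬ r ∣ H.index := by
    intro r hr hrα
    rw [← relIndex_alphaCore]
    exact hrel r hr hrα
  have hcop : (Nat.card H).Coprime H.index :=
    Nat.coprime_of_dvd (fun k hk hk1 hk2 => hidx k hk (hHnum k hk hk1) hk2)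
  obtain ⟨R, hR⟩ := Subgroup.exists_right_complement'_of_coprime hcop
  have hHR : H ⊔ R = ⊤ := hR.sup_eq_top
  have hinf : H ⊓ R = ⊥ := disjoint_iff.mp hR.disjoint
  have hRcard : H.index = Nat.card R := hR.symm.index_eq_card
  have hRidx : R.index = Nat.card H := hR.index_eq_card
  have hcop' : (Nat.card H).Coprime (Nat.card R) := by rw [← hRcard]; exact hcop
  -- nontriviality
  haveI : Nontrivial ↥M := by
    by_contra hnt
    rw [not_nontrivial_iff_subsingleton] at hnt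
    apply hpα.2
    intro B _ _
    have : Nat.card ↥B = 1 := Nat.card_eq_one_iff_unique.mpr ⟨inferInstance, ⟨1⟩⟩
    rw [this]
    exact Nat.one_le_pow _ _ hp.out.pos
  have hlt : commutator ↥M < ⊤ := IsSolvable.commutator_lt_top_of_nontrivial ↥M
  have hidx1 : (commutator ↥M).index ≠ 1 := by
    rw [Ne, Subgroup.index_eq_one]; exact hlt.ne
  obtain ⟨q, hq, hqd⟩ := Nat.exists_prime_and_dvd hidx1
  haveI : Fact q.Prime := ⟨hq⟩
  have hqσ : q ∉ sigma M := fun h => sigma_not_dvd_index_commutator hG hM h hqd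
  have hqα : q ∉ alpha M := fun h => hqσ (alpha_subset_sigma hG hM h)
  have hqM : q ∣ Nat.card ↥M := hqd.trans (Subgroup.index_dvd_card _)
  -- a Sylow `q`-subgroup of `M` inside `R`
  obtain ⟨Q₀⟩ : Nonempty (Sylow q ↥R) := inferInstance
  set Q₁ : Subgroup ↥M := (Q₀ : Subgroup ↥R).map R.subtype with hQ₁
  have hQ₁R : Q₁ ≤ R := Subgroup.map_subtype_le _
  have hQ₁p : IsPGroup q ↥Q₁ := Q₀.isPGroup'.map _
  have hQ₁idx : ¬ q ∣ Q₁.index := by
    rw [hQ₁, Subgroup.index_map_subtype, hRidx]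
    intro hd
    rcases (Nat.Prime.dvd_mul hq).mp hd with h | h
    · exact Q₀.not_dvd_index h
    · exact hqα (hHnum q hq h)
  set Q : Sylow q ↥M := hQ₁p.toSylow hQ₁idx with hQ
  obtain ⟨x, hxZ, hxo, hxZg, -⟩ := lemma_10_4 hG hM q hqM hqσ Q
  obtain ⟨x', hx'Q, rfl⟩ := ((mem_center_map_iff _).mp hxZ).1
  have hx'Q₁ : x' ∈ Q₁ := by
    have : ((Q : Sylow q ↥M) : Subgroup ↥M) = Q₁ := IsPGroup.toSylow_coe _ _
    rw [← this]; exact hx'Q
  have hx'R : x' ∈ R := hQ₁R hx'Q₁
  set R₀ : Subgroup ↥M := Subgroup.zpowers x' with hR₀def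
  have hR₀ : R₀ ≤ R := Subgroup.zpowers_le.mpr hx'R
  have hx'o : orderOf x' = q := by
    rw [← Subgroup.orderOf_coe]; exact hxo
  have hR₀p : (Nat.card R₀).Prime := by
    rw [hR₀def, Nat.card_zpowers, hx'o]; exact hq
  have hZ : IsZGroup ↥(H ⊓ Subgroup.centralizer (R₀ : Set ↥M)) := by
    have hmem : ∀ y : ↥(H ⊓ Subgroup.centralizer (R₀ : Set ↥M)),
        (M.subtype.comp (Subgroup.subtype _)) y ∈
          alphaCore M ⊓ Subgroup.centralizer ({M.subtype x'} : Set G) := by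
      intro y
      have hy := y.2
      rw [Subgroup.mem_inf] at hy
      obtain ⟨hyH, hyC⟩ := hy
      refine Subgroup.mem_inf.mpr ⟨⟨y.1, hyH, rfl⟩, ?_⟩
      refine Subgroup.mem_centralizer_singleton_iff.mpr ?_
      have h1 := Subgroup.mem_centralizer_iff.mp hyC x' (Subgroup.mem_zpowers x')
      show ((y.1 : ↥M) : G) * (x' : G) = (x' : G) * ((y.1 : ↥M) : G)
      rw [← Subgroup.coe_mul, ← Subgroup.coe_mul, h1]
    set f := (M.subtype.comp (Subgroup.subtype
      (H ⊓ Subgroup.centralizer (R₀ : Set ↥M)))).codRestrict _ hmem with hf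
    have hfinj : Function.Injective f := by
      intro a b hab
      have h1 := congrArg Subtype.val hab
      exact Subtype.ext (Subtype.ext h1)
    have := hxZg
    exact IsZGroup.of_injective hfinj
  have hmain := main.{u} p (Nat.card ↥M + 1) ↥M (Nat.lt_succ_self _) inferInstance hodd H R R₀
    hHn hHR hcop' hR₀ hR₀p hZ
  have hHle : H ≤ commutator ↥M := by
    rw [← Subgroup.relIndex_eq_one]
    by_contra hne
    obtain ⟨r, hr, hrd⟩ := Nat.exists_prime_and_dvd hne
    have h1 : r ∣ Nat.card H := hrd.trans (Subgroup.relIndex_dvd_card _ _)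
    have hrα := hHnum r hr h1
    have h2 : r ∣ (commutator ↥M).index := hrd.trans (Subgroup.relIndex_dvd_index_of_normal _ _)
    exact sigma_not_dvd_index_commutator hG hM (alpha_subset_sigma hG hM hrα) h2
  have hcomm : ⁅H, R⁆ = H :=
    le_antisymm (Subgroup.commutator_le_left H R) (le_commutator_of_le_derived hHR hinf hHle)
  rw [hcomm, hHR] at hmain
  obtain ⟨A, B, h1, h2, h3, h4, h5, h6, h7, h8⟩ := hmain
  apply PL1_of_top
  refine ⟨A, B, h1, h2, le_top, h4, h5, h6, h7, ?_⟩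
  rw [← Subgroup.relIndex_mul_relIndex B H ⊤ h3 le_top]
  apply Nat.Coprime.mul_left h8
  rw [Subgroup.relIndex_top_right, Nat.coprime_comm, Nat.Prime.coprime_iff_not_dvd hp.out]
  exact hidx p hp.out hpα

/-- Bender–Glauberman, Corollary 10.7(a) -/
theorem corollary_10_7a (hG : IsMinSimpleOddOrder G) (p : ℕ) [hp : Fact p.Prime] (H : Subgroup G)
    (hH : H ≠ ⊤) : PLengthLE p 1 ↥H := by
  obtain ⟨M, hM, hHM⟩ := exists_coatom_ge hH
  have : Group.IsSolvable ↥M := solvable_of_ne_top hG hM.1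
  have hPL : PL1 p M ⊥ M := by
    by_cases hr : PRankLE p 2 ↥M
    · exact PL1_of_top (PL1_of_pLengthLE
        (Cfsg.Agent.Lib.Helper4.Rk2.pLengthLE_one_of_prankLE (odd_card_sub hG M) hr))
    · exact pl1_alpha hG hM ⟨hp.out, hr⟩
  exact pLengthLE_of_PL1 (PL1.sub hPL le_rfl hHM) le_rfl

end main

end Cfsg.Agent.Lib.Lead.BG10
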