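import Mathlib
import Cfsg.Agent.Lib.Lead.BG10i
import Cfsg.Agent.Lib.Lead.Focal

set_option autoImplicit false

/-! Bender–Glauberman §10, part j: Corollary 10.7(b),(d),(e),(f): `N(P)` controls fusion in a
Sylow `p`-subgroup `P`, and `P = [P, V]`. -/

namespace Cfsg.Agent.Lib.Lead.BG10

open Cfsg Cfsg.Agent.Lib.Lead Cfsg.Agent.Lib.Helper7 Cfsg.Agent.Lib.Helper4
open Cfsg.Agent.Lib.Helper4.BG7 Cfsg.Agent.Lib.Helper4.BG76 Cfsg.Agent.Lib.Helper4.BG8
open Cfsg.Agent.Lib.Helper4.BG9 Cfsg.Agent.Lib.Lead.BG95 Cfsg.Agent.Lib.Helper4.ThreeStep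
open Cfsg.Agent.Lib.Helper4.ZP Cfsg.Agent.Lib.Helper6
open scoped commutatorElement

universe u

variable {G : Type u} [Group G] [Finite G]

/-- `p`-length one factorization at the subgroup level -/
theorem exists_mul_of_plength_one {p : ℕ} [Fact p.Prime] {H P : Subgroup G}
    (hpl : PLengthLE p 1 ↥H) (hP : SylIn p H P) {d : G} (hd : d ∈ H) :
    ∃ k ∈ cG p H, ∃ n ∈ H ⊓ Subgroup.normalizer (P : Set G), d = k * n := by
  obtain ⟨T, hT⟩ := SylIn.exists_sylow hP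
  obtain ⟨h1, -, h3⟩ := plength_one_frattini p hpl T
  have hU₁n : (upperPSeries p ↥H 1).1.Normal := (upperPSeries p ↥H 1).2
  have hU₁ : (upperPSeries p ↥H 1).1 ≤ pPrimeCore p ↥H := le_pPrimeCore hU₁n h1
  have hd' : (⟨d, hd⟩ : ↥H) ∈ (upperPSeries p ↥H 1).1 ⊔
      Subgroup.normalizer ((T : Subgroup ↥H) : Set ↥H) := by
    rw [h3]; trivial
  rw [← SetLike.mem_coe, Subgroup.normal_mul] at hd'
  obtain ⟨k, hk, n, hn, hkn⟩ := Set.mem_mul.mp hd'
  refine ⟨(k : G), ⟨k, hU₁ hk, rfl⟩, (n : G), ⟨n.2, ?_⟩, ?_⟩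
  · rw [← hT]
    exact Subgroup.le_normalizer_map H.subtype ⟨n, hn, rfl⟩
  · have := congrArg Subtype.val hkn
    simpa using this.symm

/-- Corollary 10.7(d), strong form: `N(P)` controls fusion in `P` -/
theorem sylow_control (hG : IsMinSimpleOddOrder G) {p : ℕ} [hp : Fact p.Prime] (P : Sylow p G)
    {Q : Subgroup G} (hQP : Q ≤ (P : Subgroup G)) {x : G} (hx : cj x Q ≤ (P : Subgroup G)) :
    ∃ y ∈ Subgroup.normalizer ((P : Subgroup G) : Set G), ∀ a ∈ Q, y * a * y⁻¹ = x * a * x⁻¹ := by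
  by_cases hP1 : (P : Subgroup G) = ⊥
  · refine ⟨1, Subgroup.one_mem _, fun a ha => ?_⟩
    have h1 : a = 1 := by
      have := hQP ha
      rw [hP1, Subgroup.mem_bot] at this
      exact this
    rw [h1]; group
  have hPp : IsPGroup p ↥(P : Subgroup G) := P.isPGroup'
  have hPtop := isPGroup_ne_top hG hPp
  have hNne := normalizer_ne_top hG hP1 hPtop
  obtain ⟨M, hM, hNM⟩ := exists_coatom_ge hNne
  have d : SigmaData M p (P : Subgroup G) :=
    ⟨hM, Subgroup.le_normalizer.trans hNM, ⟨P, rfl⟩, hNM, hP1⟩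
  obtain ⟨m, hm, c, hc, e⟩ := d.fusion_in_sylow hG hQP hx
  have hpl : PLengthLE p 1 ↥M := corollary_10_7a hG p M hM.1
  obtain ⟨k, hk, n, hn, e2⟩ := exists_mul_of_plength_one hpl d.sylIn hm
  refine ⟨n, hn.2, fun a ha => ?_⟩
  have hca : c * a * c⁻¹ = a := by
    have := Subgroup.mem_centralizer_iff.mp hc a ha
    rw [← this, mul_inv_cancel_right]
  have hbP : n * a * n⁻¹ ∈ (P : Subgroup G) :=
    (Subgroup.mem_normalizer_iff.mp hn.2 a).mp (hQP ha)
  have hxa : x * a * x⁻¹ = k * (n * a * n⁻¹) * k⁻¹ := by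
    rw [e, e2]
    calc k * n * c * a * (k * n * c)⁻¹ = k * (n * (c * a * c⁻¹) * n⁻¹) * k⁻¹ := by group
      _ = k * (n * a * n⁻¹) * k⁻¹ := by rw [hca]
  have hkbP : k * (n * a * n⁻¹) * k⁻¹ ∈ (P : Subgroup G) := by
    rw [← hxa]; exact hx ⟨a, ha, rfl⟩
  have hcomm : k * (n * a * n⁻¹) * k⁻¹ * (n * a * n⁻¹)⁻¹ ∈ (P : Subgroup G) ⊓ cG p M := by
    refine ⟨Subgroup.mul_mem _ hkbP (Subgroup.inv_mem _ hbP), ?_⟩
    have hbM : n * a * n⁻¹ ∈ M := d.hPM hbP
    have h1 : (n * a * n⁻¹) * k⁻¹ * (n * a * n⁻¹)⁻¹ ∈ cG p M :=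
      (Subgroup.mem_normalizer_iff.mp (le_normalizer_cG p M hbM) k⁻¹).mp (Subgroup.inv_mem _ hk)
    have e3 : k * (n * a * n⁻¹) * k⁻¹ * (n * a * n⁻¹)⁻¹ =
        k * ((n * a * n⁻¹) * k⁻¹ * (n * a * n⁻¹)⁻¹) := by group
    rw [e3]
    exact Subgroup.mul_mem _ hk h1
  rw [isPGroup_inf_coprime_eq_bot (card_cG_coprime p M) hPp, Subgroup.mem_bot] at hcomm
  have h4 : k * (n * a * n⁻¹) * k⁻¹ = n * a * n⁻¹ := by
    have := mul_eq_one_iff_eq_inv.mp hcomm
    rw [inv_inv] at this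
    exact this
  rw [hxa, h4]

theorem cj_zpowers_le {g x : G} {P : Subgroup G} (h : g * x * g⁻¹ ∈ P) :
    cj g (Subgroup.zpowers x) ≤ P := by
  rintro _ ⟨y, hy, rfl⟩
  obtain ⟨j, rfl⟩ := Subgroup.mem_zpowers_iff.mp hy
  have : (MulAut.conj g).toMonoidHom (x ^ j) = (g * x * g⁻¹) ^ j := by
    rw [map_zpow]; rfl
  rw [this]
  exact Subgroup.zpow_mem _ h j

/-- Corollary 10.7(b) -/
theorem sylow_eq_commutator (hG : IsMinSimpleOddOrder G) {p : ℕ} [hp : Fact p.Prime]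
    (P : Sylow p G) {V : Subgroup G}
    (hVN : V ≤ Subgroup.normalizer ((P : Subgroup G) : Set G))
    (hinf : (P : Subgroup G) ⊓ V = ⊥)
    (hmul : ∀ m ∈ Subgroup.normalizer ((P : Subgroup G) : Set G),
      ∃ a ∈ (P : Subgroup G), ∃ b ∈ V, m = a * b) :
    (P : Subgroup G) = ⁅(P : Subgroup G), V⁆ ∧
      (P : Subgroup G) ≤ ⁅Subgroup.normalizer ((P : Subgroup G) : Set G),
        Subgroup.normalizer ((P : Subgroup G) : Set G)⁆ := by
  by_cases hP1 : (P : Subgroup G) = ⊥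
  · rw [hP1]
    exact ⟨(Subgroup.commutator_bot_left V).symm, bot_le⟩
  have hPp : IsPGroup p ↥(P : Subgroup G) := P.isPGroup'
  have hPtop := isPGroup_ne_top hG hPp
  set N := Subgroup.normalizer ((P : Subgroup G) : Set G) with hN
  have hNne : N ≠ ⊤ := normalizer_ne_top hG hP1 hPtop
  have hPN : (P : Subgroup G) ≤ N := Subgroup.le_normalizer
  have hctl : ∀ x ∈ P, ∀ g : G, g * x * g⁻¹ ∈ P → ∃ n ∈ N, n * x * n⁻¹ = g * x * g⁻¹ := by
    intro x hx g hgx
    obtain ⟨y, hy, hya⟩ := sylow_control hG P (Q := Subgroup.zpowers x)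
      (Subgroup.zpowers_le.mpr hx) (cj_zpowers_le hgx)
    exact ⟨y, hy, hya x (Subgroup.mem_zpowers x)⟩
  have h1 := commutator_inf_sylow_eq_of_control P N hPN hctl
  have h2 : commutator G = ⊤ := by rw [commutator_def]; exact commutator_eq_top hG
  rw [h2, top_inf_eq] at h1
  have hder : (P : Subgroup G) ≤ ⁅N, N⁆ := by
    rw [h1]; exact inf_le_left
  refine ⟨?_, hder⟩
  apply le_antisymm _ (commutator_le_left_of_le_normalizer _ V hVN)
  haveI : Group.IsSolvable ↥N := solvable_of_ne_top hG hNne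
  set H : Subgroup ↥N := (P : Subgroup G).subgroupOf N with hH
  set R : Subgroup ↥N := V.subgroupOf N with hR
  haveI hHn : H.Normal := Subgroup.normal_subgroupOf_of_le_normalizer le_rfl
  have hHR : H ⊔ R = ⊤ := by
    rw [eq_top_iff]
    rintro ⟨m, hm⟩ -
    obtain ⟨a, ha, b, hb, e⟩ := hmul m hm
    have h3 : (⟨m, hm⟩ : ↥N) = ⟨a, hPN ha⟩ * ⟨b, hVN hb⟩ := Subtype.ext e
    rw [h3]
    exact Subgroup.mul_mem_sup (Subgroup.mem_subgroupOf.mpr ha) (Subgroup.mem_subgroupOf.mpr hb)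
  have hinf' : H ⊓ R = ⊥ := by
    rw [Subgroup.eq_bot_iff_forall]
    rintro ⟨x, hxN⟩ ⟨hx1, hx2⟩
    have : x ∈ (P : Subgroup G) ⊓ V :=
      ⟨Subgroup.mem_subgroupOf.mp hx1, Subgroup.mem_subgroupOf.mp hx2⟩
    rw [hinf, Subgroup.mem_bot] at this
    exact Subtype.ext this
  have hHle : H ≤ commutator ↥N := by
    rintro ⟨a, haN⟩ ha
    have haP : a ∈ (P : Subgroup G) := Subgroup.mem_subgroupOf.mp ha
    have h3 := hder haP
    rw [← Subgroup.map_subtype_commutator] at h3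
    obtain ⟨y, hy, hya⟩ := h3
    have : y = ⟨a, haN⟩ := Subtype.ext hya
    rw [← this]; exact hy
  have h5 := le_commutator_of_le_derived hHR hinf' hHle
  have h6 := Subgroup.map_mono (f := N.subtype) h5
  rw [Subgroup.map_commutator, hH, hR, map_subgroupOf_eq hPN, map_subgroupOf_eq hVN] at h6
  exact h6

/-- `Q` normal in `N(P)` is weakly closed in `P` -/
theorem weakly_closed (hG : IsMinSimpleOddOrder G) {p : ℕ} [hp : Fact p.Prime] (P : Sylow p G)
    {Q : Subgroup G} (hQP : Q ≤ (P : Subgroup G))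
    (hNQ : Subgroup.normalizer ((P : Subgroup G) : Set G) ≤ Subgroup.normalizer (Q : Set G))
    {g : G} (hg : cj g Q ≤ (P : Subgroup G)) : cj g Q = Q := by
  obtain ⟨y, hy, hya⟩ := sylow_control hG P hQP hg
  have h1 : cj g Q = cj y Q := by
    ext z
    constructor
    · rintro ⟨a, ha, rfl⟩
      exact ⟨a, ha, by show y * a * y⁻¹ = g * a * g⁻¹; exact hya a ha⟩
    · rintro ⟨a, ha, rfl⟩
      exact ⟨a, ha, by show g * a * g⁻¹ = y * a * y⁻¹; exact (hya a ha).symm⟩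
  rw [h1]
  exact mem_normalizer_iff_cj.mp (hNQ hy)

/-- Corollary 10.7(d),(e),(f) -/
theorem corollary_10_7def (hG : IsMinSimpleOddOrder G) (p : ℕ) [hp : Fact p.Prime]
    (P : Sylow p G) :
    (∀ (Q : Subgroup G) (x : G), Q ≤ (P : Subgroup G) →
        Q.map (MulAut.conj x).toMonoidHom ≤ (P : Subgroup G) →
        ∃ y ∈ Subgroup.normalizer ((P : Subgroup G) : Set G),
          Q.map (MulAut.conj x).toMonoidHom = Q.map (MulAut.conj y).toMonoidHom) ∧
      (∀ Q : Subgroup G, Q ≤ (P : Subgroup G) →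
        ¬ p ∣ ((P : Subgroup G) ⊓ Subgroup.normalizer (Q : Set G)).relIndex
          (Subgroup.normalizer (Q : Set G))) ∧
      (∀ (R Q : Subgroup G), IsPGroup p R → Q ≤ (P : Subgroup G) ⊓ R →
        Subgroup.normalizer ((P : Subgroup G) : Set G) ≤ Subgroup.normalizer (Q : Set G) →
        Subgroup.normalizer (R : Set G) ≤ Subgroup.normalizer (Q : Set G)) := by
  have hPp : IsPGroup p ↥(P : Subgroup G) := P.isPGroup'
  refine ⟨?_, ?_, ?_⟩
  · intro Q x hQP hx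
    obtain ⟨y, hy, hya⟩ := sylow_control hG P hQP (x := x) hx
    refine ⟨y, hy, ?_⟩
    ext z
    constructor
    · rintro ⟨a, ha, rfl⟩
      exact ⟨a, ha, by show y * a * y⁻¹ = x * a * x⁻¹; exact hya a ha⟩
    · rintro ⟨a, ha, rfl⟩
      exact ⟨a, ha, by show x * a * x⁻¹ = y * a * y⁻¹; exact (hya a ha).symm⟩
  · intro Q hQP
    set NQ := Subgroup.normalizer (Q : Set G) with hNQ
    have hQp : IsPGroup p ↥Q := hPp.to_le hQP
    have hPNp : IsPGroup p ↥((P : Subgroup G) ⊓ NQ) := hPp.to_le inf_le_left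
    obtain ⟨S, hPS, hS⟩ := exists_sylIn_ge (inf_le_right : (P : Subgroup G) ⊓ NQ ≤ NQ) hPNp
    have hQS : Q ≤ S := hS.normal_le Subgroup.le_normalizer le_rfl hQp
    obtain ⟨g, hg⟩ : ∃ g : G, cj g S ≤ (P : Subgroup G) := by
      obtain ⟨P', hP'⟩ := hS.2.1.exists_le_sylow
      obtain ⟨g, rfl⟩ := MulAction.exists_smul_eq G P' P
      refine ⟨g, ?_⟩
      rintro _ ⟨s, hs, rfl⟩
      show (MulAut.conj g) s ∈ ((g • P' : Sylow p G) : Subgroup G)
      rw [Sylow.smul_def, Sylow.pointwise_smul_def]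
      exact Subgroup.smul_mem_pointwise_smul _ _ _ (hP' hs)
    have hgQ : cj g Q ≤ (P : Subgroup G) := (cj_mono g hQS).trans hg
    obtain ⟨y, hy, hya⟩ := sylow_control hG P hQP hgQ
    set g' := y⁻¹ * g with hg'
    have hg'C : g' ∈ Subgroup.centralizer (Q : Set G) := by
      rw [Subgroup.mem_centralizer_iff]
      intro a ha
      have := hya a ha
      calc a * g' = y⁻¹ * (y * a * y⁻¹) * g := by rw [hg']; group
        _ = y⁻¹ * (g * a * g⁻¹) * g := by rw [this]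
        _ = g' * a := by rw [hg']; group
    have hg'N : g' ∈ NQ := Subgroup.centralizer_le_normalizer _ hg'C
    have h1 : cj g' S ≤ (P : Subgroup G) := by
      rw [hg', cj_mul]
      have h2 : cj y⁻¹ (P : Subgroup G) = (P : Subgroup G) :=
        mem_normalizer_iff_cj.mp (Subgroup.inv_mem _ hy)
      rw [← h2]
      exact cj_mono _ hg
    have h2 : cj g' S ≤ NQ := cj_le_of_mem hg'N hS.1
    have h3 : cj g' S = (P : Subgroup G) ⊓ NQ := by
      apply Subgroup.eq_of_le_of_card_ge (le_inf h1 h2)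
      rw [Subgroup.card_map_of_injective (MulAut.conj g').injective]
      exact Subgroup.card_le_of_le hPS
    have h4 : SylIn p NQ (cj g' S) := hS.cj hg'N
    rw [h3] at h4
    exact h4.2.2
  · intro R Q hR hQ hNPQ g hg
    have hQP : Q ≤ (P : Subgroup G) := hQ.trans inf_le_left
    have hQR : Q ≤ R := hQ.trans inf_le_right
    obtain ⟨h, hh⟩ : ∃ h : G, cj h R ≤ (P : Subgroup G) := by
      obtain ⟨P', hP'⟩ := hR.exists_le_sylow
      obtain ⟨h, rfl⟩ := MulAction.exists_smul_eq G P' P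
      refine ⟨h, ?_⟩
      rintro _ ⟨s, hs, rfl⟩
      show (MulAut.conj h) s ∈ ((h • P' : Sylow p G) : Subgroup G)
      rw [Sylow.smul_def, Sylow.pointwise_smul_def]
      exact Subgroup.smul_mem_pointwise_smul _ _ _ (hP' hs)
    have hgR : cj g R = R := mem_normalizer_iff_cj.mp hg
    have h1 : cj h Q = Q := weakly_closed hG P hQP hNPQ ((cj_mono h hQR).trans hh)
    have h2 : cj (h * g) Q = Q := by
      apply weakly_closed hG P hQP hNPQ
      rw [cj_mul]
      refine (cj_mono h ?_).trans hh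
      rw [← hgR]
      exact cj_mono g hQR
    rw [mem_normalizer_iff_cj]
    have h3 : cj h⁻¹ Q = Q := by
      conv_lhs => rw [← h1]
      exact cj_inv_cj h Q
    calc cj g Q = cj h⁻¹ (cj (h * g) Q) := by rw [← cj_mul]; congr 1; group
      _ = Q := by rw [h2, h3]

end Cfsg.Agent.Lib.Lead.BG10
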