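import Mathlib
import Cfsg.Agent.Lib.Lead.BG10j
import Cfsg.Agent.Lib.Lead.FrobNPC5

set_option autoImplicit false

/-! Bender–Glauberman §10, part l: internal normal `p`-complements, the intersection of the
`p'`-cores over the primes outside a set, and a nilpotency criterion. -/

namespace Cfsg.Agent.Lib.Lead.BG10

open Cfsg Cfsg.Agent.Lib.Lead Cfsg.Agent.Lib.Helper7 Cfsg.Agent.Lib.Helper4
open Cfsg.Agent.Lib.Helper4.BG7 Cfsg.Agent.Lib.Helper4.BG76 Cfsg.Agent.Lib.Helper4.BG8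
open Cfsg.Agent.Lib.Helper4.BG9 Cfsg.Agent.Lib.Lead.BG95 Cfsg.Agent.Lib.Helper4.ThreeStep
open Cfsg.Agent.Lib.Helper4.ZP Cfsg.Agent.Lib.Helper6

universe u v

section typelevel

variable {Z : Type u} [Group Z] [Finite Z] {p : ℕ} [hp : Fact p.Prime]

/-- a normal subgroup of order prime to `p` and `p`-power index is a normal `p`-complement -/
theorem hasNormalPComplement_of_normal (N : Subgroup Z) [hNn : N.Normal]
    (hNc : (Nat.card N).Coprime p) {k : ℕ} (hk : N.index = p ^ k) : HasNormalPComplement p Z := by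
  obtain ⟨P⟩ : Nonempty (Sylow p Z) := inferInstance
  refine ⟨P, N, hNn, ?_⟩
  have h1 := N.card_mul_index
  rw [hk] at h1
  have hnd : ¬ p ∣ Nat.card N := by
    rw [← Nat.Prime.coprime_iff_not_dvd hp.out, Nat.coprime_comm]; exact hNc
  have h3 : (Nat.card Z).factorization p = k := by
    rw [← h1, Nat.factorization_mul Nat.card_pos.ne' (pow_ne_zero _ hp.out.ne_zero),
      Finsupp.add_apply, hp.out.factorization_pow, Finsupp.single_eq_same,
      Nat.factorization_eq_zero_of_not_dvd hnd, zero_add]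
  have h2 := P.card_eq_multiplicity
  rw [h3] at h2
  apply Subgroup.isComplement'_of_coprime
  · rw [h2]; exact h1
  · rw [h2]; exact Nat.Coprime.pow_right k hNc

theorem hasNormalPComplement_of_equiv {Z' : Type v} [Group Z'] [Finite Z'] (e : Z ≃* Z')
    (h : HasNormalPComplement p Z) : HasNormalPComplement p Z' := by
  obtain ⟨P, N, hNn, hc⟩ := h
  obtain ⟨k, hk⟩ := index_eq_pow_of_isComplement' P N hc
  have hcop := card_coprime_of_isComplement' P N hc
  haveI : (N.map e.toMonoidHom).Normal := hNn.map _ e.surjective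
  apply hasNormalPComplement_of_normal (N.map e.toMonoidHom) (k := k)
  · rw [Subgroup.card_map_of_injective e.injective]; exact hcop
  · rw [← hk]
    exact Subgroup.index_map_equiv N e

end typelevel

section sub

variable {G : Type u} [Group G] [Finite G]

/-- `Y` has a normal `p`-complement (internal form) -/
def NPC (p : ℕ) (Y : Subgroup G) : Prop := ∃ k : ℕ, (cG p Y).relIndex Y = p ^ k

theorem relIndex_cG (p : ℕ) (Y : Subgroup G) :
    (cG p Y).relIndex Y = (pPrimeCore p ↥Y).index := by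
  unfold cG Subgroup.relIndex Subgroup.subgroupOf
  rw [Subgroup.comap_map_eq_self_of_injective Y.subtype_injective]

theorem npc_of_hasNormalPComplement {p : ℕ} [hp : Fact p.Prime] {Y : Subgroup G}
    (h : HasNormalPComplement p ↥Y) : NPC p Y := by
  obtain ⟨P, N, hNn, hc⟩ := h
  obtain ⟨k, hk⟩ := index_eq_pow_of_isComplement' P N hc
  have hcop := card_coprime_of_isComplement' P N hc
  have hle : N ≤ pPrimeCore p ↥Y := le_pPrimeCore hNn hcop
  have hd : (pPrimeCore p ↥Y).index ∣ N.index := Subgroup.index_dvd_of_le hle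
  rw [hk] at hd
  obtain ⟨j, -, hj⟩ := (Nat.dvd_prime_pow hp.out).mp hd
  exact ⟨j, by rw [relIndex_cG, hj]⟩

theorem hasNormalPComplement_of_npc {p : ℕ} [hp : Fact p.Prime] {Y : Subgroup G}
    (h : NPC p Y) : HasNormalPComplement p ↥Y := by
  obtain ⟨k, hk⟩ := h
  rw [relIndex_cG] at hk
  exact hasNormalPComplement_of_normal (pPrimeCore p ↥Y) (pPrimeCore_coprime p) hk

theorem le_normalizer_inf_of_le {C H : Subgroup G} (hC : H ≤ Subgroup.normalizer (C : Set G)) :
    H ≤ Subgroup.normalizer ((C ⊓ H : Subgroup G) : Set G) := by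
  intro g hg
  rw [Subgroup.mem_normalizer_iff]
  intro x
  have h1 := Subgroup.mem_normalizer_iff.mp (hC hg) x
  constructor
  · rintro ⟨hxC, hxH⟩
    exact ⟨h1.mp hxC, H.mul_mem (H.mul_mem hg hxH) (H.inv_mem hg)⟩
  · rintro ⟨hxC, hxH⟩
    refine ⟨h1.mpr hxC, ?_⟩
    have h2 := H.mul_mem (H.mul_mem (H.inv_mem hg) hxH) hg
    have e : g⁻¹ * (g * x * g⁻¹) * g = x := by group
    rwa [e] at h2

theorem NPC.mono {p : ℕ} [hp : Fact p.Prime] {Y W : Subgroup G} (h : NPC p Y) (hWY : W ≤ Y) :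
    NPC p W := by
  obtain ⟨k, hk⟩ := h
  have hYn : Y ≤ Subgroup.normalizer (cG p Y : Set G) := le_normalizer_cG p Y
  have hWn : W ≤ Subgroup.normalizer (cG p Y : Set G) := hWY.trans hYn
  have h1 : cG p Y ⊓ W ≤ cG p W := by
    apply le_cG inf_le_right (le_normalizer_inf_of_le hWn)
    exact Nat.Coprime.coprime_dvd_left (Subgroup.card_dvd_of_le inf_le_left) (card_cG_coprime p Y)
  have h2 : (cG p W).relIndex W ∣ (cG p Y ⊓ W).relIndex W := Subgroup.relIndex_dvd_of_le_left W h1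
  rw [Subgroup.inf_relIndex_right] at h2
  have h3 : (cG p Y).relIndex W ∣ (cG p Y).relIndex Y := by
    have h4 := relIndex_sup_of_le_normalizer W (cG p Y) hWn
    rw [← h4]
    exact Cfsg.Agent.Lib.Helper7.PSer.relIndex_dvd_of_between le_rfl le_sup_right
      (sup_le hWY (cG_le p Y))
  have h5 := h2.trans h3
  rw [hk] at h5
  obtain ⟨j, -, hj⟩ := (Nat.dvd_prime_pow hp.out).mp h5
  exact ⟨j, hj⟩

theorem npc_of_coprime {p : ℕ} {Y : Subgroup G} (h : (Nat.card Y).Coprime p) : NPC p Y := by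
  have h1 : Y ≤ cG p Y := le_cG le_rfl Subgroup.le_normalizer h
  exact ⟨0, by rw [pow_zero, Subgroup.relIndex_eq_one]; exact h1⟩

/-- the intersection of the `p'`-cores of `Y` over the primes `p ∉ τ` -/
def KK (τ : Set ℕ) (Y : Subgroup G) : Subgroup G :=
  Y ⊓ ⨅ p : {p : ℕ // p.Prime ∧ p ∉ τ}, cG p.1 Y

variable {τ : Set ℕ} {Y : Subgroup G}

theorem KK_le : KK τ Y ≤ Y := inf_le_left

theorem KK_le_cG {p : ℕ} (hp : p.Prime) (hpτ : p ∉ τ) : KK τ Y ≤ cG p Y :=
  inf_le_right.trans (iInf_le (fun q : {p : ℕ // p.Prime ∧ p ∉ τ} => cG q.1 Y) ⟨p, hp, hpτ⟩)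

theorem card_KK (q : ℕ) (hq : q.Prime) (hd : q ∣ Nat.card (KK τ Y)) : q ∈ τ := by
  by_contra hqτ
  have h1 := Subgroup.card_dvd_of_le (KK_le_cG (Y := Y) hq hqτ)
  have hc := card_cG_coprime q Y
  exact (Nat.Prime.coprime_iff_not_dvd hq).mp hc.symm (hd.trans h1)

theorem le_KK_of_pgroup {q : ℕ} [hq : Fact q.Prime] (hqτ : q ∈ τ)
    (hnpc : ∀ p : ℕ, p.Prime → p ∉ τ → NPC p Y) {Q : Subgroup G} (hQ : IsPGroup q Q)
    (hQY : Q ≤ Y) : Q ≤ KK τ Y := by
  refine le_inf hQY (le_iInf ?_)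
  rintro ⟨p, hp, hpτ⟩
  haveI : Fact p.Prime := ⟨hp⟩
  obtain ⟨k, hk⟩ := hnpc p hp hpτ
  have hpq : p ≠ q := fun h => hpτ (h ▸ hqτ)
  have hcop : (Nat.card Q).Coprime p := by
    obtain ⟨j, hj⟩ := IsPGroup.iff_card.mp hQ
    rw [hj]
    exact Nat.Coprime.pow_left j ((Nat.coprime_primes hq.out hp).mpr hpq.symm)
  exact coprime_le_of_pow_index hcop hQY (cG_le p Y) (le_normalizer_cG p Y) hk

theorem relIndex_KK {q : ℕ} (hq : q.Prime) (hqτ : q ∈ τ)
    (hnpc : ∀ p : ℕ, p.Prime → p ∉ τ → NPC p Y) : ¬ q ∣ (KK τ Y).relIndex Y := by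
  haveI := Fact.mk hq
  obtain ⟨Q, -, hQ⟩ := exists_sylIn_ge (p := q) (bot_le : (⊥ : Subgroup G) ≤ Y) IsPGroup.of_bot
  have hQK := le_KK_of_pgroup hqτ hnpc hQ.2.1 hQ.1
  intro hd
  apply hQ.2.2
  rw [← Subgroup.relIndex_mul_relIndex Q (KK τ Y) Y hQK KK_le]
  exact Dvd.dvd.mul_left hd _

theorem normalizer_le_normalizer_KK :
    Subgroup.normalizer (Y : Set G) ≤ Subgroup.normalizer (KK τ Y : Set G) := by
  intro g hg
  rw [Subgroup.mem_normalizer_iff]
  intro x
  have hY := Subgroup.mem_normalizer_iff.mp hg x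
  have hc : ∀ p : {p : ℕ // p.Prime ∧ p ∉ τ}, x ∈ cG p.1 Y ↔ g * x * g⁻¹ ∈ cG p.1 Y := fun p =>
    Subgroup.mem_normalizer_iff.mp (normalizer_le_normalizer_cG p.1 Y hg) x
  simp only [KK, Subgroup.mem_inf, Subgroup.mem_iInf]
  constructor
  · rintro ⟨h1, h2⟩
    exact ⟨hY.mp h1, fun p => (hc p).mp (h2 p)⟩
  · rintro ⟨h1, h2⟩
    exact ⟨hY.mpr h1, fun p => (hc p).mpr (h2 p)⟩

/-- a group with normal `p`-complements for all primes `p` is nilpotent -/
theorem isNilpotent_of_npc (h : ∀ p : ℕ, p.Prime → NPC p Y) : Group.IsNilpotent ↥Y := by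
  apply ((Group.isNilpotent_of_finite_tfae (G := ↥Y)).out 0 3).mpr
  intro r hr R
  have hnpc : ∀ p : ℕ, p.Prime → p ∉ ({r} : Set ℕ) → NPC p Y := fun p hp _ => h p hp
  set T := KK ({r} : Set ℕ) Y with hT
  have hRT : (R : Subgroup ↥Y).map Y.subtype ≤ T :=
    le_KK_of_pgroup (Set.mem_singleton r) hnpc (R.isPGroup'.map _) (Subgroup.map_subtype_le _)
  have hTp : IsPGroup r ↥T := by
    have h1 : ∀ {d : ℕ}, d.Prime → d ∣ Nat.card ↥T → d = r := fun {d} hd hdd =>
      Set.mem_singleton_iff.mp (card_KK d hd hdd)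
    have h2 := Nat.eq_prime_pow_of_unique_prime_dvd Nat.card_pos.ne' h1
    exact IsPGroup.of_card h2
  have hTY : T ≤ Y := KK_le
  have hle : (R : Subgroup ↥Y) ≤ T.subgroupOf Y := by
    intro x hx
    rw [Subgroup.mem_subgroupOf]
    exact hRT ⟨x, hx, rfl⟩
  have heq : T.subgroupOf Y = (R : Subgroup ↥Y) := R.is_maximal' hTp.comap_subtype hle
  rw [← heq]
  exact Subgroup.normal_subgroupOf_of_le_normalizer
    (Subgroup.le_normalizer.trans normalizer_le_normalizer_KK)

/-- if `Y` has normal `p`-complements for all `p ∉ τ`, then `Y` has a nilpotent Hall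
`τ'`-subgroup (a complement of the normal Hall `τ`-subgroup `KK τ Y`) -/
theorem exists_nilpotent_hall
    (hnpc : ∀ p : ℕ, p.Prime → p ∉ τ → NPC p Y) :
    ∃ H : Subgroup G, IsPiHallOf {q | q.Prime ∧ q ∉ τ} H Y ∧ Group.IsNilpotent ↥H := by
  set K := KK τ Y with hK
  have hKY : K ≤ Y := KK_le
  have hYK : Y ≤ Subgroup.normalizer (K : Set G) :=
    Subgroup.le_normalizer.trans normalizer_le_normalizer_KK
  haveI hKn : (K.subgroupOf Y).Normal := Subgroup.normal_subgroupOf_of_le_normalizer hYK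
  have hcard : Nat.card (K.subgroupOf Y) = Nat.card K := card_subgroupOf_of_le hKY
  have hcop : (Nat.card (K.subgroupOf Y)).Coprime (K.subgroupOf Y).index := by
    apply Nat.coprime_of_dvd
    intro k hk hk1 hk2
    rw [hcard] at hk1
    exact relIndex_KK hk (card_KK k hk hk1) hnpc hk2
  obtain ⟨H₀, hH₀⟩ := Subgroup.exists_right_complement'_of_coprime hcop
  set H : Subgroup G := H₀.map Y.subtype with hH
  have hHY : H ≤ Y := Subgroup.map_subtype_le _
  have hHcard : Nat.card H = K.relIndex Y := by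
    rw [hH, Subgroup.card_map_of_injective Y.subtype_injective]
    exact hH₀.symm.index_eq_card.symm
  have hHrel : H.relIndex Y = Nat.card K := by
    have h1 : H.relIndex Y = H₀.index := by
      rw [hH]
      unfold Subgroup.relIndex Subgroup.subgroupOf
      rw [Subgroup.comap_map_eq_self_of_injective Y.subtype_injective]
    rw [h1, hH₀.index_eq_card, hcard]
  have hHnum : ∀ q : ℕ, q.Prime → q ∣ Nat.card H → q ∉ τ := by
    intro q hq hd hqτ
    rw [hHcard] at hd
    exact relIndex_KK hq hqτ hnpc hd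
  refine ⟨H, ⟨hHY, fun q hq hd => ⟨hq, hHnum q hq hd⟩, ?_⟩, ?_⟩
  · rintro q hq ⟨-, hqτ⟩ hd
    rw [hHrel] at hd
    exact hqτ (card_KK q hq hd)
  · apply isNilpotent_of_npc
    intro p hp
    haveI : Fact p.Prime := ⟨hp⟩
    by_cases hpτ : p ∈ τ
    · apply npc_of_coprime
      rw [Nat.coprime_comm, Nat.Prime.coprime_iff_not_dvd hp]
      exact fun hd => hHnum p hp hd hpτ
    · exact (hnpc p hp hpτ).mono hHY

end sub

end Cfsg.Agent.Lib.Lead.BG10
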