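import Mathlib
import Cfsg.Agent.Lib.Lead.BG10l
import Cfsg.Agent.Lib.Helper4.NS4
import Cfsg.Agent.Lib.Helper4.NS1
import Cfsg.Agent.S1450

set_option autoImplicit false

/-! Bender–Glauberman §10, part m: Theorem 10.8 (`M_β`, nilpotent Hall `β(M)'`-subgroups, normal
`p`-complements). -/

namespace Cfsg.Agent.Lib.Lead.BG10

open Cfsg Cfsg.Agent.Lib.Lead Cfsg.Agent.Lib.Helper7 Cfsg.Agent.Lib.Helper4
open Cfsg.Agent.Lib.Helper4.BG7 Cfsg.Agent.Lib.Helper4.BG76 Cfsg.Agent.Lib.Helper4.BG8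
open Cfsg.Agent.Lib.Helper4.BG9 Cfsg.Agent.Lib.Lead.BG95 Cfsg.Agent.Lib.Helper4.ThreeStep
open Cfsg.Agent.Lib.Helper4.ZP Cfsg.Agent.Lib.Helper6

universe u

variable {G : Type u} [Group G] [Finite G]

/-- the property "some elementary abelian subgroup of order `p²` is maximal elementary abelian" -/
def HMax (p : ℕ) (R : Type u) [Group R] : Prop :=
  ∃ E : Subgroup R, IsElementaryAbelian p E ∧ Nat.card E = p ^ 2 ∧
    ∀ B : Subgroup R, IsElementaryAbelian p B → E ≤ B → B = E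

theorem hmax_of_subgroup {p : ℕ} {P A : Subgroup G} (hAP : A ≤ P) (hA : IsElementaryAbelian p A)
    (hAc : Nat.card A = p ^ 2)
    (hmax : ¬ ∃ B : Subgroup G, B ≤ P ∧ IsElementaryAbelian p B ∧ A < B) : HMax p ↥P := by
  refine ⟨A.subgroupOf P, elementary_subgroupOf hA, ?_, ?_⟩
  · rw [card_subgroupOf_of_le hAP, hAc]
  · intro B hB hEB
    by_contra hne
    apply hmax
    refine ⟨B.map P.subtype, Subgroup.map_subtype_le _, elementary_map_subtype hB, ?_⟩
    have hle : A ≤ B.map P.subtype := by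
      intro a ha
      exact ⟨⟨a, hAP ha⟩, hEB (Subgroup.mem_subgroupOf.mpr ha), rfl⟩
    refine lt_of_le_of_ne hle ?_
    intro h0
    apply hne
    ext ⟨b, hbP⟩
    rw [Subgroup.mem_subgroupOf]
    constructor
    · intro hb
      show b ∈ A
      rw [h0]
      exact ⟨⟨b, hbP⟩, hb, rfl⟩
    · intro hb
      have hb' : b ∈ A := hb
      rw [h0] at hb'
      obtain ⟨y, hy, hyb⟩ := hb'
      have : y = ⟨b, hbP⟩ := Subtype.ext hyb
      rw [← this]; exact hy

theorem hmax_sylow_of_not_ideal {p : ℕ} [hp : Fact p.Prime] (hr3 : ¬ PRankLE p 2 G)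
    (hni : ¬ IsIdealPrime p G) (T : Sylow p G) : HMax p ↥(T : Subgroup G) := by
  unfold IsIdealPrime at hni
  push Not at hni
  obtain ⟨P₁, A, hAP, hA, hAc, hmax⟩ := hni hp.out hr3
  have h1 : HMax p ↥(P₁ : Subgroup G) := hmax_of_subgroup hAP hA hAc (by
    rintro ⟨B, hBP, hB, hlt⟩
    exact hmax B hBP hB hlt)
  obtain ⟨g, hg, hgT⟩ := SylIn.conj (sylIn_of_sylow ⟨P₁, rfl⟩ le_top)
    (sylIn_of_sylow ⟨T, rfl⟩ (le_top : (T : Subgroup G) ≤ ⊤))
  have e : ↥(P₁ : Subgroup G) ≃* ↥(T : Subgroup G) :=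
    ((P₁ : Subgroup G).equivMapOfInjective (MulAut.conj g).toMonoidHom
      (MulAut.conj g).injective).trans (MulEquiv.subgroupCongr hgT)
  exact Cfsg.Agent.Lib.Helper4.NS.exists_max_of_equiv e h1

/-- the facts of Theorems 4.18 and 5.5 for a prime `p ∉ β(M)` -/
theorem facts_nonbeta (hG : IsMinSimpleOddOrder G) {M : Subgroup G} (hM : IsCoatom M) {p : ℕ}
    [hp : Fact p.Prime] (hpM : p ∣ Nat.card ↥M) (hpβ : p ∉ beta M) :
    (∀ q : ℕ, q.Prime → q ∣ (pPrimeCore p ↥M).index → q ≤ p) ∧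
      HasNormalPComplement p ↥(commutator ↥M) := by
  haveI : Group.IsSolvable ↥M := solvable_of_ne_top hG hM.1
  have hodd : Odd (Nat.card ↥M) := odd_card_sub hG M
  by_cases hr : PRankLE p 2 ↥M
  · obtain ⟨h1, -, h3, -⟩ := Cfsg.Agent.S1450.result hodd p hpM hr
    exact ⟨h1, h3⟩
  · have hpα : p ∈ alpha M := ⟨hp.out, hr⟩
    have hni : ¬ IsIdealPrime p G := fun h => hpβ ⟨hpα, h⟩
    have hr3 : ¬ PRankLE p 2 G := fun h =>
      hr (Rk2.prankLE_of_injective M.subtype M.subtype_injective h)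
    obtain ⟨-, P₀, d, -⟩ := exists_sigmaData_of_alpha hG hM hpα
    obtain ⟨T, hT⟩ := d.hPsyl
    obtain ⟨S, hS⟩ := SylIn.exists_sylow d.sylIn
    have hmaxT := hmax_sylow_of_not_ideal hr3 hni T
    have e : ↥(T : Subgroup G) ≃* ↥(S : Subgroup ↥M) :=
      (((S : Subgroup ↥M).equivMapOfInjective M.subtype M.subtype_injective).trans
        (MulEquiv.subgroupCongr (hS.trans hT.symm))).symm
    have hmaxS := Cfsg.Agent.Lib.Helper4.NS.exists_max_of_equiv e hmaxT
    have hrS : ¬ PRankLE p 2 ↥(S : Subgroup ↥M) := fun h =>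
      hr (Cfsg.Agent.Lib.Helper4.NS.prankLE_of_sylow S 2 h)
    have hp2 : p ≠ 2 := ne_two_of_odd hG d.p_dvd
    have hpl : PLengthLE p 1 ↥M := corollary_10_7a hG p M hM.1
    obtain ⟨h1, h2, h3, h4, h5⟩ := Cfsg.Agent.Lib.Helper4.NS.facts_of_max hp2 S hrS hmaxS hpl
    obtain ⟨g1, -, g3, -⟩ := Cfsg.Agent.Lib.Helper4.NS.structure_of_facts hodd p h1 h2 h3 h4 h5
    exact ⟨g1, g3⟩

theorem npc_commutator (hG : IsMinSimpleOddOrder G) {M : Subgroup G} (hM : IsCoatom M) {p : ℕ}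
    (hp : p.Prime) (hpβ : p ∉ beta M) : NPC p ⁅M, M⁆ := by
  haveI := Fact.mk hp
  by_cases hpM : p ∣ Nat.card ↥M
  · obtain ⟨-, h⟩ := facts_nonbeta hG hM hpM hpβ
    have e : ↥(commutator ↥M) ≃* ↥(⁅M, M⁆ : Subgroup G) :=
      ((commutator ↥M).equivMapOfInjective M.subtype M.subtype_injective).trans
        (MulEquiv.subgroupCongr (Subgroup.map_subtype_commutator M))
    exact npc_of_hasNormalPComplement (hasNormalPComplement_of_equiv e h)
  · apply npc_of_coprime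
    have h1 := Subgroup.card_dvd_of_le (Subgroup.commutator_le_self M)
    rw [Nat.coprime_comm, Nat.Prime.coprime_iff_not_dvd hp]
    exact fun h => hpM (h.trans h1)

theorem sigmaCore_le_commutator (hG : IsMinSimpleOddOrder G) {M : Subgroup G} (hM : IsCoatom M) :
    sigmaCore M ≤ ⁅M, M⁆ := by
  rw [← Subgroup.map_subtype_commutator]
  unfold sigmaCore
  apply Subgroup.map_mono
  rw [← Subgroup.relIndex_eq_one]
  by_contra hne
  obtain ⟨r, hr, hrd⟩ := Nat.exists_prime_and_dvd hne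
  have h1 : r ∣ Nat.card (piCore (sigma M) ↥M) := hrd.trans (Subgroup.relIndex_dvd_card _ _)
  have hrσ := isPiNum_card_piCore (sigma M) r hr h1
  have h2 : r ∣ (commutator ↥M).index := hrd.trans (Subgroup.relIndex_dvd_index_of_normal _ _)
  exact sigma_not_dvd_index_commutator hG hM hrσ h2

/-- Bender–Glauberman, Theorem 10.8 -/
theorem theorem_10_8 (hG : IsMinSimpleOddOrder G) {M : Subgroup G} (hM : IsCoatom M) :
    IsPiHallOf (beta M) (piCoreOf (beta M) M) M ∧ IsPiHall (beta M) (piCoreOf (beta M) M) ∧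
      (∃ H : Subgroup G, IsPiHallOf {q | q.Prime ∧ q ∉ beta M} H ⁅M, M⁆ ∧ Group.IsNilpotent H) ∧
      (∃ H : Subgroup G, IsPiHallOf {q | q.Prime ∧ q ∉ beta M} H (sigmaCore M) ∧
        Group.IsNilpotent H) ∧
      ∀ p : ℕ, p.Prime → p ∣ Nat.card M → p ∉ beta M →
        HasNormalPComplement p ↥⁅M, M⁆ ∧ HasNormalPComplement p ↥(sigmaCore M) ∧
        ∀ q : ℕ, q.Prime → q ∣ (pPrimeCore p ↥M).index → q ≤ p := by
  have hnpc : ∀ p : ℕ, p.Prime → p ∉ beta M → NPC p ⁅M, M⁆ := fun p hp hpβ =>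
    npc_commutator hG hM hp hpβ
  have hσle := sigmaCore_le_commutator hG hM
  have hnpcσ : ∀ p : ℕ, p.Prime → p ∉ beta M → NPC p (sigmaCore M) := fun p hp hpβ => by
    haveI := Fact.mk hp
    exact (hnpc p hp hpβ).mono hσle
  have hMM : (⁅M, M⁆ : Subgroup G) ≤ M := Subgroup.commutator_le_self M
  have hMn : M ≤ Subgroup.normalizer ((⁅M, M⁆ : Subgroup G) : Set G) :=
    le_inf (Subgroup.le_normalizer) (Subgroup.le_normalizer) |>.trans
      (normalizer_inf_le_normalizer_commutator M M)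
  set K := KK (beta M) ⁅M, M⁆ with hK
  have hKM : K ≤ M := KK_le.trans hMM
  have hKβ : K ≤ piCoreOf (beta M) M :=
    le_piCoreOf hKM (hMn.trans normalizer_le_normalizer_KK) (fun q hq hd => card_KK q hq hd)
  have hβσ : ∀ p : ℕ, p ∈ beta M → p ∈ sigma M := fun p hp => alpha_subset_sigma hG hM hp.1
  have hrelK : ∀ p : ℕ, p.Prime → p ∈ beta M → ¬ p ∣ K.relIndex M := by
    intro p hp hpβ hd
    rw [← Subgroup.relIndex_mul_relIndex K ⁅M, M⁆ M KK_le hMM] at hd
    rcases (Nat.Prime.dvd_mul hp).mp hd with h | h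
    · exact relIndex_KK hp hpβ hnpc h
    · have hrel : (⁅M, M⁆ : Subgroup G).relIndex M = (commutator ↥M).index := by
        rw [← Subgroup.map_subtype_commutator]
        unfold Subgroup.relIndex Subgroup.subgroupOf
        rw [Subgroup.comap_map_eq_self_of_injective M.subtype_injective]
      rw [hrel] at h
      exact sigma_not_dvd_index_commutator hG hM (hβσ p hpβ) h
  have hrel : ∀ p : ℕ, p.Prime → p ∈ beta M → ¬ p ∣ (piCoreOf (beta M) M).relIndex M :=
    fun p hp hpβ hd => hrelK p hp hpβ (hd.trans (Subgroup.relIndex_dvd_of_le_left M hKβ))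
  have hnum : ∀ p : ℕ, p.Prime → p ∣ Nat.card (piCoreOf (beta M) M) → p ∈ beta M :=
    fun p hp hd => isPiNum_card_piCoreOf (beta M) M p hp hd
  refine ⟨⟨piCoreOf_le _ M, hnum, hrel⟩, ⟨hnum, ?_⟩, exists_nilpotent_hall hnpc,
    exists_nilpotent_hall hnpcσ, ?_⟩
  · intro p hp hpβ hd
    haveI : Fact p.Prime := ⟨hp⟩
    obtain ⟨P, d⟩ := exists_sigmaData hM (hβσ p hpβ)
    rw [← Subgroup.relIndex_mul_index (piCoreOf_le (beta M) M)] at hd
    rcases (Nat.Prime.dvd_mul hp).mp hd with h | h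
    · exact hrel p hp hpβ h
    · obtain ⟨T, hT⟩ := d.hPsyl
      apply T.not_dvd_index
      rw [hT]
      exact h.trans (Subgroup.index_dvd_of_le d.hPM)
  · intro p hp hpM hpβ
    haveI : Fact p.Prime := ⟨hp⟩
    exact ⟨hasNormalPComplement_of_npc (hnpc p hp hpβ),
      hasNormalPComplement_of_npc (hnpcσ p hp hpβ), (facts_nonbeta hG hM hpM hpβ).1⟩

end Cfsg.Agent.Lib.Lead.BG10
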