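import Mathlib
import Cfsg.Agent.Lib.Lead.BG10m
import Cfsg.Agent.Lib.Helper2.PSeries

set_option autoImplicit false

/-! Bender–Glauberman §10, part n: `M_σ` is a Hall `σ(M)`-subgroup (Theorem 10.2(b)). -/

namespace Cfsg.Agent.Lib.Lead.BG10

open Cfsg Cfsg.Agent.Lib.Lead Cfsg.Agent.Lib.Helper7 Cfsg.Agent.Lib.Helper4
open Cfsg.Agent.Lib.Helper4.BG7 Cfsg.Agent.Lib.Helper4.BG76 Cfsg.Agent.Lib.Helper4.BG8
open Cfsg.Agent.Lib.Helper4.BG9 Cfsg.Agent.Lib.Lead.BG95 Cfsg.Agent.Lib.Helper4.ThreeStep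
open Cfsg.Agent.Lib.Helper4.ZP Cfsg.Agent.Lib.Helper6

universe u

variable {G : Type u} [Group G] [Finite G] {M : Subgroup G}

theorem sigmaCore_le (M : Subgroup G) : sigmaCore M ≤ M := Subgroup.map_subtype_le _

theorem card_sigmaCore (M : Subgroup G) :
    Nat.card (sigmaCore M) = Nat.card (piCore (sigma M) ↥M) :=
  Subgroup.card_map_of_injective M.subtype_injective

theorem relIndex_sigmaCore (M : Subgroup G) :
    (sigmaCore M).relIndex M = (piCore (sigma M) ↥M).index := by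
  unfold sigmaCore Subgroup.relIndex Subgroup.subgroupOf
  rw [Subgroup.comap_map_eq_self_of_injective M.subtype_injective]

/-- for `p ∈ σ(M)` the Sylow `p`-subgroups of `M` lie in `M_σ` -/
theorem SigmaData.le_sigmaCore (hG : IsMinSimpleOddOrder G) {P : Subgroup G} {p : ℕ}
    [hp : Fact p.Prime] (d : SigmaData M p P) (hpσ : p ∈ sigma M) : P ≤ sigmaCore M := by
  haveI : Group.IsSolvable ↥M := solvable_of_ne_top hG d.hM.1
  have hyp := hyp420_quotient hG d.hM
  set K := piCore (alpha M) ↥M with hK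
  set L : Subgroup ↥M := (pCore p (↥M ⧸ K)).comap (QuotientGroup.mk' K) with hL
  haveI hLn : L.Normal := inferInstance
  have hKL : K ≤ L := by
    intro k hk
    rw [hL, Subgroup.mem_comap]
    have : (QuotientGroup.mk' K) k = 1 := (QuotientGroup.eq_one_iff k).mpr hk
    rw [this]; exact Subgroup.one_mem _
  have hLnum : IsPiNum (sigma M) (Nat.card L) := by
    intro q hq hd
    have h1 : Nat.card L = Nat.card K * K.relIndex L := by
      rw [← Subgroup.relIndex_bot_left, ← Subgroup.relIndex_bot_left,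
        Subgroup.relIndex_mul_relIndex ⊥ K L bot_le hKL]
    rw [h1] at hd
    rcases (Nat.Prime.dvd_mul hq).mp hd with h | h
    · exact alpha_subset_sigma hG d.hM (isPiNum_card_piCore (alpha M) q hq h)
    · rw [hL, Cfsg.Agent.Lib.Helper2.PSeries.relIndex_comap_mk] at h
      obtain ⟨k, hk⟩ := IsPGroup.iff_card.mp (pCore_isPGroup (G := ↥M ⧸ K) p)
      rw [hk] at h
      have : q = p := (Nat.prime_dvd_prime_iff_eq hq hp.out).mp (hq.dvd_of_dvd_pow h)
      rw [this]; exact hpσ
  have hLσ : L ≤ piCore (sigma M) ↥M := le_piCore hLn hLnum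
  intro x hx
  have hxM : x ∈ M := d.hPM hx
  have hxc : x ∈ ⁅M, M⁆ := d.le_commutator hG hx
  rw [← Subgroup.map_subtype_commutator] at hxc
  obtain ⟨y, hy, hyx⟩ := hxc
  have h1 : (QuotientGroup.mk' K) y ∈ commutator (↥M ⧸ K) := by
    rw [commutator_def]
    have h2 : (QuotientGroup.mk' K) y ∈
        Subgroup.map (QuotientGroup.mk' K) ⁅(⊤ : Subgroup ↥M), (⊤ : Subgroup ↥M)⁆ :=
      Subgroup.mem_map_of_mem _ hy
    rw [Subgroup.map_commutator] at h2
    exact Subgroup.commutator_mono le_top le_top h2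
  obtain ⟨k, hk⟩ := d.hPp ⟨x, hx⟩
  have hk' : x ^ p ^ k = 1 := by
    have := congrArg Subtype.val hk
    simpa using this
  have h3 : ((QuotientGroup.mk' K) y) ^ p ^ k = 1 := by
    rw [← map_pow]
    have : y ^ p ^ k = 1 := by
      apply Subtype.ext
      rw [Subgroup.coe_pow]
      have : (y : G) = x := hyx
      rw [this]
      exact hk'
    rw [this, map_one]
  have h4 := hyp.qElement_mem_pCore hp.out h1 h3
  have hyL : y ∈ L := by rw [hL, Subgroup.mem_comap]; exact h4
  exact ⟨y, hLσ hyL, hyx⟩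

/-- Bender–Glauberman, Theorem 10.2(b): `M_σ` is a Hall `σ(M)`-subgroup of `M` and of `G` -/
theorem sigmaCore_hall (hG : IsMinSimpleOddOrder G) (hM : IsCoatom M) :
    IsPiHallOf (sigma M) (sigmaCore M) M ∧ IsPiHall (sigma M) (sigmaCore M) ∧
      ∀ N : Subgroup G, M ≤ Subgroup.normalizer (N : Set G) → IsPiHallOf (sigma M) N M →
        N = sigmaCore M := by
  have hnum : ∀ p : ℕ, p.Prime → p ∣ Nat.card (sigmaCore M) → p ∈ sigma M := by
    intro p hp hd
    rw [card_sigmaCore] at hd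
    exact isPiNum_card_piCore (sigma M) p hp hd
  have hrel : ∀ p : ℕ, p.Prime → p ∈ sigma M → ¬ p ∣ (sigmaCore M).relIndex M := by
    intro p hp hpσ hd
    haveI : Fact p.Prime := ⟨hp⟩
    obtain ⟨P, d⟩ := exists_sigmaData hM hpσ
    exact d.sylIn.2.2 (hd.trans (Subgroup.relIndex_dvd_of_le_left M (d.le_sigmaCore hG hpσ)))
  refine ⟨⟨sigmaCore_le M, hnum, hrel⟩, ⟨hnum, ?_⟩, ?_⟩
  · intro p hp hpσ hd
    haveI : Fact p.Prime := ⟨hp⟩
    obtain ⟨P, d⟩ := exists_sigmaData hM hpσ
    rw [← Subgroup.relIndex_mul_index (sigmaCore_le M)] at hd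
    rcases (Nat.Prime.dvd_mul hp).mp hd with h | h
    · exact hrel p hp hpσ h
    · obtain ⟨T, hT⟩ := d.hPsyl
      apply T.not_dvd_index
      rw [hT]
      exact h.trans (Subgroup.index_dvd_of_le d.hPM)
  · rintro N hMN ⟨hNM, hNnum, hNrel⟩
    have hle : N ≤ sigmaCore M := by
      have := le_piCoreOf (π := sigma M) hNM hMN hNnum
      exact this
    apply Subgroup.eq_of_le_of_card_ge hle
    have h1 : N.relIndex (sigmaCore M) = 1 := by
      by_contra hne
      obtain ⟨r, hr, hrd⟩ := Nat.exists_prime_and_dvd hne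
      have h2 : r ∣ Nat.card (sigmaCore M) := hrd.trans (Subgroup.relIndex_dvd_card _ _)
      have h3 : r ∣ N.relIndex M := by
        rw [← Subgroup.relIndex_mul_relIndex N (sigmaCore M) M hle (sigmaCore_le M)]
        exact Dvd.dvd.mul_right hrd _
      exact hNrel r hr (hnum r hr h2) h3
    exact Subgroup.card_le_of_le (Subgroup.relIndex_eq_one.mp h1)

end Cfsg.Agent.Lib.Lead.BG10
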