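import Mathlib
import Cfsg.Agent.Lib.Lead.BG10n
import Cfsg.Agent.Lib.Helper4.NilpSub

set_option autoImplicit false

/-! Bender–Glauberman §10, part o: Lemma 10.9 (structure of a complement `E` of `M_σ` in `M`). -/

namespace Cfsg.Agent.Lib.Lead.BG10

open Cfsg Cfsg.Agent.Lib.Lead Cfsg.Agent.Lib.Helper7 Cfsg.Agent.Lib.Helper4
open Cfsg.Agent.Lib.Helper4.BG7 Cfsg.Agent.Lib.Helper4.BG76 Cfsg.Agent.Lib.Helper4.BG8
open Cfsg.Agent.Lib.Helper4.BG9 Cfsg.Agent.Lib.Lead.BG95 Cfsg.Agent.Lib.Helper4.ThreeStep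
open Cfsg.Agent.Lib.Helper4.ZP Cfsg.Agent.Lib.Helper6
open scoped commutatorElement

universe u

theorem prankLE_of_not_dvd {H : Type*} [Group H] [Finite H] {p : ℕ} (hp : p.Prime)
    (h : ¬ p ∣ Nat.card H) (k : ℕ) : PRankLE p k H := by
  intro A _ hA
  have hA1 : A = ⊥ := by
    rw [Subgroup.eq_bot_iff_forall]
    intro a ha
    by_contra ha1
    have h1 : orderOf a ∣ p := orderOf_dvd_of_pow_eq_one (hA a ha)
    rcases (Nat.dvd_prime hp).mp h1 with h2 | h2
    · exact ha1 (orderOf_eq_one_iff.mp h2)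
    · exact h (h2 ▸ orderOf_dvd_natCard a)
  rw [hA1, Subgroup.card_bot]
  exact Nat.one_le_pow _ _ hp.pos

open scoped IsMulCommutative in
/-- a cyclic Sylow `p`-subgroup lies in the derived subgroup as soon as `p` divides its order -/
theorem cyclic_sylow_le_commutator {X : Type*} [Group X] [Finite X] {p : ℕ} [Fact p.Prime]
    (P : Sylow p X) [IsCyclic ↥(P : Subgroup X)] (hdvd : p ∣ Nat.card (commutator X)) :
    (P : Subgroup X) ≤ commutator X := by
  rcases Sylow.normalizer_le_centralizer_or_le_commutator P with hP | hP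
  · exfalso
    apply P.not_dvd_index (hdvd.trans _)
    rw [(MonoidHom.ker_transferSylow_isComplement' P hP).index_eq_card]
    exact Subgroup.card_dvd_of_le (Abelianization.commutator_subset_ker _)
  · exact hP

theorem isCyclic_of_comm_zgroup {H : Type*} [Group H] [Finite H] [IsZGroup H]
    (hc : ∀ a b : H, a * b = b * a) : IsCyclic H := by
  letI : CommGroup H := { (inferInstance : Group H) with mul_comm := hc }
  exact IsCyclic.iff_exponent_eq_card.mpr (IsZGroup.exponent_eq_card H)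

variable {G : Type u} [Group G] [Finite G] {M : Subgroup G}

/-- a subgroup containing a Sylow `q`-subgroup of `D` for every prime divisor `q` of `|D|`
contains `D` -/
theorem le_of_sylows {C D : Subgroup G}
    (h : ∀ q : ℕ, q.Prime → q ∣ Nat.card D → ∃ Q : Subgroup G, SylIn q D Q ∧ Q ≤ C) : D ≤ C := by
  rw [← Subgroup.relIndex_eq_one]
  by_contra hne
  obtain ⟨q, hq, hqd⟩ := Nat.exists_prime_and_dvd hne
  obtain ⟨Q, hQ, hQC⟩ := h q hq (hqd.trans (Subgroup.relIndex_dvd_card _ _))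
  exact hQ.2.2 (hqd.trans (Subgroup.relIndex_dvd_of_le_left D hQC))

theorem le_normalizer_sigmaCore (M : Subgroup G) :
    M ≤ Subgroup.normalizer (sigmaCore M : Set G) :=
  le_normalizer_piCoreOf (sigma M) M

theorem IsComplIn.sup_eq {A B M : Subgroup G} (h : IsComplIn A B M) : A ⊔ B = M := by
  apply le_antisymm (sup_le h.1 h.2.1)
  intro m hm
  obtain ⟨a, ha, b, hb, rfl⟩ := h.2.2.2 m hm
  exact Subgroup.mul_mem_sup ha hb

theorem card_complIn_sigmaCore {E : Subgroup G} (hE : IsComplIn E (sigmaCore M) M) :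
    Nat.card E = (sigmaCore M).relIndex M := by
  have h1 := card_sup_mul_card_inf E (sigmaCore M) (hE.1.trans (le_normalizer_sigmaCore M))
  rw [IsComplIn.sup_eq hE, hE.2.2.1, Subgroup.card_bot, mul_one] at h1
  have h2 : Nat.card (sigmaCore M) * (sigmaCore M).relIndex M = Nat.card M := by
    rw [← Subgroup.relIndex_bot_left, ← Subgroup.relIndex_bot_left,
      Subgroup.relIndex_mul_relIndex ⊥ (sigmaCore M) M bot_le (sigmaCore_le M)]
  have hpos : 0 < Nat.card (sigmaCore M) := Nat.card_pos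
  apply Nat.eq_of_mul_eq_mul_left hpos
  rw [h2, h1, mul_comm]

theorem not_sigma_of_dvd_card_compl (hG : IsMinSimpleOddOrder G) (hM : IsCoatom M)
    {E : Subgroup G} (hE : IsComplIn E (sigmaCore M) M) {q : ℕ} (hq : q.Prime)
    (hd : q ∣ Nat.card E) : q ∉ sigma M := by
  intro hqσ
  rw [card_complIn_sigmaCore hE] at hd
  exact (sigmaCore_hall hG hM).1.2.2 q hq hqσ hd

theorem rankLE_two_compl (hG : IsMinSimpleOddOrder G) (hM : IsCoatom M)
    {E : Subgroup G} (hE : IsComplIn E (sigmaCore M) M) : RankLE 2 ↥E := by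
  intro q hq
  haveI : Fact q.Prime := ⟨hq⟩
  by_cases hα : q ∈ alpha M
  · apply prankLE_of_not_dvd hq
    intro hd
    exact not_sigma_of_dvd_card_compl hG hM hE hq hd (alpha_subset_sigma hG hM hα)
  · have h2 : PRankLE q 2 ↥M := by
      by_contra h
      exact hα ⟨hq, h⟩
    exact Rk2.prankLE_of_injective (Subgroup.inclusion hE.1) (Subgroup.inclusion_injective hE.1) h2

theorem commutator_compl_nilpotent (hG : IsMinSimpleOddOrder G) (hM : IsCoatom M)
    {E : Subgroup G} (hE : IsComplIn E (sigmaCore M) M) : Group.IsNilpotent ↥⁅E, E⁆ := by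
  haveI : Group.IsSolvable ↥E := solvable_of_ne_top hG (ne_top_of_le_ne_top hM.1 hE.1)
  have hyp : Rk2.Hyp420 ↥E :=
    Rk2.hyp420_of (odd_card_sub hG E) (Or.inl (rankLE_two_compl hG hM hE))
  haveI := hyp.commutator_isNilpotent
  exact Group.nilpotent_of_mulEquiv
    (((commutator ↥E).equivMapOfInjective E.subtype E.subtype_injective).trans
      (MulEquiv.subgroupCongr (Subgroup.map_subtype_commutator E)))

theorem tau1_hall_cyclic (hG : IsMinSimpleOddOrder G) (hM : IsCoatom M)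
    {E E₁ : Subgroup G} (hE : IsComplIn E (sigmaCore M) M)
    (h1 : IsPiHallOf (tau1 M) E₁ E) : IsCyclic ↥E₁ := by
  obtain ⟨hle, hnum, -⟩ := h1
  have hcop : (Nat.card E₁).Coprime (Nat.card ↥⁅M, M⁆) := by
    by_contra hnc
    obtain ⟨r, hr, hr1, hr2⟩ := Nat.Prime.not_coprime_iff_dvd.mp hnc
    exact (hnum r hr hr1).2.2.2.1 hr2
  have hbot : E₁ ⊓ ⁅M, M⁆ = ⊥ := Subgroup.inf_eq_bot_of_coprime hcop
  have hcomm : ∀ a b : ↥E₁, a * b = b * a := by
    intro a b
    have h2 : ⁅(a : G), (b : G)⁆ ∈ E₁ ⊓ ⁅M, M⁆ := by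
      refine ⟨?_, Subgroup.commutator_mem_commutator (hE.1 (hle a.2)) (hE.1 (hle b.2))⟩
      rw [commutatorElement_def]
      exact E₁.mul_mem (E₁.mul_mem (E₁.mul_mem a.2 b.2) (E₁.inv_mem a.2)) (E₁.inv_mem b.2)
    rw [hbot, Subgroup.mem_bot, commutatorElement_eq_one_iff_mul_comm] at h2
    exact Subtype.ext h2
  have hrank : RankLE 1 ↥E₁ := by
    intro q hq
    haveI : Fact q.Prime := ⟨hq⟩
    by_cases hd : q ∣ Nat.card E₁
    · exact Rk2.prankLE_of_injective (Subgroup.inclusion (hle.trans hE.1))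
        (Subgroup.inclusion_injective _) (hnum q hq hd).2.2.2.2
    · exact prankLE_of_not_dvd hq hd 1
  haveI : IsZGroup ↥E₁ := isZGroup_of_rankLE_one (odd_card_sub hG E₁) hrank
  exact isCyclic_of_comm_zgroup hcomm

theorem commutator_self_le (E : Subgroup G) : ⁅E, E⁆ ≤ E :=
  Subgroup.commutator_le.mpr (fun a ha b hb =>
    E.mul_mem (E.mul_mem (E.mul_mem ha hb) (E.inv_mem ha)) (E.inv_mem hb))

theorem tau3_dvd_commutator (hG : IsMinSimpleOddOrder G) (hM : IsCoatom M)
    {E : Subgroup G} (hE : IsComplIn E (sigmaCore M) M) {r : ℕ} (hr : r ∈ tau3 M) :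
    r ∣ Nat.card ↥⁅E, E⁆ := by
  obtain ⟨hrp, hrσ, hrd, -⟩ := hr
  have hEn : E ≤ Subgroup.normalizer (sigmaCore M : Set G) :=
    hE.1.trans (le_normalizer_sigmaCore M)
  have h1 : ⁅M, M⁆ ≤ sigmaCore M ⊔ ⁅E, E⁆ := by
    have := BG7.commutator_sup_le (K := sigmaCore M) (N₁ := E) hEn
    rwa [sup_comm (sigmaCore M) E, IsComplIn.sup_eq hE] at this
  have h2 := card_sup_mul_card_inf ⁅E, E⁆ (sigmaCore M) ((commutator_self_le E).trans hEn)
  have h3 : r ∣ Nat.card ↥⁅E, E⁆ * Nat.card (sigmaCore M) := by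
    rw [← h2, sup_comm]
    exact Dvd.dvd.mul_right (hrd.trans (Subgroup.card_dvd_of_le h1)) _
  rcases (Nat.Prime.dvd_mul hrp).mp h3 with h | h
  · exact h
  · exfalso
    exact hrσ ((sigmaCore_hall hG hM).1.2.1 r hrp h)

theorem tau3_hall_structure (hG : IsMinSimpleOddOrder G) (hM : IsCoatom M)
    {E E₃ : Subgroup G} (hE : IsComplIn E (sigmaCore M) M)
    (h3 : IsPiHallOf (tau3 M) E₃ E) :
    IsCyclic ↥E₃ ∧ E₃ ≤ ⁅E, E⁆ ∧ E ≤ Subgroup.normalizer (E₃ : Set G) := by
  obtain ⟨hle, hnum, hrel⟩ := h3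
  have hFE : ⁅E, E⁆ ≤ E := commutator_self_le E
  have hFnil : Group.IsNilpotent ↥⁅E, E⁆ := commutator_compl_nilpotent hG hM hE
  have hEF : E ≤ Subgroup.normalizer ((⁅E, E⁆ : Subgroup G) : Set G) :=
    (le_inf Subgroup.le_normalizer Subgroup.le_normalizer).trans
      (normalizer_inf_le_normalizer_commutator E E)
  have key : ∀ r : ℕ, r.Prime → r ∣ Nat.card E₃ → ∀ R : Subgroup G, SylIn r E₃ R →
      R ≤ ⁅E, E⁆ ∧ E ≤ Subgroup.normalizer (R : Set G) ∧ IsCyclic ↥R := by
    intro r hr hrd R hR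
    haveI : Fact r.Prime := ⟨hr⟩
    have hrτ := hnum r hr hrd
    have hRE : SylIn r E R := by
      refine ⟨hR.1.trans hle, hR.2.1, ?_⟩
      rw [← Subgroup.relIndex_mul_relIndex R E₃ E hR.1 hle]
      intro hd
      rcases (Nat.Prime.dvd_mul hr).mp hd with h | h
      · exact hR.2.2 h
      · exact hrel r hr hrτ h
    obtain ⟨T, hT⟩ := SylIn.exists_sylow hRE
    have hrank : PRankLE r 1 ↥E :=
      Rk2.prankLE_of_injective (Subgroup.inclusion hE.1) (Subgroup.inclusion_injective _)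
        hrτ.2.2.2
    haveI hTc : IsCyclic ↥(T : Subgroup ↥E) :=
      isCyclic_sylow_of_pRankLE_one (odd_card_sub hG E) hrank T
    have hdvd : r ∣ Nat.card (commutator ↥E) := by
      have := tau3_dvd_commutator hG hM hE hrτ
      rwa [← Subgroup.map_subtype_commutator E,
        Subgroup.card_map_of_injective E.subtype_injective] at this
    have hTle := cyclic_sylow_le_commutator T hdvd
    have hRF : R ≤ ⁅E, E⁆ := by
      rw [← hT, ← Subgroup.map_subtype_commutator E]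
      exact Subgroup.map_mono hTle
    have hRFs : SylIn r ⁅E, E⁆ R :=
      ⟨hRF, hR.2.1, fun hd => hRE.2.2
        (hd.trans (Dvd.intro _ (Subgroup.relIndex_mul_relIndex R ⁅E, E⁆ E hRF hFE)))⟩
    have hFR : ⁅E, E⁆ ≤ Subgroup.normalizer (R : Set G) :=
      sylIn_normal_of_isNilpotent hFnil hRFs
    refine ⟨hRF, ?_, ?_⟩
    · intro g hg
      rw [mem_normalizer_iff_cj]
      have h1 : cj g R ≤ ⁅E, E⁆ := by
        calc cj g R ≤ cj g ⁅E, E⁆ := cj_mono g hRF
          _ = ⁅E, E⁆ := mem_normalizer_iff_cj.mp (hEF hg)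
      have h2 : IsPGroup r (cj g R) := hR.2.1.map _
      have h3 := hRFs.le_of_normal hFR h1 h2
      exact Subgroup.eq_of_le_of_card_ge h3
        (by rw [show Nat.card (cj g R) = Nat.card R from
          Subgroup.card_map_of_injective (MulAut.conj g).injective])
    · rw [← hT]
      exact isCyclic_of_surjective
        ((T : Subgroup ↥E).equivMapOfInjective E.subtype E.subtype_injective)
        ((T : Subgroup ↥E).equivMapOfInjective E.subtype E.subtype_injective).surjective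
  have hsyl : ∀ q : ℕ, q.Prime → ∃ Q : Subgroup G, SylIn q E₃ Q := by
    intro q hq
    haveI : Fact q.Prime := ⟨hq⟩
    obtain ⟨Q, -, hQ⟩ := exists_sylIn_ge (p := q) (bot_le : (⊥ : Subgroup G) ≤ E₃) IsPGroup.of_bot
    exact ⟨Q, hQ⟩
  have hle3 : E₃ ≤ ⁅E, E⁆ := by
    apply le_of_sylows
    intro q hq hqd
    obtain ⟨Q, hQ⟩ := hsyl q hq
    exact ⟨Q, hQ, (key q hq hqd Q hQ).1⟩
  have hnorm : E ≤ Subgroup.normalizer (E₃ : Set G) := by
    intro g hg
    rw [mem_normalizer_iff_cj]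
    symm
    apply Subgroup.eq_of_le_of_card_ge
    · apply le_of_sylows
      intro q hq hqd
      obtain ⟨Q, hQ⟩ := hsyl q hq
      refine ⟨Q, hQ, ?_⟩
      have h1 := mem_normalizer_iff_cj.mp ((key q hq hqd Q hQ).2.1 hg)
      rw [← h1]
      exact cj_mono g hQ.1
    · rw [show Nat.card (cj g E₃) = Nat.card E₃ from
        Subgroup.card_map_of_injective (MulAut.conj g).injective]
  have hcen : E₃ ≤ Subgroup.centralizer (E₃ : Set G) := by
    apply le_of_sylows
    intro q hq hqd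
    haveI : Fact q.Prime := ⟨hq⟩
    obtain ⟨Q, hQ⟩ := hsyl q hq
    obtain ⟨-, hQn, hQc⟩ := key q hq hqd Q hQ
    refine ⟨Q, hQ, ?_⟩
    rw [Subgroup.le_centralizer_iff]
    apply le_of_sylows
    intro s hs hsd
    haveI : Fact s.Prime := ⟨hs⟩
    obtain ⟨S, hS⟩ := hsyl s hs
    obtain ⟨-, hSn, -⟩ := key s hs hsd S hS
    refine ⟨S, hS, ?_⟩
    by_cases hsq : s = q
    · subst hsq
      have h1 : S ≤ Q := hQ.le_of_normal (hle.trans hQn) hS.1 hS.2.1
      intro x hx
      rw [Subgroup.mem_centralizer_iff]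
      intro y hy
      obtain ⟨g, hg⟩ := hQc.exists_generator
      have hx' := h1 hx
      obtain ⟨i, hi⟩ := Subgroup.mem_zpowers_iff.mp (hg ⟨x, hx'⟩)
      obtain ⟨j, hj⟩ := Subgroup.mem_zpowers_iff.mp (hg ⟨y, hy⟩)
      have hi' : (g : G) ^ i = x := by
        have := congrArg Subtype.val hi
        simpa using this
      have hj' : (g : G) ^ j = y := by
        have := congrArg Subtype.val hj
        simpa using this
      rw [← hi', ← hj', ← zpow_add, ← zpow_add, add_comm]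
    · have hdisj : S ⊓ Q = ⊥ := by
        have := IsPGroup.disjoint_of_ne s q hsq S Q hS.2.1 hQ.2.1
        exact disjoint_iff.mp this
      intro x hx
      rw [Subgroup.mem_centralizer_iff]
      intro y hy
      have hxE : x ∈ E := hle (hS.1 hx)
      have hyE : y ∈ E := hle (hQ.1 hy)
      have h2 : ⁅y, x⁆ ∈ S ⊓ Q := by
        constructor
        · have h4 : y * x * y⁻¹ ∈ S := (Subgroup.mem_normalizer_iff.mp (hSn hyE) x).mp hx
          have : ⁅y, x⁆ = (y * x * y⁻¹) * x⁻¹ := by rw [commutatorElement_def]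
          rw [this]
          exact S.mul_mem h4 (S.inv_mem hx)
        · have h4 : x * y⁻¹ * x⁻¹ ∈ Q :=
            (Subgroup.mem_normalizer_iff.mp (hQn hxE) y⁻¹).mp (Q.inv_mem hy)
          have : ⁅y, x⁆ = y * (x * y⁻¹ * x⁻¹) := by rw [commutatorElement_def]; group
          rw [this]
          exact Q.mul_mem hy h4
      rw [hdisj, Subgroup.mem_bot, commutatorElement_eq_one_iff_mul_comm] at h2
      exact h2
  have hcomm : ∀ a b : ↥E₃, a * b = b * a := by
    intro a b
    have := Subgroup.mem_centralizer_iff.mp (hcen a.2) b b.2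
    exact Subtype.ext this.symm
  have hrank : RankLE 1 ↥E₃ := by
    intro q hq
    haveI : Fact q.Prime := ⟨hq⟩
    by_cases hd : q ∣ Nat.card E₃
    · exact Rk2.prankLE_of_injective (Subgroup.inclusion (hle.trans hE.1))
        (Subgroup.inclusion_injective _) (hnum q hq hd).2.2.2
    · exact prankLE_of_not_dvd hq hd 1
  haveI : IsZGroup ↥E₃ := isZGroup_of_rankLE_one (odd_card_sub hG E₃) hrank
  exact ⟨isCyclic_of_comm_zgroup hcomm, hle3, hnorm⟩

/-- Bender–Glauberman, Lemma 10.9 -/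
theorem lemma_10_9 (hG : IsMinSimpleOddOrder G) (hM : IsCoatom M) {E : Subgroup G}
    (hE : IsComplIn E (sigmaCore M) M) :
    Group.IsNilpotent ↥⁅E, E⁆ ∧
      (∀ E₁ : Subgroup G, IsPiHallOf (tau1 M) E₁ E → IsCyclic E₁) ∧
      ∀ E₃ : Subgroup G, IsPiHallOf (tau3 M) E₃ E →
        IsCyclic E₃ ∧ E₃ ≤ ⁅E, E⁆ ∧ E ≤ Subgroup.normalizer (E₃ : Set G) :=
  ⟨commutator_compl_nilpotent hG hM hE, fun _ h1 => tau1_hall_cyclic hG hM hE h1,
    fun _ h3 => tau3_hall_structure hG hM hE h3⟩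

end Cfsg.Agent.Lib.Lead.BG10
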