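import Mathlib
import Cfsg.Agent.Lib.Helper3.CharP2
import Cfsg.Agent.Lib.Helper3.Components10
import Cfsg.Agent.Lib.Helper6.PRes
import Cfsg.Agent.Lib.Helper4.BG8b

set_option autoImplicit false

/-! Subnormal self-centralizing subgroups of `F*(H)`: general lemmas. -/

namespace Cfsg.Agent.Lib.Lead.BenderS

open Cfsg Cfsg.Agent.Lib.Lead Cfsg.Agent.Lib.Helper3

universe u

variable {H : Type u} [Group H]

/-- the product of the `O_t(H)`, `t ≠ p`. -/
def oppCore (p : ℕ) (H : Type u) [Group H] : Subgroup H :=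
  ⨆ t : {t : Nat.Primes // (t : ℕ) ≠ p}, Cfsg.pCore ((t : Nat.Primes) : ℕ) H

instance oppCore_normal (p : ℕ) : (oppCore p H).Normal := by
  unfold oppCore
  haveI : ∀ t : {t : Nat.Primes // (t : ℕ) ≠ p}, (Cfsg.pCore ((t : Nat.Primes) : ℕ) H).Normal :=
    fun t => pCore_normal _
  infer_instance

theorem pCore_le_oppCore {p t : ℕ} (ht : t.Prime) (htp : t ≠ p) :
    Cfsg.pCore t H ≤ oppCore p H :=
  le_iSup (fun t : {t : Nat.Primes // (t : ℕ) ≠ p} => Cfsg.pCore ((t : Nat.Primes) : ℕ) H)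
    ⟨⟨t, ht⟩, htp⟩

theorem oppCore_le_centralizer_pCore (p : ℕ) [Fact p.Prime] :
    oppCore p H ≤ Subgroup.centralizer (Cfsg.pCore p H : Set H) := by
  unfold oppCore
  apply iSup_le
  rintro ⟨t, ht⟩
  haveI : Fact ((t : ℕ)).Prime := ⟨t.2⟩
  exact pCore_le_centralizer_pCore ht H

theorem oppCore_le_of_forall {p : ℕ} {K : Subgroup H}
    (h : ∀ t : ℕ, t.Prime → t ≠ p → Cfsg.pCore t H ≤ K) : oppCore p H ≤ K := by
  unfold oppCore
  apply iSup_le
  rintro ⟨t, ht⟩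
  exact h t t.2 ht

variable [Finite H]

theorem fitting_eq_pCore_sup_oppCore (p : ℕ) [hp : Fact p.Prime] :
    Cfsg.fittingSubgroup H = oppCore p H ⊔ Cfsg.pCore p H := by
  rw [fittingSubgroup_eq_iSup_pCore]
  apply le_antisymm
  · apply iSup_le
    intro t
    by_cases h : (t : ℕ) = p
    · rw [h]; exact le_sup_right
    · exact (pCore_le_oppCore t.2 h).trans le_sup_left
  · apply sup_le
    · apply oppCore_le_of_forall
      intro t ht _
      exact le_iSup (fun t : Nat.Primes => Cfsg.pCore (t : ℕ) H) ⟨t, ht⟩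
    · exact le_iSup (fun t : Nat.Primes => Cfsg.pCore (t : ℕ) H) ⟨p, hp.out⟩

theorem oppCore_le_fitting (p : ℕ) [hp : Fact p.Prime] :
    oppCore p H ≤ Cfsg.fittingSubgroup H := by
  rw [fitting_eq_pCore_sup_oppCore p]; exact le_sup_left

theorem pCore_le_fitting (p : ℕ) [hp : Fact p.Prime] :
    Cfsg.pCore p H ≤ Cfsg.fittingSubgroup H := by
  rw [fitting_eq_pCore_sup_oppCore p]; exact le_sup_right

/-- a `p'`-element of `F(H)` lies in the product of the other cores. -/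
theorem mem_oppCore_of_coprime {p : ℕ} [hp : Fact p.Prime] {g : H}
    (hg : g ∈ Cfsg.fittingSubgroup H) (hc : Nat.Coprime (orderOf g) p) : g ∈ oppCore p H := by
  rw [fitting_eq_pCore_sup_oppCore p] at hg
  exact Cfsg.Agent.Lib.Helper6.mem_of_coprime_of_mem_sup (oppCore p H) (pCore_isPGroup p) hc hg

/-- a `p`-element of `F(H)` lies in `O_p(H)`. -/
theorem mem_pCore_of_pow_eq_one {p : ℕ} [hp : Fact p.Prime] {g : H}
    (hg : g ∈ Cfsg.fittingSubgroup H) (hk : ∃ k : ℕ, g ^ p ^ k = 1) : g ∈ Cfsg.pCore p H := by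
  have h1 : Subgroup.zpowers g ≤ Cfsg.fittingSubgroup H := Subgroup.zpowers_le.mpr hg
  have h2 := Cfsg.Agent.Lib.Helper4.BG8.le_pCore_of_le_fitting h1
    (Cfsg.Agent.Lib.Helper6.isPGroup_zpowers_of_pow_eq_one hk)
  exact h2 (Subgroup.mem_zpowers g)

/-- an element of `O_r(H)` commuting with `S₁ ∩ O_r(H)` commutes with `S₁ ∩ F(H)`. -/
theorem commute_of_mem_pCore {r : ℕ} [hr : Fact r.Prime] {S₁ : Subgroup H} {x f : H}
    (hx : x ∈ Cfsg.pCore r H) (hxc : ∀ a ∈ S₁ ⊓ Cfsg.pCore r H, Commute x a)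
    (hf : f ∈ Cfsg.fittingSubgroup H) (hfS : f ∈ S₁) : Commute x f := by
  obtain ⟨u, v, hu, hv, rfl, huk, hvc⟩ := Cfsg.Agent.Lib.Helper6.exists_pPart_decomp_zpowers r f
  have huF : u ∈ Cfsg.fittingSubgroup H := (Subgroup.zpowers_le.mpr hf) hu
  have hvF : v ∈ Cfsg.fittingSubgroup H := (Subgroup.zpowers_le.mpr hf) hv
  have huS : u ∈ S₁ := (Subgroup.zpowers_le.mpr hfS) hu
  have h1 : Commute x u := hxc u ⟨huS, mem_pCore_of_pow_eq_one huF huk⟩
  have h2 : Commute x v := by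
    have h3 := oppCore_le_centralizer_pCore r (mem_oppCore_of_coprime hvF hvc)
    exact (Subgroup.mem_centralizer_iff.mp h3 x hx)
  exact h1.mul_right h2

end Cfsg.Agent.Lib.Lead.BenderS
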