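import Mathlib
import Cfsg.Agent.Lib.Lead.BenderS1
import Cfsg.Agent.Lib.Lead.ThompsonPQ

set_option autoImplicit false

/-! Subnormal self-centralizing subgroups of `F*(H)`: the main lemmas. -/

namespace Cfsg.Agent.Lib.Lead.BenderS

open Cfsg Cfsg.Agent.Lib.Lead Cfsg.Agent.Lib.Helper3

universe u

variable {H : Type u} [Group H] [Finite H]

/-- `S ≤ F*(H)` is subnormal in `F*(H)` and contains its centralizer in `F*(H)`. -/
structure Hyp (S : Subgroup H) : Prop where
  le : S ≤ Cfsg.generalizedFittingSubgroup H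
  sn : (S.subgroupOf (Cfsg.generalizedFittingSubgroup H)).IsSubnormal
  cen : Cfsg.generalizedFittingSubgroup H ⊓ Subgroup.centralizer (S : Set H) ≤ S

variable {S : Subgroup H}

theorem Hyp.isSubnormal (h : Hyp S) : S.IsSubnormal :=
  Subgroup.IsSubnormal.trans h.le h.sn
    (generalizedFittingSubgroup_normal (G := H)).isSubnormal

theorem Hyp.layer_le (h : Hyp S) : Cfsg.layer H ≤ S := by
  rw [layer_le_iff]
  intro K hK
  rcases IsComponent.le_or_commutator_eq_bot_of_isSubnormal hK h.isSubnormal with h1 | h1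
  · exact h1
  · refine le_trans ?_ h.cen
    refine le_inf ((IsComponent.le_layer hK).trans layer_le_generalizedFittingSubgroup) ?_
    exact Subgroup.commutator_eq_bot_iff_le_centralizer.mp h1

theorem Hyp.exists_decomp (h : Hyp S) {s : H} (hs : s ∈ S) :
    ∃ e ∈ Cfsg.layer H, ∃ f ∈ Cfsg.fittingSubgroup H ⊓ S, s = e * f := by
  have h1 : s ∈ Cfsg.layer H ⊔ Cfsg.fittingSubgroup H := h.le hs
  obtain ⟨e, he, f, hf, rfl⟩ :=
    exists_mul_of_mem_sup_of_commutator_eq_bot (commutator_layer_fittingSubgroup (G := H)) h1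
  refine ⟨e, he, f, ⟨hf, ?_⟩, rfl⟩
  have := S.mul_mem (S.inv_mem (h.layer_le he)) hs
  simpa using this

theorem Hyp.mem_centralizer_of_mem_pCore (h : Hyp S) {r : ℕ} [hr : Fact r.Prime] {x : H}
    (hx : x ∈ Cfsg.pCore r H) (hxc : ∀ a ∈ S ⊓ Cfsg.pCore r H, Commute x a) :
    x ∈ Subgroup.centralizer (S : Set H) := by
  rw [Subgroup.mem_centralizer_iff]
  intro s hs
  obtain ⟨e, he, f, hf, rfl⟩ := h.exists_decomp hs
  have h1 : Commute x e := by
    have h2 := layer_le_centralizer_pCore r H he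
    exact Subgroup.mem_centralizer_iff.mp h2 x hx
  have h2 : Commute x f := commute_of_mem_pCore hx hxc hf.1 hf.2
  exact ((h1.mul_right h2).eq).symm

theorem Hyp.pCore_inf_centralizer_le (h : Hyp S) (r : ℕ) [hr : Fact r.Prime] :
    Cfsg.pCore r H ⊓ Subgroup.centralizer ((S ⊓ Cfsg.pCore r H : Subgroup H) : Set H) ≤ S := by
  rintro x ⟨hx, hxc⟩
  apply h.cen
  refine ⟨pCore_le_generalizedFittingSubgroup r H hx, ?_⟩
  apply h.mem_centralizer_of_mem_pCore hx
  intro a ha
  exact (Subgroup.mem_centralizer_iff.mp hxc a ha).symm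

theorem Hyp.le_centralizer_layer (h : Hyp S) {p : ℕ} [hp : Fact p.Prime] {X : Subgroup H}
    (hX : IsPGroup p X) (hSX : S ≤ Subgroup.normalizer (X : Set H)) :
    X ≤ Subgroup.centralizer (Cfsg.layer H : Set H) := by
  set E := Cfsg.layer H with hE
  have hEX : E ≤ Subgroup.normalizer (X : Set H) := h.layer_le.trans hSX
  have h1 : ⁅X, E⁆ ≤ X := commutator_le_left_of_le_normalizer X E hEX
  have h2 : ⁅X, E⁆ ≤ E := Subgroup.commutator_le_right X E
  -- D = X ⊓ E is a subnormal solvable subgroup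
  have hDp : IsPGroup p ↥(X ⊓ E : Subgroup H) := hX.to_le inf_le_left
  have hDn : E ≤ Subgroup.normalizer ((X ⊓ E : Subgroup H) : Set H) := by
    intro e he
    rw [Subgroup.mem_normalizer_iff]
    intro d
    have h3 := Subgroup.mem_normalizer_iff.mp (hEX he) d
    constructor
    · rintro ⟨hd1, hd2⟩
      exact ⟨h3.mp hd1, E.mul_mem (E.mul_mem he hd2) (E.inv_mem he)⟩
    · rintro ⟨hd1, hd2⟩
      refine ⟨h3.mpr hd1, ?_⟩
      have := E.mul_mem (E.mul_mem (E.inv_mem he) hd2) he
      simpa [mul_assoc] using this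
  have hDsn : (X ⊓ E : Subgroup H).IsSubnormal := by
    apply Subgroup.IsSubnormal.trans (inf_le_right : X ⊓ E ≤ E) _
      (layer_normal (G := H)).isSubnormal
    exact (Subgroup.normal_subgroupOf_of_le_normalizer hDn).isSubnormal
  have hDsolv : Group.IsSolvable ↥(X ⊓ E : Subgroup H) := isSolvable_of_isPGroup p _ hDp
  have h3 : ⁅E, X ⊓ E⁆ = ⊥ := commutator_layer_of_isSolvable_of_isSubnormal hDsolv hDsn
  have h4 : ⁅⁅X, E⁆, E⁆ = ⊥ := by
    rw [eq_bot_iff, ← h3, Subgroup.commutator_comm E]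
    exact Subgroup.commutator_mono (le_inf h1 h2) le_rfl
  have h5 : ⁅⁅E, X⁆, E⁆ = ⊥ := by rw [Subgroup.commutator_comm E X]; exact h4
  have h6 : ⁅⁅E, E⁆, X⁆ = ⊥ := Subgroup.commutator_commutator_eq_bot_of_rotate h5 h4
  rw [commutator_layer_layer] at h6
  rw [Subgroup.commutator_comm] at h6
  exact Subgroup.commutator_eq_bot_iff_le_centralizer.mp h6

theorem Hyp.le_centralizer_pCore (h : Hyp S) {p r : ℕ} [hp : Fact p.Prime] [hr : Fact r.Prime]
    (hrp : r ≠ p) {X : Subgroup H} (hX : IsPGroup p X)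
    (hSX : S ≤ Subgroup.normalizer (X : Set H)) :
    X ≤ Subgroup.centralizer (Cfsg.pCore r H : Set H) := by
  set R := Cfsg.pCore r H with hR
  have hRn : R.Normal := pCore_normal r
  have hRp : IsPGroup r R := pCore_isPGroup r
  have hPp : IsPGroup r ↥(S ⊓ R : Subgroup H) := hRp.to_le inf_le_right
  have hcop : (Nat.card X).Coprime r := by
    obtain ⟨k, hk⟩ := IsPGroup.iff_card.mp hX
    rw [hk]
    exact Nat.Coprime.pow_left k ((Nat.coprime_primes hp.out hr.out).mpr (Ne.symm hrp))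
  have hXR : X ⊓ R = ⊥ :=
    (IsPGroup.disjoint_of_ne p r (Ne.symm hrp) _ _ hX hRp).eq_bot
  have hPQ : (S ⊓ R : Subgroup H) ≤ Subgroup.centralizer (X : Set H) := by
    rw [← Subgroup.commutator_eq_bot_iff_le_centralizer, eq_bot_iff, ← hXR]
    apply le_inf
    · rw [Subgroup.commutator_comm]
      exact commutator_le_left_of_le_normalizer X _ (inf_le_left.trans hSX)
    · exact (Subgroup.commutator_mono inf_le_right le_rfl).trans (Subgroup.commutator_le_left R X)
  apply thompson_PQ r (S ⊓ R) X R hPp hcop hRp hPQ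
  · exact fun x _ => by rw [Subgroup.normalizer_eq_top R]; exact Subgroup.mem_top x
  · exact fun x _ => by rw [Subgroup.normalizer_eq_top R]; exact Subgroup.mem_top x
  · intro x hx
    have h1 : x ∈ S := h.pCore_inf_centralizer_le r hx
    have h2 : x ∈ (S ⊓ R : Subgroup H) := ⟨h1, hx.1⟩
    have h3 := hPQ h2
    exact h3

theorem pCore_eq_bot_of_not_dvd_fitting {q : ℕ} [hq : Fact q.Prime]
    (hdvd : ¬ q ∣ Nat.card (Cfsg.fittingSubgroup H)) : Cfsg.pCore q H = ⊥ := by
  have h1 : Nat.card (Cfsg.pCore q H) ∣ Nat.card (Cfsg.fittingSubgroup H) :=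
    Subgroup.card_dvd_of_le (pCore_le_fitting q)
  obtain ⟨k, hk⟩ := IsPGroup.iff_card.mp (pCore_isPGroup (G := H) q)
  rcases Nat.eq_zero_or_pos k with h0 | h0
  · rw [h0, pow_zero] at hk
    exact Subgroup.card_eq_one.mp hk
  · exfalso
    apply hdvd
    rw [hk] at h1
    exact (dvd_pow_self q h0.ne').trans h1

theorem Hyp.eq_bot_of_not_dvd (h : Hyp S) {q : ℕ} [hq : Fact q.Prime] {X : Subgroup H}
    (hX : IsPGroup q X) (hSX : S ≤ Subgroup.normalizer (X : Set H))
    (hdvd : ¬ q ∣ Nat.card (Cfsg.fittingSubgroup H)) : X = ⊥ := by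
  have h1 : Cfsg.layer H ≤ Subgroup.centralizer (X : Set H) :=
    Subgroup.le_centralizer_iff.mp (h.le_centralizer_layer hX hSX)
  have h2 : Cfsg.fittingSubgroup H ≤ Subgroup.centralizer (X : Set H) := by
    rw [fittingSubgroup_eq_iSup_pCore]
    apply iSup_le
    intro r
    have : Fact ((r : ℕ)).Prime := ⟨r.2⟩
    by_cases hrq : (r : ℕ) = q
    · rw [hrq, pCore_eq_bot_of_not_dvd_fitting hdvd]; exact bot_le
    · exact Subgroup.le_centralizer_iff.mp (h.le_centralizer_pCore hrq hX hSX)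
  have h3 : X ≤ Subgroup.centralizer (Cfsg.generalizedFittingSubgroup H : Set H) := by
    rw [Subgroup.le_centralizer_iff]
    exact sup_le h1 h2
  have h4 : X ≤ Cfsg.generalizedFittingSubgroup H ⊓
      Subgroup.centralizer (Cfsg.generalizedFittingSubgroup H : Set H) :=
    le_inf (h3.trans centralizer_generalizedFittingSubgroup_le) h3
  have hZn : (Cfsg.generalizedFittingSubgroup H ⊓
      Subgroup.centralizer (Cfsg.generalizedFittingSubgroup H : Set H)).Normal := inferInstance
  have hZnil : Group.IsNilpotent ↥(Cfsg.generalizedFittingSubgroup H ⊓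
      Subgroup.centralizer (Cfsg.generalizedFittingSubgroup H : Set H)) := by
    apply isNilpotent_of_le_centralizer
    exact inf_le_right.trans (Subgroup.centralizer_le inf_le_left)
  have h5 : X ≤ Cfsg.fittingSubgroup H := h4.trans (le_fittingSubgroup hZn hZnil)
  have h6 : Nat.card X ∣ Nat.card (Cfsg.fittingSubgroup H) := Subgroup.card_dvd_of_le h5
  obtain ⟨k, hk⟩ := IsPGroup.iff_card.mp hX
  rcases Nat.eq_zero_or_pos k with h0 | h0
  · rw [h0, pow_zero] at hk
    exact Subgroup.card_eq_one.mp hk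
  · exfalso
    apply hdvd
    rw [hk] at h6
    exact (dvd_pow_self q h0.ne').trans h6

/-- `Z(O_r(H))` centralizes `F*(H)`. -/
theorem pCore_inf_centralizer_le_centralizer (r : ℕ) [hr : Fact r.Prime] :
    Cfsg.pCore r H ⊓ Subgroup.centralizer (Cfsg.pCore r H : Set H) ≤
      Subgroup.centralizer (Cfsg.generalizedFittingSubgroup H : Set H) := by
  rw [Subgroup.le_centralizer_iff]
  unfold Cfsg.generalizedFittingSubgroup
  rw [fitting_eq_pCore_sup_oppCore r]
  apply sup_le
  · exact (layer_le_centralizer_pCore r H).trans (Subgroup.centralizer_le inf_le_left)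
  · apply sup_le
    · exact (oppCore_le_centralizer_pCore r).trans (Subgroup.centralizer_le inf_le_left)
    · rw [← Subgroup.le_centralizer_iff]
      exact inf_le_right

theorem Hyp.center_pCore_le (h : Hyp S) (r : ℕ) [hr : Fact r.Prime] :
    Cfsg.pCore r H ⊓ Subgroup.centralizer (Cfsg.pCore r H : Set H) ≤ S := by
  intro z hz
  apply h.cen
  refine ⟨pCore_le_generalizedFittingSubgroup r H hz.1, ?_⟩
  exact Subgroup.centralizer_le h.le (pCore_inf_centralizer_le_centralizer r hz)

end Cfsg.Agent.Lib.Lead.BenderS
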