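import Mathlib
import Cfsg.Agent.Lib.Lead.BenderS2
import Cfsg.Agent.Lib.Helper3.CharP1

set_option autoImplicit false

/-! Bender's lemma on subnormal self-centralizing subgroups of `F*(A)`, `A` maximal in a simple group. -/

namespace Cfsg.Agent.Lib.Lead.BenderS

open Cfsg Cfsg.Agent.Lib.Lead Cfsg.Agent.Lib.Helper3

universe u

variable {G : Type u} [Group G]

theorem le_normalizer_map_of_normal (A : Subgroup G) (K : Subgroup ↥A) [hK : K.Normal] :
    A ≤ Subgroup.normalizer ((K.map A.subtype : Subgroup G) : Set G) := by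
  have h1 := Subgroup.le_normalizer_map (H := K) A.subtype
  rw [Subgroup.normalizer_eq_top K, ← MonoidHom.range_eq_map, Subgroup.range_subtype] at h1
  exact h1

theorem hyp_subgroupOf [Finite G] (A S : Subgroup G)
    (hSF : S ≤ (Cfsg.generalizedFittingSubgroup ↥A).map A.subtype)
    (hSsn : (S.subgroupOf ((Cfsg.generalizedFittingSubgroup ↥A).map A.subtype)).IsSubnormal)
    (hSC : (Cfsg.generalizedFittingSubgroup ↥A).map A.subtype ⊓
      Subgroup.centralizer (S : Set G) ≤ S) : Hyp (S.subgroupOf A) := by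
  have hSA : S ≤ A := hSF.trans (Subgroup.map_subtype_le _)
  refine ⟨?_, ?_, ?_⟩
  · intro s hs
    rw [Subgroup.mem_subgroupOf] at hs
    obtain ⟨y, hy, hys⟩ := hSF hs
    have : y = s := Subtype.ext hys
    rw [← this]; exact hy
  · set F := Cfsg.generalizedFittingSubgroup ↥A with hF
    have h1 := hSsn.comap (F.equivMapOfInjective A.subtype A.subtype_injective).toMonoidHom
    have h2 : (S.subgroupOf (F.map A.subtype)).comap
        (F.equivMapOfInjective A.subtype A.subtype_injective).toMonoidHom =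
        (S.subgroupOf A).subgroupOf F := by
      ext x
      rw [Subgroup.mem_comap, Subgroup.mem_subgroupOf, Subgroup.mem_subgroupOf,
        Subgroup.mem_subgroupOf]
      rfl
    rw [h2] at h1
    exact h1
  · intro x hx
    obtain ⟨hxF, hxC⟩ := Subgroup.mem_inf.mp hx
    rw [Subgroup.mem_subgroupOf]
    apply hSC
    refine Subgroup.mem_inf.mpr ⟨Subgroup.mem_map_of_mem A.subtype hxF, ?_⟩
    rw [Subgroup.mem_centralizer_iff]
    intro s hs
    have h1 := Subgroup.mem_centralizer_iff.mp hxC ⟨s, hSA hs⟩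
      (by rw [SetLike.mem_coe, Subgroup.mem_subgroupOf]; exact hs)
    exact congrArg Subtype.val h1

variable [Finite G]

/-- the normalizer of the image of `Z(O_r(A))` is `A`. -/
theorem normalizer_center_pCore_eq [IsSimpleGroup G] (A : Subgroup G) (hA : IsCoatom A)
    (r : ℕ) [hr : Fact r.Prime] (hne : Cfsg.pCore r ↥A ≠ ⊥) :
    Subgroup.normalizer (((Cfsg.pCore r ↥A ⊓
      Subgroup.centralizer (Cfsg.pCore r ↥A : Set ↥A)).map A.subtype : Subgroup G) : Set G) = A := by
  have hRn : (Cfsg.pCore r ↥A).Normal := pCore_normal r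
  set Z := Cfsg.pCore r ↥A ⊓ Subgroup.centralizer (Cfsg.pCore r ↥A : Set ↥A) with hZ
  have hZn : Z.Normal := inferInstance
  have hZne : Z ≠ ⊥ := by
    rw [hZ, ← center_map_subtype]
    have : Nontrivial ↥(Cfsg.pCore r ↥A) := (Subgroup.nontrivial_iff_ne_bot _).mpr hne
    have h1 : Nontrivial (Subgroup.center ↥(Cfsg.pCore r ↥A)) :=
      (pCore_isPGroup (G := ↥A) r).center_nontrivial
    intro h2
    rw [Subgroup.map_eq_bot_iff_of_injective _ (Subgroup.subtype_injective _)] at h2
    rw [Subgroup.nontrivial_iff_ne_bot] at h1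
    exact h1 h2
  have h1 : A ≤ Subgroup.normalizer ((Z.map A.subtype : Subgroup G) : Set G) :=
    le_normalizer_map_of_normal A Z
  have h2 : Subgroup.normalizer ((Z.map A.subtype : Subgroup G) : Set G) ≠ ⊤ := by
    intro htop
    have hn : (Z.map A.subtype).Normal := Subgroup.normalizer_eq_top_iff.mp htop
    rcases hn.eq_bot_or_eq_top with h3 | h3
    · rw [Subgroup.map_eq_bot_iff_of_injective _ A.subtype_injective] at h3
      exact hZne h3
    · apply hA.1
      rw [eq_top_iff, ← h3]
      exact Subgroup.map_subtype_le _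
  by_contra hne'
  have h3 : A < Subgroup.normalizer ((Z.map A.subtype : Subgroup G) : Set G) :=
    lt_of_le_of_ne h1 (Ne.symm hne')
  exact h2 (hA.2 _ h3)

theorem main [IsSimpleGroup G] (A : Subgroup G) (hA : IsCoatom A) (S : Subgroup G)
    (hSF : S ≤ (Cfsg.generalizedFittingSubgroup ↥A).map A.subtype)
    (hSsn : (S.subgroupOf ((Cfsg.generalizedFittingSubgroup ↥A).map A.subtype)).IsSubnormal)
    (hSC : (Cfsg.generalizedFittingSubgroup ↥A).map A.subtype ⊓
      Subgroup.centralizer (S : Set G) ≤ S) (B : Subgroup G) (hSB : S ≤ B) :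
    (∀ q : ℕ, q.Prime → ¬ q ∣ Nat.card (Cfsg.fittingSubgroup ↥A) →
      (Cfsg.pCore q ↥B).map B.subtype ⊓ A = ⊥) ∧
    (∀ p : ℕ, p.Prime → p ∣ Nat.card (Cfsg.fittingSubgroup ↥A) →
      ∀ x ∈ (Cfsg.pCore p ↥B).map B.subtype,
      ∀ y ∈ (Cfsg.pResidual p ↥(Cfsg.generalizedFittingSubgroup ↥A)).map
        ((Cfsg.generalizedFittingSubgroup ↥A).subtype),
        x * (A.subtype y) = (A.subtype y) * x) := by
  have hyp : Hyp (S.subgroupOf A) := hyp_subgroupOf A S hSF hSsn hSC
  have hSA : S ≤ A := hSF.trans (Subgroup.map_subtype_le _)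
  have hBn : ∀ p : ℕ, B ≤ Subgroup.normalizer
      (((Cfsg.pCore p ↥B).map B.subtype : Subgroup G) : Set G) := by
    intro p
    haveI : (Cfsg.pCore p ↥B).Normal := pCore_normal p
    exact le_normalizer_map_of_normal B _
  -- S normalizes `Y ⊓ A` for any `Y` normalized by `B`
  have hnorm : ∀ Y : Subgroup G, B ≤ Subgroup.normalizer (Y : Set G) →
      S.subgroupOf A ≤ Subgroup.normalizer (((Y ⊓ A).subgroupOf A : Subgroup ↥A) : Set ↥A) := by
    intro Y hY s hs
    rw [Subgroup.mem_subgroupOf] at hs
    rw [Subgroup.mem_normalizer_iff]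
    intro x
    rw [Subgroup.mem_subgroupOf, Subgroup.mem_subgroupOf]
    have h1 := Subgroup.mem_normalizer_iff.mp (hY (hSB hs)) (x : G)
    constructor
    · rintro ⟨hx1, _⟩
      exact ⟨h1.mp hx1, (s * x * s⁻¹).2⟩
    · rintro ⟨hx1, _⟩
      exact ⟨h1.mpr hx1, x.2⟩
  constructor
  · -- part (a)
    intro q hq hdvd
    haveI : Fact q.Prime := ⟨hq⟩
    set Y := (Cfsg.pCore q ↥B).map B.subtype with hY
    have hYp : IsPGroup q Y := (pCore_isPGroup (G := ↥B) q).map B.subtype
    have hXp : IsPGroup q ↥((Y ⊓ A).subgroupOf A) :=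
      (hYp.to_le inf_le_left).comap_subtype
    have h1 := hyp.eq_bot_of_not_dvd hXp (hnorm Y (hBn q)) hdvd
    rw [eq_bot_iff]
    intro g hg
    have h2 : (⟨g, hg.2⟩ : ↥A) ∈ (Y ⊓ A).subgroupOf A := by
      rw [Subgroup.mem_subgroupOf]; exact hg
    rw [h1, Subgroup.mem_bot] at h2
    rw [Subgroup.mem_bot]
    exact congrArg Subtype.val h2
  · -- part (b)
    intro p hp hdvd
    haveI : Fact p.Prime := ⟨hp⟩
    set Y := (Cfsg.pCore p ↥B).map B.subtype with hY
    have hYp : IsPGroup p Y := (pCore_isPGroup (G := ↥B) p).map B.subtype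
    have hSY : S ≤ Subgroup.normalizer (Y : Set G) := hSB.trans (hBn p)
    set F := Cfsg.generalizedFittingSubgroup ↥A with hF
    -- `O_p(A) ≠ 1`
    have hOp : Cfsg.pCore p ↥A ≠ ⊥ := by
      intro h0
      obtain ⟨g, hg⟩ := exists_prime_orderOf_dvd_card' (G := ↥(Cfsg.fittingSubgroup ↥A)) p hdvd
      have h1 : (g : ↥A) ∈ Cfsg.pCore p ↥A := by
        apply mem_pCore_of_pow_eq_one g.2
        refine ⟨1, ?_⟩
        rw [pow_one, ← Subgroup.coe_pow, ← hg, pow_orderOf_eq_one, Subgroup.coe_one]
      rw [h0, Subgroup.mem_bot] at h1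
      have : g = 1 := Subtype.ext h1
      rw [this, orderOf_one] at hg
      exact hp.one_lt.ne hg
    -- central pieces
    have hZS : ∀ r : ℕ, ∀ _ : Fact r.Prime, (Cfsg.pCore r ↥A ⊓
        Subgroup.centralizer (Cfsg.pCore r ↥A : Set ↥A)).map A.subtype ≤ S := by
      intro r _
      have h1 := Subgroup.map_mono (f := A.subtype) (hyp.center_pCore_le r)
      rwa [Subgroup.map_subgroupOf_eq_of_le hSA] at h1
    have hZC : ∀ r : ℕ, ∀ _ : Fact r.Prime, (Cfsg.pCore r ↥A ⊓
        Subgroup.centralizer (Cfsg.pCore r ↥A : Set ↥A)).map A.subtype ≤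
        Subgroup.centralizer ((F.map A.subtype : Subgroup G) : Set G) := by
      intro r _
      exact map_le_centralizer_map (pCore_inf_centralizer_le_centralizer r)
    set ZG := (Cfsg.pCore p ↥A ⊓
        Subgroup.centralizer (Cfsg.pCore p ↥A : Set ↥A)).map A.subtype with hZG
    have hZGp : IsPGroup p ZG :=
      ((pCore_isPGroup (G := ↥A) p).to_le inf_le_left).map A.subtype
    have hZGY : ZG ≤ Subgroup.normalizer (Y : Set G) := (hZS p inferInstance).trans hSY
    have hCZ : Subgroup.centralizer (ZG : Set G) ≤ A := by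
      have h1 := normalizer_center_pCore_eq A hA p hOp
      rw [← hZG] at h1
      calc Subgroup.centralizer (ZG : Set G) ≤ Subgroup.normalizer (ZG : Set G) :=
            Subgroup.centralizer_le_normalizer _
        _ = A := h1
    -- the part of `Y` inside `A`
    have hXp : IsPGroup p ↥((Y ⊓ A).subgroupOf A) :=
      (hYp.to_le inf_le_left).comap_subtype
    have hXn := hnorm Y (hBn p)
    have hXlayer : Y ⊓ A ≤ Subgroup.centralizer
        (((Cfsg.layer ↥A).map A.subtype : Subgroup G) : Set G) := by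
      have h1 := map_le_centralizer_map (hyp.le_centralizer_layer hXp hXn)
      rwa [Subgroup.map_subgroupOf_eq_of_le inf_le_right] at h1
    have hXr : ∀ r : ℕ, ∀ _ : Fact r.Prime, r ≠ p → Y ⊓ A ≤ Subgroup.centralizer
        (((Cfsg.pCore r ↥A).map A.subtype : Subgroup G) : Set G) := by
      intro r _ hrp
      have h1 := map_le_centralizer_map (hyp.le_centralizer_pCore hrp hXp hXn)
      rwa [Subgroup.map_subgroupOf_eq_of_le inf_le_right] at h1
    have hYC : Y ⊓ Subgroup.centralizer (ZG : Set G) ≤ Y ⊓ A := inf_le_inf_left Y hCZ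
    -- `Y` centralizes the layer
    have hYlayer : (Cfsg.layer ↥A).map A.subtype ≤ Subgroup.centralizer (Y : Set G) := by
      rw [Subgroup.map_le_iff_le_comap, layer_le_iff]
      intro K hK
      rw [← Subgroup.map_le_iff_le_comap]
      have hKS : K.map A.subtype ≤ S := by
        have h1 := Subgroup.map_mono (f := A.subtype) ((IsComponent.le_layer hK).trans hyp.layer_le)
        rwa [Subgroup.map_subgroupOf_eq_of_le hSA] at h1
      have hKF : K.map A.subtype ≤ F.map A.subtype :=
        Subgroup.map_mono ((IsComponent.le_layer hK).trans layer_le_generalizedFittingSubgroup)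
      apply le_centralizer_of_isQuasisimple hYp hZGp hZGY
        (isQuasisimple_map_of_injective A.subtype A.subtype_injective hK.2) (hKS.trans hSY)
      · rw [Subgroup.le_centralizer_iff]
        exact (hZC p inferInstance).trans (Subgroup.centralizer_le hKF)
      · rw [Subgroup.le_centralizer_iff]
        exact (hYC.trans hXlayer).trans
          (Subgroup.centralizer_le (Subgroup.map_mono (IsComponent.le_layer hK)))
    -- `Y` centralizes `O_r(A)`, `r ≠ p`
    have hYr : ∀ r : ℕ, r.Prime → r ≠ p →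
        (Cfsg.pCore r ↥A).map A.subtype ≤ Subgroup.centralizer (Y : Set G) := by
      intro r hr hrp
      haveI : Fact r.Prime := ⟨hr⟩
      by_cases hOr : Cfsg.pCore r ↥A = ⊥
      · rw [hOr, Subgroup.map_bot]; exact bot_le
      · set SrG := ((S.subgroupOf A) ⊓ Cfsg.pCore r ↥A).map A.subtype with hSrG
        have hSrS : SrG ≤ S := by
          have h1 := Subgroup.map_mono (f := A.subtype)
            (inf_le_left : (S.subgroupOf A) ⊓ Cfsg.pCore r ↥A ≤ S.subgroupOf A)
          rwa [Subgroup.map_subgroupOf_eq_of_le hSA] at h1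
        have hSrR : SrG ≤ (Cfsg.pCore r ↥A).map A.subtype := Subgroup.map_mono inf_le_right
        have hSrF : SrG ≤ F.map A.subtype :=
          hSrR.trans (Subgroup.map_mono (pCore_le_generalizedFittingSubgroup r ↥A))
        have hSrp : IsPGroup r SrG :=
          ((pCore_isPGroup (G := ↥A) r).to_le inf_le_right).map A.subtype
        have hcop : (Nat.card SrG).Coprime p := by
          obtain ⟨k, hk⟩ := IsPGroup.iff_card.mp hSrp
          rw [hk]
          exact Nat.Coprime.pow_left k ((Nat.coprime_primes hr hp).mpr hrp)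
        have h1 : SrG ≤ Subgroup.centralizer (Y : Set G) := by
          apply thompson_PQ p ZG SrG Y hZGp hcop hYp _ hZGY (hSrS.trans hSY)
          · exact (hYC.trans (hXr r inferInstance hrp)).trans (Subgroup.centralizer_le hSrR)
          · exact (hZC p inferInstance).trans (Subgroup.centralizer_le hSrF)
        -- hence `Y ≤ A`
        have hZr : (Cfsg.pCore r ↥A ⊓
            Subgroup.centralizer (Cfsg.pCore r ↥A : Set ↥A)).map A.subtype ≤ SrG := by
          apply Subgroup.map_mono
          exact le_inf (hyp.center_pCore_le r) inf_le_left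
        have hYA : Y ≤ A := by
          have h2 := normalizer_center_pCore_eq A hA r hOr
          have h3 : Y ≤ Subgroup.centralizer (((Cfsg.pCore r ↥A ⊓
              Subgroup.centralizer (Cfsg.pCore r ↥A : Set ↥A)).map A.subtype : Subgroup G) : Set G) := by
            rw [Subgroup.le_centralizer_iff]
            exact hZr.trans h1
          calc Y ≤ _ := h3
            _ ≤ Subgroup.normalizer _ := Subgroup.centralizer_le_normalizer _
            _ = A := h2
        have h4 := hXr r inferInstance hrp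
        rw [inf_eq_left.mpr hYA] at h4
        exact Subgroup.le_centralizer_iff.mp h4
    -- conclusion
    set M := Cfsg.layer ↥A ⊔ oppCore p ↥A with hM
    have hMY : M.map A.subtype ≤ Subgroup.centralizer (Y : Set G) := by
      rw [hM, Subgroup.map_sup]
      apply sup_le hYlayer
      rw [Subgroup.map_le_iff_le_comap]
      apply oppCore_le_of_forall
      intro t ht htp
      rw [← Subgroup.map_le_iff_le_comap]
      exact hYr t ht htp
    have hres : Cfsg.pResidual p ↥F ≤ M.subgroupOf F := by
      apply Cfsg.Agent.Lib.Helper6.pResidual_le_of_forall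
      intro g hg
      rw [Subgroup.mem_subgroupOf]
      have h1 : (g : ↥A) ∈ M ⊔ Cfsg.pCore p ↥A := by
        have h2 : (g : ↥A) ∈ Cfsg.layer ↥A ⊔ Cfsg.fittingSubgroup ↥A := g.2
        rw [fitting_eq_pCore_sup_oppCore p, ← sup_assoc] at h2
        exact h2
      have h3 : Nat.Coprime (orderOf (g : ↥A)) p := by
        rw [Subgroup.orderOf_coe]; exact hg
      exact Cfsg.Agent.Lib.Helper6.mem_of_coprime_of_mem_sup M (pCore_isPGroup p) h3 h1
    intro x hx y hy
    obtain ⟨z, hz, rfl⟩ := hy
    have h1 : (z : ↥A) ∈ M := by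
      have := hres hz
      rwa [Subgroup.mem_subgroupOf] at this
    have h2 : A.subtype (z : ↥A) ∈ Subgroup.centralizer (Y : Set G) :=
      hMY (Subgroup.mem_map_of_mem A.subtype h1)
    exact Subgroup.mem_centralizer_iff.mp h2 x hx

end Cfsg.Agent.Lib.Lead.BenderS
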