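import Mathlib
import Cfsg.Agent.Lib.Lead.BG10o

set_option autoImplicit false

/-! Bender–Glauberman §10, part p: the configuration used for Corollary 10.9
(nonabelian `p`-subgroups lie in a unique maximal subgroup). -/

namespace Cfsg.Agent.Lib.Lead.BG10

open Cfsg

universe u

variable {G : Type u} [Group G]

/-- The configuration for B&G Corollary 10.9: `P` a `p`-subgroup, `Z ≤ Z(P)` of order `p` all of whose
`p`-overgroups have normalizer inside `N(Z)`; `x ∈ P \ Z` of order `p`, `u ∈ P` with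
`1 ≠ [u, x] ∈ Z`; and `Z⟨x⟩` contains every element of order dividing `p` of its centralizer. -/
structure NACfg (p : ℕ) (P Z : Subgroup G) (x u : G) : Prop where
  hPp : IsPGroup p P
  hZP : Z ≤ P
  hZc : Nat.card Z = p
  hZcen : P ≤ Subgroup.centralizer (Z : Set G)
  hN : ∀ R : Subgroup G, IsPGroup p R → Z ≤ R →
    Subgroup.normalizer (R : Set G) ≤ Subgroup.normalizer (Z : Set G)
  hxP : x ∈ P
  hxp : x ^ p = 1
  hxZ : x ∉ Z
  huP : u ∈ P
  hux : u * x * u⁻¹ * x⁻¹ ∈ Z
  hux1 : u * x * u⁻¹ * x⁻¹ ≠ 1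
  hmax : ∀ y ∈ Subgroup.centralizer ((Z ⊔ Subgroup.zpowers x : Subgroup G) : Set G), y ^ p = 1 →
    y ∈ Z ⊔ Subgroup.zpowers x

end Cfsg.Agent.Lib.Lead.BG10
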