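import Mathlib
import Cfsg.Agent.Lib.Lead.BG10j
import Cfsg.Agent.Lib.Helper9.P3Class1
import Cfsg.Agent.S1448

set_option autoImplicit false

/-! Bender–Glauberman §10, part k: Corollary 10.7(c), Sylow subgroups of rank at most two. -/

namespace Cfsg.Agent.Lib.Lead.BG10

open Cfsg Cfsg.Agent.Lib.Lead Cfsg.Agent.Lib.Helper7 Cfsg.Agent.Lib.Helper4
open Cfsg.Agent.Lib.Helper4.BG7 Cfsg.Agent.Lib.Helper4.BG76 Cfsg.Agent.Lib.Helper4.BG8
open Cfsg.Agent.Lib.Helper4.BG9 Cfsg.Agent.Lib.Lead.BG95 Cfsg.Agent.Lib.Helper4.ThreeStep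
open scoped commutatorElement

universe u

variable {G : Type u} [Group G] [Finite G]

theorem center_map_subtype (R : Subgroup G) :
    (Subgroup.center ↥R).map R.subtype = R ⊓ Subgroup.centralizer (R : Set G) := by
  ext x
  constructor
  · rintro ⟨z, hz, rfl⟩
    refine Subgroup.mem_inf.mpr ⟨z.2, ?_⟩
    refine Subgroup.mem_centralizer_iff.mpr ?_
    intro g hg
    have h1 := Subgroup.mem_center_iff.mp hz ⟨g, hg⟩
    exact congrArg Subtype.val h1
  · intro hx
    obtain ⟨hxR, hxC⟩ := Subgroup.mem_inf.mp hx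
    refine ⟨⟨x, hxR⟩, ?_, rfl⟩
    refine Subgroup.mem_center_iff.mpr ?_
    rintro ⟨g, hg⟩
    apply Subtype.ext
    exact Subgroup.mem_centralizer_iff.mp hxC g hg

/-- in a nonabelian group of order `p³` the derived group is the centre -/
theorem commutator_eq_center_of_card_cube {p : ℕ} [hp : Fact p.Prime] {R : Subgroup G}
    (hc : Nat.card R = p ^ 3) (hna : ¬ IsMulCommutative R) :
    ⁅R, R⁆ = R ⊓ Subgroup.centralizer (R : Set G) := by
  have hna' : ¬ ∀ a b : ↥R, a * b = b * a := fun h => hna ⟨⟨h⟩⟩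
  obtain ⟨hZ, hcomm, -⟩ := Cfsg.Agent.H9P3.nonab_center p hc hna'
  have hle : commutator ↥R ≤ Subgroup.center ↥R := by
    rw [commutator_def, Subgroup.commutator_le]
    intro a _ b _
    exact hcomm a b
  have hne : commutator ↥R ≠ ⊥ := by
    intro h0
    apply hna'
    intro a b
    have h1 : ⁅a, b⁆ ∈ commutator ↥R := by
      rw [commutator_def]
      exact Subgroup.commutator_mem_commutator (Subgroup.mem_top a) (Subgroup.mem_top b)
    rw [h0, Subgroup.mem_bot] at h1
    exact (commutatorElement_eq_one_iff_mul_comm.mp h1)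
  have heq : commutator ↥R = Subgroup.center ↥R := by
    apply Subgroup.eq_of_le_of_card_ge hle
    have hd : Nat.card ↥(commutator ↥R) ∣ p := by
      rw [← hZ]; exact Subgroup.card_dvd_of_le hle
    rcases (Nat.dvd_prime hp.out).mp hd with h | h
    · exact absurd (Subgroup.card_eq_one.mp h) hne
    · rw [hZ, h]
  rw [← Subgroup.map_subtype_commutator, heq, center_map_subtype]

/-- Bender–Glauberman, Corollary 10.7(c) -/
theorem corollary_10_7c (hG : IsMinSimpleOddOrder G) (p : ℕ) [hp : Fact p.Prime] (P : Sylow p G)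
    (hr : PRankLE p 2 ↥(P : Subgroup G)) :
    IsMulCommutative (P : Subgroup G) ∨ ∃ P₁ P₂ : Subgroup G, P₁ ⊔ P₂ = (P : Subgroup G) ∧
      (∀ a ∈ P₁, ∀ b ∈ P₂, a * b = b * a) ∧
      ¬ IsMulCommutative P₁ ∧ Nat.card P₁ = p ^ 3 ∧ Monoid.exponent P₁ = p ∧ IsCyclic P₂ ∧
      Subgroup.closure {x : G | x ∈ P₂ ∧ x ^ p = 1} = P₁ ⊓ Subgroup.centralizer (P₁ : Set G) := by
  by_cases hP1 : (P : Subgroup G) = ⊥
  · left
    rw [hP1]
    infer_instance
  have hPp : IsPGroup p ↥(P : Subgroup G) := P.isPGroup'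
  have hpG : p ∣ Nat.card G := by
    rcases hPp.card_eq_or_dvd with h | h
    · exact absurd (Subgroup.card_eq_one.mp h) hP1
    · exact h.trans (Subgroup.card_subgroup_dvd_card _)
  have hp2 : p ≠ 2 := ne_two_of_odd hG hpG
  set N := Subgroup.normalizer ((P : Subgroup G) : Set G) with hN
  have hPN : (P : Subgroup G) ≤ N := Subgroup.le_normalizer
  set H : Subgroup ↥N := (P : Subgroup G).subgroupOf N with hH
  have hHn : H.Normal := Subgroup.normal_subgroupOf_of_le_normalizer le_rfl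
  have hHcard : Nat.card H = Nat.card (P : Subgroup G) := card_subgroupOf_of_le hPN
  have hHidx : ¬ p ∣ H.index := by
    intro hd
    apply P.not_dvd_index
    rw [← Subgroup.relIndex_mul_index hPN]
    exact Dvd.dvd.mul_right hd _
  have hcop : (Nat.card H).Coprime H.index := by
    obtain ⟨k, hk⟩ := IsPGroup.iff_card.mp hPp
    rw [hHcard, hk]
    apply Nat.Coprime.pow_left
    rw [Nat.Prime.coprime_iff_not_dvd hp.out]
    exact hHidx
  obtain ⟨K, hK⟩ := Subgroup.exists_right_complement'_of_coprime hcop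
  set V : Subgroup G := K.map N.subtype with hV
  have hVN : V ≤ N := Subgroup.map_subtype_le _
  have hinf : (P : Subgroup G) ⊓ V = ⊥ := by
    rw [Subgroup.eq_bot_iff_forall]
    rintro x ⟨hxP, ⟨k, hk, rfl⟩⟩
    have h1 : k ∈ H ⊓ K := ⟨Subgroup.mem_subgroupOf.mpr hxP, hk⟩
    rw [disjoint_iff.mp hK.disjoint, Subgroup.mem_bot] at h1
    rw [h1]; rfl
  have hKH : K ≤ Subgroup.normalizer (H : Set ↥N) := by
    rw [Subgroup.normalizer_eq_top_iff.mpr hHn]; exact le_top
  have hmul : ∀ m ∈ N, ∃ a ∈ (P : Subgroup G), ∃ b ∈ V, m = a * b := by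
    intro m hm
    have h1 : (⟨m, hm⟩ : ↥N) ∈ H ⊔ K := by rw [hK.sup_eq_top]; trivial
    obtain ⟨a, ha, b, hb, e⟩ := exists_mul_of_mem_sup hKH h1
    refine ⟨a, Subgroup.mem_subgroupOf.mp ha, b, ⟨b, hb, rfl⟩, ?_⟩
    have := congrArg Subtype.val e
    simpa using this
  obtain ⟨hPV, -⟩ := sylow_eq_commutator hG P hVN hinf hmul
  have hVcard : Nat.card V = H.index := by
    rw [hV, Subgroup.card_map_of_injective N.subtype_injective]
    exact hK.symm.index_eq_card.symm
  have hVcop : (Nat.card V).Coprime p := by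
    rw [hVcard, Nat.coprime_comm, Nat.Prime.coprime_iff_not_dvd hp.out]
    exact hHidx
  obtain ⟨-, h2⟩ := Cfsg.Agent.S1448.result p hp2 (P : Subgroup G) V hPp hP1 hr hVN hVcop
    (odd_card_sub hG V) hPV.symm
  rcases h2 with h2 | ⟨R₁, R₂, h3, h4, h5, h6, h7, h8, h9⟩
  · exact Or.inl h2
  · refine Or.inr ⟨R₁, R₂, h3, h4, h5, h6, h7, h8, ?_⟩
    rw [h9]
    exact commutator_eq_center_of_card_cube h6 h5

end Cfsg.Agent.Lib.Lead.BG10
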