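import Mathlib
import Cfsg.Agent.Lib.Lead.BG10p
import Cfsg.Agent.Lib.Lead.BG10k
import Cfsg.Agent.Lib.Lead.AbelianSylowB
import Cfsg.Agent.Lib.Lead.CyclicP
import Cfsg.Agent.Lib.Helper4.NS2
import Cfsg.Agent.Lib.Helper3.NormalSq2

set_option autoImplicit false

/-! Bender–Glauberman, nonabelian `p`-subgroups are uniqueness subgroups:
the configurations in a nonabelian Sylow subgroup of rank two. -/

namespace Cfsg.Agent.Lib.Lead.BG10

open Cfsg Cfsg.Agent.Lib.Lead Cfsg.Agent.Lib.Helper7 Cfsg.Agent.Lib.Helper4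
open Cfsg.Agent.Lib.Helper4.BG7 Cfsg.Agent.Lib.Helper4.BG76 Cfsg.Agent.Lib.Helper4.BG8
open Cfsg.Agent.Lib.Helper4.BG9 Cfsg.Agent.Lib.Lead.BG95 Cfsg.Agent.Lib.Helper4.ThreeStep
open scoped commutatorElement

universe u

variable {G : Type u} [Group G] [Finite G]

/-- in a group of `p`-rank two an elementary abelian subgroup of order `p ^ 2` contains every
element of order dividing `p` of its centralizer -/
theorem mem_of_centralizer_of_rank {p : ℕ} [hp : Fact p.Prime] {A : Subgroup G}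
    (hA : IsElementaryAbelian p A) (hAc : Nat.card A = p ^ 2) (hr : PRankLE p 2 G) {y : G}
    (hy : y ∈ Subgroup.centralizer (A : Set G)) (hyp : y ^ p = 1) : y ∈ A := by
  have hel : IsElementaryAbelian p (Subgroup.zpowers y) := by
    refine ⟨inferInstance, ?_⟩
    intro a ha
    obtain ⟨k, rfl⟩ := Subgroup.mem_zpowers_iff.mp ha
    rw [← zpow_natCast, ← zpow_mul, mul_comm, zpow_mul, zpow_natCast, hyp, one_zpow]
  have hcomm : ∀ a ∈ A, ∀ b ∈ Subgroup.zpowers y, a * b = b * a := by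
    intro a ha b hb
    obtain ⟨k, rfl⟩ := Subgroup.mem_zpowers_iff.mp hb
    have h1 : Commute a y := Subgroup.mem_centralizer_iff.mp hy a ha
    exact (h1.zpow_right k).eq
  have hE := Cfsg.Agent.Lib.Helper3.NormalSq.isElementaryAbelian_sup hA hel hcomm
  have hcard := hr _ hE.1 hE.2
  have e : A = A ⊔ Subgroup.zpowers y :=
    Subgroup.eq_of_le_of_card_ge le_sup_left (by rw [hAc]; exact hcard)
  rw [e]
  exact (le_sup_right : Subgroup.zpowers y ≤ _) (Subgroup.mem_zpowers y)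

/-- constructor for `NACfg` in a group of `p`-rank two -/
theorem mk_cfg_of_rank {p : ℕ} [hp : Fact p.Prime] (hr : PRankLE p 2 G) {P Z : Subgroup G}
    (hPp : IsPGroup p P) (hZP : Z ≤ P) (hZc : Nat.card Z = p)
    (hZcen : P ≤ Subgroup.centralizer (Z : Set G))
    (hN : ∀ R : Subgroup G, IsPGroup p R → Z ≤ R →
      Subgroup.normalizer (R : Set G) ≤ Subgroup.normalizer (Z : Set G))
    {x u : G} (hxP : x ∈ P) (hxp : x ^ p = 1) (hxZ : x ∉ Z) (huP : u ∈ P)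
    (hux : u * x * u⁻¹ * x⁻¹ ∈ Z) (hux1 : u * x * u⁻¹ * x⁻¹ ≠ 1) : NACfg p P Z x u := by
  refine ⟨hPp, hZP, hZc, hZcen, hN, hxP, hxp, hxZ, huP, hux, hux1, ?_⟩
  -- `Z = ⟨z₀⟩`
  have hZeq : Z = Subgroup.zpowers (u * x * u⁻¹ * x⁻¹) := by
    symm
    apply Subgroup.eq_of_le_of_card_ge (Subgroup.zpowers_le.mpr hux)
    rw [hZc, Nat.card_zpowers]
    have h1 : orderOf (u * x * u⁻¹ * x⁻¹) ∣ p := by
      rw [← hZc]
      have := orderOf_dvd_natCard (⟨_, hux⟩ : ↥Z)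
      rwa [Subgroup.orderOf_mk] at this
    rcases (Nat.dvd_prime hp.out).mp h1 with h | h
    · exact absurd (orderOf_eq_one_iff.mp h) hux1
    · exact h.ge
  have hzp : (u * x * u⁻¹ * x⁻¹) ^ p = 1 := by
    have h1 : (⟨_, hux⟩ : ↥Z) ^ Nat.card ↥Z = 1 := pow_card_eq_one'
    rw [hZc] at h1
    have := congrArg Subtype.val h1
    simpa using this
  have hzx : (u * x * u⁻¹ * x⁻¹) * x = x * (u * x * u⁻¹ * x⁻¹) :=
    Subgroup.mem_centralizer_iff.mp (hZcen hxP) _ hux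
  have h := pair_elementary (p := p) hzx hux1 hzp hxp (by rw [← hZeq]; exact hxZ)
  rw [← hZeq] at h
  intro y hy hyp
  exact mem_of_centralizer_of_rank h.1 h.2 hr hy hyp

/-- the structure of a nonabelian Sylow subgroup of rank two (Corollary 10.7(c)) -/
structure R2Data (p : ℕ) (S P₁ P₂ : Subgroup G) : Prop where
  hsup : P₁ ⊔ P₂ = S
  hcomm : ∀ a ∈ P₁, ∀ b ∈ P₂, a * b = b * a
  hna : ¬ IsMulCommutative ↥P₁
  hcard : Nat.card P₁ = p ^ 3
  hexp : Monoid.exponent ↥P₁ = p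
  hcyc : IsCyclic ↥P₂
  hcl : Subgroup.closure {x : G | x ∈ P₂ ∧ x ^ p = 1} = P₁ ⊓ Subgroup.centralizer (P₁ : Set G)

namespace R2Data

variable {p : ℕ} [hp : Fact p.Prime] {S P₁ P₂ : Subgroup G}

theorem le₁ (d : R2Data p S P₁ P₂) : P₁ ≤ S := d.hsup ▸ le_sup_left

theorem le₂ (d : R2Data p S P₁ P₂) : P₂ ≤ S := d.hsup ▸ le_sup_right

theorem card_Z (d : R2Data p S P₁ P₂) :
    Nat.card ↥(P₁ ⊓ Subgroup.centralizer (P₁ : Set G) : Subgroup G) = p := by
  have hna' : ¬ ∀ a b : ↥P₁, a * b = b * a := fun h => d.hna ⟨⟨h⟩⟩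
  obtain ⟨hZ, -, -⟩ := Cfsg.Agent.H9P3.nonab_center p d.hcard hna'
  rw [← center_map_subtype, Subgroup.card_map_of_injective P₁.subtype_injective]
  exact hZ

theorem Z_le₂ (d : R2Data p S P₁ P₂) : P₁ ⊓ Subgroup.centralizer (P₁ : Set G) ≤ P₂ := by
  rw [← d.hcl, Subgroup.closure_le]
  exact fun x hx => hx.1

theorem comm₂ (d : R2Data p S P₁ P₂) {a b : G} (ha : a ∈ P₂) (hb : b ∈ P₂) : a * b = b * a := by
  obtain ⟨g, hg⟩ := d.hcyc.exists_generator
  obtain ⟨i, hi⟩ := Subgroup.mem_zpowers_iff.mp (hg ⟨a, ha⟩)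
  obtain ⟨j, hj⟩ := Subgroup.mem_zpowers_iff.mp (hg ⟨b, hb⟩)
  have h := (Commute.zpow_zpow (Commute.refl g) i j).eq
  rw [hi, hj] at h
  exact congrArg Subtype.val h

theorem central₂ (d : R2Data p S P₁ P₂) {b s : G} (hb : b ∈ P₂) (hs : s ∈ S) : b * s = s * b := by
  rw [← d.hsup] at hs
  obtain ⟨a, ha, b', hb', rfl⟩ := mem_sup_of_commute P₁ P₂ d.hcomm hs
  have h1 : Commute b a := (d.hcomm a ha b hb).symm
  have h2 : Commute b b' := d.comm₂ hb hb'
  exact (h1.mul_right h2).eq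

theorem pow₁ (d : R2Data p S P₁ P₂) {a : G} (ha : a ∈ P₁) : a ^ p = 1 := by
  have h1 : (⟨a, ha⟩ : ↥P₁) ^ Monoid.exponent ↥P₁ = 1 := Monoid.pow_exponent_eq_one _
  rw [d.hexp] at h1
  have := congrArg Subtype.val h1
  simpa using this

theorem Z_central (d : R2Data p S P₁ P₂) :
    S ≤ Subgroup.centralizer ((P₁ ⊓ Subgroup.centralizer (P₁ : Set G) : Subgroup G) : Set G) := by
  intro s hs
  apply Subgroup.mem_centralizer_iff.mpr
  intro z hz
  exact d.central₂ (d.Z_le₂ hz) hs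

/-- commutators of `S` lie in `Z` -/
theorem comm_mem (d : R2Data p S P₁ P₂) {s t : G} (hs : s ∈ S) (ht : t ∈ S) :
    s * t * s⁻¹ * t⁻¹ ∈ P₁ ⊓ Subgroup.centralizer (P₁ : Set G) := by
  have hs' := hs
  have ht' := ht
  rw [← d.hsup] at hs' ht'
  obtain ⟨a, ha, b, hb, rfl⟩ := mem_sup_of_commute P₁ P₂ d.hcomm hs'
  obtain ⟨a', ha', b', hb', rfl⟩ := mem_sup_of_commute P₁ P₂ d.hcomm ht'
  have hba' : b * a' = a' * b := (d.hcomm a' ha' b hb).symm
  have hb'a : b' * a = a * b' := (d.hcomm a ha b' hb').symm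
  have hbb' : b' * b = b * b' := d.comm₂ hb' hb
  have e1 : a * b * (a' * b') = (a * a') * (b * b') := by
    calc a * b * (a' * b') = a * (b * a') * b' := by group
      _ = a * (a' * b) * b' := by rw [hba']
      _ = (a * a') * (b * b') := by group
  have e2 : a' * b' * (a * b) = (a' * a) * (b * b') := by
    calc a' * b' * (a * b) = a' * (b' * a) * b := by group
      _ = a' * (a * b') * b := by rw [hb'a]
      _ = (a' * a) * (b' * b) := by group
      _ = (a' * a) * (b * b') := by rw [hbb']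
  have e3 : a * b * (a' * b') * (a * b)⁻¹ * (a' * b')⁻¹ =
      (a * b * (a' * b')) * (a' * b' * (a * b))⁻¹ := by group
  rw [e3, e1, e2]
  have e4 : a * a' * (b * b') * (a' * a * (b * b'))⁻¹ = ⁅a, a'⁆ := by
    rw [commutatorElement_def]; group
  rw [e4, ← commutator_eq_center_of_card_cube d.hcard d.hna]
  exact Subgroup.commutator_mem_commutator ha ha'

theorem pow_Z (d : R2Data p S P₁ P₂) {z : G}
    (hz : z ∈ P₁ ⊓ Subgroup.centralizer (P₁ : Set G)) : z ^ p = 1 := d.pow₁ hz.1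

theorem mem_Z_iff (d : R2Data p S P₁ P₂) (s : G) :
    s ∈ P₁ ⊓ Subgroup.centralizer (P₁ : Set G) ↔
      s ∈ S ∧ (∀ t ∈ S, s * t = t * s) ∧ s ^ p = 1 := by
  constructor
  · intro hs
    refine ⟨d.le₁ hs.1, ?_, d.pow_Z hs⟩
    intro t ht
    exact d.central₂ (d.Z_le₂ hs) ht
  · rintro ⟨hsS, hcen, hsp⟩
    have hsS' := hsS
    rw [← d.hsup] at hsS'
    obtain ⟨a, ha, b, hb, rfl⟩ := mem_sup_of_commute P₁ P₂ d.hcomm hsS'
    have haZ : a ∈ P₁ ⊓ Subgroup.centralizer (P₁ : Set G) := by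
      refine ⟨ha, ?_⟩
      apply Subgroup.mem_centralizer_iff.mpr
      intro t ht
      have h1 : Commute (a * b) t := hcen t (d.le₁ ht)
      have h2 : Commute b t := (d.hcomm t ht b hb).symm
      have h3 : Commute (a * b * b⁻¹) t := h1.mul_left h2.inv_left
      have h4 : a * b * b⁻¹ = a := by group
      rw [h4] at h3
      exact h3.eq.symm
    have habP₂ : a * b ∈ P₂ := P₂.mul_mem (d.Z_le₂ haZ) hb
    rw [← d.hcl]
    exact Subgroup.subset_closure ⟨habP₂, hsp⟩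

theorem normalizer_le (d : R2Data p S P₁ P₂) :
    Subgroup.normalizer (S : Set G) ≤
      Subgroup.normalizer ((P₁ ⊓ Subgroup.centralizer (P₁ : Set G) : Subgroup G) : Set G) := by
  have key : ∀ n : G, n ∈ Subgroup.normalizer (S : Set G) → ∀ s : G,
      s ∈ P₁ ⊓ Subgroup.centralizer (P₁ : Set G) →
      n * s * n⁻¹ ∈ P₁ ⊓ Subgroup.centralizer (P₁ : Set G) := by
    intro n hn s hs
    rw [d.mem_Z_iff] at hs ⊢
    obtain ⟨h1, h2, h3⟩ := hs
    refine ⟨(Subgroup.mem_normalizer_iff.mp hn s).mp h1, ?_, ?_⟩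
    · intro t ht
      have ht' : n⁻¹ * t * n ∈ S := by
        have := (Subgroup.mem_normalizer_iff.mp (Subgroup.inv_mem _ hn) t).mp ht
        simpa using this
      have := h2 _ ht'
      calc n * s * n⁻¹ * t = n * (s * (n⁻¹ * t * n)) * n⁻¹ := by group
        _ = n * ((n⁻¹ * t * n) * s) * n⁻¹ := by rw [this]
        _ = t * (n * s * n⁻¹) := by group
    · rw [conj_pow, h3]; group
  intro n hn
  rw [Subgroup.mem_normalizer_iff]
  intro s
  constructor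
  · exact key n hn s
  · intro hs
    have := key n⁻¹ (Subgroup.inv_mem _ hn) _ hs
    have e : n⁻¹ * (n * s * n⁻¹) * n⁻¹⁻¹ = s := by group
    rwa [e] at this

theorem exists_pair_aux (d : R2Data p S P₁ P₂) {P : Subgroup G} {g h a b a' b' : G}
    (hg : g ∈ P) (hh : h ∈ P) (hne : g * h ≠ h * g) (ha : a ∈ P₁) (hb : b ∈ P₂) (ha' : a' ∈ P₁)
    (hge : g = a * b) (hhe : h = a' * b') (hbb : b' ∈ Subgroup.zpowers b) :
    ∃ x u : G, x ∈ P ∧ x ∈ P₁ ∧ u ∈ P ∧ u * x ≠ x * u := by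
  obtain ⟨k, hk⟩ := Subgroup.mem_zpowers_iff.mp hbb
  refine ⟨h * g ^ (-k), g, P.mul_mem hh (P.zpow_mem hg _), ?_, hg, ?_⟩
  · have hab : Commute a b := d.hcomm a ha b hb
    have e1 : g ^ (-k) = a ^ (-k) * b ^ (-k) := by rw [hge, hab.mul_zpow]
    have hba : Commute (b ^ k) (a ^ (-k)) := (hab.symm.zpow_zpow k (-k))
    have e2 : h * g ^ (-k) = a' * a ^ (-k) := by
      rw [hhe, e1, ← hk]
      calc a' * b ^ k * (a ^ (-k) * b ^ (-k)) = a' * (b ^ k * a ^ (-k)) * b ^ (-k) := by group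
        _ = a' * (a ^ (-k) * b ^ k) * b ^ (-k) := by rw [hba.eq]
        _ = a' * a ^ (-k) := by group
    rw [e2]
    exact P₁.mul_mem ha' (P₁.zpow_mem ha _)
  · intro hc
    apply hne
    calc g * h = (g * (h * g ^ (-k))) * g ^ k := by group
      _ = (h * g ^ (-k) * g) * g ^ k := by rw [hc]
      _ = h * g := by group

theorem exists_pair (d : R2Data p S P₁ P₂) (hSp : IsPGroup p S) {P : Subgroup G} (hPS : P ≤ S)
    (hPna : ¬ IsMulCommutative ↥P) : ∃ x u : G, x ∈ P ∧ x ∈ P₁ ∧ u ∈ P ∧ u * x ≠ x * u := by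
  have hex : ∃ g ∈ P, ∃ h ∈ P, g * h ≠ h * g := by
    by_contra hcon
    push Not at hcon
    apply hPna
    refine ⟨⟨?_⟩⟩
    rintro ⟨a, ha⟩ ⟨b, hb⟩
    apply Subtype.ext
    exact hcon a ha b hb
  obtain ⟨g, hg, h, hh, hne⟩ := hex
  have hg' := hPS hg
  have hh' := hPS hh
  rw [← d.hsup] at hg' hh'
  obtain ⟨a, ha, b, hb, hge⟩ := mem_sup_of_commute P₁ P₂ d.hcomm hg'
  obtain ⟨a', ha', b', hb', hhe⟩ := mem_sup_of_commute P₁ P₂ d.hcomm hh'
  haveI := d.hcyc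
  have hP₂p : IsPGroup p ↥P₂ := hSp.to_le d.le₂
  rcases le_total_of_isCyclic_of_isPGroup hP₂p (Subgroup.zpowers (⟨b, hb⟩ : ↥P₂))
      (Subgroup.zpowers (⟨b', hb'⟩ : ↥P₂)) with hle | hle
  · -- `b ∈ ⟨b'⟩`
    have h1 : (⟨b, hb⟩ : ↥P₂) ∈ Subgroup.zpowers (⟨b', hb'⟩ : ↥P₂) := hle (Subgroup.mem_zpowers _)
    obtain ⟨k, hk⟩ := Subgroup.mem_zpowers_iff.mp h1
    have h2 : b ∈ Subgroup.zpowers b' := by
      refine Subgroup.mem_zpowers_iff.mpr ⟨k, ?_⟩
      have := congrArg Subtype.val hk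
      simpa using this
    exact d.exists_pair_aux hh hg (Ne.symm hne) ha' hb' ha hhe hge h2
  · have h1 : (⟨b', hb'⟩ : ↥P₂) ∈ Subgroup.zpowers (⟨b, hb⟩ : ↥P₂) := hle (Subgroup.mem_zpowers _)
    obtain ⟨k, hk⟩ := Subgroup.mem_zpowers_iff.mp h1
    have h2 : b' ∈ Subgroup.zpowers b := by
      refine Subgroup.mem_zpowers_iff.mpr ⟨k, ?_⟩
      have := congrArg Subtype.val hk
      simpa using this
    exact d.exists_pair_aux hg hh hne ha hb ha' hge hhe h2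

end R2Data

/-- (B1) the configurations in a nonabelian Sylow subgroup of rank two -/
theorem exists_cfg_of_rank_two (hG : IsMinSimpleOddOrder G) {p : ℕ} [hp : Fact p.Prime]
    (S : Sylow p G) (hr : PRankLE p 2 ↥(S : Subgroup G))
    (hSna : ¬ IsMulCommutative (S : Subgroup G)) :
    ∃ Z P₁ : Subgroup G, P₁ ≤ (S : Subgroup G) ∧ Nat.card P₁ = p ^ 3 ∧ ¬ IsMulCommutative P₁ ∧
      Z = P₁ ⊓ Subgroup.centralizer (P₁ : Set G) ∧
      (∀ P : Subgroup G, P ≤ (S : Subgroup G) → ¬ IsMulCommutative P → ∃ x u : G, NACfg p P Z x u) ∧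
      (∀ b ∈ P₁, b ∉ Subgroup.centralizer (P₁ : Set G) → ∃ u : G, NACfg p (S : Subgroup G) Z b u) := by
  rcases corollary_10_7c hG p S hr with h | ⟨P₁, P₂, hsup, hcomm, hP₁na, hP₁c, hexp, hP₂cyc, hcl⟩
  · exact absurd h hSna
  have d : R2Data p (S : Subgroup G) P₁ P₂ := ⟨hsup, hcomm, hP₁na, hP₁c, hexp, hP₂cyc, hcl⟩
  have hrG : PRankLE p 2 G := Cfsg.Agent.Lib.Helper4.NS.prankLE_of_sylow S 2 hr
  set Z : Subgroup G := P₁ ⊓ Subgroup.centralizer (P₁ : Set G) with hZdef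
  have hZS : Z ≤ (S : Subgroup G) := inf_le_left.trans d.le₁
  have hN : ∀ R : Subgroup G, IsPGroup p R → Z ≤ R →
      Subgroup.normalizer (R : Set G) ≤ Subgroup.normalizer (Z : Set G) :=
    fun R hR hZR => (corollary_10_7def hG p S).2.2 R Z hR (le_inf hZS hZR) d.normalizer_le
  -- the general constructor
  have mk : ∀ P : Subgroup G, P ≤ (S : Subgroup G) → ∀ x u : G, x ∈ P → x ∈ P₁ → u ∈ P →
      u * x ≠ x * u → NACfg p P Z x u := by
    intro P hPS x u hxP hxP₁ huP hne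
    have hux : u * x * u⁻¹ * x⁻¹ ∈ Z := d.comm_mem (hPS huP) (hPS hxP)
    have hux1 : u * x * u⁻¹ * x⁻¹ ≠ 1 := by
      intro h1
      apply hne
      calc u * x = (u * x * u⁻¹ * x⁻¹) * (x * u) := by group
        _ = x * u := by rw [h1, one_mul]
    have hZeq : Z = Subgroup.zpowers (u * x * u⁻¹ * x⁻¹) := by
      symm
      apply Subgroup.eq_of_le_of_card_ge (Subgroup.zpowers_le.mpr hux)
      rw [d.card_Z, Nat.card_zpowers]
      exact (orderOf_eq_prime (d.pow_Z hux) hux1).ge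
    have hZP : Z ≤ P := by
      rw [hZeq, Subgroup.zpowers_le]
      exact P.mul_mem (P.mul_mem (P.mul_mem huP hxP) (P.inv_mem huP)) (P.inv_mem hxP)
    refine mk_cfg_of_rank hrG (S.isPGroup'.to_le hPS) hZP d.card_Z (hPS.trans d.Z_central) hN
      hxP (d.pow₁ hxP₁) ?_ huP hux hux1
    intro hxZ
    apply hne
    exact (d.central₂ (d.Z_le₂ hxZ) (hPS huP)).symm
  refine ⟨Z, P₁, d.le₁, hP₁c, hP₁na, rfl, ?_, ?_⟩
  · intro P hPS hPna
    obtain ⟨x, u, hxP, hxP₁, huP, hne⟩ := d.exists_pair S.isPGroup' hPS hPna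
    exact ⟨x, u, mk P hPS x u hxP hxP₁ huP hne⟩
  · intro b hb hbn
    have hex : ∃ u ∈ P₁, u * b ≠ b * u := by
      by_contra hcon
      push Not at hcon
      apply hbn
      apply Subgroup.mem_centralizer_iff.mpr
      intro a ha
      exact hcon a ha
    obtain ⟨u, hu, hne⟩ := hex
    exact ⟨u, mk (S : Subgroup G) le_rfl b u (d.le₁ hb) hb (d.le₁ hu) hne⟩

end Cfsg.Agent.Lib.Lead.BG10
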