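import Mathlib
import Cfsg.Agent.Lib.Lead.BG10p1
import Cfsg.Agent.Lib.Helper4.BG10pA
import Cfsg.Agent.Lib.Helper4.BG10pC
import Cfsg.Agent.Lib.Helper2.BGAux1

set_option autoImplicit false

/-! Bender–Glauberman, nonabelian `p`-subgroups are uniqueness subgroups:
the auxiliary lemmas proved by helper2 and helper4, under the names used by the machinery. -/

namespace Cfsg.Agent.Lib.Lead.BG10

open Cfsg

universe u

variable {G : Type u} [Group G] [Finite G]

/-- (NA) a `p`-group acting on a narrow `q`-group: the derived group acts trivially -/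
theorem derived_le_centralizer_of_narrow {p q : ℕ} [Fact p.Prime] [Fact q.Prime]
    (hpq : p ≠ q) (hp2 : p ≠ 2) (hq2 : q ≠ 2) {P Q : Subgroup G} (hP : IsPGroup p P)
    (hQ : IsPGroup q Q) (hPQ : P ≤ Subgroup.normalizer (Q : Set G))
    (h : PRankLE q 2 ↥Q ∨ ∃ B : Subgroup G, B ≤ Q ∧ IsElementaryAbelian q B ∧ Nat.card B = q ^ 2 ∧
        ∀ B' : Subgroup G, B' ≤ Q → IsElementaryAbelian q B' → B ≤ B' → B' = B) :
    ⁅P, P⁆ ≤ Subgroup.centralizer (Q : Set G) :=
  Cfsg.Agent.Lib.Helper4.BG10pA.derived_le_centralizer_of_narrow hpq hp2 hq2 hP hQ hPQ h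

/-- (Frob) a Frobenius group `⟨c⟩ ⋊ ⟨z⟩` of order `q p` acting on a `t`-group, `c` acting nontrivially:
`z` has nontrivial fixed points and acts nontrivially -/
theorem frobenius_fixed {p q t : ℕ} [Fact p.Prime] [Fact q.Prime] [Fact t.Prime]
    (hpq : p ≠ q) (htp : t ≠ p) (htq : t ≠ q) {z c : G} (hz : orderOf z = p) (hc : orderOf c = q)
    (hzc : z * c * z⁻¹ ∈ Subgroup.zpowers c) (hne : z * c ≠ c * z)
    {T : Subgroup G} (hT : IsPGroup t T) (hzT : z ∈ Subgroup.normalizer (T : Set G))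
    (hcT : c ∈ Subgroup.normalizer (T : Set G))
    (hcT' : ¬ T ≤ Subgroup.centralizer ({c} : Set G)) :
    T ⊓ Subgroup.centralizer ({z} : Set G) ≠ ⊥ ∧ ¬ T ≤ Subgroup.centralizer ({z} : Set G) :=
  Cfsg.Agent.Lib.Helper2.BGAux.frobenius_fixed hpq htp htq hz hc hzc hne hT hzT hcT hcT'

/-- (Gen) generation by centralizers for a nonabelian group of order `p ^ 3` whose centre acts
trivially -/
theorem le_of_centralizers_le_of_card_cube {p : ℕ} [Fact p.Prime] {B Y W : Subgroup G}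
    (hB : Nat.card B = p ^ 3) (hBna : ¬ IsMulCommutative B)
    (hBY : B ≤ Subgroup.normalizer (Y : Set G)) (hcop : (Nat.card Y).Coprime p)
    (hZY : B ⊓ Subgroup.centralizer (B : Set G) ≤ Subgroup.centralizer (Y : Set G))
    (h : ∀ b ∈ B, b ∉ Subgroup.centralizer (B : Set G) →
      Y ⊓ Subgroup.centralizer ({b} : Set G) ≤ W) : Y ≤ W :=
  Cfsg.Agent.Lib.Helper2.BGAux.le_of_centralizers_le_of_card_cube hB hBna hBY hcop hZY h

/-- (B2) the configuration in a Sylow subgroup of rank at least three -/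
theorem exists_cfg_of_narrow (hG : IsMinSimpleOddOrder G) {p : ℕ} [Fact p.Prime] (S : Sylow p G)
    (hr : ¬ PRankLE p 2 ↥(S : Subgroup G)) {P : Subgroup G} (hPS : P ≤ (S : Subgroup G))
    (hPna : ¬ IsMulCommutative P)
    (hB : ∀ B : Subgroup G, B ≤ P → IsElementaryAbelian p B → Nat.card B = p ^ 2 →
      PRankLE p 2 ↥(Subgroup.centralizer (B : Set G))) :
    ∃ (Z : Subgroup G) (x u : G), NACfg p P Z x u :=
  Cfsg.Agent.Lib.Helper4.BG10pC.exists_cfg_of_narrow hG S hr hPS hPna hB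

end Cfsg.Agent.Lib.Lead.BG10
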