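import Mathlib
import Cfsg.Agent.Lib.Lead.BG10p
import Cfsg.Agent.S1462
import Cfsg.Agent.S0126
import Cfsg.Agent.S0058

set_option autoImplicit false

/-! Bender–Glauberman, nonabelian `p`-subgroups are uniqueness subgroups, part q:
general lemmas (relative form of S1462, wide `q`-groups). -/

namespace Cfsg.Agent.Lib.Lead.BG10

open Cfsg Cfsg.Agent.Lib.Lead Cfsg.Agent.Lib.Helper7 Cfsg.Agent.Lib.Helper4
open Cfsg.Agent.Lib.Helper4.BG7 Cfsg.Agent.Lib.Helper4.BG76 Cfsg.Agent.Lib.Helper4.BG8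
open Cfsg.Agent.Lib.Helper4.BG9 Cfsg.Agent.Lib.Lead.BG95 Cfsg.Agent.Lib.Helper4.ThreeStep
open Cfsg.Agent.Lib.Helper4.ZP Cfsg.Agent.Lib.Helper6

universe u

variable {G : Type u} [Group G] [Finite G]

/-- relative form of S1462: an `E`-invariant `p'`-subgroup of the proper subgroup `H` lies in
`O_{p'}(H)` when `E` contains every element of order dividing `p` of `C_H(E)` -/
theorem le_cG_of_invariant (hG : IsMinSimpleOddOrder G) {p : ℕ} [Fact p.Prime] (hp2 : p ≠ 2)
    {H E Y : Subgroup G} (hH : H ≠ ⊤) (hEH : E ≤ H) (hE : IsElementaryAbelian p E)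
    (hEmax : ∀ y ∈ H, y ∈ Subgroup.centralizer (E : Set G) → y ^ p = 1 → y ∈ E)
    (hYH : Y ≤ H) (hY : (Nat.card Y).Coprime p) (hEY : E ≤ Subgroup.normalizer (Y : Set G)) :
    Y ≤ cG p H := by
  haveI : Group.IsSolvable ↥H := solvable_of_ne_top hG hH
  have hpl : PLengthLE p 1 ↥H := corollary_10_7a hG p H hH
  apply le_cG_of_subgroupOf_le hYH
  apply Cfsg.Agent.S1462.result p hp2 hpl (E.subgroupOf H) (Y.subgroupOf H)
    (elementary_subgroupOf hE)
  · intro B hB hEB
    apply le_antisymm _ hEB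
    intro b hb
    rw [Subgroup.mem_subgroupOf]
    apply hEmax b.1 b.2
    · apply Subgroup.mem_centralizer_iff.mpr
      intro e he
      have he' : (⟨e, hEH he⟩ : ↥H) ∈ B := hEB (Subgroup.mem_subgroupOf.mpr he)
      have := hB.1.is_comm.comm ⟨⟨e, hEH he⟩, he'⟩ ⟨b, hb⟩
      have h2 : (⟨e, hEH he⟩ : ↥H) * b = b * ⟨e, hEH he⟩ := congrArg Subtype.val this
      exact congrArg Subtype.val h2
    · have := hB.2 b hb
      have h2 := congrArg Subtype.val this
      simpa using h2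
  · rw [card_subgroupOf_of_le hYH]; exact hY
  · exact subgroupOf_le_normalizer_subgroupOf H hEY

/-- a `q`-group is *wide*: it has rank at least three and none of its elementary abelian subgroups
of order `q ^ 2` is a maximal elementary abelian subgroup -/
def Wide (q : ℕ) (Q : Subgroup G) : Prop :=
  ¬ (PRankLE q 2 ↥Q ∨ ∃ B : Subgroup G, B ≤ Q ∧ IsElementaryAbelian q B ∧ Nat.card B = q ^ 2 ∧
        ∀ B' : Subgroup G, B' ≤ Q → IsElementaryAbelian q B' → B ≤ B' → B' = B)

theorem Wide.rank {q : ℕ} {Q : Subgroup G} (h : Wide q Q) : ¬ PRankLE q 2 ↥Q :=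
  fun h' => h (Or.inl h')

theorem Wide.exists_gt {q : ℕ} {Q : Subgroup G} (h : Wide q Q) {B : Subgroup G} (hBQ : B ≤ Q)
    (hB : IsElementaryAbelian q B) (hBc : Nat.card B = q ^ 2) :
    ∃ B' : Subgroup G, B' ≤ Q ∧ IsElementaryAbelian q B' ∧ B < B' := by
  by_contra hcon
  push Not at hcon
  apply h
  right
  refine ⟨B, hBQ, hB, hBc, ?_⟩
  intro B' hB'Q hB' hBB'
  by_contra hne
  exact hcon B' hB'Q hB' (lt_of_le_of_ne hBB' (Ne.symm hne))

theorem isCyclic_of_le_cyclic {Y Q : Subgroup G} (hYQ : Y ≤ Q) (hQ : IsCyclic ↥Q) : IsCyclic ↥Y := by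
  haveI := hQ
  haveI : IsCyclic (Y.subgroupOf Q) := Subgroup.isCyclic _
  exact isCyclic_of_surjective (Subgroup.subgroupOfEquivOfLe hYQ)
    (Subgroup.subgroupOfEquivOfLe hYQ).surjective

theorem Wide.not_isCyclic {q : ℕ} [hq : Fact q.Prime] {Q : Subgroup G} (h : Wide q Q) :
    ¬ IsCyclic ↥Q := by
  obtain ⟨E, hEQ, hE, hEc⟩ := exists_elementary_of_not_pRankLE h.rank
  intro hc
  have h1 : q < Nat.card E := by
    have : q ^ 1 < q ^ 2 := Nat.pow_lt_pow_right hq.out.one_lt (by norm_num)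
    rw [pow_one] at this
    omega
  exact not_isCyclic_of_elementary hE h1 (isCyclic_of_le_cyclic hEQ hc)

theorem Wide.dvd_card {q : ℕ} [hq : Fact q.Prime] {Q : Subgroup G} (h : Wide q Q) :
    q ∣ Nat.card G := by
  obtain ⟨E, hEQ, hE, hEc⟩ := exists_elementary_of_not_pRankLE h.rank
  have hE1 : E ≠ ⊥ := by
    intro h0
    rw [h0, Subgroup.card_bot] at hEc
    have := Nat.one_le_pow 2 q hq.out.pos
    omega
  obtain ⟨e, he1⟩ := Subgroup.ne_bot_iff_exists_ne_one.mp hE1
  have he : (e : G) ^ q = 1 := hE.2 _ e.2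
  have h2 : orderOf (e : G) = q := orderOf_eq_prime he (by
    intro h0; apply he1; exact Subtype.ext h0)
  rw [← h2]
  exact orderOf_dvd_natCard _

/-- two maximal subgroups containing a wide `q`-group coincide -/
theorem Wide.eq_of_le (hG : IsMinSimpleOddOrder G) {q : ℕ} [hq : Fact q.Prime] {Q : Subgroup G}
    (hQ : IsPGroup q Q) (h : Wide q Q) {L L' : Subgroup G} (hL : IsCoatom L) (hL' : IsCoatom L')
    (hQL : Q ≤ L) (hQL' : Q ≤ L') : L = L' := by
  obtain ⟨M, -, huniq⟩ := uniq_of_rank_three hG hQ h.rank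
  rw [huniq L ⟨hL, hQL⟩, huniq L' ⟨hL', hQL'⟩]

/-- a maximal subgroup containing a noncyclic subgroup of a wide `q`-group `Q` contains `Q` -/
theorem Wide.le_of_noncyclic (hG : IsMinSimpleOddOrder G) {q : ℕ} [hq : Fact q.Prime]
    {Q : Subgroup G} (hQ : IsPGroup q Q) (h : Wide q Q) {Y : Subgroup G} (hYQ : Y ≤ Q)
    (hY : ¬ IsCyclic ↥Y) {L : Subgroup G} (hL : IsCoatom L) (hYL : Y ≤ L) : Q ≤ L := by
  have hq2 : q ≠ 2 := ne_two_of_odd hG h.dvd_card
  have hYq : IsPGroup q ↥Y := hQ.to_le hYQ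
  obtain ⟨A, -, hAe, hAc⟩ := Cfsg.Agent.S0126.result (R := ↥Y) hq2 hYq hY
  set B : Subgroup G := A.map Y.subtype with hBdef
  have hBY : B ≤ Y := Subgroup.map_subtype_le _
  have hBe : IsElementaryAbelian q B := elementary_map_subtype hAe
  have hBc : Nat.card B = q ^ 2 := by
    rw [hBdef, Subgroup.card_map_of_injective Y.subtype_injective]; exact hAc
  obtain ⟨B', hB'Q, hB'e, hlt⟩ := h.exists_gt (hBY.trans hYQ) hBe hBc
  have hB'C : B' ≤ Subgroup.centralizer (B : Set G) := by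
    intro x hx
    apply Subgroup.mem_centralizer_iff.mpr
    intro b hb
    have := hB'e.1.is_comm.comm ⟨b, hlt.le hb⟩ ⟨x, hx⟩
    exact congrArg Subtype.val this
  have hr3 : ¬ PRankLE q 2 ↥(Subgroup.centralizer (B : Set G)) := by
    intro hr
    have h1 := hr (B'.subgroupOf _) (elementary_subgroupOf hB'e).1 (elementary_subgroupOf hB'e).2
    rw [card_subgroupOf_of_le hB'C] at h1
    have h2 := card_lt_card_of_lt hlt
    omega
  have hBtop : B ≠ ⊤ := by
    intro h0
    apply hL.1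
    rw [eq_top_iff, ← h0]
    exact hBY.trans hYL
  have hr1 : ¬ RankLE 1 ↥B := by
    apply not_rankLE_of_not_pRankLE hq.out
    intro hr
    have h1 := hr ⊤ (by
        refine ⟨⟨?_⟩⟩
        rintro ⟨a, -⟩ ⟨b, -⟩
        apply Subtype.ext
        exact hBe.1.is_comm.comm a b) (by
        intro a _
        apply Subtype.ext
        rw [Subgroup.coe_pow]
        exact hBe.2 a.1 a.2)
    rw [Subgroup.card_top, hBc, pow_one] at h1
    have : q ^ 1 < q ^ 2 := Nat.pow_lt_pow_right hq.out.one_lt (by norm_num)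
    rw [pow_one] at this
    omega
  obtain ⟨M, -, huniq⟩ := uniq hG hBtop hr1
    (Or.inr (not_rankLE_of_not_pRankLE hq.out hr3))
  obtain ⟨L', hL', hQL'⟩ := exists_coatom_ge (isPGroup_ne_top hG hQ)
  have e1 := huniq L ⟨hL, hBY.trans hYL⟩
  have e2 := huniq L' ⟨hL', (hBY.trans hYQ).trans hQL'⟩
  rw [e1, ← e2]
  exact hQL'

/-- the normalizer of a nontrivial subgroup of a wide `q`-group `Q` lies in the maximal subgroup
containing `Q` -/
theorem Wide.normalizer_le (hG : IsMinSimpleOddOrder G) {q : ℕ} [hq : Fact q.Prime]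
    {Q : Subgroup G} (hQ : IsPGroup q Q) (h : Wide q Q) {O : Subgroup G} (hOQ : O ≤ Q)
    (hO1 : O ≠ ⊥) {L : Subgroup G} (hL : IsCoatom L) (hQL : Q ≤ L) :
    Subgroup.normalizer (O : Set G) ≤ L := by
  set N : Subgroup G := Q ⊓ Subgroup.normalizer (O : Set G) with hNdef
  have hON : O ≤ N := le_inf hOQ Subgroup.le_normalizer
  have hNnc : ¬ IsCyclic ↥N := by
    intro hc
    have h1 : Q ⊓ Subgroup.normalizer (N : Set G) ≤ N := by
      rintro n ⟨hnQ, hnN⟩
      refine ⟨hnQ, ?_⟩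
      apply mem_normalizer_of_map_conj_eq
      have h2 : O.map (MulAut.conj n).toMonoidHom ≤ N := by
        rw [← map_conj_eq_of_mem_normalizer hnN]
        exact Subgroup.map_mono hON
      apply eq_of_card_eq_of_le_cyclic hc h2 hON
      rw [Subgroup.card_map_of_injective (MulAut.conj n).injective]
    by_cases hNQ : N = Q
    · rw [hNQ] at hc
      exact h.not_isCyclic hc
    · have hlt : N < Q := lt_of_le_of_ne inf_le_left hNQ
      have h2 := pgroup_normalizer_grows q Q N hQ hlt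
      exact absurd (lt_of_lt_of_le h2 h1) (lt_irrefl _)
  have hQtop : Q ≠ ⊤ := isPGroup_ne_top hG hQ
  have hO2 : O ≠ ⊤ := by
    intro h0
    apply hQtop
    rw [eq_top_iff, ← h0]
    exact hOQ
  obtain ⟨L', hL', hNL'⟩ := exists_coatom_ge (normalizer_ne_top hG hO1 hO2)
  have hQL' : Q ≤ L' := h.le_of_noncyclic hG hQ inf_le_left hNnc hL' (inf_le_right.trans hNL')
  rw [h.eq_of_le hG hQ hL hL' hQL hQL']
  exact hNL'

end Cfsg.Agent.Lib.Lead.BG10
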