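import Mathlib
import Cfsg.Agent.Lib.Lead.BG10q
import Cfsg.Agent.Lib.Lead.AbelianSylowB

set_option autoImplicit false

/-! Bender–Glauberman, nonabelian `p`-subgroups are uniqueness subgroups, part r:
elementary consequences of the configuration `NACfg`. -/

namespace Cfsg.Agent.Lib.Lead.BG10

open Cfsg Cfsg.Agent.Lib.Lead Cfsg.Agent.Lib.Helper7 Cfsg.Agent.Lib.Helper4
open Cfsg.Agent.Lib.Helper4.BG7 Cfsg.Agent.Lib.Helper4.BG76 Cfsg.Agent.Lib.Helper4.BG8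
open Cfsg.Agent.Lib.Helper4.BG9 Cfsg.Agent.Lib.Lead.BG95 Cfsg.Agent.Lib.Helper4.ThreeStep
open Cfsg.Agent.Lib.Helper4.ZP Cfsg.Agent.Lib.Helper6

universe u

variable {G : Type u} [Group G] [Finite G]

theorem eq_zpowers_of_card_prime {p : ℕ} [hp : Fact p.Prime] {Z : Subgroup G}
    (hZ : Nat.card Z = p) {z : G} (hz : z ∈ Z) (hz1 : z ≠ 1) : Z = Subgroup.zpowers z := by
  symm
  apply Subgroup.eq_of_le_of_card_ge (Subgroup.zpowers_le.mpr hz)
  rw [hZ, Nat.card_zpowers]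
  have h1 : orderOf z ∣ p := by
    rw [← hZ]
    have := orderOf_dvd_natCard (⟨z, hz⟩ : ↥Z)
    rwa [Subgroup.orderOf_mk] at this
  rcases (Nat.dvd_prime hp.out).mp h1 with h | h
  · exact absurd (orderOf_eq_one_iff.mp h) hz1
  · exact h.ge

namespace NACfg

variable {p : ℕ} [hp : Fact p.Prime] {P Z : Subgroup G} {x u : G}

theorem comm (c : NACfg p P Z x u) {g z : G} (hg : g ∈ P) (hz : z ∈ Z) : g * z = z * g :=
  (Subgroup.mem_centralizer_iff.mp (c.hZcen hg) z hz).symm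

theorem x_ne_one (c : NACfg p P Z x u) : x ≠ 1 := fun h => c.hxZ (h ▸ Z.one_mem)

theorem orderOf_x (c : NACfg p P Z x u) : orderOf x = p := orderOf_eq_prime c.hxp c.x_ne_one

theorem Z_eq (c : NACfg p P Z x u) : Z = Subgroup.zpowers (u * x * u⁻¹ * x⁻¹) :=
  eq_zpowers_of_card_prime c.hZc c.hux c.hux1

theorem p_dvd (c : NACfg p P Z x u) : p ∣ Nat.card G := by
  rw [← c.hZc]; exact Subgroup.card_subgroup_dvd_card Z

theorem pow_eq_one (c : NACfg p P Z x u) {z : G} (hz : z ∈ Z) : z ^ p = 1 := by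
  have h1 : (⟨z, hz⟩ : ↥Z) ^ Nat.card ↥Z = 1 := pow_card_eq_one'
  rw [c.hZc] at h1
  have := congrArg Subtype.val h1
  simpa using this

theorem conj_u (c : NACfg p P Z x u) : u * x * u⁻¹ = (u * x * u⁻¹ * x⁻¹) * x := by group

theorem x_comm (c : NACfg p P Z x u) {z : G} (hz : z ∈ Z) : x * z = z * x := c.comm c.hxP hz

theorem elementary (c : NACfg p P Z x u) :
    IsElementaryAbelian p (Z ⊔ Subgroup.zpowers x) ∧ Nat.card ↥(Z ⊔ Subgroup.zpowers x) = p ^ 2 := by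
  have h := pair_elementary (p := p) (z := u * x * u⁻¹ * x⁻¹) (w := x) (c.x_comm c.hux).symm
    c.hux1 (c.pow_eq_one c.hux) c.hxp (by rw [← c.Z_eq]; exact c.hxZ)
  rw [← c.Z_eq] at h
  exact h

theorem A_le (c : NACfg p P Z x u) : Z ⊔ Subgroup.zpowers x ≤ P :=
  sup_le c.hZP (Subgroup.zpowers_le.mpr c.hxP)

theorem A_isPGroup (c : NACfg p P Z x u) : IsPGroup p ↥(Z ⊔ Subgroup.zpowers x) := by
  intro a
  refine ⟨1, ?_⟩
  apply Subtype.ext
  rw [pow_one, Subgroup.coe_pow]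
  exact c.elementary.1.2 a.1 a.2

theorem A_hyp (c : NACfg p P Z x u) :
    ∀ y ∈ Subgroup.centralizer ((Z ⊔ Subgroup.zpowers x : Subgroup G) : Set G),
      y ^ p = 1 ↔ y ∈ Z ⊔ Subgroup.zpowers x :=
  fun y hy => ⟨c.hmax y hy, c.elementary.1.2 y⟩

theorem transHyp (c : NACfg p P Z x u) (hG : IsMinSimpleOddOrder G) :
    TransitivityHypothesis (Z ⊔ Subgroup.zpowers x) :=
  theorem_7_6 hG c.p_dvd c.A_isPGroup
    (Or.inl ⟨c.A_hyp, fun H hH => corollary_10_7a hG p H hH⟩)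

theorem conj_pow_u (c : NACfg p P Z x u) (m : ℕ) :
    u ^ m * x * (u ^ m)⁻¹ = (u * x * u⁻¹ * x⁻¹) ^ m * x := by
  induction m with
  | zero => simp
  | succ m ih =>
    have h1 : u * (u * x * u⁻¹ * x⁻¹) ^ m = (u * x * u⁻¹ * x⁻¹) ^ m * u :=
      c.comm c.huP (Z.pow_mem c.hux m)
    calc u ^ (m + 1) * x * (u ^ (m + 1))⁻¹ = u * (u ^ m * x * (u ^ m)⁻¹) * u⁻¹ := by
          rw [pow_succ']; group
      _ = u * ((u * x * u⁻¹ * x⁻¹) ^ m * x) * u⁻¹ := by rw [ih]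
      _ = (u * (u * x * u⁻¹ * x⁻¹) ^ m) * x * u⁻¹ := by group
      _ = ((u * x * u⁻¹ * x⁻¹) ^ m * u) * x * u⁻¹ := by rw [h1]
      _ = (u * x * u⁻¹ * x⁻¹) ^ m * ((u * x * u⁻¹ * x⁻¹) * x) := by group
      _ = (u * x * u⁻¹ * x⁻¹) ^ (m + 1) * x := by rw [pow_succ]; group

theorem conj_pow_u_pow (c : NACfg p P Z x u) (m k : ℕ) :
    u ^ m * x ^ k * (u ^ m)⁻¹ = (u * x * u⁻¹ * x⁻¹) ^ (m * k) * x ^ k := by
  have h1 : u ^ m * x ^ k * (u ^ m)⁻¹ = (u ^ m * x * (u ^ m)⁻¹) ^ k := (conj_pow).symm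
  rw [h1, c.conj_pow_u m]
  have h2 : Commute ((u * x * u⁻¹ * x⁻¹) ^ m) x := (c.x_comm (Z.pow_mem c.hux m)).symm
  rw [h2.mul_pow, ← pow_mul]

/-- every element of `A` outside `Z` is conjugate under `P` to a nontrivial element of `⟨x⟩` -/
theorem exists_conj (c : NACfg p P Z x u) {a : G} (ha : a ∈ Z ⊔ Subgroup.zpowers x) (haZ : a ∉ Z) :
    ∃ g ∈ P, ∃ y ∈ Subgroup.zpowers x, y ≠ 1 ∧ g * y * g⁻¹ = a := by
  obtain ⟨z, hz, y, hy, rfl⟩ := mem_sup_of_commute Z (Subgroup.zpowers x)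
    (fun z hz y hy => by
      obtain ⟨k, rfl⟩ := Subgroup.mem_zpowers_iff.mp hy
      exact ((Commute.zpow_left (c.x_comm hz) k).eq).symm) ha
  have hy1 : y ≠ 1 := by
    rintro rfl
    apply haZ
    simpa using hz
  obtain ⟨k, rfl⟩ : ∃ k : ℕ, x ^ k = y := by
    have := (mem_powers_iff_mem_zpowers).mpr hy
    exact (Submonoid.mem_powers_iff _ _).mp this
  obtain ⟨j, rfl⟩ : ∃ j : ℕ, (u * x * u⁻¹ * x⁻¹) ^ j = z := by
    rw [c.Z_eq] at hz
    have := (mem_powers_iff_mem_zpowers).mpr hz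
    exact (Submonoid.mem_powers_iff _ _).mp this
  have hpk : ¬ p ∣ k := by
    intro hd
    apply hy1
    rw [← c.orderOf_x] at hd
    exact orderOf_dvd_iff_pow_eq_one.mp hd
  have hcop : Nat.Coprime k p := (Nat.Coprime.symm ((Nat.Prime.coprime_iff_not_dvd hp.out).mpr hpk))
  obtain ⟨k', -, hk'⟩ := Nat.exists_mul_mod_eq_one_of_coprime hcop hp.out.one_lt
  refine ⟨u ^ (j * k'), P.pow_mem c.huP _, x ^ k, hy, hy1, ?_⟩
  rw [c.conj_pow_u_pow]
  congr 1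
  rw [pow_eq_pow_mod (j * k' * k) (c.pow_eq_one c.hux), pow_eq_pow_mod j (c.pow_eq_one c.hux)]
  congr 1
  have : j * k' * k = j * (k * k') := by ring
  rw [this, Nat.mul_mod, hk', Nat.mul_one, Nat.mod_mod]

end NACfg

end Cfsg.Agent.Lib.Lead.BG10
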