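import Mathlib
import Cfsg.Agent.Lib.Lead.BG10r
import Cfsg.Agent.Lib.Lead.BG10p2

set_option autoImplicit false

/-! Bender–Glauberman, nonabelian `p`-subgroups are uniqueness subgroups, part s:
invariant `q`-subgroups not centralized by `Z`. -/

namespace Cfsg.Agent.Lib.Lead.BG10

open Cfsg Cfsg.Agent.Lib.Lead Cfsg.Agent.Lib.Helper7 Cfsg.Agent.Lib.Helper4
open Cfsg.Agent.Lib.Helper4.BG7 Cfsg.Agent.Lib.Helper4.BG76 Cfsg.Agent.Lib.Helper4.BG8
open Cfsg.Agent.Lib.Helper4.BG9 Cfsg.Agent.Lib.Lead.BG95 Cfsg.Agent.Lib.Helper4.ThreeStep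
open Cfsg.Agent.Lib.Helper4.ZP Cfsg.Agent.Lib.Helper6
open scoped commutatorElement

universe u

variable {G : Type u} [Group G] [Finite G]

/-- two nontrivial subgroups of a cyclic `q`-group meet nontrivially -/
theorem inf_ne_bot_of_cyclic_pgroup {q : ℕ} [hq : Fact q.Prime] {C D₁ D₂ : Subgroup G}
    (hC : IsCyclic ↥C) (hCq : IsPGroup q C) (h1 : D₁ ≤ C) (h2 : D₂ ≤ C) (hD₁ : D₁ ≠ ⊥)
    (hD₂ : D₂ ≠ ⊥) : D₁ ⊓ D₂ ≠ ⊥ := by
  have key : ∀ D : Subgroup G, D ≤ C → D ≠ ⊥ → ∃ d ∈ D, orderOf d = q := by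
    intro D hDC hD
    have hDq : IsPGroup q D := hCq.to_le hDC
    obtain ⟨n, hn⟩ := IsPGroup.iff_card.mp hDq
    have hn0 : n ≠ 0 := by
      rintro rfl
      rw [pow_zero] at hn
      exact hD (Subgroup.card_eq_one.mp hn)
    have hdvd : q ∣ Nat.card ↥D := by rw [hn]; exact dvd_pow_self q hn0
    obtain ⟨d, hd⟩ := exists_prime_orderOf_dvd_card' q hdvd
    refine ⟨d.1, d.2, ?_⟩
    rw [← hd, Subgroup.orderOf_coe]
  obtain ⟨d₁, hd₁, ho₁⟩ := key D₁ h1 hD₁
  obtain ⟨d₂, hd₂, ho₂⟩ := key D₂ h2 hD₂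
  have e : Subgroup.zpowers d₁ = Subgroup.zpowers d₂ :=
    eq_of_card_eq_of_le_cyclic hC ((Subgroup.zpowers_le.mpr hd₁).trans h1)
      ((Subgroup.zpowers_le.mpr hd₂).trans h2) (by rw [Nat.card_zpowers, Nat.card_zpowers, ho₁, ho₂])
  intro h0
  have hm : d₁ ∈ D₁ ⊓ D₂ := by
    refine ⟨hd₁, ?_⟩
    have : d₁ ∈ Subgroup.zpowers d₂ := e ▸ Subgroup.mem_zpowers d₁
    exact (Subgroup.zpowers_le.mpr hd₂) this
  rw [h0, Subgroup.mem_bot] at hm
  rw [hm, orderOf_one] at ho₁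
  exact hq.out.one_lt.ne ho₁

namespace NACfg

variable {p : ℕ} [hp : Fact p.Prime] {P Z : Subgroup G} {x u : G}
variable {q : ℕ} [hq : Fact q.Prime] {Q : Subgroup G}

theorem dvd_card_of_not_le (hQ : IsPGroup q Q) (hZQ : ¬ Z ≤ Subgroup.centralizer (Q : Set G)) :
    q ∣ Nat.card G := by
  have hQ1 : Q ≠ ⊥ := by
    rintro rfl
    apply hZQ
    intro z _
    apply Subgroup.mem_centralizer_iff.mpr
    intro w hw
    rw [Subgroup.coe_bot, Set.mem_singleton_iff] at hw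
    rw [hw, one_mul, mul_one]
  obtain ⟨n, hn⟩ := IsPGroup.iff_card.mp hQ
  have hn0 : n ≠ 0 := by
    rintro rfl
    rw [pow_zero] at hn
    exact hQ1 (Subgroup.card_eq_one.mp hn)
  exact (dvd_pow_self q hn0).trans (hn ▸ Subgroup.card_subgroup_dvd_card Q)

/-- Step 1: a `P`-invariant `q`-subgroup not centralized by `Z` is wide -/
theorem wide (c : NACfg p P Z x u) (hG : IsMinSimpleOddOrder G) (hpq : p ≠ q)
    (hQ : IsPGroup q Q) (hPQ : P ≤ Subgroup.normalizer (Q : Set G))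
    (hZQ : ¬ Z ≤ Subgroup.centralizer (Q : Set G)) : Wide q Q := by
  intro h
  have hq2 : q ≠ 2 := ne_two_of_odd hG (dvd_card_of_not_le hQ hZQ)
  have hp2 : p ≠ 2 := ne_two_of_odd hG c.p_dvd
  have h1 := derived_le_centralizer_of_narrow hpq hp2 hq2 c.hPp hQ hPQ h
  apply hZQ
  rw [c.Z_eq, Subgroup.zpowers_le]
  apply h1
  have : u * x * u⁻¹ * x⁻¹ = ⁅u, x⁆ := (commutatorElement_def u x).symm
  rw [this]
  exact Subgroup.commutator_mem_commutator c.huP c.hxP

theorem centralizer_eq_of_mem_zpowers (c : NACfg p P Z x u) {y : G} (hy : y ∈ Subgroup.zpowers x)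
    (hy1 : y ≠ 1) : Subgroup.centralizer ({y} : Set G) = Subgroup.centralizer ({x} : Set G) := by
  have hX : Nat.card (Subgroup.zpowers x) = p := by rw [Nat.card_zpowers, c.orderOf_x]
  have e := eq_zpowers_of_card_prime hX hy hy1
  have hx : x ∈ Subgroup.zpowers y := e ▸ Subgroup.mem_zpowers x
  have key : ∀ a b : G, a ∈ Subgroup.zpowers b →
      Subgroup.centralizer ({b} : Set G) ≤ Subgroup.centralizer ({a} : Set G) := by
    intro a b hab w hw
    obtain ⟨k, rfl⟩ := Subgroup.mem_zpowers_iff.mp hab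
    have hwb : b * w = w * b := Subgroup.mem_centralizer_iff.mp hw b rfl
    apply Subgroup.mem_centralizer_iff.mpr
    intro a' ha'
    rw [Set.mem_singleton_iff] at ha'
    rw [ha']
    exact (Commute.zpow_left hwb k).eq
  exact le_antisymm (key x y hx) (key y x hy)

/-- Step 2: `Z` does not centralize `C_Q(x)` -/
theorem not_le_centralizer_inf (c : NACfg p P Z x u) (hpq : p ≠ q)
    (hQ : IsPGroup q Q) (hPQ : P ≤ Subgroup.normalizer (Q : Set G))
    (hZQ : ¬ Z ≤ Subgroup.centralizer (Q : Set G)) :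
    ¬ Z ≤ Subgroup.centralizer ((Q ⊓ Subgroup.centralizer ({x} : Set G) : Subgroup G) : Set G) := by
  intro hcon
  apply hZQ
  rw [Subgroup.le_centralizer_iff]
  haveI : IsMulCommutative ↥(Z ⊔ Subgroup.zpowers x) := c.elementary.1.1
  have hnc : ¬ IsCyclic ↥(Z ⊔ Subgroup.zpowers x) := by
    apply not_isCyclic_of_elementary c.elementary.1
    rw [c.elementary.2]
    have : p ^ 1 < p ^ 2 := Nat.pow_lt_pow_right hp.out.one_lt (by norm_num)
    rwa [pow_one] at this
  have hcop : (Nat.card ↥(Z ⊔ Subgroup.zpowers x)).Coprime (Nat.card Q) := by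
    obtain ⟨n, hn⟩ := IsPGroup.iff_card.mp hQ
    rw [c.elementary.2, hn]
    exact Nat.Coprime.pow _ _ ((Nat.coprime_primes hp.out hq.out).mpr hpq)
  have hgen := Cfsg.Agent.S0058.result (Z ⊔ Subgroup.zpowers x) Q hnc (c.A_le.trans hPQ) hcop
  rw [← hgen]
  apply iSup₂_le
  rintro a ⟨haA, ha1⟩
  by_cases haZ : a ∈ Z
  · have e := eq_zpowers_of_card_prime c.hZc haZ ha1
    rintro w ⟨-, hw⟩
    have hwa : a * w = w * a := Subgroup.mem_centralizer_iff.mp hw a rfl
    apply Subgroup.mem_centralizer_iff.mpr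
    intro z hz
    have hz' : z ∈ Subgroup.zpowers a := e ▸ hz
    obtain ⟨k, rfl⟩ := Subgroup.mem_zpowers_iff.mp hz'
    exact (Commute.zpow_left hwa k).eq
  · obtain ⟨g, hgP, y, hy, hy1, rfl⟩ := c.exists_conj haA haZ
    rintro w ⟨hwQ, hw⟩
    have hwa : g * y * g⁻¹ * w = w * (g * y * g⁻¹) := Subgroup.mem_centralizer_iff.mp hw _ rfl
    have hgN := hPQ hgP
    have hw'Q : g⁻¹ * w * g ∈ Q := by
      have := (Subgroup.mem_normalizer_iff.mp (Subgroup.inv_mem _ hgN) w).mp hwQ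
      simpa using this
    have hw'y : g⁻¹ * w * g ∈ Subgroup.centralizer ({y} : Set G) := by
      apply Subgroup.mem_centralizer_iff.mpr
      intro y' hy'
      rw [Set.mem_singleton_iff] at hy'
      rw [hy']
      calc y * (g⁻¹ * w * g) = g⁻¹ * (g * y * g⁻¹ * w) * g := by group
        _ = g⁻¹ * (w * (g * y * g⁻¹)) * g := by rw [hwa]
        _ = g⁻¹ * w * g * y := by group
    rw [c.centralizer_eq_of_mem_zpowers hy hy1] at hw'y
    have h3 := hcon
    apply Subgroup.mem_centralizer_iff.mpr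
    intro z hz
    have h4 : z * (g⁻¹ * w * g) = g⁻¹ * w * g * z :=
      Subgroup.mem_centralizer_iff.mp (h3 hz) _ ⟨hw'Q, hw'y⟩ |>.symm
    have h5 : g * z = z * g := c.comm hgP hz
    have h6 : g⁻¹ * z = z * g⁻¹ := by
      have := (Commute.inv_left (show Commute g z from h5)).eq
      exact this
    calc z * w = g * (g⁻¹ * z * (w * g)) * g⁻¹ := by group
      _ = g * (z * g⁻¹ * (w * g)) * g⁻¹ := by rw [h6]
      _ = g * (z * (g⁻¹ * w * g)) * g⁻¹ := by group
      _ = g * (g⁻¹ * w * g * z) * g⁻¹ := by rw [h4]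
      _ = w * (g * z) * g⁻¹ := by group
      _ = w * (z * g) * g⁻¹ := by rw [h5]
      _ = w * z := by group

theorem Z_le_normalizer_inf (c : NACfg p P Z x u)
    (hPQ : P ≤ Subgroup.normalizer (Q : Set G)) :
    Z ≤ Subgroup.normalizer ((Q ⊓ Subgroup.centralizer ({x} : Set G) : Subgroup G) : Set G) := by
  intro z hz
  have hzN := hPQ (c.hZP hz)
  have hzx : x * z = z * x := c.x_comm hz
  rw [Subgroup.mem_normalizer_iff]
  intro w
  have key : ∀ v : G, v ∈ Subgroup.centralizer ({x} : Set G) ↔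
      z * v * z⁻¹ ∈ Subgroup.centralizer ({x} : Set G) := by
    intro v
    have hzi : x * z⁻¹ = z⁻¹ * x := (Commute.inv_right (show Commute x z from hzx)).eq
    constructor
    · intro hv
      have hvx : x * v = v * x := Subgroup.mem_centralizer_iff.mp hv x rfl
      apply Subgroup.mem_centralizer_iff.mpr
      intro x' hx'
      rw [Set.mem_singleton_iff] at hx'
      rw [hx']
      calc x * (z * v * z⁻¹) = (x * z) * v * z⁻¹ := by group
        _ = z * (x * v) * z⁻¹ := by rw [hzx]; group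
        _ = z * v * (x * z⁻¹) := by rw [hvx]; group
        _ = z * v * z⁻¹ * x := by rw [hzi]; group
    · intro hv
      have hvx : x * (z * v * z⁻¹) = z * v * z⁻¹ * x := Subgroup.mem_centralizer_iff.mp hv x rfl
      apply Subgroup.mem_centralizer_iff.mpr
      intro x' hx'
      rw [Set.mem_singleton_iff] at hx'
      rw [hx']
      calc x * v = z⁻¹ * ((z * x) * v * z⁻¹) * z := by group
        _ = z⁻¹ * (x * (z * v * z⁻¹)) * z := by rw [← hzx]; group
        _ = z⁻¹ * (z * v * z⁻¹ * x) * z := by rw [hvx]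
        _ = v * (z⁻¹ * x) * z := by group
        _ = v * (x * z⁻¹) * z := by rw [hzi]
        _ = v * x := by group
  constructor
  · rintro ⟨h1, h2⟩
    exact ⟨(Subgroup.mem_normalizer_iff.mp hzN w).mp h1, (key w).mp h2⟩
  · rintro ⟨h1, h2⟩
    exact ⟨(Subgroup.mem_normalizer_iff.mp hzN w).mpr h1, (key w).mpr h2⟩

/-- Step 3: if `C_Q(x)` is cyclic then `C_Q(A) = 1` -/
theorem centralizer_inf_eq_bot (c : NACfg p P Z x u) (hpq : p ≠ q)
    (hQ : IsPGroup q Q) (hPQ : P ≤ Subgroup.normalizer (Q : Set G))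
    (hZQ : ¬ Z ≤ Subgroup.centralizer (Q : Set G))
    (hcyc : IsCyclic ↥(Q ⊓ Subgroup.centralizer ({x} : Set G) : Subgroup G)) :
    (Q ⊓ Subgroup.centralizer ({x} : Set G)) ⊓ Subgroup.centralizer (Z : Set G) = ⊥ := by
  set C : Subgroup G := Q ⊓ Subgroup.centralizer ({x} : Set G) with hCdef
  have hCq : IsPGroup q C := hQ.to_le inf_le_left
  haveI : IsMulCommutative ↥C := by
    obtain ⟨g, hg⟩ := hcyc.exists_generator
    refine ⟨⟨fun a b => ?_⟩⟩
    obtain ⟨i, rfl⟩ := Subgroup.mem_zpowers_iff.mp (hg a)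
    obtain ⟨j, rfl⟩ := Subgroup.mem_zpowers_iff.mp (hg b)
    exact (Commute.zpow_zpow (Commute.refl g) i j).eq
  have hcop : (Nat.card Z).Coprime (Nat.card C) := by
    obtain ⟨n, hn⟩ := IsPGroup.iff_card.mp hCq
    rw [c.hZc, hn]
    exact Nat.Coprime.pow_right _ ((Nat.coprime_primes hp.out hq.out).mpr hpq)
  obtain ⟨h1, h2⟩ := coprime_abelian_decomp Z C (c.Z_le_normalizer_inf hPQ) hcop
  by_contra hne
  have hcomm : ⁅C, Z⁆ ≠ ⊥ := by
    intro h0
    apply c.not_le_centralizer_inf hpq hQ hPQ hZQ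
    rw [Subgroup.le_centralizer_iff]
    exact Subgroup.commutator_eq_bot_iff_le_centralizer.mp h0
  have hle : ⁅C, Z⁆ ≤ C := le_sup_right.trans (le_of_eq h2)
  exact inf_ne_bot_of_cyclic_pgroup hcyc hCq inf_le_left hle hne hcomm h1

/-- Step 3b: `C_Q(x)` and its conjugate under `u` generate a noncyclic group -/
theorem not_isCyclic_sup_conj (c : NACfg p P Z x u) (hpq : p ≠ q)
    (hQ : IsPGroup q Q) (hPQ : P ≤ Subgroup.normalizer (Q : Set G))
    (hZQ : ¬ Z ≤ Subgroup.centralizer (Q : Set G)) :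
    ¬ IsCyclic ↥((Q ⊓ Subgroup.centralizer ({x} : Set G)) ⊔
      (Q ⊓ Subgroup.centralizer ({x} : Set G)).map (MulAut.conj u).toMonoidHom : Subgroup G) := by
  set C : Subgroup G := Q ⊓ Subgroup.centralizer ({x} : Set G) with hCdef
  intro hcyc
  have e : C.map (MulAut.conj u).toMonoidHom = C :=
    eq_of_card_eq_of_le_cyclic hcyc le_sup_right le_sup_left
      (Subgroup.card_map_of_injective (MulAut.conj u).injective)
  apply c.not_le_centralizer_inf hpq hQ hPQ hZQ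
  rw [c.Z_eq, Subgroup.zpowers_le]
  apply Subgroup.mem_centralizer_iff.mpr
  intro w hw
  have hwx : x * w = w * x := Subgroup.mem_centralizer_iff.mp hw.2 x rfl
  have hw2 : w ∈ C.map (MulAut.conj u).toMonoidHom := by rw [e]; exact hw
  obtain ⟨w', hw', hww'⟩ := hw2
  have hw'x : x * w' = w' * x := Subgroup.mem_centralizer_iff.mp hw'.2 x rfl
  have hww : w = u * w' * u⁻¹ := hww'.symm
  have h1 : (u * x * u⁻¹) * w = w * (u * x * u⁻¹) := by
    rw [hww]
    calc u * x * u⁻¹ * (u * w' * u⁻¹) = u * (x * w') * u⁻¹ := by group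
      _ = u * (w' * x) * u⁻¹ := by rw [hw'x]
      _ = u * w' * u⁻¹ * (u * x * u⁻¹) := by group
  have hxi : x⁻¹ * w = w * x⁻¹ := (Commute.inv_left (show Commute x w from hwx)).eq
  calc w * (u * x * u⁻¹ * x⁻¹) = (w * (u * x * u⁻¹)) * x⁻¹ := by group
    _ = (u * x * u⁻¹ * w) * x⁻¹ := by rw [h1]
    _ = u * x * u⁻¹ * (w * x⁻¹) := by group
    _ = u * x * u⁻¹ * (x⁻¹ * w) := by rw [hxi]
    _ = u * x * u⁻¹ * x⁻¹ * w := by group

end NACfg

end Cfsg.Agent.Lib.Lead.BG10
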