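import Mathlib
import Cfsg.Agent.Lib.Lead.BG10s
import Cfsg.Agent.S0024
import Cfsg.Agent.S0025

set_option autoImplicit false

/-! Bender–Glauberman, nonabelian `p`-subgroups are uniqueness subgroups, part t:
general lemmas for the cyclic case. -/

namespace Cfsg.Agent.Lib.Lead.BG10

open Cfsg Cfsg.Agent.Lib.Lead Cfsg.Agent.Lib.Helper7 Cfsg.Agent.Lib.Helper4
open Cfsg.Agent.Lib.Helper4.BG7 Cfsg.Agent.Lib.Helper4.BG76 Cfsg.Agent.Lib.Helper4.BG8
open Cfsg.Agent.Lib.Helper4.BG9 Cfsg.Agent.Lib.Lead.BG95 Cfsg.Agent.Lib.Helper4.ThreeStep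
open Cfsg.Agent.Lib.Helper4.ZP Cfsg.Agent.Lib.Helper6
open scoped commutatorElement

universe u

variable {G : Type u} [Group G] [Finite G]

theorem mem_centralizer_iff_le {w : G} {H : Subgroup G} :
    w ∈ Subgroup.centralizer (H : Set G) ↔ H ≤ Subgroup.centralizer ({w} : Set G) := by
  constructor
  · intro hw h hh
    apply Subgroup.mem_centralizer_iff.mpr
    intro w' hw'
    rw [Set.mem_singleton_iff] at hw'
    rw [hw']
    exact (Subgroup.mem_centralizer_iff.mp hw h hh).symm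
  · intro hH
    apply Subgroup.mem_centralizer_iff.mpr
    intro h hh
    exact (Subgroup.mem_centralizer_iff.mp (hH hh) w rfl).symm

theorem zpowers_le_centralizer_singleton_iff {w x : G} :
    Subgroup.zpowers x ≤ Subgroup.centralizer ({w} : Set G) ↔ x * w = w * x := by
  rw [Subgroup.zpowers_le]
  constructor
  · intro h
    exact (Subgroup.mem_centralizer_iff.mp h w rfl).symm
  · intro h
    apply Subgroup.mem_centralizer_iff.mpr
    intro w' hw'
    rw [Set.mem_singleton_iff] at hw'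
    rw [hw']; exact h.symm

/-- a `q`-subgroup of `K` centralized by `x` is no larger than `C_Q(x)` when `Q` is an
`x`-invariant Sylow `q`-subgroup of `K` and `x` acts coprimely on `K` -/
theorem card_le_of_le_centralizer {K Q D : Subgroup G} {x : G} {q : ℕ} [Fact q.Prime]
    (S₀ : Sylow q K) (hS₀ : (S₀ : Subgroup K).map K.subtype = Q)
    (hxK : x ∈ Subgroup.normalizer (K : Set G)) (hcop : (orderOf x).Coprime (Nat.card K))
    (hxQ : x ∈ Subgroup.normalizer (Q : Set G)) (hDK : D ≤ K) (hDq : IsPGroup q D)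
    (hDx : D ≤ Subgroup.centralizer ({x} : Set G)) :
    Nat.card D ≤ Nat.card ↥(Q ⊓ Subgroup.centralizer ({x} : Set G) : Subgroup G) := by
  set X : Subgroup G := Subgroup.zpowers x with hXdef
  have hXK : X ≤ Subgroup.normalizer (K : Set G) := Subgroup.zpowers_le.mpr hxK
  have hXQ : X ≤ Subgroup.normalizer (Q : Set G) := Subgroup.zpowers_le.mpr hxQ
  have hxD : x ∈ Subgroup.centralizer (D : Set G) := mem_centralizer_iff_le.mpr hDx
  have hXD : X ≤ Subgroup.normalizer (D : Set G) :=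
    Subgroup.zpowers_le.mpr (Subgroup.centralizer_le_normalizer _ hxD)
  have hcop' : (Nat.card X).Coprime (Nat.card K) := by rw [hXdef, Nat.card_zpowers]; exact hcop
  have hsolv : Group.IsSolvable ↥X ∨ Group.IsSolvable ↥K := by
    left
    rw [hXdef]
    infer_instance
  obtain ⟨S₁, hDS₁, hXS₁⟩ := Cfsg.Agent.S0025.result X K hXK hcop' hsolv q D hDK hDq hXD
  obtain ⟨k, hkX, hk⟩ := Cfsg.Agent.S0024.result X K hXK hcop' hsolv q S₀ S₁
    (by rw [hS₀]; exact hXQ) hXS₁
  have e := conj_sylow_map S₀ S₁ k hk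
  rw [hS₀] at e
  have hkx : (k : G) * x = x * (k : G) :=
    (Subgroup.mem_centralizer_iff.mp hkX x (Subgroup.mem_zpowers x)).symm
  have hle : D.map (MulAut.conj (k : G)⁻¹).toMonoidHom ≤ Q ⊓ Subgroup.centralizer ({x} : Set G) := by
    rintro _ ⟨d, hd, rfl⟩
    have hd1 : d ∈ Q.map (MulAut.conj (k : G)).toMonoidHom := by rw [← e]; exact hDS₁ hd
    obtain ⟨w, hw, hwd⟩ := hd1
    have hwd' : (k : G) * w * (k : G)⁻¹ = d := hwd
    have hdx : x * d = d * x := Subgroup.mem_centralizer_iff.mp (hDx hd) x rfl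
    have hki : (k : G)⁻¹ * x = x * (k : G)⁻¹ := (Commute.inv_left (show Commute (k : G) x from hkx)).eq
    refine ⟨?_, ?_⟩
    · show (k : G)⁻¹ * d * (k : G)⁻¹⁻¹ ∈ Q
      rw [← hwd']
      have : (k : G)⁻¹ * ((k : G) * w * (k : G)⁻¹) * (k : G)⁻¹⁻¹ = w := by group
      rw [this]; exact hw
    · apply Subgroup.mem_centralizer_iff.mpr
      intro x' hx'
      rw [Set.mem_singleton_iff] at hx'
      rw [hx']
      show x * ((k : G)⁻¹ * d * (k : G)⁻¹⁻¹) = (k : G)⁻¹ * d * (k : G)⁻¹⁻¹ * x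
      rw [inv_inv]
      calc x * ((k : G)⁻¹ * d * (k : G)) = (x * (k : G)⁻¹) * d * (k : G) := by group
        _ = (k : G)⁻¹ * (x * d) * (k : G) := by rw [← hki]; group
        _ = (k : G)⁻¹ * d * (x * (k : G)) := by rw [hdx]; group
        _ = (k : G)⁻¹ * d * (k : G) * x := by rw [← hkx]; group
  have h1 := Subgroup.card_le_of_le hle
  rw [Subgroup.card_map_of_injective (MulAut.conj (k : G)⁻¹).injective] at h1
  exact h1

end Cfsg.Agent.Lib.Lead.BG10
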