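import Mathlib
import Cfsg.Agent.Lib.Lead.BG10t

set_option autoImplicit false

/-! Bender–Glauberman, nonabelian `p`-subgroups are uniqueness subgroups, part u:
the context `QCtx` of a maximal invariant `q`-subgroup not centralized by `Z`. -/

namespace Cfsg.Agent.Lib.Lead.BG10

open Cfsg Cfsg.Agent.Lib.Lead Cfsg.Agent.Lib.Helper7 Cfsg.Agent.Lib.Helper4
open Cfsg.Agent.Lib.Helper4.BG7 Cfsg.Agent.Lib.Helper4.BG76 Cfsg.Agent.Lib.Helper4.BG8
open Cfsg.Agent.Lib.Helper4.BG9 Cfsg.Agent.Lib.Lead.BG95 Cfsg.Agent.Lib.Helper4.ThreeStep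
open Cfsg.Agent.Lib.Helper4.ZP Cfsg.Agent.Lib.Helper6
open scoped commutatorElement

universe u

variable {G : Type u} [Group G] [Finite G]

/-- `(q, Q)` is a maximal `P`-invariant `q`-subgroup not centralized by `Z`, and `L` is a maximal
subgroup containing it -/
structure QCtx (p : ℕ) (P Z : Subgroup G) (x u : G) (q : ℕ) (Q L : Subgroup G) : Prop where
  c : NACfg p P Z x u
  hG : IsMinSimpleOddOrder G
  hpq : p ≠ q
  hQmax : Q ∈ maxInvSubgroups ⊤ P {q}
  hZQ : ¬ Z ≤ Subgroup.centralizer (Q : Set G)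
  hL : IsCoatom L
  hQL : Q ≤ L

namespace QCtx

variable {p : ℕ} [hp : Fact p.Prime] {P Z : Subgroup G} {x u : G}
variable {q : ℕ} [hq : Fact q.Prime] {Q L : Subgroup G}

theorem hQq (d : QCtx p P Z x u q Q L) : IsPGroup q Q := isPGroup_of_mem_maxInv d.hQmax

theorem hPQ (d : QCtx p P Z x u q Q L) : P ≤ Subgroup.normalizer (Q : Set G) := d.hQmax.1.2.2

theorem wide (d : QCtx p P Z x u q Q L) : Wide q Q := d.c.wide d.hG d.hpq d.hQq d.hPQ d.hZQ

theorem hp2 (d : QCtx p P Z x u q Q L) : p ≠ 2 := ne_two_of_odd d.hG d.c.p_dvd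

theorem Q_ne_bot (d : QCtx p P Z x u q Q L) : Q ≠ ⊥ := by
  intro h0
  have := d.wide.not_isCyclic
  apply this
  rw [h0]
  exact isCyclic_of_subsingleton

theorem normalizer_le (d : QCtx p P Z x u q Q L) {O : Subgroup G} (hOQ : O ≤ Q) (hO1 : O ≠ ⊥) :
    Subgroup.normalizer (O : Set G) ≤ L :=
  d.wide.normalizer_le d.hG d.hQq hOQ hO1 d.hL d.hQL

theorem P_le (d : QCtx p P Z x u q Q L) : P ≤ L := d.hPQ.trans (d.normalizer_le le_rfl d.Q_ne_bot)

theorem A_le (d : QCtx p P Z x u q Q L) : Z ⊔ Subgroup.zpowers x ≤ L := d.c.A_le.trans d.P_le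

theorem card_coprime (d : QCtx p P Z x u q Q L) {Y : Subgroup G} (hY : IsPGroup q Y) :
    (Nat.card Y).Coprime p := by
  obtain ⟨n, hn⟩ := IsPGroup.iff_card.mp hY
  rw [hn]
  exact Nat.Coprime.pow_left _ ((Nat.coprime_primes hq.out hp.out).mpr d.hpq.symm)

/-- `A`-invariant `q`-subgroups of `L` lie in `O_{p'}(L)` -/
theorem le_cG_L (d : QCtx p P Z x u q Q L) {Y : Subgroup G} (hYL : Y ≤ L) (hY : IsPGroup q Y)
    (hAY : Z ⊔ Subgroup.zpowers x ≤ Subgroup.normalizer (Y : Set G)) : Y ≤ cG p L :=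
  le_cG_of_invariant d.hG d.hp2 d.hL.1 d.A_le d.c.elementary.1
    (fun y _ hy hyp => d.c.hmax y hy hyp) hYL (d.card_coprime hY) hAY

theorem Q_le_cG (d : QCtx p P Z x u q Q L) : Q ≤ cG p L :=
  d.le_cG_L d.hQL d.hQq (d.c.A_le.trans d.hPQ)

theorem P_isSolvable (d : QCtx p P Z x u q Q L) : Group.IsSolvable ↥P :=
  isSolvable_of_isPGroup' d.c.hPp

/-- `Q` is a Sylow `q`-subgroup of `O_{p'}(L)` -/
theorem exists_sylow (d : QCtx p P Z x u q Q L) :
    ∃ S₀ : Sylow q ↥(cG p L), (S₀ : Subgroup ↥(cG p L)).map (cG p L).subtype = Q := by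
  have hPK : P ≤ Subgroup.normalizer (cG p L : Set G) := d.P_le.trans (le_normalizer_cG p L)
  have hcop : (Nat.card P).Coprime (Nat.card (cG p L)) := by
    obtain ⟨n, hn⟩ := IsPGroup.iff_card.mp d.c.hPp
    rw [hn]
    exact Nat.Coprime.pow_left _ (card_cG_coprime p L).symm
  obtain ⟨S₀, hQS₀, hPS₀⟩ := Cfsg.Agent.S0025.result P (cG p L) hPK hcop (Or.inl d.P_isSolvable) q Q
    d.Q_le_cG d.hQq d.hPQ
  refine ⟨S₀, ?_⟩
  apply d.hQmax.2 _ ⟨le_top, isPiNum_singleton_of_isPGroup (S₀.isPGroup'.map _), hPS₀⟩ hQS₀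

theorem C_ne_bot (d : QCtx p P Z x u q Q L) : Q ⊓ Subgroup.centralizer ({x} : Set G) ≠ ⊥ := by
  intro h0
  apply d.c.not_le_centralizer_inf d.hpq d.hQq d.hPQ d.hZQ
  rw [h0]
  intro z _
  apply Subgroup.mem_centralizer_iff.mpr
  intro w hw
  rw [Subgroup.coe_bot, Set.mem_singleton_iff] at hw
  rw [hw, one_mul, mul_one]

theorem centralizer_ne_top (d : QCtx p P Z x u q Q L) : Subgroup.centralizer ({x} : Set G) ≠ ⊤ :=
  center_ne_top d.hG d.c.x_ne_one

theorem A_le_centralizer (d : QCtx p P Z x u q Q L) :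
    Z ⊔ Subgroup.zpowers x ≤ Subgroup.centralizer ({x} : Set G) := by
  apply sup_le
  · intro z hz
    apply Subgroup.mem_centralizer_iff.mpr
    intro x' hx'
    rw [Set.mem_singleton_iff] at hx'
    rw [hx']
    exact d.c.x_comm hz
  · exact zpowers_le_centralizer_singleton_iff.mpr rfl

theorem A_le_normalizer_C (d : QCtx p P Z x u q Q L) :
    Z ⊔ Subgroup.zpowers x ≤
      Subgroup.normalizer ((Q ⊓ Subgroup.centralizer ({x} : Set G) : Subgroup G) : Set G) :=
  (le_inf (d.c.A_le.trans d.hPQ) (d.A_le_centralizer.trans Subgroup.le_normalizer)).trans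
    (normalizer_inf_le' _ _)

theorem C_le_cG (d : QCtx p P Z x u q Q L) :
    Q ⊓ Subgroup.centralizer ({x} : Set G) ≤ cG p (Subgroup.centralizer ({x} : Set G)) :=
  le_cG_of_invariant d.hG d.hp2 d.centralizer_ne_top d.A_le_centralizer d.c.elementary.1
    (fun y _ hy hyp => d.c.hmax y hy hyp) inf_le_right (d.card_coprime (d.hQq.to_le inf_le_left))
    d.A_le_normalizer_C

theorem le_normalizer_sup_of_le {A B C : Subgroup G} (hB : A ≤ Subgroup.normalizer (B : Set G))
    (hC : A ≤ Subgroup.normalizer (C : Set G)) :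
    A ≤ Subgroup.normalizer ((B ⊔ C : Subgroup G) : Set G) := by
  intro a ha
  apply mem_normalizer_of_map_conj_eq
  rw [Subgroup.map_sup, map_conj_eq_of_mem_normalizer (hB ha),
    map_conj_eq_of_mem_normalizer (hC ha)]

/-- `O_q(O_{p'}(C_G(x))) = 1` when `C_Q(x)` is cyclic and `C_G(x)` is not contained in `L` -/
theorem opOf_eq_bot (d : QCtx p P Z x u q Q L)
    (hnot : ¬ Subgroup.centralizer ({x} : Set G) ≤ L) :
    opOf q (cG p (Subgroup.centralizer ({x} : Set G))) = ⊥ := by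
  by_contra hO1
  set H : Subgroup G := Subgroup.centralizer ({x} : Set G) with hHdef
  set Y : Subgroup G := cG p H with hYdef
  set O : Subgroup G := opOf q Y with hOdef
  set C : Subgroup G := Q ⊓ H with hCdef
  have hHO : H ≤ Subgroup.normalizer (O : Set G) :=
    (le_normalizer_cG p H).trans (normalizer_le_normalizer_opOf q Y)
  have hOq : IsPGroup q O := opOf_isPGroup q Y
  have hOH : O ≤ H := (opOf_le q Y).trans (cG_le p H)
  have hCq : IsPGroup q C := d.hQq.to_le inf_le_left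
  have hCH : C ≤ H := inf_le_right
  by_cases hOC : O ≤ C
  · exact hnot (hHO.trans (d.normalizer_le (hOC.trans inf_le_left) hO1))
  · set D : Subgroup G := O ⊔ C with hDdef
    have hDq : IsPGroup q D := isPGroup_sup_of_le_normalizer q O C hOq hCq (hCH.trans hHO)
    have hlt : C < D := by
      refine lt_of_le_of_ne le_sup_right ?_
      intro h
      apply hOC
      rw [h]
      exact le_sup_left
    have h2 := pgroup_normalizer_grows q D C hDq hlt
    set D₁ : Subgroup G := D ⊓ Subgroup.normalizer (C : Set G) with hD₁def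
    have hD₁L : D₁ ≤ L := inf_le_right.trans (d.normalizer_le inf_le_left d.C_ne_bot)
    have hDH : D ≤ H := sup_le hOH hCH
    have hAD : Z ⊔ Subgroup.zpowers x ≤ Subgroup.normalizer (D : Set G) :=
      le_normalizer_sup_of_le (d.A_le_centralizer.trans hHO) d.A_le_normalizer_C
    have hAD₁ : Z ⊔ Subgroup.zpowers x ≤ Subgroup.normalizer (D₁ : Set G) :=
      (le_inf hAD (d.A_le_normalizer_C.trans Subgroup.le_normalizer)).trans
        (normalizer_inf_le' _ _)
    have hD₁q : IsPGroup q D₁ := hDq.to_le inf_le_left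
    have hD₁K : D₁ ≤ cG p L := d.le_cG_L hD₁L hD₁q hAD₁
    obtain ⟨S₀, hS₀⟩ := d.exists_sylow
    have hxL : x ∈ L := d.P_le d.c.hxP
    have hcop : (orderOf x).Coprime (Nat.card (cG p L)) := by
      rw [d.c.orderOf_x]
      exact (card_cG_coprime p L).symm
    have hcard := card_le_of_le_centralizer S₀ hS₀ (le_normalizer_cG p L hxL) hcop
      (d.hPQ d.c.hxP) hD₁K hD₁q (inf_le_left.trans hDH)
    exact absurd (card_lt_card_of_lt h2) (not_lt.mpr hcard)

end QCtx

end Cfsg.Agent.Lib.Lead.BG10
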