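import Mathlib
import Cfsg.Agent.Lib.Lead.BG10u
import Cfsg.Agent.Lib.Helper6.SubnCl

set_option autoImplicit false

/-! Bender–Glauberman, nonabelian `p`-subgroups are uniqueness subgroups, part v:
the cyclic case (Lemma T). -/

namespace Cfsg.Agent.Lib.Lead.BG10

open Cfsg Cfsg.Agent.Lib.Lead Cfsg.Agent.Lib.Helper7 Cfsg.Agent.Lib.Helper4
open Cfsg.Agent.Lib.Helper4.BG7 Cfsg.Agent.Lib.Helper4.BG76 Cfsg.Agent.Lib.Helper4.BG8
open Cfsg.Agent.Lib.Helper4.BG9 Cfsg.Agent.Lib.Lead.BG95 Cfsg.Agent.Lib.Helper4.ThreeStep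
open Cfsg.Agent.Lib.Helper4.ZP Cfsg.Agent.Lib.Helper6
open scoped commutatorElement

universe u

variable {G : Type u} [Group G] [Finite G]

theorem dvd_card_of_isPGroup_ne_bot {t : ℕ} [ht : Fact t.Prime] {T : Subgroup G} (hT : IsPGroup t T)
    (hT1 : T ≠ ⊥) : t ∣ Nat.card T := by
  obtain ⟨n, hn⟩ := IsPGroup.iff_card.mp hT
  have hn0 : n ≠ 0 := by
    rintro rfl
    rw [pow_zero] at hn
    exact hT1 (Subgroup.card_eq_one.mp hn)
  rw [hn]; exact dvd_pow_self t hn0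

theorem le_centralizer_bot_aux (T : Subgroup G) (w : G) (h : T = ⊥) :
    T ≤ Subgroup.centralizer ({w} : Set G) := by
  rw [h]; exact bot_le

namespace QCtx

variable {p : ℕ} [hp : Fact p.Prime] {P Z : Subgroup G} {x u : G}
variable {q : ℕ} [hq : Fact q.Prime] {Q L : Subgroup G}

theorem exists_order_q (d : QCtx p P Z x u q Q L) :
    ∃ c₀ ∈ Q ⊓ Subgroup.centralizer ({x} : Set G), orderOf c₀ = q := by
  have hdvd := dvd_card_of_isPGroup_ne_bot (d.hQq.to_le (inf_le_left :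
    Q ⊓ Subgroup.centralizer ({x} : Set G) ≤ Q)) d.C_ne_bot
  obtain ⟨c, hc⟩ := exists_prime_orderOf_dvd_card' q hdvd
  exact ⟨c.1, c.2, by rw [← hc, Subgroup.orderOf_coe]⟩

theorem cG_ne_top (d : QCtx p P Z x u q Q L) : cG p (Subgroup.centralizer ({x} : Set G)) ≠ ⊤ := by
  intro h0
  apply d.centralizer_ne_top
  rw [eq_top_iff, ← h0]
  exact cG_le p _

/-- some `O_t(O_{p'}(C_G(x)))`, `t ≠ q`, is not centralized by `c₀` -/
theorem exists_prime_not_centralized (d : QCtx p P Z x u q Q L)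
    (hnot : ¬ Subgroup.centralizer ({x} : Set G) ≤ L) {c₀ : G}
    (hc₀ : c₀ ∈ Q ⊓ Subgroup.centralizer ({x} : Set G)) (ho : orderOf c₀ = q) :
    ∃ t : ℕ, t.Prime ∧ t ≠ q ∧
      ¬ opOf t (cG p (Subgroup.centralizer ({x} : Set G))) ≤ Subgroup.centralizer ({c₀} : Set G) := by
  by_contra hcon
  push Not at hcon
  set Y : Subgroup G := cG p (Subgroup.centralizer ({x} : Set G)) with hYdef
  have hOq := d.opOf_eq_bot hnot
  rw [← hYdef] at hOq
  have hF : fittingOf Y ≤ Subgroup.centralizer ({c₀} : Set G) := by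
    rw [fittingOf_eq_iSup]
    apply iSup_le
    intro t
    by_cases htq : (t : ℕ) = q
    · rw [htq, hOq]; exact bot_le
    · exact hcon t t.2 htq
  have hYs : Group.IsSolvable ↥Y := solvable_of_ne_top d.hG d.cG_ne_top
  have hc₀F : c₀ ∈ fittingOf Y :=
    centralizer_fittingOf_le hYs ⟨d.C_le_cG hc₀, mem_centralizer_iff_le.mpr hF⟩
  have hzq : IsPGroup q ↥(Subgroup.zpowers c₀) := by
    apply IsPGroup.of_card (n := 1)
    rw [Nat.card_zpowers, ho, pow_one]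
  have h1 := le_opOf_of_le_fittingOf (Subgroup.zpowers_le.mpr hc₀F) hzq
  rw [hOq] at h1
  have h2 : c₀ = 1 := by
    have := h1 (Subgroup.mem_zpowers c₀)
    rwa [Subgroup.mem_bot] at this
  rw [h2, orderOf_one] at ho
  exact hq.out.one_lt.ne ho

theorem z0_mem_normalizer_C (d : QCtx p P Z x u q Q L) :
    u * x * u⁻¹ * x⁻¹ ∈
      Subgroup.normalizer ((Q ⊓ Subgroup.centralizer ({x} : Set G) : Subgroup G) : Set G) :=
  d.c.Z_le_normalizer_inf d.hPQ d.c.hux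

theorem orderOf_z0 (d : QCtx p P Z x u q Q L) : orderOf (u * x * u⁻¹ * x⁻¹) = p :=
  orderOf_eq_prime (d.c.pow_eq_one d.c.hux) d.c.hux1

theorem centralizer_z0 (d : QCtx p P Z x u q Q L) {w : G}
    (hw : w ∈ Subgroup.centralizer ({u * x * u⁻¹ * x⁻¹} : Set G)) :
    w ∈ Subgroup.centralizer (Z : Set G) := by
  rw [mem_centralizer_iff_le, d.c.Z_eq, zpowers_le_centralizer_singleton_iff]
  exact Subgroup.mem_centralizer_iff.mp hw _ rfl

/-- the acting group `A` is abelian of rank two -/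
theorem not_rankLE_one (d : QCtx p P Z x u q Q L) :
    ¬ RankLE 1 ↥((Z ⊔ Subgroup.zpowers x) ⊓
      Subgroup.centralizer ((Z ⊔ Subgroup.zpowers x : Subgroup G) : Set G) : Subgroup G) := by
  set A : Subgroup G := Z ⊔ Subgroup.zpowers x with hAdef
  have hAC : A ≤ Subgroup.centralizer (A : Set G) := by
    intro a ha
    apply Subgroup.mem_centralizer_iff.mpr
    intro b hb
    have := d.c.elementary.1.1.is_comm.comm ⟨b, hb⟩ ⟨a, ha⟩
    exact congrArg Subtype.val this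
  rw [inf_eq_left.mpr hAC]
  apply not_rankLE_of_not_pRankLE hp.out
  intro hr
  have h1 := hr ⊤ (by
      refine ⟨⟨?_⟩⟩
      rintro ⟨a, -⟩ ⟨b, -⟩
      apply Subtype.ext
      exact d.c.elementary.1.1.is_comm.comm a b) (by
      intro a _
      apply Subtype.ext
      rw [Subgroup.coe_pow]
      exact d.c.elementary.1.2 a.1 a.2)
  rw [Subgroup.card_top, d.c.elementary.2, pow_one] at h1
  have : p ^ 1 < p ^ 2 := Nat.pow_lt_pow_right hp.out.one_lt (by norm_num)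
  rw [pow_one] at this
  omega

/-- Lemma T: if `C_Q(x)` is cyclic and `C_G(x)` is not contained in `L`, then there is a member
`(t, T₁)` of `𝒬⁺` with `C_{T₁}(x)` noncyclic -/
theorem exists_noncyclic (d : QCtx p P Z x u q Q L)
    (hcyc : IsCyclic ↥(Q ⊓ Subgroup.centralizer ({x} : Set G) : Subgroup G))
    (hnot : ¬ Subgroup.centralizer ({x} : Set G) ≤ L) :
    ∃ (t : ℕ) (T₁ : Subgroup G), t.Prime ∧ p ≠ t ∧ T₁ ∈ maxInvSubgroups ⊤ P {t} ∧
      ¬ Z ≤ Subgroup.centralizer (T₁ : Set G) ∧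
      ¬ IsCyclic ↥(T₁ ⊓ Subgroup.centralizer ({x} : Set G) : Subgroup G) := by
  set H : Subgroup G := Subgroup.centralizer ({x} : Set G) with hHdef
  set Y : Subgroup G := cG p H with hYdef
  set C : Subgroup G := Q ⊓ H with hCdef
  set A : Subgroup G := Z ⊔ Subgroup.zpowers x with hAdef
  obtain ⟨c₀, hc₀, ho⟩ := d.exists_order_q
  obtain ⟨t, ht, htq, hT₀c⟩ := d.exists_prime_not_centralized hnot hc₀ ho
  haveI : Fact t.Prime := ⟨ht⟩
  rw [← hHdef, ← hYdef] at hT₀c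
  set T₀ : Subgroup G := opOf t Y with hT₀def
  have hT₀t : IsPGroup t T₀ := opOf_isPGroup t Y
  have hT₀1 : T₀ ≠ ⊥ := fun h => hT₀c (le_centralizer_bot_aux _ _ h)
  have hT₀Y : T₀ ≤ Y := opOf_le t Y
  have hT₀H : T₀ ≤ H := hT₀Y.trans (cG_le p H)
  have htp : t ≠ p := by
    intro htp
    have h1 := dvd_card_of_isPGroup_ne_bot hT₀t hT₀1
    have h2 := h1.trans (Subgroup.card_dvd_of_le hT₀Y)
    have h3 := card_cG_coprime p H
    rw [htp] at h2
    exact (Nat.Prime.coprime_iff_not_dvd hp.out).mp h3.symm h2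
  have hHT₀ : H ≤ Subgroup.normalizer (T₀ : Set G) :=
    (le_normalizer_cG p H).trans (normalizer_le_normalizer_opOf t Y)
  have hz0A : u * x * u⁻¹ * x⁻¹ ∈ A := (le_sup_left : Z ≤ A) d.c.hux
  have hzc : (u * x * u⁻¹ * x⁻¹) * c₀ * (u * x * u⁻¹ * x⁻¹)⁻¹ ∈ Subgroup.zpowers c₀ := by
    have h1 : (Subgroup.zpowers c₀).map (MulAut.conj (u * x * u⁻¹ * x⁻¹)).toMonoidHom ≤ C := by
      have hN : C.map (MulAut.conj (u * x * u⁻¹ * x⁻¹)).toMonoidHom = C :=
        map_conj_eq_of_mem_normalizer d.z0_mem_normalizer_C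
      exact (Subgroup.map_mono (Subgroup.zpowers_le.mpr hc₀)).trans hN.le
    have e := eq_of_card_eq_of_le_cyclic hcyc h1 (Subgroup.zpowers_le.mpr hc₀)
      (Subgroup.card_map_of_injective (MulAut.conj (u * x * u⁻¹ * x⁻¹)).injective)
    rw [← e]
    exact ⟨c₀, Subgroup.mem_zpowers c₀, rfl⟩
  have hne : (u * x * u⁻¹ * x⁻¹) * c₀ ≠ c₀ * (u * x * u⁻¹ * x⁻¹) := by
    intro h
    have h0 : c₀ ∈ Subgroup.centralizer ({u * x * u⁻¹ * x⁻¹} : Set G) := by
      apply Subgroup.mem_centralizer_iff.mpr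
      intro z hz
      rw [Set.mem_singleton_iff] at hz
      rw [hz]; exact h
    have h1 : c₀ ∈ C ⊓ Subgroup.centralizer (Z : Set G) := ⟨hc₀, d.centralizer_z0 h0⟩
    rw [d.c.centralizer_inf_eq_bot d.hpq d.hQq d.hPQ d.hZQ hcyc, Subgroup.mem_bot] at h1
    rw [h1, orderOf_one] at ho
    exact hq.out.one_lt.ne ho
  obtain ⟨hfix, hnc⟩ := frobenius_fixed d.hpq htp htq d.orderOf_z0 ho hzc hne hT₀t
    (hHT₀ (d.A_le_centralizer hz0A)) (hHT₀ hc₀.2) hT₀c
  have hfixA : T₀ ⊓ Subgroup.centralizer ({u * x * u⁻¹ * x⁻¹} : Set G) ≤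
      Subgroup.centralizer (A : Set G) := by
    rintro w ⟨hw1, hw2⟩
    rw [mem_centralizer_iff_le]
    apply sup_le
    · exact mem_centralizer_iff_le.mp (d.centralizer_z0 hw2)
    · rw [zpowers_le_centralizer_singleton_iff]
      exact Subgroup.mem_centralizer_iff.mp (hT₀H hw1) x rfl
  have htC : t ∣ Nat.card (Subgroup.centralizer (A : Set G)) :=
    (dvd_card_of_isPGroup_ne_bot (hT₀t.to_le inf_le_left) hfix).trans
      (Subgroup.card_dvd_of_le hfixA)
  have htA : ¬ t ∣ Nat.card A := by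
    rw [d.c.elementary.2]
    intro h
    exact htp ((Nat.prime_dvd_prime_iff_eq ht hp.out).mp (ht.dvd_of_dvd_pow h))
  have hTH := d.c.transHyp d.hG
  have htr : Transitive A t := theorem_7_4 d.hG hTH d.not_rankLE_one ht htA htC
  have hPtop : P ≠ ⊤ := isPGroup_ne_top d.hG d.c.hPp
  have hPπ : ∀ r : ℕ, r.Prime → r ∣ Nat.card P → r ∣ Nat.card A := by
    intro r hr hd
    obtain ⟨n, hn⟩ := IsPGroup.iff_card.mp d.c.hPp
    rw [hn] at hd
    have := (Nat.prime_dvd_prime_iff_eq hr hp.out).mp (hr.dvd_of_dvd_pow hd)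
    rw [this, d.c.elementary.2]
    exact dvd_pow_self p two_ne_zero
  have hPp' : IsPGroup p ↥P := d.c.hPp
  have hsn : (A.subgroupOf P).IsSubnormal := isSubnormal_of_isPGroup hPp' _
  obtain ⟨-, -, -, hsub⟩ := theorem_7_5 d.hG hTH ht htA hPtop hPπ d.c.A_le hsn htr
  have hT₀inv : T₀ ∈ invSubgroups ⊤ A {t} :=
    ⟨le_top, isPiNum_singleton_of_isPGroup hT₀t, d.A_le_centralizer.trans hHT₀⟩
  obtain ⟨T₁', hT₁', hT₀T₁'⟩ := exists_maxInv_ge hT₀inv
  obtain ⟨T₁, hT₁, -⟩ := exists_maxInv_ge (bot_mem_inv P {t})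
  obtain ⟨k, hk, hkT⟩ := htr T₁ (hsub hT₁) T₁' hT₁'
  have hkA : k ∈ Subgroup.centralizer (A : Set G) := KA_le_centralizer A hk
  have hkx : Commute k x :=
    (Subgroup.mem_centralizer_iff.mp hkA x ((le_sup_right : Subgroup.zpowers x ≤ A)
      (Subgroup.mem_zpowers x))).symm
  have hkZ : ∀ z ∈ Z, Commute k z := fun z hz =>
    (Subgroup.mem_centralizer_iff.mp hkA z ((le_sup_left : Z ≤ A) hz)).symm
  have hrep : ∀ w ∈ T₀, k⁻¹ * w * k ∈ T₁ := by
    intro w hw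
    have h1 : w ∈ T₁.map (MulAut.conj k).toMonoidHom := by rw [← hkT]; exact hT₀T₁' hw
    obtain ⟨w₁, hw₁, e⟩ := h1
    have e' : k * w₁ * k⁻¹ = w := e
    rw [← e']
    have : k⁻¹ * (k * w₁ * k⁻¹) * k = w₁ := by group
    rw [this]; exact hw₁
  have hT₁t : IsPGroup t T₁ := isPGroup_of_mem_maxInv hT₁
  have hPT₁ : P ≤ Subgroup.normalizer (T₁ : Set G) := hT₁.1.2.2
  have hZT₁ : ¬ Z ≤ Subgroup.centralizer (T₁ : Set G) := by
    intro hcon
    apply hnc
    intro w hw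
    have h1 := hrep w hw
    have h2 : Commute (u * x * u⁻¹ * x⁻¹) (k⁻¹ * w * k) :=
      Subgroup.mem_centralizer_iff.mp (hcon d.c.hux) _ h1 |>.symm
    have h3 : Commute k (u * x * u⁻¹ * x⁻¹) := hkZ _ d.c.hux
    have h4 : Commute (u * x * u⁻¹ * x⁻¹) (k * (k⁻¹ * w * k) * k⁻¹) :=
      (h3.symm.mul_right h2).mul_right h3.symm.inv_right
    have h5 : k * (k⁻¹ * w * k) * k⁻¹ = w := by group
    rw [h5] at h4
    apply Subgroup.mem_centralizer_iff.mpr
    intro z hz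
    rw [Set.mem_singleton_iff] at hz
    rw [hz]; exact h4.eq
  refine ⟨t, T₁, ht, Ne.symm htp, hT₁, hZT₁, ?_⟩
  intro hcyc₁
  have hbot := d.c.centralizer_inf_eq_bot (Ne.symm htp) hT₁t hPT₁ hZT₁ hcyc₁
  obtain ⟨w, hw1⟩ := Subgroup.ne_bot_iff_exists_ne_one.mp hfix
  have hwT₀ : (w : G) ∈ T₀ := w.2.1
  have hwz : (w : G) ∈ Subgroup.centralizer (Z : Set G) := d.centralizer_z0 w.2.2
  have hwx : Commute x (w : G) := Subgroup.mem_centralizer_iff.mp (hT₀H hwT₀) x rfl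
  have h1 := hrep w hwT₀
  have h2 : k⁻¹ * (w : G) * k ∈ (T₁ ⊓ Subgroup.centralizer ({x} : Set G)) ⊓
      Subgroup.centralizer (Z : Set G) := by
    refine ⟨⟨h1, ?_⟩, ?_⟩
    · apply Subgroup.mem_centralizer_iff.mpr
      intro x' hx'
      rw [Set.mem_singleton_iff] at hx'
      rw [hx']
      exact ((hkx.symm.inv_right.mul_right hwx).mul_right hkx.symm).eq
    · apply Subgroup.mem_centralizer_iff.mpr
      intro z hz
      have hzw : Commute z (w : G) := Subgroup.mem_centralizer_iff.mp hwz z hz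
      exact (((hkZ z hz).symm.inv_right.mul_right hzw).mul_right (hkZ z hz).symm).eq
  rw [hbot, Subgroup.mem_bot] at h2
  apply hw1
  apply Subtype.ext
  have : (w : G) = k * (k⁻¹ * (w : G) * k) * k⁻¹ := by group
  rw [this, h2]
  simp

end QCtx

end Cfsg.Agent.Lib.Lead.BG10
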