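import Mathlib
import Cfsg.Agent.Lib.Lead.BG10v

set_option autoImplicit false

/-! Bender–Glauberman, nonabelian `p`-subgroups are uniqueness subgroups, part w:
all the maximal subgroups `L_Q` coincide; the maximal subgroups containing `P`. -/

namespace Cfsg.Agent.Lib.Lead.BG10

open Cfsg Cfsg.Agent.Lib.Lead Cfsg.Agent.Lib.Helper7 Cfsg.Agent.Lib.Helper4
open Cfsg.Agent.Lib.Helper4.BG7 Cfsg.Agent.Lib.Helper4.BG76 Cfsg.Agent.Lib.Helper4.BG8
open Cfsg.Agent.Lib.Helper4.BG9 Cfsg.Agent.Lib.Lead.BG95 Cfsg.Agent.Lib.Helper4.ThreeStep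
open Cfsg.Agent.Lib.Helper4.ZP Cfsg.Agent.Lib.Helper6
open scoped commutatorElement

universe u

variable {G : Type u} [Group G] [Finite G]

namespace QCtx

variable {p : ℕ} [hp : Fact p.Prime] {P Z : Subgroup G} {x u : G}
variable {q : ℕ} [hq : Fact q.Prime] {Q L : Subgroup G}

/-- a maximal subgroup containing a noncyclic subgroup of `Q` is `L` -/
theorem eq_of_noncyclic (d : QCtx p P Z x u q Q L) {Y : Subgroup G} (hYQ : Y ≤ Q)
    (hY : ¬ IsCyclic ↥Y) {L' : Subgroup G} (hL' : IsCoatom L') (hYL' : Y ≤ L') : L' = L :=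
  d.wide.eq_of_le d.hG d.hQq hL' d.hL (d.wide.le_of_noncyclic d.hG d.hQq hYQ hY hL' hYL') d.hQL

theorem centralizer_le_of_noncyclic (d : QCtx p P Z x u q Q L)
    (hnc : ¬ IsCyclic ↥(Q ⊓ Subgroup.centralizer ({x} : Set G) : Subgroup G)) :
    Subgroup.centralizer ({x} : Set G) ≤ L := by
  obtain ⟨L', hL', hle⟩ := exists_coatom_ge d.centralizer_ne_top
  rw [← d.eq_of_noncyclic inf_le_left hnc hL' (inf_le_right.trans hle)]
  exact hle

/-- Lemma W -/
theorem eq_of_centralizer_le {q₂ : ℕ} [hq₂ : Fact q₂.Prime] {Q₂ L₂ : Subgroup G}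
    (d : QCtx p P Z x u q Q L) (d₂ : QCtx p P Z x u q₂ Q₂ L₂)
    (h : Subgroup.centralizer ({x} : Set G) ≤ L) : L₂ = L := by
  symm
  by_cases hcyc : IsCyclic ↥(Q₂ ⊓ Subgroup.centralizer ({x} : Set G) : Subgroup G)
  · have hnc := d₂.c.not_isCyclic_sup_conj d₂.hpq d₂.hQq d₂.hPQ d₂.hZQ
    have huQ₂ : Q₂.map (MulAut.conj u).toMonoidHom = Q₂ :=
      map_conj_eq_of_mem_normalizer (d₂.hPQ d.c.huP)
    have huL : L.map (MulAut.conj u).toMonoidHom = L :=
      map_conj_eq_of_mem_normalizer (Subgroup.le_normalizer (d.P_le d.c.huP))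
    apply d₂.eq_of_noncyclic _ hnc d.hL
    · apply sup_le (inf_le_right.trans h)
      exact (Subgroup.map_mono (inf_le_right.trans h)).trans huL.le
    · apply sup_le inf_le_left
      exact (Subgroup.map_mono inf_le_left).trans huQ₂.le
  · exact d₂.eq_of_noncyclic inf_le_left hcyc d.hL (inf_le_right.trans h)

/-- Lemma U -/
theorem centralizer_le (d : QCtx p P Z x u q Q L) : Subgroup.centralizer ({x} : Set G) ≤ L := by
  by_contra hnot
  by_cases hcyc : IsCyclic ↥(Q ⊓ Subgroup.centralizer ({x} : Set G) : Subgroup G)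
  · obtain ⟨t, T₁, ht, hpt, hT₁, hZT₁, hnc⟩ := d.exists_noncyclic hcyc hnot
    haveI : Fact t.Prime := ⟨ht⟩
    obtain ⟨L₁, hL₁, hT₁L₁⟩ := exists_coatom_ge (isPGroup_ne_top d.hG (isPGroup_of_mem_maxInv hT₁))
    have d₁ : QCtx p P Z x u t T₁ L₁ := ⟨d.c, d.hG, hpt, hT₁, hZT₁, hL₁, hT₁L₁⟩
    have h1 := d₁.centralizer_le_of_noncyclic hnc
    have h2 := d₁.eq_of_centralizer_le d h1
    exact hnot (h2 ▸ h1)
  · exact hnot (d.centralizer_le_of_noncyclic hcyc)

/-- Lemma V -/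
theorem eq_of_ctx {q₂ : ℕ} [hq₂ : Fact q₂.Prime] {Q₂ L₂ : Subgroup G}
    (d : QCtx p P Z x u q Q L) (d₂ : QCtx p P Z x u q₂ Q₂ L₂) : L₂ = L :=
  d.eq_of_centralizer_le d₂ d.centralizer_le

/-- `N_G(P) ≤ L` -/
theorem normalizer_P_le (d : QCtx p P Z x u q Q L) : Subgroup.normalizer (P : Set G) ≤ L := by
  intro n hn
  have hnZ : n ∈ Subgroup.normalizer (Z : Set G) := d.c.hN P d.c.hPp d.c.hZP hn
  have hQ' : Q.map (MulAut.conj n).toMonoidHom ∈ maxInvSubgroups ⊤ P {q} :=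
    map_conj_mem_maxInv' hn d.hQmax
  have hZQ' : ¬ Z ≤ Subgroup.centralizer ((Q.map (MulAut.conj n).toMonoidHom : Subgroup G) : Set G) := by
    intro hcon
    apply d.hZQ
    intro z hz
    apply Subgroup.mem_centralizer_iff.mpr
    intro w hw
    have h1 : n * z * n⁻¹ ∈ Z := (Subgroup.mem_normalizer_iff.mp hnZ z).mp hz
    have h2 : n * w * n⁻¹ ∈ Q.map (MulAut.conj n).toMonoidHom := ⟨w, hw, rfl⟩
    have h3 : (n * w * n⁻¹) * (n * z * n⁻¹) = (n * z * n⁻¹) * (n * w * n⁻¹) :=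
      Subgroup.mem_centralizer_iff.mp (hcon h1) _ h2
    calc w * z = n⁻¹ * ((n * w * n⁻¹) * (n * z * n⁻¹)) * n := by group
      _ = n⁻¹ * ((n * z * n⁻¹) * (n * w * n⁻¹)) * n := by rw [h3]
      _ = z * w := by group
  have hL' : IsCoatom (L.map (MulAut.conj n).toMonoidHom) := isCoatom_cj d.hL n
  have d' : QCtx p P Z x u q (Q.map (MulAut.conj n).toMonoidHom) (L.map (MulAut.conj n).toMonoidHom) :=
    ⟨d.c, d.hG, d.hpq, hQ', hZQ', hL', Subgroup.map_mono d.hQL⟩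
  have e : L.map (MulAut.conj n).toMonoidHom = L := d.eq_of_ctx d'
  have hnL : n ∈ Subgroup.normalizer (L : Set G) := mem_normalizer_of_map_conj_eq e
  have hL1 : L ≠ ⊥ := by
    intro h0
    apply d.Q_ne_bot
    rw [eq_bot_iff, ← h0]
    exact d.hQL
  rw [normalizer_eq_of_isCoatom d.hG d.hL hL1 le_rfl Subgroup.le_normalizer] at hnL
  exact hnL

end QCtx

/-- a `p'`-group normalized by the `p`-group `A` lies in `W` as soon as its `A`-invariant
Sylow subgroups do -/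
theorem le_of_inv_sylows_in {p : ℕ} [hp : Fact p.Prime] {A Y W : Subgroup G} (hA : IsPGroup p A)
    (hY : (Nat.card Y).Coprime p) (hAY : A ≤ Subgroup.normalizer (Y : Set G))
    (hq : ∀ q : ℕ, q.Prime → q ≠ p → ∀ Q : Subgroup G, Q ≤ Y → IsPGroup q Q →
      A ≤ Subgroup.normalizer (Q : Set G) → Q ≤ W) : Y ≤ W := by
  apply Cfsg.Agent.Lib.Helper7.PiClosed.le_of_forall_sylow Y W
  intro r hr
  by_cases hrp : r = p
  · refine ⟨⊥, bot_le, bot_le, ?_⟩
    rw [Subgroup.relIndex_bot_left, hrp]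
    exact fun hd => (Nat.Prime.coprime_iff_not_dvd hp.out).mp hY.symm hd
  · haveI : Fact r.Prime := ⟨hr⟩
    have hcop : (Nat.card A).Coprime (Nat.card Y) := by
      obtain ⟨n, hn⟩ := IsPGroup.iff_card.mp hA
      rw [hn]
      exact Nat.Coprime.pow_left n hY.symm
    have hAs : Group.IsSolvable ↥A := isSolvable_of_isPGroup' hA
    obtain ⟨Q, hQ⟩ := Cfsg.Agent.S0023.result A Y hAY hcop (Or.inl hAs) r
    exact ⟨(Q : Subgroup ↥Y).map Y.subtype, Subgroup.map_subtype_le _,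
      hq r hr hrp _ (Subgroup.map_subtype_le _) (Q.isPGroup'.map _) hQ, (sylIn_map_sylow Q).2.2⟩

namespace NACfg

variable {p : ℕ} [hp : Fact p.Prime] {P Z : Subgroup G} {x u : G}

/-- Lemma D: a maximal subgroup containing `P` lies in `N_G(Z)` or contains a member of `𝒬⁺` -/
theorem coatom_cases (c : NACfg p P Z x u) (hG : IsMinSimpleOddOrder G) {H : Subgroup G}
    (hH : IsCoatom H) (hPH : P ≤ H) :
    H ≤ Subgroup.normalizer (Z : Set G) ∨
      ∃ (q : ℕ) (Q : Subgroup G), q.Prime ∧ p ≠ q ∧ Q ∈ maxInvSubgroups ⊤ P {q} ∧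
        ¬ Z ≤ Subgroup.centralizer (Q : Set G) ∧ Q ≤ H := by
  obtain ⟨PH, hPPH, hsyl⟩ := exists_sylIn_ge hPH c.hPp
  by_cases hZK : cG p H ≤ Subgroup.centralizer (Z : Set G)
  · left
    intro h hh
    obtain ⟨k, hk, n, hn, rfl⟩ := exists_mul_of_plength_one (corollary_10_7a hG p H hH.1) hsyl hh
    apply Subgroup.mul_mem
    · exact Subgroup.centralizer_le_normalizer _ (hZK hk)
    · exact c.hN PH hsyl.2.1 (c.hZP.trans hPPH) hn.2
  · right
    by_contra hcon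
    push Not at hcon
    apply hZK
    apply le_of_inv_sylows_in c.hPp (card_cG_coprime p H)
      (hPH.trans (le_normalizer_cG p H))
    intro q hq hqp Q' hQ'K hQ'q hPQ'
    haveI : Fact q.Prime := ⟨hq⟩
    by_contra hQ'Z
    have hZQ' : ¬ Z ≤ Subgroup.centralizer (Q' : Set G) := by
      intro h
      exact hQ'Z (Subgroup.le_centralizer_iff.mp h)
    have hw' : Wide q Q' := c.wide hG (Ne.symm hqp) hQ'q hPQ' hZQ'
    obtain ⟨Q, hQmax, hQ'Q⟩ := exists_maxInv_ge (A := P) (π := {q})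
      ⟨le_top, isPiNum_singleton_of_isPGroup hQ'q, hPQ'⟩
    have hZQ : ¬ Z ≤ Subgroup.centralizer (Q : Set G) := by
      intro h
      exact hZQ' (h.trans (Subgroup.centralizer_le hQ'Q))
    have hQq : IsPGroup q Q := isPGroup_of_mem_maxInv hQmax
    have hw : Wide q Q := c.wide hG (Ne.symm hqp) hQq hQmax.1.2.2 hZQ
    have hQH : Q ≤ H := hw.le_of_noncyclic hG hQq hQ'Q hw'.not_isCyclic hH
      (hQ'K.trans (cG_le p H))
    exact hcon q Q hq (Ne.symm hqp) hQmax hZQ hQH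

end NACfg

end Cfsg.Agent.Lib.Lead.BG10
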