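import Mathlib
import Cfsg.Agent.Lib.Lead.BG10w

set_option autoImplicit false

/-! Bender–Glauberman, nonabelian `p`-subgroups are uniqueness subgroups, part x: assembly. -/

namespace Cfsg.Agent.Lib.Lead.BG10

open Cfsg Cfsg.Agent.Lib.Lead Cfsg.Agent.Lib.Helper7 Cfsg.Agent.Lib.Helper4
open Cfsg.Agent.Lib.Helper4.BG7 Cfsg.Agent.Lib.Helper4.BG76 Cfsg.Agent.Lib.Helper4.BG8
open Cfsg.Agent.Lib.Helper4.BG9 Cfsg.Agent.Lib.Lead.BG95 Cfsg.Agent.Lib.Helper4.ThreeStep
open Cfsg.Agent.Lib.Helper4.ZP Cfsg.Agent.Lib.Helper6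
open scoped commutatorElement

universe u

variable {G : Type u} [Group G] [Finite G]

theorem eq_of_coatom_le {H₁ H₂ : Subgroup G} (h₁ : IsCoatom H₁) (h₂ : IsCoatom H₂)
    (hle : H₁ ≤ H₂) : H₁ = H₂ := ((h₁.le_iff_eq h₂.1).mp hle).symm

namespace NACfg

variable {p : ℕ} [hp : Fact p.Prime] {P Z : Subgroup G} {x u : G}

theorem Z_ne_bot (c : NACfg p P Z x u) : Z ≠ ⊥ := by
  intro h0
  have := c.hZc
  rw [h0, Subgroup.card_bot] at this
  exact hp.out.one_lt.ne this

theorem normalizer_Z_ne_top (c : NACfg p P Z x u) (hG : IsMinSimpleOddOrder G) :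
    Subgroup.normalizer (Z : Set G) ≠ ⊤ :=
  normalizer_ne_top hG c.Z_ne_bot (isPGroup_ne_top hG (c.hPp.to_le c.hZP))

/-- every maximal subgroup containing `P` contains `N_G(P)` -/
theorem normalizer_le_of_coatom (c : NACfg p P Z x u) (hG : IsMinSimpleOddOrder G) {H : Subgroup G}
    (hH : IsCoatom H) (hPH : P ≤ H) : Subgroup.normalizer (P : Set G) ≤ H := by
  rcases c.coatom_cases hG hH hPH with h | ⟨q, Q, hq, hpq, hQmax, hZQ, hQH⟩
  · have e : H = Subgroup.normalizer (Z : Set G) := by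
      by_contra hne
      exact c.normalizer_Z_ne_top hG (hH.2 _ (lt_of_le_of_ne h hne))
    rw [e]
    exact c.hN P c.hPp c.hZP
  · haveI : Fact q.Prime := ⟨hq⟩
    exact (QCtx.mk c hG hpq hQmax hZQ hH hQH).normalizer_P_le

/-- the induction step -/
theorem step (c : NACfg p P Z x u) (hG : IsMinSimpleOddOrder G) {S : Subgroup G} (hPS : P ≤ S)
    (IH : InUniqueMaximal (S ⊓ Subgroup.normalizer (P : Set G))) : InUniqueMaximal P := by
  obtain ⟨M₁, ⟨hM₁, hP₁M₁⟩, huniq⟩ := IH
  have hPP₁ : P ≤ S ⊓ Subgroup.normalizer (P : Set G) := le_inf hPS Subgroup.le_normalizer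
  refine ⟨M₁, ⟨hM₁, hPP₁.trans hP₁M₁⟩, ?_⟩
  rintro H ⟨hH, hPH⟩
  exact huniq H ⟨hH, inf_le_right.trans (c.normalizer_le_of_coatom hG hH hPH)⟩

end NACfg

theorem uniq_of_elementary_sq (hG : IsMinSimpleOddOrder G) {p : ℕ} [hp : Fact p.Prime]
    {B : Subgroup G} (hBe : IsElementaryAbelian p B) (hBc : Nat.card B = p ^ 2) (hBtop : B ≠ ⊤)
    (hr3 : ¬ PRankLE p 2 ↥(Subgroup.centralizer (B : Set G))) : InUniqueMaximal B := by
  have hr1 : ¬ RankLE 1 ↥B := by
    apply not_rankLE_of_not_pRankLE hp.out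
    intro hr
    have h1 := hr ⊤ (by
        refine ⟨⟨?_⟩⟩
        rintro ⟨a, -⟩ ⟨b, -⟩
        apply Subtype.ext
        exact hBe.1.is_comm.comm a b) (by
        intro a _
        apply Subtype.ext
        rw [Subgroup.coe_pow]
        exact hBe.2 a.1 a.2)
    rw [Subgroup.card_top, hBc, pow_one] at h1
    have : p ^ 1 < p ^ 2 := Nat.pow_lt_pow_right hp.out.one_lt (by norm_num)
    rw [pow_one] at this
    omega
  exact uniq hG hBtop hr1 (Or.inr (not_rankLE_of_not_pRankLE hp.out hr3))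

theorem not_comm_of_le {P R : Subgroup G} (hPR : P ≤ R) (hP : ¬ IsMulCommutative ↥P) :
    ¬ IsMulCommutative ↥R := by
  intro hR
  apply hP
  refine ⟨⟨?_⟩⟩
  rintro ⟨a, ha⟩ ⟨b, hb⟩
  apply Subtype.ext
  have := hR.is_comm.comm ⟨a, hPR ha⟩ ⟨b, hPR hb⟩
  have h2 : a * b = b * a := congrArg Subtype.val this
  exact h2

/-- the induction scheme: uniqueness for the Sylow subgroup and a configuration for every smaller
nonabelian subgroup give uniqueness for all nonabelian subgroups -/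
theorem uniq_of_induction {p : ℕ} [hp : Fact p.Prime] (S : Sylow p G)
    (hbase : ¬ IsMulCommutative ↥(S : Subgroup G) → InUniqueMaximal (S : Subgroup G))
    (hstep : ∀ P : Subgroup G, P < (S : Subgroup G) → ¬ IsMulCommutative ↥P →
      InUniqueMaximal (((S : Subgroup G) ⊓ Subgroup.normalizer (P : Set G) : Subgroup G)) →
      InUniqueMaximal P) :
    ∀ P : Subgroup G, P ≤ (S : Subgroup G) → ¬ IsMulCommutative ↥P → InUniqueMaximal P := by
  have key : ∀ k : ℕ, ∀ P : Subgroup G, P ≤ (S : Subgroup G) → ¬ IsMulCommutative ↥P →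
      Nat.card (S : Subgroup G) - Nat.card P = k → InUniqueMaximal P := by
    intro k
    induction k using Nat.strong_induction_on with
    | _ k ih =>
      intro P hPS hPna hk
      by_cases hPeq : P = (S : Subgroup G)
      · rw [hPeq]
        exact hbase (hPeq ▸ hPna)
      · have hlt : P < (S : Subgroup G) := lt_of_le_of_ne hPS hPeq
        have hgrow := pgroup_normalizer_grows p (S : Subgroup G) P S.isPGroup' hlt
        apply hstep P hlt hPna
        have hcard1 := card_lt_card_of_lt hgrow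
        have hcard2 := card_lt_card_of_lt hlt
        exact ih _ (by omega) _ inf_le_left (not_comm_of_le hgrow.le hPna) rfl
  intro P hPS hPna
  exact key _ P hPS hPna rfl

end Cfsg.Agent.Lib.Lead.BG10
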