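import Mathlib
import Cfsg.Agent.Lib.Lead.BG10x

set_option autoImplicit false

/-! Bender–Glauberman, nonabelian `p`-subgroups are uniqueness subgroups, part y: the theorem. -/

namespace Cfsg.Agent.Lib.Lead.BG10

open Cfsg Cfsg.Agent.Lib.Lead Cfsg.Agent.Lib.Helper7 Cfsg.Agent.Lib.Helper4
open Cfsg.Agent.Lib.Helper4.BG7 Cfsg.Agent.Lib.Helper4.BG76 Cfsg.Agent.Lib.Helper4.BG8
open Cfsg.Agent.Lib.Helper4.BG9 Cfsg.Agent.Lib.Lead.BG95 Cfsg.Agent.Lib.Helper4.ThreeStep
open Cfsg.Agent.Lib.Helper4.ZP Cfsg.Agent.Lib.Helper6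
open scoped commutatorElement

universe u

variable {G : Type u} [Group G] [Finite G]

/-- Sylow subgroups of rank at least three -/
theorem uniq_rank_three (hG : IsMinSimpleOddOrder G) {p : ℕ} [hp : Fact p.Prime] (S : Sylow p G)
    (hr : ¬ PRankLE p 2 ↥(S : Subgroup G)) :
    ∀ P : Subgroup G, P ≤ (S : Subgroup G) → ¬ IsMulCommutative ↥P → InUniqueMaximal P := by
  apply uniq_of_induction S
  · intro _
    exact uniq_of_rank_three hG S.isPGroup' hr
  · intro P hlt hPna IH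
    have hPp : IsPGroup p P := S.isPGroup'.to_le hlt.le
    by_cases hA : ∃ B : Subgroup G, B ≤ P ∧ IsElementaryAbelian p B ∧ Nat.card B = p ^ 2 ∧
        ¬ PRankLE p 2 ↥(Subgroup.centralizer (B : Set G))
    · obtain ⟨B, hBP, hBe, hBc, hr3⟩ := hA
      have hPtop : P ≠ ⊤ := isPGroup_ne_top hG hPp
      have hBtop : B ≠ ⊤ := by
        intro h0
        apply hPtop
        rw [eq_top_iff, ← h0]
        exact hBP
      exact inUniqueMaximal_mono (uniq_of_elementary_sq hG hBe hBc hBtop hr3) hBP hPtop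
    · push Not at hA
      obtain ⟨Z, x, u, c⟩ := exists_cfg_of_narrow hG S hr hlt.le hPna hA
      exact c.step hG hlt.le IH

/-- the base case for Sylow subgroups of rank two -/
theorem uniq_sylow_rank_two (hG : IsMinSimpleOddOrder G) {p : ℕ} [hp : Fact p.Prime] (S : Sylow p G)
    {Z P₁ : Subgroup G} (hP₁S : P₁ ≤ (S : Subgroup G)) (hP₁c : Nat.card P₁ = p ^ 3)
    (hP₁na : ¬ IsMulCommutative ↥P₁) (hZdef : Z = P₁ ⊓ Subgroup.centralizer (P₁ : Set G))
    {x u : G} (c : NACfg p (S : Subgroup G) Z x u)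
    (hcfgb : ∀ b ∈ P₁, b ∉ Subgroup.centralizer (P₁ : Set G) →
      ∃ u : G, NACfg p (S : Subgroup G) Z b u) : InUniqueMaximal (S : Subgroup G) := by
  have hStop : (S : Subgroup G) ≠ ⊤ := isPGroup_ne_top hG S.isPGroup'
  -- the mixed case
  have claim : ∀ H₁ H₂ : Subgroup G, IsCoatom H₁ → IsCoatom H₂ → (S : Subgroup G) ≤ H₁ →
      H₁ ≤ Subgroup.normalizer (Z : Set G) →
      (∃ (q : ℕ) (Q : Subgroup G), q.Prime ∧ p ≠ q ∧ Q ∈ maxInvSubgroups ⊤ (S : Subgroup G) {q} ∧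
        ¬ Z ≤ Subgroup.centralizer (Q : Set G) ∧ Q ≤ H₂) → H₁ = H₂ := by
    rintro H₁ H₂ hH₁ hH₂ hSH₁ hH₁Z ⟨q, Q, hq, hpq, hQmax, hZQ, hQH₂⟩
    haveI : Fact q.Prime := ⟨hq⟩
    have d : QCtx p (S : Subgroup G) Z x u q Q H₂ := ⟨c, hG, hpq, hQmax, hZQ, hH₂, hQH₂⟩
    apply eq_of_coatom_le hH₁ hH₂
    set Y : Subgroup G := cG p H₁ with hYdef
    have hYH₂ : Y ≤ H₂ := by
      apply le_of_centralizers_le_of_card_cube (p := p) (B := P₁) hP₁c hP₁na
        ((hP₁S.trans hSH₁).trans (le_normalizer_cG p H₁)) (card_cG_coprime p H₁)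
      · rw [← hZdef]
        apply le_centralizer_of_normalize
        · exact (c.hZP.trans hSH₁).trans (le_normalizer_cG p H₁)
        · exact (cG_le p H₁).trans hH₁Z
        · apply Subgroup.inf_eq_bot_of_coprime
          rw [c.hZc]
          exact (card_cG_coprime p H₁).symm
      · intro b hb hbn
        obtain ⟨ub, cb⟩ := hcfgb b hb hbn
        have db : QCtx p (S : Subgroup G) Z b ub q Q H₂ := ⟨cb, hG, hpq, hQmax, hZQ, hH₂, hQH₂⟩
        exact inf_le_right.trans db.centralizer_le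
    intro h hh
    have hsyl : SylIn p H₁ (S : Subgroup G) := sylIn_of_sylow ⟨S, rfl⟩ hSH₁
    obtain ⟨k, hk, n, hn, rfl⟩ := exists_mul_of_plength_one (corollary_10_7a hG p H₁ hH₁.1) hsyl hh
    exact H₂.mul_mem (hYH₂ hk) (d.normalizer_P_le hn.2)
  obtain ⟨M, hM, hSM⟩ := exists_coatom_ge hStop
  refine ⟨M, ⟨hM, hSM⟩, ?_⟩
  rintro H ⟨hH, hSH⟩
  rcases c.coatom_cases hG hH hSH with h | h
  · rcases c.coatom_cases hG hM hSM with h' | h'
    · have e1 : H = Subgroup.normalizer (Z : Set G) := by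
        by_contra hne
        exact c.normalizer_Z_ne_top hG (hH.2 _ (lt_of_le_of_ne h hne))
      have e2 : M = Subgroup.normalizer (Z : Set G) := by
        by_contra hne
        exact c.normalizer_Z_ne_top hG (hM.2 _ (lt_of_le_of_ne h' hne))
      rw [e1, e2]
    · exact claim H M hH hM hSH h h'
  · rcases c.coatom_cases hG hM hSM with h' | h'
    · exact (claim M H hM hH hSM h' h).symm
    · obtain ⟨q, Q, hq, hpq, hQmax, hZQ, hQH⟩ := h
      obtain ⟨q', Q', hq', hpq', hQmax', hZQ', hQM⟩ := h'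
      haveI : Fact q.Prime := ⟨hq⟩
      haveI : Fact q'.Prime := ⟨hq'⟩
      exact (QCtx.mk c hG hpq' hQmax' hZQ' hM hQM).eq_of_ctx (QCtx.mk c hG hpq hQmax hZQ hH hQH)

/-- Sylow subgroups of rank at most two -/
theorem uniq_rank_two (hG : IsMinSimpleOddOrder G) {p : ℕ} [hp : Fact p.Prime] (S : Sylow p G)
    (hr : PRankLE p 2 ↥(S : Subgroup G)) :
    ∀ P : Subgroup G, P ≤ (S : Subgroup G) → ¬ IsMulCommutative ↥P → InUniqueMaximal P := by
  intro P hPS hPna
  have hSna : ¬ IsMulCommutative ↥(S : Subgroup G) := not_comm_of_le hPS hPna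
  obtain ⟨Z, P₁, hP₁S, hP₁c, hP₁na, hZdef, hcfg, hcfgb⟩ := exists_cfg_of_rank_two hG S hr hSna
  revert P
  apply uniq_of_induction S
  · intro _
    obtain ⟨x, u, c⟩ := hcfg (S : Subgroup G) le_rfl hSna
    exact uniq_sylow_rank_two hG S hP₁S hP₁c hP₁na hZdef c hcfgb
  · intro P hlt hPna IH
    obtain ⟨x, u, c⟩ := hcfg P hlt.le hPna
    exact c.step hG hlt.le IH

/-- a nonabelian `p`-subgroup of a minimal simple group of odd order lies in a unique maximal
subgroup -/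
theorem nonabelian_uniq (hG : IsMinSimpleOddOrder G) (p : ℕ) [hp : Fact p.Prime] (P : Subgroup G)
    (hP : IsPGroup p P) (hPna : ¬ IsMulCommutative ↥P) : InUniqueMaximal P := by
  obtain ⟨S, hPS⟩ := hP.exists_le_sylow
  by_cases hr : PRankLE p 2 ↥(S : Subgroup G)
  · exact uniq_rank_two hG S hr P hPS hPna
  · exact uniq_rank_three hG S hr P hPS hPna

end Cfsg.Agent.Lib.Lead.BG10
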