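import Cfsg.Agent.Lib.Lead.HallCount1
import Cfsg.Agent.Lib.Lead.HallThm4
import Cfsg.Agent.Lib.Lead.CoprimeTools

set_option autoImplicit false

/-!
# Counting Hall subgroups of solvable groups: the two cases of the induction
-/

namespace Cfsg.Agent.Lib.Lead.HallCount

open scoped Pointwise

open Cfsg.Agent.Lib.Lead

universe u

variable {G : Type u} [Group G]

/-- prime powers -/
def PP (x : ℕ) : Prop := ∃ q e : ℕ, q.Prime ∧ x = q ^ e

/-- divisors of orders of chief factors -/
def CF (G : Type u) [Group G] (x : ℕ) : Prop :=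
  ∃ K L : Subgroup G, K.Normal ∧ L.Normal ∧ K < L ∧
    (∀ M : Subgroup G, M.Normal → K ≤ M → M ≤ L → M = K ∨ M = L) ∧ x ∣ K.relIndex L

/-- congruent to one modulo a prime divisor of `m` -/
def M1 (m x : ℕ) : Prop := ∃ q : ℕ, q.Prime ∧ q ∣ m ∧ x ≡ 1 [MOD q]

/-- the factorization claim -/
def GoodL (G : Type u) [Group G] (m : ℕ) : Prop :=
  ∃ l : List ℕ, hc G m = l.prod ∧ ∀ x ∈ l, PP x ∧ CF G x ∧ M1 m x

theorem cf_of_quotient (K : Subgroup G) [K.Normal] {x : ℕ} (h : CF (G ⧸ K) x) : CF G x := by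
  obtain ⟨A, B, hA, hB, hAB, hmin, hx⟩ := h
  have hsurj := QuotientGroup.mk'_surjective K
  refine ⟨A.comap (QuotientGroup.mk' K), B.comap (QuotientGroup.mk' K), hA.comap _, hB.comap _,
    ?_, ?_, ?_⟩
  · exact (Subgroup.comap_lt_comap_of_surjective hsurj).mpr hAB
  · intro M hM hAM hMB
    have hKM : K ≤ M := by
      refine le_trans ?_ hAM
      intro k hk
      rw [Subgroup.mem_comap]
      have : (QuotientGroup.mk' K) k = 1 := (QuotientGroup.eq_one_iff k).mpr hk
      rw [this]
      exact one_mem _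
    have hMeq : (M.map (QuotientGroup.mk' K)).comap (QuotientGroup.mk' K) = M := by
      rw [comap_map_mk, sup_eq_left.mpr hKM]
    have hMn : (M.map (QuotientGroup.mk' K)).Normal := hM.map _ hsurj
    have h1 : A ≤ M.map (QuotientGroup.mk' K) := by
      have := Subgroup.map_mono (f := QuotientGroup.mk' K) hAM
      rwa [Subgroup.map_comap_eq_self_of_surjective hsurj] at this
    have h2 : M.map (QuotientGroup.mk' K) ≤ B := by
      have := Subgroup.map_mono (f := QuotientGroup.mk' K) hMB
      rwa [Subgroup.map_comap_eq_self_of_surjective hsurj] at this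
    rcases hmin _ hMn h1 h2 with h | h
    · left; rw [← hMeq, h]
    · right; rw [← hMeq, h]
  · rw [Subgroup.relIndex_comap, Subgroup.map_comap_eq_self_of_surjective hsurj]
    exact hx

theorem index_normalizer_map_mk (K : Subgroup G) [K.Normal] (X : Subgroup G) :
    (Subgroup.normalizer ((X.map (QuotientGroup.mk' K) : Subgroup (G ⧸ K)) : Set (G ⧸ K))).index =
      (Subgroup.normalizer ((X ⊔ K : Subgroup G) : Set G)).index := by
  have hsurj := QuotientGroup.mk'_surjective K
  rw [← Subgroup.index_comap_of_surjective _ hsurj,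
    Subgroup.comap_normalizer_eq_of_surjective _ hsurj, comap_map_mk]

theorem exists_hall [Finite G] [Group.IsSolvable G] (m n : ℕ) (hcard : Nat.card G = m * n)
    (hcop : m.Coprime n) : ∃ H : Subgroup G, Nat.card H = m := by
  obtain ⟨-, hdom⟩ := hallProp_of_solvable G m n hcard hcop
  obtain ⟨H, hH, -⟩ := hdom ⊥ (by rw [Subgroup.card_bot]; exact Nat.coprime_one_left n)
  exact ⟨H, hH⟩

theorem case1 [Finite G] [Group.IsSolvable G] (K : Subgroup G) [K.Normal] (m' n : ℕ)
    (hcard : Nat.card G = (Nat.card K * m') * n) (hcop : (Nat.card K * m').Coprime n)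
    (ih : GoodL (G ⧸ K) m') : GoodL G (Nat.card K * m') := by
  have hKpos : 0 < Nat.card K := Nat.card_pos
  have hGpos : 0 < Nat.card G := Nat.card_pos
  have hm'pos : 0 < m' := by
    rcases Nat.eq_zero_or_pos m' with h | h
    · rw [h, mul_zero, zero_mul] at hcard
      omega
    · exact h
  have hnpos : 0 < n := by
    rcases Nat.eq_zero_or_pos n with h | h
    · rw [h, mul_zero] at hcard
      omega
    · exact h
  obtain ⟨hconj, -⟩ := hallProp_of_solvable G _ n hcard hcop
  obtain ⟨H, hH⟩ := exists_hall _ n hcard hcop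
  -- `K ≤ H`
  have hKH : K ≤ H := by
    have h1 := card_sup_mul_card_inf H K Subgroup.le_normalizer_of_normal
    have h2 : Nat.card (H ⊔ K : Subgroup G) ∣ Nat.card G := Subgroup.card_subgroup_dvd_card _
    have h3 : Nat.card (H ⊓ K : Subgroup G) ∣ Nat.card K := Subgroup.card_dvd_of_le inf_le_right
    obtain ⟨t, ht⟩ := h3
    have hc0 : 0 < Nat.card (H ⊓ K : Subgroup G) := Nat.card_pos
    have h4 : Nat.card (H ⊔ K : Subgroup G) = Nat.card K * m' * t := by
      rw [hH, ht] at h1
      have : Nat.card (H ⊔ K : Subgroup G) * Nat.card (H ⊓ K : Subgroup G) =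
          (Nat.card (H ⊓ K : Subgroup G) * t * m' * t) * Nat.card (H ⊓ K : Subgroup G) := by
        rw [h1]; ring
      have h5 := Nat.eq_of_mul_eq_mul_right hc0 this
      rw [h5, ht]
    have h6 : t ∣ n := by
      rw [h4, hcard] at h2
      exact (Nat.mul_dvd_mul_iff_left (Nat.mul_pos hKpos hm'pos)).mp h2
    have h7 : t ∣ Nat.card K * m' := Dvd.dvd.mul_right (Dvd.intro_left _ ht.symm) m'
    have h8 : t = 1 := Nat.eq_one_of_dvd_coprimes hcop h7 h6
    rw [h8, mul_one] at ht
    have h9 : H ⊓ K = K := Subgroup.eq_of_le_of_card_ge inf_le_right ht.le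
    exact h9 ▸ inf_le_left
  -- the image
  have hHbar : Nat.card (H.map (QuotientGroup.mk' K)) = m' := by
    have := card_map_mk_of_le K H hKH
    rw [hH, mul_comm] at this
    exact Nat.eq_of_mul_eq_mul_left hKpos this
  have hqcard : Nat.card (G ⧸ K) = m' * n := by
    have := card_quotient_mul K
    rw [hcard, mul_comm] at this
    have h2 : Nat.card K * Nat.card (G ⧸ K) = Nat.card K * (m' * n) := by
      rw [this]; ring
    exact Nat.eq_of_mul_eq_mul_left hKpos h2
  have hcop' : m'.Coprime n := Nat.Coprime.coprime_dvd_left (Dvd.intro_left _ rfl) hcop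
  obtain ⟨hconj', -⟩ := hallProp_of_solvable (G ⧸ K) m' n hqcard hcop'
  have hcount : hc G (Nat.card K * m') = hc (G ⧸ K) m' := by
    rw [hc_eq_index_normalizer _ hconj H hH, hc_eq_index_normalizer _ hconj' _ hHbar,
      index_normalizer_map_mk, sup_eq_left.mpr hKH]
  obtain ⟨l, hl, hl2⟩ := ih
  refine ⟨l, hcount.trans hl, ?_⟩
  intro x hx
  obtain ⟨h1, h2, q, hq, hqm, hx1⟩ := hl2 x hx
  exact ⟨h1, cf_of_quotient K h2, q, hq, Dvd.dvd.mul_left hqm _, hx1⟩

/-- the Frattini argument for Hall subgroups -/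
theorem normalizer_sup_eq [Finite G] [Group.IsSolvable G] (K : Subgroup G) [K.Normal]
    (H : Subgroup G) (hcop : (Nat.card H).Coprime (Nat.card K)) :
    Subgroup.normalizer ((H ⊔ K : Subgroup G) : Set G) =
      Subgroup.normalizer (H : Set G) ⊔ K := by
  have hHK : H ⊓ K = ⊥ := Subgroup.inf_eq_bot_of_coprime hcop
  apply le_antisymm
  · intro g hg
    rw [mem_normalizer_iff_conj_smul] at hg
    have hH'X : MulAut.conj g • H ≤ H ⊔ K := by
      rw [← hg]
      exact Subgroup.pointwise_smul_le_pointwise_smul_iff.mpr le_sup_left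
    have hXcard : Nat.card (H ⊔ K : Subgroup G) = Nat.card H * Nat.card K :=
      card_sup_of_disjoint H K Subgroup.le_normalizer_of_normal hHK
    obtain ⟨hconjX, -⟩ := hallProp_of_solvable (H ⊔ K : Subgroup G) _ _ hXcard hcop
    have hc1 : Nat.card (H.subgroupOf (H ⊔ K)) = Nat.card H := card_subgroupOf_of_le le_sup_left
    have hc2 : Nat.card ((MulAut.conj g • H).subgroupOf (H ⊔ K)) = Nat.card H := by
      rw [card_subgroupOf_of_le hH'X, card_conj_smul]
    obtain ⟨x, hxX, hx⟩ := conj_of_conj_subgroupOf le_sup_left hH'X (hconjX _ _ hc1 hc2)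
    have hxg : x⁻¹ * g ∈ Subgroup.normalizer (H : Set G) := by
      rw [mem_normalizer_iff_conj_smul, map_mul, mul_smul, ← hx, ← mul_smul, ← map_mul,
        inv_mul_cancel, map_one, one_smul]
    have : g = x * (x⁻¹ * g) := by group
    rw [this]
    refine mul_mem ?_ (Subgroup.mem_sup_left hxg)
    have hXle : H ⊔ K ≤ Subgroup.normalizer (H : Set G) ⊔ K :=
      sup_le (le_sup_of_le_left Subgroup.le_normalizer) le_sup_right
    exact hXle hxX
  · apply sup_le
    · intro g hg
      rw [mem_normalizer_iff_conj_smul] at hg ⊢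
      rw [Subgroup.smul_sup, hg, Subgroup.Normal.conj_smul_eq_self]
    · exact le_trans le_sup_right Subgroup.le_normalizer

theorem pp_of_dvd_prime_pow {p a x : ℕ} (hp : p.Prime) (h : x ∣ p ^ a) : PP x := by
  obtain ⟨j, _, rfl⟩ := (Nat.dvd_prime_pow hp).mp h
  exact ⟨p, j, hp, rfl⟩

end Cfsg.Agent.Lib.Lead.HallCount
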