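import Mathlib
import Cfsg.Prelude.Def_Local
import Cfsg.Agent.Lib.Lead.GT5
import Cfsg.Agent.Lib.Lead.MinNonPNilp
import Cfsg.Agent.Lib.Lead.CoprimeFrattini
import Cfsg.Agent.Lib.Lead.CoprimeAction2
import Cfsg.Agent.Lib.Lead.Residual
import Cfsg.Agent.Lib.Helper4.FStarQuot2
import Cfsg.Agent.Lib.Helper3.PComp1
import Cfsg.Agent.Lib.Helper6.PPrimeCore
import Cfsg.Agent.Lib.Lead.PComplement

set_option autoImplicit false

/-! Sections without an element of order equal to the exponent: the minimal configuration. -/

namespace Cfsg.Agent.Lib.Lead.ExpSec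

open Cfsg Cfsg.Agent.Lib.Lead Cfsg.Agent.Lib.Lead.GT
open scoped commutatorElement

universe u

variable {p : ℕ} [hpf : Fact p.Prime]

theorem comm_mem_of_pnilp_quotient {K : Type u} [Group K] [Finite K] (M : Subgroup K) [M.Normal]
    (h : PNilp p (K ⧸ M)) (P : Subgroup K) [hPn : P.Normal] (hP : IsPGroup p P) (b : K)
    (hb : (orderOf b).Coprime p) : ∀ x ∈ P, b * x * b⁻¹ * x⁻¹ ∈ M := by
  intro x hx
  set π := QuotientGroup.mk' M with hπ
  have hD : IsPGroup p (P.map π) := hP.map π
  have hDn : (P.map π).Normal := hPn.map π (QuotientGroup.mk'_surjective M)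
  have hg : π b ∈ Subgroup.normalizer ((P.map π : Subgroup (K ⧸ M)) : Set (K ⧸ M)) := by
    rw [Subgroup.normalizer_eq_top_iff.mpr hDn]; exact Subgroup.mem_top _
  have ho : (orderOf (π b)).Coprime p := Nat.Coprime.coprime_dvd_left (orderOf_map_dvd π b) hb
  have hc := h.centralizes (P.map π) hD (π b) hg ho
  rw [Subgroup.mem_centralizer_iff] at hc
  have h1 := hc (π x) (Subgroup.mem_map_of_mem π hx)
  apply (QuotientGroup.eq_one_iff _).mp
  show π (b * x * b⁻¹ * x⁻¹) = 1
  rw [map_mul, map_mul, map_mul, map_inv, map_inv, ← h1]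
  group

theorem centralizes_of_pnilp_subgroup {K : Type u} [Group K] [Finite K] (H : Subgroup K)
    (h : PNilp p H) (P : Subgroup K) [hPn : P.Normal] (hP : IsPGroup p P) (hPH : P ≤ H) (b : K)
    (hbH : b ∈ H) (hb : (orderOf b).Coprime p) : ∀ x ∈ P, b * x = x * b := by
  intro x hx
  have hD : IsPGroup p (P.subgroupOf H) := hP.comap_subtype
  have hDn : (P.subgroupOf H).Normal := hPn.subgroupOf H
  have hg : (⟨b, hbH⟩ : ↥H) ∈ Subgroup.normalizer ((P.subgroupOf H : Subgroup ↥H) : Set ↥H) := by
    rw [Subgroup.normalizer_eq_top_iff.mpr hDn]; exact Subgroup.mem_top _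
  have ho : (orderOf (⟨b, hbH⟩ : ↥H)).Coprime p := by rw [Subgroup.orderOf_mk]; exact hb
  have hc := h.centralizes (P.subgroupOf H) hD ⟨b, hbH⟩ hg ho
  rw [Subgroup.mem_centralizer_iff] at hc
  have h1 := hc ⟨x, hPH hx⟩ (show (⟨x, hPH hx⟩ : ↥H) ∈ P.subgroupOf H from
    Subgroup.mem_subgroupOf.mpr hx)
  have h2 := congrArg Subtype.val h1
  simp only [Subgroup.coe_mul] at h2
  exact h2.symm

theorem le_normalizer_of_conj_mem {K : Type*} [Group K] (A D : Subgroup K)
    (h : ∀ g ∈ A, ∀ y ∈ D, g * y * g⁻¹ ∈ D) : A ≤ Subgroup.normalizer (D : Set K) := by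
  intro g hg
  rw [Subgroup.mem_normalizer_iff]
  intro y
  constructor
  · exact h g hg y
  · intro hy
    have := h g⁻¹ (Subgroup.inv_mem _ hg) _ hy
    have e : g⁻¹ * (g * y * g⁻¹) * g⁻¹⁻¹ = y := by group
    rwa [e] at this

/-- in the minimal configuration, a `p'`-element of prime order centralizing a nontrivial element
of the normal Sylow `p`-subgroup centralizes all of it -/
theorem centralizes_sylow {K : Type u} [Group K] [Finite K]
    (h2 : ∀ H : Subgroup K, H ≠ ⊤ → PNilp p H)
    (h3 : ∀ (M : Subgroup K) [M.Normal], M ≠ ⊥ → PNilp p (K ⧸ M))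
    (P : Sylow p K) (hPn : (P : Subgroup K).Normal) (a b : K) (ha : a ∈ (P : Subgroup K))
    (ha1 : a ≠ 1) (hab : a * b = b * a) (hb : (orderOf b).Coprime p) :
    ∀ x ∈ (P : Subgroup K), b * x = x * b := by
  classical
  haveI := hPn
  set B := Subgroup.zpowers b with hB
  have hP : IsPGroup p (P : Subgroup K) := P.isPGroup'
  by_cases hH : (P : Subgroup K) ⊔ B = ⊤
  · -- all of B has order coprime to p
    have hBo : ∀ c ∈ B, (orderOf c).Coprime p := by
      intro c hc
      obtain ⟨n, rfl⟩ := Subgroup.mem_zpowers_iff.mp hc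
      exact Nat.Coprime.coprime_dvd_left (orderOf_dvd_of_pow_eq_one (by
        rw [← zpow_natCast, ← zpow_mul, mul_comm, zpow_mul, zpow_natCast, pow_orderOf_eq_one,
          one_zpow])) hb
    have hBcard : (Nat.card B).Coprime p := by rw [hB, Nat.card_zpowers]; exact hb
    have hBP : B ≤ Subgroup.normalizer ((P : Subgroup K) : Set K) := by
      rw [Subgroup.normalizer_eq_top_iff.mpr hPn]; exact le_top
    have hcopP : (Nat.card B).Coprime (Nat.card (P : Subgroup K)) := by
      obtain ⟨n, hn⟩ := IsPGroup.iff_card.mp hP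
      rw [hn]; exact Nat.Coprime.pow_right n hBcard
    set Φ := (frattini ↥(P : Subgroup K)).map (P : Subgroup K).subtype with hΦ
    haveI hΦn : Φ.Normal := Cfsg.Agent.Lib.Helper4.FStarQuot.frattini_map_subtype_normal _
    have hcentB : B ≤ Subgroup.centralizer ((P : Subgroup K) : Set K) := by
      by_cases hΦb : Φ = ⊥
      · -- P is abelian
        have hnil : Group.IsNilpotent ↥(P : Subgroup K) := hP.isNilpotent
        have hcomm := Cfsg.Agent.Lib.Helper4.FStarQuot.commutator_le_frattini_map_subtype
          (P : Subgroup K) hnil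
        rw [← hΦ, hΦb, le_bot_iff, Subgroup.commutator_eq_bot_iff_le_centralizer] at hcomm
        have hPab : ∀ x ∈ (P : Subgroup K), ∀ y ∈ (P : Subgroup K), x * y = y * x := by
          intro x hx y hy
          have := hcomm hx
          rw [Subgroup.mem_centralizer_iff] at this
          exact (this y hy).symm
        set D := (P : Subgroup K) ⊓ Subgroup.centralizer (B : Set K) with hD
        have haD : a ∈ D := by
          refine ⟨ha, Subgroup.mem_centralizer_iff.mpr ?_⟩
          intro c hc
          obtain ⟨n, rfl⟩ := Subgroup.mem_zpowers_iff.mp hc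
          exact ((Commute.zpow_left (show Commute b a from hab.symm) n)).eq
        have hDne : D ≠ ⊥ := by
          intro h
          rw [h, Subgroup.mem_bot] at haD
          exact ha1 haD
        have hN1 : (P : Subgroup K) ≤ Subgroup.normalizer (D : Set K) := by
          apply le_normalizer_of_conj_mem
          intro g hg y hy
          have : g * y * g⁻¹ = y := by
            rw [hPab g hg y hy.1]; group
          rw [this]; exact hy
        have hN2 : B ≤ Subgroup.normalizer (D : Set K) := by
          apply le_normalizer_of_conj_mem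
          intro g hg y hy
          have hc : y ∈ Subgroup.centralizer (B : Set K) := hy.2
          rw [Subgroup.mem_centralizer_iff] at hc
          have : g * y * g⁻¹ = y := by
            rw [hc g hg]; group
          rw [this]; exact hy
        haveI hDn : D.Normal := by
          rw [← Subgroup.normalizer_eq_top_iff, eq_top_iff, ← hH]
          exact sup_le hN1 hN2
        have hq := h3 D hDne
        have hPB : ⁅(P : Subgroup K), B⁆ ≤ D := by
          rw [Subgroup.commutator_le]
          intro x hx c hc
          have h5 := comm_mem_of_pnilp_quotient D hq (P : Subgroup K) hP c (hBo c hc) x hx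
          have h6 := Subgroup.inv_mem _ h5
          have e : (c * x * c⁻¹ * x⁻¹)⁻¹ = ⁅x, c⁆ := by
            rw [commutatorElement_def]; group
          rwa [e] at h6
        have hDB : ⁅D, B⁆ = ⊥ := by
          rw [Subgroup.commutator_eq_bot_iff_le_centralizer]
          exact inf_le_right
        have h7 : ⁅⁅(P : Subgroup K), B⁆, B⁆ = ⊥ := by
          rw [eq_bot_iff, ← hDB]
          exact Subgroup.commutator_mono hPB le_rfl
        have h8 := Cfsg.Agent.Lib.Lead.coprime_commutator_stable B (P : Subgroup K) hBP hcopP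
          (Or.inl inferInstance)
        rw [h7] at h8
        have h9 : ⁅(P : Subgroup K), B⁆ = ⊥ := h8.symm
        rw [Subgroup.commutator_comm, Subgroup.commutator_eq_bot_iff_le_centralizer] at h9
        exact h9
      · have hq := h3 Φ hΦb
        apply Cfsg.Agent.Lib.Lead.coprime_trivial_on_frattini_quotient B (P : Subgroup K) hBP
        · have hfp : IsPGroup p (frattini ↥(P : Subgroup K)) := hP.to_subgroup _
          obtain ⟨n, hn⟩ := IsPGroup.iff_card.mp hfp
          rw [hn]; exact Nat.Coprime.pow_right n hBcard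
        · intro c hc x hx
          exact comm_mem_of_pnilp_quotient Φ hq (P : Subgroup K) hP c (hBo c hc) x hx
    intro x hx
    have := hcentB (Subgroup.mem_zpowers b)
    rw [Subgroup.mem_centralizer_iff] at this
    exact (this x hx).symm
  · exact centralizes_of_pnilp_subgroup _ (h2 _ hH) (P : Subgroup K) hP le_sup_left b
      (Subgroup.mem_sup_right (Subgroup.mem_zpowers b)) hb

end Cfsg.Agent.Lib.Lead.ExpSec
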