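import Mathlib
import Cfsg.Prelude.Def_PLocal
import Cfsg.Prelude.Def_Transfer
import Cfsg.Agent.S3734
import Cfsg.Agent.Lib.Lead.ThompsonPQ
import Cfsg.Agent.Lib.Lead.CoprimeTools
import Cfsg.Agent.Lib.Helper6.PPrimeCore

set_option autoImplicit false

namespace Cfsg.Agent.Lib.Lead.KS93

open scoped commutatorElement
open Cfsg.Agent.Lib.Lead Cfsg.Agent.Lib.Helper6

section
variable {G : Type*} [Group G]

/-- the data shared by the statements of the failure-of-factorization chain -/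
structure Setup (p : ℕ) (V H Q : Subgroup G) : Prop where
  hV : Cfsg.IsElementaryAbelian p V
  hHV : H ≤ Subgroup.normalizer (V : Set G)
  hf : H ⊓ Subgroup.centralizer (V : Set G) = ⊥
  hQH : Q ≤ H
  hQn : H ≤ Subgroup.normalizer (Q : Set G)
  hQc : (Nat.card Q).Coprime p
  hCQ : H ⊓ Subgroup.centralizer (Q : Set G) ≤ Q

theorem bestOffender_elementary {p : ℕ} {V H Q : Subgroup G} (S : Setup p V H Q)
    {A : Subgroup G} (hAH : A ≤ H) (hA : Cfsg.IsBestOffenderOn p V A) :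
    (∀ a ∈ A, ∀ b ∈ A, a * b = b * a) ∧ ∀ a ∈ A, a ^ p = 1 := by
  obtain ⟨-, h2, h3⟩ := hA
  constructor
  · intro a ha b hb
    have h4 : ⁅a, b⁆ ∈ H ⊓ Subgroup.centralizer (V : Set G) :=
      ⟨H.mul_mem (H.mul_mem (H.mul_mem (hAH ha) (hAH hb)) (H.inv_mem (hAH ha)))
        (H.inv_mem (hAH hb)), h2 (Subgroup.commutator_mem_commutator ha hb)⟩
    rw [S.hf, Subgroup.mem_bot] at h4
    exact commutatorElement_eq_one_iff_mul_comm.mp h4
  · intro a ha
    have h4 : a ^ p ∈ H ⊓ Subgroup.centralizer (V : Set G) :=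
      ⟨H.pow_mem (hAH ha) p, h3 a ha⟩
    rw [S.hf, Subgroup.mem_bot] at h4
    exact h4

theorem isPGroup_of_bestOffender {p : ℕ} [Fact p.Prime] {V H Q : Subgroup G} (S : Setup p V H Q)
    {A : Subgroup G} (hAH : A ≤ H) (hA : Cfsg.IsBestOffenderOn p V A) : IsPGroup p A := by
  intro ⟨a, ha⟩
  refine ⟨1, ?_⟩
  apply Subtype.ext
  simpa using (bestOffender_elementary S hAH hA).2 a ha

theorem isPGroup_V {p : ℕ} [Fact p.Prime] {V H Q : Subgroup G} (S : Setup p V H Q) :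
    IsPGroup p V := by
  intro ⟨v, hv⟩
  refine ⟨1, ?_⟩
  apply Subtype.ext
  simpa using S.hV.2 v hv

end

end Cfsg.Agent.Lib.Lead.KS93
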