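import Mathlib
import Cfsg.Agent.Lib.Lead.KS93a
import Cfsg.Agent.Lib.Lead.SCN
import Cfsg.Agent.Lib.Lead.ExpSec1

set_option autoImplicit false

namespace Cfsg.Agent.Lib.Lead.KS93

open scoped commutatorElement
open Cfsg.Agent.Lib.Lead Cfsg.Agent.Lib.Helper6 Cfsg.Agent.Lib.Lead.ExpSec

section
variable {G : Type*} [Group G] [Finite G] {p : ℕ} [hp : Fact p.Prime] {V H Q : Subgroup G}

theorem commutator_Q_ne_bot (S : Setup p V H Q) {A : Subgroup G} (hAH : A ≤ H)
    (hAp : IsPGroup p A) (hA1 : A ≠ ⊥) : ⁅Q, A⁆ ≠ ⊥ := by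
  intro h
  rw [Subgroup.commutator_comm, Subgroup.commutator_eq_bot_iff_le_centralizer] at h
  have h1 : A ≤ Q := fun a ha => S.hCQ ⟨hAH ha, h ha⟩
  have h2 : A ⊓ Q = ⊥ := isPGroup_inf_coprime_eq_bot S.hQc hAp
  apply hA1; rw [← h2]; exact (inf_eq_left.mpr h1).symm

/-- an abelian subgroup normalises its subgroups -/
theorem le_normalizer_of_abelian {A B : Subgroup G} (hab : ∀ a ∈ A, ∀ b ∈ A, a * b = b * a)
    (hBA : B ≤ A) : A ≤ Subgroup.normalizer (B : Set G) := by
  apply le_normalizer_of_conj_mem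
  intro g hg y hy
  have : g * y * g⁻¹ = y := by rw [hab g hg y (hBA hy)]; group
  rw [this]; exact hy

theorem exists_hyperplane (S : Setup p V H Q) {A : Subgroup G} (hAH : A ≤ H)
    (hA : Cfsg.IsBestOffenderOn p V A) (hA1 : A ≠ ⊥) :
    ∃ B : Subgroup G, B ≤ A ∧ Nat.card A = Nat.card B * p ∧
      ⁅Q ⊓ Subgroup.centralizer (B : Set G), A⁆ ≠ ⊥ := by
  classical
  obtain ⟨hab, hexp⟩ := bestOffender_elementary S hAH hA
  have hAp : IsPGroup p A := isPGroup_of_bestOffender S hAH hA
  have hAc : IsMulCommutative A := ⟨⟨fun a b => Subtype.ext (hab a a.2 b b.2)⟩⟩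
  have hAQ : A ≤ Subgroup.normalizer (Q : Set G) := hAH.trans S.hQn
  have hcop : (Nat.card A).Coprime (Nat.card Q) := by
    obtain ⟨k, hk⟩ := IsPGroup.iff_card.mp hAp
    rw [hk]; exact Nat.Coprime.pow_left k S.hQc.symm
  have hgen := (Cfsg.Agent.S3734.result A Q hAc hAQ hcop).2
  have hne := commutator_Q_ne_bot S hAH hAp hA1
  have hex : ∃ B ∈ {B : Subgroup G | B ≤ A ∧ ∃ a ∈ A, B ⊔ Subgroup.zpowers a = A},
      ⁅Q ⊓ Subgroup.centralizer (B : Set G), A⁆ ≠ ⊥ := by
    by_contra hcon
    push_neg at hcon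
    apply hne
    rw [← hgen]
    simp only [iSup_eq_bot]
    exact hcon
  obtain ⟨B, ⟨hBA, a, haA, hBa⟩, hBne⟩ := hex
  refine ⟨B, hBA, ?_, hBne⟩
  have hBneA : B ≠ A := by
    rintro rfl
    apply hBne
    rw [Subgroup.commutator_eq_bot_iff_le_centralizer]
    exact inf_le_right
  have haB : a ∉ B := by
    intro h
    apply hBneA
    rw [← hBa]
    exact (sup_eq_left.mpr (Subgroup.zpowers_le.mpr h)).symm
  have ha1 : a ≠ 1 := fun h => haB (h ▸ B.one_mem)
  have hord : orderOf a = p := orderOf_eq_prime (hexp a haA) ha1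
  have hzcard : Nat.card (Subgroup.zpowers a) = p := by rw [Nat.card_zpowers, hord]
  have hzA : Subgroup.zpowers a ≤ A := Subgroup.zpowers_le.mpr haA
  have hzB : Subgroup.zpowers a ≤ Subgroup.normalizer (B : Set G) :=
    hzA.trans (le_normalizer_of_abelian hab hBA)
  have hinf : Subgroup.zpowers a ⊓ B = ⊥ := by
    have h1 : Nat.card (Subgroup.zpowers a ⊓ B : Subgroup G) ∣ p := by
      rw [← hzcard]; exact Subgroup.card_dvd_of_le inf_le_left
    rcases (Nat.dvd_prime hp.out).mp h1 with h | h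
    · exact Subgroup.card_eq_one.mp h
    · exfalso
      apply haB
      have h2 : Subgroup.zpowers a ⊓ B = Subgroup.zpowers a :=
        Subgroup.eq_of_le_of_card_ge inf_le_left (by rw [h, hzcard])
      have h3 : Subgroup.zpowers a ≤ B := by rw [← h2]; exact inf_le_right
      exact h3 (Subgroup.mem_zpowers a)
  have h1 := card_sup_of_disjoint (Subgroup.zpowers a) B hzB hinf
  rw [sup_comm, hBa, hzcard, mul_comm] at h1
  exact h1

theorem card_mul_card_fix (S : Setup p V H Q) :
    ∀ (n : ℕ) (A : Subgroup G), Nat.card A = n → A ≤ H → Cfsg.IsBestOffenderOn p V A → A ≠ ⊥ →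
      Nat.card A * Nat.card ↥(V ⊓ Subgroup.centralizer (A : Set G)) = Nat.card V := by
  intro n
  induction n using Nat.strong_induction_on with
  | _ n ih =>
    intro A hn hAH hA hA1
    classical
    obtain ⟨hab, hexp⟩ := bestOffender_elementary S hAH hA
    have hAp : IsPGroup p A := isPGroup_of_bestOffender S hAH hA
    obtain ⟨B, hBA, hcard, hne⟩ := exists_hyperplane S hAH hA hA1
    set Q₁ := Q ⊓ Subgroup.centralizer (B : Set G) with hQ₁
    set Q₀ := ⁅Q₁, A⁆ with hQ₀
    have hAB : A ≤ Subgroup.normalizer (B : Set G) := le_normalizer_of_abelian hab hBA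
    have hAQ₁ : A ≤ Subgroup.normalizer (Q₁ : Set G) := by
      apply le_normalizer_of_conj_mem
      intro g hg y hy
      refine Subgroup.mem_inf.mpr ⟨?_, ?_⟩
      · exact (Subgroup.mem_normalizer_iff.mp (S.hQn (hAH hg)) y).mp hy.1
      · exact (Subgroup.mem_normalizer_iff.mp
          (normalizer_le_normalizer_centralizer B (hAB hg)) y).mp hy.2
    have hQ₀Q₁ : Q₀ ≤ Q₁ := commutator_le_left_of_le_normalizer Q₁ A hAQ₁
    have hQ₀H : Q₀ ≤ H := hQ₀Q₁.trans (inf_le_left.trans S.hQH)
    have hQ₀c : (Nat.card Q₀).Coprime p :=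
      Nat.Coprime.coprime_dvd_left (Subgroup.card_dvd_of_le (hQ₀Q₁.trans inf_le_left)) S.hQc
    have hBQ₀ : B ≤ Subgroup.centralizer (Q₀ : Set G) :=
      Subgroup.le_centralizer_iff.mp (hQ₀Q₁.trans inf_le_right)
    have hBp : IsPGroup p B := hAp.to_le hBA
    have hVp : IsPGroup p V := isPGroup_V S
    have hBH : B ≤ H := hBA.trans hAH
    -- the `P × Q` lemma
    have hPQ : ¬ V ⊓ Subgroup.centralizer (B : Set G) ≤ Subgroup.centralizer (Q₀ : Set G) := by
      intro hle
      have h1 := thompson_PQ p B Q₀ V hBp hQ₀c hVp hBQ₀ (hBH.trans S.hHV) (hQ₀H.trans S.hHV) hle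
      have h2 : Q₀ ≤ H ⊓ Subgroup.centralizer (V : Set G) := le_inf hQ₀H h1
      rw [S.hf, le_bot_iff] at h2
      exact hne h2
    have hle : V ⊓ Subgroup.centralizer (A : Set G) ≤ V ⊓ Subgroup.centralizer (B : Set G) :=
      inf_le_inf_left _ (Subgroup.centralizer_le hBA)
    have hlt : V ⊓ Subgroup.centralizer (A : Set G) ≠ V ⊓ Subgroup.centralizer (B : Set G) := by
      intro heq
      apply hPQ
      set V₀ := V ⊓ Subgroup.centralizer (B : Set G) with hV₀
      have hV₀A : V₀ ≤ Subgroup.centralizer (A : Set G) := by rw [← heq]; exact inf_le_right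
      have h1 : ⁅⁅A, V₀⁆, Q₁⁆ = ⊥ := by
        have : ⁅A, V₀⁆ = ⊥ := by
          rw [Subgroup.commutator_eq_bot_iff_le_centralizer]
          exact Subgroup.le_centralizer_iff.mp hV₀A
        rw [this, Subgroup.commutator_bot_left]
      have hQ₁V₀ : Q₁ ≤ Subgroup.normalizer (V₀ : Set G) := by
        apply le_normalizer_of_conj_mem
        intro g hg y hy
        refine Subgroup.mem_inf.mpr ⟨?_, ?_⟩
        · exact (Subgroup.mem_normalizer_iff.mp (S.hHV (S.hQH hg.1)) y).mp hy.1
        · have hgN : g ∈ Subgroup.normalizer (B : Set G) := by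
            apply Subgroup.centralizer_le_normalizer
            exact hg.2
          exact (Subgroup.mem_normalizer_iff.mp
            (normalizer_le_normalizer_centralizer B hgN) y).mp hy.2
      have h2 : ⁅⁅V₀, Q₁⁆, A⁆ = ⊥ := by
        rw [eq_bot_iff]
        have h3 : ⁅V₀, Q₁⁆ ≤ V₀ := commutator_le_left_of_le_normalizer V₀ Q₁ hQ₁V₀
        have h4 : ⁅V₀, A⁆ = ⊥ := by
          rw [Subgroup.commutator_eq_bot_iff_le_centralizer]; exact hV₀A
        rw [← h4]
        exact Subgroup.commutator_mono h3 le_rfl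
      have h3 : ⁅⁅Q₁, A⁆, V₀⁆ = ⊥ := Subgroup.commutator_commutator_eq_bot_of_rotate h1 h2
      rw [Subgroup.commutator_eq_bot_iff_le_centralizer] at h3
      exact Subgroup.le_centralizer_iff.mp h3
    -- cardinalities
    obtain ⟨a, ha⟩ := IsPGroup.iff_card.mp (hVp.to_le (inf_le_left :
      V ⊓ Subgroup.centralizer (A : Set G) ≤ V))
    obtain ⟨b, hb⟩ := IsPGroup.iff_card.mp (hVp.to_le (inf_le_left :
      V ⊓ Subgroup.centralizer (B : Set G) ≤ V))
    have hp1 : 1 < p := hp.out.one_lt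
    have hab' : a < b := by
      have h1 : p ^ a ∣ p ^ b := by rw [← ha, ← hb]; exact Subgroup.card_dvd_of_le hle
      have h2 : a ≤ b := (Nat.pow_dvd_pow_iff_le_right hp1).mp h1
      refine lt_of_le_of_ne h2 ?_
      intro h3
      apply hlt
      exact Subgroup.eq_of_le_of_card_ge hle (by rw [ha, hb, h3])
    have hbo := hA.1 B hBA
    rw [hcard, ha, hb] at hbo
    -- hbo : |B| * p^b ≤ |B| * p * p^a
    have hBpos : 0 < Nat.card B := Nat.card_pos
    have h5 : p ^ b ≤ p * p ^ a := by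
      have : Nat.card B * p ^ b ≤ Nat.card B * (p * p ^ a) := by
        calc Nat.card B * p ^ b ≤ Nat.card B * p * p ^ a := hbo
          _ = Nat.card B * (p * p ^ a) := by ring
      exact Nat.le_of_mul_le_mul_left this hBpos
    have h6 : b = a + 1 := by
      have h7 : p ^ b ≤ p ^ (a + 1) := by rw [pow_succ, mul_comm]; exact h5
      have := (Nat.pow_le_pow_iff_right hp1).mp h7
      omega
    by_cases hB1 : B = ⊥
    · have hVB : V ⊓ Subgroup.centralizer (B : Set G) = V := by
        rw [hB1]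
        apply inf_eq_left.mpr
        intro v _
        rw [Subgroup.mem_centralizer_iff]
        intro h hh
        have : h = 1 := by simpa using hh
        rw [this]; simp
      rw [hVB] at hb
      rw [hcard, hB1, Subgroup.card_bot, one_mul, ha, hb, h6, pow_succ, mul_comm]
    · have hBbo : Cfsg.IsBestOffenderOn p V B := by
        refine ⟨?_, (Subgroup.commutator_mono hBA hBA).trans hA.2.1,
          fun x hx => hA.2.2 x (hBA hx)⟩
        intro B' hB'
        refine (hA.1 B' (hB'.trans hBA)).trans ?_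
        rw [hcard, ha, hb, h6, pow_succ]
        apply le_of_eq; ring
      have hlt' : Nat.card B < n := by
        rw [← hn, hcard]
        have : 1 < p := hp1
        nlinarith
      have := ih (Nat.card B) hlt' B rfl hBH hBbo hB1
      rw [hcard, ha, ← this, hb, h6, pow_succ]
      ring

end

end Cfsg.Agent.Lib.Lead.KS93
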