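import Mathlib
import Cfsg.Agent.Lib.Lead.KS93b

set_option autoImplicit false

namespace Cfsg.Agent.Lib.Lead.KS93

open scoped commutatorElement
open Cfsg.Agent.Lib.Lead Cfsg.Agent.Lib.Helper6 Cfsg.Agent.Lib.Lead.ExpSec

section
variable {G : Type*} [Group G] [Finite G] {p : ℕ} [hp : Fact p.Prime]

/-- the hypotheses of the chain give the `Setup` with `Q = O_{p'}(H)` -/
theorem setup_of_hyps (V H : Subgroup G) (hV : Cfsg.IsElementaryAbelian p V)
    (hHV : H ≤ Subgroup.normalizer (V : Set G))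
    (hf : H ⊓ Subgroup.centralizer (V : Set G) = ⊥)
    (hS1 : Subgroup.centralizer (Cfsg.pPrimeCore p ↥H : Set ↥H) ≤ Cfsg.pPrimeCore p ↥H) :
    Setup p V H ((Cfsg.pPrimeCore p ↥H).map H.subtype) := by
  refine ⟨hV, hHV, hf, Subgroup.map_subtype_le _, ?_, ?_, ?_⟩
  · apply le_normalizer_of_conj_mem
    rintro g hg _ ⟨y, hy, rfl⟩
    refine ⟨⟨g, hg⟩ * y * ⟨g, hg⟩⁻¹, ?_, rfl⟩
    exact (inferInstance : (Cfsg.pPrimeCore p ↥H).Normal).conj_mem y hy ⟨g, hg⟩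
  · have h1 : Nat.card ((Cfsg.pPrimeCore p ↥H).map H.subtype) = Nat.card (Cfsg.pPrimeCore p ↥H) :=
      (Nat.card_congr ((Cfsg.pPrimeCore p ↥H).equivMapOfInjective H.subtype
        H.subtype_injective).toEquiv).symm
    rw [h1]
    exact pPrimeCore_coprime p
  · rintro g ⟨hgH, hgC⟩
    refine ⟨⟨g, hgH⟩, ?_, rfl⟩
    apply hS1
    rw [Subgroup.mem_centralizer_iff]
    intro y hy
    apply Subtype.ext
    exact Subgroup.mem_centralizer_iff.mp hgC (y : G) ⟨y, hy, rfl⟩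

end

end Cfsg.Agent.Lib.Lead.KS93
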