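import Mathlib
import Cfsg.Agent.Lib.Lead.KS93c

set_option autoImplicit false

namespace Cfsg.Agent.Lib.Lead.KS93

open scoped commutatorElement
open Cfsg.Agent.Lib.Lead Cfsg.Agent.Lib.Helper6 Cfsg.Agent.Lib.Lead.ExpSec

section CommHom
variable {G : Type*} [Group G]

theorem comm_mem_of_mem_normalizer {V : Subgroup G} {a : G}
    (ha : a ∈ Subgroup.normalizer (V : Set G)) {v : G} (hv : v ∈ V) : ⁅v, a⁆ ∈ V := by
  rw [commutatorElement_def]
  have h1 : a * v⁻¹ * a⁻¹ ∈ V := (Subgroup.mem_normalizer_iff.mp ha _).mp (V.inv_mem hv)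
  have : v * a * v⁻¹ * a⁻¹ = v * (a * v⁻¹ * a⁻¹) := by group
  rw [this]; exact V.mul_mem hv h1

/-- `v ↦ ⁅v, a⁆` on an abelian subgroup normalised by `a` -/
def commHomV (V : Subgroup G) (hVab : ∀ x ∈ V, ∀ y ∈ V, x * y = y * x) (a : G)
    (ha : a ∈ Subgroup.normalizer (V : Set G)) : V →* V where
  toFun v := ⟨⁅(v : G), a⁆, comm_mem_of_mem_normalizer ha v.2⟩
  map_one' := by
    apply Subtype.ext
    simp
  map_mul' v w := by
    apply Subtype.ext
    simp only [Subgroup.coe_mul]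
    have hw : ⁅(w : G), a⁆ ∈ V := comm_mem_of_mem_normalizer ha w.2
    have hv : ⁅(v : G), a⁆ ∈ V := comm_mem_of_mem_normalizer ha v.2
    have h1 : ⁅(v : G) * w, a⁆ = v * ⁅(w : G), a⁆ * (v : G)⁻¹ * ⁅(v : G), a⁆ := by
      simp only [commutatorElement_def]; group
    rw [h1, hVab v v.2 _ hw, mul_assoc (⁅(w : G), a⁆), mul_inv_cancel, mul_one,
      hVab _ hw _ hv]

theorem commHomV_apply (V : Subgroup G) (hVab : ∀ x ∈ V, ∀ y ∈ V, x * y = y * x) (a : G)
    (ha : a ∈ Subgroup.normalizer (V : Set G)) (v : V) :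
    ((commHomV V hVab a ha v : V) : G) = ⁅(v : G), a⁆ := rfl

theorem mem_commHomV_ker (V : Subgroup G) (hVab : ∀ x ∈ V, ∀ y ∈ V, x * y = y * x) (a : G)
    (ha : a ∈ Subgroup.normalizer (V : Set G)) (v : V) :
    v ∈ (commHomV V hVab a ha).ker ↔ (v : G) * a = a * v := by
  rw [MonoidHom.mem_ker, ← commutatorElement_eq_one_iff_mul_comm]
  constructor
  · intro h; rw [← commHomV_apply V hVab a ha v, h]; rfl
  · intro h; apply Subtype.ext; rw [commHomV_apply, h]; rfl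

/-- centralising `zpowers a` is commuting with `a` -/
theorem mem_centralizer_zpowers_iff {a v : G} :
    v ∈ Subgroup.centralizer ((Subgroup.zpowers a : Subgroup G) : Set G) ↔ v * a = a * v := by
  constructor
  · intro h
    exact (Subgroup.mem_centralizer_iff.mp h a (Subgroup.mem_zpowers a)).symm
  · intro h
    rw [Subgroup.mem_centralizer_iff]
    intro g hg
    obtain ⟨k, rfl⟩ := Subgroup.mem_zpowers_iff.mp hg
    have : Commute v a := h
    exact (this.zpow_right k).eq.symm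

theorem commutator_zpowers_eq (V : Subgroup G) (hVab : ∀ x ∈ V, ∀ y ∈ V, x * y = y * x) (a : G)
    (ha : a ∈ Subgroup.normalizer (V : Set G)) :
    ⁅V, Subgroup.zpowers a⁆ = (commHomV V hVab a ha).range.map V.subtype := by
  set I := (commHomV V hVab a ha).range.map V.subtype with hI
  have hmemI : ∀ v ∈ V, ⁅v, a⁆ ∈ I := fun v hv => ⟨_, ⟨⟨v, hv⟩, rfl⟩, rfl⟩
  have haI : ∀ x ∈ I, a * x * a⁻¹ ∈ I := by
    rintro _ ⟨_, ⟨v, rfl⟩, rfl⟩
    have h1 : a * (v : G) * a⁻¹ ∈ V := (Subgroup.mem_normalizer_iff.mp ha _).mp v.2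
    have h2 : a * ⁅(v : G), a⁆ * a⁻¹ = ⁅a * (v : G) * a⁻¹, a⁆ := by
      simp only [commutatorElement_def]; group
    show a * ⁅(v : G), a⁆ * a⁻¹ ∈ I
    rw [h2]; exact hmemI _ h1
  have haI' : ∀ x ∈ I, a⁻¹ * x * a⁻¹⁻¹ ∈ I := by
    rintro _ ⟨_, ⟨v, rfl⟩, rfl⟩
    have h1 : a⁻¹ * (v : G) * a⁻¹⁻¹ ∈ V :=
      (Subgroup.mem_normalizer_iff.mp (Subgroup.inv_mem _ ha) _).mp v.2
    have h2 : a⁻¹ * ⁅(v : G), a⁆ * a⁻¹⁻¹ = ⁅a⁻¹ * (v : G) * a⁻¹⁻¹, a⁆ := by
      simp only [commutatorElement_def]; group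
    show a⁻¹ * ⁅(v : G), a⁆ * a⁻¹⁻¹ ∈ I
    rw [h2]; exact hmemI _ h1
  -- the subgroup of elements acting trivially modulo `I`
  let T : Subgroup G :=
    { carrier := {g | (∀ x ∈ I, g * x * g⁻¹ ∈ I) ∧ (∀ x ∈ I, g⁻¹ * x * g⁻¹⁻¹ ∈ I) ∧
        ∀ v ∈ V, ⁅v, g⁆ ∈ I}
      one_mem' := by
        refine ⟨fun x hx => by simpa using hx, fun x hx => by simpa using hx, fun v _ => ?_⟩
        rw [commutatorElement_one_right]; exact I.one_mem
      mul_mem' := by
        rintro g h ⟨hg1, hg2, hg3⟩ ⟨hh1, hh2, hh3⟩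
        refine ⟨fun x hx => ?_, fun x hx => ?_, fun v hv => ?_⟩
        · have : g * h * x * (g * h)⁻¹ = g * (h * x * h⁻¹) * g⁻¹ := by group
          rw [this]; exact hg1 _ (hh1 _ hx)
        · have : (g * h)⁻¹ * x * (g * h)⁻¹⁻¹ = h⁻¹ * (g⁻¹ * x * g⁻¹⁻¹) * h⁻¹⁻¹ := by group
          rw [this]; exact hh2 _ (hg2 _ hx)
        · have : ⁅v, g * h⁆ = ⁅v, g⁆ * (g * ⁅v, h⁆ * g⁻¹) := by
            simp only [commutatorElement_def]; group
          rw [this]; exact I.mul_mem (hg3 v hv) (hg1 _ (hh3 v hv))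
      inv_mem' := by
        rintro g ⟨hg1, hg2, hg3⟩
        refine ⟨hg2, fun x hx => by simpa using hg1 x hx, fun v hv => ?_⟩
        have : ⁅v, g⁻¹⁆ = g⁻¹ * (⁅v, g⁆)⁻¹ * g⁻¹⁻¹ := by
          simp only [commutatorElement_def]; group
        rw [this]; exact hg2 _ (I.inv_mem (hg3 v hv)) }
  have haT : a ∈ T := ⟨haI, haI', hmemI⟩
  apply le_antisymm
  · rw [Subgroup.commutator_le]
    intro v hv g hg
    have hgT : g ∈ T := (Subgroup.zpowers_le.mpr haT) hg
    exact hgT.2.2 v hv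
  · rintro _ ⟨_, ⟨v, rfl⟩, rfl⟩
    exact Subgroup.commutator_mem_commutator v.2 (Subgroup.mem_zpowers a)

variable [Finite G]

theorem card_commutator_zpowers_mul (V : Subgroup G) (hVab : ∀ x ∈ V, ∀ y ∈ V, x * y = y * x)
    (a : G) (ha : a ∈ Subgroup.normalizer (V : Set G)) :
    Nat.card ↥(⁅V, Subgroup.zpowers a⁆) *
      Nat.card ↥(V ⊓ Subgroup.centralizer ((Subgroup.zpowers a : Subgroup G) : Set G)) =
      Nat.card V := by
  rw [commutator_zpowers_eq V hVab a ha, card_map_subtype]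
  have h1 := Subgroup.card_mul_index (commHomV V hVab a ha).ker
  rw [Subgroup.index_ker] at h1
  have h2 : Nat.card (commHomV V hVab a ha).ker =
      Nat.card ↥(V ⊓ Subgroup.centralizer ((Subgroup.zpowers a : Subgroup G) : Set G)) := by
    have h3 : (commHomV V hVab a ha).ker.map V.subtype =
        V ⊓ Subgroup.centralizer ((Subgroup.zpowers a : Subgroup G) : Set G) := by
      ext x
      constructor
      · rintro ⟨v, hv, rfl⟩
        refine Subgroup.mem_inf.mpr ⟨v.2, ?_⟩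
        rw [mem_centralizer_zpowers_iff]
        exact (mem_commHomV_ker V hVab a ha v).mp hv
      · rintro ⟨hxV, hxC⟩
        refine ⟨⟨x, hxV⟩, ?_, rfl⟩
        rw [SetLike.mem_coe, mem_commHomV_ker]
        exact mem_centralizer_zpowers_iff.mp hxC
    rw [← h3, card_map_subtype]
  rw [← h2, mul_comm]; exact h1

end CommHom

end Cfsg.Agent.Lib.Lead.KS93
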