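import Mathlib
import Cfsg.Agent.Lib.Lead.KS93d

set_option autoImplicit false

namespace Cfsg.Agent.Lib.Lead.KS93

open scoped commutatorElement
open Cfsg.Agent.Lib.Lead Cfsg.Agent.Lib.Helper6 Cfsg.Agent.Lib.Lead.ExpSec

section
variable {G : Type*} [Group G] [Finite G] {p : ℕ} [hp : Fact p.Prime] {V H Q : Subgroup G}

theorem commutator_V_ne_bot_iff (S : Setup p V H Q) {B : Subgroup G} (hBH : B ≤ H) :
    ⁅V, B⁆ ≠ ⊥ ↔ B ≠ ⊥ := by
  constructor
  · rintro h rfl
    exact h (Subgroup.commutator_bot_right V)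
  · intro h hc
    apply h
    rw [Subgroup.commutator_eq_bot_iff_le_centralizer] at hc
    have h1 : B ≤ H ⊓ Subgroup.centralizer (V : Set G) :=
      le_inf hBH (Subgroup.le_centralizer_iff.mp hc)
    rw [S.hf, le_bot_iff] at h1
    exact h1

theorem fix_ne_of_hyperplane (S : Setup p V H Q) {A B : Subgroup G} (hAH : A ≤ H)
    (hA : Cfsg.IsBestOffenderOn p V A) (hBA : B ≤ A)
    (hne : ⁅Q ⊓ Subgroup.centralizer (B : Set G), A⁆ ≠ ⊥) :
    V ⊓ Subgroup.centralizer (A : Set G) ≠ V ⊓ Subgroup.centralizer (B : Set G) := by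
  classical
  obtain ⟨hab, hexp⟩ := bestOffender_elementary S hAH hA
  have hAp : IsPGroup p A := isPGroup_of_bestOffender S hAH hA
  set Q₁ := Q ⊓ Subgroup.centralizer (B : Set G) with hQ₁
  set Q₀ := ⁅Q₁, A⁆ with hQ₀
  have hAB : A ≤ Subgroup.normalizer (B : Set G) := le_normalizer_of_abelian hab hBA
  have hAQ₁ : A ≤ Subgroup.normalizer (Q₁ : Set G) := by
    apply le_normalizer_of_conj_mem
    intro g hg y hy
    refine Subgroup.mem_inf.mpr ⟨?_, ?_⟩
    · exact (Subgroup.mem_normalizer_iff.mp (S.hQn (hAH hg)) y).mp hy.1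
    · exact (Subgroup.mem_normalizer_iff.mp
        (normalizer_le_normalizer_centralizer B (hAB hg)) y).mp hy.2
  have hQ₀Q₁ : Q₀ ≤ Q₁ := commutator_le_left_of_le_normalizer Q₁ A hAQ₁
  have hQ₀H : Q₀ ≤ H := hQ₀Q₁.trans (inf_le_left.trans S.hQH)
  have hQ₀c : (Nat.card Q₀).Coprime p :=
    Nat.Coprime.coprime_dvd_left (Subgroup.card_dvd_of_le (hQ₀Q₁.trans inf_le_left)) S.hQc
  have hBQ₀ : B ≤ Subgroup.centralizer (Q₀ : Set G) :=
    Subgroup.le_centralizer_iff.mp (hQ₀Q₁.trans inf_le_right)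
  have hBp : IsPGroup p B := hAp.to_le hBA
  have hVp : IsPGroup p V := isPGroup_V S
  have hBH : B ≤ H := hBA.trans hAH
  have hPQ : ¬ V ⊓ Subgroup.centralizer (B : Set G) ≤ Subgroup.centralizer (Q₀ : Set G) := by
    intro hle
    have h1 := thompson_PQ p B Q₀ V hBp hQ₀c hVp hBQ₀ (hBH.trans S.hHV) (hQ₀H.trans S.hHV) hle
    have h2 : Q₀ ≤ H ⊓ Subgroup.centralizer (V : Set G) := le_inf hQ₀H h1
    rw [S.hf, le_bot_iff] at h2
    exact hne h2
  intro heq
  apply hPQ
  set V₀ := V ⊓ Subgroup.centralizer (B : Set G) with hV₀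
  have hV₀A : V₀ ≤ Subgroup.centralizer (A : Set G) := by rw [← heq]; exact inf_le_right
  have h1 : ⁅⁅A, V₀⁆, Q₁⁆ = ⊥ := by
    have : ⁅A, V₀⁆ = ⊥ := by
      rw [Subgroup.commutator_eq_bot_iff_le_centralizer]
      exact Subgroup.le_centralizer_iff.mp hV₀A
    rw [this, Subgroup.commutator_bot_left]
  have hQ₁V₀ : Q₁ ≤ Subgroup.normalizer (V₀ : Set G) := by
    apply le_normalizer_of_conj_mem
    intro g hg y hy
    refine Subgroup.mem_inf.mpr ⟨?_, ?_⟩
    · exact (Subgroup.mem_normalizer_iff.mp (S.hHV (S.hQH hg.1)) y).mp hy.1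
    · have hgN : g ∈ Subgroup.normalizer (B : Set G) := by
        apply Subgroup.centralizer_le_normalizer
        exact hg.2
      exact (Subgroup.mem_normalizer_iff.mp
        (normalizer_le_normalizer_centralizer B hgN) y).mp hy.2
  have h2 : ⁅⁅V₀, Q₁⁆, A⁆ = ⊥ := by
    rw [eq_bot_iff]
    have h3 : ⁅V₀, Q₁⁆ ≤ V₀ := commutator_le_left_of_le_normalizer V₀ Q₁ hQ₁V₀
    have h4 : ⁅V₀, A⁆ = ⊥ := by
      rw [Subgroup.commutator_eq_bot_iff_le_centralizer]; exact hV₀A
    rw [← h4]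
    exact Subgroup.commutator_mono h3 le_rfl
  have h3 : ⁅⁅Q₁, A⁆, V₀⁆ = ⊥ := Subgroup.commutator_commutator_eq_bot_of_rotate h1 h2
  rw [Subgroup.commutator_eq_bot_iff_le_centralizer] at h3
  exact Subgroup.le_centralizer_iff.mp h3

/-- the hyperplane found in `exists_hyperplane` is again a best offender, of the same value -/
theorem hyperplane_offender (S : Setup p V H Q) {A B : Subgroup G} (hAH : A ≤ H)
    (hA : Cfsg.IsBestOffenderOn p V A) (hBA : B ≤ A) (hcard : Nat.card A = Nat.card B * p)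
    (hne : ⁅Q ⊓ Subgroup.centralizer (B : Set G), A⁆ ≠ ⊥) :
    Nat.card B * Nat.card ↥(V ⊓ Subgroup.centralizer (B : Set G)) =
      Nat.card A * Nat.card ↥(V ⊓ Subgroup.centralizer (A : Set G)) ∧
    Cfsg.IsBestOffenderOn p V B := by
  have hVp : IsPGroup p V := isPGroup_V S
  have hle : V ⊓ Subgroup.centralizer (A : Set G) ≤ V ⊓ Subgroup.centralizer (B : Set G) :=
    inf_le_inf_left _ (Subgroup.centralizer_le hBA)
  have hlt := fix_ne_of_hyperplane S hAH hA hBA hne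
  obtain ⟨a, ha⟩ := IsPGroup.iff_card.mp (hVp.to_le (inf_le_left :
    V ⊓ Subgroup.centralizer (A : Set G) ≤ V))
  obtain ⟨b, hb⟩ := IsPGroup.iff_card.mp (hVp.to_le (inf_le_left :
    V ⊓ Subgroup.centralizer (B : Set G) ≤ V))
  have hp1 : 1 < p := hp.out.one_lt
  have hab' : a < b := by
    have h1 : p ^ a ∣ p ^ b := by rw [← ha, ← hb]; exact Subgroup.card_dvd_of_le hle
    have h2 : a ≤ b := (Nat.pow_dvd_pow_iff_le_right hp1).mp h1
    refine lt_of_le_of_ne h2 ?_
    intro h3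
    apply hlt
    exact Subgroup.eq_of_le_of_card_ge hle (by rw [ha, hb, h3])
  have hbo := hA.1 B hBA
  rw [hcard, ha, hb] at hbo
  have hBpos : 0 < Nat.card B := Nat.card_pos
  have h5 : p ^ b ≤ p * p ^ a := by
    have : Nat.card B * p ^ b ≤ Nat.card B * (p * p ^ a) := by
      calc Nat.card B * p ^ b ≤ Nat.card B * p * p ^ a := hbo
        _ = Nat.card B * (p * p ^ a) := by ring
    exact Nat.le_of_mul_le_mul_left this hBpos
  have h6 : b = a + 1 := by
    have h7 : p ^ b ≤ p ^ (a + 1) := by rw [pow_succ, mul_comm]; exact h5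
    have := (Nat.pow_le_pow_iff_right hp1).mp h7
    omega
  have heq : Nat.card B * Nat.card ↥(V ⊓ Subgroup.centralizer (B : Set G)) =
      Nat.card A * Nat.card ↥(V ⊓ Subgroup.centralizer (A : Set G)) := by
    rw [hcard, ha, hb, h6, pow_succ]; ring
  refine ⟨heq, ?_, (Subgroup.commutator_mono hBA hBA).trans hA.2.1,
    fun x hx => hA.2.2 x (hBA hx)⟩
  intro B' hB'
  rw [heq]
  exact hA.1 B' (hB'.trans hBA)

/-- a minimal nontrivial best offender has order `p` -/
theorem card_of_minimal (S : Setup p V H Q) {A : Subgroup G} (hAH : A ≤ H)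
    (hA : Cfsg.IsBestOffenderOn p V A) (hA1 : A ≠ ⊥)
    (hmin : ∀ B : Subgroup G, B ≤ A → Cfsg.IsBestOffenderOn p V B → B ≠ ⊥ → B = A) :
    Nat.card A = p := by
  obtain ⟨B, hBA, hcard, hne⟩ := exists_hyperplane S hAH hA hA1
  obtain ⟨-, hBbo⟩ := hyperplane_offender S hAH hA hBA hcard hne
  by_cases hB1 : B = ⊥
  · rw [hcard, hB1, Subgroup.card_bot, one_mul]
  · exfalso
    have := hmin B hBA hBbo hB1
    rw [this] at hcard
    have h1 : 0 < Nat.card A := Nat.card_pos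
    have h2 : 1 < p := hp.out.one_lt
    nlinarith

/-- a subgroup of prime order is generated by each of its nontrivial elements -/
theorem eq_zpowers_of_card_prime {A : Subgroup G} (hA : Nat.card A = p) {a : G} (haA : a ∈ A)
    (ha1 : a ≠ 1) : A = Subgroup.zpowers a := by
  symm
  apply Subgroup.eq_of_le_of_card_ge (Subgroup.zpowers_le.mpr haA)
  rw [Nat.card_zpowers, hA]
  have h1 : orderOf a ∣ p := by
    have := orderOf_dvd_natCard (⟨a, haA⟩ : A)
    rw [Subgroup.orderOf_mk, hA] at this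
    exact this
  rcases (Nat.dvd_prime hp.out).mp h1 with h | h
  · exact absurd (orderOf_eq_one_iff.mp h) ha1
  · exact h.ge

/-- the numerical data of a minimal nontrivial best offender -/
theorem minimal_data (S : Setup p V H Q) {A : Subgroup G} (hAH : A ≤ H)
    (hA : Cfsg.IsBestOffenderOn p V A) (hA1 : A ≠ ⊥)
    (hmin : ∀ B : Subgroup G, B ≤ A → Cfsg.IsBestOffenderOn p V B → B ≠ ⊥ → B = A) :
    Nat.card A = p ∧ Nat.card ↥(⁅V, A⁆) = p ∧
      p * Nat.card ↥(V ⊓ Subgroup.centralizer (A : Set G)) = Nat.card V := by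
  have hcA := card_of_minimal S hAH hA hA1 hmin
  have h1 := card_mul_card_fix S _ A rfl hAH hA hA1
  rw [hcA] at h1
  refine ⟨hcA, ?_, h1⟩
  obtain ⟨a, haA, ha1⟩ : ∃ a ∈ A, a ≠ 1 := by
    by_contra hcon
    push_neg at hcon
    exact hA1 ((Subgroup.eq_bot_iff_forall A).mpr hcon)
  have hAz := eq_zpowers_of_card_prime hcA haA ha1
  have hVab : ∀ x ∈ V, ∀ y ∈ V, x * y = y * x := fun x hx y hy => by
    have := S.hV.1.is_comm.comm (⟨x, hx⟩ : V) ⟨y, hy⟩
    exact congrArg Subtype.val this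
  have h2 := card_commutator_zpowers_mul V hVab a (S.hHV (hAH haA))
  rw [← hAz] at h2
  have hpos : 0 < Nat.card ↥(V ⊓ Subgroup.centralizer (A : Set G)) := Nat.card_pos
  have h3 : Nat.card ↥(⁅V, A⁆) * Nat.card ↥(V ⊓ Subgroup.centralizer (A : Set G)) =
      p * Nat.card ↥(V ⊓ Subgroup.centralizer (A : Set G)) := by rw [h2, h1]
  exact Nat.eq_of_mul_eq_mul_right hpos h3

end

end Cfsg.Agent.Lib.Lead.KS93
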