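import Mathlib
import Cfsg.Agent.Lib.Lead.KS93e

set_option autoImplicit false

namespace Cfsg.Agent.Lib.Lead.KS93

open scoped commutatorElement
open Cfsg.Agent.Lib.Lead Cfsg.Agent.Lib.Helper6 Cfsg.Agent.Lib.Lead.ExpSec

section Indep
variable {G : Type*} [Group G]

/-- elements of `K ⊔ A` are products when `A` normalises `K` -/
theorem exists_mul_of_mem_sup' {K A : Subgroup G} (hAK : A ≤ Subgroup.normalizer (K : Set G))
    {x : G} (hx : x ∈ K ⊔ A) : ∃ κ ∈ K, ∃ a ∈ A, x = κ * a := by
  let T : Subgroup G :=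
    { carrier := {x | ∃ κ ∈ K, ∃ a ∈ A, x = κ * a}
      one_mem' := ⟨1, K.one_mem, 1, A.one_mem, by simp⟩
      mul_mem' := by
        rintro _ _ ⟨κ, hκ, a, ha, rfl⟩ ⟨κ', hκ', a', ha', rfl⟩
        refine ⟨κ * (a * κ' * a⁻¹), K.mul_mem hκ ?_, a * a', A.mul_mem ha ha', by group⟩
        exact (Subgroup.mem_normalizer_iff.mp (hAK ha) κ').mp hκ'
      inv_mem' := by
        rintro _ ⟨κ, hκ, a, ha, rfl⟩
        refine ⟨a⁻¹ * κ⁻¹ * a⁻¹⁻¹, ?_, a⁻¹, A.inv_mem ha, by group⟩
        exact (Subgroup.mem_normalizer_iff.mp (hAK (A.inv_mem ha)) κ⁻¹).mp (K.inv_mem hκ) }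
  have hle : K ⊔ A ≤ T := by
    apply sup_le
    · intro κ hκ
      exact ⟨κ, hκ, 1, A.one_mem, by simp⟩
    · intro a ha
      exact ⟨1, K.one_mem, a, ha, by simp⟩
  exact hle hx

/-- adjoining a subgroup disjoint from the span keeps a family inside an abelian subgroup
independent -/
theorem iSupIndep_snoc [Finite G] {A : Subgroup G} (hab : ∀ a ∈ A, ∀ b ∈ A, a * b = b * a) {k : ℕ}
    (B : Fin k → Subgroup G) (hBA : ∀ i, B i ≤ A) (hind : iSupIndep B) (L : Subgroup G)
    (hLA : L ≤ A) (hL : L ⊓ ⨆ i, B i = ⊥) :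
    iSupIndep (Fin.snoc B L : Fin (k + 1) → Subgroup G) ∧
      (⨆ i, (Fin.snoc B L : Fin (k + 1) → Subgroup G) i) = (⨆ i, B i) ⊔ L := by
  constructor
  · rw [iSupIndep_def]
    intro i
    induction i using Fin.lastCases with
    | last =>
      rw [Fin.snoc_last]
      have hle : (⨆ j, ⨆ (_ : j ≠ Fin.last k), (Fin.snoc B L : Fin (k + 1) → Subgroup G) j) ≤
          ⨆ i, B i := by
        apply iSup_le
        intro j
        apply iSup_le
        intro hj
        induction j using Fin.lastCases with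
        | last => exact absurd rfl hj
        | cast j' => rw [Fin.snoc_castSucc]; exact le_iSup B j'
      rw [disjoint_iff, eq_bot_iff, ← hL]
      exact inf_le_inf_left _ hle
    | cast i' =>
      rw [Fin.snoc_castSucc]
      set C := ⨆ j, ⨆ (_ : j ≠ i'), B j with hC
      have hCA : C ≤ A := iSup_le fun j => iSup_le fun _ => hBA j
      have hle : (⨆ j, ⨆ (_ : j ≠ Fin.castSucc i'),
          (Fin.snoc B L : Fin (k + 1) → Subgroup G) j) ≤ C ⊔ L := by
        apply iSup_le
        intro j
        apply iSup_le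
        intro hj
        induction j using Fin.lastCases with
        | last => rw [Fin.snoc_last]; exact le_sup_right
        | cast j' =>
          rw [Fin.snoc_castSucc]
          have hj' : j' ≠ i' := fun h => hj (by rw [h])
          exact le_trans (le_iSup₂ (f := fun j (_ : j ≠ i') => B j) j' hj') le_sup_left
      have hdis : Disjoint (B i') C := (iSupIndep_def.mp hind) i'
      rw [disjoint_iff, eq_bot_iff]
      intro x hx
      obtain ⟨hxB, hxCL⟩ := Subgroup.mem_inf.mp hx
      have hLC : L ≤ Subgroup.normalizer (C : Set G) :=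
        hLA.trans (le_normalizer_of_abelian hab hCA)
      obtain ⟨c, hc, l, hl, rfl⟩ := exists_mul_of_mem_sup' hLC (hle hxCL)
      have hCsup : C ≤ ⨆ i, B i := iSup_le fun j => iSup_le fun _ => le_iSup B j
      have hl1 : l ∈ L ⊓ ⨆ i, B i := by
        refine Subgroup.mem_inf.mpr ⟨hl, ?_⟩
        have : l = c⁻¹ * (c * l) := by group
        rw [this]
        exact Subgroup.mul_mem _ (Subgroup.inv_mem _ (hCsup hc)) (le_iSup B i' hxB)
      rw [hL, Subgroup.mem_bot] at hl1
      rw [hl1, mul_one] at hxB ⊢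
      have : c ∈ B i' ⊓ C := Subgroup.mem_inf.mpr ⟨hxB, hc⟩
      rw [disjoint_iff.mp hdis] at this
      exact this
  · apply le_antisymm
    · apply iSup_le
      intro j
      induction j using Fin.lastCases with
      | last => rw [Fin.snoc_last]; exact le_sup_right
      | cast j' => rw [Fin.snoc_castSucc]; exact le_trans (le_iSup B j') le_sup_left
    · apply sup_le
      · apply iSup_le
        intro j
        have := le_iSup (Fin.snoc B L : Fin (k + 1) → Subgroup G) (Fin.castSucc j)
        rwa [Fin.snoc_castSucc] at this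
      · have := le_iSup (Fin.snoc B L : Fin (k + 1) → Subgroup G) (Fin.last k)
        rwa [Fin.snoc_last] at this

end Indep

end Cfsg.Agent.Lib.Lead.KS93
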