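import Mathlib
import Cfsg.Agent.Lib.Helper4.BG12b
import Cfsg.Agent.S1398
import Cfsg.Agent.S1443
import Cfsg.Agent.S1451
import Cfsg.Agent.S0025

set_option autoImplicit false

/-! Bender–Glauberman, Sections 10–12: elementary abelian subgroups of order `p ^ 2` of a maximal
subgroup `M` with `p ∉ σ(M)`; part a: basic facts. -/

namespace Cfsg.Agent.Lib.Lead.BG11

open Cfsg Cfsg.Agent.Lib.Lead Cfsg.Agent.Lib.Lead.BG10 Cfsg.Agent.Lib.Helper7 Cfsg.Agent.Lib.Helper4
open Cfsg.Agent.Lib.Helper4.BG7 Cfsg.Agent.Lib.Helper4.BG76 Cfsg.Agent.Lib.Helper4.BG8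
open Cfsg.Agent.Lib.Helper4.BG9 Cfsg.Agent.Lib.Helper4.BG12

universe u

variable {G : Type u} [Group G] [Finite G]

/-- an elementary abelian subgroup `A` of order `p ^ 2` of the maximal subgroup `M`, `p ∉ σ(M)` -/
structure T2 (M : Subgroup G) (p : ℕ) (A : Subgroup G) : Prop where
  hM : IsCoatom M
  hpσ : p ∉ sigma M
  hAM : A ≤ M
  hA : IsElementaryAbelian p A
  hAc : Nat.card A = p ^ 2

theorem elementary_sup_zpowers {p : ℕ} {A : Subgroup G} (hA : IsElementaryAbelian p A) {y : G}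
    (hy : y ∈ Subgroup.centralizer (A : Set G)) (hyp : y ^ p = 1) :
    IsElementaryAbelian p (A ⊔ Subgroup.zpowers y) := by
  have hel : IsElementaryAbelian p (Subgroup.zpowers y) := by
    refine ⟨inferInstance, ?_⟩
    intro a ha
    obtain ⟨k, rfl⟩ := Subgroup.mem_zpowers_iff.mp ha
    rw [← zpow_natCast, ← zpow_mul, mul_comm, zpow_mul, zpow_natCast, hyp, one_zpow]
  apply Cfsg.Agent.Lib.Helper3.NormalSq.isElementaryAbelian_sup hA hel
  intro a ha b hb
  obtain ⟨k, rfl⟩ := Subgroup.mem_zpowers_iff.mp hb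
  have h1 : Commute a y := Subgroup.mem_centralizer_iff.mp hy a ha
  exact (h1.zpow_right k).eq

namespace T2

variable {M A : Subgroup G} {p : ℕ} [hp : Fact p.Prime]

theorem isPGroup (d : T2 M p A) : IsPGroup p A := isPGroup_of_elementary d.hA

theorem ne_bot (d : T2 M p A) : A ≠ ⊥ := by
  rintro rfl
  have h := d.hAc
  rw [Subgroup.card_bot] at h
  have := Nat.one_lt_pow (n := 2) (by norm_num) hp.out.one_lt
  omega

theorem p_dvd_A (d : T2 M p A) : p ∣ Nat.card A := by
  rw [d.hAc]; exact dvd_pow_self p (by norm_num)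

theorem p_dvd_M (d : T2 M p A) : p ∣ Nat.card M :=
  d.p_dvd_A.trans (Subgroup.card_dvd_of_le d.hAM)

theorem p_dvd (d : T2 M p A) : p ∣ Nat.card G :=
  d.p_dvd_M.trans (Subgroup.card_subgroup_dvd_card M)

theorem p_ne_two (d : T2 M p A) (hG : IsMinSimpleOddOrder G) : p ≠ 2 := ne_two_of_odd hG d.p_dvd

theorem rank_two (d : T2 M p A) (hG : IsMinSimpleOddOrder G) : PRankLE p 2 ↥M := by
  by_contra h
  exact d.hpσ (alpha_subset_sigma hG d.hM ((alpha_mem_iff hp.out).mpr h))

theorem max (d : T2 M p A) (hG : IsMinSimpleOddOrder G) {B : Subgroup G}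
    (hB : IsElementaryAbelian p B) (hAB : A ≤ B) : B = A :=
  rank_two_maximal hG d.hM (d.rank_two hG) d.hAM d.hA d.hAc hB hAB

theorem le_centralizer (d : T2 M p A) : A ≤ Subgroup.centralizer (A : Set G) :=
  le_centralizer_self_of_elementary d.hA

theorem mem_of_pow (d : T2 M p A) (hG : IsMinSimpleOddOrder G) {y : G}
    (hy : y ∈ Subgroup.centralizer (A : Set G)) (hyp : y ^ p = 1) : y ∈ A := by
  have h1 := d.max hG (elementary_sup_zpowers d.hA hy hyp) le_sup_left
  rw [← h1]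
  exact le_sup_right (a := A) (Subgroup.mem_zpowers y)

theorem hyp (d : T2 M p A) (hG : IsMinSimpleOddOrder G) :
    ∀ y ∈ Subgroup.centralizer (A : Set G), y ^ p = 1 ↔ y ∈ A :=
  fun y hy => ⟨d.mem_of_pow hG hy, d.hA.2 y⟩

theorem transHyp (d : T2 M p A) (hG : IsMinSimpleOddOrder G) : TransitivityHypothesis A :=
  theorem_7_6 hG d.p_dvd d.isPGroup
    (Or.inl ⟨d.hyp hG, fun H hH => corollary_10_7a hG p H hH⟩)

/-- `A`-invariant `p'`-subgroups of a proper subgroup `H ≥ A` lie in `O_{p'}(H)` -/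
theorem le_cG (d : T2 M p A) (hG : IsMinSimpleOddOrder G) {H Y : Subgroup G} (hH : H ≠ ⊤)
    (hAH : A ≤ H) (hYH : Y ≤ H) (hY : (Nat.card Y).Coprime p)
    (hAY : A ≤ Subgroup.normalizer (Y : Set G)) : Y ≤ cG p H :=
  le_cG_of_invariant hG (d.p_ne_two hG) hH hAH d.hA
    (fun y _ hyC hyp => d.mem_of_pow hG hyC hyp) hYH hY hAY

/-- no Sylow `p`-subgroup of `M` has its normalizer inside `M` -/
theorem normalizer_not_le (d : T2 M p A) {P : Subgroup G} (hP : SylIn p M P) :
    ¬ Subgroup.normalizer (P : Set G) ≤ M := by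
  intro h
  obtain ⟨T, hT⟩ := SylIn.exists_sylow hP
  apply d.hpσ
  refine ⟨hp.out, d.p_dvd_M, T, ?_⟩
  rw [hT]; exact h

/-- the Sylow `p`-subgroups of `M` are abelian -/
theorem abelian (d : T2 M p A) (hG : IsMinSimpleOddOrder G) {P : Subgroup G} (hP : SylIn p M P) :
    IsMulCommutative ↥P := by
  by_contra hna
  have hU := nonabelian_uniq hG p P hP.2.1 hna
  have hP1 : P ≠ ⊥ := by
    rintro rfl
    apply hna
    exact ⟨⟨fun a b => Subsingleton.elim _ _⟩⟩
  have hN := normalizer_ne_top hG hP1 (isPGroup_ne_top hG hP.2.1)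
  exact d.normalizer_not_le hP (uniq_of_le hU d.hM hP.1 Subgroup.le_normalizer hN).1

/-- `A = Ω₁(P)` -/
theorem mem_of_mem_sylow (d : T2 M p A) (hG : IsMinSimpleOddOrder G) {P : Subgroup G}
    (hP : SylIn p M P) (hAP : A ≤ P) {x : G} (hx : x ∈ P) (hxp : x ^ p = 1) : x ∈ A := by
  have hc := d.abelian hG hP
  apply d.mem_of_pow hG _ hxp
  apply Subgroup.mem_centralizer_iff.mpr
  intro a ha
  have := hc.is_comm.comm (⟨a, hAP ha⟩ : ↥P) ⟨x, hx⟩
  exact congrArg Subtype.val this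

theorem sylow_le_centralizer (d : T2 M p A) (hG : IsMinSimpleOddOrder G) {P : Subgroup G}
    (hP : SylIn p M P) (hAP : A ≤ P) : P ≤ Subgroup.centralizer (A : Set G) := by
  have hc := d.abelian hG hP
  intro x hx
  apply Subgroup.mem_centralizer_iff.mpr
  intro a ha
  have := hc.is_comm.comm (⟨a, hAP ha⟩ : ↥P) ⟨x, hx⟩
  exact congrArg Subtype.val this

theorem normalizer_sylow_le (d : T2 M p A) (hG : IsMinSimpleOddOrder G) {P : Subgroup G}
    (hP : SylIn p M P) (hAP : A ≤ P) :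
    Subgroup.normalizer (P : Set G) ≤ Subgroup.normalizer (A : Set G) := by
  intro n hn
  have key : ∀ m ∈ Subgroup.normalizer (P : Set G), ∀ a ∈ A, m * a * m⁻¹ ∈ A := by
    intro m hm a ha
    apply d.mem_of_mem_sylow hG hP hAP
    · exact (Subgroup.mem_normalizer_iff.mp hm a).mp (hAP ha)
    · rw [conj_pow, d.hA.2 a ha, mul_one, mul_inv_cancel]
  rw [Subgroup.mem_normalizer_iff]
  intro a
  constructor
  · exact key n hn a
  · intro h
    have := key n⁻¹ (Subgroup.inv_mem _ hn) _ h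
    simpa [mul_assoc] using this

/-- the normalizer of an abelian subgroup containing `A` normalizes `A` -/
theorem normalizer_le_of_abelian (d : T2 M p A) (hG : IsMinSimpleOddOrder G) {P : Subgroup G}
    (hAP : A ≤ P) (hc : IsMulCommutative ↥P) :
    Subgroup.normalizer (P : Set G) ≤ Subgroup.normalizer (A : Set G) := by
  intro n hn
  have key : ∀ m ∈ Subgroup.normalizer (P : Set G), ∀ a ∈ A, m * a * m⁻¹ ∈ A := by
    intro m hm a ha
    have hxP : m * a * m⁻¹ ∈ P := (Subgroup.mem_normalizer_iff.mp hm a).mp (hAP ha)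
    apply d.mem_of_pow hG
    · apply Subgroup.mem_centralizer_iff.mpr
      intro b hb
      have := hc.is_comm.comm (⟨b, hAP hb⟩ : ↥P) ⟨_, hxP⟩
      exact congrArg Subtype.val this
    · rw [conj_pow, d.hA.2 a ha, mul_one, mul_inv_cancel]
  rw [Subgroup.mem_normalizer_iff]
  intro a
  constructor
  · exact key n hn a
  · intro h
    have := key n⁻¹ (Subgroup.inv_mem _ hn) _ h
    simpa [mul_assoc] using this

theorem exists_normalizer_not_mem (d : T2 M p A) (hG : IsMinSimpleOddOrder G) :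
    ∃ g ∈ Subgroup.normalizer (A : Set G), g ∉ M := by
  obtain ⟨P, hAP, hP⟩ := exists_sylIn_ge d.hAM d.isPGroup
  have h1 := d.normalizer_not_le hP
  rw [SetLike.not_le_iff_exists] at h1
  obtain ⟨g, hg, hgM⟩ := h1
  exact ⟨g, d.normalizer_sylow_le hG hP hAP hg, hgM⟩

theorem centralizer_ne_top (d : T2 M p A) (hG : IsMinSimpleOddOrder G) :
    Subgroup.centralizer (A : Set G) ≠ ⊤ :=
  centralizer_ne_top_of hG d.ne_bot (isPGroup_ne_top hG d.isPGroup)

theorem normalizer_ne_top (d : T2 M p A) (hG : IsMinSimpleOddOrder G) :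
    Subgroup.normalizer (A : Set G) ≠ ⊤ :=
  BG8.normalizer_ne_top hG d.ne_bot (isPGroup_ne_top hG d.isPGroup)

end T2

end Cfsg.Agent.Lib.Lead.BG11
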