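import Mathlib
import Cfsg.Agent.Lib.Lead.BG11a
import Cfsg.Agent.Lib.Lead.Residual2

set_option autoImplicit false

/-! Bender–Glauberman, Lemma 10.10: an elementary abelian subgroup of order `p ^ 2` of `M`,
`p ∉ σ(M)`, does not centralize `M_σ`. -/

namespace Cfsg.Agent.Lib.Lead.BG11

open Cfsg Cfsg.Agent.Lib.Lead Cfsg.Agent.Lib.Lead.BG10 Cfsg.Agent.Lib.Helper7 Cfsg.Agent.Lib.Helper4
open Cfsg.Agent.Lib.Helper4.BG7 Cfsg.Agent.Lib.Helper4.BG76 Cfsg.Agent.Lib.Helper4.BG8
open Cfsg.Agent.Lib.Helper4.BG9 Cfsg.Agent.Lib.Helper4.BG12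
open scoped commutatorElement

universe u

variable {G : Type u} [Group G] [Finite G]

/-- the derived subgroup of a solvable subgroup of odd order and rank at most two is nilpotent -/
theorem commutator_nilpotent_of_rankLE_two {E : Subgroup G} (hodd : Odd (Nat.card E))
    (hsolv : Group.IsSolvable ↥E) (hr : RankLE 2 ↥E) : Group.IsNilpotent ↥⁅E, E⁆ := by
  haveI := hsolv
  have hyp : Rk2.Hyp420 ↥E := Rk2.hyp420_of hodd (Or.inl hr)
  haveI := hyp.commutator_isNilpotent
  exact Group.nilpotent_of_mulEquiv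
    (((commutator ↥E).equivMapOfInjective E.subtype E.subtype_injective).trans
      (MulEquiv.subgroupCongr (Subgroup.map_subtype_commutator E)))

theorem isNilpotent_of_le {H K : Subgroup G} (hK : Group.IsNilpotent ↥K) (hHK : H ≤ K) :
    Group.IsNilpotent ↥H := by
  haveI := hK
  haveI : Group.IsNilpotent ↥(H.subgroupOf K) := Subgroup.isNilpotent _
  exact Group.nilpotent_of_mulEquiv (Subgroup.subgroupOfEquivOfLe hHK)

/-- a Sylow subgroup of a nilpotent subgroup `F` is normalized by whatever normalizes `F` -/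
theorem le_normalizer_of_sylIn_nilpotent {q : ℕ} [Fact q.Prime] {F Q N : Subgroup G}
    (hF : Group.IsNilpotent ↥F) (hQ : SylIn q F Q)
    (hN : N ≤ Subgroup.normalizer (F : Set G)) : N ≤ Subgroup.normalizer (Q : Set G) := by
  intro n hn
  rw [mem_normalizer_iff_cj]
  apply cj_eq_of_le
  have h1 : cj n F = F := mem_normalizer_iff_cj.mp (hN hn)
  apply SylIn.le_of_normal hQ (sylIn_normal_of_isNilpotent hF hQ)
  · rw [← h1]; exact cj_mono n hQ.1
  · exact isPGroup_cj n hQ.2.1

/-- a Sylow `r`-subgroup of `L_σ`, `r ∈ σ(L)`, is a Sylow subgroup of `L` -/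
theorem sylIn_of_sylIn_sigmaCore (hG : IsMinSimpleOddOrder G) {L : Subgroup G} (hL : IsCoatom L)
    {r : ℕ} [hr : Fact r.Prime] (hrσ : r ∈ sigma L) {R : Subgroup G}
    (hR : SylIn r (sigmaCore L) R) : SylIn r L R := by
  refine ⟨hR.1.trans (sigmaCore_le L), hR.2.1, ?_⟩
  intro hd
  rw [← Subgroup.relIndex_mul_relIndex R (sigmaCore L) L hR.1 (sigmaCore_le L)] at hd
  rcases (Nat.Prime.dvd_mul hr.out).mp hd with h | h
  · exact hR.2.2 h
  · exact (sigmaCore_hall hG hL).1.2.2 r hr.out hrσ h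

namespace T2

variable {M A : Subgroup G} {p : ℕ} [hp : Fact p.Prime]

theorem not_isCyclic (d : T2 M p A) : ¬ IsCyclic ↥A := by
  apply not_isCyclic_of_elementary d.hA
  rw [d.hAc]
  calc p = p ^ 1 := (pow_one p).symm
    _ < p ^ 2 := Nat.pow_lt_pow_right hp.out.one_lt (by norm_num)

/-- not every non-identity element of `A` has its centralizer in `M` -/
theorem not_forall_centralizer_le (d : T2 M p A) (hG : IsMinSimpleOddOrder G) :
    ¬ ∀ a ∈ A, a ≠ 1 → Subgroup.centralizer ({a} : Set G) ≤ M := by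
  intro h
  have hU := Cfsg.Agent.S1398.result hG M d.hM p A d.hAM d.hA d.not_isCyclic (Or.inl h)
  obtain ⟨P, hAP, hP⟩ := exists_sylIn_ge d.hAM d.isPGroup
  have hP1 : P ≠ ⊥ := fun h0 => d.ne_bot (le_bot_iff.mp (h0 ▸ hAP))
  have hN := BG8.normalizer_ne_top hG hP1 (isPGroup_ne_top hG hP.2.1)
  exact d.normalizer_not_le hP
    (uniq_of_le hU d.hM d.hAM (hAP.trans Subgroup.le_normalizer) hN).1

/-- if `A` centralizes `M_σ`, no Sylow subgroup of `M_σ` is a uniqueness subgroup -/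
theorem not_uniq_of_sigmaData (d : T2 M p A) (hG : IsMinSimpleOddOrder G)
    (hcen : A ≤ Subgroup.centralizer (sigmaCore M : Set G)) {r : ℕ} [Fact r.Prime]
    (hr : r ∈ sigma M) {R : Subgroup G} (dR : SigmaData M r R) : ¬ InUniqueMaximal R := by
  intro hU
  apply d.not_forall_centralizer_le hG
  intro a ha ha1
  have hRa : R ≤ Subgroup.centralizer ({a} : Set G) := by
    intro x hx
    rw [Subgroup.mem_centralizer_singleton_iff]
    exact (Subgroup.mem_centralizer_iff.mp (hcen ha) x (dR.le_sigmaCore hG hr hx))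
  exact (uniq_of_le hU d.hM dR.hPM hRa (center_ne_top hG ha1)).1

theorem rankLE_two_of_centralizes (d : T2 M p A) (hG : IsMinSimpleOddOrder G)
    (hcen : A ≤ Subgroup.centralizer (sigmaCore M : Set G)) : RankLE 2 ↥M := by
  intro r hr
  haveI : Fact r.Prime := ⟨hr⟩
  by_contra h
  obtain ⟨hrσ, R, dR, hr3⟩ := exists_sigmaData_of_alpha hG d.hM ((alpha_mem_iff hr).mpr h)
  exact d.not_uniq_of_sigmaData hG hcen hrσ dR (uniq_of_rank_three hG dR.hPp hr3)

/-- a maximal subgroup containing `N_G(A)` has `p` in its `σ`-set -/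
theorem sigma_of_normalizer_le (d : T2 M p A) (hG : IsMinSimpleOddOrder G) {L : Subgroup G}
    (hL : IsCoatom L) (hNL : Subgroup.normalizer (A : Set G) ≤ L) : p ∈ sigma L := by
  have hAL : A ≤ L := Subgroup.le_normalizer.trans hNL
  obtain ⟨PL, hAPL, hPL⟩ := exists_sylIn_ge hAL d.isPGroup
  have hPL1 : PL ≠ ⊥ := fun h0 => d.ne_bot (le_bot_iff.mp (h0 ▸ hAPL))
  have hN : Subgroup.normalizer (PL : Set G) ≤ L := by
    by_cases hab : IsMulCommutative ↥PL
    · exact (d.normalizer_le_of_abelian hG hAPL hab).trans hNL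
    · have hU := nonabelian_uniq hG p PL hPL.2.1 hab
      exact (uniq_of_le hU hL hPL.1 Subgroup.le_normalizer
        (BG8.normalizer_ne_top hG hPL1 (isPGroup_ne_top hG hPL.2.1))).1
  obtain ⟨T, hT⟩ := SylIn.exists_sylow hPL
  refine ⟨hp.out, d.p_dvd_A.trans (Subgroup.card_dvd_of_le hAL), T, ?_⟩
  rw [hT]; exact hN

end T2

end Cfsg.Agent.Lib.Lead.BG11
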