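import Mathlib
import Cfsg.Agent.Lib.Lead.BG11b

set_option autoImplicit false

/-! Bender–Glauberman, Lemma 10.10 (main proof). -/

namespace Cfsg.Agent.Lib.Lead.BG11

open Cfsg Cfsg.Agent.Lib.Lead Cfsg.Agent.Lib.Lead.BG10 Cfsg.Agent.Lib.Helper7 Cfsg.Agent.Lib.Helper4
open Cfsg.Agent.Lib.Helper4.BG7 Cfsg.Agent.Lib.Helper4.BG76 Cfsg.Agent.Lib.Helper4.BG8
open Cfsg.Agent.Lib.Helper4.BG9 Cfsg.Agent.Lib.Helper4.BG12
open scoped commutatorElement

universe u

variable {G : Type u} [Group G] [Finite G]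

/-- Frattini factorization of `N_G(P)` over `C_G(P)` using a Sylow subgroup `Q ≤ C_G(P)` of `G` -/
theorem exists_mul_of_mem_normalizer {q : ℕ} [Fact q.Prime] {P Q : Subgroup G}
    (hQ : ∃ T : Sylow q G, (T : Subgroup G) = Q)
    (hQP : Q ≤ Subgroup.centralizer (P : Set G)) {n : G}
    (hn : n ∈ Subgroup.normalizer (P : Set G)) :
    ∃ c ∈ Subgroup.centralizer (P : Set G), ∃ m ∈ Subgroup.normalizer (Q : Set G), n = c * m := by
  set C := Subgroup.centralizer (P : Set G) with hC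
  have hnC : cj n C = C := by
    have h1 : n ∈ Subgroup.normalizer (C : Set G) :=
      normalizer_le_normalizer_centralizer P hn
    exact mem_normalizer_iff_cj.mp h1
  have h1 : SylIn q C Q := sylIn_of_sylow hQ hQP
  have h2 : SylIn q C (cj n Q) := by
    have : SylIn q (cj n C) (cj n Q) :=
      ⟨cj_mono n h1.1, isPGroup_cj n h1.2.1, by rw [relIndex_cj]; exact h1.2.2⟩
    rwa [hnC] at this
  obtain ⟨c, hc, hcQ⟩ := h2.conj h1
  rw [← cj_mul] at hcQ
  refine ⟨c⁻¹, C.inv_mem hc, c * n, mem_normalizer_iff_cj.mpr hcQ, by group⟩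

namespace T2

variable {M A : Subgroup G} {p : ℕ} [hp : Fact p.Prime]

/-- **Bender–Glauberman, Lemma 10.10** (in the form needed): `A` does not centralize `M_σ`. -/
theorem not_le_centralizer_sigmaCore (d : T2 M p A) (hG : IsMinSimpleOddOrder G)
    (hMs1 : sigmaCore M ≠ ⊥) : ¬ A ≤ Subgroup.centralizer (sigmaCore M : Set G) := by
  intro hcen
  have hM := d.hM
  have hMsolv : Group.IsSolvable ↥M := solvable_of_ne_top hG hM.1
  -- `M'` and `M_σ` are nilpotent
  have hr2 := d.rankLE_two_of_centralizes hG hcen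
  have hM'nil : Group.IsNilpotent ↥⁅M, M⁆ :=
    commutator_nilpotent_of_rankLE_two (odd_card_sub hG M) hMsolv hr2
  have hMsnil : Group.IsNilpotent ↥(sigmaCore M) :=
    isNilpotent_of_le hM'nil (sigmaCore_le_commutator hG hM)
  -- a Sylow `q`-subgroup `Q` of `M_σ`
  have hcard : Nat.card (sigmaCore M) ≠ 1 := fun h => hMs1 (Subgroup.card_eq_one.mp h)
  obtain ⟨q, hq, hqd⟩ := Nat.exists_prime_and_dvd hcard
  haveI : Fact q.Prime := ⟨hq⟩
  have hqσ : q ∈ sigma M := (sigmaCore_hall hG hM).1.2.1 q hq hqd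
  obtain ⟨Q, -, hQ⟩ := exists_sylIn_ge (bot_le : (⊥ : Subgroup G) ≤ sigmaCore M)
    (IsPGroup.of_bot (p := q))
  have hQM : SylIn q M Q := sylIn_of_sylIn_sigmaCore hG hM hqσ hQ
  have dQ : SigmaData M q Q := sigmaData_of_sylIn hM hqσ hQM
  have hMNQ : M ≤ Subgroup.normalizer (Q : Set G) :=
    le_normalizer_of_sylIn_nilpotent hMsnil hQ (le_normalizer_sigmaCore M)
  have hQA : Q ≤ Subgroup.centralizer (A : Set G) := by
    intro x hx
    rw [Subgroup.mem_centralizer_iff]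
    intro a ha
    exact (Subgroup.mem_centralizer_iff.mp (hcen ha) x (hQ.1 hx)).symm
  -- a maximal subgroup `L` containing `N_G(A)`
  obtain ⟨L, hL, hNL⟩ := exists_coatom_ge (d.normalizer_ne_top hG)
  have hpL : p ∈ sigma L := d.sigma_of_normalizer_le hG hL hNL
  have hAL : A ≤ L := Subgroup.le_normalizer.trans hNL
  have hQL : Q ≤ L := hQA.trans ((Subgroup.centralizer_le_normalizer _).trans hNL)
  have hqL : q ∉ sigma L := by
    intro hqL
    have h1 : SylIn q L Q := sylIn_of_sylow dQ.hPsyl hQL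
    have h2 := (sigmaData_of_sylIn hL hqL h1).hN
    have h3 : M = L := by
      by_contra hne
      exact hL.1 (hM.2 L (lt_of_le_of_ne (hMNQ.trans h2) hne))
    obtain ⟨g, hg, hgM⟩ := d.exists_normalizer_not_mem hG
    apply hgM
    rw [h3]; exact hNL hg
  -- a `Q`-invariant Sylow `p`-subgroup `P₂ ≥ A` of `L_σ`
  have hLsolv : Group.IsSolvable ↥(sigmaCore L) :=
    solvable_of_ne_top hG (ne_top_of_le_ne_top hL.1 (sigmaCore_le L))
  have hcop : (Nat.card Q).Coprime (Nat.card (sigmaCore L)) := by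
    obtain ⟨k, hk⟩ := IsPGroup.iff_card.mp dQ.hPp
    rw [hk]
    apply Nat.Coprime.pow_left
    rw [Nat.Prime.coprime_iff_not_dvd hq]
    intro hd
    exact hqL ((sigmaCore_hall hG hL).1.2.1 q hq hd)
  have hALs : A ≤ sigmaCore L := by
    obtain ⟨P₀, hAP₀, hP₀⟩ := exists_sylIn_ge hAL d.isPGroup
    exact hAP₀.trans ((sigmaData_of_sylIn hL hpL hP₀).le_sigmaCore hG hpL)
  obtain ⟨T, hAT, hQT⟩ := Cfsg.Agent.S0025.result Q (sigmaCore L)
    (hQL.trans (le_normalizer_sigmaCore L)) hcop (Or.inr hLsolv) p A hALs d.isPGroup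
    (hQA.trans (Subgroup.centralizer_le_normalizer _))
  set P₂ : Subgroup G := (T : Subgroup ↥(sigmaCore L)).map (sigmaCore L).subtype with hP₂
  have hP₂s : SylIn p (sigmaCore L) P₂ := sylIn_map_sylow T
  have hP₂L : SylIn p L P₂ := sylIn_of_sylIn_sigmaCore hG hL hpL hP₂s
  have dP₂ : SigmaData L p P₂ := sigmaData_of_sylIn hL hpL hP₂L
  have hqp : q ≠ p := by
    rintro rfl
    exact d.hpσ hqσ
  -- `Q` centralizes `P₂`
  have hQP₂ : Q ≤ Subgroup.centralizer (P₂ : Set G) := by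
    apply Cfsg.Agent.S1443.result p (d.p_ne_two hG) P₂ A Q hP₂s.2.1 hAT d.hA hQT
    · obtain ⟨k, hk⟩ := IsPGroup.iff_card.mp dQ.hPp
      rw [hk]
      apply Nat.Coprime.pow_left
      exact (Nat.coprime_primes hq hp.out).mpr hqp
    · intro x hx hord
      have hxA : x ∈ A := d.mem_of_pow hG hx.2 (by rw [← hord]; exact pow_orderOf_eq_one x)
      intro y hy
      rw [Subgroup.mem_centralizer_singleton_iff]
      exact (Subgroup.mem_centralizer_iff.mp (hQA hy) x hxA).symm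
  have hP₂Q : P₂ ≤ Subgroup.centralizer (Q : Set G) := by
    intro x hx
    rw [Subgroup.mem_centralizer_iff]
    intro y hy
    exact (Subgroup.mem_centralizer_iff.mp (hQP₂ hy) x hx).symm
  have hP₂M : P₂ ≤ M := hP₂Q.trans ((Subgroup.centralizer_le_normalizer _).trans dQ.hN)
  have hP₂M' : SylIn p M P₂ := sylIn_of_sylow dP₂.hPsyl hP₂M
  -- `P₂ ≤ M'`
  obtain ⟨T₂, hT₂⟩ := dP₂.hPsyl
  obtain ⟨V, hVN, -, hsup, hinf⟩ := exists_complement_in_normalizer T₂
  have hmul : ∀ m ∈ Subgroup.normalizer ((T₂ : Subgroup G) : Set G),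
      ∃ a ∈ (T₂ : Subgroup G), ∃ b ∈ V, m = a * b := by
    intro m hm
    rw [← hsup] at hm
    have h1 : m ∈ (((T₂ : Subgroup G) ⊔ V : Subgroup G) : Set G) := hm
    rw [Subgroup.coe_mul_of_right_le_normalizer_left (T₂ : Subgroup G) V hVN] at h1
    obtain ⟨a, ha, b, hb, hab⟩ := Set.mem_mul.mp h1
    exact ⟨a, ha, b, hb, hab.symm⟩
  have h1 := (sylow_eq_commutator hG T₂ hVN hinf hmul).1
  have hP₂comm : P₂ ≤ ⁅M, M⁆ := by
    rw [← hT₂, h1, Subgroup.commutator_le]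
    intro x hx v hv
    have hxP : x ∈ P₂ := hT₂ ▸ hx
    have hvN : v ∈ Subgroup.normalizer (P₂ : Set G) := by
      have := hVN hv
      rwa [hT₂] at this
    obtain ⟨c, hc, m, hm, rfl⟩ := exists_mul_of_mem_normalizer dQ.hPsyl hQP₂ hvN
    have hmM : m ∈ M := dQ.hN hm
    have hmN : m ∈ Subgroup.normalizer (P₂ : Set G) := by
      have h2 : m = c⁻¹ * (c * m) := by group
      rw [h2]
      exact Subgroup.mul_mem _ (Subgroup.inv_mem _ (Subgroup.centralizer_le_normalizer _ hc)) hvN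
    have hcx : ∀ y ∈ P₂, c * y = y * c := fun y hy =>
      (Subgroup.mem_centralizer_iff.mp hc y hy).symm
    have hxm : ⁅x, m⁆ ∈ P₂ := by
      rw [commutatorElement_def]
      have h3 : m * x⁻¹ * m⁻¹ ∈ P₂ :=
        (Subgroup.mem_normalizer_iff.mp hmN x⁻¹).mp (P₂.inv_mem hxP)
      have h4 : x * m * x⁻¹ * m⁻¹ = x * (m * x⁻¹ * m⁻¹) := by group
      rw [h4]
      exact P₂.mul_mem hxP h3
    have h5 : ⁅x, c * m⁆ = ⁅x, m⁆ := by
      have h6 : ⁅x, c * m⁆ = c * ⁅x, m⁆ * c⁻¹ := by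
        rw [commutatorElement_def, commutatorElement_def]
        have h7 := hcx x hxP
        calc x * (c * m) * x⁻¹ * (c * m)⁻¹ = (x * c) * m * x⁻¹ * m⁻¹ * c⁻¹ := by group
          _ = (c * x) * m * x⁻¹ * m⁻¹ * c⁻¹ := by rw [h7]
          _ = c * (x * m * x⁻¹ * m⁻¹) * c⁻¹ := by group
      rw [h6, hcx _ hxm, mul_assoc, mul_inv_cancel, mul_one]
    rw [h5]
    exact Subgroup.commutator_mem_commutator (hP₂M hxP) hmM
  -- `P₂` is normal in `M`
  have hP₂M'' : SylIn p ⁅M, M⁆ P₂ := hP₂M'.mono hP₂comm (Subgroup.commutator_le_self M)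
  have hMcomm : M ≤ Subgroup.normalizer ((⁅M, M⁆ : Subgroup G) : Set G) := by
    intro m hm
    rw [mem_normalizer_iff_cj]
    unfold cj
    rw [Subgroup.map_commutator]
    have h2 : cj m M = M := cj_eq_self_of_mem hm
    unfold cj at h2
    rw [h2]
  have hMN : M ≤ Subgroup.normalizer (P₂ : Set G) :=
    le_normalizer_of_sylIn_nilpotent hM'nil hP₂M'' hMcomm
  have hN := normalizer_eq_of_isCoatom hG hM dP₂.hP1 hP₂M hMN
  exact d.normalizer_not_le hP₂M' hN.le

end T2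

end Cfsg.Agent.Lib.Lead.BG11
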