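import Mathlib
import Cfsg.Agent.Lib.Lead.BG11c
import Cfsg.Agent.Lib.Helper4.BGConj
import Cfsg.Agent.Lib.Helper2.BG14a
import Cfsg.Agent.S0023

set_option autoImplicit false

/-! Bender–Glauberman, Section 11 (exceptional maximal subgroups): the TI property. -/

namespace Cfsg.Agent.Lib.Lead.BG11

open Cfsg Cfsg.Agent.Lib.Lead Cfsg.Agent.Lib.Lead.BG10 Cfsg.Agent.Lib.Helper7 Cfsg.Agent.Lib.Helper4
open Cfsg.Agent.Lib.Helper4.BG7 Cfsg.Agent.Lib.Helper4.BG76 Cfsg.Agent.Lib.Helper4.BG8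
open Cfsg.Agent.Lib.Helper4.BG9 Cfsg.Agent.Lib.Helper4.BG12 Cfsg.Agent.Lib.Helper4.BGConj
open scoped commutatorElement

universe u

variable {G : Type u} [Group G] [Finite G]

/-- a Sylow `q`-subgroup of `G` normalized by `A` is a maximal `A`-invariant `q`-subgroup -/
theorem mem_maxInv_of_sylow {q : ℕ} [hq : Fact q.Prime] {A Q : Subgroup G}
    (hQ : ∃ T : Sylow q G, (T : Subgroup G) = Q) (hAQ : A ≤ Subgroup.normalizer (Q : Set G)) :
    Q ∈ maxInvSubgroups ⊤ A {q} := by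
  obtain ⟨T, rfl⟩ := hQ
  refine ⟨⟨le_top, isPiNum_singleton_of_isPGroup T.isPGroup', hAQ⟩, ?_⟩
  intro R hR hTR
  have hRq : IsPGroup q R := isPGroup_of_isPiNum_singleton hR.2.1
  exact T.is_maximal' hRq hTR

/-- `q`-subgroups of the maximal subgroup `H` lie in `H_σ` for `q ∈ σ(H)` -/
theorem le_sigmaCore_of_isPGroup (hG : IsMinSimpleOddOrder G) {H : Subgroup G} (hH : IsCoatom H)
    {q : ℕ} [Fact q.Prime] (hqσ : q ∈ sigma H) {Q : Subgroup G} (hQH : Q ≤ H)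
    (hQ : IsPGroup q Q) : Q ≤ sigmaCore H := by
  obtain ⟨R, hQR, hR⟩ := exists_sylIn_ge hQH hQ
  exact hQR.trans ((sigmaData_of_sylIn hH hqσ hR).le_sigmaCore hG hqσ)

/-- an element `z ≠ 1` of a subgroup of prime order has the same centralizer -/
theorem centralizer_singleton_le_of_prime_card {p : ℕ} [hp : Fact p.Prime] {A₁ : Subgroup G}
    (hc : Nat.card A₁ = p) {z : G} (hz : z ∈ A₁) (hz1 : z ≠ 1) :
    Subgroup.centralizer ({z} : Set G) ≤ Subgroup.centralizer (A₁ : Set G) := by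
  have h1 : Subgroup.zpowers z = A₁ := by
    apply Subgroup.eq_of_le_of_card_ge (Subgroup.zpowers_le.mpr hz)
    rw [hc, Nat.card_zpowers]
    have h2 : orderOf z ∣ p := by
      rw [← hc]
      have := orderOf_dvd_natCard (⟨z, hz⟩ : ↥A₁)
      rwa [Subgroup.orderOf_mk] at this
    rcases (Nat.dvd_prime hp.out).mp h2 with h3 | h3
    · exact absurd (orderOf_eq_one_iff.mp h3) hz1
    · exact h3.ge
  rw [← h1, centralizer_zpowers]

namespace T2

variable {M A : Subgroup G} {p : ℕ} [hp : Fact p.Prime]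

theorem coprime_sigmaCore (d : T2 M p A) (hG : IsMinSimpleOddOrder G) :
    (Nat.card A).Coprime (Nat.card (sigmaCore M)) := by
  rw [d.hAc]
  apply Nat.Coprime.pow_left
  rw [Nat.Prime.coprime_iff_not_dvd hp.out]
  intro hd
  exact d.hpσ ((sigmaCore_hall hG d.hM).1.2.1 p hp.out hd)

theorem le_normalizer_sigmaCore (d : T2 M p A) :
    A ≤ Subgroup.normalizer (sigmaCore M : Set G) :=
  d.hAM.trans (BG10.le_normalizer_sigmaCore M)

end T2

/-- the exceptional configuration of Section 11: `p ∉ σ(M)`, `A ≤ M` elementary abelian of order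
`p ^ 2`, and `A₀ ≤ A` of order `p` with `N_G(A₀) ≤ M` -/
structure Exc (M : Subgroup G) (p : ℕ) (A A₀ : Subgroup G) : Prop extends T2 M p A where
  hA₀A : A₀ ≤ A
  hA₀c : Nat.card A₀ = p
  hN : Subgroup.normalizer (A₀ : Set G) ≤ M

namespace Exc

variable {M A A₀ : Subgroup G} {p : ℕ} [hp : Fact p.Prime]

theorem centralizer_le (d : Exc M p A A₀) : Subgroup.centralizer (A : Set G) ≤ M :=
  (Subgroup.centralizer_le (SetLike.coe_subset_coe.mpr d.hA₀A)).trans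
    ((Subgroup.centralizer_le_normalizer _).trans d.hN)

/-- the TI property: `M_σ ∩ M^g = 1` for `g ∉ M` with `A ≤ M^g` -/
theorem ti (d : Exc M p A A₀) (hG : IsMinSimpleOddOrder G) {g : G} (hg : g ∉ M)
    (hAg : A ≤ cj g M) : sigmaCore M ⊓ cj g M = ⊥ := by
  by_contra hD1
  have hM := d.hM
  set H := cj g M with hHdef
  have hH : IsCoatom H := isCoatom_cj hM g
  set D := sigmaCore M ⊓ H with hDdef
  have hcard : Nat.card D ≠ 1 := fun h => hD1 (Subgroup.card_eq_one.mp h)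
  obtain ⟨q, hq, hqd⟩ := Nat.exists_prime_and_dvd hcard
  haveI : Fact q.Prime := ⟨hq⟩
  have hqσ : q ∈ sigma M := (sigmaCore_hall hG hM).1.2.1 q hq
    (hqd.trans (Subgroup.card_dvd_of_le inf_le_left))
  have hqσH : q ∈ sigma H := by rw [hHdef, sigma_cj]; exact hqσ
  have hqp : q ≠ p := by
    rintro rfl
    exact d.hpσ hqσ
  have hqA : ¬ q ∣ Nat.card A := by
    rw [d.hAc]
    intro h
    exact hqp ((Nat.prime_dvd_prime_iff_eq hq hp.out).mp (hq.dvd_of_dvd_pow h))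
  -- `A` normalizes `D`
  have hAD : A ≤ Subgroup.normalizer (D : Set G) :=
    (le_inf d.toT2.le_normalizer_sigmaCore (hAg.trans Subgroup.le_normalizer)).trans
      (normalizer_inf_le' _ _)
  have hcopD : (Nat.card A).Coprime (Nat.card D) :=
    Nat.Coprime.coprime_dvd_right (Subgroup.card_dvd_of_le inf_le_left) (d.toT2.coprime_sigmaCore hG)
  have hDsolv : Group.IsSolvable ↥D :=
    solvable_of_ne_top hG (ne_top_of_le_ne_top hH.1 inf_le_right)
  obtain ⟨T₀, hAT₀⟩ := Cfsg.Agent.S0023.result A D hAD hcopD (Or.inr hDsolv) q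
  set Q₀ : Subgroup G := (T₀ : Subgroup ↥D).map D.subtype with hQ₀
  have hQ₀s : SylIn q D Q₀ := sylIn_map_sylow T₀
  have hQ₀1 : Q₀ ≠ ⊥ := by
    intro h0
    rw [hQ₀, Subgroup.map_eq_bot_iff_of_injective _ D.subtype_injective] at h0
    exact T₀.ne_bot_of_dvd_card hqd h0
  have hQ₀D : Q₀ ≤ D := hQ₀s.1
  -- `Q₁`
  have hMsolv : Group.IsSolvable ↥(sigmaCore M) :=
    solvable_of_ne_top hG (ne_top_of_le_ne_top hM.1 (sigmaCore_le M))
  obtain ⟨T₁, hQ₀T₁, hAT₁⟩ := Cfsg.Agent.S0025.result A (sigmaCore M)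
    d.toT2.le_normalizer_sigmaCore (d.toT2.coprime_sigmaCore hG) (Or.inr hMsolv) q Q₀
    (hQ₀D.trans inf_le_left) hQ₀s.2.1 hAT₀
  set Q₁ : Subgroup G := (T₁ : Subgroup ↥(sigmaCore M)).map (sigmaCore M).subtype with hQ₁
  have hQ₁s : SylIn q (sigmaCore M) Q₁ := sylIn_map_sylow T₁
  have hQ₁M : SylIn q M Q₁ := sylIn_of_sylIn_sigmaCore hG hM hqσ hQ₁s
  have dQ₁ : SigmaData M q Q₁ := sigmaData_of_sylIn hM hqσ hQ₁M
  -- `Q₂`
  have hHσ : sigmaCore H = cj g (sigmaCore M) := sigmaCore_cj g M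
  have hAHσ : A ≤ Subgroup.normalizer (sigmaCore H : Set G) :=
    hAg.trans (BG10.le_normalizer_sigmaCore H)
  have hcopH : (Nat.card A).Coprime (Nat.card (sigmaCore H)) := by
    rw [hHσ, card_cj]; exact d.toT2.coprime_sigmaCore hG
  have hHsolv : Group.IsSolvable ↥(sigmaCore H) :=
    solvable_of_ne_top hG (ne_top_of_le_ne_top hH.1 (sigmaCore_le H))
  have hQ₀Hσ : Q₀ ≤ sigmaCore H :=
    le_sigmaCore_of_isPGroup hG hH hqσH (hQ₀D.trans inf_le_right) hQ₀s.2.1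
  obtain ⟨T₂, hQ₀T₂, hAT₂⟩ := Cfsg.Agent.S0025.result A (sigmaCore H) hAHσ hcopH (Or.inr hHsolv)
    q Q₀ hQ₀Hσ hQ₀s.2.1 hAT₀
  set Q₂ : Subgroup G := (T₂ : Subgroup ↥(sigmaCore H)).map (sigmaCore H).subtype with hQ₂
  have hQ₂s : SylIn q (sigmaCore H) Q₂ := sylIn_map_sylow T₂
  have hQ₂H : SylIn q H Q₂ := sylIn_of_sylIn_sigmaCore hG hH hqσH hQ₂s
  have dQ₂ : SigmaData H q Q₂ := sigmaData_of_sylIn hH hqσH hQ₂H
  -- Theorem 7.2
  have h₁ : Q₁ ∈ maxInvSubgroups ⊤ A {q} := mem_maxInv_of_sylow dQ₁.hPsyl hAT₁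
  have h₂ : Q₂ ∈ maxInvSubgroups ⊤ A {q} := mem_maxInv_of_sylow dQ₂.hPsyl hAT₂
  have hne : ∀ Q : Subgroup G, Q₀ ≤ Q → H ⊓ Q ≠ ⊥ := by
    intro Q hQ h0
    apply hQ₀1
    rw [eq_bot_iff, ← h0]
    exact le_inf (hQ₀D.trans inf_le_right) hQ
  obtain ⟨k, hk, hkQ⟩ := theorem_7_2 hG (d.toT2.transHyp hG) hq hqA h₁ h₂ hH.1 hAg
    (hne Q₁ hQ₀T₁) (hne Q₂ hQ₀T₂)
  have hkM : k ∈ M := d.centralizer_le (KA_le_centralizer A hk)
  have hQ₂eq : Q₂ = cj k Q₁ := hkQ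
  have hQ₂M : Q₂ ≤ M := by rw [hQ₂eq]; exact cj_le_of_mem hkM dQ₁.hPM
  have hQ₂M' : SylIn q M Q₂ := sylIn_of_sylow dQ₂.hPsyl hQ₂M
  have dQ₂M : SigmaData M q Q₂ := sigmaData_of_sylIn hM hqσ hQ₂M'
  -- `Q₂^{g⁻¹}` is a Sylow subgroup of `M`
  have h3 : SylIn q M (cj g⁻¹ Q₂) := by
    have := sylIn_cj g⁻¹ hQ₂H
    rwa [hHdef, cj_inv_cj] at this
  obtain ⟨m, hm, hmQ⟩ := h3.conj hQ₂M'
  rw [← cj_mul] at hmQ
  have h4 : m * g⁻¹ ∈ M := dQ₂M.hN (mem_normalizer_iff_cj.mpr hmQ)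
  apply hg
  have h5 : g⁻¹ ∈ M := by
    have := M.mul_mem (M.inv_mem hm) h4
    rwa [inv_mul_cancel_left] at this
  exact (M.inv_mem_iff).mp h5

/-- for `g ∈ N_G(A) \ M` the subgroup `A₀^g ≤ A` acts without fixed points on `M_σ` -/
theorem fpf (d : Exc M p A A₀) (hG : IsMinSimpleOddOrder G) {g : G}
    (hgN : g ∈ Subgroup.normalizer (A : Set G)) (hg : g ∉ M) :
    sigmaCore M ⊓ Subgroup.centralizer (cj g A₀ : Set G) = ⊥ := by
  have hAg : A ≤ cj g M := by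
    have h1 : cj g A = A := mem_normalizer_iff_cj.mp hgN
    rw [← h1]
    exact cj_mono g d.hAM
  have h2 : Subgroup.centralizer (cj g A₀ : Set G) ≤ cj g M := by
    intro x hx
    rw [mem_cj]
    apply d.hN
    apply Subgroup.centralizer_le_normalizer
    rw [Subgroup.mem_centralizer_iff]
    intro y hy
    have h3 : g * y * g⁻¹ ∈ cj g A₀ := by
      rw [mem_cj]
      have : g⁻¹ * (g * y * g⁻¹) * g = y := by group
      rw [this]; exact hy
    have h4 := Subgroup.mem_centralizer_iff.mp hx _ h3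
    calc y * (g⁻¹ * x * g) = g⁻¹ * ((g * y * g⁻¹) * x) * g := by group
      _ = g⁻¹ * (x * (g * y * g⁻¹)) * g := by rw [h4]
      _ = g⁻¹ * x * g * y := by group
  rw [eq_bot_iff, ← d.ti hG hg hAg]
  exact inf_le_inf_left _ h2

theorem cj_le (d : Exc M p A A₀) {g : G} (hgN : g ∈ Subgroup.normalizer (A : Set G)) :
    cj g A₀ ≤ A := by
  have h1 : cj g A = A := mem_normalizer_iff_cj.mp hgN
  rw [← h1]
  exact cj_mono g d.hA₀A

/-- `M_σ` is nilpotent -/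
theorem nilpotent (d : Exc M p A A₀) (hG : IsMinSimpleOddOrder G) :
    Group.IsNilpotent ↥(sigmaCore M) := by
  obtain ⟨g, hgN, hg⟩ := d.toT2.exists_normalizer_not_mem hG
  have hfix := d.fpf hG hgN hg
  have hc : Nat.card (cj g A₀) = p := by rw [card_cj]; exact d.hA₀c
  have hne : (cj g A₀) ≠ ⊥ := by
    intro h0
    rw [h0, Subgroup.card_bot] at hc
    exact hp.out.one_lt.ne hc
  obtain ⟨⟨z, hz⟩, hz1⟩ := (Subgroup.ne_bot_iff_exists_ne_one).mp hne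
  have hz1' : z ≠ 1 := fun h => hz1 (Subtype.ext h)
  have hzA : z ∈ A := d.cj_le hgN hz
  have hzp : z ^ p = 1 := d.hA.2 z hzA
  apply Cfsg.Agent.Lib.Helper2.BG14.nilpotent_of_regular hp.out hzp
    (d.toT2.le_normalizer_sigmaCore hzA)
  rw [eq_bot_iff, ← hfix]
  exact inf_le_inf_left _ (centralizer_singleton_le_of_prime_card hc hz hz1')

/-- `C_{M_σ}(A) = 1` -/
theorem centralizer_inf (d : Exc M p A A₀) (hG : IsMinSimpleOddOrder G) :
    sigmaCore M ⊓ Subgroup.centralizer (A : Set G) = ⊥ := by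
  obtain ⟨g, hgN, hg⟩ := d.toT2.exists_normalizer_not_mem hG
  rw [eq_bot_iff, ← d.fpf hG hgN hg]
  exact inf_le_inf_left _ (Subgroup.centralizer_le (SetLike.coe_subset_coe.mpr (d.cj_le hgN)))

end Exc

end Cfsg.Agent.Lib.Lead.BG11
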