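import Mathlib
import Cfsg.Agent.Lib.Lead.BG11d

set_option autoImplicit false

/-! Generic lemmas for Bender–Glauberman Section 11. -/

namespace Cfsg.Agent.Lib.Lead.BG11

open Cfsg Cfsg.Agent.Lib.Lead Cfsg.Agent.Lib.Lead.BG10 Cfsg.Agent.Lib.Helper7 Cfsg.Agent.Lib.Helper4
open Cfsg.Agent.Lib.Helper4.BG7 Cfsg.Agent.Lib.Helper4.BG76 Cfsg.Agent.Lib.Helper4.BG8
open Cfsg.Agent.Lib.Helper4.BG9 Cfsg.Agent.Lib.Helper4.BG12 Cfsg.Agent.Lib.Helper4.BGConj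
open scoped commutatorElement

universe u

variable {G : Type u} [Group G]

theorem le_normalizer_of_forall_conj {A B : Subgroup G}
    (h : ∀ a ∈ A, ∀ b ∈ B, a * b * a⁻¹ ∈ B) : A ≤ Subgroup.normalizer (B : Set G) := by
  intro a ha
  rw [Subgroup.mem_normalizer_iff]
  intro b
  constructor
  · exact h a ha b
  · intro hb
    have := h a⁻¹ (A.inv_mem ha) _ hb
    simpa [mul_assoc] using this

theorem pow_card_eq_one_of_mem [Finite G] {X : Subgroup G} {x : G} (hx : x ∈ X) :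
    x ^ Nat.card X = 1 := by
  have h1 : orderOf (⟨x, hx⟩ : ↥X) ∣ Nat.card X := orderOf_dvd_natCard _
  rw [Subgroup.orderOf_mk] at h1
  exact orderOf_dvd_iff_pow_eq_one.mp h1

/-- the subgroup of those `x` normalizing `C` with `[K, x] ⊆ C` -/
def commStab (K C : Subgroup G) : Subgroup G where
  carrier := {x | x ∈ Subgroup.normalizer (C : Set G) ∧ ∀ k ∈ K, ⁅k, x⁆ ∈ C}
  one_mem' := by
    refine ⟨Subgroup.one_mem _, fun k _ => ?_⟩
    rw [commutatorElement_one_right]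
    exact C.one_mem
  mul_mem' := by
    rintro x y ⟨hxN, hx⟩ ⟨hyN, hy⟩
    refine ⟨Subgroup.mul_mem _ hxN hyN, fun k hk => ?_⟩
    have h1 : ⁅k, x * y⁆ = ⁅k, x⁆ * (x * ⁅k, y⁆ * x⁻¹) := by
      simp only [commutatorElement_def]; group
    rw [h1]
    exact C.mul_mem (hx k hk) ((Subgroup.mem_normalizer_iff.mp hxN _).mp (hy k hk))
  inv_mem' := by
    rintro x ⟨hxN, hx⟩
    refine ⟨Subgroup.inv_mem _ hxN, fun k hk => ?_⟩
    have h1 : ⁅k, x⁻¹⁆ = x⁻¹ * (⁅k, x⁆)⁻¹ * (x⁻¹)⁻¹ := by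
      simp only [commutatorElement_def]; group
    rw [h1]
    exact (Subgroup.mem_normalizer_iff.mp (Subgroup.inv_mem _ hxN) _).mp (C.inv_mem (hx k hk))

theorem commutator_sup_le {K H J C : Subgroup G} (hH : ⁅K, H⁆ ≤ C) (hJ : ⁅K, J⁆ ≤ C)
    (hHN : H ≤ Subgroup.normalizer (C : Set G)) (hJN : J ≤ Subgroup.normalizer (C : Set G)) :
    ⁅K, H ⊔ J⁆ ≤ C := by
  have h1 : H ≤ commStab K C := fun x hx =>
    ⟨hHN hx, fun k hk => hH (Subgroup.commutator_mem_commutator hk hx)⟩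
  have h2 : J ≤ commStab K C := fun x hx =>
    ⟨hJN hx, fun k hk => hJ (Subgroup.commutator_mem_commutator hk hx)⟩
  rw [Subgroup.commutator_le]
  intro k hk x hx
  exact ((sup_le h1 h2) hx).2 k hk

/-- the `r`-torsion of a commutative subgroup -/
def torsionSub (r : ℕ) (Y : Subgroup G) (hY : ∀ a ∈ Y, ∀ b ∈ Y, a * b = b * a) : Subgroup G where
  carrier := {x | x ∈ Y ∧ x ^ r = 1}
  one_mem' := ⟨Y.one_mem, one_pow r⟩
  mul_mem' := by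
    rintro x y ⟨hx, hxr⟩ ⟨hy, hyr⟩
    refine ⟨Y.mul_mem hx hy, ?_⟩
    have hc : Commute x y := hY x hx y hy
    rw [hc.mul_pow, hxr, hyr, one_mul]
  inv_mem' := by
    rintro x ⟨hx, hxr⟩
    exact ⟨Y.inv_mem hx, by rw [inv_pow, hxr, inv_one]⟩

theorem mem_torsionSub {r : ℕ} {Y : Subgroup G} {hY : ∀ a ∈ Y, ∀ b ∈ Y, a * b = b * a} {x : G} :
    x ∈ torsionSub r Y hY ↔ x ∈ Y ∧ x ^ r = 1 := Iff.rfl

theorem torsionSub_le {r : ℕ} {Y : Subgroup G} (hY : ∀ a ∈ Y, ∀ b ∈ Y, a * b = b * a) :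
    torsionSub r Y hY ≤ Y := fun _ hx => hx.1

theorem isElementaryAbelian_torsionSub {r : ℕ} {Y : Subgroup G}
    (hY : ∀ a ∈ Y, ∀ b ∈ Y, a * b = b * a) : IsElementaryAbelian r (torsionSub r Y hY) := by
  refine ⟨⟨⟨?_⟩⟩, fun a ha => ha.2⟩
  rintro ⟨a, ha⟩ ⟨b, hb⟩
  exact Subtype.ext (hY a ha.1 b hb.1)

theorem normalizer_le_normalizer_torsionSub {r : ℕ} {Y : Subgroup G}
    (hY : ∀ a ∈ Y, ∀ b ∈ Y, a * b = b * a) :
    Subgroup.normalizer (Y : Set G) ≤ Subgroup.normalizer (torsionSub r Y hY : Set G) := by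
  apply le_normalizer_of_forall_conj
  rintro n hn x ⟨hx, hxr⟩
  refine ⟨(Subgroup.mem_normalizer_iff.mp hn x).mp hx, ?_⟩
  rw [conj_pow, hxr, mul_one, mul_inv_cancel]

theorem isMulCommutative_of_comm {Y : Subgroup G} (hY : ∀ a ∈ Y, ∀ b ∈ Y, a * b = b * a) :
    IsMulCommutative ↥Y := by
  refine ⟨⟨?_⟩⟩
  rintro ⟨a, ha⟩ ⟨b, hb⟩
  exact Subtype.ext (hY a ha b hb)

theorem comm_of_isMulCommutative {Y : Subgroup G} (hY : IsMulCommutative ↥Y) :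
    ∀ a ∈ Y, ∀ b ∈ Y, a * b = b * a := fun a ha b hb =>
  congrArg Subtype.val (hY.is_comm.comm ⟨a, ha⟩ ⟨b, hb⟩)

/-- two distinct subgroups of order `p` in a group of order `p ^ 2` generate it -/
theorem sup_eq_of_card_prime [Finite G] {p : ℕ} [hp : Fact p.Prime] {A A₁ A₂ : Subgroup G}
    (hA : Nat.card A = p ^ 2) (h1 : A₁ ≤ A) (h2 : A₂ ≤ A) (hc1 : Nat.card A₁ = p)
    (hc2 : Nat.card A₂ = p) (hne : A₁ ≠ A₂) : A₁ ⊔ A₂ = A := by
  have hle : A₁ ⊔ A₂ ≤ A := sup_le h1 h2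
  have hd : Nat.card ↥(A₁ ⊔ A₂) ∣ p ^ 2 := hA ▸ Subgroup.card_dvd_of_le hle
  obtain ⟨k, hk2, hk⟩ := (Nat.dvd_prime_pow hp.out).mp hd
  have hd1 : p ∣ Nat.card ↥(A₁ ⊔ A₂) := hc1 ▸ Subgroup.card_dvd_of_le (le_sup_left : A₁ ≤ A₁ ⊔ A₂)
  have hk1 : k ≠ 0 := by
    rintro rfl
    rw [hk, pow_zero] at hd1
    exact hp.out.one_lt.ne' (Nat.dvd_one.mp hd1)
  have hk' : k = 2 := by
    by_contra hk'
    have hk1' : k = 1 := by omega
    rw [hk1', pow_one] at hk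
    have e1 : A₁ = A₁ ⊔ A₂ := Subgroup.eq_of_le_of_card_ge le_sup_left (by rw [hk, hc1])
    have e2 : A₂ = A₁ ⊔ A₂ := Subgroup.eq_of_le_of_card_ge le_sup_right (by rw [hk, hc2])
    exact hne (e1.trans e2.symm)
  apply Subgroup.eq_of_le_of_card_ge hle
  rw [hA, hk, hk']

end Cfsg.Agent.Lib.Lead.BG11
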