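import Mathlib
import Cfsg.Agent.Lib.Lead.BG11e
import Cfsg.Agent.Lib.Helper2.BG11c
import Cfsg.Agent.Lib.Helper2.BG11d
import Cfsg.Agent.S0027
import Cfsg.Agent.S0055

set_option autoImplicit false

/-! Bender–Glauberman, Section 11: towards `M_σ A ⊴ M` (first half). -/

namespace Cfsg.Agent.Lib.Lead.BG11

open Cfsg Cfsg.Agent.Lib.Lead Cfsg.Agent.Lib.Lead.BG10 Cfsg.Agent.Lib.Helper7 Cfsg.Agent.Lib.Helper4
open Cfsg.Agent.Lib.Helper4.BG7 Cfsg.Agent.Lib.Helper4.BG76 Cfsg.Agent.Lib.Helper4.BG8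
open Cfsg.Agent.Lib.Helper4.BG9 Cfsg.Agent.Lib.Helper4.BG12 Cfsg.Agent.Lib.Helper4.BGConj
open Cfsg.Agent.Lib.Helper2.BG11
open scoped commutatorElement

universe u

variable {G : Type u} [Group G] [Finite G]

namespace Exc

variable {M A A₀ : Subgroup G} {p : ℕ} [hp : Fact p.Prime]

/-- two distinct subgroups of order `p` of `A` acting without fixed points on `M_σ` -/
theorem exists_fpf_pair (d : Exc M p A A₀) (hG : IsMinSimpleOddOrder G) :
    ∃ A₁ A₂ : Subgroup G, A₁ ≤ A ∧ A₂ ≤ A ∧ Nat.card A₁ = p ∧ Nat.card A₂ = p ∧ A₁ ≠ A₂ ∧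
      sigmaCore M ⊓ Subgroup.centralizer (A₁ : Set G) = ⊥ ∧
      sigmaCore M ⊓ Subgroup.centralizer (A₂ : Set G) = ⊥ := by
  obtain ⟨g, hgN, hg⟩ := d.toT2.exists_normalizer_not_mem hG
  have hggN : g * g ∈ Subgroup.normalizer (A : Set G) := Subgroup.mul_mem _ hgN hgN
  have hgg : g * g ∉ M := by
    intro h
    apply hg
    have hodd : Odd (orderOf g) := Odd.of_dvd_nat hG.1 (orderOf_dvd_natCard g)
    obtain ⟨k, hk⟩ := hodd
    have h1 : (g * g) ^ (k + 1) = g := by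
      rw [← pow_two, ← pow_mul]
      have : 2 * (k + 1) = orderOf g + 1 := by omega
      rw [this, pow_succ, pow_orderOf_eq_one, one_mul]
    rw [← h1]
    exact M.pow_mem h _
  refine ⟨cj g A₀, cj (g * g) A₀, d.cj_le hgN, d.cj_le hggN, ?_, ?_, ?_, d.fpf hG hgN hg,
    d.fpf hG hggN hgg⟩
  · rw [card_cj]; exact d.hA₀c
  · rw [card_cj]; exact d.hA₀c
  · intro h
    apply hg
    apply d.hN
    rw [mem_normalizer_iff_cj]
    have h2 := congrArg (cj g⁻¹) h
    rw [cj_mul, cj_inv_cj, cj_inv_cj] at h2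
    exact h2.symm

/-- an abelian `p'`-subgroup `K` of a complement `E ≥ A` normalized by `A` has `[K, A]`
centralizing `M_σ` -/
theorem commutator_le_centralizer_sigmaCore (d : Exc M p A A₀) (hG : IsMinSimpleOddOrder G)
    {E : Subgroup G} (hE : IsComplIn E (sigmaCore M) M) (hAE : A ≤ E) {K : Subgroup G}
    (hKE : K ≤ E) (hKc : IsMulCommutative ↥K) (hAK : A ≤ Subgroup.normalizer (K : Set G))
    (hKp : (Nat.card K).Coprime p) :
    ⁅K, A⁆ ≤ Subgroup.centralizer (sigmaCore M : Set G) := by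
  have hM := d.hM
  obtain ⟨A₁, A₂, h1, h2, hc1, hc2, hne, hf1, hf2⟩ := d.exists_fpf_pair hG
  have hMsolv : Group.IsSolvable ↥(sigmaCore M) :=
    solvable_of_ne_top hG (ne_top_of_le_ne_top hM.1 (sigmaCore_le M))
  have hEM : E ≤ M := hE.1
  have hMN : M ≤ Subgroup.normalizer ((Subgroup.centralizer (sigmaCore M : Set G) : Subgroup G) :
      Set G) := (BG10.le_normalizer_sigmaCore M).trans (normalizer_le_normalizer_centralizer _)
  have key : ∀ A' : Subgroup G, A' ≤ A → Nat.card A' = p →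
      sigmaCore M ⊓ Subgroup.centralizer (A' : Set G) = ⊥ →
      ⁅K, A'⁆ ≤ Subgroup.centralizer (sigmaCore M : Set G) := by
    intro A' hA' hc hf
    apply commutator_le_centralizer_of_regular hKc (by rw [hc]; exact hp.out) (hA'.trans hAK)
      (by rw [hc]; exact hKp) hMsolv ((hKE.trans hEM).trans (BG10.le_normalizer_sigmaCore M))
      ((hA'.trans d.hAM).trans (BG10.le_normalizer_sigmaCore M)) _ hf
    apply Nat.coprime_of_dvd
    intro q hq hd1 hd2
    have hqσ : q ∈ sigma M := (sigmaCore_hall hG hM).1.2.1 q hq hd1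
    exact not_sigma_of_dvd_card_le_compl hG hM hE (sup_le hKE (hA'.trans hAE)) q hq hd2 hqσ
  have h3 := commutator_sup_le (key A₁ h1 hc1 hf1) (key A₂ h2 hc2 hf2)
    ((h1.trans d.hAM).trans hMN) ((h2.trans d.hAM).trans hMN)
  rwa [sup_eq_of_card_prime d.hAc h1 h2 hc1 hc2 hne] at h3

end Exc

end Cfsg.Agent.Lib.Lead.BG11
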