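import Mathlib
import Cfsg.Agent.Lib.Lead.BG11f
import Cfsg.Agent.Lib.Helper2.BG11a

set_option autoImplicit false

/-! Bender–Glauberman, Section 11: towards `M_σ A ⊴ M` (second part): the normal subgroup `X`. -/

namespace Cfsg.Agent.Lib.Lead.BG11

open Cfsg Cfsg.Agent.Lib.Lead Cfsg.Agent.Lib.Lead.BG10 Cfsg.Agent.Lib.Helper7 Cfsg.Agent.Lib.Helper4
open Cfsg.Agent.Lib.Helper4.BG7 Cfsg.Agent.Lib.Helper4.BG76 Cfsg.Agent.Lib.Helper4.BG8
open Cfsg.Agent.Lib.Helper4.BG9 Cfsg.Agent.Lib.Helper4.BG12 Cfsg.Agent.Lib.Helper4.BGConj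
open Cfsg.Agent.Lib.Helper2.BG11
open scoped commutatorElement

universe u

variable {G : Type u} [Group G] [Finite G]

theorem le_normalizer_commutator_self (E : Subgroup G) :
    E ≤ Subgroup.normalizer ((⁅E, E⁆ : Subgroup G) : Set G) := by
  intro m hm
  rw [mem_normalizer_iff_cj]
  unfold cj
  rw [Subgroup.map_commutator]
  have h2 : cj m E = E := cj_eq_self_of_mem hm
  unfold cj at h2
  rw [h2]

namespace Exc

variable {M A A₀ : Subgroup G} {p : ℕ} [hp : Fact p.Prime]

/-- if `[O_{p'}(E), A] ≠ 1` there is a normal subgroup `X` of `M` of prime order `r` inside it on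
which `A` acts nontrivially -/
theorem exists_normal_prime_order (d : Exc M p A A₀) (hG : IsMinSimpleOddOrder G)
    {E : Subgroup G} (hE : IsComplIn E (sigmaCore M) M) (hAE : A ≤ E)
    (hW : ⁅cG p E, A⁆ ≠ ⊥) :
    ∃ (r : ℕ) (X : Subgroup G), r.Prime ∧ Nat.card X = r ∧ X ≤ ⁅cG p E, A⁆ ∧
      M ≤ Subgroup.normalizer (X : Set G) ∧ ¬ A ≤ Subgroup.centralizer (X : Set G) ∧
      r ∉ sigma M ∧ r ≠ p ∧ ∀ x ∈ ⁅cG p E, A⁆, x ^ r = 1 → x ∈ X := by
  have hM := d.hM
  have hEM : E ≤ M := hE.1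
  set L := cG p E with hLdef
  have hLE : L ≤ E := cG_le p E
  have hAL : A ≤ Subgroup.normalizer (L : Set G) := hAE.trans (le_normalizer_cG p E)
  have hLp : (Nat.card L).Coprime p := card_cG_coprime p E
  have hcopAL : (Nat.card A).Coprime (Nat.card L) := by
    rw [d.hAc]; exact Nat.Coprime.pow_left 2 hLp.symm
  have hLsolv : Group.IsSolvable ↥L :=
    solvable_of_ne_top hG (ne_top_of_le_ne_top hM.1 (hLE.trans hEM))
  set W := ⁅L, A⁆ with hWdef
  have hWL : W ≤ L := Cfsg.Agent.Lib.Lead.commutator_le_left_of_le_normalizer L A hAL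
  have hWE' : W ≤ ⁅E, E⁆ := Subgroup.commutator_mono hLE hAE
  have hWW : ⁅W, A⁆ = W := Cfsg.Agent.S0027.result A L hAL hcopAL (Or.inr hLsolv)
  have hE'c := commutator_compl_comm hG hM hE
  have hE'comm := comm_of_isMulCommutative hE'c
  have hEE' := le_normalizer_commutator_self E
  -- `K`
  set K := ⁅E, E⁆ ⊓ L with hKdef
  have hKc : IsMulCommutative ↥K :=
    isMulCommutative_of_comm (fun a ha b hb => hE'comm a ha.1 b hb.1)
  have hAK : A ≤ Subgroup.normalizer (K : Set G) :=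
    (le_inf (hAE.trans hEE') hAL).trans (normalizer_inf_le' _ _)
  have hKE : K ≤ E := inf_le_right.trans hLE
  have hKp : (Nat.card K).Coprime p :=
    Nat.Coprime.coprime_dvd_left (Subgroup.card_dvd_of_le inf_le_right) hLp
  have hKA := d.commutator_le_centralizer_sigmaCore hG hE hAE hKE hKc hAK hKp
  have hWK : W ≤ K := le_inf hWE' hWL
  have hWcen : W ≤ Subgroup.centralizer (sigmaCore M : Set G) := by
    rw [← hWW]
    exact (Subgroup.commutator_mono hWK le_rfl).trans hKA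
  -- `Y`
  set Y := ⁅E, E⁆ ⊓ Subgroup.centralizer (sigmaCore M : Set G) with hYdef
  have hYc : ∀ a ∈ Y, ∀ b ∈ Y, a * b = b * a := fun a ha b hb => hE'comm a ha.1 b hb.1
  have hWY : W ≤ Y := le_inf hWE' hWcen
  have hMY : M ≤ Subgroup.normalizer (Y : Set G) := by
    intro m hm
    obtain ⟨e, he, s, hs, rfl⟩ := hE.2.2.2 m hm
    apply Subgroup.mul_mem
    · apply normalizer_inf_le'
      exact ⟨hEE' he, ((BG10.le_normalizer_sigmaCore M).trans
        (normalizer_le_normalizer_centralizer _)) (hEM he)⟩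
    · apply Subgroup.centralizer_le_normalizer
      rw [Subgroup.mem_centralizer_iff]
      intro y hy
      exact (Subgroup.mem_centralizer_iff.mp hy.2 s hs).symm
  -- a prime
  have hcard : Nat.card W ≠ 1 := fun h => hW (Subgroup.card_eq_one.mp h)
  obtain ⟨r, hr, hrd⟩ := Nat.exists_prime_and_dvd hcard
  haveI : Fact r.Prime := ⟨hr⟩
  have hWE : W ≤ E := hWL.trans hLE
  have hrσ : r ∉ sigma M := not_sigma_of_dvd_card_le_compl hG hM hE hWE r hr hrd
  have hrp : r ≠ p := by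
    rintro rfl
    have h1 : r ∣ Nat.card L := hrd.trans (Subgroup.card_dvd_of_le hWL)
    exact hr.one_lt.ne' (Nat.Coprime.eq_one_of_dvd hLp.symm h1)
  set X := torsionSub r Y hYc with hXdef
  have hXY : X ≤ Y := torsionSub_le hYc
  have hMX : M ≤ Subgroup.normalizer (X : Set G) :=
    hMY.trans (normalizer_le_normalizer_torsionSub hYc)
  have hXe : IsElementaryAbelian r X := isElementaryAbelian_torsionSub hYc
  have hYE : Y ≤ E := inf_le_left.trans (commutator_self_le E)
  have hXM : X ≤ M := (hXY.trans hYE).trans hEM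
  -- an element of order `r` in `W`
  obtain ⟨x₀, hx₀⟩ := exists_prime_orderOf_dvd_card' r hrd
  have hx₀X : (x₀ : G) ∈ X := by
    refine ⟨hWY x₀.2, ?_⟩
    rw [← Subgroup.coe_pow, ← hx₀, pow_orderOf_eq_one]
    rfl
  have hx₀1 : (x₀ : G) ≠ 1 := by
    intro h
    have : x₀ = 1 := Subtype.ext h
    rw [this, orderOf_one] at hx₀
    exact hr.one_lt.ne hx₀
  have hX1 : X ≠ ⊥ := fun h => hx₀1 (by rw [h] at hx₀X; exact Subgroup.mem_bot.mp hx₀X)
  -- `|X| = r`
  have hXp : IsPGroup r X := isPGroup_of_elementary hXe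
  have hr2 : PRankLE r 2 ↥M := by
    by_contra h
    exact hrσ (alpha_subset_sigma hG hM ((alpha_mem_iff hr).mpr h))
  have hXc : Nat.card X = r := by
    obtain ⟨j, hj⟩ := IsPGroup.iff_card.mp hXp
    have hj0 : j ≠ 0 := by
      rintro rfl
      rw [pow_zero] at hj
      exact hX1 (Subgroup.card_eq_one.mp hj)
    by_cases hj1 : j = 1
    · rw [hj, hj1, pow_one]
    exfalso
    have h1 : r ^ 1 < Nat.card X := by
      rw [hj]; exact Nat.pow_lt_pow_right hr.one_lt (by omega)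
    have h2 : ¬ r ^ 2 < Nat.card X := fun h => not_pRankLE_of_elementary hXM hXe h hr2
    have hc2 := card_eq_sq hXe h1 h2
    have dX : T2 M r X := ⟨hM, hrσ, hXM, hXe, hc2⟩
    apply dX.not_le_centralizer_sigmaCore hG (sigmaCore_ne_bot hG hM)
    exact hXY.trans inf_le_right
  have hXW : X ≤ W := by
    have h1 : Nat.card ↥(X ⊓ W) ∣ r := hXc ▸ Subgroup.card_dvd_of_le inf_le_left
    have h2 : Nat.card ↥(X ⊓ W) ≠ 1 := by
      intro h
      have h3 : (x₀ : G) ∈ X ⊓ W := ⟨hx₀X, x₀.2⟩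
      rw [Subgroup.card_eq_one.mp h] at h3
      exact hx₀1 (Subgroup.mem_bot.mp h3)
    have h3 : Nat.card ↥(X ⊓ W) = r := ((Nat.dvd_prime hr).mp h1).resolve_left h2
    have h4 : X ⊓ W = X := Subgroup.eq_of_le_of_card_ge inf_le_left (by rw [h3, hXc])
    rw [← h4]; exact inf_le_right
  have hAW : A ≤ Subgroup.normalizer (W : Set G) :=
    Cfsg.Agent.Lib.Lead.le_normalizer_commutator_right L A hAL
  have hAX : ¬ A ≤ Subgroup.centralizer (X : Set G) := by
    intro hcen
    haveI : IsMulCommutative ↥W :=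
      isMulCommutative_of_comm (fun a ha b hb => hYc a (hWY ha) b (hWY hb))
    have hcopAW : (Nat.card A).Coprime (Nat.card W) :=
      Nat.Coprime.coprime_dvd_right (Subgroup.card_dvd_of_le hWL) hcopAL
    have h1 := (Cfsg.Agent.S0055.result A W hAW hcopAW).1
    rw [hWW] at h1
    have h2 : X ≤ (W ⊓ Subgroup.centralizer (A : Set G)) ⊓ W := by
      refine le_inf (le_inf hXW ?_) hXW
      intro x hx
      rw [Subgroup.mem_centralizer_iff]
      intro a ha
      exact (Subgroup.mem_centralizer_iff.mp (hcen ha) x hx).symm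
    rw [h1] at h2
    exact hX1 (le_bot_iff.mp h2)
  exact ⟨r, X, hr, hXc, hXW, hMX, hAX, hrσ, hrp, fun x hx hxr => ⟨hWY hx, hxr⟩⟩

end Exc

end Cfsg.Agent.Lib.Lead.BG11
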