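import Mathlib
import Cfsg.Agent.Lib.Lead.BG11g
import Cfsg.Agent.Lib.Helper4.BG11z
import Cfsg.Agent.S0025
import Cfsg.Agent.Lib.Helper2.BG11e

set_option autoImplicit false

/-! Bender–Glauberman, Section 11: `A` centralizes `O_{p'}(E)`. -/

namespace Cfsg.Agent.Lib.Lead.BG11

open Cfsg Cfsg.Agent.Lib.Lead Cfsg.Agent.Lib.Lead.BG10 Cfsg.Agent.Lib.Helper7 Cfsg.Agent.Lib.Helper4
open Cfsg.Agent.Lib.Helper4.BG7 Cfsg.Agent.Lib.Helper4.BG76 Cfsg.Agent.Lib.Helper4.BG8
open Cfsg.Agent.Lib.Helper4.BG9 Cfsg.Agent.Lib.Helper4.BG12 Cfsg.Agent.Lib.Helper4.BGConj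
open Cfsg.Agent.Lib.Helper2.BG11
open scoped commutatorElement

universe u

variable {G : Type u} [Group G] [Finite G]

/-- the index of a complement of `M_σ` in `M` -/
theorem relIndex_complIn_sigmaCore {M E : Subgroup G} (hE : IsComplIn E (sigmaCore M) M) :
    E.relIndex M = Nat.card (sigmaCore M) := by
  have h1 : Nat.card E * E.relIndex M = Nat.card M := by
    rw [← Subgroup.relIndex_bot_left, ← Subgroup.relIndex_bot_left,
      Subgroup.relIndex_mul_relIndex ⊥ E M bot_le hE.1]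
  have h2 : Nat.card (sigmaCore M) * (sigmaCore M).relIndex M = Nat.card M := by
    rw [← Subgroup.relIndex_bot_left, ← Subgroup.relIndex_bot_left,
      Subgroup.relIndex_mul_relIndex ⊥ (sigmaCore M) M bot_le (sigmaCore_le M)]
  rw [← card_complIn_sigmaCore hE, mul_comm] at h2
  have hpos : 0 < Nat.card E := Nat.card_pos
  exact Nat.eq_of_mul_eq_mul_left hpos (h1.trans h2.symm)

namespace Exc

variable {M A A₀ : Subgroup G} {p : ℕ} [hp : Fact p.Prime]

/-- **B&G Section 11**: `A` centralizes `O_{p'}(E)` for a complement `E ≥ A` of `M_σ` -/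
theorem commutator_cG_compl_eq_bot (d : Exc M p A A₀) (hG : IsMinSimpleOddOrder G)
    {E : Subgroup G} (hE : IsComplIn E (sigmaCore M) M) (hAE : A ≤ E) :
    ⁅cG p E, A⁆ = ⊥ := by
  by_contra hW
  obtain ⟨r, X, hr, hXc, hXW, hMX, hAX, hrσ, hrp, hWX⟩ := d.exists_normal_prime_order hG hE hAE hW
  haveI : Fact r.Prime := ⟨hr⟩
  have hM := d.hM
  have hEM : E ≤ M := hE.1
  set L := cG p E with hLdef
  have hLE : L ≤ E := cG_le p E
  have hAL : A ≤ Subgroup.normalizer (L : Set G) := hAE.trans (le_normalizer_cG p E)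
  have hLp : (Nat.card L).Coprime p := card_cG_coprime p E
  have hcopAL : (Nat.card A).Coprime (Nat.card L) := by
    rw [d.hAc]; exact Nat.Coprime.pow_left 2 hLp.symm
  have hLsolv : Group.IsSolvable ↥L :=
    solvable_of_ne_top hG (ne_top_of_le_ne_top hM.1 (hLE.trans hEM))
  set W := ⁅L, A⁆ with hWdef
  have hWL : W ≤ L := Cfsg.Agent.Lib.Lead.commutator_le_left_of_le_normalizer L A hAL
  have hXprime : (Nat.card X).Prime := by rw [hXc]; exact hr
  have hX1 : X ≠ ⊥ := by
    intro h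
    rw [h, Subgroup.card_bot] at hXc
    exact hr.one_lt.ne hXc
  have hXM : X ≤ M := ((hXW.trans hWL).trans hLE).trans hEM
  have hNX : Subgroup.normalizer (X : Set G) = M := normalizer_eq_of_isCoatom hG hM hX1 hXM hMX
  have hAXn : A ≤ Subgroup.normalizer (X : Set G) := d.hAM.trans hMX
  -- `r ∈ τ₂(M)`
  obtain ⟨⟨hr2, -⟩, -, B₀, hB₀, hB₀c, hXB₀⟩ := lemma_10_6 hG hM hrσ hXc hNX.le
  have hB₀M : B₀ ≤ M := by
    have h1 : B₀ ≤ Subgroup.centralizer (X : Set G) :=
      (le_centralizer_self_of_elementary hB₀).trans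
        (Subgroup.centralizer_le (SetLike.coe_subset_coe.mpr hXB₀))
    exact (h1.trans (Subgroup.centralizer_le_normalizer _)).trans hNX.le
  -- `p < r`
  have hpr : p < r := by
    have h1 : p ∣ Nat.card X - 1 := dvd_pred_of_not_le_centralizer hXprime d.isPGroup hAXn hAX
    rw [hXc] at h1
    have h2 : p ≤ r - 1 := Nat.le_of_dvd (by have := hr.two_le; omega) h1
    have := hr.two_le
    omega
  -- an `A`-invariant Sylow `r`-subgroup of `L` containing `X`
  have hXr : IsPGroup r X := IsPGroup.of_card (n := 1) (by rw [hXc, pow_one])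
  obtain ⟨T, hXT, hAT⟩ := Cfsg.Agent.S0025.result A L hAL hcopAL (Or.inr hLsolv) r X
    (hXW.trans hWL) hXr hAXn
  set R : Subgroup G := (T : Subgroup ↥L).map L.subtype with hRdef
  have hRL : SylIn r L R := sylIn_map_sylow T
  have hEsolv : Group.IsSolvable ↥E := solvable_of_ne_top hG (ne_top_of_le_ne_top hM.1 hEM)
  have hpE : p ∣ Nat.card E := d.p_dvd_A.trans (Subgroup.card_dvd_of_le hAE)
  have hp2E : PRankLE p 2 ↥E :=
    Rk2.prankLE_of_injective (Subgroup.inclusion hEM) (Subgroup.inclusion_injective hEM)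
      (d.rank_two hG)
  have hRE : SylIn r E R := sylIn_of_sylIn_cG hEsolv (odd_card_sub hG E) hpE hp2E hpr hRL
  have hRM : SylIn r M R := by
    refine ⟨hRE.1.trans hEM, hRE.2.1, ?_⟩
    rw [← Subgroup.relIndex_mul_relIndex R E M hRE.1 hEM]
    intro hd
    rcases (Nat.Prime.dvd_mul hr).mp hd with h | h
    · exact hRE.2.2 h
    · rw [relIndex_complIn_sigmaCore hE] at h
      exact hrσ ((sigmaCore_hall hG hM).1.2.1 r hr h)
  have hRcomm := sylow_comm_of_not_sigma hG hM hrσ hRM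
  -- `B`
  obtain ⟨c, hc, hcB⟩ := hRM.exists_conj_le hB₀M (isPGroup_of_elementary hB₀)
  set B := cj c B₀ with hBdef
  have dB : T2 M r B :=
    ⟨hM, hrσ, cj_le_of_mem hc hB₀M, isElementaryAbelian_map hB₀ _, by rw [hBdef, card_cj, hB₀c]⟩
  have hΩ : ∀ x ∈ R, x ^ r = 1 → x ∈ B := fun x hx hxr =>
    dB.mem_of_mem_sylow hG hRM hcB hx hxr
  have hXB : X ≤ B := by
    intro x hx
    apply hΩ x (hXT hx)
    rw [← hXc]
    exact pow_card_eq_one_of_mem hx
  have hAB : A ≤ Subgroup.normalizer (B : Set G) := by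
    apply le_normalizer_of_forall_conj
    intro a ha b hb
    apply hΩ
    · exact (Subgroup.mem_normalizer_iff.mp (hAT ha) b).mp (hcB hb)
    · rw [conj_pow, dB.hA.2 b hb, mul_one, mul_inv_cancel]
  have hBL : B ≤ L := hcB.trans hRL.1
  have hBA : ⁅B, A⁆ ≤ X := by
    intro x hx
    apply hWX x (Subgroup.commutator_mono hBL le_rfl hx)
    exact dB.hA.2 x (Cfsg.Agent.Lib.Lead.commutator_le_left_of_le_normalizer B A hAB hx)
  haveI hBc : IsMulCommutative ↥B := dB.hA.1
  have hcopAB : (Nat.card A).Coprime (Nat.card B) := by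
    rw [d.hAc, dB.hAc]
    exact Nat.Coprime.pow 2 2 ((Nat.coprime_primes hp.out hr).mpr (Ne.symm hrp))
  have hX1' : B ⊓ Subgroup.centralizer (A : Set G) ≠ ⊥ := by
    intro h0
    have h1 := (Cfsg.Agent.S0055.result A B hAB hcopAB).2
    rw [h0, bot_sup_eq] at h1
    have h2 : B ≤ X := h1 ▸ hBA
    have h3 := Subgroup.card_le_of_le h2
    rw [dB.hAc, hXc] at h3
    have : r < r ^ 2 := by
      have := hr.one_lt
      nlinarith
    omega
  have hA2 : A ⊓ Subgroup.centralizer (B : Set G) ≠ ⊥ := by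
    obtain ⟨a, ha, ha1, haX⟩ :=
      exists_ne_one_mem_centralizer_of_prime_card hXprime hAXn d.toT2.not_isCyclic
    set Z := Subgroup.zpowers a with hZdef
    have hZA : Z ≤ A := Subgroup.zpowers_le.mpr ha
    have hZB : Z ≤ Subgroup.normalizer (B : Set G) := hZA.trans hAB
    have hcopZB : (Nat.card Z).Coprime (Nat.card B) :=
      Nat.Coprime.coprime_dvd_left (Subgroup.card_dvd_of_le hZA) hcopAB
    have h1 := (Cfsg.Agent.S0055.result Z B hZB hcopZB).1
    have hXZ : X ≤ Subgroup.centralizer (Z : Set G) := by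
      intro x hx
      rw [Subgroup.mem_centralizer_iff]
      intro z hz
      obtain ⟨k, rfl⟩ := Subgroup.mem_zpowers_iff.mp hz
      have hc : Commute x a := Subgroup.mem_centralizer_iff.mp haX x hx
      exact (hc.zpow_right k).eq.symm
    have h2 : ⁅B, Z⁆ ≤ (B ⊓ Subgroup.centralizer (Z : Set G)) ⊓ ⁅B, Z⁆ := by
      refine le_inf ?_ le_rfl
      have h3 : ⁅B, Z⁆ ≤ X := (Subgroup.commutator_mono le_rfl hZA).trans hBA
      exact h3.trans (le_inf hXB hXZ)
    rw [h1, le_bot_iff, Subgroup.commutator_eq_bot_iff_le_centralizer] at h2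
    intro h0
    apply ha1
    have h4 : a ∈ A ⊓ Subgroup.centralizer (B : Set G) := by
      refine Subgroup.mem_inf.mpr ⟨ha, ?_⟩
      rw [Subgroup.mem_centralizer_iff]
      intro b hb
      exact (Subgroup.mem_centralizer_iff.mp (h2 hb) a (Subgroup.mem_zpowers a)).symm
    rw [h0] at h4
    exact Subgroup.mem_bot.mp h4
  exact Cfsg.Agent.Lib.Helper4.BG11.false_of_normal_prime_order hG d.toT2 dB (Ne.symm hrp) hXB hXc hMX hAB hAX hX1' hA2

end Exc

end Cfsg.Agent.Lib.Lead.BG11
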