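import Mathlib
import Cfsg.Agent.Lib.Lead.BG11h
import Cfsg.Agent.Lib.Helper4.BG13f
import Cfsg.Agent.Lib.Helper2.BG11e

set_option autoImplicit false

/-! Bender–Glauberman, Section 11: `M_σ A ⊴ M` and Lemma C. -/

namespace Cfsg.Agent.Lib.Lead.BG11

open Cfsg Cfsg.Agent.Lib.Lead Cfsg.Agent.Lib.Lead.BG10 Cfsg.Agent.Lib.Helper7 Cfsg.Agent.Lib.Helper4
open Cfsg.Agent.Lib.Helper4.BG7 Cfsg.Agent.Lib.Helper4.BG76 Cfsg.Agent.Lib.Helper4.BG8
open Cfsg.Agent.Lib.Helper4.BG9 Cfsg.Agent.Lib.Helper4.BG12 Cfsg.Agent.Lib.Helper4.BGConj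
open Cfsg.Agent.Lib.Helper4.BG13
open Cfsg.Agent.Lib.Helper2.BG11
open scoped commutatorElement

universe u

variable {G : Type u} [Group G] [Finite G]

/-- a `p'`-subgroup of `H` normalized by `H` lies in `O_{p'}(H)` -/
theorem le_cG_of_normal {p : ℕ} {K H : Subgroup G} (hKH : K ≤ H)
    (hn : H ≤ Subgroup.normalizer (K : Set G)) (hcop : (Nat.card K).Coprime p) : K ≤ cG p H := by
  apply le_cG_of_subgroupOf_le hKH
  apply le_sSup
  refine ⟨(Subgroup.normal_subgroupOf_iff_le_normalizer hKH).mpr hn, ?_⟩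
  rw [Nat.card_congr (Subgroup.subgroupOfEquivOfLe hKH).toEquiv]
  exact hcop

theorem sigmaCore_le_cG (hG : IsMinSimpleOddOrder G) {M : Subgroup G} (hM : IsCoatom M) {p : ℕ}
    [hp : Fact p.Prime] (hpσ : p ∉ sigma M) : sigmaCore M ≤ cG p M := by
  apply le_cG_of_normal (sigmaCore_le M) (BG10.le_normalizer_sigmaCore M)
  rw [Nat.coprime_comm, Nat.Prime.coprime_iff_not_dvd hp.out]
  intro hd
  exact hpσ ((sigmaCore_hall hG hM).1.2.1 p hp.out hd)

namespace Exc

variable {M A A₀ : Subgroup G} {p : ℕ} [hp : Fact p.Prime]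

/-- **B&G Section 11**: `[O_{p'}(M), A] ≤ M_σ` -/
theorem commutator_cG_le (d : Exc M p A A₀) (hG : IsMinSimpleOddOrder G) :
    ⁅cG p M, A⁆ ≤ sigmaCore M := by
  have hM := d.hM
  obtain ⟨E, hE, hAE⟩ := exists_complIn_ge hG hM d.hAM (d.toT2.coprime_sigmaCore hG)
  have hbot := d.commutator_cG_compl_eq_bot hG hE hAE
  rw [Subgroup.commutator_eq_bot_iff_le_centralizer] at hbot
  have hEM : E ≤ M := hE.1
  have hσN : sigmaCore M ≤ cG p M := sigmaCore_le_cG hG hM d.hpσ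
  have hNE : cG p M ⊓ E ≤ cG p E := by
    apply le_cG_of_normal inf_le_right
    · exact (le_inf (hEM.trans (le_normalizer_cG p M)) Subgroup.le_normalizer).trans
        (normalizer_inf_le' _ _)
    · exact Nat.Coprime.coprime_dvd_left (Subgroup.card_dvd_of_le inf_le_left)
        (card_cG_coprime p M)
  rw [Subgroup.commutator_le]
  intro u hu a ha
  obtain ⟨e, he, s, hs, rfl⟩ := hE.2.2.2 u (cG_le p M hu)
  have heN : e ∈ cG p M := by
    have := (cG p M).mul_mem hu ((cG p M).inv_mem (hσN hs))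
    rwa [mul_inv_cancel_right] at this
  have hea : a * e = e * a := Subgroup.mem_centralizer_iff.mp (hbot (hNE ⟨heN, he⟩)) a ha
  have h1 : ⁅e * s, a⁆ = e * ⁅s, a⁆ * e⁻¹ := by
    have h2 : a * e⁻¹ = e⁻¹ * a := by
      have : Commute a e := hea
      exact this.inv_right.eq
    rw [commutatorElement_def, commutatorElement_def]
    calc e * s * a * (e * s)⁻¹ * a⁻¹ = e * s * a * s⁻¹ * (e⁻¹ * a⁻¹) := by group
      _ = e * s * a * s⁻¹ * (a * e)⁻¹ := by rw [mul_inv_rev]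
      _ = e * s * a * s⁻¹ * (e * a)⁻¹ := by rw [hea]
      _ = e * (s * a * s⁻¹ * a⁻¹) * e⁻¹ := by group
  rw [h1]
  have hMσ := BG10.le_normalizer_sigmaCore M
  have h3 : ⁅s, a⁆ ∈ sigmaCore M := by
    rw [commutatorElement_def]
    have h4 : a * s⁻¹ * a⁻¹ ∈ sigmaCore M :=
      (Subgroup.mem_normalizer_iff.mp (hMσ (d.hAM ha)) _).mp ((sigmaCore M).inv_mem hs)
    have h5 : s * a * s⁻¹ * a⁻¹ = s * (a * s⁻¹ * a⁻¹) := by group
    rw [h5]
    exact (sigmaCore M).mul_mem hs h4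
  exact (Subgroup.mem_normalizer_iff.mp (hMσ (hEM he)) _).mp h3

/-- **B&G Section 11**: `M_σ A ⊴ M` -/
theorem normal (d : Exc M p A A₀) (hG : IsMinSimpleOddOrder G) :
    M ≤ Subgroup.normalizer ((sigmaCore M ⊔ A : Subgroup G) : Set G) := by
  have hM := d.hM
  have hMσ := BG10.le_normalizer_sigmaCore M
  obtain ⟨P, hAP, hP⟩ := exists_sylIn_ge d.hAM d.isPGroup
  have hpl : PLengthLE p 1 ↥M := corollary_10_7a hG p M hM.1
  have hcomm := d.commutator_cG_le hG
  -- `O_{p'}(M)` normalizes `M_σ A`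
  have hU : cG p M ≤ Subgroup.normalizer ((sigmaCore M ⊔ A : Subgroup G) : Set G) := by
    apply le_normalizer_of_forall_conj
    intro u hu x hx
    have h1 : cj u (sigmaCore M ⊔ A) ≤ sigmaCore M ⊔ A := by
      rw [cj_sup]
      apply sup_le
      · have : cj u (sigmaCore M) = sigmaCore M :=
          mem_normalizer_iff_cj.mp (hMσ (cG_le p M hu))
        rw [this]; exact le_sup_left
      · rintro _ ⟨a, ha, rfl⟩
        have h2 : ⁅u, a⁆ ∈ sigmaCore M := hcomm (Subgroup.commutator_mem_commutator hu ha)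
        have h3 : (MulAut.conj u).toMonoidHom a = ⁅u, a⁆ * a := by
          rw [commutatorElement_def]
          show u * a * u⁻¹ = u * a * u⁻¹ * a⁻¹ * a
          group
        rw [h3]
        exact Subgroup.mul_mem_sup h2 ha
    apply h1
    rw [mem_cj]
    have : u⁻¹ * (u * x * u⁻¹) * u = x := by group
    rw [this]; exact hx
  intro m hm
  obtain ⟨u, hu, n, hn, hnM, rfl⟩ := exists_mul_of_pLength_one hpl hP m hm
  apply Subgroup.mul_mem _ (hU hu)
  apply Subgroup.normalizer_inf_normalizer_le_normalizer_sup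
  exact ⟨hMσ hnM, d.toT2.normalizer_sylow_le hG hP hAP hn⟩

end Exc

/-- **Lemma C**: `H` maximal, `A ≤ H` elementary abelian of order `p ^ 2`, `A₀ ≤ A` of order `p`
with `N_G(A₀) ≤ H`; every `A`-invariant `p'`-subgroup `Y ≤ H` has `[Y, A] ≤ H_σ` -/
theorem lemmaC (hG : IsMinSimpleOddOrder G) {H A A₀ Y : Subgroup G} {p : ℕ} [hp : Fact p.Prime]
    (hH : IsCoatom H) (hAH : A ≤ H) (hA : IsElementaryAbelian p A) (hAc : Nat.card A = p ^ 2)
    (hA₀A : A₀ ≤ A) (hA₀c : Nat.card A₀ = p) (hN : Subgroup.normalizer (A₀ : Set G) ≤ H)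
    (hYH : Y ≤ H) (hY : (Nat.card Y).Coprime p)
    (hAY : A ≤ Subgroup.normalizer (Y : Set G)) : ⁅Y, A⁆ ≤ sigmaCore H := by
  by_cases hpσ : p ∈ sigma H
  · have hAσ : A ≤ sigmaCore H :=
      le_sigmaCore_of_isPGroup hG hH hpσ hAH (isPGroup_of_elementary hA)
    rw [Subgroup.commutator_comm]
    exact (Subgroup.commutator_mono hAσ hYH).trans
      (Cfsg.Agent.Lib.Lead.commutator_le_left_of_le_normalizer _ _ (BG10.le_normalizer_sigmaCore H))
  · have d : Exc H p A A₀ := ⟨⟨hH, hpσ, hAH, hA, hAc⟩, hA₀A, hA₀c, hN⟩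
    have hYc : Y ≤ cG p H := d.toT2.le_cG hG hH.1 hAH hYH hY hAY
    exact (Subgroup.commutator_mono hYc le_rfl).trans (d.commutator_cG_le hG)

end Cfsg.Agent.Lib.Lead.BG11
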