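import Mathlib
import Cfsg.Agent.Lib.Lead.BG11i
import Cfsg.Agent.Lib.Helper4.BG13b
import Cfsg.Agent.S0058

set_option autoImplicit false

/-! Bender–Glauberman, Proposition 12.4 (main case), part 1. -/

namespace Cfsg.Agent.Lib.Lead.BG11

open Cfsg Cfsg.Agent.Lib.Lead Cfsg.Agent.Lib.Lead.BG10 Cfsg.Agent.Lib.Helper7 Cfsg.Agent.Lib.Helper4
open Cfsg.Agent.Lib.Helper4.BG7 Cfsg.Agent.Lib.Helper4.BG76 Cfsg.Agent.Lib.Helper4.BG8
open Cfsg.Agent.Lib.Helper4.BG9 Cfsg.Agent.Lib.Helper4.BG12 Cfsg.Agent.Lib.Helper4.BGConj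
open Cfsg.Agent.Lib.Helper4.BG13
open Cfsg.Agent.Lib.Helper2.BG11
open scoped commutatorElement

universe u

variable {G : Type u} [Group G] [Finite G]

theorem card_lt_of_lt' {A B : Subgroup G} (h : A < B) : Nat.card A < Nat.card B := by
  by_contra hcon
  exact h.ne (Subgroup.eq_of_le_of_card_ge h.le (by omega))

/-- hypotheses of the main case of Proposition 12.4 -/
structure H124 (M : Subgroup G) (p : ℕ) (A : Subgroup G) : Prop where
  hM : IsCoatom M
  hAM : A ≤ M
  hA : IsElementaryAbelian p A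
  hAc : Nat.card A = p ^ 2
  hH : ∀ A₀ : Subgroup G, A₀ ≤ A → Nat.card A₀ = p →
    ¬ (Subgroup.normalizer (A₀ : Set G) ≤ M ∧ ∀ L : Subgroup G, IsCoatom L →
      Subgroup.normalizer (A₀ : Set G) ≤ L → L = M)

namespace H124

variable {M A : Subgroup G} {p : ℕ} [hp : Fact p.Prime]

theorem isPGroup (d : H124 M p A) : IsPGroup p A := isPGroup_of_elementary d.hA

theorem ne_bot (d : H124 M p A) : A ≠ ⊥ := by
  intro h
  have h1 := d.hAc
  rw [h, Subgroup.card_bot] at h1
  have := Nat.one_lt_pow (n := 2) (by norm_num) hp.out.one_lt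
  omega

theorem not_isCyclic (d : H124 M p A) : ¬ IsCyclic ↥A := by
  apply not_isCyclic_of_elementary d.hA
  rw [d.hAc]
  calc p = p ^ 1 := (pow_one p).symm
    _ < p ^ 2 := Nat.pow_lt_pow_right hp.out.one_lt (by norm_num)

theorem card_zpowers (d : H124 M p A) {a : G} (ha : a ∈ A) (ha1 : a ≠ 1) :
    Nat.card (Subgroup.zpowers a) = p := by
  rw [Nat.card_zpowers]
  exact orderOf_eq_prime (d.hA.2 a ha) ha1

theorem exists_sub (d : H124 M p A) : ∃ A₀ : Subgroup G, A₀ ≤ A ∧ Nat.card A₀ = p := by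
  obtain ⟨⟨a, ha⟩, ha1⟩ := (Subgroup.ne_bot_iff_exists_ne_one).mp d.ne_bot
  have ha1' : a ≠ 1 := fun h => ha1 (Subtype.ext h)
  exact ⟨Subgroup.zpowers a, Subgroup.zpowers_le.mpr ha, d.card_zpowers ha ha1'⟩

theorem normalizer_ne_top_of_card (hG : IsMinSimpleOddOrder G) {A₀ : Subgroup G}
    (hA₀c : Nat.card A₀ = p) : Subgroup.normalizer (A₀ : Set G) ≠ ⊤ := by
  have hA₀p : IsPGroup p A₀ := IsPGroup.of_card (n := 1) (by rw [hA₀c, pow_one])
  have hA₀1 : A₀ ≠ ⊥ := by
    intro h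
    rw [h, Subgroup.card_bot] at hA₀c
    exact hp.out.one_lt.ne hA₀c
  exact BG8.normalizer_ne_top hG hA₀1 (isPGroup_ne_top hG hA₀p)

theorem exists_max (d : H124 M p A) (hG : IsMinSimpleOddOrder G) {A₀ : Subgroup G}
    (hA₀A : A₀ ≤ A) (hA₀c : Nat.card A₀ = p) :
    ∃ H : Subgroup G, IsCoatom H ∧ H ≠ M ∧ Subgroup.normalizer (A₀ : Set G) ≤ H := by
  have hNtop := normalizer_ne_top_of_card hG hA₀c
  by_cases hN : Subgroup.normalizer (A₀ : Set G) ≤ M
  · have h1 := d.hH A₀ hA₀A hA₀c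
    push Not at h1
    obtain ⟨L, hL, hNL, hne⟩ := h1 hN
    exact ⟨L, hL, hne, hNL⟩
  · obtain ⟨H, hH, hNH⟩ := exists_coatom_ge hNtop
    exact ⟨H, hH, fun h => hN (h ▸ hNH), hNH⟩

theorem not_uniq (d : H124 M p A) (hG : IsMinSimpleOddOrder G) {K A₀ : Subgroup G}
    (hK : InUniqueMaximal K) (hKM : K ≤ M) (hA₀A : A₀ ≤ A) (hA₀c : Nat.card A₀ = p)
    (hKN : K ≤ Subgroup.normalizer (A₀ : Set G)) : False :=
  d.hH A₀ hA₀A hA₀c (uniq_of_le hK d.hM hKM hKN (normalizer_ne_top_of_card hG hA₀c))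

theorem mem_of_pow (d : H124 M p A) (hG : IsMinSimpleOddOrder G) {y : G} (hyM : y ∈ M)
    (hyC : y ∈ Subgroup.centralizer (A : Set G)) (hyp : y ^ p = 1) : y ∈ A := by
  by_contra hyA
  set B := A ⊔ Subgroup.zpowers y with hB
  have hBe : IsElementaryAbelian p B := elementary_sup_zpowers d.hA hyC hyp
  have hAB : A < B := by
    refine lt_of_le_of_ne le_sup_left (fun h => hyA ?_)
    rw [h]
    exact le_sup_right (a := A) (Subgroup.mem_zpowers y)
  have hcard : p ^ 2 < Nat.card B := by rw [← d.hAc]; exact card_lt_of_lt' hAB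
  have hBM : B ≤ M := sup_le d.hAM (Subgroup.zpowers_le.mpr hyM)
  have hBp : IsPGroup p B := isPGroup_of_elementary hBe
  have hr : ¬ PRankLE p 2 ↥B := not_pRankLE_of_elementary le_rfl hBe hcard
  have hU := uniq_of_rank_three hG hBp hr
  obtain ⟨A₀, hA₀A, hA₀c⟩ := d.exists_sub
  apply d.not_uniq hG hU hBM hA₀A hA₀c
  exact ((le_centralizer_self_of_elementary hBe).trans
    (Subgroup.centralizer_le (SetLike.coe_subset_coe.mpr (hA₀A.trans le_sup_left)))).trans
    (Subgroup.centralizer_le_normalizer _)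

/-- the Sylow `p`-subgroups of `M` containing `A` are abelian -/
theorem sylow_comm (d : H124 M p A) (hG : IsMinSimpleOddOrder G) {P : Subgroup G}
    (hP : SylIn p M P) (hAP : A ≤ P) : ∀ a ∈ P, ∀ b ∈ P, a * b = b * a := by
  by_contra hcon
  have hna : ¬ IsMulCommutative ↥P := fun h => hcon (comm_of_isMulCommutative h)
  have hU := nonabelian_uniq hG p P hP.2.1 hna
  have hP1 : P ≠ ⊥ := fun h => d.ne_bot (le_bot_iff.mp (h ▸ hAP))
  haveI : Nontrivial ↥P := (Subgroup.nontrivial_iff_ne_bot P).mpr hP1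
  have hcn : Nontrivial ↥(Subgroup.center ↥P) := hP.2.1.center_nontrivial
  have hpc : p ∣ Nat.card ↥(Subgroup.center ↥P) := by
    rcases (hP.2.1.to_subgroup (Subgroup.center ↥P)).card_eq_or_dvd with h | h
    · exfalso
      have := (Subgroup.nontrivial_iff_ne_bot _).mp hcn
      exact this (Subgroup.card_eq_one.mp h)
    · exact h
  obtain ⟨z, hz⟩ := exists_prime_orderOf_dvd_card' p hpc
  have hzc : ∀ x : ↥P, x * (z : ↥P) = (z : ↥P) * x := fun x => Subgroup.mem_center_iff.mp z.2 x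
  set z' : G := ((z : ↥P) : G) with hz'
  have hz'P : z' ∈ P := (z : ↥P).2
  have hz'c : ∀ x ∈ P, x * z' = z' * x := fun x hx => congrArg Subtype.val (hzc ⟨x, hx⟩)
  have hz'p : z' ^ p = 1 := by
    have h1 : z ^ p = 1 := by rw [← hz]; exact pow_orderOf_eq_one z
    have h2 := congrArg (fun w : ↥(Subgroup.center ↥P) => ((w : ↥P) : G)) h1
    simpa using h2
  have hz'1 : z' ≠ 1 := by
    intro h
    have h1 : z = 1 := by
      apply Subtype.ext
      apply Subtype.ext
      exact h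
    rw [h1, orderOf_one] at hz
    exact hp.out.one_lt.ne hz
  have hz'A : z' ∈ A := by
    apply d.mem_of_pow hG (hP.1 hz'P) _ hz'p
    rw [Subgroup.mem_centralizer_iff]
    intro a ha
    exact hz'c a (hAP ha)
  apply d.not_uniq hG hU hP.1 (Subgroup.zpowers_le.mpr hz'A) (d.card_zpowers hz'A hz'1)
  apply le_trans _ (Subgroup.centralizer_le_normalizer _)
  intro x hx
  rw [Subgroup.mem_centralizer_iff]
  intro w hw
  obtain ⟨k, rfl⟩ := Subgroup.mem_zpowers_iff.mp hw
  have hc : Commute x z' := hz'c x hx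
  exact (hc.zpow_right k).eq.symm

theorem mem_of_mem_sylow (d : H124 M p A) (hG : IsMinSimpleOddOrder G) {P : Subgroup G}
    (hP : SylIn p M P) (hAP : A ≤ P) {x : G} (hx : x ∈ P) (hxp : x ^ p = 1) : x ∈ A := by
  apply d.mem_of_pow hG (hP.1 hx) _ hxp
  rw [Subgroup.mem_centralizer_iff]
  intro a ha
  exact d.sylow_comm hG hP hAP a (hAP ha) x hx

theorem not_alpha (d : H124 M p A) (hG : IsMinSimpleOddOrder G) : p ∉ alpha M := by
  intro hα
  have hr : ¬ PRankLE p 2 ↥M := (alpha_mem_iff hp.out).mp hα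
  obtain ⟨E₃, hE₃M, hE₃, hcard⟩ := exists_elementary_of_not_pRankLE hr
  obtain ⟨P, hAP, hP⟩ := exists_sylIn_ge d.hAM d.isPGroup
  obtain ⟨c, hc, hcE⟩ := hP.exists_conj_le hE₃M (isPGroup_of_elementary hE₃)
  have h1 : cj c E₃ ≤ A := by
    intro x hx
    apply d.mem_of_mem_sylow hG hP hAP (hcE hx)
    exact (isElementaryAbelian_map hE₃ _).2 x hx
  have h2 := Subgroup.card_le_of_le h1
  rw [card_cj, d.hAc] at h2
  omega

/-- a normal `p'`-subgroup `N` of `M` meeting `H_σ` trivially for every maximal `H` not conjugate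
to `M` is centralized by `A` -/
theorem centralizes (d : H124 M p A) (hG : IsMinSimpleOddOrder G) {N : Subgroup G} (hNM : N ≤ M)
    (hMN : M ≤ Subgroup.normalizer (N : Set G)) (hNp : (Nat.card N).Coprime p)
    (hdis : ∀ H : Subgroup G, IsCoatom H → (∀ g : G, M ≠ cj g H) → N ⊓ sigmaCore H = ⊥) :
    N ≤ Subgroup.centralizer (A : Set G) := by
  have hM := d.hM
  haveI : IsMulCommutative ↥A := d.hA.1
  have hAN : A ≤ Subgroup.normalizer (N : Set G) := d.hAM.trans hMN
  have hcop : (Nat.card A).Coprime (Nat.card N) := by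
    rw [d.hAc]; exact Nat.Coprime.pow_left 2 hNp.symm
  have hgen := Cfsg.Agent.S0058.result A N d.not_isCyclic hAN hcop
  rw [← hgen]
  apply iSup₂_le
  rintro a ⟨haA, ha1⟩
  set A₀ := Subgroup.zpowers a with hA₀
  have hA₀A : A₀ ≤ A := Subgroup.zpowers_le.mpr haA
  have hA₀c : Nat.card A₀ = p := d.card_zpowers haA ha1
  rw [← centralizer_zpowers a]
  obtain ⟨H, hH, hHM, hNH⟩ := d.exists_max hG hA₀A hA₀c
  set Y := N ⊓ Subgroup.centralizer (A₀ : Set G) with hY
  have hAC : A ≤ Subgroup.centralizer (A₀ : Set G) :=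
    (le_centralizer_self_of_elementary d.hA).trans
      (Subgroup.centralizer_le (SetLike.coe_subset_coe.mpr hA₀A))
  have hCH : Subgroup.centralizer (A₀ : Set G) ≤ H :=
    (Subgroup.centralizer_le_normalizer _).trans hNH
  have hAH : A ≤ H := hAC.trans hCH
  have hYH : Y ≤ H := inf_le_right.trans hCH
  have hYp : (Nat.card Y).Coprime p :=
    Nat.Coprime.coprime_dvd_left (Subgroup.card_dvd_of_le inf_le_left) hNp
  have hAY : A ≤ Subgroup.normalizer (Y : Set G) :=
    (le_inf hAN (hAC.trans Subgroup.le_normalizer)).trans (normalizer_inf_le' _ _)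
  have hC := lemmaC hG hH hAH d.hA d.hAc hA₀A hA₀c hNH hYH hYp hAY
  have hYA : ⁅Y, A⁆ ≤ Y := Cfsg.Agent.Lib.Lead.commutator_le_left_of_le_normalizer Y A hAY
  have hbot : ⁅Y, A⁆ = ⊥ := by
    by_cases hnc : ∀ g : G, M ≠ cj g H
    · rw [eq_bot_iff, ← hdis H hH hnc]
      exact le_inf (hYA.trans inf_le_left) hC
    · push Not at hnc
      obtain ⟨g, hg⟩ := hnc
      have hA₀p : IsPGroup p A₀ := IsPGroup.of_card (n := 1) (by rw [hA₀c, pow_one])
      have hpσ : p ∉ sigma M := by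
        intro hpσ
        have h1 := not_conj_of_normalizer_le hG hM hpσ hA₀p (hA₀A.trans d.hAM) hHM hNH g⁻¹
        apply h1
        rw [hg, cj_inv_cj]
      have hpσH : p ∉ sigma H := by
        intro h
        apply hpσ
        rw [hg, sigma_cj]
        exact h
      have dH : Exc H p A A₀ := ⟨⟨hH, hpσH, hAH, d.hA, d.hAc⟩, hA₀A, hA₀c, hNH⟩
      have hgH : g ∉ H := by
        intro h
        apply hHM
        rw [hg, cj_eq_self_of_mem h]
      have hti := dH.ti hG hgH (by rw [← hg]; exact d.hAM)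
      rw [← hg] at hti
      rw [eq_bot_iff, ← hti]
      exact le_inf hC ((hYA.trans inf_le_left).trans hNM)
  rw [Subgroup.commutator_eq_bot_iff_le_centralizer] at hbot
  exact hbot

end H124

end Cfsg.Agent.Lib.Lead.BG11
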