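import Mathlib
import Cfsg.Agent.Lib.Lead.BG11j

set_option autoImplicit false

/-! Bender–Glauberman, Proposition 12.4, part 2. -/

namespace Cfsg.Agent.Lib.Lead.BG11

open Cfsg Cfsg.Agent.Lib.Lead Cfsg.Agent.Lib.Lead.BG10 Cfsg.Agent.Lib.Helper7 Cfsg.Agent.Lib.Helper4
open Cfsg.Agent.Lib.Helper4.BG7 Cfsg.Agent.Lib.Helper4.BG76 Cfsg.Agent.Lib.Helper4.BG8
open Cfsg.Agent.Lib.Helper4.BG9 Cfsg.Agent.Lib.Helper4.BG12 Cfsg.Agent.Lib.Helper4.BGConj
open Cfsg.Agent.Lib.Helper4.BG13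
open Cfsg.Agent.Lib.Helper2.BG11
open scoped commutatorElement

universe u

variable {G : Type u} [Group G] [Finite G]

namespace H124

variable {M A : Subgroup G} {p : ℕ} [hp : Fact p.Prime]

theorem alphaCore_le_centralizer (d : H124 M p A) (hG : IsMinSimpleOddOrder G) :
    alphaCore M ≤ Subgroup.centralizer (A : Set G) := by
  apply d.centralizes hG (alphaCore_le M) (le_normalizer_piCoreOf (alpha M) M)
  · rw [Nat.coprime_comm, Nat.Prime.coprime_iff_not_dvd hp.out]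
    intro hd
    exact d.not_alpha hG ((theorem_10_2 hG d.hM).1.2.1 p hp.out hd)
  · intro H hH hnc
    exact alphaCore_inf_sigmaCore hG d.hM hH hnc

theorem alphaCore_eq_bot (d : H124 M p A) (hG : IsMinSimpleOddOrder G) : alphaCore M = ⊥ := by
  by_contra hne
  have hM := d.hM
  have hcen := d.alphaCore_le_centralizer hG
  have hcard : Nat.card (alphaCore M) ≠ 1 := fun h => hne (Subgroup.card_eq_one.mp h)
  obtain ⟨q, hq, hqd⟩ := Nat.exists_prime_and_dvd hcard
  haveI : Fact q.Prime := ⟨hq⟩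
  have hqα : q ∈ alpha M := (theorem_10_2 hG hM).1.2.1 q hq hqd
  have hr : ¬ PRankLE q 2 ↥M := (alpha_mem_iff hq).mp hqα
  obtain ⟨E₃, hE₃M, hE₃, hcardE⟩ := exists_elementary_of_not_pRankLE hr
  obtain ⟨Q, hEQ, hQ⟩ := exists_sylIn_ge hE₃M (isPGroup_of_elementary hE₃)
  have hqσ := alpha_subset_sigma hG hM hqα
  have hQα : Q ≤ alphaCore M := (sigmaData_of_sylIn hM hqσ hQ).le_alphaCore hG hqα
  have hE₃α : E₃ ≤ alphaCore M ⊓ Subgroup.centralizer (A : Set G) :=
    le_inf (hEQ.trans hQα) ((hEQ.trans hQα).trans hcen)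
  have hr1 : ¬ RankLE 1 ↥(alphaCore M ⊓ Subgroup.centralizer (A : Set G) : Subgroup G) := by
    apply not_rankLE_of_not_pRankLE hq
    apply not_pRankLE_of_elementary hE₃α hE₃
    calc q ^ 1 < q ^ 2 := Nat.pow_lt_pow_right hq.one_lt (by norm_num)
      _ < Nat.card E₃ := hcardE
  have hXα : ∀ q' : ℕ, q'.Prime → q' ∣ Nat.card A → q' ∉ alpha M := by
    intro q' hq' hd
    rw [d.hAc] at hd
    have : q' = p := (Nat.prime_dvd_prime_iff_eq hq' hp.out).mp (hq'.dvd_of_dvd_pow hd)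
    rw [this]; exact d.not_alpha hG
  have hU := lemma_10_3 hG hM A d.hAM hXα hr1
  obtain ⟨A₀, hA₀A, hA₀c⟩ := d.exists_sub
  apply d.not_uniq hG hU inf_le_left hA₀A hA₀c
  exact inf_le_right.trans ((Subgroup.centralizer_le (SetLike.coe_subset_coe.mpr hA₀A)).trans
    (Subgroup.centralizer_le_normalizer _))

theorem rankLE_two (d : H124 M p A) (hG : IsMinSimpleOddOrder G) : RankLE 2 ↥M := by
  intro q hq
  haveI : Fact q.Prime := ⟨hq⟩
  by_contra hr
  have hqα : q ∈ alpha M := (alpha_mem_iff hq).mpr hr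
  obtain ⟨E₃, hE₃M, hE₃, hcardE⟩ := exists_elementary_of_not_pRankLE hr
  obtain ⟨Q, hEQ, hQ⟩ := exists_sylIn_ge hE₃M (isPGroup_of_elementary hE₃)
  have hqσ := alpha_subset_sigma hG d.hM hqα
  have hQα : Q ≤ alphaCore M := (sigmaData_of_sylIn d.hM hqσ hQ).le_alphaCore hG hqα
  rw [d.alphaCore_eq_bot hG] at hQα
  have h1 : E₃ = ⊥ := le_bot_iff.mp (hEQ.trans hQα)
  rw [h1, Subgroup.card_bot] at hcardE
  have := Nat.one_lt_pow (n := 2) (by norm_num) hq.one_lt
  omega

theorem commutator_nilpotent (d : H124 M p A) (hG : IsMinSimpleOddOrder G) :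
    Group.IsNilpotent ↥⁅M, M⁆ :=
  commutator_nilpotent_of_rankLE_two (odd_card_sub hG M) (solvable_of_ne_top hG d.hM.1)
    (d.rankLE_two hG)

theorem nilpotent (d : H124 M p A) (hG : IsMinSimpleOddOrder G) :
    Group.IsNilpotent ↥(sigmaCore M) :=
  isNilpotent_of_le (d.commutator_nilpotent hG) (sigmaCore_le_commutator hG d.hM)

theorem sigma (d : H124 M p A) (hG : IsMinSimpleOddOrder G) : p ∈ sigma M := by
  by_contra hpσ
  have dT : T2 M p A := ⟨d.hM, hpσ, d.hAM, d.hA, d.hAc⟩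
  have hnil := d.nilpotent hG
  have hcen : sigmaCore M ≤ Subgroup.centralizer (A : Set G) := by
    apply d.centralizes hG (sigmaCore_le M) (BG10.le_normalizer_sigmaCore M)
    · rw [Nat.coprime_comm, Nat.Prime.coprime_iff_not_dvd hp.out]
      intro hd
      exact hpσ ((sigmaCore_hall hG d.hM).1.2.1 p hp.out hd)
    · intro H hH hnc
      exact sigmaCore_inf_sigmaCore hG d.hM hH hnc hnil
  apply dT.not_le_centralizer_sigmaCore hG (sigmaCore_ne_bot hG d.hM)
  intro a ha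
  rw [Subgroup.mem_centralizer_iff]
  intro s hs
  exact (Subgroup.mem_centralizer_iff.mp (hcen hs) a ha).symm

theorem normalizer_eq (d : H124 M p A) (hG : IsMinSimpleOddOrder G) :
    Subgroup.normalizer (A : Set G) = M := by
  have hM := d.hM
  have hpσ := d.sigma hG
  obtain ⟨P, hAP, hP⟩ := exists_sylIn_ge d.hAM d.isPGroup
  have hPσ : P ≤ sigmaCore M := le_sigmaCore_of_isPGroup hG hM hpσ hP.1 hP.2.1
  have hPs : SylIn p (sigmaCore M) P := hP.mono hPσ (sigmaCore_le M)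
  have hMP : M ≤ Subgroup.normalizer (P : Set G) :=
    le_normalizer_of_sylIn_nilpotent (d.nilpotent hG) hPs (BG10.le_normalizer_sigmaCore M)
  have hMA : M ≤ Subgroup.normalizer (A : Set G) := by
    apply le_normalizer_of_forall_conj
    intro m hm a ha
    apply d.mem_of_mem_sylow hG hP hAP
    · exact (Subgroup.mem_normalizer_iff.mp (hMP hm) a).mp (hAP ha)
    · rw [conj_pow, d.hA.2 a ha, mul_one, mul_inv_cancel]
  exact normalizer_eq_of_isCoatom hG hM d.ne_bot d.hAM hMA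

theorem centralizer_le (d : H124 M p A) (hG : IsMinSimpleOddOrder G) :
    Subgroup.centralizer (A : Set G) ≤ M :=
  (Subgroup.centralizer_le_normalizer _).trans (d.normalizer_eq hG).le

end H124

/-- **Bender–Glauberman, Proposition 12.4** -/
theorem prop_12_4 (hG : IsMinSimpleOddOrder G) {M : Subgroup G} (hM : IsCoatom M) {p : ℕ}
    [Fact p.Prime] {A : Subgroup G} (hAM : A ≤ M) (hA : IsElementaryAbelian p A)
    (hAc : Nat.card A = p ^ 2) :
    Subgroup.centralizer (A : Set G) ≤ M ∧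
      ((∀ A₀ : Subgroup G, A₀ ≤ A → Nat.card A₀ = p →
          ¬ (Subgroup.normalizer (A₀ : Set G) ≤ M ∧ ∀ L : Subgroup G, IsCoatom L →
            Subgroup.normalizer (A₀ : Set G) ≤ L → L = M)) →
        p ∈ sigma M ∧ alphaCore M = ⊥ ∧ Group.IsNilpotent ↥(sigmaCore M)) := by
  by_cases hH : ∀ A₀ : Subgroup G, A₀ ≤ A → Nat.card A₀ = p →
      ¬ (Subgroup.normalizer (A₀ : Set G) ≤ M ∧ ∀ L : Subgroup G, IsCoatom L →
        Subgroup.normalizer (A₀ : Set G) ≤ L → L = M)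
  · have d : H124 M p A := ⟨hM, hAM, hA, hAc, hH⟩
    exact ⟨d.centralizer_le hG, fun _ => ⟨d.sigma hG, d.alphaCore_eq_bot hG, d.nilpotent hG⟩⟩
  · refine ⟨?_, fun h => absurd h hH⟩
    push Not at hH
    obtain ⟨A₀, hA₀A, hA₀c, hN, -⟩ := hH
    exact (Subgroup.centralizer_le (SetLike.coe_subset_coe.mpr hA₀A)).trans
      ((Subgroup.centralizer_le_normalizer _).trans hN)

end Cfsg.Agent.Lib.Lead.BG11
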