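import Mathlib
import Cfsg.Agent.Lib.Lead.BG11k

set_option autoImplicit false

/-! Bender–Glauberman, Theorem 12.5 and Corollary 12.6. -/

namespace Cfsg.Agent.Lib.Lead.BG11

open Cfsg Cfsg.Agent.Lib.Lead Cfsg.Agent.Lib.Lead.BG10 Cfsg.Agent.Lib.Helper7 Cfsg.Agent.Lib.Helper4
open Cfsg.Agent.Lib.Helper4.BG7 Cfsg.Agent.Lib.Helper4.BG76 Cfsg.Agent.Lib.Helper4.BG8
open Cfsg.Agent.Lib.Helper4.BG9 Cfsg.Agent.Lib.Helper4.BG12 Cfsg.Agent.Lib.Helper4.BGConj
open Cfsg.Agent.Lib.Helper4.BG13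
open Cfsg.Agent.Lib.Helper2.BG11
open scoped commutatorElement

universe u

variable {G : Type u} [Group G] [Finite G]

namespace T2

variable {M A : Subgroup G} {p : ℕ} [hp : Fact p.Prime]

/-- by Proposition 12.4 some subgroup of order `p` of `A` has its normalizer in `M` -/
theorem exists_exc (d : T2 M p A) (hG : IsMinSimpleOddOrder G) :
    ∃ A₀ : Subgroup G, Exc M p A A₀ := by
  by_contra hcon
  have h1 := (prop_12_4 hG d.hM d.hAM d.hA d.hAc).2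
  apply d.hpσ
  apply (h1 _).1
  intro A₀ hA₀A hA₀c hN
  exact hcon ⟨A₀, ⟨d, hA₀A, hA₀c, hN.1⟩⟩

end T2

/-- **Lemma C′**: every `A`-invariant `p'`-subgroup `Y` of the maximal subgroup `H ≥ A` has
`[Y, A] ≤ H_σ` -/
theorem commutator_le_sigmaCore_of_invariant (hG : IsMinSimpleOddOrder G) {H A Y : Subgroup G}
    {p : ℕ} [hp : Fact p.Prime] (hH : IsCoatom H) (hAH : A ≤ H) (hA : IsElementaryAbelian p A)
    (hAc : Nat.card A = p ^ 2) (hYH : Y ≤ H) (hY : (Nat.card Y).Coprime p)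
    (hAY : A ≤ Subgroup.normalizer (Y : Set G)) : ⁅Y, A⁆ ≤ sigmaCore H := by
  by_cases hpσ : p ∈ sigma H
  · have hAσ : A ≤ sigmaCore H :=
      le_sigmaCore_of_isPGroup hG hH hpσ hAH (isPGroup_of_elementary hA)
    rw [Subgroup.commutator_comm]
    exact (Subgroup.commutator_mono hAσ hYH).trans
      (Cfsg.Agent.Lib.Lead.commutator_le_left_of_le_normalizer _ _ (BG10.le_normalizer_sigmaCore H))
  · have dT : T2 H p A := ⟨hH, hpσ, hAH, hA, hAc⟩
    obtain ⟨A₀, d⟩ := dT.exists_exc hG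
    exact lemmaC hG hH hAH hA hAc d.hA₀A d.hA₀c d.hN hYH hY hAY

namespace Exc

variable {M A A₀ : Subgroup G} {p : ℕ} [hp : Fact p.Prime]

/-- **Theorem 12.5(e)**: `M_σ ∩ M* = 1` for every maximal subgroup `M* ≠ M` containing `A` -/
theorem sigmaCore_inf_eq_bot (d : Exc M p A A₀) (hG : IsMinSimpleOddOrder G) {Ms : Subgroup G}
    (hMs : IsCoatom Ms) (hne : Ms ≠ M) (hAMs : A ≤ Ms) : sigmaCore M ⊓ Ms = ⊥ := by
  have hM := d.hM
  by_cases hnc : ∀ g : G, M ≠ cj g Ms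
  · set D := sigmaCore M ⊓ Ms with hD
    have hDp : (Nat.card D).Coprime p := by
      have h1 : (Nat.card (sigmaCore M)).Coprime p := by
        rw [Nat.coprime_comm, Nat.Prime.coprime_iff_not_dvd hp.out]
        intro hd
        exact d.hpσ ((sigmaCore_hall hG hM).1.2.1 p hp.out hd)
      exact Nat.Coprime.coprime_dvd_left (Subgroup.card_dvd_of_le inf_le_left) h1
    have hAD : A ≤ Subgroup.normalizer (D : Set G) :=
      (le_inf d.toT2.le_normalizer_sigmaCore (hAMs.trans Subgroup.le_normalizer)).trans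
        (normalizer_inf_le' _ _)
    have h1 := commutator_le_sigmaCore_of_invariant hG hMs hAMs d.hA d.hAc
      (inf_le_right : D ≤ Ms) hDp hAD
    have h2 : ⁅D, A⁆ ≤ D := Cfsg.Agent.Lib.Lead.commutator_le_left_of_le_normalizer D A hAD
    have h3 : ⁅D, A⁆ = ⊥ := by
      rw [eq_bot_iff, ← sigmaCore_inf_sigmaCore hG hM hMs hnc (d.nilpotent hG)]
      exact le_inf (h2.trans inf_le_left) h1
    rw [Subgroup.commutator_eq_bot_iff_le_centralizer] at h3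
    rw [eq_bot_iff, ← d.centralizer_inf hG]
    exact le_inf inf_le_left h3
  · push Not at hnc
    obtain ⟨g, hg⟩ := hnc
    -- `Ms = cj g⁻¹ M`
    have h1 : Ms = cj g⁻¹ M := by rw [hg, cj_inv_cj]
    have hgM : g⁻¹ ∉ M := by
      intro h
      apply hne
      rw [h1, cj_eq_self_of_mem h]
    rw [h1]
    exact d.ti hG hgM (h1 ▸ hAMs)

end Exc

/-- **Bender–Glauberman, Theorem 12.5** -/
theorem theorem_12_5 (hG : IsMinSimpleOddOrder G) {M : Subgroup G} (hM : IsCoatom M) {p : ℕ}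
    [hp : Fact p.Prime] (hpτ : p ∈ tau2 M) {A : Subgroup G} (hAM : A ≤ M)
    (hA : IsElementaryAbelian p A) (hAc : Nat.card A = p ^ 2) :
    Group.IsNilpotent ↥(sigmaCore M) ∧
      (∀ P : Sylow p ↥M, IsMulCommutative ↥(P : Subgroup ↥M) ∧
        (A ≤ (P : Subgroup ↥M).map M.subtype →
          (∀ x ∈ (P : Subgroup ↥M).map M.subtype, x ^ p = 1 ↔ x ∈ A) ∧
          ¬ Subgroup.normalizer ((((P : Subgroup ↥M).map M.subtype : Subgroup G)) : Set G) ≤ M)) ∧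
      M ≤ Subgroup.normalizer ((sigmaCore M ⊔ A : Subgroup G) : Set G) ∧
      sigmaCore M ⊓ Subgroup.centralizer (A : Set G) = ⊥ ∧
      (∀ Mstar : Subgroup G, IsCoatom Mstar → Mstar ≠ M → A ≤ Mstar →
        sigmaCore M ⊓ Mstar = ⊥) ∧
      ∃ A₁ : Subgroup G, A₁ ≤ A ∧ Nat.card A₁ = p ∧
        sigmaCore M ⊓ Subgroup.centralizer (A₁ : Set G) = ⊥ := by
  have dT : T2 M p A := ⟨hM, hpτ.2.1, hAM, hA, hAc⟩
  obtain ⟨A₀, d⟩ := dT.exists_exc hG
  refine ⟨d.nilpotent hG, ?_, d.normal hG, d.centralizer_inf hG,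
    fun Ms hMs hne hAMs => d.sigmaCore_inf_eq_bot hG hMs hne hAMs, ?_⟩
  · intro P
    have hPG : SylIn p M ((P : Subgroup ↥M).map M.subtype) := sylIn_map_sylow P
    refine ⟨?_, fun hAP => ⟨fun x hx => ⟨fun hxp => dT.mem_of_mem_sylow hG hPG hAP hx hxp,
      fun hxA => hA.2 x hxA⟩, dT.normalizer_not_le hPG⟩⟩
    have hc := comm_of_isMulCommutative (dT.abelian hG hPG)
    refine ⟨⟨?_⟩⟩
    rintro ⟨a, ha⟩ ⟨b, hb⟩
    apply Subtype.ext
    apply Subtype.ext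
    exact hc a ⟨a, ha, rfl⟩ b ⟨b, hb, rfl⟩
  · obtain ⟨A₁, -, h1, -, hc1, -, -, hf1, -⟩ := d.exists_fpf_pair hG
    exact ⟨A₁, h1, hc1, hf1⟩

end Cfsg.Agent.Lib.Lead.BG11
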