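import Mathlib
import Cfsg.Agent.Lib.Lead.BG11l

set_option autoImplicit false

/-! Bender–Glauberman, Corollary 12.6. -/

namespace Cfsg.Agent.Lib.Lead.BG11

open Cfsg Cfsg.Agent.Lib.Lead Cfsg.Agent.Lib.Lead.BG10 Cfsg.Agent.Lib.Helper7 Cfsg.Agent.Lib.Helper4
open Cfsg.Agent.Lib.Helper4.BG7 Cfsg.Agent.Lib.Helper4.BG76 Cfsg.Agent.Lib.Helper4.BG8
open Cfsg.Agent.Lib.Helper4.BG9 Cfsg.Agent.Lib.Helper4.BG12 Cfsg.Agent.Lib.Helper4.BGConj
open Cfsg.Agent.Lib.Helper4.BG13
open Cfsg.Agent.Lib.Helper2.BG11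
open scoped commutatorElement Pointwise

universe u

variable {G : Type u} [Group G] [Finite G]

/-- **Bender–Glauberman, Corollary 12.6** -/
theorem corollary_12_6 (hG : IsMinSimpleOddOrder G) {M : Subgroup G} (hM : IsCoatom M)
    {E : Subgroup G} (hE : IsComplIn E (sigmaCore M) M) {p : ℕ} [hp : Fact p.Prime]
    (hpτ : p ∈ tau2 M) {A : Subgroup G} (hAE : A ≤ E) (hA : IsElementaryAbelian p A)
    (hAc : Nat.card A = p ^ 2) :
    (E ≤ Subgroup.normalizer (A : Set G) ∧
        ∀ X : Subgroup G, X ≤ E → Nat.card X = p → X ≤ A) ∧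
      (Subgroup.centralizer (A : Set G) ≤ M ⊓ Subgroup.normalizer (A : Set G) ∧
        M ⊓ Subgroup.normalizer (A : Set G) = E ∧ ¬ Subgroup.normalizer (A : Set G) ≤ M) ∧
      ∀ X : Subgroup G, X ≤ A → Nat.card X = p →
        sigmaCore M ⊓ Subgroup.centralizer (X : Set G) ≠ ⊥ →
        (Subgroup.centralizer (X : Set G) ≤ M ∧ ∀ L : Subgroup G, IsCoatom L →
          Subgroup.centralizer (X : Set G) ≤ L → L = M) := by
  have hEM : E ≤ M := hE.1
  have hAM : A ≤ M := hAE.trans hEM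
  have dT : T2 M p A := ⟨hM, hpτ.2.1, hAM, hA, hAc⟩
  obtain ⟨A₀, d⟩ := dT.exists_exc hG
  have hEσ : E ⊓ sigmaCore M = ⊥ := hE.2.2.1
  have hMσ := BG10.le_normalizer_sigmaCore M
  have hAN : A ≤ Subgroup.normalizer (sigmaCore M : Set G) := hAM.trans hMσ
  -- (a1)
  have hEA : E ≤ Subgroup.normalizer (A : Set G) := by
    apply le_normalizer_of_forall_conj
    intro e he a ha
    have hxE : e * a * e⁻¹ ∈ E := E.mul_mem (E.mul_mem he (hAE ha)) (E.inv_mem he)
    have hx : e * a * e⁻¹ ∈ sigmaCore M ⊔ A :=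
      (Subgroup.mem_normalizer_iff.mp (d.normal hG (hEM he)) a).mp
        ((le_sup_right : A ≤ sigmaCore M ⊔ A) ha)
    have h1 : e * a * e⁻¹ ∈ ((sigmaCore M ⊔ A : Subgroup G) : Set G) := hx
    rw [Subgroup.coe_mul_of_right_le_normalizer_left (sigmaCore M) A hAN] at h1
    obtain ⟨s, hs, a', ha', hsa⟩ := Set.mem_mul.mp h1
    have hsE : s ∈ E := by
      have h2 : s = (e * a * e⁻¹) * a'⁻¹ := by rw [← hsa]; group
      rw [h2]
      exact E.mul_mem hxE (E.inv_mem (hAE ha'))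
    have hs1 : s = 1 := by
      have : s ∈ E ⊓ sigmaCore M := ⟨hsE, hs⟩
      rw [hEσ] at this
      exact Subgroup.mem_bot.mp this
    rw [← hsa, hs1, one_mul]
    exact ha'
  refine ⟨⟨hEA, ?_⟩, ⟨le_inf d.centralizer_le (Subgroup.centralizer_le_normalizer _), ?_, ?_⟩, ?_⟩
  · -- (a2)
    intro X hXE hXc
    have hXp : IsPGroup p X := IsPGroup.of_card (n := 1) (by rw [hXc, pow_one])
    have hsup : IsPGroup p (A ⊔ X : Subgroup G) :=
      IsPGroup.to_sup_of_normal_left' dT.isPGroup hXp (hXE.trans hEA)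
    obtain ⟨P, hAXP, hP⟩ := exists_sylIn_ge (sup_le hAM (hXE.trans hEM)) hsup
    intro x hx
    apply dT.mem_of_mem_sylow hG hP (le_sup_left.trans hAXP) (hAXP (le_sup_right (a := A) hx))
    rw [← hXc]
    exact pow_card_eq_one_of_mem hx
  · -- (b2)
    apply le_antisymm _ (le_inf hEM hEA)
    rintro m ⟨hmM, hmN⟩
    obtain ⟨e, he, s, hs, rfl⟩ := hE.2.2.2 m hmM
    have hsN : s ∈ Subgroup.normalizer (A : Set G) := by
      have h2 : s = e⁻¹ * (e * s) := by group
      rw [h2]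
      exact Subgroup.mul_mem _ (Subgroup.inv_mem _ (hEA he)) hmN
    have hsC : s ∈ Subgroup.centralizer (A : Set G) := by
      rw [Subgroup.mem_centralizer_iff]
      intro a ha
      have hc : s * a * s⁻¹ * a⁻¹ ∈ A ⊓ sigmaCore M := by
        constructor
        · exact A.mul_mem ((Subgroup.mem_normalizer_iff.mp hsN a).mp ha) (A.inv_mem ha)
        · have h3 : a * s⁻¹ * a⁻¹ ∈ sigmaCore M :=
            (Subgroup.mem_normalizer_iff.mp (hAN ha) _).mp ((sigmaCore M).inv_mem hs)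
          have h4 : s * a * s⁻¹ * a⁻¹ = s * (a * s⁻¹ * a⁻¹) := by group
          rw [h4]
          exact (sigmaCore M).mul_mem hs h3
      have hAσ : A ⊓ sigmaCore M = ⊥ := by
        rw [eq_bot_iff, ← hEσ]
        exact inf_le_inf_right _ hAE
      rw [hAσ] at hc
      have h5 := Subgroup.mem_bot.mp hc
      calc a * s = (s * a * s⁻¹ * a⁻¹)⁻¹ * (s * a) := by group
        _ = s * a := by rw [h5, inv_one, one_mul]
    have hs1 : s = 1 := by
      have : s ∈ sigmaCore M ⊓ Subgroup.centralizer (A : Set G) := ⟨hs, hsC⟩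
      rw [d.centralizer_inf hG] at this
      exact Subgroup.mem_bot.mp this
    rw [hs1, mul_one]
    exact he
  · -- (b3)
    obtain ⟨g, hgN, hgM⟩ := dT.exists_normalizer_not_mem hG
    exact fun h => hgM (h hgN)
  · -- (c)
    intro X hXA hXc hne
    have hXp : IsPGroup p X := IsPGroup.of_card (n := 1) (by rw [hXc, pow_one])
    have hX1 : X ≠ ⊥ := by
      intro h
      rw [h, Subgroup.card_bot] at hXc
      exact hp.out.one_lt.ne hXc
    have hAC : A ≤ Subgroup.centralizer (X : Set G) :=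
      (le_centralizer_self_of_elementary hA).trans
        (Subgroup.centralizer_le (SetLike.coe_subset_coe.mpr hXA))
    have huniq : ∀ L : Subgroup G, IsCoatom L → Subgroup.centralizer (X : Set G) ≤ L → L = M := by
      intro L hL hCL
      by_contra hLM
      have h1 := d.sigmaCore_inf_eq_bot hG hL hLM (hAC.trans hCL)
      apply hne
      rw [eq_bot_iff, ← h1]
      exact inf_le_inf_left _ hCL
    refine ⟨?_, huniq⟩
    obtain ⟨L, hL, hCL⟩ := exists_coatom_ge (centralizer_ne_top_of hG hX1 (isPGroup_ne_top hG hXp))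
    rw [← huniq L hL hCL]
    exact hCL

end Cfsg.Agent.Lib.Lead.BG11
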