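import Mathlib
import Cfsg.Agent.Lib.Lead.BG11m
import Cfsg.Agent.Lib.Lead.AbelianSylow2

set_option autoImplicit false

/-! Bender–Glauberman, Theorem 12.7: a `p`-element acting on an elementary abelian group of
order `p ^ 2`. -/

namespace Cfsg.Agent.Lib.Lead.BG11

open Cfsg Cfsg.Agent.Lib.Lead Cfsg.Agent.Lib.Lead.BG10 Cfsg.Agent.Lib.Helper7 Cfsg.Agent.Lib.Helper4
open Cfsg.Agent.Lib.Helper4.BG7 Cfsg.Agent.Lib.Helper4.BG76 Cfsg.Agent.Lib.Helper4.BG8
open Cfsg.Agent.Lib.Helper4.BG9 Cfsg.Agent.Lib.Helper4.BG12 Cfsg.Agent.Lib.Helper4.BGConj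
open Cfsg.Agent.Lib.Helper4.BG13
open Cfsg.Agent.Lib.Helper2.BG11

universe u

variable {G : Type u} [Group G] [Finite G]

theorem mem_centralizer_zpowers_iff {g a : G} :
    a ∈ Subgroup.centralizer ((Subgroup.zpowers g : Subgroup G) : Set G) ↔ g * a = a * g := by
  constructor
  · intro h
    exact Subgroup.mem_centralizer_iff.mp h g (Subgroup.mem_zpowers g)
  · intro h
    rw [Subgroup.mem_centralizer_iff]
    intro y hy
    obtain ⟨k, rfl⟩ := Subgroup.mem_zpowers_iff.mp hy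
    have hc : Commute g a := h
    exact (hc.zpow_left k).eq

/-- a `p`-group acting on a nontrivial `p`-group has nontrivial fixed points -/
theorem dvd_card_inf_centralizer {p : ℕ} [hp : Fact p.Prime] {T Q : Subgroup G}
    (hT : IsPGroup p T) (hT1 : T ≠ ⊥) (hQ : IsPGroup p Q)
    (hQT : Q ≤ Subgroup.normalizer (T : Set G)) :
    p ∣ Nat.card (T ⊓ Subgroup.centralizer (Q : Set G) : Subgroup G) := by
  letI := conjMulAction T Q hQT
  have h1 := hQ.card_modEq_card_fixedPoints T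
  rw [card_fixedPoints_conjMulAction] at h1
  have h2 : p ∣ Nat.card T := by
    rcases hT.card_eq_or_dvd with h | h
    · exact absurd (Subgroup.card_eq_one.mp h) hT1
    · exact h
  exact (Nat.modEq_zero_iff_dvd).mp (h1.symm.trans ((Nat.modEq_zero_iff_dvd).mpr h2))

/-- a `p`-element `g` normalizing the elementary abelian group `A` of order `p ^ 2`: every element
of `A` either commutes with `g` or is a power of a `⟨g⟩`-conjugate of any given `x ∈ A` not
commuting with `g` -/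
theorem conj_lines {p : ℕ} [hp : Fact p.Prime] {A : Subgroup G} (hA : IsElementaryAbelian p A)
    (hAc : Nat.card A = p ^ 2) {g : G} (hgN : g ∈ Subgroup.normalizer (A : Set G))
    (hgp : IsPGroup p (Subgroup.zpowers g)) {x : G} (hxA : x ∈ A) (hx : g * x ≠ x * g)
    {y : G} (hyA : y ∈ A) :
    g * y = y * g ∨ ∃ i a : ℕ, y = g ^ i * x ^ a * (g ^ i)⁻¹ := by
  have hcomm := comm_of_isMulCommutative hA.1
  have hAp : IsPGroup p A := isPGroup_of_elementary hA
  have hconj : ∀ a ∈ A, g * a * g⁻¹ ∈ A := fun a ha =>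
    (Subgroup.mem_normalizer_iff.mp hgN a).mp ha
  have hA1 : A ≠ ⊥ := by
    rintro rfl
    apply hx
    rw [Subgroup.mem_bot.mp hxA, mul_one, one_mul]
  have hgA : Subgroup.zpowers g ≤ Subgroup.normalizer (A : Set G) := Subgroup.zpowers_le.mpr hgN
  set Z₀ : Subgroup G :=
    A ⊓ Subgroup.centralizer ((Subgroup.zpowers g : Subgroup G) : Set G) with hZ₀
  have hZ₀mem : ∀ a, a ∈ Z₀ ↔ a ∈ A ∧ g * a = a * g := fun a => by
    rw [hZ₀, Subgroup.mem_inf, mem_centralizer_zpowers_iff]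
  have hZ₀c : Nat.card Z₀ = p := by
    have h1 : p ∣ Nat.card Z₀ := dvd_card_inf_centralizer hAp hA1 hgp hgA
    have h2 : Nat.card Z₀ ∣ p ^ 2 := hAc ▸ Subgroup.card_dvd_of_le inf_le_left
    obtain ⟨k, hk2, hk⟩ := (Nat.dvd_prime_pow hp.out).mp h2
    have hk0 : k ≠ 0 := by
      rintro rfl
      rw [hk, pow_zero] at h1
      exact hp.out.one_lt.ne' (Nat.dvd_one.mp h1)
    have hk2' : k ≠ 2 := by
      rintro rfl
      have h3 : Z₀ = A := Subgroup.eq_of_le_of_card_ge inf_le_left (by rw [hk, hAc])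
      have hxZ : x ∈ Z₀ := h3 ▸ hxA
      exact hx ((hZ₀mem x).mp hxZ).2
    have h4 : k = 1 := by omega
    rw [hk, h4, pow_one]
  -- the commutator map
  let φ : ↥A →* ↥A := MonoidHom.mk'
    (fun a => ⟨g * a * g⁻¹ * (a : G)⁻¹, A.mul_mem (hconj a a.2) (A.inv_mem a.2)⟩) (by
      rintro ⟨a, ha⟩ ⟨b, hb⟩
      apply Subtype.ext
      show g * (a * b) * g⁻¹ * (a * b)⁻¹ = (g * a * g⁻¹ * a⁻¹) * (g * b * g⁻¹ * b⁻¹)
      have h1 : (g * b * g⁻¹ * b⁻¹) * a⁻¹ = a⁻¹ * (g * b * g⁻¹ * b⁻¹) :=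
        hcomm _ (A.mul_mem (hconj b hb) (A.inv_mem hb)) _ (A.inv_mem ha)
      calc g * (a * b) * g⁻¹ * (a * b)⁻¹
          = g * a * g⁻¹ * ((g * b * g⁻¹ * b⁻¹) * a⁻¹) := by group
        _ = g * a * g⁻¹ * (a⁻¹ * (g * b * g⁻¹ * b⁻¹)) := by rw [h1]
        _ = _ := by group)
  have hφ : ∀ a : ↥A, ((φ a : ↥A) : G) = g * a * g⁻¹ * (a : G)⁻¹ := fun a => rfl
  have hker : ∀ a : ↥A, a ∈ φ.ker ↔ (a : G) ∈ Z₀ := by
    intro a
    rw [MonoidHom.mem_ker, hZ₀mem]
    constructor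
    · intro h
      have h1 : g * (a : G) * g⁻¹ * (a : G)⁻¹ = 1 := by
        rw [← hφ a, h]; rfl
      refine ⟨a.2, ?_⟩
      calc g * (a : G) = (g * a * g⁻¹ * (a : G)⁻¹) * (a * g) := by group
        _ = a * g := by rw [h1, one_mul]
    · rintro ⟨-, h⟩
      apply Subtype.ext
      rw [hφ a, h]
      show (a : G) * g * g⁻¹ * (a : G)⁻¹ = 1
      group
  have hkerc : Nat.card φ.ker = p := by
    rw [← hZ₀c]
    apply Nat.card_congr
    exact
      { toFun := fun a => ⟨a.1.1, (hker a.1).mp a.2⟩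
        invFun := fun z => ⟨⟨z.1, ((hZ₀mem z.1).mp z.2).1⟩, (hker _).mpr z.2⟩
        left_inv := fun a => rfl
        right_inv := fun z => rfl }
  have hrange : Nat.card φ.range = p := by
    have h1 := Subgroup.card_mul_index φ.ker
    rw [Subgroup.index_ker, hkerc, hAc] at h1
    have h2 : p * Nat.card φ.range = p * p := by rw [h1, pow_two]
    exact Nat.eq_of_mul_eq_mul_left hp.out.pos h2
  set W : Subgroup G := φ.range.map A.subtype with hW
  have hWc : Nat.card W = p := by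
    rw [hW, Subgroup.card_map_of_injective A.subtype_injective, hrange]
  have hWmem : ∀ a ∈ A, g * a * g⁻¹ * a⁻¹ ∈ W := by
    intro a ha
    exact ⟨φ ⟨a, ha⟩, ⟨⟨a, ha⟩, rfl⟩, rfl⟩
  have hWA : W ≤ A := Subgroup.map_subtype_le _
  have hgW : g ∈ Subgroup.normalizer (W : Set G) := by
    rw [mem_normalizer_iff_cj]
    apply cj_eq_of_le
    intro v hv
    obtain ⟨w, hw, rfl⟩ := Subgroup.mem_map.mp hv
    obtain ⟨b, ⟨a, rfl⟩, rfl⟩ := Subgroup.mem_map.mp hw
    show g * (g * (a : G) * g⁻¹ * (a : G)⁻¹) * g⁻¹ ∈ W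
    have h1 : g * (g * (a : G) * g⁻¹ * (a : G)⁻¹) * g⁻¹ =
        g * (g * a * g⁻¹) * g⁻¹ * (g * a * g⁻¹)⁻¹ := by group
    rw [h1]
    exact hWmem _ (hconj a a.2)
  have hgWc : Subgroup.zpowers g ≤ Subgroup.centralizer (W : Set G) := by
    by_contra hc
    have h1 := dvd_pred_of_not_le_centralizer (by rw [hWc]; exact hp.out) hgp
      (Subgroup.zpowers_le.mpr hgW) hc
    rw [hWc] at h1
    have h2 := Nat.le_of_dvd (Nat.sub_pos_of_lt hp.out.one_lt) h1
    have h3 := hp.out.one_lt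
    omega
  set z := g * x * g⁻¹ * x⁻¹ with hz
  have hzW : z ∈ W := hWmem x hxA
  have hzA : z ∈ A := hWA hzW
  have hgz : g * z = z * g :=
    (Subgroup.mem_centralizer_iff.mp (hgWc (Subgroup.mem_zpowers g)) z hzW).symm
  have hz1 : z ≠ 1 := by
    intro h
    apply hx
    calc g * x = (g * x * g⁻¹ * x⁻¹) * (x * g) := by group
      _ = x * g := by rw [← hz, h, one_mul]
  have hgzi : ∀ i : ℕ, g * z ^ i = z ^ i * g := fun i =>
    ((show Commute g z from hgz).pow_right i).eq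
  have hgx : g * x * g⁻¹ = z * x := by rw [hz]; group
  have hconjx : ∀ i : ℕ, g ^ i * x * (g ^ i)⁻¹ = z ^ i * x := by
    intro i
    induction i with
    | zero => simp
    | succ i ih =>
      calc g ^ (i + 1) * x * (g ^ (i + 1))⁻¹ = g * (g ^ i * x * (g ^ i)⁻¹) * g⁻¹ := by
            rw [pow_succ']; group
        _ = g * (z ^ i * x) * g⁻¹ := by rw [ih]
        _ = (g * z ^ i) * g⁻¹ * (g * x * g⁻¹) := by group
        _ = (z ^ i * g) * g⁻¹ * (z * x) := by rw [hgzi, hgx]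
        _ = z ^ (i + 1) * x := by rw [pow_succ]; group
  have hx1 : x ≠ 1 := by
    rintro rfl
    exact hx (by rw [mul_one, one_mul])
  have hxo : orderOf x = p := orderOf_eq_prime (hA.2 x hxA) hx1
  have hzo : orderOf z = p := orderOf_eq_prime (hA.2 z hzA) hz1
  have hXc : Nat.card (Subgroup.zpowers x) = p := by rw [Nat.card_zpowers, hxo]
  have hZc : Nat.card (Subgroup.zpowers z) = p := by rw [Nat.card_zpowers, hzo]
  have hXA : Subgroup.zpowers x ≤ A := Subgroup.zpowers_le.mpr hxA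
  have hZA : Subgroup.zpowers z ≤ A := Subgroup.zpowers_le.mpr hzA
  have hgZ : ∀ w ∈ Subgroup.zpowers z, g * w = w * g := by
    intro w hw
    obtain ⟨k, rfl⟩ := Subgroup.mem_zpowers_iff.mp hw
    exact ((show Commute g z from hgz).zpow_right k).eq
  have hne : Subgroup.zpowers x ≠ Subgroup.zpowers z := by
    intro h
    exact hx (hgZ x (h ▸ Subgroup.mem_zpowers x))
  have hsup := sup_eq_of_card_prime hAc hXA hZA hXc hZc hne
  have hZN : Subgroup.zpowers z ≤
      Subgroup.normalizer ((Subgroup.zpowers x : Subgroup G) : Set G) :=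
    (hZA.trans (le_centralizer_self_of_elementary hA)).trans
      ((Subgroup.centralizer_le (SetLike.coe_subset_coe.mpr hXA)).trans
        (Subgroup.centralizer_le_normalizer _))
  have hy' : y ∈ ((Subgroup.zpowers x ⊔ Subgroup.zpowers z : Subgroup G) : Set G) := by
    rw [hsup]; exact hyA
  rw [Subgroup.coe_mul_of_right_le_normalizer_left _ _ hZN] at hy'
  obtain ⟨x', hx', z', hz', rfl⟩ := Set.mem_mul.mp hy'
  obtain ⟨a, rfl⟩ := (Submonoid.mem_powers_iff _ _).mp ((mem_powers_iff_mem_zpowers).mpr hx')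
  by_cases hpa : p ∣ a
  · left
    have h1 : x ^ a = 1 := by
      rw [← hxo] at hpa
      exact orderOf_dvd_iff_pow_eq_one.mp hpa
    rw [h1, one_mul]
    exact hgZ z' hz'
  · right
    have hcop : (Nat.card ↥(Subgroup.zpowers z)).Coprime a := by
      rw [hZc]; exact (Nat.Prime.coprime_iff_not_dvd hp.out).mpr hpa
    obtain ⟨w, hw⟩ := (powCoprime hcop).surjective ⟨z', hz'⟩
    have hw' : (w : G) ^ a = z' := by
      have h1 := congrArg Subtype.val hw
      simpa using h1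
    obtain ⟨i, hi⟩ := (Submonoid.mem_powers_iff _ _).mp ((mem_powers_iff_mem_zpowers).mpr w.2)
    refine ⟨i, a, ?_⟩
    rw [← conj_pow, hconjx i, hi]
    have hc : Commute (w : G) x := hcomm _ (hZA w.2) _ hxA
    rw [hc.mul_pow, hw']
    exact hcomm _ (A.pow_mem hxA a) _ (hZA hz')

end Cfsg.Agent.Lib.Lead.BG11
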