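import Mathlib
import Cfsg.Agent.Lib.Lead.BG11n

set_option autoImplicit false

/-! Bender–Glauberman, Theorem 12.7: the configuration and parts (b1), (c). -/

namespace Cfsg.Agent.Lib.Lead.BG11

open Cfsg Cfsg.Agent.Lib.Lead Cfsg.Agent.Lib.Lead.BG10 Cfsg.Agent.Lib.Helper7 Cfsg.Agent.Lib.Helper4
open Cfsg.Agent.Lib.Helper4.BG7 Cfsg.Agent.Lib.Helper4.BG76 Cfsg.Agent.Lib.Helper4.BG8
open Cfsg.Agent.Lib.Helper4.BG9 Cfsg.Agent.Lib.Helper4.BG12 Cfsg.Agent.Lib.Helper4.BGConj
open Cfsg.Agent.Lib.Helper4.BG13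
open Cfsg.Agent.Lib.Helper2.BG11

universe u

variable {G : Type u} [Group G] [Finite G]

namespace Exc

variable {M A A₀ : Subgroup G} {p : ℕ} [hp : Fact p.Prime]

/-- Corollary 12.6(c) for an exceptional configuration -/
theorem uniq_of_inf_ne_bot (d : Exc M p A A₀) (hG : IsMinSimpleOddOrder G) {X : Subgroup G}
    (hXA : X ≤ A) (hXc : Nat.card X = p)
    (hne : sigmaCore M ⊓ Subgroup.centralizer (X : Set G) ≠ ⊥) :
    Subgroup.centralizer (X : Set G) ≤ M ∧ ∀ L : Subgroup G, IsCoatom L →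
      Subgroup.centralizer (X : Set G) ≤ L → L = M := by
  have hXp : IsPGroup p X := IsPGroup.of_card (n := 1) (by rw [hXc, pow_one])
  have hX1 : X ≠ ⊥ := by
    intro h
    rw [h, Subgroup.card_bot] at hXc
    exact hp.out.one_lt.ne hXc
  have hAC : A ≤ Subgroup.centralizer (X : Set G) :=
    (le_centralizer_self_of_elementary d.hA).trans
      (Subgroup.centralizer_le (SetLike.coe_subset_coe.mpr hXA))
  have huniq : ∀ L : Subgroup G, IsCoatom L → Subgroup.centralizer (X : Set G) ≤ L → L = M := by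
    intro L hL hCL
    by_contra hLM
    have h1 := d.sigmaCore_inf_eq_bot hG hL hLM (hAC.trans hCL)
    apply hne
    rw [eq_bot_iff, ← h1]
    exact inf_le_inf_left _ hCL
  refine ⟨?_, huniq⟩
  obtain ⟨L, hL, hCL⟩ := exists_coatom_ge (centralizer_ne_top_of hG hX1 (isPGroup_ne_top hG hXp))
  rw [← huniq L hL hCL]
  exact hCL

end Exc

/-- the configuration of Theorem 12.7: a `p`-group `Q` properly containing the Sylow
`p`-subgroup `P ≥ A` of `M` and normalizing it, and `g ∈ Q \ P` -/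
structure Cfg127 (M : Subgroup G) (p : ℕ) (A A₁ P Q : Subgroup G) (g : G) : Prop where
  exc : Exc M p A A₁
  hP : SylIn p M P
  hAP : A ≤ P
  hQ : IsPGroup p Q
  hPQ : P ≤ Q
  hQN : Q ≤ Subgroup.normalizer (P : Set G)
  hgQ : g ∈ Q
  hgP : g ∉ P

namespace Cfg127

variable {M A A₁ P Q : Subgroup G} {p : ℕ} [hp : Fact p.Prime] {g : G}

theorem mem_P (c : Cfg127 M p A A₁ P Q g) {y : G} (hyQ : y ∈ Q) (hyM : y ∈ M) : y ∈ P := by
  have h1 : Q ⊓ M = P :=
    eq_of_isPGroup_of_relIndex (le_inf c.hPQ c.hP.1) inf_le_right (c.hQ.to_le inf_le_left)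
      c.hP.2.2
  rw [← h1]
  exact ⟨hyQ, hyM⟩

theorem g_not_mem (c : Cfg127 M p A A₁ P Q g) : g ∉ M := fun h => c.hgP (c.mem_P c.hgQ h)

theorem Q_le_normalizer (c : Cfg127 M p A A₁ P Q g) (hG : IsMinSimpleOddOrder G) :
    Q ≤ Subgroup.normalizer (A : Set G) :=
  c.hQN.trans (c.exc.toT2.normalizer_sylow_le hG c.hP c.hAP)

theorem g_mem_normalizer (c : Cfg127 M p A A₁ P Q g) (hG : IsMinSimpleOddOrder G) :
    g ∈ Subgroup.normalizer (A : Set G) := c.Q_le_normalizer hG c.hgQ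

theorem zpowers_isPGroup (c : Cfg127 M p A A₁ P Q g) : IsPGroup p (Subgroup.zpowers g) :=
  c.hQ.to_le (Subgroup.zpowers_le.mpr c.hgQ)

/-- the subgroups of order `p` of `A`: `A₁`, a conjugate of `A₁` under `N_G(A) \ M`, or a
subgroup centralized by an element outside `M` -/
theorem lines (c : Cfg127 M p A A₁ P Q g) (hG : IsMinSimpleOddOrder G) {X : Subgroup G}
    (hXA : X ≤ A) (hXc : Nat.card X = p) :
    X = A₁ ∨ (∃ n ∈ Subgroup.normalizer (A : Set G), n ∉ M ∧ X = cj n A₁) ∨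
      ∃ h ∈ Subgroup.centralizer (X : Set G), h ∉ M := by
  have d := c.exc
  have hne_bot : ∀ {Y : Subgroup G}, Nat.card Y = p → ∃ y ∈ Y, y ≠ 1 := by
    intro Y hY
    have hY1 : Y ≠ ⊥ := by
      intro h
      rw [h, Subgroup.card_bot] at hY
      exact hp.out.one_lt.ne hY
    obtain ⟨⟨y, hy⟩, hy1⟩ := (Subgroup.ne_bot_iff_exists_ne_one).mp hY1
    exact ⟨y, hy, fun h => hy1 (Subtype.ext h)⟩
  obtain ⟨x, hxA₁, hx1⟩ := hne_bot d.hA₀c
  obtain ⟨y, hyX, hy1⟩ := hne_bot hXc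
  have hXz := eq_zpowers_of_card_prime hXc hyX hy1
  have hgx : g * x ≠ x * g := by
    intro h
    apply c.g_not_mem
    apply d.hN
    apply Subgroup.centralizer_le_normalizer
    apply centralizer_singleton_le_of_prime_card d.hA₀c hxA₁ hx1
    rw [Subgroup.mem_centralizer_singleton_iff]
    exact h
  rcases conj_lines d.hA d.hAc (c.g_mem_normalizer hG) c.zpowers_isPGroup (d.hA₀A hxA₁) hgx
    (hXA hyX) with h | ⟨i, a, h⟩
  · right; right
    refine ⟨g, ?_, c.g_not_mem⟩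
    apply centralizer_singleton_le_of_prime_card hXc hyX hy1
    rw [Subgroup.mem_centralizer_singleton_iff]
    exact h
  · set n := g ^ i with hn
    have hnQ : n ∈ Q := Q.pow_mem c.hgQ i
    have hyc : y ∈ cj n A₁ := by
      rw [h, mem_cj]
      have h2 : n⁻¹ * (n * x ^ a * n⁻¹) * n = x ^ a := by group
      rw [h2]
      exact A₁.pow_mem hxA₁ a
    have hXeq : X = cj n A₁ := by
      apply Subgroup.eq_of_le_of_card_ge
      · rw [hXz]; exact Subgroup.zpowers_le.mpr hyc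
      · rw [card_cj, d.hA₀c, hXc]
    by_cases hnM : n ∈ M
    · left
      rw [hXeq]
      have hnP := c.mem_P hnQ hnM
      have hnC : n ∈ Subgroup.centralizer (A₁ : Set G) :=
        Subgroup.centralizer_le (SetLike.coe_subset_coe.mpr d.hA₀A)
          (d.toT2.sylow_le_centralizer hG c.hP c.hAP hnP)
      exact mem_normalizer_iff_cj.mp (Subgroup.centralizer_le_normalizer _ hnC)
    · right; left
      exact ⟨n, c.Q_le_normalizer hG hnQ, hnM, hXeq⟩

/-- every subgroup of order `p` of `A` other than `A₁` acts without fixed points on `M_σ` -/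
theorem fpf (c : Cfg127 M p A A₁ P Q g) (hG : IsMinSimpleOddOrder G) {X : Subgroup G}
    (hXA : X ≤ A) (hXc : Nat.card X = p) (hne : X ≠ A₁) :
    sigmaCore M ⊓ Subgroup.centralizer (X : Set G) = ⊥ := by
  rcases c.lines hG hXA hXc with h | ⟨n, hnN, hnM, rfl⟩ | ⟨h, hhC, hhM⟩
  · exact absurd h hne
  · exact c.exc.fpf hG hnN hnM
  · by_contra hcon
    exact hhM ((c.exc.uniq_of_inf_ne_bot hG hXA hXc hcon).1 hhC)

/-- `A₁` centralizes `M_σ` -/
theorem sigmaCore_le_centralizer (c : Cfg127 M p A A₁ P Q g) (hG : IsMinSimpleOddOrder G) :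
    sigmaCore M ≤ Subgroup.centralizer (A₁ : Set G) := by
  have d := c.exc
  haveI : IsMulCommutative ↥A := d.hA.1
  have hgen := Cfsg.Agent.S0058.result A (sigmaCore M) d.toT2.not_isCyclic
    d.toT2.le_normalizer_sigmaCore (d.toT2.coprime_sigmaCore hG)
  rw [← hgen]
  apply iSup₂_le
  rintro a ⟨haA, ha1⟩
  by_cases haA₁ : a ∈ A₁
  · exact inf_le_right.trans (centralizer_singleton_le_of_prime_card d.hA₀c haA₁ ha1)
  · have hXc : Nat.card (Subgroup.zpowers a) = p := by
      rw [Nat.card_zpowers, orderOf_eq_prime (d.hA.2 a haA) ha1]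
    have hXA : Subgroup.zpowers a ≤ A := Subgroup.zpowers_le.mpr haA
    have hne : Subgroup.zpowers a ≠ A₁ := fun h => haA₁ (h ▸ Subgroup.mem_zpowers a)
    have h1 := c.fpf hG hXA hXc hne
    have h2 : sigmaCore M ⊓ Subgroup.centralizer ({a} : Set G) ≤
        sigmaCore M ⊓ Subgroup.centralizer ((Subgroup.zpowers a : Subgroup G) : Set G) :=
      inf_le_inf_left _
        (centralizer_singleton_le_of_prime_card hXc (Subgroup.mem_zpowers a) ha1)
    rw [h1] at h2
    exact h2.trans bot_le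

/-- `A ∩ C_G(M_σ) = A₁` -/
theorem inf_centralizer_eq (c : Cfg127 M p A A₁ P Q g) (hG : IsMinSimpleOddOrder G) :
    A ⊓ Subgroup.centralizer (sigmaCore M : Set G) = A₁ := by
  have d := c.exc
  have hle : A₁ ≤ A ⊓ Subgroup.centralizer (sigmaCore M : Set G) :=
    le_inf d.hA₀A (Subgroup.le_centralizer_iff.mp (c.sigmaCore_le_centralizer hG))
  symm
  apply Subgroup.eq_of_le_of_card_ge hle
  rw [d.hA₀c]
  have h2 : Nat.card ↥(A ⊓ Subgroup.centralizer (sigmaCore M : Set G)) ∣ p ^ 2 :=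
    d.hAc ▸ Subgroup.card_dvd_of_le inf_le_left
  obtain ⟨k, hk2, hk⟩ := (Nat.dvd_prime_pow hp.out).mp h2
  have hk2' : k ≠ 2 := by
    rintro rfl
    have h3 : A ⊓ Subgroup.centralizer (sigmaCore M : Set G) = A :=
      Subgroup.eq_of_le_of_card_ge inf_le_left (by rw [hk, d.hAc])
    have h4 : A ≤ Subgroup.centralizer (sigmaCore M : Set G) := by
      rw [← h3]; exact inf_le_right
    have h5 : sigmaCore M ≤ Subgroup.centralizer (A : Set G) := Subgroup.le_centralizer_iff.mp h4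
    have h6 : sigmaCore M ≤ ⊥ := by
      rw [← d.centralizer_inf hG]
      exact le_inf le_rfl h5
    exact sigmaCore_ne_bot hG d.hM (le_bot_iff.mp h6)
  rw [hk]
  have hk1 : k ≤ 1 := by omega
  calc p ^ k ≤ p ^ 1 := Nat.pow_le_pow_right hp.out.pos hk1
    _ = p := pow_one p

/-- no subgroup of order `p` of `A` other than `A₁` has its centralizer in `M` -/
theorem centralizer_not_le (c : Cfg127 M p A A₁ P Q g) (hG : IsMinSimpleOddOrder G)
    {X : Subgroup G} (hXA : X ≤ A) (hXc : Nat.card X = p) (hne : X ≠ A₁) :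
    ¬ Subgroup.centralizer (X : Set G) ≤ M := by
  have d := c.exc
  rcases c.lines hG hXA hXc with h | ⟨n, hnN, hnM, rfl⟩ | ⟨h, hhC, hhM⟩
  · exact absurd h hne
  · intro hC
    have h1 : cj n (sigmaCore M) ≤ M := by
      refine le_trans ?_ hC
      rw [Cfsg.Agent.Lib.Lead.BG95.centralizer_cj]
      exact cj_mono n (c.sigmaCore_le_centralizer hG)
    have h2 : sigmaCore M ≤ cj n⁻¹ M := by
      have := cj_mono n⁻¹ h1
      rwa [cj_inv_cj] at this
    have hninv : n⁻¹ ∉ M := fun h => hnM (by simpa using M.inv_mem h)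
    have hA' : A ≤ cj n⁻¹ M := by
      have h3 : cj n⁻¹ A = A :=
        mem_normalizer_iff_cj.mp (Subgroup.inv_mem _ hnN)
      rw [← h3]
      exact cj_mono n⁻¹ d.hAM
    have h4 := d.ti hG hninv hA'
    have h5 : sigmaCore M ≤ ⊥ := by
      rw [← h4]
      exact le_inf le_rfl h2
    exact sigmaCore_ne_bot hG d.hM (le_bot_iff.mp h5)
  · exact fun hC => hhM (hC hhC)

end Cfg127

end Cfsg.Agent.Lib.Lead.BG11
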