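import Mathlib
import Cfsg.Agent.Lib.Lead.BG11o
import Cfsg.Agent.Lib.Helper2.BG12f

set_option autoImplicit false

/-! Bender–Glauberman, Theorem 12.7: existence of the configuration and part (a). -/

namespace Cfsg.Agent.Lib.Lead.BG11

open Cfsg Cfsg.Agent.Lib.Lead Cfsg.Agent.Lib.Lead.BG10 Cfsg.Agent.Lib.Helper7 Cfsg.Agent.Lib.Helper4
open Cfsg.Agent.Lib.Helper4.BG7 Cfsg.Agent.Lib.Helper4.BG76 Cfsg.Agent.Lib.Helper4.BG8
open Cfsg.Agent.Lib.Helper4.BG9 Cfsg.Agent.Lib.Helper4.BG12 Cfsg.Agent.Lib.Helper4.BGConj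
open Cfsg.Agent.Lib.Helper4.BG13 Cfsg.Agent.Lib.Helper4.ThreeStep
open Cfsg.Agent.Lib.Helper2.BG11

universe u

variable {G : Type u} [Group G] [Finite G]

namespace T2

variable {M A : Subgroup G} {p : ℕ} [hp : Fact p.Prime]

/-- if the Sylow `p`-subgroups of `G` are nonabelian, the configuration of Theorem 12.7 exists -/
theorem exists_cfg127 (d : T2 M p A) (hG : IsMinSimpleOddOrder G)
    (hS : ∀ S : Sylow p G, ¬ IsMulCommutative ↥(S : Subgroup G)) :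
    ∃ (A₁ P Q : Subgroup G) (g : G), Cfg127 M p A A₁ P Q g := by
  obtain ⟨A₁, dE⟩ := d.exists_exc hG
  obtain ⟨P, hAP, hP⟩ := exists_sylIn_ge d.hAM d.isPGroup
  have hPab := d.abelian hG hP
  have hnot : ¬ ∃ T : Sylow p G, (T : Subgroup G) = P := by
    rintro ⟨T, hT⟩
    apply hS T
    rw [hT]; exact hPab
  have h2 : ¬ ∀ Q : Subgroup G, IsPGroup p Q → P ≤ Q →
      Q ≤ Subgroup.normalizer (P : Set G) → Q = P :=
    fun h => hnot (exists_sylow_eq hP.2.1 h)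
  push Not at h2
  obtain ⟨Q, hQ, hPQ, hQN, hne⟩ := h2
  have h3 : ¬ Q ≤ P := fun h => hne (le_antisymm h hPQ)
  obtain ⟨g, hgQ, hgP⟩ := SetLike.not_le_iff_exists.mp h3
  exact ⟨A₁, P, Q, g, dE, hP, hAP, hQ, hPQ, hQN, hgQ, hgP⟩

end T2

/-- a Sylow `p`-subgroup of `G` meeting `M` in a subgroup of rank two, `p ∈ τ₂(M)`, and commuting
with a Sylow `q`-subgroup of `G`, `q ∈ τ₂(M)`, is abelian -/
theorem abelian_of_commuting_sylows (hG : IsMinSimpleOddOrder G) {M : Subgroup G}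
    (hM : IsCoatom M) {p q : ℕ} [hp : Fact p.Prime] [hq : Fact q.Prime] (hpτ : p ∈ tau2 M)
    (hqτ : q ∈ tau2 M) {A S' Q' : Subgroup G} (hAM : A ≤ M) (hA : IsElementaryAbelian p A)
    (hAc : Nat.card A = p ^ 2) (hAS : A ≤ S') (hS' : SylIn p ⊤ S') (hQ' : SylIn q ⊤ Q')
    (hcomm : Q' ≤ Subgroup.centralizer (S' : Set G)) : IsMulCommutative ↥S' := by
  have dT : T2 M p A := ⟨hM, hpτ.2.1, hAM, hA, hAc⟩
  have hCA : Subgroup.centralizer (A : Set G) ≤ M := (prop_12_4 hG hM hAM hA hAc).1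
  have hQM : Q' ≤ M :=
    hcomm.trans ((Subgroup.centralizer_le (SetLike.coe_subset_coe.mpr hAS)).trans hCA)
  have hQ'M : SylIn q M Q' := hQ'.mono hQM le_top
  obtain ⟨-, hqσ, hr2, hr1⟩ := hqτ
  have hT1 : ¬ PRankLE q 1 ↥Q' := fun h => hr1 (prankLE_of_sylIn hQ'M h)
  obtain ⟨B, hBQ, hB, hBcard⟩ := exists_elementary_of_not_pRankLE hT1
  have hBc : Nat.card B = q ^ 2 := by
    apply card_eq_sq hB hBcard
    intro h
    exact not_pRankLE_of_elementary (hBQ.trans hQM) hB h hr2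
  have hCB : Subgroup.centralizer (B : Set G) ≤ M :=
    (prop_12_4 hG hM (hBQ.trans hQM) hB hBc).1
  have hSM : S' ≤ M :=
    (Subgroup.le_centralizer_iff.mp hcomm).trans
      ((Subgroup.centralizer_le (SetLike.coe_subset_coe.mpr hBQ)).trans hCB)
  exact dT.abelian hG (hS'.mono hSM le_top)

/-- for `p ≠ q` in `τ₂(M)` and elementary abelian subgroups `A`, `B` of orders `p ^ 2`, `q ^ 2` of
a complement `E`, `N_G(B) ≤ N_G(A)` -/
theorem normalizer_le_normalizer_of_tau2 (hG : IsMinSimpleOddOrder G) {M E : Subgroup G}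
    (hM : IsCoatom M) (hE : IsComplIn E (sigmaCore M) M) {p q : ℕ} [hp : Fact p.Prime]
    [hq : Fact q.Prime] (hpq : p ≠ q) (hpτ : p ∈ tau2 M) (hqτ : q ∈ tau2 M) {A B : Subgroup G}
    (hAE : A ≤ E) (hA : IsElementaryAbelian p A) (hAc : Nat.card A = p ^ 2) (hBE : B ≤ E)
    (hB : IsElementaryAbelian q B) (hBc : Nat.card B = q ^ 2) :
    Subgroup.normalizer (B : Set G) ≤ Subgroup.normalizer (A : Set G) := by
  obtain ⟨⟨hEA, hXA⟩, -, -⟩ := corollary_12_6 hG hM hE hpτ hAE hA hAc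
  obtain ⟨⟨hEB, -⟩, ⟨hCB, hMB, -⟩, -⟩ := corollary_12_6 hG hM hE hqτ hBE hB hBc
  have hCBE : Subgroup.centralizer (B : Set G) ≤ E := hCB.trans hMB.le
  have hAB : A ⊓ B = ⊥ :=
    inf_eq_bot_of_ne hpq (isPGroup_of_elementary hA) (isPGroup_of_elementary hB)
  have hAcB : A ≤ Subgroup.centralizer (B : Set G) :=
    le_centralizer_of_normalize (hAE.trans hEB) (hBE.trans hEA) hAB
  apply le_normalizer_of_forall_conj
  intro n hn a ha
  by_cases ha1 : a = 1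
  · rw [ha1, mul_one, mul_inv_cancel]; exact A.one_mem
  have hy : n * a * n⁻¹ ∈ Subgroup.centralizer (B : Set G) :=
    (Subgroup.mem_normalizer_iff.mp (normalizer_le_normalizer_centralizer B hn) a).mp (hAcB ha)
  have hyE := hCBE hy
  have hord : orderOf (n * a * n⁻¹) = p := by
    apply orderOf_eq_prime
    · rw [conj_pow, hA.2 a ha, mul_one, mul_inv_cancel]
    · intro h
      exact ha1 (conj_eq_one_iff.mp h)
  have hXc : Nat.card (Subgroup.zpowers (n * a * n⁻¹)) = p := by rw [Nat.card_zpowers, hord]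
  exact hXA _ (Subgroup.zpowers_le.mpr hyE) hXc (Subgroup.mem_zpowers _)

/-- **Theorem 12.7(a)** -/
theorem tau2_eq_singleton (hG : IsMinSimpleOddOrder G) {M E : Subgroup G} (hM : IsCoatom M)
    (hE : IsComplIn E (sigmaCore M) M) {p : ℕ} [hp : Fact p.Prime] (hpτ : p ∈ tau2 M)
    (hS : ∀ S : Sylow p G, ¬ IsMulCommutative ↥(S : Subgroup G)) {A : Subgroup G} (hAE : A ≤ E)
    (hA : IsElementaryAbelian p A) (hAc : Nat.card A = p ^ 2) : tau2 M = {p} := by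
  ext q
  simp only [Set.mem_singleton_iff]
  constructor
  swap
  · rintro rfl; exact hpτ
  intro hqτ
  by_contra hqp
  haveI : Fact q.Prime := ⟨hqτ.1⟩
  have hpq : p ≠ q := fun h => hqp h.symm
  obtain ⟨B, hBE, hB, hBc⟩ := Cfsg.Agent.Lib.Helper2.BG12.exists_sq_le_compl hG hM hE hqτ
  have hAM := hAE.trans hE.1
  have hBM := hBE.trans hE.1
  have dA : T2 M p A := ⟨hM, hpτ.2.1, hAM, hA, hAc⟩
  have dB : T2 M q B := ⟨hM, hqτ.2.1, hBM, hB, hBc⟩
  have hNBA := normalizer_le_normalizer_of_tau2 hG hM hE hpq hpτ hqτ hAE hA hAc hBE hB hBc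
  obtain ⟨L, hL, hNL⟩ := exists_coatom_ge (dA.normalizer_ne_top hG)
  have hpL : p ∈ sigma L := dA.sigma_of_normalizer_le hG hL hNL
  have hqL : q ∈ sigma L := dB.sigma_of_normalizer_le hG hL (hNBA.trans hNL)
  have hpβ : p ∉ beta L := fun h => (lemma_10_5 hG hM hpτ.2.2.1 hpτ.2.2.2).1 h.2
  have hqβ : q ∉ beta L := fun h => (lemma_10_5 hG hM hqτ.2.2.1 hqτ.2.2.2).1 h.2
  obtain ⟨-, -, -, ⟨H, hH, hHnil⟩, -⟩ := theorem_10_8 hG hL
  obtain ⟨SH, -, hSH⟩ := exists_sylIn_ge (p := p) (bot_le : (⊥ : Subgroup G) ≤ H) IsPGroup.of_bot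
  obtain ⟨QH, -, hQH⟩ := exists_sylIn_ge (p := q) (bot_le : (⊥ : Subgroup G) ≤ H) IsPGroup.of_bot
  have key : ∀ {r : ℕ} [hr : Fact r.Prime] {R : Subgroup G}, r ∈ sigma L → r ∉ beta L →
      SylIn r H R → SylIn r ⊤ R := by
    intro r hr R hrL hrβ hR
    have h1 : SylIn r (sigmaCore L) R := by
      refine ⟨hR.1.trans hH.1, hR.2.1, ?_⟩
      rw [← Subgroup.relIndex_mul_relIndex R H (sigmaCore L) hR.1 hH.1]
      intro hd
      rcases (Nat.Prime.dvd_mul hr.out).mp hd with h | h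
      · exact hR.2.2 h
      · exact hH.2.2 r hr.out ⟨hr.out, hrβ⟩ h
    have h2 : SylIn r L R := sylIn_of_sylIn_sigmaCore hG hL hrL h1
    obtain ⟨R₁, dR⟩ := exists_sigmaData hL hrL
    obtain ⟨T, hT⟩ := dR.hPsyl
    obtain ⟨y, -, hy⟩ := dR.sylIn.conj h2
    rw [← hy, ← hT]
    exact (sylIn_top_of_sylow T).cj (Subgroup.mem_top y)
  have hSHtop : SylIn p ⊤ SH := key hpL hpβ hSH
  have hQHtop : SylIn q ⊤ QH := key hqL hqβ hQH
  have hcomm : QH ≤ Subgroup.centralizer (SH : Set G) :=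
    le_centralizer_of_normalize (hQH.1.trans (sylIn_normal_of_isNilpotent hHnil hSH))
      (hSH.1.trans (sylIn_normal_of_isNilpotent hHnil hQH))
      (inf_eq_bot_of_ne hpq.symm hQH.2.1 hSH.2.1)
  obtain ⟨c, -, hc⟩ := hSHtop.exists_conj_le (le_top : A ≤ ⊤) dA.isPGroup
  have hS' : ∀ S' : Subgroup G, SylIn p ⊤ S' → ¬ IsMulCommutative ↥S' := by
    intro S' hS'
    have hidx : ¬ p ∣ S'.index := by rw [← Subgroup.relIndex_top_right]; exact hS'.2.2
    have h1 := hS (hS'.2.1.toSylow hidx)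
    rwa [IsPGroup.toSylow_coe] at h1
  apply hS' SH hSHtop
  have hτp : p ∈ tau2 (cj c M) := by rw [tau2_cj]; exact hpτ
  have hτq : q ∈ tau2 (cj c M) := by rw [tau2_cj]; exact hqτ
  exact abelian_of_commuting_sylows hG (isCoatom_cj hM c) hτp hτq (cj_mono c hAM)
    (isElementaryAbelian_map hA _) (by rw [card_cj]; exact hAc) hc hSHtop hQHtop hcomm

end Cfsg.Agent.Lib.Lead.BG11
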