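import Mathlib
import Cfsg.Agent.Lib.Lead.BG11p
import Cfsg.Agent.S1412
import Cfsg.Agent.S1453

set_option autoImplicit false

/-! Bender–Glauberman, Theorem 12.7: part (b2), `F(M) = M_σ × A₀`. -/

namespace Cfsg.Agent.Lib.Lead.BG11

open Cfsg Cfsg.Agent.Lib.Lead Cfsg.Agent.Lib.Lead.BG10 Cfsg.Agent.Lib.Helper7 Cfsg.Agent.Lib.Helper4
open Cfsg.Agent.Lib.Helper4.BG7 Cfsg.Agent.Lib.Helper4.BG76 Cfsg.Agent.Lib.Helper4.BG8
open Cfsg.Agent.Lib.Helper4.BG9 Cfsg.Agent.Lib.Helper4.BG12 Cfsg.Agent.Lib.Helper4.BGConj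
open Cfsg.Agent.Lib.Helper4.BG13 Cfsg.Agent.Lib.Helper4.ThreeStep
open Cfsg.Agent.Lib.Helper2.BG11

universe u

variable {G : Type u} [Group G] [Finite G]

/-- in a nonabelian Sylow `p`-subgroup `S` containing a maximal elementary abelian subgroup `A`
of order `p ^ 2`, the `p`-th powers lie in a subgroup not containing `A` -/
theorem exists_pow_target (hG : IsMinSimpleOddOrder G) {p : ℕ} [hp : Fact p.Prime] (S : Sylow p G)
    (hS : ¬ IsMulCommutative ↥(S : Subgroup G)) {A : Subgroup G} (hAS : A ≤ (S : Subgroup G))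
    (hA : IsElementaryAbelian p A) (hAc : Nat.card A = p ^ 2)
    (hmax : ∀ B : Subgroup G, IsElementaryAbelian p B → A ≤ B → B = A) (hp2 : p ≠ 2) :
    ∃ T : Subgroup G, ¬ A ≤ T ∧ ∀ t ∈ (S : Subgroup G), t ^ p ∈ T := by
  have hAnc : ¬ IsCyclic ↥A := by
    apply not_isCyclic_of_elementary hA
    rw [hAc]
    calc p = p ^ 1 := (pow_one p).symm
      _ < p ^ 2 := Nat.pow_lt_pow_right hp.out.one_lt (by norm_num)
  by_cases hr : PRankLE p 2 ↥(S : Subgroup G)
  · rcases Cfsg.Agent.S1412.result hG p S hr with h | ⟨P₁, P₂, hsup, hcomm, -, -, hexp, hcyc, -⟩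
    · exact absurd h hS
    · refine ⟨P₂, fun hAP => hAnc (isCyclic_of_le_cyclic hAP hcyc), ?_⟩
      intro t ht
      rw [← hsup] at ht
      have hP₂N : P₂ ≤ Subgroup.normalizer (P₁ : Set G) := by
        intro b hb
        apply Subgroup.centralizer_le_normalizer
        rw [Subgroup.mem_centralizer_iff]
        intro a ha
        exact hcomm a ha b hb
      have ht' : t ∈ ((P₁ ⊔ P₂ : Subgroup G) : Set G) := ht
      rw [Subgroup.coe_mul_of_right_le_normalizer_left _ _ hP₂N] at ht'
      obtain ⟨a, ha, b, hb, rfl⟩ := Set.mem_mul.mp ht'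
      have hab : Commute a b := hcomm a ha b hb
      rw [hab.mul_pow]
      have ha1 : a ^ p = 1 := by
        have h1 := Monoid.pow_exponent_eq_one (⟨a, ha⟩ : ↥P₁)
        rw [hexp] at h1
        have h2 := congrArg Subtype.val h1
        simpa using h2
      rw [ha1, one_mul]
      exact P₂.pow_mem hb p
  · set E : Subgroup ↥(S : Subgroup G) := A.subgroupOf (S : Subgroup G) with hEdef
    have hE : IsElementaryAbelian p E := elementary_subgroupOf hA
    have hE2 : Nat.card E = p ^ 2 := by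
      rw [hEdef, Cfsg.Agent.Lib.Lead.card_subgroupOf_of_le hAS, hAc]
    have hEmax : ∀ B : Subgroup ↥(S : Subgroup G), IsElementaryAbelian p B → E ≤ B → B = E := by
      intro B hB hEB
      have h1 : IsElementaryAbelian p (B.map (S : Subgroup G).subtype) :=
        elementary_map_subtype hB
      have h2 : A ≤ B.map (S : Subgroup G).subtype := by
        intro a ha
        exact ⟨⟨a, hAS ha⟩, hEB (Subgroup.mem_subgroupOf.mpr ha), rfl⟩
      have h3 := hmax _ h1 h2
      apply le_antisymm _ hEB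
      intro x hxB
      rw [hEdef, Subgroup.mem_subgroupOf, ← h3]
      exact ⟨x, hxB, rfl⟩
    obtain ⟨hnot, -, -, hchar, hidx⟩ :=
      Cfsg.Agent.S1453.result p hp2 S.isPGroup' hr E hE hE2 hEmax
    set T₀ : Subgroup ↥(S : Subgroup G) := Subgroup.centralizer
      ((Subgroup.closure {x : ↥(S : Subgroup G) |
        x ∈ Subgroup.upperCentralSeries ↥(S : Subgroup G) 2 ∧ x ^ p = 1} :
          Subgroup ↥(S : Subgroup G)) : Set ↥(S : Subgroup G)) with hT₀
    refine ⟨T₀.map (S : Subgroup G).subtype, ?_, ?_⟩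
    · intro hAT
      apply hnot
      intro x hx
      obtain ⟨y, hy, hyx⟩ := hAT (Subgroup.mem_subgroupOf.mp hx)
      have h1 : y = x := Subtype.ext hyx
      rw [← h1]; exact hy
    · intro t ht
      haveI : T₀.Characteristic := hchar
      have h1 := Subgroup.pow_index_mem T₀ (⟨t, ht⟩ : ↥(S : Subgroup G))
      rw [hidx] at h1
      exact ⟨_, h1, rfl⟩

/-- a prime `r ∉ σ(M)` with `O_r(M) ≠ 1` lies in `τ₂(M)` -/
theorem mem_tau2_of_opOf_ne_bot (hG : IsMinSimpleOddOrder G) {M : Subgroup G} (hM : IsCoatom M)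
    {r : ℕ} [hr : Fact r.Prime] (hrσ : r ∉ sigma M) (hne : opOf r M ≠ ⊥) : r ∈ tau2 M := by
  refine ⟨hr.out, hrσ, ?_, ?_⟩
  · by_contra h
    exact hrσ (alpha_subset_sigma hG hM ((alpha_mem_iff hr.out).mpr h))
  · intro h1
    obtain ⟨T, -, hT⟩ := exists_sylIn_ge (p := r) (bot_le : (⊥ : Subgroup G) ≤ M) IsPGroup.of_bot
    obtain ⟨T', hT'⟩ := SylIn.exists_sylow hT
    have hTc : IsCyclic ↥(T' : Subgroup ↥M) :=
      isCyclic_sylow_of_pRankLE_one (odd_card_sub hG M) h1 T'
    have hTc' : IsCyclic ↥T := by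
      rw [← hT']
      exact isCyclic_of_surjective
        ((T' : Subgroup ↥M).equivMapOfInjective M.subtype M.subtype_injective)
        ((T' : Subgroup ↥M).equivMapOfInjective M.subtype M.subtype_injective).surjective
    have hRT : opOf r M ≤ T :=
      hT.normal_le (opOf_le r M) (le_normalizer_opOf r M) (opOf_isPGroup r M)
    have hRc : IsCyclic ↥(opOf r M) := isCyclic_of_le_cyclic hRT hTc'
    have hcomm : ∀ a ∈ opOf r M, ∀ b ∈ opOf r M, a * b = b * a := by
      intro a ha b hb
      have h2 := (IsCyclic.commGroup (α := ↥(opOf r M))).mul_comm ⟨a, ha⟩ ⟨b, hb⟩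
      exact congrArg Subtype.val h2
    set X := torsionSub r (opOf r M) hcomm with hX
    have hXR : X ≤ opOf r M := torsionSub_le hcomm
    have hXN : M ≤ Subgroup.normalizer (X : Set G) :=
      (le_normalizer_opOf r M).trans (normalizer_le_normalizer_torsionSub hcomm)
    have hXr : IsPGroup r X := (opOf_isPGroup r M).to_le hXR
    have hXe : IsElementaryAbelian r X := isElementaryAbelian_torsionSub hcomm
    have hX1 : X ≠ ⊥ := by
      have hd : r ∣ Nat.card (opOf r M) := by
        rcases (opOf_isPGroup r M).card_eq_or_dvd with h | h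
        · exact absurd (Subgroup.card_eq_one.mp h) hne
        · exact h
      obtain ⟨x, hx⟩ := exists_prime_orderOf_dvd_card' (G := ↥(opOf r M)) r hd
      intro h0
      have hxX : (x : G) ∈ X := by
        refine ⟨x.2, ?_⟩
        have h3 : x ^ r = 1 := by
          have h6 := pow_orderOf_eq_one x
          rwa [hx] at h6
        have h4 := congrArg Subtype.val h3
        simpa using h4
      rw [h0, Subgroup.mem_bot] at hxX
      have h5 : x = 1 := Subtype.ext hxX
      rw [h5, orderOf_one] at hx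
      exact hr.out.one_lt.ne hx
    have hXc : Nat.card X = r := by
      have hXcyc : IsCyclic ↥X := isCyclic_of_le_cyclic hXR hRc
      have hle : Nat.card X ≤ r := by
        by_contra hlt
        push Not at hlt
        exact not_isCyclic_of_elementary hXe hlt hXcyc
      obtain ⟨j, hj⟩ := IsPGroup.iff_card.mp hXr
      have hj0 : j ≠ 0 := by
        rintro rfl
        rw [pow_zero] at hj
        exact hX1 (Subgroup.card_eq_one.mp hj)
      rw [hj] at hle ⊢
      have hj1 : j ≤ 1 := by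
        by_contra h
        push Not at h
        have : r ^ 1 < r ^ j := Nat.pow_lt_pow_right hr.out.one_lt h
        rw [pow_one] at this
        omega
      have : j = 1 := by omega
      rw [this, pow_one]
    have hNX : Subgroup.normalizer (X : Set G) ≤ M := by
      rcases hM.le_iff.mp hXN with h | h
      · exact absurd h (BG8.normalizer_ne_top hG hX1 (isPGroup_ne_top hG hXr))
      · exact h.le
    exact (lemma_10_6 hG hM hrσ hXc hNX).1.2 h1

namespace Cfg127

variable {M A A₁ P Q : Subgroup G} {p : ℕ} [hp : Fact p.Prime] {g : G}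

/-- `O_p(M) ≤ A₁` -/
theorem opOf_le_line (c : Cfg127 M p A A₁ P Q g) (hG : IsMinSimpleOddOrder G)
    (hS : ∀ S : Sylow p G, ¬ IsMulCommutative ↥(S : Subgroup G)) : opOf p M ≤ A₁ := by
  have d := c.exc
  have dT := d.toT2
  have hM := d.hM
  have hRP : opOf p M ≤ P :=
    c.hP.normal_le (opOf_le p M) (le_normalizer_opOf p M) (opOf_isPGroup p M)
  have hRσ : opOf p M ⊓ sigmaCore M = ⊥ := by
    rw [← Subgroup.card_eq_one]
    have h1 : Nat.card ↥(opOf p M ⊓ sigmaCore M) ∣ Nat.card (sigmaCore M) :=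
      Subgroup.card_dvd_of_le inf_le_right
    obtain ⟨j, hj⟩ := IsPGroup.iff_card.mp ((opOf_isPGroup p M).to_le
      (inf_le_left : opOf p M ⊓ sigmaCore M ≤ opOf p M))
    rw [hj] at h1 ⊢
    have hcop : (Nat.card (sigmaCore M)).Coprime p := by
      rw [Nat.coprime_comm, Nat.Prime.coprime_iff_not_dvd hp.out]
      intro hd
      exact d.hpσ ((sigmaCore_hall hG hM).1.2.1 p hp.out hd)
    by_contra hne
    have hj0 : j ≠ 0 := fun h => hne (by rw [h, pow_zero])
    have hpd : p ∣ Nat.card (sigmaCore M) := (dvd_pow_self p hj0).trans h1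
    exact (Nat.Prime.coprime_iff_not_dvd hp.out).mp hcop.symm hpd
  have hRC : opOf p M ≤ Subgroup.centralizer (sigmaCore M : Set G) :=
    le_centralizer_of_normalize ((opOf_le p M).trans (BG10.le_normalizer_sigmaCore M))
      ((sigmaCore_le M).trans (le_normalizer_opOf p M)) hRσ
  obtain ⟨S, hQS⟩ := c.hQ.exists_le_sylow
  have hPS : P ≤ (S : Subgroup G) := c.hPQ.trans hQS
  have hAS : A ≤ (S : Subgroup G) := c.hAP.trans hPS
  obtain ⟨T, hAT, hT⟩ := exists_pow_target hG S (hS S) hAS d.hA d.hAc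
    (fun B hB hAB => dT.max hG hB hAB) (dT.p_ne_two hG)
  have hline : ∀ u ∈ opOf p M, u ^ p = 1 → u ∈ A₁ := by
    intro u hu hup
    rw [← c.inf_centralizer_eq hG]
    exact ⟨dT.mem_of_mem_sylow hG c.hP c.hAP (hRP hu) hup, hRC hu⟩
  have hexp : ∀ x ∈ opOf p M, x ^ p = 1 := by
    by_contra hcon
    push Not at hcon
    obtain ⟨x, hxR, hxp⟩ := hcon
    obtain ⟨k, hk⟩ := (opOf_isPGroup p M) ⟨x, hxR⟩
    have hk' : x ^ (p ^ k) = 1 := by
      have h1 := congrArg Subtype.val hk
      simpa using h1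
    classical
    have hex : ∃ k : ℕ, x ^ (p ^ k) = 1 := ⟨k, hk'⟩
    set k₀ := Nat.find hex with hk₀def
    have hk₀ : x ^ (p ^ k₀) = 1 := Nat.find_spec hex
    have hmin : ∀ j < k₀, x ^ (p ^ j) ≠ 1 := fun j hj => Nat.find_min hex hj
    have h2 : 2 ≤ k₀ := by
      by_contra h
      have h01 : k₀ = 0 ∨ k₀ = 1 := by omega
      rcases h01 with h0 | h1
      · rw [h0, pow_zero, pow_one] at hk₀
        exact hxp (by rw [hk₀, one_pow])
      · rw [h1, pow_one] at hk₀
        exact hxp hk₀
    set x' := x ^ (p ^ (k₀ - 2)) with hx'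
    have hx'R : x' ∈ opOf p M := Subgroup.pow_mem _ hxR _
    have hx'1 : x' ^ p ≠ 1 := by
      rw [hx', ← pow_mul, ← pow_succ]
      exact hmin _ (by omega)
    have hpk : p ^ k₀ = p ^ (k₀ - 2) * p * p := by
      conv_lhs => rw [show k₀ = (k₀ - 2) + 1 + 1 by omega]
      rw [pow_succ, pow_succ]
    have hx'2 : (x' ^ p) ^ p = 1 := by
      have h3 := hk₀
      rw [hpk, pow_mul, pow_mul] at h3
      exact h3
    set u := x' ^ p with hu
    have huR : u ∈ opOf p M := Subgroup.pow_mem _ hx'R _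
    have huA₁ : u ∈ A₁ := hline u huR hx'2
    have huT : u ∈ T := hT x' (hPS (hRP hx'R))
    have hA₁T : A₁ ≤ T := by
      rw [eq_zpowers_of_card_prime d.hA₀c huA₁ hx'1]
      exact Subgroup.zpowers_le.mpr huT
    -- the conjugate
    have hgNP : g ∈ Subgroup.normalizer (P : Set G) := c.hQN c.hgQ
    have hgx' : g * x' * g⁻¹ ∈ P := (Subgroup.mem_normalizer_iff.mp hgNP x').mp (hRP hx'R)
    have hvT : g * u * g⁻¹ ∈ T := by
      have h4 : g * u * g⁻¹ = (g * x' * g⁻¹) ^ p := by rw [hu, conj_pow]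
      rw [h4]
      exact hT _ (hPS hgx')
    have hvc : g * u * g⁻¹ ∈ cj g A₁ := by
      rw [mem_cj]
      have h5 : g⁻¹ * (g * u * g⁻¹) * g = u := by group
      rw [h5]; exact huA₁
    have hv1 : g * u * g⁻¹ ≠ 1 := fun h => hx'1 (conj_eq_one_iff.mp h)
    have hcjc : Nat.card (cj g A₁) = p := by rw [card_cj]; exact d.hA₀c
    have hcjT : cj g A₁ ≤ T := by
      rw [eq_zpowers_of_card_prime hcjc hvc hv1]
      exact Subgroup.zpowers_le.mpr hvT
    have hne : A₁ ≠ cj g A₁ := by
      intro h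
      exact c.g_not_mem (d.hN (mem_normalizer_iff_cj.mpr h.symm))
    have hsup := sup_eq_of_card_prime d.hAc d.hA₀A (d.cj_le (c.g_mem_normalizer hG)) d.hA₀c hcjc hne
    apply hAT
    rw [← hsup]
    exact sup_le hA₁T hcjT
  intro x hx
  exact hline x hx (hexp x hx)

/-- **Theorem 12.7(b2)**: `F(M) = M_σ A₁` -/
theorem fittingOf_eq (c : Cfg127 M p A A₁ P Q g) (hG : IsMinSimpleOddOrder G)
    (hS : ∀ S : Sylow p G, ¬ IsMulCommutative ↥(S : Subgroup G)) (hτ : tau2 M = {p})
    {E : Subgroup G} (hE : IsComplIn E (sigmaCore M) M)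
    (hEA : E ≤ Subgroup.normalizer (A : Set G)) : fittingOf M = sigmaCore M ⊔ A₁ := by
  have d := c.exc
  have hM := d.hM
  apply le_antisymm
  · rw [fittingOf_eq_iSup]
    apply iSup_le
    intro r
    haveI : Fact (r : ℕ).Prime := ⟨r.2⟩
    by_cases hrσ : (r : ℕ) ∈ sigma M
    · exact (le_sigmaCore_of_isPGroup hG hM hrσ (opOf_le r M) (opOf_isPGroup r M)).trans
        le_sup_left
    · by_cases hrp : (r : ℕ) = p
      · rw [hrp]
        exact (c.opOf_le_line hG hS).trans le_sup_right
      · have h0 : opOf (r : ℕ) M = ⊥ := by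
          by_contra hne
          apply hrp
          have h1 : (r : ℕ) ∈ tau2 M := mem_tau2_of_opOf_ne_bot hG hM hrσ hne
          rw [hτ] at h1
          exact h1
        rw [h0]
        exact bot_le
  · apply sup_le
    · exact le_fittingOf (sigmaCore_le M) (BG10.le_normalizer_sigmaCore M) (d.nilpotent hG)
    · have hA₁p : IsPGroup p A₁ := d.toT2.isPGroup.to_le d.hA₀A
      apply le_fittingOf (d.hA₀A.trans d.hAM) _ hA₁p.isNilpotent
      rw [← IsComplIn.sup_eq hE]
      apply sup_le
      · have h1 : E ≤ Subgroup.normalizer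
            ((A ⊓ Subgroup.centralizer (sigmaCore M : Set G) : Subgroup G) : Set G) :=
          (le_inf hEA ((hE.1.trans (BG10.le_normalizer_sigmaCore M)).trans
            (normalizer_le_normalizer_centralizer _))).trans (normalizer_inf_le' _ _)
        rwa [c.inf_centralizer_eq hG] at h1
      · exact (c.sigmaCore_le_centralizer hG).trans (Subgroup.centralizer_le_normalizer _)

end Cfg127

end Cfsg.Agent.Lib.Lead.BG11
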