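import Mathlib
import Cfsg.Agent.Lib.Lead.BG11q

set_option autoImplicit false

/-! Bender–Glauberman, Theorem 12.7. -/

namespace Cfsg.Agent.Lib.Lead.BG11

open Cfsg Cfsg.Agent.Lib.Lead Cfsg.Agent.Lib.Lead.BG10 Cfsg.Agent.Lib.Helper7 Cfsg.Agent.Lib.Helper4
open Cfsg.Agent.Lib.Helper4.BG7 Cfsg.Agent.Lib.Helper4.BG76 Cfsg.Agent.Lib.Helper4.BG8
open Cfsg.Agent.Lib.Helper4.BG9 Cfsg.Agent.Lib.Helper4.BG12 Cfsg.Agent.Lib.Helper4.BGConj
open Cfsg.Agent.Lib.Helper4.BG13 Cfsg.Agent.Lib.Helper4.ThreeStep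
open Cfsg.Agent.Lib.Helper2.BG11

universe u

variable {G : Type u} [Group G] [Finite G]

/-- **Bender–Glauberman, Theorem 12.7** -/
theorem theorem_12_7 (hG : IsMinSimpleOddOrder G) {M : Subgroup G} (hM : IsCoatom M)
    {E : Subgroup G} (hE : IsComplIn E (sigmaCore M) M) {p : ℕ} [hp : Fact p.Prime]
    (hpτ : p ∈ tau2 M) (hS : ∀ S : Sylow p G, ¬ IsMulCommutative ↥(S : Subgroup G))
    {A : Subgroup G} (hAE : A ≤ E) (hA : IsElementaryAbelian p A) (hAc : Nat.card A = p ^ 2) :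
    tau2 M = {p} ∧
      (Nat.card ↥(A ⊓ Subgroup.centralizer (sigmaCore M : Set G)) = p ∧
        fittingOf M = sigmaCore M ⊔ (A ⊓ Subgroup.centralizer (sigmaCore M : Set G))) ∧
      ∀ X : Subgroup G, X ≤ E → Nat.card X = p →
        X ≠ A ⊓ Subgroup.centralizer (sigmaCore M : Set G) →
        sigmaCore M ⊓ Subgroup.centralizer (X : Set G) = ⊥ ∧
          ¬ Subgroup.centralizer (X : Set G) ≤ M := by
  have hAM := hAE.trans hE.1
  have dT : T2 M p A := ⟨hM, hpτ.2.1, hAM, hA, hAc⟩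
  obtain ⟨A₁, P, Q, g, c⟩ := dT.exists_cfg127 hG hS
  obtain ⟨⟨hEA, hXA⟩, -, -⟩ := corollary_12_6 hG hM hE hpτ hAE hA hAc
  have hτ := tau2_eq_singleton hG hM hE hpτ hS hAE hA hAc
  rw [c.inf_centralizer_eq hG]
  refine ⟨hτ, ⟨c.exc.hA₀c, c.fittingOf_eq hG hS hτ hE hEA⟩, ?_⟩
  intro X hXE hXc hne
  have hXA' := hXA X hXE hXc
  exact ⟨c.fpf hG hXA' hXc hne, c.centralizer_not_le hG hXA' hXc hne⟩

end Cfsg.Agent.Lib.Lead.BG11
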