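import Cfsg.Agent.Lib.Lead.HallCount2
import Cfsg.Agent.Lib.Lead.CoprimeSylow5
import Cfsg.Agent.Lib.Lead.SZConjB2

set_option autoImplicit false

/-!
# M. Hall's theorem on the number of Sylow subgroups: counting tools
-/

namespace Cfsg.Agent.Lib.Lead.SylowNum

open scoped Pointwise

open Cfsg.Agent.Lib.Lead Cfsg.Agent.Lib.Lead.HallCount

universe u

variable {G : Type u} [Group G]

/-- the Sylow number as a count of subgroups of given order -/
theorem card_sylow_eq_hc [Finite G] (p : ℕ) [Fact p.Prime] :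
    Nat.card (Sylow p G) = hc G (p ^ (Nat.card G).factorization p) := by
  unfold hc
  apply Nat.card_congr
  exact ⟨fun P => ⟨P.1, P.card_eq_multiplicity⟩, fun H => Sylow.ofCard H.1 H.2,
    fun P => Sylow.ext rfl, fun H => rfl⟩

/-- conjugacy of subgroups of Sylow order -/
theorem conj_of_card_sylow [Finite G] (p : ℕ) [Fact p.Prime] (a : ℕ)
    (ha : (Nat.card G).factorization p = a)
    (H K : Subgroup G) (hH : Nat.card H = p ^ a) (hK : Nat.card K = p ^ a) :
    ∃ g : G, MulAut.conj g • H = K := by
  subst ha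
  obtain ⟨g, hg⟩ := MulAction.exists_smul_eq G (Sylow.ofCard H hH) (Sylow.ofCard K hK)
  refine ⟨g, ?_⟩
  have := congrArg (fun P : Sylow p G => (P : Subgroup G)) hg
  simp only [Sylow.coe_subgroup_smul, Sylow.coe_ofCard] at this
  exact this

theorem card_inf_mul_relIndex_sup [Finite G] (Y K : Subgroup G) [K.Normal] :
    Nat.card (Y ⊓ K : Subgroup G) * Y.relIndex (Y ⊔ K) = Nat.card K := by
  have e1 := card_sup_mul_card_inf Y K Subgroup.le_normalizer_of_normal
  have e2 : Nat.card (Y.subgroupOf (Y ⊔ K)) * Y.relIndex (Y ⊔ K) =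
      Nat.card (Y ⊔ K : Subgroup G) := Subgroup.card_mul_index _
  rw [card_subgroupOf_of_le le_sup_left] at e2
  have hYpos : 0 < Nat.card Y := Nat.card_pos
  have e3 : Nat.card Y * (Nat.card (Y ⊓ K : Subgroup G) * Y.relIndex (Y ⊔ K)) =
      Nat.card Y * Nat.card K := by
    rw [← e1, ← e2]; ring
  exact Nat.eq_of_mul_eq_mul_left hYpos e3

theorem card_inf_mul_relIndex [Finite G] (Y K : Subgroup G) :
    Nat.card (Y ⊓ K : Subgroup G) * Y.relIndex K = Nat.card K := by
  have e2 : Nat.card (Y.subgroupOf K) * Y.relIndex K = Nat.card K := Subgroup.card_mul_index _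
  rwa [card_subgroupOf_eq] at e2

/-- if `Y K = G` with `K` normal then `|G : Y| = |K : Y ∩ K|` -/
theorem index_eq_relIndex_of_sup_eq_top [Finite G] (Y K : Subgroup G) [K.Normal]
    (h : Y ⊔ K = ⊤) : Y.index = Y.relIndex K := by
  have h1 := card_inf_mul_relIndex_sup Y K
  have h2 := card_inf_mul_relIndex Y K
  rw [h, Subgroup.relIndex_top_right] at h1
  have hpos : 0 < Nat.card (Y ⊓ K : Subgroup G) := Nat.card_pos
  exact Nat.eq_of_mul_eq_mul_left hpos (h1.trans h2.symm)

/-- the Frattini argument with a conjugacy hypothesis -/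
theorem normalizer_sup_eq' [Finite G] (K : Subgroup G) [K.Normal] (H : Subgroup G)
    (hconjX : ∀ A B : Subgroup (H ⊔ K : Subgroup G), Nat.card A = Nat.card H →
      Nat.card B = Nat.card H → ∃ x : (H ⊔ K : Subgroup G), MulAut.conj x • A = B) :
    Subgroup.normalizer ((H ⊔ K : Subgroup G) : Set G) =
      Subgroup.normalizer (H : Set G) ⊔ K := by
  apply le_antisymm
  · intro g hg
    rw [mem_normalizer_iff_conj_smul] at hg
    have hH'X : MulAut.conj g • H ≤ H ⊔ K := by
      rw [← hg]
      exact Subgroup.pointwise_smul_le_pointwise_smul_iff.mpr le_sup_left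
    have hc1 : Nat.card (H.subgroupOf (H ⊔ K)) = Nat.card H := card_subgroupOf_of_le le_sup_left
    have hc2 : Nat.card ((MulAut.conj g • H).subgroupOf (H ⊔ K)) = Nat.card H := by
      rw [card_subgroupOf_of_le hH'X, card_conj_smul]
    obtain ⟨x, hxX, hx⟩ := conj_of_conj_subgroupOf le_sup_left hH'X (hconjX _ _ hc1 hc2)
    have hxg : x⁻¹ * g ∈ Subgroup.normalizer (H : Set G) := by
      rw [mem_normalizer_iff_conj_smul, map_mul, mul_smul, ← hx, ← mul_smul, ← map_mul,
        inv_mul_cancel, map_one, one_smul]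
    have : g = x * (x⁻¹ * g) := by group
    rw [this]
    refine mul_mem ?_ (Subgroup.mem_sup_left hxg)
    have hXle : H ⊔ K ≤ Subgroup.normalizer (H : Set G) ⊔ K :=
      sup_le (le_sup_of_le_left Subgroup.le_normalizer) le_sup_right
    exact hXle hxX
  · apply sup_le
    · intro g hg
      rw [mem_normalizer_iff_conj_smul] at hg ⊢
      rw [Subgroup.smul_sup, hg, Subgroup.Normal.conj_smul_eq_self]
    · exact le_trans le_sup_right Subgroup.le_normalizer

/-- counting through a quotient by a normal subgroup of coprime order -/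
theorem count_quotient [Finite G] (K : Subgroup G) [K.Normal] (H : Subgroup G) (m : ℕ)
    (hH : Nat.card H = m) (hHK : H ⊓ K = ⊥)
    (hconjG : ∀ A B : Subgroup G, Nat.card A = m → Nat.card B = m →
      ∃ g : G, MulAut.conj g • A = B)
    (hconjQ : ∀ A B : Subgroup (G ⧸ K), Nat.card A = m → Nat.card B = m →
      ∃ g : G ⧸ K, MulAut.conj g • A = B)
    (hconjX : ∀ A B : Subgroup (H ⊔ K : Subgroup G), Nat.card A = Nat.card H →
      Nat.card B = Nat.card H → ∃ x : (H ⊔ K : Subgroup G), MulAut.conj x • A = B) :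
    hc G m = hc (G ⧸ K) m *
      (Subgroup.normalizer (H : Set G)).relIndex (Subgroup.normalizer (H : Set G) ⊔ K) := by
  have hHbar : Nat.card (H.map (QuotientGroup.mk' K)) = m := by
    rw [card_map_mk_of_inf_eq_bot K H hHK, hH]
  have h1 : hc G m = (Subgroup.normalizer (H : Set G)).index :=
    hc_eq_index_normalizer _ hconjG H hH
  have h2 : hc (G ⧸ K) m = (Subgroup.normalizer (H : Set G) ⊔ K).index := by
    rw [hc_eq_index_normalizer _ hconjQ _ hHbar, index_normalizer_map_mk,
      normalizer_sup_eq' K H hconjX]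
  have h3 : (Subgroup.normalizer (H : Set G)).relIndex (Subgroup.normalizer (H : Set G) ⊔ K) *
      (Subgroup.normalizer (H : Set G) ⊔ K).index = (Subgroup.normalizer (H : Set G)).index :=
    Subgroup.relIndex_mul_index le_sup_left
  rw [h1, h2, ← h3, mul_comm]

/-- counting through a quotient by a normal subgroup contained in the subgroups counted -/
theorem count_quotient_le [Finite G] (K : Subgroup G) [K.Normal] (H : Subgroup G) (m m' : ℕ)
    (hH : Nat.card H = m) (hKH : K ≤ H) (hm' : Nat.card (H.map (QuotientGroup.mk' K)) = m')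
    (hconjG : ∀ A B : Subgroup G, Nat.card A = m → Nat.card B = m →
      ∃ g : G, MulAut.conj g • A = B)
    (hconjQ : ∀ A B : Subgroup (G ⧸ K), Nat.card A = m' → Nat.card B = m' →
      ∃ g : G ⧸ K, MulAut.conj g • A = B) :
    hc G m = hc (G ⧸ K) m' := by
  rw [hc_eq_index_normalizer _ hconjG H hH, hc_eq_index_normalizer _ hconjQ _ hm',
    index_normalizer_map_mk, sup_eq_left.mpr hKH]

/-- the Sylow number of a subgroup as a relative index -/
theorem card_sylow_subgroup_eq_relIndex [Finite G] (p : ℕ) [Fact p.Prime] (X P : Subgroup G)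
    (hPX : P ≤ X) (hP : Nat.card P = p ^ (Nat.card X).factorization p) :
    Nat.card (Sylow p X) = (Subgroup.normalizer (P : Set G)).relIndex X := by
  have hP' : Nat.card (P.subgroupOf X) = p ^ (Nat.card X).factorization p := by
    rw [card_subgroupOf_of_le hPX, hP]
  rw [Sylow.card_eq_index_normalizer (Sylow.ofCard (P.subgroupOf X) hP')]
  change (Subgroup.normalizer ((P.subgroupOf X : Subgroup X) : Set X)).index = _
  rw [← Subgroup.subgroupOf_normalizer_eq hPX]
  rfl

theorem factorization_eq_of_le [Finite G] (p : ℕ) [Fact p.Prime] (X P : Subgroup G)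
    (hPX : P ≤ X) (hP : Nat.card P = p ^ (Nat.card G).factorization p) :
    (Nat.card X).factorization p = (Nat.card G).factorization p := by
  have hp : p.Prime := Fact.out
  have hX0 : Nat.card X ≠ 0 := Nat.card_pos.ne'
  have hG0 : Nat.card G ≠ 0 := Nat.card_pos.ne'
  apply le_antisymm
  · exact (Nat.factorization_le_iff_dvd hX0 hG0).mpr (Subgroup.card_subgroup_dvd_card X) p
  · have h1 : p ^ (Nat.card G).factorization p ∣ Nat.card X :=
      hP ▸ Subgroup.card_dvd_of_le hPX
    exact (hp.pow_dvd_iff_le_factorization hX0).mp h1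

end Cfsg.Agent.Lib.Lead.SylowNum
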