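import Cfsg.Agent.Lib.Lead.MaxNilp1
import Cfsg.Agent.Lib.Lead.SylowNum1
import Cfsg.Agent.Lib.Lead.FrobNPC5

set_option autoImplicit false

/-!
# Wielandt's `D_π` theorem for a Hall subgroup with a nilpotent direct factor: tools
-/

namespace Cfsg.Agent.Lib.Lead.HallDirect

open scoped Pointwise

open Cfsg.Agent.Lib.Lead

universe u

variable {G : Type u} [Group G]

/-- elements of the join of two elementwise commuting subgroups are products -/
theorem exists_mul_of_mem_sup_commute (A B : Subgroup G)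
    (hc : ∀ a ∈ A, ∀ b ∈ B, a * b = b * a) {x : G} (hx : x ∈ A ⊔ B) :
    ∃ a ∈ A, ∃ b ∈ B, x = a * b := by
  have hcomm : ∀ (a : A) (b : B), Commute (A.subtype a) (B.subtype b) :=
    fun a b => hc a a.2 b b.2
  have h := MonoidHom.noncommCoprod_range A.subtype B.subtype hcomm
  rw [Subgroup.range_subtype, Subgroup.range_subtype] at h
  rw [← h] at hx
  obtain ⟨⟨a, b⟩, rfl⟩ := hx
  exact ⟨a, a.2, b, b.2, rfl⟩

/-- the join of a commuting `p`-subgroup and `r`-subgroup is nilpotent -/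
theorem nilpotent_sup_of_commute [Finite G] {p r : ℕ} [Fact p.Prime] [Fact r.Prime]
    (A B : Subgroup G) (hA : IsPGroup p A) (hB : IsPGroup r B)
    (hc : ∀ a ∈ A, ∀ b ∈ B, a * b = b * a) : Group.IsNilpotent (A ⊔ B : Subgroup G) := by
  have hcomm : ∀ (a : A) (b : B), Commute (A.subtype a) (B.subtype b) :=
    fun a b => hc a a.2 b b.2
  have h := MonoidHom.noncommCoprod_range A.subtype B.subtype hcomm
  rw [Subgroup.range_subtype, Subgroup.range_subtype] at h
  haveI := hA.isNilpotent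
  haveI := hB.isNilpotent
  have h1 : Group.IsNilpotent (MonoidHom.noncommCoprod A.subtype B.subtype hcomm).range :=
    Group.nilpotent_of_surjective
      (MonoidHom.noncommCoprod A.subtype B.subtype hcomm).rangeRestrict
      (MonoidHom.rangeRestrict_surjective _)
  rw [h] at h1
  exact h1

/-- a subgroup containing a Sylow `r`-subgroup for every prime `r` is the whole group -/
theorem eq_top_of_forall_sylow_le {Z : Type*} [Group Z] [Finite Z] (C : Subgroup Z)
    (h : ∀ (r : ℕ) [Fact r.Prime], ∃ R : Sylow r Z, (R : Subgroup Z) ≤ C) : C = ⊤ := by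
  apply Subgroup.eq_top_of_card_eq
  apply Nat.dvd_antisymm (Subgroup.card_subgroup_dvd_card C)
  have hZ0 : Nat.card Z ≠ 0 := Nat.card_pos.ne'
  have hC0 : Nat.card C ≠ 0 := Nat.card_pos.ne'
  rw [← Nat.factorization_le_iff_dvd hZ0 hC0]
  intro r
  by_cases hr : r.Prime
  · haveI : Fact r.Prime := ⟨hr⟩
    obtain ⟨R, hR⟩ := h r
    have h1 : r ^ (Nat.card Z).factorization r ∣ Nat.card C := by
      rw [← R.card_eq_multiplicity]
      exact Subgroup.card_dvd_of_le hR
    exact (hr.pow_dvd_iff_le_factorization hC0).mp h1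
  · rw [Nat.factorization_eq_zero_of_not_prime _ hr]
    exact Nat.zero_le _

/-- the hypotheses, bundled -/
structure Setup (σ τ : Set ℕ) (H Hs Ht : Subgroup G) : Prop where
  disj : Disjoint σ τ
  hall : Cfsg.IsPiHall (σ ∪ τ) H
  hs : Cfsg.IsPiSubgroup σ Hs
  ht : Cfsg.IsPiSubgroup τ Ht
  nil : Group.IsNilpotent Hs
  join : Hs ⊔ Ht = H
  comm : ∀ a ∈ Hs, ∀ b ∈ Ht, a * b = b * a
  dtau : ∀ T : Subgroup G, Cfsg.IsPiSubgroup τ T → ∃ g : G, T ≤ MulAut.conj g • Ht

variable {σ τ : Set ℕ} {H Hs Ht : Subgroup G}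

theorem Setup.not_mem_tau (S : Setup σ τ H Hs Ht) {p : ℕ} (hp : p ∈ σ) : p ∉ τ :=
  fun h => (Set.disjoint_left.mp S.disj hp) h

theorem Setup.inf_eq_bot [Finite G] (S : Setup σ τ H Hs Ht) : Hs ⊓ Ht = ⊥ := by
  apply (Subgroup.disjoint_of_coprime_natCard _).eq_bot
  apply Nat.coprime_of_dvd
  intro k hk h1 h2
  exact S.not_mem_tau (S.hs k hk h1) (S.ht k hk h2)

/-- `p`-elements of `H` commute with `p'`-elements of `H`, for `p ∈ σ` -/
theorem Setup.commute_p [Finite G] (S : Setup σ τ H Hs Ht) {p : ℕ} [hpf : Fact p.Prime]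
    (hp : p ∈ σ) {u v : G} (hu : u ∈ H) (hv : v ∈ H) (hup : IsPGroup p (Subgroup.zpowers u))
    (hvp : (orderOf v).Coprime p) : u * v = v * u := by
  have hinf := S.inf_eq_bot
  rw [← S.join] at hu hv
  obtain ⟨a, ha, b, hb, rfl⟩ := exists_mul_of_mem_sup_commute Hs Ht S.comm hu
  obtain ⟨a', ha', b', hb', rfl⟩ := exists_mul_of_mem_sup_commute Hs Ht S.comm hv
  obtain ⟨k, hk⟩ := IsPGroup.iff_card.mp hup
  rw [Nat.card_zpowers] at hk
  have hab : Commute a b := S.comm a ha b hb
  have hab' : Commute a' b' := S.comm a' ha' b' hb'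
  -- `b = 1`
  have hb1 : b = 1 := by
    have h1 : (a * b) ^ (p ^ k) = 1 := by rw [← hk]; exact pow_orderOf_eq_one _
    rw [hab.mul_pow] at h1
    have h2 : b ^ (p ^ k) ∈ Hs ⊓ Ht := by
      refine ⟨?_, Ht.pow_mem hb _⟩
      have : b ^ (p ^ k) = (a ^ (p ^ k))⁻¹ := by
        rw [eq_inv_iff_mul_eq_one, ← (hab.pow_pow (p ^ k) (p ^ k)).eq]
        exact h1
      rw [this]
      exact Hs.inv_mem (Hs.pow_mem ha _)
    rw [hinf, Subgroup.mem_bot] at h2
    have h3 : orderOf b ∣ p ^ k := orderOf_dvd_of_pow_eq_one h2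
    have h4 : orderOf b ∣ Nat.card Ht := by
      have := Subgroup.orderOf_dvd_natCard Ht hb
      exact this
    have h5 : (p ^ k).Coprime (Nat.card Ht) := by
      apply Nat.Coprime.pow_left
      rw [Nat.Prime.coprime_iff_not_dvd hpf.out]
      intro hd
      exact S.not_mem_tau hp (S.ht p hpf.out hd)
    have h6 : orderOf b = 1 := Nat.eq_one_of_dvd_coprimes h5 h3 h4
    exact orderOf_eq_one_iff.mp h6
  subst hb1
  rw [mul_one] at hup hk ⊢
  -- `a'` is a `p'`-element
  have ha'p : (orderOf a').Coprime p := by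
    have h1 : (a' * b') ^ orderOf (a' * b') = 1 := pow_orderOf_eq_one _
    rw [hab'.mul_pow] at h1
    have h2 : a' ^ orderOf (a' * b') ∈ Hs ⊓ Ht := by
      refine ⟨Hs.pow_mem ha' _, ?_⟩
      have : a' ^ orderOf (a' * b') = (b' ^ orderOf (a' * b'))⁻¹ := by
        rw [eq_inv_iff_mul_eq_one]; exact h1
      rw [this]
      exact Ht.inv_mem (Ht.pow_mem hb' _)
    rw [hinf, Subgroup.mem_bot] at h2
    exact Nat.Coprime.coprime_dvd_left (orderOf_dvd_of_pow_eq_one h2) hvp
  have h1 := MaxNilp.commute_of_nilpotent S.nil ha ha' hup ha'p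
  have h2 := S.comm a ha b' hb'
  calc a * (a' * b') = (a * a') * b' := by group
    _ = (a' * a) * b' := by rw [h1]
    _ = a' * (a * b') := by group
    _ = a' * (b' * a) := by rw [h2]
    _ = a' * b' * a := by group

/-- Sylow subgroups of `H` for primes of `σ ∪ τ` are Sylow in `G` -/
theorem Setup.exists_sylow_le [Finite G] (S : Setup σ τ H Hs Ht) {p : ℕ} [hpf : Fact p.Prime]
    (hp : p ∈ σ ∪ τ) : ∃ A : Sylow p G, (A : Subgroup G) ≤ H := by
  obtain ⟨Q⟩ : Nonempty (Sylow p H) := inferInstance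
  have h1 : Nat.card ((Q : Subgroup H).map H.subtype) = p ^ (Nat.card H).factorization p := by
    rw [card_map_subtype]; exact Q.card_eq_multiplicity
  have h2 : (Nat.card H).factorization p = (Nat.card G).factorization p := by
    have h3 := H.card_mul_index
    have hH0 : Nat.card H ≠ 0 := Nat.card_pos.ne'
    have hi0 : H.index ≠ 0 := Subgroup.index_ne_zero_of_finite
    rw [← h3, Nat.factorization_mul hH0 hi0, Finsupp.add_apply,
      Nat.factorization_eq_zero_of_not_dvd (S.hall.2 p hpf.out hp), add_zero]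
  rw [h2] at h1
  exact ⟨Sylow.ofCard _ h1, by rw [Sylow.coe_ofCard]; exact Subgroup.map_subtype_le _⟩

end Cfsg.Agent.Lib.Lead.HallDirect
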