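import Mathlib
import Cfsg.Agent.Lib.Helper4.BG13m
import Cfsg.Agent.Lib.Helper4.FusionLift1
import Cfsg.Agent.S1414
import Cfsg.Agent.S1417
import Cfsg.Agent.S1422

set_option autoImplicit false
set_option linter.style.haveILetI false
set_option linter.unusedSectionVars false

/-! Bender–Glauberman, Theorem 12.17(d) (paper proof by helper4). -/

namespace Cfsg.Agent.Lib.Lead.BG12q

open Cfsg Cfsg.Agent.Lib.Lead Cfsg.Agent.Lib.Lead.BG10 Cfsg.Agent.Lib.Helper7 Cfsg.Agent.Lib.Helper4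
open Cfsg.Agent.Lib.Helper4.BG76 Cfsg.Agent.Lib.Helper4.BG8 Cfsg.Agent.Lib.Helper4.BG9
open Cfsg.Agent.Lib.Helper4.BG7 Cfsg.Agent.Lib.Helper4.BG12 Cfsg.Agent.Lib.Helper4.BGConj
open Cfsg.Agent.Lib.Helper4.BG13
open scoped commutatorElement

universe u

variable {G : Type u} [Group G] [Finite G]

/-- `⁅B ⊔ D, B ⊔ D⁆ ≤ B ⊔ ⁅D, D⁆` if `D` normalizes `B` -/
theorem commutator_sup_le {B D : Subgroup G} (hDB : D ≤ Subgroup.normalizer (B : Set G)) :
    ⁅B ⊔ D, B ⊔ D⁆ ≤ B ⊔ ⁅D, D⁆ := by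
  rw [Subgroup.commutator_le]
  intro x hx y hy
  obtain ⟨b, hb, d, hd, rfl⟩ := exists_mul_of_mem_sup hDB hx
  obtain ⟨b', hb', d', hd', rfl⟩ := exists_mul_of_mem_sup hDB hy
  have hc : ∀ g ∈ D, ∀ z ∈ B, g * z * g⁻¹ ∈ B := fun g hg z hz =>
    (Subgroup.mem_normalizer_iff.mp (hDB hg) z).mp hz
  have e : ⁅b * d, b' * d'⁆ = b * (d * b' * d⁻¹) * ((d * d' * d⁻¹) * b⁻¹ * (d * d' * d⁻¹)⁻¹) *
      ((d * d' * d⁻¹ * d'⁻¹) * b'⁻¹ * (d * d' * d⁻¹ * d'⁻¹)⁻¹) * ⁅d, d'⁆ := by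
    rw [commutatorElement_def, commutatorElement_def]; group
  rw [e]
  apply Subgroup.mul_mem _ ((le_sup_left : B ≤ B ⊔ ⁅D, D⁆) _)
    ((le_sup_right : ⁅D, D⁆ ≤ B ⊔ ⁅D, D⁆) (Subgroup.commutator_mem_commutator hd hd'))
  apply B.mul_mem (B.mul_mem (B.mul_mem hb (hc d hd b' hb')) ?_) ?_
  · exact hc _ (D.mul_mem (D.mul_mem hd hd') (D.inv_mem hd)) _ (B.inv_mem hb)
  · exact hc _ (D.mul_mem (D.mul_mem (D.mul_mem hd hd') (D.inv_mem hd)) (D.inv_mem hd')) _
      (B.inv_mem hb')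

theorem mem_normalizer_sup {A B : Subgroup G} {x : G} (hA : x ∈ Subgroup.normalizer (A : Set G))
    (hB : x ∈ Subgroup.normalizer (B : Set G)) :
    x ∈ Subgroup.normalizer ((A ⊔ B : Subgroup G) : Set G) := by
  rw [mem_normalizer_iff_cj] at hA hB ⊢
  rw [cj_sup, hA, hB]

theorem prime_eq_of_dvd_card {p r : ℕ} [hp : Fact p.Prime] {Y : Subgroup G} (hY : IsPGroup p Y)
    (hr : r.Prime) (hd : r ∣ Nat.card Y) : r = p := by
  obtain ⟨k, hk⟩ := IsPGroup.iff_card.mp hY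
  rw [hk] at hd
  exact (Nat.prime_dvd_prime_iff_eq hr hp.out).mp (hr.dvd_of_dvd_pow hd)

theorem dvd_card_of_ne_bot {p : ℕ} [hp : Fact p.Prime] {Y : Subgroup G} (hY : IsPGroup p Y)
    (h1 : Y ≠ ⊥) : p ∣ Nat.card Y := by
  rcases hY.card_eq_or_dvd with h | h
  · exact absurd (Subgroup.card_eq_one.mp h) h1
  · exact h

/-- `M_β ≤ M_σ` -/
theorem piCoreOf_beta_le_sigmaCore (hG : IsMinSimpleOddOrder G) {M : Subgroup G} (hM : IsCoatom M) :
    piCoreOf (beta M) M ≤ sigmaCore M := by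
  apply le_piCoreOf (Subgroup.map_subtype_le _) (le_normalizer_piCoreOf _ M)
  intro p hp hd
  exact alpha_subset_sigma hG hM (isPiNum_card_piCoreOf (beta M) M p hp hd).1


/-- the first assertion of 12.17(d): `M = M_β (M ∩ M*)` -/
theorem le_beta_sup_inf (hG : IsMinSimpleOddOrder G) {M Mstar : Subgroup G} (hM : IsCoatom M)
    (hMs : IsCoatom Mstar) (hne : Mstar ≠ M) {q : ℕ} [hq : Fact q.Prime] {S : Subgroup G}
    (hS : SylIn q (M ⊓ Mstar) S) (hN : Subgroup.normalizer (S : Set G) ≤ M ⊓ Mstar) :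
    S ≠ ⊥ ∧ q ∈ sigma M ∧ IsMulCommutative ↥S ∧ q ∉ alpha M ∧
      M ≤ piCoreOf (beta M) M ⊔ (M ⊓ Mstar) := by
  classical
  have hSM : S ≤ M := hS.1.trans inf_le_left
  have hSMs : S ≤ Mstar := hS.1.trans inf_le_right
  have hSq : IsPGroup q ↥S := hS.2.1
  have hS1 : S ≠ ⊥ := by
    intro h0
    apply hM.1
    rw [eq_top_iff]
    intro x _
    have : x ∈ Subgroup.normalizer ((S : Subgroup G) : Set G) := by
      rw [h0, mem_normalizer_iff_cj, cj_bot]
    exact (hN this).1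
  have hSMsyl : SylIn q M S := by
    refine ⟨hSM, hSq, ?_⟩
    obtain ⟨R, hSR, hR⟩ := exists_sylIn_ge hSM hSq
    have : R = S := by
      apply eq_of_sylIn_of_normalizer hS hSR hR.2.1
      intro y hyR hyN
      exact hN hyN
    rw [← this]
    exact hR.2.2
  have hsylG : ∃ T : Sylow q G, (T : Subgroup G) = S :=
    sylow_of_normalizer_le hSMsyl (hN.trans inf_le_left)
  have hqM : q ∣ Nat.card M := (dvd_card_of_ne_bot hSq hS1).trans (Subgroup.card_dvd_of_le hSM)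
  have hqσ : q ∈ sigma M := mem_sigma_iff_sylIn.mpr ⟨hqM, S, hSMsyl, hN.trans inf_le_left⟩
  -- `S` is not a uniqueness subgroup
  have hnu : ¬ InUniqueMaximal S := by
    rintro ⟨M₀, -, huniq⟩
    exact hne ((huniq Mstar ⟨hMs, hSMs⟩).trans (huniq M ⟨hM, hSM⟩).symm)
  have hSab : IsMulCommutative ↥S := by
    by_contra hna
    exact hnu (Cfsg.Agent.S1422.result hG q S hSq hna)
  have hSr : PRankLE q 2 ↥S := by
    by_contra hr
    exact hnu (uniq_of_rank_three hG hSq hr)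
  have hqα : q ∉ alpha M := fun h => h.2 (prankLE_of_sylIn hSMsyl hSr)
  have hqβ : q ∉ beta M := fun h => hqα h.1
  refine ⟨hS1, hqσ, hSab, hqα, ?_⟩
  -- the structure of `M'`
  obtain ⟨h1, -, ⟨H, hH, hHnil⟩, -, -⟩ := Cfsg.Agent.S1414.result hG M hM
  set B := piCoreOf (beta M) M with hB
  have hBM : B ≤ M := Subgroup.map_subtype_le _
  have hMB : M ≤ Subgroup.normalizer (B : Set G) := le_normalizer_piCoreOf _ M
  have hBM' : B ≤ ⁅M, M⁆ := (piCoreOf_beta_le_sigmaCore hG hM).trans (sigmaCore_le_commutator hG hM)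
  have hM'M : ⁅M, M⁆ ≤ M := Subgroup.commutator_le_self M
  have hHM' : H ≤ ⁅M, M⁆ := hH.1
  have hM'le : ⁅M, M⁆ ≤ B ⊔ H := by
    rw [← Subgroup.relIndex_eq_one]
    by_contra hne1
    obtain ⟨r, hr, hrd⟩ := Nat.exists_prime_and_dvd hne1
    by_cases hrβ : r ∈ beta M
    · apply h1.2.2 r hr hrβ
      have e := Subgroup.relIndex_mul_relIndex B ⁅M, M⁆ M hBM' hM'M
      rw [← e]
      exact (hrd.trans (Subgroup.relIndex_dvd_of_le_left _ le_sup_left)).trans (Dvd.intro _ rfl)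
    · apply hH.2.2 r hr ⟨hr, hrβ⟩
      exact hrd.trans (Subgroup.relIndex_dvd_of_le_left _ le_sup_right)
  -- the Sylow subgroup of `H`
  obtain ⟨SH, -, hSH⟩ := exists_sylIn_ge (bot_le : (⊥ : Subgroup G) ≤ H) (IsPGroup.of_bot (p := q))
  have hHSH : H ≤ Subgroup.normalizer (SH : Set G) := sylIn_normal_of_isNilpotent hHnil hSH
  have hSHM' : SylIn q ⁅M, M⁆ SH := by
    refine ⟨hSH.1.trans hHM', hSH.2.1, ?_⟩
    rw [← Subgroup.relIndex_mul_relIndex SH H ⁅M, M⁆ hSH.1 hHM']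
    intro hd
    rcases (Nat.Prime.dvd_mul hq.out).mp hd with h | h
    · exact hSH.2.2 h
    · exact hH.2.2 q hq.out ⟨hq.out, hqβ⟩ h
  set K := B ⊔ SH with hK
  have hKM' : K ≤ ⁅M, M⁆ := sup_le hBM' hSHM'.1
  have hM'K : ⁅M, M⁆ ≤ Subgroup.normalizer (K : Set G) := by
    refine hM'le.trans (sup_le ?_ ?_)
    · exact (le_sup_left : B ≤ K).trans Subgroup.le_normalizer
    · intro h hh
      exact mem_normalizer_sup (hMB (hM'M (hHM' hh))) (hHSH hh)
  have hM'n : M ≤ Subgroup.normalizer ((⁅M, M⁆ : Subgroup G) : Set G) := by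
    intro m hm
    rw [mem_normalizer_iff_cj, BGConj.cj_commutator, cj_eq_self_of_mem hm]
  -- all Sylow subgroups of `M'` lie in `K`
  have hall : ∀ T : Subgroup G, SylIn q ⁅M, M⁆ T → T ≤ K := by
    intro T hT
    obtain ⟨y, hy, hyT⟩ := hSHM'.conj hT
    rw [← hyT]
    have := cj_mono y (le_sup_right : SH ≤ K)
    rwa [mem_normalizer_iff_cj.mp (hM'K hy)] at this
  have hMK : M ≤ Subgroup.normalizer (K : Set G) := by
    intro m hm
    rw [mem_normalizer_iff_cj]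
    have h2 : cj m K ≤ K := by
      rw [hK, cj_sup, mem_normalizer_iff_cj.mp (hMB hm)]
      exact sup_le le_sup_left (hall _ (hSHM'.cj' (hM'n hm)))
    exact Subgroup.eq_of_le_of_card_ge h2 (by rw [card_cj])
  have hSM' : S ≤ ⁅M, M⁆ := le_commutator_of_sigma hG hM hqσ hSM hSq
  have hSsylM' : SylIn q ⁅M, M⁆ S := sylIn_of_sylow hsylG hSM'
  have hSK : S ≤ K := hall S hSsylM'
  have hSsylK : SylIn q K S := sylIn_of_sylow hsylG hSK
  -- `K = B S`
  have hKeq : K = B ⊔ S := by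
    obtain ⟨y, hy, hyS⟩ := hSHM'.conj hSsylM'
    have h3 : cj y K = K := mem_normalizer_iff_cj.mp (hM'K hy)
    rw [← h3, hK, cj_sup, mem_normalizer_iff_cj.mp (hMB (hM'M hy)), hyS]
  intro x hx
  obtain ⟨l, hl, y, hy, rfl⟩ := frattini_rel (hKM'.trans hM'M) hMK hSsylK hx
  apply Subgroup.mul_mem
  · rw [hKeq] at hl
    exact (sup_le le_sup_left (hS.1.trans le_sup_right)) hl
  · exact (le_sup_right : M ⊓ Mstar ≤ B ⊔ (M ⊓ Mstar)) (hN hy.2)


/-- if `M = M_β D`, every `p`-subgroup of `M`, `p ∉ β(M)`, is `M`-conjugate into `D` -/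
theorem exists_cj_le_of_not_beta (hG : IsMinSimpleOddOrder G) {M D : Subgroup G} (hM : IsCoatom M)
    (hDM : D ≤ M) (hMD : M ≤ piCoreOf (beta M) M ⊔ D) {p : ℕ} [hp : Fact p.Prime]
    (hpβ : p ∉ beta M) {Y : Subgroup G} (hYM : Y ≤ M) (hY : IsPGroup p Y) :
    ∃ l ∈ M, cj l Y ≤ D := by
  apply exists_cj_le_of_supplement (solvable_of_ne_top hG hM.1) {p} (Subgroup.map_subtype_le _)
    hDM hYM hMD (le_normalizer_piCoreOf _ M)
  · intro r hr hd hrp
    rw [Set.mem_singleton_iff] at hrp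
    rw [hrp] at hd
    exact hpβ (isPiNum_card_piCoreOf (beta M) M p hp.out hd)
  · intro r hr hd
    exact prime_eq_of_dvd_card hY hr hd

/-- **Bender–Glauberman, Theorem 12.17(d)**: two distinct maximal subgroups `M`, `M*` containing the
normalizer of a Sylow `q`-subgroup `S` of `G` (the statement is symmetric in `M`, `M*`) -/
theorem lemma_12_17d (hG : IsMinSimpleOddOrder G) {M Mstar : Subgroup G} (hM : IsCoatom M)
    (hMs : IsCoatom Mstar) (hne : Mstar ≠ M) {q : ℕ} [hq : Fact q.Prime] {S : Subgroup G}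
    (hS : SylIn q (M ⊓ Mstar) S) (hN : Subgroup.normalizer (S : Set G) ≤ M ⊓ Mstar) :
    M ≤ piCoreOf (beta M) M ⊔ (M ⊓ Mstar) ∧
      (∀ p : ℕ, p ∈ tau1 Mstar → p ∈ tau1 M ∨ p ∈ beta M) ∧
      alpha M = beta M ∧ piCoreOf (beta M) M ≠ ⊥ ∧
      IsMulCommutative ↥S ∧ q ∈ sigma M ∧ q ∉ alpha M ∧ tau2 M = ∅ := by
  classical
  obtain ⟨hS1, hqσ, hSab, hqα, h1⟩ := le_beta_sup_inf hG hM hMs hne hS hN
  have hS' : SylIn q (Mstar ⊓ M) S := by rwa [inf_comm]
  have hN' : Subgroup.normalizer (S : Set G) ≤ Mstar ⊓ M := by rwa [inf_comm]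
  obtain ⟨-, hqσ', -, -, h1'⟩ := le_beta_sup_inf hG hMs hM hne.symm hS' hN'
  set D := M ⊓ Mstar with hD
  have hDM : D ≤ M := inf_le_left
  have hDMs : D ≤ Mstar := inf_le_right
  have hMsD : Mstar ≤ piCoreOf (beta Mstar) Mstar ⊔ D := by
    rw [hD, inf_comm]; exact h1'
  have hSσ : S ≤ sigmaCore M :=
    le_sigmaCore_of_piNum hG hM (hS.1.trans hDM) (fun r hr hd => by
      rw [prime_eq_of_dvd_card hS.2.1 hr hd]; exact hqσ)
  refine ⟨h1, ?_, ?_, ?_, hSab, hqσ, hqα, ?_⟩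
  · -- (2)
    intro p hp
    obtain ⟨hpp, hpσs, hpMs, hpMs', hpr⟩ := hp
    haveI : Fact p.Prime := ⟨hpp⟩
    by_cases hpβ : p ∈ beta M
    · exact Or.inr hpβ
    left
    -- `p ∉ β(M*)`
    have hpβs : p ∉ beta Mstar := fun h => hpσs (alpha_subset_sigma hG hMs h.1)
    -- a Sylow `p`-subgroup of `M*` inside `D`
    obtain ⟨T₀, -, hT₀⟩ := exists_sylIn_ge (bot_le : (⊥ : Subgroup G) ≤ Mstar)
      (IsPGroup.of_bot (p := p))
    obtain ⟨l, hl, hlT⟩ := exists_cj_le_of_not_beta hG hMs hDMs hMsD hpβs hT₀.1 hT₀.2.1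
    have hT : SylIn p Mstar (cj l T₀) := hT₀.cj' (Subgroup.le_normalizer hl)
    have hT1 : cj l T₀ ≠ ⊥ := by
      intro h0
      have h2 := hT.2.2
      rw [h0, Subgroup.relIndex_bot_left] at h2
      exact h2 hpMs
    have hpM : p ∣ Nat.card M :=
      (dvd_card_of_ne_bot hT.2.1 hT1).trans (Subgroup.card_dvd_of_le (hlT.trans hDM))
    -- `p` does not divide `|M'|`
    have hpM' : ¬ p ∣ Nat.card ↥⁅M, M⁆ := by
      intro hd
      have h2 : ⁅M, M⁆ ≤ piCoreOf (beta M) M ⊔ ⁅D, D⁆ :=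
        (Subgroup.commutator_mono h1 h1).trans
          (commutator_sup_le (hDM.trans (le_normalizer_piCoreOf _ M)))
      have h3 := hd.trans (Subgroup.card_dvd_of_le h2)
      have h4 : Nat.card ↥(piCoreOf (beta M) M ⊔ ⁅D, D⁆) ∣
          Nat.card ↥(piCoreOf (beta M) M) * Nat.card ↥⁅D, D⁆ := by
        have h5 := card_sup_mul_card_inf ⁅D, D⁆ (piCoreOf (beta M) M)
          ((Subgroup.commutator_le_self D).trans (hDM.trans (le_normalizer_piCoreOf _ M)))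
        rw [sup_comm, mul_comm (Nat.card ↥⁅D, D⁆)] at h5
        exact Dvd.intro _ h5
      rcases (Nat.Prime.dvd_mul hpp).mp (h3.trans h4) with h | h
      · exact hpβ (isPiNum_card_piCoreOf (beta M) M p hpp h)
      · exact hpMs' (h.trans (Subgroup.card_dvd_of_le (Subgroup.commutator_mono hDMs hDMs)))
    have hpσ : p ∉ sigma M := by
      intro hσ
      obtain ⟨P, dP⟩ := exists_sigmaData hM hσ
      have h2 : P ≤ ⁅M, M⁆ := dP.le_commutator hG
      exact hpM' ((dvd_card_of_ne_bot dP.hPp dP.hP1).trans (Subgroup.card_dvd_of_le h2))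
    refine ⟨hpp, hpσ, hpM, hpM', ?_⟩
    obtain ⟨T₁, -, hT₁⟩ := exists_sylIn_ge (bot_le : (⊥ : Subgroup G) ≤ M)
      (IsPGroup.of_bot (p := p))
    obtain ⟨l₁, hl₁, hlT₁⟩ := exists_cj_le_of_not_beta hG hM hDM h1 hpβ hT₁.1 hT₁.2.1
    have hT₁' : SylIn p M (cj l₁ T₁) := hT₁.cj' (Subgroup.le_normalizer hl₁)
    apply prankLE_of_sylIn hT₁'
    exact Rk2.prankLE_of_injective (Subgroup.inclusion (hlT₁.trans hDMs))
      (Subgroup.inclusion_injective _) hpr
  · -- (3)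
    apply Set.Subset.antisymm _ (fun p hp => hp.1)
    intro p hpα
    by_contra hpβ
    haveI : Fact p.Prime := ⟨hpα.1⟩
    obtain ⟨P, dP⟩ := exists_sigmaData hM (alpha_subset_sigma hG hM hpα)
    have hr : ¬ PRankLE p 2 ↥P := fun h => hpα.2 (prankLE_of_sylIn dP.sylIn h)
    obtain ⟨l, hl, hlP⟩ := exists_cj_le_of_not_beta hG hM hDM h1 hpβ dP.hPM dP.hPp
    have hr' : ¬ PRankLE p 2 ↥(cj l P) := by
      intro h
      apply hr
      exact Rk2.prankLE_of_injective (cjEquiv l P).toMonoidHom (cjEquiv l P).injective h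
    obtain ⟨M₀, -, huniq⟩ := uniq_of_rank_three hG (isPGroup_cj l dP.hPp) hr'
    exact hne ((huniq Mstar ⟨hMs, hlP.trans hDMs⟩).trans (huniq M ⟨hM, hlP.trans hDM⟩).symm)
  · intro h0
    rw [h0, bot_sup_eq] at h1
    exact hne (eq_of_coatom_le hM hMs (h1.trans hDMs)).symm
  · -- (5)
    rw [Set.eq_empty_iff_forall_notMem]
    intro t ht
    obtain ⟨htp, htσ, ht2, ht1⟩ := ht
    haveI : Fact t.Prime := ⟨htp⟩
    have htβ : t ∉ beta M := fun h => htσ (alpha_subset_sigma hG hM h.1)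
    obtain ⟨E, hEM, hEe, hEc⟩ := exists_elementary_of_not_pRankLE ht1
    have hEp : IsPGroup t ↥E := isPGroup_of_elementary hEe
    -- a subgroup of order `t ^ 2`
    obtain ⟨k, hk⟩ := IsPGroup.iff_card.mp hEp
    have hk2 : 2 ≤ k := by
      by_contra hlt
      push Not at hlt
      have : t ^ k ≤ t ^ 1 := Nat.pow_le_pow_right htp.pos (by omega)
      omega
    obtain ⟨A', hA'⟩ := Sylow.exists_subgroup_card_pow_prime t
      (show t ^ 2 ∣ Nat.card ↥E by rw [hk]; exact pow_dvd_pow t hk2)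
    set A := A'.map E.subtype with hA
    have hAE : A ≤ E := Subgroup.map_subtype_le _
    have hAc : Nat.card ↥A = t ^ 2 := by
      rw [hA, Subgroup.card_map_of_injective E.subtype_injective, hA']
    have hAe : IsElementaryAbelian t A := by
      refine ⟨⟨⟨?_⟩⟩, fun a ha => hEe.2 a (hAE ha)⟩
      rintro ⟨a, ha⟩ ⟨b, hb⟩
      apply Subtype.ext
      have := hEe.1.is_comm.comm ⟨a, hAE ha⟩ ⟨b, hAE hb⟩
      have e : a * b = b * a := congrArg Subtype.val this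
      exact e
    obtain ⟨l, hl, hlA⟩ := exists_cj_le_of_not_beta hG hM hDM h1 htβ (hAE.trans hEM)
      (hEp.to_le hAE)
    have hlAe : IsElementaryAbelian t (cj l A) := by
      refine ⟨⟨⟨?_⟩⟩, ?_⟩
      · rintro ⟨_, a, ha, rfl⟩ ⟨_, b, hb, rfl⟩
        apply Subtype.ext
        have := hAe.1.is_comm.comm ⟨a, ha⟩ ⟨b, hb⟩
        have e : a * b = b * a := congrArg Subtype.val this
        show (MulAut.conj l).toMonoidHom a * (MulAut.conj l).toMonoidHom b =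
          (MulAut.conj l).toMonoidHom b * (MulAut.conj l).toMonoidHom a
        rw [← map_mul, ← map_mul, e]
      · rintro _ ⟨a, ha, rfl⟩
        rw [← map_pow, hAe.2 a ha, map_one]
    have h5 := (Cfsg.Agent.S1417.result hG M hM t ⟨htp, htσ, ht2, ht1⟩ (cj l A)
      ⟨hlA.trans hDM, hlAe, by rw [card_cj, hAc]⟩).2.2.2.2.1 Mstar hMs hne (hlA.trans hDMs)
    apply hS1
    rw [eq_bot_iff, ← h5]
    exact le_inf hSσ (hS.1.trans hDMs)

end Cfsg.Agent.Lib.Lead.BG12q
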