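import Mathlib
import Cfsg.Agent.Lib.Lead.BG12q1
import Cfsg.Agent.S1408
import Cfsg.Agent.S1416
import Cfsg.Agent.S1418

set_option autoImplicit false
set_option linter.style.haveILetI false
set_option linter.unusedSectionVars false

/-! Bender–Glauberman, Theorem 12.17(e) (paper proof by helper4). -/

namespace Cfsg.Agent.Lib.Lead.BG12q

open Cfsg Cfsg.Agent.Lib.Lead Cfsg.Agent.Lib.Lead.BG10 Cfsg.Agent.Lib.Helper7 Cfsg.Agent.Lib.Helper4
open Cfsg.Agent.Lib.Helper4.BG76 Cfsg.Agent.Lib.Helper4.BG8 Cfsg.Agent.Lib.Helper4.BG9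
open Cfsg.Agent.Lib.Helper4.BG7 Cfsg.Agent.Lib.Helper4.BG12 Cfsg.Agent.Lib.Helper4.BGConj
open Cfsg.Agent.Lib.Helper4.BG13
open scoped commutatorElement

universe u

variable {G : Type u} [Group G] [Finite G]

/-- an elementary abelian subgroup of order `p ^ 2` in a subgroup of `p`-rank at least two -/
theorem exists_elementary_sq {p : ℕ} [hp : Fact p.Prime] {Z : Subgroup G}
    (h : ¬ PRankLE p 1 ↥Z) :
    ∃ A : Subgroup G, A ≤ Z ∧ IsElementaryAbelian p A ∧ Nat.card A = p ^ 2 := by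
  obtain ⟨E, hEZ, hEe, hEc⟩ := exists_elementary_of_not_pRankLE h
  have hEp : IsPGroup p ↥E := isPGroup_of_elementary hEe
  obtain ⟨k, hk⟩ := IsPGroup.iff_card.mp hEp
  have hk2 : 2 ≤ k := by
    by_contra hlt
    push Not at hlt
    have : p ^ k ≤ p ^ 1 := Nat.pow_le_pow_right hp.out.pos (by omega)
    omega
  obtain ⟨A', hA'⟩ := Sylow.exists_subgroup_card_pow_prime p
    (show p ^ 2 ∣ Nat.card ↥E by rw [hk]; exact pow_dvd_pow p hk2)
  have hAE : A'.map E.subtype ≤ E := Subgroup.map_subtype_le _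
  refine ⟨A'.map E.subtype, hAE.trans hEZ, ⟨⟨⟨?_⟩⟩, fun a ha => hEe.2 a (hAE ha)⟩, ?_⟩
  · rintro ⟨a, ha⟩ ⟨b, hb⟩
    apply Subtype.ext
    have := hEe.1.is_comm.comm ⟨a, hAE ha⟩ ⟨b, hAE hb⟩
    have e : a * b = b * a := congrArg Subtype.val this
    exact e
  · rw [Subgroup.card_map_of_injective E.subtype_injective, hA']

/-- a normal subgroup whose index is prime to `q` contains every `q`-subgroup -/
theorem le_of_not_dvd_relIndex {q : ℕ} [hq : Fact q.Prime] {T L Y : Subgroup G} (hTL : T ≤ L)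
    (hLT : L ≤ Subgroup.normalizer (T : Set G)) (hd : ¬ q ∣ T.relIndex L) (hYL : Y ≤ L)
    (hY : IsPGroup q Y) : Y ≤ T := by
  obtain ⟨R, -, hR⟩ := exists_sylIn_ge (bot_le : (⊥ : Subgroup G) ≤ T) (IsPGroup.of_bot (p := q))
  have hRL : SylIn q L R := by
    refine ⟨hR.1.trans hTL, hR.2.1, ?_⟩
    rw [← Subgroup.relIndex_mul_relIndex R T L hR.1 hTL]
    intro h
    rcases (Nat.Prime.dvd_mul hq.out).mp h with h | h
    · exact hR.2.2 h
    · exact hd h
  obtain ⟨c, hc, hcY⟩ := hRL.exists_conj_le hYL hY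
  have h1 : cj c⁻¹ (cj c Y) ≤ cj c⁻¹ R := cj_mono c⁻¹ hcY
  rw [cj_inv_cj] at h1
  refine h1.trans ?_
  have h2 := cj_mono c⁻¹ hR.1
  rwa [mem_normalizer_iff_cj.mp (hLT (L.inv_mem hc))] at h2


theorem relIndex_cG (p : ℕ) (M : Subgroup G) :
    (cG p M).relIndex M = (pPrimeCore p ↥M).index := by
  unfold cG Subgroup.relIndex
  congr 1
  ext x
  rw [Subgroup.mem_subgroupOf]
  constructor
  · rintro ⟨y, hy, hyx⟩
    have : y = x := Subtype.ext hyx
    rwa [← this]
  · intro hx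
    exact ⟨x, hx, rfl⟩

/-- **Bender–Glauberman, Theorem 12.17(e)** -/
theorem lemma_12_17e (hG : IsMinSimpleOddOrder G) {M Mstar : Subgroup G} (hM : IsCoatom M)
    (hMs : IsCoatom Mstar) (hne : Mstar ≠ M) {q : ℕ} [hq : Fact q.Prime] (hqσ : q ∈ sigma M)
    {X : Subgroup G} (hXq : IsPGroup q X) (hX1 : X ≠ ⊥) (hXM : X ≤ M)
    (hNX : Subgroup.normalizer (X : Set G) ≤ Mstar) (hqs : q ∉ sigma Mstar) :
    (∀ g : G, Mstar ≠ cj g M) ∧ q ∈ tau2 Mstar ∧
      (∀ p : ℕ, p.Prime → p ∣ Nat.card M → p ∈ sigma Mstar → p ∈ beta Mstar) ∧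
      IsComplIn (M ⊓ Mstar) (sigmaCore Mstar) Mstar := by
  classical
  have hXMs : X ≤ Mstar := Subgroup.le_normalizer.trans hNX
  obtain ⟨S, hXS, hS⟩ := exists_sylIn_ge (le_inf hXM hXMs) hXq
  have h124 : Cent124 M q := fun A hAM hAe hA2 =>
    (Cfsg.Agent.S1416.result hG M hM q A ⟨hAM, hAe, hA2⟩).1
  obtain ⟨hnc, hNS, hSi⟩ := lemma_13_1 hG hM hqσ h124 hXq hX1 hXM hMs hne hNX hS hXS
  have hτ2 : q ∈ tau2 Mstar := (lemma_12_2a hG hMs hXq hX1 hNX).resolve_left hqs
  have hSM : S ≤ M := hS.1.trans inf_le_left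
  have hSMs : S ≤ Mstar := hS.1.trans inf_le_right
  have hSsyl : SylIn q Mstar S := ⟨hSMs, hS.2.1, hSi⟩
  -- an elementary abelian subgroup of order `q ^ 2` of `S`
  have hSr : ¬ PRankLE q 1 ↥S := fun h => hτ2.2.2.2 (prankLE_of_sylIn hSsyl h)
  obtain ⟨A, hAS, hAe, hAc⟩ := exists_elementary_sq hSr
  have hAM : A ≤ M := hAS.trans hSM
  have hAMs : A ≤ Mstar := hAS.trans hSMs
  obtain ⟨hnil, hsyl, -, hCA, hdisj, -⟩ :=
    Cfsg.Agent.S1417.result hG Mstar hMs q hτ2 A ⟨hAMs, hAe, hAc⟩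
  have hbot : sigmaCore Mstar ⊓ M = ⊥ := hdisj M hM hne.symm hAM
  have hSab : IsMulCommutative ↥S := isMulCommutative_of_sylIn hSsyl (fun P => (hsyl P).1)
  -- a complement of `M*_σ` containing `S`
  have hScop : (Nat.card S).Coprime (Nat.card (sigmaCore Mstar)) := by
    apply Nat.coprime_of_dvd
    intro r hr hr1 hr2
    rw [prime_eq_of_dvd_card hS.2.1 hr hr1] at hr2
    exact hqs ((sigmaCore_hall hG hMs).1.2.1 q hq.out hr2)
  obtain ⟨E, hE, hSE⟩ := exists_complIn_ge hG hMs hSMs hScop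
  obtain ⟨⟨hEA, -⟩, ⟨-, hEeq, -⟩, -⟩ :=
    Cfsg.Agent.S1418.result hG Mstar hMs E hE q hτ2 A ⟨hAS.trans hSE, hAe, hAc⟩
  have hCAM : Subgroup.centralizer (A : Set G) ≤ M :=
    (Cfsg.Agent.S1416.result hG M hM q A ⟨hAM, hAe, hAc⟩).1
  have hCAMs : Subgroup.centralizer (A : Set G) ≤ Mstar :=
    (Cfsg.Agent.S1416.result hG Mstar hMs q A ⟨hAMs, hAe, hAc⟩).1
  -- `E ≤ M`
  have hEM : E ≤ M := by
    set L := E ⊓ Subgroup.centralizer (A : Set G) with hL
    have hLE : L ≤ E := inf_le_left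
    have hEL : E ≤ Subgroup.normalizer (L : Set G) := by
      intro e he
      exact BG13.mem_normalizer_inf (Subgroup.le_normalizer he)
        (BG7.normalizer_le_normalizer_centralizer A (hEA he))
    have hSL : S ≤ L := by
      refine le_inf hSE ?_
      intro s hs
      rw [Subgroup.mem_centralizer_iff]
      intro a ha
      have := hSab.is_comm.comm ⟨a, hAS ha⟩ ⟨s, hs⟩
      exact congrArg Subtype.val this
    have hSLsyl : SylIn q L S := hSsyl.mono hSL (hLE.trans hE.1)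
    intro x hx
    obtain ⟨l, hl, y, hy, rfl⟩ := frattini_rel hLE hEL hSLsyl hx
    exact M.mul_mem (hCAM hl.2) (hNS hy.2)
  have hDeq : M ⊓ Mstar = E := by
    apply le_antisymm _ (le_inf hEM hE.1)
    intro x hx
    obtain ⟨a, ha, b, hb, rfl⟩ := hE.2.2.2 x hx.2
    have hbM : b ∈ M := by
      have : b = a⁻¹ * (a * b) := by group
      rw [this]
      exact M.mul_mem (M.inv_mem (hEM ha)) hx.1
    have hb1 : b ∈ sigmaCore Mstar ⊓ M := ⟨hb, hbM⟩
    rw [hbot, Subgroup.mem_bot] at hb1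
    rw [hb1, mul_one]
    exact ha
  have hnc' : ∀ g : G, Mstar ≠ cj g M := hnc
  refine ⟨hnc', hτ2, ?_, by rw [hDeq]; exact hE⟩
  -- (e2)
  intro p hpp hpM hpσs
  by_contra hpβs
  haveI : Fact p.Prime := ⟨hpp⟩
  -- (i)
  have hpσ : p ∉ sigma M := fun h => (sigma_disjoint hG hMs hM hnc' hpσs h).2 hnil
  obtain ⟨h1s, -, -, -, h5s⟩ := Cfsg.Agent.S1414.result hG Mstar hMs
  obtain ⟨-, -, -, -, h5⟩ := Cfsg.Agent.S1414.result hG M hM
  -- (ii)
  have hqp : q < p := by
    have hle : q ≤ p := by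
      apply (h5s p hpp hpσs.2.1 hpβs).2.2 q hq.out
      by_contra hnd
      have hnd' : ¬ q ∣ (cG p Mstar).relIndex Mstar := by rw [relIndex_cG]; exact hnd
      have hAT : A ≤ cG p Mstar :=
        le_of_not_dvd_relIndex (cG_le p Mstar) (le_normalizer_cG p Mstar) hnd' hAMs
          (isPGroup_of_elementary hAe)
      -- the Sylow `p`-subgroup of `M*_σ`
      obtain ⟨P, dP⟩ := exists_sigmaData hMs hpσs
      have hPσ : P ≤ sigmaCore Mstar := dP.le_sigmaCore hG hpσs
      have hPsyl : SylIn p (sigmaCore Mstar) P := sylIn_of_sylow dP.hPsyl hPσ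
      have hPn := sylIn_normal_of_isNilpotent hnil hPsyl
      have hMsP : Mstar ≤ Subgroup.normalizer (P : Set G) := by
        intro m hm
        rw [mem_normalizer_iff_cj]
        have h2 : SylIn p (sigmaCore Mstar) (cj m P) :=
          hPsyl.cj' (le_normalizer_sigmaCore Mstar hm)
        have h3 : cj m P ≤ P := hPsyl.le_of_normal hPn h2.1 h2.2.1
        exact Subgroup.eq_of_le_of_card_ge h3 (by rw [card_cj])
      have hPA : P ≤ Subgroup.centralizer (A : Set G) := by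
        intro x hx
        rw [Subgroup.mem_centralizer_iff]
        intro a ha
        have h6 : ⁅a, x⁆ ∈ P ⊓ cG p Mstar := by
          constructor
          · rw [commutatorElement_def, mul_assoc, mul_assoc]
            have h7 := (Subgroup.mem_normalizer_iff.mp (hMsP (hAMs ha)) x).mp hx
            have e : a * (x * (a⁻¹ * x⁻¹)) = a * x * a⁻¹ * x⁻¹ := by group
            rw [e]
            exact P.mul_mem h7 (P.inv_mem hx)
          · rw [commutatorElement_def]
            have h7 := (Subgroup.mem_normalizer_iff.mp (le_normalizer_cG p Mstar (dP.hPM hx))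
              a⁻¹).mp ((cG p Mstar).inv_mem (hAT ha))
            have e : a * x * a⁻¹ * x⁻¹ = a * (x * a⁻¹ * x⁻¹) := by group
            rw [e]
            exact (cG p Mstar).mul_mem (hAT ha) h7
        have h8 : P ⊓ cG p Mstar = ⊥ :=
          Cfsg.Agent.Lib.Helper6.isPGroup_inf_coprime_eq_bot (card_cG_coprime p Mstar) dP.hPp
        rw [h8, Subgroup.mem_bot, commutatorElement_eq_one_iff_mul_comm] at h6
        exact h6
      apply dP.hP1
      rw [eq_bot_iff, ← hCA]
      exact le_inf hPσ hPA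
    rcases lt_or_eq_of_le hle with h | h
    · exact h
    · exact absurd (h ▸ hpσs) hqs
  -- (iii)
  have hqβ : q ∉ beta M := fun h =>
    (Cfsg.Agent.S1408.result hG Mstar hMs q hqs hτ2.2.2.1 hτ2.2.2.2).1 h.2
  -- (iv)
  have hpT : p ∣ Nat.card ↥(cG q M) := by
    have h6 : ¬ p ∣ (cG q M).relIndex M := by
      intro hd
      rw [relIndex_cG] at hd
      have := (h5 q hq.out hqσ.2.1 hqβ).2.2 p hpp hd
      omega
    have h7 : Nat.card ↥(cG q M) * (cG q M).relIndex M = Nat.card M := by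
      rw [← Subgroup.relIndex_bot_left, ← Subgroup.relIndex_bot_left,
        Subgroup.relIndex_mul_relIndex ⊥ (cG q M) M bot_le (cG_le q M)]
    rw [← h7] at hpM
    exact ((Nat.Prime.dvd_mul hpp).mp hpM).resolve_right h6
  -- (v)
  set T := cG q M with hT
  have hAp : IsPGroup q ↥A := isPGroup_of_elementary hAe
  have hAT : A ≤ Subgroup.normalizer (T : Set G) := hAM.trans (le_normalizer_cG q M)
  have hcop : (Nat.card A).Coprime (Nat.card T) := by
    rw [hAc]
    exact Nat.Coprime.pow_left 2 (card_cG_coprime q M).symm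
  have hdec := Cfsg.Agent.Lib.Lead.coprime_commutator_sup_centralizer A T hAT hcop
    (Or.inl (IsPGroup.isNilpotent hAp |> fun h => by
      haveI := h
      exact IsNilpotent.to_isSolvable))
  have hAσ : A ≤ sigmaCore M :=
    le_sigmaCore_of_piNum hG hM hAM (fun r hr hd => by
      rw [prime_eq_of_dvd_card hAp hr hd]; exact hqσ)
  have hTA : ⁅T, A⁆ ≤ sigmaCore M := by
    rw [Subgroup.commutator_le]
    intro t ht a ha
    rw [commutatorElement_def]
    have h7 := (Subgroup.mem_normalizer_iff.mp (le_normalizer_sigmaCore M (cG_le q M ht)) a).mp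
      (hAσ ha)
    have e : t * a * t⁻¹ * a⁻¹ = (t * a * t⁻¹) * a⁻¹ := by group
    rw [e]
    exact (sigmaCore M).mul_mem h7 ((sigmaCore M).inv_mem (hAσ ha))
  set C := T ⊓ Subgroup.centralizer (A : Set G) with hC
  have hpC : p ∣ Nat.card ↥C := by
    have hTn : C ≤ Subgroup.normalizer ((⁅T, A⁆ : Subgroup G) : Set G) :=
      inf_le_left.trans (Cfsg.Agent.Lib.Lead.le_normalizer_commutator_left T A)
    have h8 := card_sup_mul_card_inf C ⁅T, A⁆ hTn
    rw [sup_comm, hdec] at h8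
    have h9 : p ∣ Nat.card ↥C * Nat.card ↥⁅T, A⁆ := by
      rw [← h8]
      exact hpT.trans (Dvd.intro _ rfl)
    rcases (Nat.Prime.dvd_mul hpp).mp h9 with h | h
    · exact h
    · exfalso
      apply hpσ
      exact (sigmaCore_hall hG hM).1.2.1 p hpp (h.trans (Subgroup.card_dvd_of_le hTA))
  have hCE : C ≤ E := by
    rw [← hDeq]
    exact le_inf (inf_le_right.trans hCAM) (inf_le_right.trans hCAMs)
  exact not_sigma_of_dvd_card_compl hG hMs hE hpp (hpC.trans (Subgroup.card_dvd_of_le hCE)) hpσs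

end Cfsg.Agent.Lib.Lead.BG12q
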