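import Mathlib
import Cfsg.Agent.Lib.Lead.BG12q2

set_option autoImplicit false
set_option linter.style.haveILetI false
set_option linter.unusedSectionVars false

/-! Bender–Glauberman, Proposition 12.14, second part (paper proof by helper4). -/

namespace Cfsg.Agent.Lib.Lead.BG13q

open Cfsg Cfsg.Agent.Lib.Lead Cfsg.Agent.Lib.Lead.BG10 Cfsg.Agent.Lib.Helper7 Cfsg.Agent.Lib.Helper4
open Cfsg.Agent.Lib.Helper4.BG76 Cfsg.Agent.Lib.Helper4.BG8 Cfsg.Agent.Lib.Helper4.BG9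
open Cfsg.Agent.Lib.Helper4.BG7 Cfsg.Agent.Lib.Helper4.BG12 Cfsg.Agent.Lib.Helper4.BGConj
open Cfsg.Agent.Lib.Helper4.BG13 Cfsg.Agent.Lib.Lead.BG12q
open scoped commutatorElement

universe u

variable {G : Type u} [Group G] [Finite G]

/-- conjugates of elementary abelian subgroups are elementary abelian -/
theorem isElementaryAbelian_cj {p : ℕ} {A : Subgroup G} (hAe : IsElementaryAbelian p A) (l : G) :
    IsElementaryAbelian p (cj l A) := by
  refine ⟨⟨⟨?_⟩⟩, ?_⟩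
  · rintro ⟨_, a, ha, rfl⟩ ⟨_, b, hb, rfl⟩
    apply Subtype.ext
    have := hAe.1.is_comm.comm ⟨a, ha⟩ ⟨b, hb⟩
    have e : a * b = b * a := congrArg Subtype.val this
    show (MulAut.conj l).toMonoidHom a * (MulAut.conj l).toMonoidHom b =
      (MulAut.conj l).toMonoidHom b * (MulAut.conj l).toMonoidHom a
    rw [← map_mul, ← map_mul, e]
  · rintro _ ⟨a, ha, rfl⟩
    rw [← map_pow, hAe.2 a ha, map_one]

/-- an elementary abelian subgroup of order `p ^ 2` of `M`, `p ∉ σ(M)`, forces `p ∈ τ₂(M)` -/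
theorem mem_tau2_of_elementary_sq (hG : IsMinSimpleOddOrder G) {M : Subgroup G} (hM : IsCoatom M)
    {p : ℕ} [hp : Fact p.Prime] (hps : p ∉ sigma M) {A : Subgroup G} (hAM : A ≤ M)
    (hAe : IsElementaryAbelian p A) (hAc : Nat.card A = p ^ 2) : p ∈ tau2 M := by
  refine ⟨hp.out, hps, ?_, ?_⟩
  · by_contra h
    exact hps (alpha_subset_sigma hG hM ⟨hp.out, h⟩)
  · intro h
    have h1 := h (A.subgroupOf M) ?_ ?_
    · rw [Nat.card_congr (Subgroup.subgroupOfEquivOfLe hAM).toEquiv, hAc] at h1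
      have : p ^ 1 < p ^ 2 := Nat.pow_lt_pow_right hp.out.one_lt (by norm_num)
      omega
    · refine ⟨⟨?_⟩⟩
      rintro ⟨a, ha⟩ ⟨b, hb⟩
      apply Subtype.ext
      apply Subtype.ext
      have := hAe.1.is_comm.comm ⟨a, ha⟩ ⟨b, hb⟩
      have e : (a : G) * b = b * a := congrArg Subtype.val this
      exact e
    · intro a ha
      apply Subtype.ext
      have := hAe.2 (a : G) ha
      simpa using this

/-- the key step of 12.14: the maximal subgroup `M* ≠ M` containing `N_G(X)`, `X` a `q`-subgroup of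
`M` with `q ∈ σ(M)`, has cyclic Sylow `p`-subgroups for every non-ideal prime `p` of `M` outside
`σ(M)`, and `p` does not divide `|M*'|` when `p ∈ τ₁(M)` -/
theorem key_12_14 (hG : IsMinSimpleOddOrder G) {M Mstar : Subgroup G} (hM : IsCoatom M)
    (hMs : IsCoatom Mstar) (hne : Mstar ≠ M) {q : ℕ} [hq : Fact q.Prime] (hqσ : q ∈ sigma M)
    {X : Subgroup G} (hXq : IsPGroup q X) (hX1 : X ≠ ⊥) (hXM : X ≤ M)
    (hNX : Subgroup.normalizer (X : Set G) ≤ Mstar) {p : ℕ} [hp : Fact p.Prime]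
    (hpM : p ∣ Nat.card M) (hps : p ∉ sigma M) (hpb : ¬ IsIdealPrime p G) :
    PRankLE p 1 ↥Mstar ∧ (p ∈ tau1 M → ¬ p ∣ Nat.card ↥⁅Mstar, Mstar⁆) := by
  classical
  have hXMs : X ≤ Mstar := Subgroup.le_normalizer.trans hNX
  obtain ⟨S, hXS, hS⟩ := exists_sylIn_ge (le_inf hXM hXMs) hXq
  have h124 : Cent124 M q := fun A hAM hAe hA2 =>
    (Cfsg.Agent.S1416.result hG M hM q A ⟨hAM, hAe, hA2⟩).1
  obtain ⟨hnc, hNS, hSi⟩ := lemma_13_1 hG hM hqσ h124 hXq hX1 hXM hMs hne hNX hS hXS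
  have hSM : S ≤ M := hS.1.trans inf_le_left
  have hSMs : S ≤ Mstar := hS.1.trans inf_le_right
  have hSsyl : SylIn q Mstar S := ⟨hSMs, hS.2.1, hSi⟩
  have hXσ : X ≤ sigmaCore M :=
    le_sigmaCore_of_piNum hG hM hXM (fun r hr hd => by
      rw [prime_eq_of_dvd_card hXq hr hd]; exact hqσ)
  set D := M ⊓ Mstar with hD
  have hDM : D ≤ M := inf_le_left
  have hDMs : D ≤ Mstar := inf_le_right
  -- no elementary abelian subgroup of order `p ^ 2` in `D`
  have hnoA : ∀ A : Subgroup G, A ≤ D → IsElementaryAbelian p A → Nat.card A = p ^ 2 → False := by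
    intro A hA hAe hAc
    have hτ2 : p ∈ tau2 M := mem_tau2_of_elementary_sq hG hM hps (hA.trans hDM) hAe hAc
    have h5 := (Cfsg.Agent.S1417.result hG M hM p hτ2 A
      ⟨hA.trans hDM, hAe, hAc⟩).2.2.2.2.1 Mstar hMs hne (hA.trans hDMs)
    apply hX1
    rw [eq_bot_iff, ← h5]
    exact le_inf hXσ hXMs
  -- a normal `p'`-subgroup `B` of `M*` with `M* = B D`
  obtain ⟨B, hBMs, hMsB, hpB, hMsD⟩ : ∃ B : Subgroup G, B ≤ Mstar ∧
      Mstar ≤ Subgroup.normalizer (B : Set G) ∧ ¬ p ∣ Nat.card B ∧ Mstar ≤ B ⊔ D := by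
    by_cases hqs : q ∈ sigma Mstar
    · -- `N_G(S) ≤ M*`
      have hNSs : Subgroup.normalizer (S : Set G) ≤ Mstar := by
        obtain ⟨-, S', hS', hN'⟩ := mem_sigma_iff_sylIn.mp hqs
        obtain ⟨y, hy, hyS⟩ := hS'.conj hSsyl
        intro g hg
        have h1 : cj g (cj y S') = cj y S' := by
          rw [hyS]; exact mem_normalizer_iff_cj.mp hg
        have h2 : y⁻¹ * g * y ∈ Subgroup.normalizer (S' : Set G) := by
          rw [mem_normalizer_iff_cj, cj_mul, cj_mul, h1, cj_inv_cj]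
        have h3 := hN' h2
        have e : g = y * (y⁻¹ * g * y) * y⁻¹ := by group
        rw [e]
        exact Mstar.mul_mem (Mstar.mul_mem hy h3) (Mstar.inv_mem hy)
      have hS' : SylIn q (Mstar ⊓ M) S := by rwa [inf_comm]
      have hN' : Subgroup.normalizer (S : Set G) ≤ Mstar ⊓ M := le_inf hNSs hNS
      obtain ⟨h1, -⟩ := lemma_12_17d hG hMs hM hne.symm hS' hN'
      refine ⟨piCoreOf (beta Mstar) Mstar, Subgroup.map_subtype_le _, le_normalizer_piCoreOf _ _,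
        ?_, ?_⟩
      · intro hd
        exact hpb (isPiNum_card_piCoreOf (beta Mstar) Mstar p hp.out hd).2
      · rw [hD, inf_comm]; exact h1
    · obtain ⟨-, -, he2, hcompl⟩ := lemma_12_17e hG hM hMs hne hqσ hXq hX1 hXM hNX hqs
      refine ⟨sigmaCore Mstar, sigmaCore_le _, le_normalizer_sigmaCore _, ?_, ?_⟩
      · intro hd
        have hpσs : p ∈ sigma Mstar := (sigmaCore_hall hG hMs).1.2.1 p hp.out hd
        exact hpb (he2 p hp.out hpM hpσs).2
      · intro m hm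
        obtain ⟨a, ha, b, hb, rfl⟩ := hcompl.2.2.2 m hm
        exact Subgroup.mul_mem _ ((le_sup_right : D ≤ _) ha) ((le_sup_left : sigmaCore Mstar ≤ _) hb)
  constructor
  · by_contra h
    obtain ⟨A, hAMs, hAe, hAc⟩ := exists_elementary_sq h
    obtain ⟨l, hl, hlA⟩ := exists_cj_le_of_supplement (solvable_of_ne_top hG hMs.1) {p} hBMs hDMs
      hAMs hMsD hMsB
      (by
        intro r hr hd hrp
        rw [Set.mem_singleton_iff] at hrp
        rw [hrp] at hd
        exact hpB hd)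
      (by
        intro r hr hd
        exact prime_eq_of_dvd_card (isPGroup_of_elementary hAe) hr hd)
    exact hnoA (cj l A) hlA (isElementaryAbelian_cj hAe l) (by rw [card_cj, hAc])
  · intro hτ1 hd
    obtain ⟨-, -, -, hpM', -⟩ := hτ1
    have h2 : ⁅Mstar, Mstar⁆ ≤ B ⊔ ⁅D, D⁆ :=
      (Subgroup.commutator_mono hMsD hMsD).trans (BG12q.commutator_sup_le (hDMs.trans hMsB))
    have h3 := hd.trans (Subgroup.card_dvd_of_le h2)
    have h4 : Nat.card ↥(B ⊔ ⁅D, D⁆) ∣ Nat.card ↥B * Nat.card ↥⁅D, D⁆ := by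
      have h5 := card_sup_mul_card_inf ⁅D, D⁆ B
        ((Subgroup.commutator_le_self D).trans (hDMs.trans hMsB))
      rw [sup_comm, mul_comm (Nat.card ↥⁅D, D⁆)] at h5
      exact Dvd.intro _ h5
    rcases (Nat.Prime.dvd_mul hp.out).mp (h3.trans h4) with h | h
    · exact hpB h
    · exact hpM' (h.trans (Subgroup.card_dvd_of_le (Subgroup.commutator_mono hDM hDM)))

/-- 12.14, second part, for a `q`-subgroup `X` of `M ∩ H` and a subgroup `K` of `N_H(X)` -/
theorem lemma_12_14b_core (hG : IsMinSimpleOddOrder G) {M H : Subgroup G} (hM : IsCoatom M)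
    (hH : IsCoatom H) (hHM : H ≠ M) {q : ℕ} [hq : Fact q.Prime] (hqσ : q ∈ sigma M)
    {X : Subgroup G} (hXq : IsPGroup q X) (hX1 : X ≠ ⊥) (hXM : X ≤ M) (hXH : X ≤ H)
    {K : Subgroup G} (hKH : K ≤ H) (hKX : K ≤ Subgroup.normalizer (X : Set G))
    {p : ℕ} [hp : Fact p.Prime] (hpM : p ∣ Nat.card M) (hps : p ∉ sigma M)
    (hpb : ¬ IsIdealPrime p G) :
    PRankLE p 1 ↥K ∧ (p ∈ tau1 M → ¬ p ∣ Nat.card ↥⁅K, K⁆) := by
  classical
  have hNtop : Subgroup.normalizer (X : Set G) ≠ ⊤ :=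
    BG8.normalizer_ne_top hG hX1 (isPGroup_ne_top hG hXq)
  obtain ⟨Mstar, hMs, hNX⟩ := (eq_top_or_exists_le_coatom _).resolve_left hNtop
  by_cases hne : Mstar = M
  · rw [hne] at hNX
    have hKM : K ≤ M := hKX.trans hNX
    have hXσ : X ≤ sigmaCore M :=
      le_sigmaCore_of_piNum hG hM hXM (fun r hr hd => by
        rw [prime_eq_of_dvd_card hXq hr hd]; exact hqσ)
    constructor
    · by_contra h
      obtain ⟨A, hAK, hAe, hAc⟩ := exists_elementary_sq h
      have hτ2 : p ∈ tau2 M := mem_tau2_of_elementary_sq hG hM hps (hAK.trans hKM) hAe hAc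
      have h5 := (Cfsg.Agent.S1417.result hG M hM p hτ2 A
        ⟨hAK.trans hKM, hAe, hAc⟩).2.2.2.2.1 H hH hHM (hAK.trans hKH)
      apply hX1
      rw [eq_bot_iff, ← h5]
      exact le_inf hXσ hXH
    · intro hτ1 hd
      exact hτ1.2.2.2.1 (hd.trans (Subgroup.card_dvd_of_le (Subgroup.commutator_mono hKM hKM)))
  · obtain ⟨h1, h2⟩ := key_12_14 hG hM hMs hne hqσ hXq hX1 hXM hNX hpM hps hpb
    have hKMs : K ≤ Mstar := hKX.trans hNX
    constructor
    · exact Rk2.prankLE_of_injective (Subgroup.inclusion hKMs) (Subgroup.inclusion_injective _) h1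
    · intro hτ1 hd
      exact h2 hτ1 (hd.trans (Subgroup.card_dvd_of_le (Subgroup.commutator_mono hKMs hKMs)))

/-- **Bender–Glauberman, Proposition 12.14, second part**: `Y ≠ 1` a `σ(M)`-subgroup of a maximal
subgroup `H` not conjugate to `M`, `p` a non-ideal prime divisor of `|M|` outside `σ(M)`: then
`N_H(Y)` has cyclic Sylow `p`-subgroups, and `p ∤ |N_H(Y)'|` if `p ∈ τ₁(M)`. -/
theorem lemma_12_14b (hG : IsMinSimpleOddOrder G) {M H : Subgroup G} (hM : IsCoatom M)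
    (hH : IsCoatom H) (hnc : ∀ g : G, H ≠ cj g M) {Y : Subgroup G} (hY1 : Y ≠ ⊥)
    (hYs : ∀ q : ℕ, q.Prime → q ∣ Nat.card Y → q ∈ sigma M) (hYH : Y ≤ H)
    {p : ℕ} [hp : Fact p.Prime] (hpM : p ∣ Nat.card M) (hps : p ∉ sigma M)
    (hpb : ¬ IsIdealPrime p G) :
    PRankLE p 1 ↥(H ⊓ Subgroup.normalizer (Y : Set G)) ∧
      (p ∈ tau1 M → ¬ p ∣ Nat.card ↥⁅H ⊓ Subgroup.normalizer (Y : Set G),
        H ⊓ Subgroup.normalizer (Y : Set G)⁆) := by
  classical
  have hYtop : Y ≠ ⊤ := fun h => hH.1 (eq_top_iff.mpr (h ▸ hYH))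
  haveI : Group.IsSolvable ↥Y := solvable_of_ne_top hG hYtop
  haveI : Nontrivial ↥Y := (Subgroup.nontrivial_iff_ne_bot Y).mpr hY1
  obtain ⟨q, hqF, N, hNn, hNq, hN1⟩ := exists_normal_pgroup_of_solvable (X := ↥Y)
  -- `X = O_q(Y)`
  set X := piCoreOf {q} Y with hX
  have hXY : X ≤ Y := piCoreOf_le _ _
  have hNX : N.map Y.subtype ≤ X := by
    apply le_piCoreOf (Subgroup.map_subtype_le _)
    · have h2 := Subgroup.le_normalizer_map (H := N) Y.subtype
      rw [Subgroup.normalizer_eq_top_iff.mpr hNn] at h2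
      intro y hy
      exact h2 ⟨⟨y, hy⟩, Subgroup.mem_top _, rfl⟩
    · exact isPiNum_singleton_of_isPGroup (hNq.map _)
  have hX1 : X ≠ ⊥ := by
    intro h0
    apply hN1
    rw [h0, le_bot_iff] at hNX
    exact (Subgroup.map_eq_bot_iff_of_injective _ Y.subtype_injective).mp hNX
  have hXq : IsPGroup q ↥X := isPGroup_of_isPiNum_singleton (isPiNum_card_piCoreOf _ _)
  have hqY : q ∣ Nat.card Y := (dvd_card_of_ne_bot hXq hX1).trans (Subgroup.card_dvd_of_le hXY)
  have hqσ : q ∈ sigma M := hYs q hqF.out hqY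
  -- conjugate `X` into `M`
  obtain ⟨P, dP⟩ := exists_sigmaData hM hqσ
  obtain ⟨g, hg⟩ : ∃ g : G, cj g X ≤ P := by
    have hPtop : SylIn q ⊤ P := sylIn_of_sylow dP.hPsyl le_top
    obtain ⟨c, -, hc⟩ := hPtop.exists_conj_le le_top hXq
    exact ⟨c, hc⟩
  set M' := cj g⁻¹ M with hM'
  have hXM' : X ≤ M' := by
    have := cj_mono g⁻¹ (hg.trans dP.hPM)
    rwa [cj_inv_cj] at this
  have hM'c : IsCoatom M' := isCoatom_cj hM _
  have hHM' : H ≠ M' := hnc g⁻¹
  have hσ' : sigma M' = sigma M := sigma_cj _ _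
  have hτ' : tau1 M' = tau1 M := tau1_cj _ _
  have := lemma_12_14b_core hG hM'c hH hHM' (hσ'.symm ▸ hqσ) hXq hX1 hXM' (hXY.trans hYH)
    (inf_le_left : H ⊓ Subgroup.normalizer (Y : Set G) ≤ H)
    (inf_le_right.trans (normalizer_le_normalizer_piCoreOf {q} Y))
    (p := p) (by rw [hM', card_cj]; exact hpM) (hσ'.symm ▸ hps) hpb
  rw [hτ'] at this
  exact this

end Cfsg.Agent.Lib.Lead.BG13q
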