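import Mathlib
import Cfsg.Agent.Lib.Lead.BG13q1

set_option autoImplicit false
set_option linter.style.haveILetI false
set_option linter.unusedSectionVars false

/-! Bender–Glauberman, Lemma 13.1 (paper proof by helper4). -/

namespace Cfsg.Agent.Lib.Lead.BG13q

open Cfsg Cfsg.Agent.Lib.Lead Cfsg.Agent.Lib.Lead.BG10 Cfsg.Agent.Lib.Helper7 Cfsg.Agent.Lib.Helper4
open Cfsg.Agent.Lib.Helper4.BG76 Cfsg.Agent.Lib.Helper4.BG8 Cfsg.Agent.Lib.Helper4.BG9
open Cfsg.Agent.Lib.Helper4.BG7 Cfsg.Agent.Lib.Helper4.BG12 Cfsg.Agent.Lib.Helper4.BGConj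
open Cfsg.Agent.Lib.Helper4.BG13 Cfsg.Agent.Lib.Lead.BG12q
open scoped commutatorElement

universe u

variable {G : Type u} [Group G] [Finite G]

/-- a prime divisor of `|H|` lies in exactly one of `σ(H)`, `τ₁(H)`, `τ₂(H)`, `τ₃(H)` -/
theorem sigma_or_tau (hG : IsMinSimpleOddOrder G) {H : Subgroup G} (hH : IsCoatom H) {p : ℕ}
    [hp : Fact p.Prime] (hpH : p ∣ Nat.card H) :
    p ∈ sigma H ∨ p ∈ tau1 H ∨ p ∈ tau2 H ∨ p ∈ tau3 H := by
  by_cases hσ : p ∈ sigma H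
  · exact Or.inl hσ
  have h2 : PRankLE p 2 ↥H := by
    by_contra h
    exact hσ (alpha_subset_sigma hG hH ⟨hp.out, h⟩)
  by_cases h1 : PRankLE p 1 ↥H
  · by_cases hd : p ∣ Nat.card ↥⁅H, H⁆
    · exact Or.inr (Or.inr (Or.inr ⟨hp.out, hσ, hd, h1⟩))
    · exact Or.inr (Or.inl ⟨hp.out, hσ, hpH, hd, h1⟩)
  · exact Or.inr (Or.inr (Or.inl ⟨hp.out, hσ, h2, h1⟩))

/-- for `p ∈ τ₃(H)` every `p`-subgroup of `H` lies in `H'` -/
theorem le_commutator_of_tau3 (hG : IsMinSimpleOddOrder G) {H : Subgroup G} {p : ℕ}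
    [hp : Fact p.Prime] (hpτ : p ∈ tau3 H) {P : Subgroup G} (hPH : P ≤ H) (hPp : IsPGroup p P) :
    P ≤ ⁅H, H⁆ := by
  obtain ⟨-, -, hd, h1⟩ := hpτ
  have hPp' : IsPGroup p ↥(P.subgroupOf H) := hPp.comap_subtype (K := H)
  obtain ⟨T, hT⟩ := hPp'.exists_le_sylow
  haveI hTc : IsCyclic ↥(T : Subgroup ↥H) := isCyclic_sylow_of_pRankLE_one (odd_card_sub hG H) h1 T
  have hdvd : p ∣ Nat.card (commutator ↥H) := by
    rwa [← Subgroup.map_subtype_commutator H,
      Subgroup.card_map_of_injective H.subtype_injective] at hd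
  have hTle := cyclic_sylow_le_commutator T hdvd
  rw [← Subgroup.map_subtype_commutator H, ← Subgroup.map_subgroupOf_eq_of_le hPH]
  exact Subgroup.map_mono (hT.trans hTle)

/-- Principles A and B together: a `p`-subgroup `P` of `L'`, `p ∉ σ(M)`, `L` not conjugate to `M`,
centralizes every subgroup of `M_σ ∩ L` that it normalizes -/
theorem le_centralizer_of_le_commutator (hG : IsMinSimpleOddOrder G) {L M : Subgroup G}
    (hL : IsCoatom L) (hM : IsCoatom M) (hnc : ∀ g : G, L ≠ cj g M) {p : ℕ} [hp : Fact p.Prime]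
    (hpM : p ∉ sigma M) {P V : Subgroup G} (hPL' : P ≤ ⁅L, L⁆) (hPp : IsPGroup p P)
    (hVL : V ≤ L) (hVM : V ≤ sigmaCore M) (hPV : P ≤ Subgroup.normalizer (V : Set G)) :
    V ≤ Subgroup.centralizer (P : Set G) := by
  have hPL : P ≤ L := hPL'.trans (Subgroup.commutator_le_self L)
  have hbot := alphaCore_inf_sigmaCore hG hL hM hnc
  have hcop : (Nat.card ↥P).Coprime (Nat.card ↥V) := by
    obtain ⟨k, hk⟩ := IsPGroup.iff_card.mp hPp
    rw [hk]
    apply Nat.Coprime.pow_left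
    rw [Nat.Prime.coprime_iff_not_dvd hp.out]
    intro hd
    exact hpM ((sigmaCore_hall hG hM).1.2.1 p hp.out (hd.trans (Subgroup.card_dvd_of_le hVM)))
  have hPsolv : Group.IsSolvable ↥P := solvable_of_ne_top hG (ne_top_of_le_ne_top hL.1 hPL)
  have hstab := coprime_commutator_stable P V hPV hcop (Or.inl hPsolv)
  have hRV : ⁅V, P⁆ ≤ V := commutator_le_left_of_le_normalizer V P hPV
  have hRL' : ⁅V, P⁆ ≤ ⁅L, L⁆ := Subgroup.commutator_mono hVL hPL
  have hPR : P ≤ Subgroup.normalizer ((⁅V, P⁆ : Subgroup G) : Set G) :=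
    le_normalizer_commutator_right V P hPV
  rw [← Subgroup.commutator_eq_bot_iff_le_centralizer, ← hstab,
    Subgroup.commutator_eq_bot_iff_le_centralizer]
  intro r hr
  rw [Subgroup.mem_centralizer_iff]
  intro x hx
  have hx' : x ∈ P := hx
  have hxp : IsPGroup p (Subgroup.zpowers x) := hPp.to_le (Subgroup.zpowers_le.mpr hx')
  have hrp : (orderOf r).Coprime p := by
    rw [Nat.coprime_comm, Nat.Prime.coprime_iff_not_dvd hp.out]
    intro hd
    apply hpM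
    apply (sigmaCore_hall hG hM).1.2.1 p hp.out
    have h0 : orderOf r ∣ Nat.card ↥⁅V, P⁆ := by
      have := orderOf_dvd_natCard (⟨r, hr⟩ : ↥⁅V, P⁆)
      rwa [Subgroup.orderOf_mk] at this
    exact hd.trans (h0.trans (Subgroup.card_dvd_of_le (hRV.trans hVM)))
  have h1 := commutatorElement_mem_alphaCore hG hL (hRL' hr) (hPL' hx') hxp hrp
  have h2 : ⁅r, x⁆ ∈ sigmaCore M := by
    apply (hRV.trans hVM)
    rw [commutatorElement_def, mul_assoc, mul_assoc]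
    apply Subgroup.mul_mem _ hr
    have := (Subgroup.mem_normalizer_iff.mp (hPR hx') r⁻¹).mp (Subgroup.inv_mem _ hr)
    simpa [mul_assoc] using this
  have h3 : ⁅r, x⁆ ∈ alphaCore L ⊓ sigmaCore M := ⟨h1, h2⟩
  rw [hbot, Subgroup.mem_bot, commutatorElement_eq_one_iff_mul_comm] at h3
  exact h3.symm

/-- for a prime `q ∉ β(H)` dividing `|H'|` there is a Sylow `q`-subgroup `Q₀ ≠ 1` of `H'` with
`H = H_β N_H(Q₀)` -/
theorem exists_normalizer_supplement (hG : IsMinSimpleOddOrder G) {M : Subgroup G}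
    (hM : IsCoatom M) {q : ℕ} [hq : Fact q.Prime] (hqβ : q ∉ beta M)
    (hqd : q ∣ Nat.card ↥⁅M, M⁆) :
    ∃ Q₀ : Subgroup G, SylIn q ⁅M, M⁆ Q₀ ∧ Q₀ ≠ ⊥ ∧
      M ≤ piCoreOf (beta M) M ⊔ (M ⊓ Subgroup.normalizer (Q₀ : Set G)) := by
  classical
  obtain ⟨h1, -, ⟨H, hH, hHnil⟩, -, -⟩ := Cfsg.Agent.S1414.result hG M hM
  set B := piCoreOf (beta M) M with hB
  have hBM : B ≤ M := Subgroup.map_subtype_le _
  have hMB : M ≤ Subgroup.normalizer (B : Set G) := le_normalizer_piCoreOf _ M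
  have hBM' : B ≤ ⁅M, M⁆ := (piCoreOf_beta_le_sigmaCore hG hM).trans (sigmaCore_le_commutator hG hM)
  have hM'M : ⁅M, M⁆ ≤ M := Subgroup.commutator_le_self M
  have hHM' : H ≤ ⁅M, M⁆ := hH.1
  have hM'le : ⁅M, M⁆ ≤ B ⊔ H := by
    rw [← Subgroup.relIndex_eq_one]
    by_contra hne1
    obtain ⟨r, hr, hrd⟩ := Nat.exists_prime_and_dvd hne1
    by_cases hrβ : r ∈ beta M
    · apply h1.2.2 r hr hrβ
      have e := Subgroup.relIndex_mul_relIndex B ⁅M, M⁆ M hBM' hM'M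
      rw [← e]
      exact (hrd.trans (Subgroup.relIndex_dvd_of_le_left _ le_sup_left)).trans (Dvd.intro _ rfl)
    · apply hH.2.2 r hr ⟨hr, hrβ⟩
      exact hrd.trans (Subgroup.relIndex_dvd_of_le_left _ le_sup_right)
  -- the Sylow subgroup of `H`
  obtain ⟨SH, -, hSH⟩ := exists_sylIn_ge (bot_le : (⊥ : Subgroup G) ≤ H) (IsPGroup.of_bot (p := q))
  have hHSH : H ≤ Subgroup.normalizer (SH : Set G) := sylIn_normal_of_isNilpotent hHnil hSH
  have hSHM' : SylIn q ⁅M, M⁆ SH := by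
    refine ⟨hSH.1.trans hHM', hSH.2.1, ?_⟩
    rw [← Subgroup.relIndex_mul_relIndex SH H ⁅M, M⁆ hSH.1 hHM']
    intro hd
    rcases (Nat.Prime.dvd_mul hq.out).mp hd with h | h
    · exact hSH.2.2 h
    · exact hH.2.2 q hq.out ⟨hq.out, hqβ⟩ h
  set K := B ⊔ SH with hK
  have hKM' : K ≤ ⁅M, M⁆ := sup_le hBM' hSHM'.1
  have hM'K : ⁅M, M⁆ ≤ Subgroup.normalizer (K : Set G) := by
    refine hM'le.trans (sup_le ?_ ?_)
    · exact (le_sup_left : B ≤ K).trans Subgroup.le_normalizer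
    · intro h hh
      exact mem_normalizer_sup (hMB (hM'M (hHM' hh))) (hHSH hh)
  have hM'n : M ≤ Subgroup.normalizer ((⁅M, M⁆ : Subgroup G) : Set G) := by
    intro m hm
    rw [mem_normalizer_iff_cj, BGConj.cj_commutator, cj_eq_self_of_mem hm]
  -- all Sylow subgroups of `M'` lie in `K`
  have hall : ∀ T : Subgroup G, SylIn q ⁅M, M⁆ T → T ≤ K := by
    intro T hT
    obtain ⟨y, hy, hyT⟩ := hSHM'.conj hT
    rw [← hyT]
    have := cj_mono y (le_sup_right : SH ≤ K)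
    rwa [mem_normalizer_iff_cj.mp (hM'K hy)] at this
  have hMK : M ≤ Subgroup.normalizer (K : Set G) := by
    intro m hm
    rw [mem_normalizer_iff_cj]
    have h2 : cj m K ≤ K := by
      rw [hK, cj_sup, mem_normalizer_iff_cj.mp (hMB hm)]
      exact sup_le le_sup_left (hall _ (hSHM'.cj' (hM'n hm)))
    exact Subgroup.eq_of_le_of_card_ge h2 (by rw [card_cj])
  have hSsylK : SylIn q K SH :=
    ⟨le_sup_right, hSH.2.1, fun hd => hSHM'.2.2
      (hd.trans (Dvd.intro _ (Subgroup.relIndex_mul_relIndex SH K ⁅M, M⁆ le_sup_right hKM')))⟩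
  refine ⟨SH, hSHM', ?_, ?_⟩
  · intro h0
    have h2 := hSHM'.2.2
    rw [h0, Subgroup.relIndex_bot_left] at h2
    exact h2 hqd
  · intro x hx
    obtain ⟨l, hl, y, hy, rfl⟩ := frattini_rel (hKM'.trans hM'M) hMK hSsylK hx
    apply Subgroup.mul_mem
    · refine (sup_le le_sup_left ?_ : K ≤ _) hl
      refine le_trans ?_ le_sup_right
      exact le_inf (hSHM'.1.trans hM'M) Subgroup.le_normalizer
    · exact (le_sup_right : M ⊓ Subgroup.normalizer (SH : Set G) ≤ _) hy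

/-- **Bender–Glauberman, Lemma 13.1**: `H` not conjugate to `M`, `p` a prime divisor of `|M|`
outside `σ(M)` dividing `|H|`, `p ∉ τ₁(H)`, and `[M_σ ∩ H, M ∩ H] ≠ 1`. Then (a) every `p`-subgroup
of `M ∩ H` centralizes `M_σ ∩ H`; (b) `p ∉ τ₂(H)`; (c) if `p ∈ τ₁(M)` then `p` is ideal. -/
theorem lemma_13_1abc (hG : IsMinSimpleOddOrder G) {M H : Subgroup G} (hM : IsCoatom M)
    (hH : IsCoatom H) (hnc : ∀ g : G, H ≠ cj g M) {p : ℕ} [hp : Fact p.Prime]
    (hpM : p ∣ Nat.card M) (hps : p ∉ sigma M) (hpH : p ∣ Nat.card H) (hpt : p ∉ tau1 H)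
    (hR : ⁅sigmaCore M ⊓ H, M ⊓ H⁆ ≠ ⊥) :
    (∀ P : Subgroup G, P ≤ M ⊓ H → IsPGroup p P →
        sigmaCore M ⊓ H ≤ Subgroup.centralizer (P : Set G)) ∧
      p ∉ tau2 H ∧ (p ∈ tau1 M → IsIdealPrime p G) := by
  classical
  set V := sigmaCore M ⊓ H with hV
  have hDV : M ⊓ H ≤ Subgroup.normalizer (V : Set G) := by
    intro x hx
    exact mem_normalizer_inf (le_normalizer_sigmaCore M hx.1) (Subgroup.le_normalizer hx.2)
  have hR1V : ⁅V, M ⊓ H⁆ ≤ V := commutator_le_left_of_le_normalizer V _ hDV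
  have hR1H' : ⁅V, M ⊓ H⁆ ≤ ⁅H, H⁆ := Subgroup.commutator_mono inf_le_right inf_le_right
  -- a prime divisor `q` of `|R₁|`
  have hcard : Nat.card ↥⁅V, M ⊓ H⁆ ≠ 1 := fun h => hR (Subgroup.card_eq_one.mp h)
  obtain ⟨q, hq, hqd⟩ := Nat.exists_prime_and_dvd hcard
  haveI : Fact q.Prime := ⟨hq⟩
  have hqσ : q ∈ sigma M := (sigmaCore_hall hG hM).1.2.1 q hq
    (hqd.trans (Subgroup.card_dvd_of_le (hR1V.trans inf_le_left)))
  have hqβ : q ∉ beta H := by
    intro h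
    exact (sigma_disjoint hG hH hM hnc (alpha_subset_sigma hG hH h.1) hqσ).1 h.1
  have hqH' : q ∣ Nat.card ↥⁅H, H⁆ := hqd.trans (Subgroup.card_dvd_of_le hR1H')
  obtain ⟨Q₀, hQ₀syl, hQ₀1, hHsup⟩ := exists_normalizer_supplement hG hH hqβ hqH'
  have hQ₀H : Q₀ ≤ H := hQ₀syl.1.trans (Subgroup.commutator_le_self H)
  have hQ₀s : ∀ r : ℕ, r.Prime → r ∣ Nat.card Q₀ → r ∈ sigma M := by
    intro r hr hd
    rw [prime_eq_of_dvd_card hQ₀syl.2.1 hr hd]; exact hqσ
  set N := H ⊓ Subgroup.normalizer (Q₀ : Set G) with hN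
  have hNH : N ≤ H := inf_le_left
  -- (b)
  have hb : p ∉ tau2 H := by
    intro hτ2
    have hni : ¬ IsIdealPrime p G :=
      (Cfsg.Agent.S1408.result hG H hH p hτ2.2.1 hτ2.2.2.1 hτ2.2.2.2).1
    have hpβ : p ∉ beta H := fun h => hni h.2
    obtain ⟨h3, -⟩ := lemma_12_14b hG hM hH hnc hQ₀1 hQ₀s hQ₀H hpM hps hni
    obtain ⟨E, hEH, hEe, hEc⟩ := exists_elementary_of_not_pRankLE hτ2.2.2.2
    obtain ⟨l, hl, hlE⟩ := exists_cj_le_of_not_beta hG hH hNH hHsup hpβ hEH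
      (isPGroup_of_elementary hEe)
    exact not_pRankLE_of_elementary hlE (isElementaryAbelian_cj hEe l)
      (by rw [card_cj]; exact hEc) h3
  refine ⟨?_, hb, ?_⟩
  · -- (a)
    intro P hP hPp
    have hPH : P ≤ H := hP.trans inf_le_right
    have hPH' : P ≤ ⁅H, H⁆ := by
      rcases sigma_or_tau hG hH hpH with h | h | h | h
      · exact le_commutator_of_sigma hG hH h hPH hPp
      · exact absurd h hpt
      · exact absurd h hb
      · exact le_commutator_of_tau3 hG h hPH hPp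
    exact le_centralizer_of_le_commutator hG hH hM hnc hps hPH' hPp inf_le_right inf_le_left
      (hP.trans hDV)
  · -- (c)
    intro hτ1 
    by_contra hni
    have hpβ : p ∉ beta H := fun h => hni h.2
    obtain ⟨-, h4⟩ := lemma_12_14b hG hM hH hnc hQ₀1 hQ₀s hQ₀H hpM hps hni
    have h4' := h4 hτ1
    have hpH' : p ∣ Nat.card ↥⁅H, H⁆ := by
      rcases sigma_or_tau hG hH hpH with h | h | h | h
      · obtain ⟨P, dP⟩ := exists_sigmaData hH h
        exact (dvd_card_of_ne_bot dP.hPp dP.hP1).trans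
          (Subgroup.card_dvd_of_le (dP.le_commutator hG))
      · exact absurd h hpt
      · exact absurd h hb
      · exact h.2.2.1
    set B := piCoreOf (beta H) H with hB
    have hHB : H ≤ Subgroup.normalizer (B : Set G) := le_normalizer_piCoreOf _ H
    have h2 : ⁅H, H⁆ ≤ B ⊔ ⁅N, N⁆ :=
      (Subgroup.commutator_mono hHsup hHsup).trans (BG12q.commutator_sup_le (hNH.trans hHB))
    have h3 := hpH'.trans (Subgroup.card_dvd_of_le h2)
    have h5 : Nat.card ↥(B ⊔ ⁅N, N⁆) ∣ Nat.card ↥B * Nat.card ↥⁅N, N⁆ := by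
      have h6 := card_sup_mul_card_inf ⁅N, N⁆ B
        ((Subgroup.commutator_le_self N).trans (hNH.trans hHB))
      rw [sup_comm, mul_comm (Nat.card ↥⁅N, N⁆)] at h6
      exact Dvd.intro _ h6
    rcases (Nat.Prime.dvd_mul hp.out).mp (h3.trans h5) with h | h
    · exact hpβ (isPiNum_card_piCoreOf (beta H) H p hp.out h)
    · exact h4' h

end Cfsg.Agent.Lib.Lead.BG13q
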