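import Mathlib
import Cfsg.Agent.Lib.Lead.BG13q2

set_option autoImplicit false
set_option linter.style.haveILetI false
set_option linter.unusedSectionVars false

/-! Bender–Glauberman, Corollary 13.2 (paper proof by helper4). -/

namespace Cfsg.Agent.Lib.Lead.BG13q

open Cfsg Cfsg.Agent.Lib.Lead Cfsg.Agent.Lib.Lead.BG10 Cfsg.Agent.Lib.Helper7 Cfsg.Agent.Lib.Helper4
open Cfsg.Agent.Lib.Helper4.BG76 Cfsg.Agent.Lib.Helper4.BG8 Cfsg.Agent.Lib.Helper4.BG9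
open Cfsg.Agent.Lib.Helper4.BG7 Cfsg.Agent.Lib.Helper4.BG12 Cfsg.Agent.Lib.Helper4.BGConj
open Cfsg.Agent.Lib.Helper4.BG13 Cfsg.Agent.Lib.Lead.BG12q
open scoped commutatorElement

universe u

variable {G : Type u} [Group G] [Finite G]

/-- **Bender–Glauberman, Corollary 13.2**: `p ∈ τ₁(M) ∪ τ₃(M)`, `P ≠ 1` a `p`-subgroup of `M`,
`H` a maximal subgroup containing `N_G(P)`. -/
theorem corollary_13_2 (hG : IsMinSimpleOddOrder G) {M H : Subgroup G} (hM : IsCoatom M)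
    (hH : IsCoatom H) {p : ℕ} [hp : Fact p.Prime] (hpτ : p ∈ tau1 M ∨ p ∈ tau3 M)
    {P : Subgroup G} (hPM : P ≤ M) (hPp : IsPGroup p P) (hP1 : P ≠ ⊥)
    (hNH : Subgroup.normalizer (P : Set G) ≤ H) :
    (∀ g : G, H ≠ cj g M) ∧ (p ∈ sigma H ∨ p ∈ tau2 H) ∧
      (∀ P₁ : Subgroup G, P₁ ≤ M ⊓ H → IsPGroup p P₁ →
        sigmaCore M ⊓ H ≤ Subgroup.centralizer (P₁ : Set G)) ∧
      (∀ X : Subgroup G, X ≤ M ⊓ H →
        (∀ r : ℕ, r.Prime → r ∣ Nat.card X → r ∉ sigma M ∧ r ∉ tau1 H) →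
        sigmaCore M ⊓ H ≤ Subgroup.centralizer (X : Set G)) ∧
      (⁅sigmaCore M ⊓ H, M ⊓ H⁆ ≠ ⊥ → p ∈ sigma H ∧ (p ∈ tau1 M → IsIdealPrime p G)) ∧
      sigmaCore M ⊓ H = sigmaCore M ⊓ Subgroup.centralizer (P : Set G) := by
  classical
  have hnc : ∀ g : G, H ≠ cj g M := lemma_12_2b_tau hG hM hpτ hPp hP1 hNH
  have hστ : p ∈ sigma H ∨ p ∈ tau2 H := lemma_12_2a hG hH hPp hP1 hNH
  have hPH : P ≤ H := Subgroup.le_normalizer.trans hNH
  have hpσM : p ∉ sigma M := by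
    rcases hpτ with h | h
    · exact h.2.1
    · exact h.2.1
  have hpM : p ∣ Nat.card M := (dvd_card_of_ne_bot hPp hP1).trans (Subgroup.card_dvd_of_le hPM)
  have hpH : p ∣ Nat.card H := (dvd_card_of_ne_bot hPp hP1).trans (Subgroup.card_dvd_of_le hPH)
  have hpt : p ∉ tau1 H := by
    intro h
    rcases hστ with h' | h'
    · exact h.2.1 h'
    · exact h'.2.2.2 h.2.2.2.2
  -- the trivial case
  have htriv : ⁅sigmaCore M ⊓ H, M ⊓ H⁆ = ⊥ → ∀ X : Subgroup G, X ≤ M ⊓ H →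
      sigmaCore M ⊓ H ≤ Subgroup.centralizer (X : Set G) := by
    intro h0 X hX
    rw [Subgroup.commutator_eq_bot_iff_le_centralizer] at h0
    exact h0.trans (Subgroup.centralizer_le hX)
  have ha : ∀ P₁ : Subgroup G, P₁ ≤ M ⊓ H → IsPGroup p P₁ →
      sigmaCore M ⊓ H ≤ Subgroup.centralizer (P₁ : Set G) := by
    intro P₁ hP₁ hP₁p
    by_cases hR : ⁅sigmaCore M ⊓ H, M ⊓ H⁆ = ⊥
    · exact htriv hR P₁ hP₁
    · exact (lemma_13_1abc hG hM hH hnc hpM hpσM hpH hpt hR).1 P₁ hP₁ hP₁p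
  refine ⟨hnc, hστ, ha, ?_, ?_, ?_⟩
  · intro X hX hXr
    by_cases hR : ⁅sigmaCore M ⊓ H, M ⊓ H⁆ = ⊥
    · exact htriv hR X hX
    rw [Subgroup.le_centralizer_iff]
    apply le_of_sylows
    intro r hr hrd
    haveI : Fact r.Prime := ⟨hr⟩
    obtain ⟨Q, -, hQ⟩ := exists_sylIn_ge (bot_le : (⊥ : Subgroup G) ≤ X) (IsPGroup.of_bot (p := r))
    refine ⟨Q, hQ, ?_⟩
    rw [← Subgroup.le_centralizer_iff]
    obtain ⟨hrσ, hrτ⟩ := hXr r hr hrd
    exact (lemma_13_1abc hG hM hH hnc (hrd.trans (Subgroup.card_dvd_of_le (hX.trans inf_le_left)))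
      hrσ (hrd.trans (Subgroup.card_dvd_of_le (hX.trans inf_le_right))) hrτ hR).1 Q
      (hQ.1.trans hX) hQ.2.1
  · intro hR
    obtain ⟨-, hb, hc⟩ := lemma_13_1abc hG hM hH hnc hpM hpσM hpH hpt hR
    exact ⟨hστ.resolve_right hb, hc⟩
  · apply le_antisymm
    · exact le_inf inf_le_left (ha P (le_inf hPM hPH) hPp)
    · exact le_inf inf_le_left
        (inf_le_right.trans ((Subgroup.centralizer_le_normalizer _).trans hNH))

end Cfsg.Agent.Lib.Lead.BG13q
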