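import Mathlib
import Cfsg.Agent.Lib.Helper2.BG14y3
import Cfsg.Agent.S1404
import Cfsg.Agent.S1417
import Cfsg.Agent.S1420

set_option autoImplicit false
set_option linter.style.haveILetI false
set_option linter.unusedSectionVars false

namespace Cfsg.Agent.Lib.Lead.BG14n

open Cfsg Cfsg.Agent.Lib.Lead Cfsg.Agent.Lib.Lead.BG10 Cfsg.Agent.Lib.Helper7 Cfsg.Agent.Lib.Helper4
open Cfsg.Agent.Lib.Helper4.BG76 Cfsg.Agent.Lib.Helper4.BG8 Cfsg.Agent.Lib.Helper4.BG9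
open Cfsg.Agent.Lib.Helper4.BG7 Cfsg.Agent.Lib.Helper4.BG12 Cfsg.Agent.Lib.Helper4.BGConj
open Cfsg.Agent.Lib.Helper4.BG13 Cfsg.Agent.Lib.Lead.BG95 Cfsg.Agent.Lib.Lead.BG12q
open Cfsg.Agent.Lib.Lead.BG11 Cfsg.Agent.Lib.Lead.BG13q Cfsg.Agent.Lib.Helper4.BG18
open Cfsg.Agent.Lib.Helper2.BG12 Cfsg.Agent.Lib.Helper6 Cfsg.Agent.Lib.Helper2.BG13x
open Cfsg.Agent.Lib.Helper2.BG14y Cfsg.Agent.Lib.Helper5.BG139
open scoped commutatorElement

universe u

variable {G : Type u} [Group G] [Finite G]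

/-- `x ∈ g M g⁻¹` iff `g⁻¹ x g ∈ M` -/
theorem mem_cj_iff {g x : G} {M : Subgroup G} : x ∈ cj g M ↔ g⁻¹ * x * g ∈ M := by
  constructor
  · rintro ⟨m, hm, rfl⟩
    have : g⁻¹ * (MulAut.conj g).toMonoidHom m * g = m := by
      simp [MulAut.conj_apply]; group
    rw [this]; exact hm
  · intro h
    refine ⟨g⁻¹ * x * g, h, ?_⟩
    simp [MulAut.conj_apply]; group

/-- a conjugate `g M g⁻¹` of `M` containing a `q`-subgroup `X ≠ 1` of `M`, `q ∈ σ(M)`, and
`C_G(X)`, is `M` -/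
theorem cj_eq_of_centralizer_le (hG : IsMinSimpleOddOrder G) {M : Subgroup G} (hM : IsCoatom M)
    {q : ℕ} [hq : Fact q.Prime] (hqσ : q ∈ sigma M) {X : Subgroup G} (hXq : IsPGroup q ↥X)
    (hX1 : X ≠ ⊥) (hXM : X ≤ M) {g : G} (hXg : X ≤ cj g M)
    (hC : Subgroup.centralizer (X : Set G) ≤ cj g M) : cj g M = M := by
  have h1 : X.map (MulAut.conj g⁻¹).toMonoidHom ≤ M := by
    rintro _ ⟨x, hx, rfl⟩
    have := mem_cj_iff.mp (hXg hx)
    simpa [MulAut.conj_apply] using this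
  obtain ⟨m, hm, c, hc, hgc⟩ := (Cfsg.Agent.S1404.result hG M hM q hqσ X hXq hX1 hXM).1 g⁻¹ h1
  have hg : g = c⁻¹ * m⁻¹ := by
    have : g⁻¹⁻¹ = (m * c)⁻¹ := by rw [hgc]
    simpa using this
  have hcM : c ∈ M := by
    have h2 := mem_cj_iff.mp (hC hc)
    rw [hg] at h2
    have h3 : (c⁻¹ * m⁻¹)⁻¹ * c * (c⁻¹ * m⁻¹) = m * c * m⁻¹ := by group
    rw [h3] at h2
    have h4 : c = m⁻¹ * (m * c * m⁻¹) * m := by group
    rw [h4]
    exact M.mul_mem (M.mul_mem (M.inv_mem hm) h2) hm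
  have hgM : g ∈ M := by
    rw [hg]; exact M.mul_mem (M.inv_mem hcM) (M.inv_mem hm)
  ext y
  rw [mem_cj_iff]
  constructor
  · intro h
    have : y = g * (g⁻¹ * y * g) * g⁻¹ := by group
    rw [this]; exact M.mul_mem (M.mul_mem hgM h) (M.inv_mem hgM)
  · intro h
    exact M.mul_mem (M.mul_mem (M.inv_mem hgM) h) hgM

/-- **B and G, Theorem 14.4**, prime power case: for a `q`-subgroup `X ≠ 1` of `M`, `q ∈ σ(M)`,
with `C_G(X) ≰ M`, a maximal subgroup `N ⊇ N_G(X)` is not conjugate to `M`, `q ∈ τ₂(N)`,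
`M ∩ N` is a complement of `N_σ` in `N` and `N_σ` is nilpotent -/
theorem exists_tau2_partner (hG : IsMinSimpleOddOrder G) {M : Subgroup G} (hM : IsCoatom M)
    {q : ℕ} [hq : Fact q.Prime] (hqσ : q ∈ sigma M) {X : Subgroup G} (hXq : IsPGroup q ↥X)
    (hX1 : X ≠ ⊥) (hXM : X ≤ M) (hC : ¬ Subgroup.centralizer (X : Set G) ≤ M) :
    ∃ N : Subgroup G, IsCoatom N ∧ Subgroup.normalizer (X : Set G) ≤ N ∧ (∀ g : G, N ≠ cj g M) ∧
      q ∈ tau2 N ∧ IsComplIn (M ⊓ N) (sigmaCore N) N ∧ Group.IsNilpotent ↥(sigmaCore N) := by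
  have hXtop : X ≠ ⊤ := by
    rintro rfl
    exact hM.1 (top_le_iff.mp hXM)
  obtain ⟨N, hN, hNX⟩ := exists_coatom_ge (normalizer_ne_top hG hX1 hXtop)
  have hCN : Subgroup.centralizer (X : Set G) ≤ N :=
    (Subgroup.centralizer_le_normalizer (X : Set G)).trans hNX
  have hXN : X ≤ N := Subgroup.le_normalizer.trans hNX
  have hne : N ≠ M := by
    rintro rfl
    exact hC hCN
  have hqN : q ∉ sigma N := by
    intro hqN
    obtain ⟨g, hg⟩ := sigma_partition hG hM hN hqσ hqN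
    apply hne
    rw [hg]
    apply cj_eq_of_centralizer_le hG hM hqσ hXq hX1 hXM
    · rw [← hg]; exact hXN
    · rw [← hg]; exact hCN
  obtain ⟨hnc, hq2, -, hcompl⟩ := lemma_12_17e hG hM hN hne hqσ hXq hX1 hXM hNX hqN
  refine ⟨N, hN, hNX, hnc, hq2, hcompl, ?_⟩
  obtain ⟨A, hAN, hAe, hAc⟩ := exists_elementary_sq (p := q) (Z := N) hq2.2.2.2
  exact (Cfsg.Agent.S1417.result hG N hN q hq2 A ⟨hAN, hAe, hAc⟩).1

/-- if `E` complements the normal subgroup `S` in `N` and `x ∈ E`, then every element of `C_N(x)`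
is a product of an element of `C_E(x)` and one of `C_S(x)` -/
theorem exists_mul_of_mem_centralizer {N E S : Subgroup G} (hc : IsComplIn E S N)
    (hSn : N ≤ Subgroup.normalizer (S : Set G)) {x : G} (hxE : x ∈ E) {n : G} (hn : n ∈ N)
    (hnx : n ∈ Subgroup.centralizer ({x} : Set G)) :
    ∃ e ∈ E ⊓ Subgroup.centralizer ({x} : Set G), ∃ s ∈ S ⊓ Subgroup.centralizer ({x} : Set G),
      n = e * s := by
  obtain ⟨e, he, s, hs, rfl⟩ := hc.2.2.2 n hn
  have hcomm : x * (e * s) = e * s * x := by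
    have := Subgroup.mem_centralizer_iff.mp hnx x rfl
    exact this
  have hxN : x ∈ N := hc.1 hxE
  -- `e⁻¹ (x e x⁻¹) = s (x s x⁻¹)⁻¹`
  have h1 : e⁻¹ * (x * e * x⁻¹) = s * (x * s * x⁻¹)⁻¹ := by
    have h2 : x * e * x⁻¹ * (x * s * x⁻¹) = e * s := by
      calc x * e * x⁻¹ * (x * s * x⁻¹) = x * (e * s) * x⁻¹ := by group
        _ = e * s * x * x⁻¹ := by rw [hcomm]
        _ = e * s := by group
    calc e⁻¹ * (x * e * x⁻¹) = e⁻¹ * (x * e * x⁻¹ * (x * s * x⁻¹)) * (x * s * x⁻¹)⁻¹ := by group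
      _ = e⁻¹ * (e * s) * (x * s * x⁻¹)⁻¹ := by rw [h2]
      _ = s * (x * s * x⁻¹)⁻¹ := by group
  have hxs : x * s * x⁻¹ ∈ S := by
    have := (Subgroup.mem_normalizer_iff.mp (hSn hxN) s).mp hs
    exact this
  have hmem : e⁻¹ * (x * e * x⁻¹) ∈ E ⊓ S := by
    refine ⟨E.mul_mem (E.inv_mem he) (E.mul_mem (E.mul_mem hxE he) (E.inv_mem hxE)), ?_⟩
    rw [h1]
    exact S.mul_mem hs (S.inv_mem hxs)
  rw [hc.2.2.1, Subgroup.mem_bot] at hmem
  have hex : x * e = e * x := by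
    have : x * e * x⁻¹ = e := by
      have h3 : x * e * x⁻¹ = e * (e⁻¹ * (x * e * x⁻¹)) := by group
      rw [h3, hmem, mul_one]
    calc x * e = x * e * x⁻¹ * x := by group
      _ = e * x := by rw [this]
  have hsx : x * s = s * x := by
    have h4 : e * (x * s) = e * (s * x) := by
      calc e * (x * s) = (e * x) * s := by group
        _ = (x * e) * s := by rw [hex]
        _ = x * (e * s) := by group
        _ = e * s * x := hcomm
        _ = e * (s * x) := by group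
    exact mul_left_cancel h4
  have hec : e ∈ Subgroup.centralizer ({x} : Set G) := by
    rw [Subgroup.mem_centralizer_iff]
    rintro y rfl
    exact hex
  have hsc : s ∈ Subgroup.centralizer ({x} : Set G) := by
    rw [Subgroup.mem_centralizer_iff]
    rintro y rfl
    exact hsx
  exact ⟨e, ⟨he, hec⟩, s, ⟨hs, hsc⟩, rfl⟩

/-- the subgroup of order `q` generated by a power of `x`, for a prime divisor `q` of the order of
`x` -/
theorem exists_prime_order_pow {x : G} {q : ℕ} (hqx : q ∣ orderOf x) :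
    ∃ y : G, y ∈ Subgroup.zpowers x ∧ orderOf y = q ∧ Nat.card ↥(Subgroup.zpowers y) = q ∧
      Subgroup.centralizer ({x} : Set G) ≤ Subgroup.centralizer ((Subgroup.zpowers y : Subgroup G) : Set G) ∧
      Subgroup.centralizer ({x} : Set G) ≤ Subgroup.centralizer ({y} : Set G) := by
  have hx0 : orderOf x ≠ 0 := (orderOf_pos x).ne'
  refine ⟨x ^ (orderOf x / q), Subgroup.npow_mem_zpowers x _, orderOf_pow_orderOf_div hx0 hqx, ?_, ?_, ?_⟩
  · rw [Nat.card_zpowers, orderOf_pow_orderOf_div hx0 hqx]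
  · intro c hc
    rw [Subgroup.mem_centralizer_iff] at hc ⊢
    intro z hz
    obtain ⟨k, rfl⟩ := Subgroup.mem_zpowers_iff.mp hz
    have h1 : x * c = c * x := hc x rfl
    have h2 : Commute (x ^ (orderOf x / q)) c := (Commute.pow_left h1 _)
    exact (h2.zpow_left k).eq
  · intro c hc
    rw [Subgroup.mem_centralizer_iff] at hc ⊢
    rintro z rfl
    have h1 : x * c = c * x := hc x rfl
    exact (Commute.pow_left h1 _).eq

/-- a subgroup of prime order `q` is a nontrivial `q`-group -/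
theorem isPGroup_of_card_eq {q : ℕ} [hq : Fact q.Prime] {X : Subgroup G} (hX : Nat.card ↥X = q) :
    IsPGroup q ↥X ∧ X ≠ ⊥ := by
  constructor
  · exact IsPGroup.of_card (n := 1) (by rw [hX, pow_one])
  · rintro rfl
    rw [Subgroup.card_bot] at hX
    exact hq.out.one_lt.ne hX

/-- **B and G, Theorem 14.4**: for `1 ≠ x ∈ M_σ` with `C_G(x) ≰ M` there is a unique maximal
subgroup `N ⊇ C_G(x)`; `N` is not conjugate to `M`, `M ∩ N` complements `N_σ` in `N`, `N_σ` is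
nilpotent, `x` is a `τ₂(N)`-element and `C_{N_σ}(x) ≠ 1`. -/
theorem exists_partner (hG : IsMinSimpleOddOrder G) {M : Subgroup G} (hM : IsCoatom M) {x : G}
    (hx : x ∈ sigmaCore M) (hx1 : x ≠ 1) (hC : ¬ Subgroup.centralizer ({x} : Set G) ≤ M) :
    ∃ N : Subgroup G, IsCoatom N ∧ Subgroup.centralizer ({x} : Set G) ≤ N ∧
      (∀ L : Subgroup G, IsCoatom L → Subgroup.centralizer ({x} : Set G) ≤ L → L = N) ∧
      (∀ g : G, N ≠ cj g M) ∧ IsComplIn (M ⊓ N) (sigmaCore N) N ∧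
      Group.IsNilpotent ↥(sigmaCore N) ∧ (∀ p : ℕ, p.Prime → p ∣ orderOf x → p ∈ tau2 N) ∧
      sigmaCore N ⊓ Subgroup.centralizer ({x} : Set G) ≠ ⊥ := by
  have hxM : x ∈ M := sigmaCore_le M hx
  have hord : orderOf x ≠ 1 := fun h => hx1 (orderOf_eq_one_iff.mp h)
  obtain ⟨q₀, hq₀, hq₀x⟩ := Nat.exists_prime_and_dvd hord
  haveI : Fact q₀.Prime := ⟨hq₀⟩
  -- primes of `x` are in `σ(M)`
  have hσ : ∀ q : ℕ, q.Prime → q ∣ orderOf x → q ∈ sigma M := by
    intro q hq hqx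
    apply (sigmaCore_hall hG hM).1.2.1 q hq
    have h1 : orderOf (⟨x, hx⟩ : sigmaCore M) = orderOf x := Subgroup.orderOf_mk x hx
    rw [← h1] at hqx
    exact hqx.trans (orderOf_dvd_natCard _)
  -- the partner of a subgroup of prime order
  have key : ∀ q : ℕ, q.Prime → q ∣ orderOf x → ∃ y : G, y ∈ Subgroup.zpowers x ∧ orderOf y = q ∧
      ∃ N : Subgroup G, IsCoatom N ∧ Subgroup.normalizer ((Subgroup.zpowers y : Subgroup G) : Set G) ≤ N ∧
        Subgroup.centralizer ({x} : Set G) ≤ N ∧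
        (∀ g : G, N ≠ cj g M) ∧ q ∈ tau2 N ∧ IsComplIn (M ⊓ N) (sigmaCore N) N ∧
        Group.IsNilpotent ↥(sigmaCore N) := by
    intro q hq hqx
    haveI : Fact q.Prime := ⟨hq⟩
    obtain ⟨y, hyx, hyo, hyc, hcen, -⟩ := exists_prime_order_pow hqx
    obtain ⟨hYq, hY1⟩ := isPGroup_of_card_eq hyc
    have hYM : Subgroup.zpowers y ≤ M := by
      rw [Subgroup.zpowers_le]
      exact (Subgroup.zpowers_le.mpr hxM) hyx
    have hCY : ¬ Subgroup.centralizer ((Subgroup.zpowers y : Subgroup G) : Set G) ≤ M :=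
      fun h => hC (hcen.trans h)
    obtain ⟨N, hN, hNY, hnc, hq2, hcompl, hnil⟩ :=
      exists_tau2_partner hG hM (hσ q hq hqx) hYq hY1 hYM hCY
    exact ⟨y, hyx, hyo, N, hN, hNY,
      hcen.trans ((Subgroup.centralizer_le_normalizer _).trans hNY), hnc, hq2, hcompl, hnil⟩
  obtain ⟨y₀, hy₀x, hy₀o, N, hN, hNY₀, hCN, hnc, hq₀2, hcompl, hnil⟩ := key q₀ hq₀ hq₀x
  have hxN : x ∈ N := hCN (by
    rw [Subgroup.mem_centralizer_iff]; rintro z rfl; rfl)
  have hxE : x ∈ M ⊓ N := ⟨hxM, hxN⟩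
  -- `C_{N_σ}(x) ≠ 1`
  have hR : sigmaCore N ⊓ Subgroup.centralizer ({x} : Set G) ≠ ⊥ := by
    intro hbot
    apply hC
    intro n hn
    obtain ⟨e, he, s, hs, rfl⟩ := exists_mul_of_mem_centralizer hcompl (le_normalizer_sigmaCore N)
      hxE (hCN hn) hn
    rw [hbot, Subgroup.mem_bot] at hs
    rw [hs, mul_one]
    exact he.1.1
  have h1378 := t1378 hG
  have hEsolv : Group.IsSolvable ↥(M ⊓ N) :=
    solvable_of_ne_top hG (fun h => hM.1 (top_le_iff.mp (h ▸ inf_le_left)))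
  -- every prime of `x` is in `τ₂(N)`
  have hτ2 : ∀ p : ℕ, p.Prime → p ∣ orderOf x → p ∈ tau2 N := by
    intro p hp hpx
    haveI : Fact p.Prime := ⟨hp⟩
    obtain ⟨y, hyx, hyo, hyc, hcen, hcen'⟩ := exists_prime_order_pow hpx
    obtain ⟨hYq, hY1⟩ := isPGroup_of_card_eq hyc
    have hyE : y ∈ M ⊓ N := (Subgroup.zpowers_le.mpr hxE) hyx
    have hYE : Subgroup.zpowers y ≤ M ⊓ N := Subgroup.zpowers_le.mpr hyE
    have hy1 : y ≠ 1 := by
      intro h
      rw [h, orderOf_one] at hyo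
      exact hp.one_lt.ne hyo
    have hpN : p ∣ Nat.card ↥N := by
      have h1 : orderOf (⟨y, hyE.2⟩ : N) = orderOf y := Subgroup.orderOf_mk y hyE.2
      rw [← hyo, ← h1]
      exact orderOf_dvd_natCard _
    have hpσN : p ∉ sigma N := T1378.not_mem h1378 hM hN hnc (hσ p hp hpx)
    have hfix : sigmaCore N ⊓ Subgroup.centralizer ({y} : Set G) ≠ ⊥ := by
      intro hbot
      apply hR
      rw [eq_bot_iff, ← hbot]
      exact inf_le_inf_left _ hcen'
    have hfix' : sigmaCore N ⊓ Subgroup.centralizer ((Subgroup.zpowers y : Subgroup G) : Set G) ≠ ⊥ := by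
      intro hbot
      apply hR
      rw [eq_bot_iff, ← hbot]
      exact inf_le_inf_left _ hcen
    rcases sigma_or_tau hG hN hpN with h | h | h | h
    · exact absurd h hpσN
    · -- `p ∈ τ₁(N)`: contradiction with Q4
      exfalso
      have hCY : ¬ Subgroup.centralizer ((Subgroup.zpowers y : Subgroup G) : Set G) ≤ M :=
        fun h' => hC (hcen.trans h')
      obtain ⟨N', hN', hNY', -, hp2, -, -⟩ :=
        exists_tau2_partner hG hM (hσ p hp hpx) hYq hY1 (hYE.trans inf_le_left) hCY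
      have := mem_sigma_of_tau1_fixed' hG hN hN' h (hYE.trans inf_le_right) hyc hfix' hNY'
      exact hp2.2.1 this
    · exact h
    · -- `p ∈ τ₃(N)`: contradiction with `τ₂(N) ≠ ∅`
      exfalso
      obtain ⟨E₃, hE₃, hYE₃⟩ := exists_piHallOf_ge hEsolv (tau3 N) hYE (by
        intro r hr hrd
        rw [hyc] at hrd
        rwa [(Nat.prime_dvd_prime_iff_eq hr hp).mp hrd])
      exact tau2_empty_of_tau3_fixed hG hN hcompl hE₃ (hYE₃ (Subgroup.mem_zpowers y)) hy1 hfix q₀ hq₀2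
  refine ⟨N, hN, hCN, ?_, hnc, hcompl, hnil, hτ2, hR⟩
  -- uniqueness
  have hxhat : x ∈ sigmaHat N := by
    refine ⟨hxN, ?_⟩
    obtain ⟨r, hr1⟩ := (Subgroup.ne_bot_iff_exists_ne_one).mp hR
    refine ⟨r.1, r.2.1, ?_, ?_⟩
    · intro h
      apply hr1
      exact Subtype.ext h
    · exact (Subgroup.mem_centralizer_iff.mp r.2.2 x rfl)
  exact ((Cfsg.Agent.S1420.result hG N hN (M ⊓ N) hcompl).2.2.2 x hxN hx1 hτ2 hxhat).2

theorem cj_mul (a b : G) (M : Subgroup G) : cj (a * b) M = cj a (cj b M) := by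
  ext y
  simp only [mem_cj_iff]
  have : (a * b)⁻¹ * y * (a * b) = b⁻¹ * (a⁻¹ * y * a) * b := by group
  rw [this]

theorem cj_eq_self_of_mem {a : G} {M : Subgroup G} (ha : a ∈ M) : cj a M = M := by
  ext y
  rw [mem_cj_iff]
  constructor
  · intro h
    have : y = a * (a⁻¹ * y * a) * a⁻¹ := by group
    rw [this]; exact M.mul_mem (M.mul_mem ha h) (M.inv_mem ha)
  · intro h
    exact M.mul_mem (M.mul_mem (M.inv_mem ha) h) ha

/-- **B and G, Theorem 14.4(a)**, transitivity: two conjugates of `M` containing `x ∈ M_σ` are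
conjugate under `C_G(x)` -/
theorem exists_centralizer_cj (hG : IsMinSimpleOddOrder G) {M : Subgroup G} (hM : IsCoatom M)
    {x : G} (hx : x ∈ sigmaCore M) {g : G} (hxg : x ∈ cj g M) :
    ∃ c ∈ Subgroup.centralizer ({x} : Set G), cj g M = cj c M := by
  have hxM : x ∈ M := sigmaCore_le M hx
  by_cases hx1 : x = 1
  · refine ⟨g, ?_, rfl⟩
    rw [Subgroup.mem_centralizer_iff]
    rintro z rfl
    rw [hx1, one_mul, mul_one]
  have hord : orderOf x ≠ 1 := fun h => hx1 (orderOf_eq_one_iff.mp h)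
  obtain ⟨q, hq, hqx⟩ := Nat.exists_prime_and_dvd hord
  haveI : Fact q.Prime := ⟨hq⟩
  have hqσ : q ∈ sigma M := by
    apply (sigmaCore_hall hG hM).1.2.1 q hq
    have h1 : orderOf (⟨x, hx⟩ : sigmaCore M) = orderOf x := Subgroup.orderOf_mk x hx
    rw [← h1] at hqx
    exact hqx.trans (orderOf_dvd_natCard _)
  obtain ⟨y, hyx, hyo, hyc, hcen, hcen'⟩ := exists_prime_order_pow hqx
  obtain ⟨hYq, hY1⟩ := isPGroup_of_card_eq hyc
  have hyM : y ∈ M := (Subgroup.zpowers_le.mpr hxM) hyx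
  have hYM : Subgroup.zpowers y ≤ M := Subgroup.zpowers_le.mpr hyM
  have hyg : y ∈ cj g M := (Subgroup.zpowers_le.mpr hxg) hyx
  have h1 : (Subgroup.zpowers y).map (MulAut.conj g⁻¹).toMonoidHom ≤ M := by
    rintro _ ⟨z, hz, rfl⟩
    have hz' : z ∈ cj g M := (Subgroup.zpowers_le.mpr hyg) hz
    have := mem_cj_iff.mp hz'
    simpa [MulAut.conj_apply] using this
  obtain ⟨m, hm, c₁, hc₁, hgc⟩ :=
    (Cfsg.Agent.S1404.result hG M hM q hqσ _ hYq hY1 hYM).1 g⁻¹ h1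
  have hg : g = c₁⁻¹ * m⁻¹ := by
    have : g⁻¹⁻¹ = (m * c₁)⁻¹ := by rw [hgc]
    simpa using this
  have hgd : cj g M = cj c₁⁻¹ M := by
    rw [hg, cj_mul, cj_eq_self_of_mem (M.inv_mem hm)]
  have hd : c₁⁻¹ ∈ Subgroup.centralizer ((Subgroup.zpowers y : Subgroup G) : Set G) :=
    Subgroup.inv_mem _ hc₁
  by_cases hCY : Subgroup.centralizer ((Subgroup.zpowers y : Subgroup G) : Set G) ≤ M
  · refine ⟨1, Subgroup.one_mem _, ?_⟩
    rw [hgd, cj_eq_self_of_mem (hCY hd), cj_eq_self_of_mem (M.one_mem)]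
  obtain ⟨N, hN, hNY, hnc, hq2, hcompl, -⟩ := exists_tau2_partner hG hM hqσ hYq hY1 hYM hCY
  have hCN : Subgroup.centralizer ((Subgroup.zpowers y : Subgroup G) : Set G) ≤ N :=
    (Subgroup.centralizer_le_normalizer _).trans hNY
  have hxN : x ∈ N := hCN (hcen (by
    rw [Subgroup.mem_centralizer_iff]; rintro z rfl; rfl))
  have hyN : y ∈ N := (Subgroup.zpowers_le.mpr hxN) hyx
  have hdy : c₁⁻¹ ∈ Subgroup.centralizer ({y} : Set G) := by
    rw [Subgroup.mem_centralizer_iff]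
    rintro z rfl
    exact Subgroup.mem_centralizer_iff.mp hd z (Subgroup.mem_zpowers z)
  obtain ⟨e, he, s, hs, hdes⟩ := exists_mul_of_mem_centralizer hcompl (le_normalizer_sigmaCore N)
    (x := y) ⟨hyM, hyN⟩ (hCN hd) hdy
  -- `r = e s e⁻¹ ∈ N_σ`
  have hr : e * s * e⁻¹ ∈ sigmaCore N :=
    (Subgroup.mem_normalizer_iff.mp (le_normalizer_sigmaCore N he.1.2) s).mp hs.1
  have hgr : cj g M = cj (e * s * e⁻¹) M := by
    rw [hgd, hdes]
    calc cj (e * s) M = cj ((e * s * e⁻¹) * e) M := by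
          congr 1; group
      _ = cj (e * s * e⁻¹) (cj e M) := cj_mul _ _ _
      _ = cj (e * s * e⁻¹) M := by rw [cj_eq_self_of_mem he.1.1]
  refine ⟨e * s * e⁻¹, ?_, hgr⟩
  rw [hgr, mem_cj_iff] at hxg
  set r := e * s * e⁻¹ with hrdef
  have hrN : r ∈ N := sigmaCore_le N hr
  have h2 : x⁻¹ * (r⁻¹ * x * r) ∈ (M ⊓ N) ⊓ sigmaCore N := by
    refine ⟨⟨M.mul_mem (M.inv_mem hxM) hxg,
      N.mul_mem (N.inv_mem hxN) (N.mul_mem (N.mul_mem (N.inv_mem hrN) hxN) hrN)⟩, ?_⟩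
    have h3 : x⁻¹ * (r⁻¹ * x * r) = (x⁻¹ * r⁻¹ * x⁻¹⁻¹) * r := by group
    rw [h3]
    apply (sigmaCore N).mul_mem _ hr
    exact (Subgroup.mem_normalizer_iff.mp (le_normalizer_sigmaCore N (N.inv_mem hxN)) r⁻¹).mp
      ((sigmaCore N).inv_mem hr)
  rw [hcompl.2.2.1, Subgroup.mem_bot] at h2
  rw [Subgroup.mem_centralizer_iff]
  rintro z rfl
  have h4 : r⁻¹ * z * r = z := by
    have : r⁻¹ * z * r = z * (z⁻¹ * (r⁻¹ * z * r)) := by group
    rw [this, h2, mul_one]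
  calc z * r = r * (r⁻¹ * z * r) := by group
    _ = r * z := by rw [h4]

end Cfsg.Agent.Lib.Lead.BG14n
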