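import Mathlib
import Cfsg.Agent.Lib.Lead.BG14n1
import Cfsg.Agent.Lib.Helper4.BG14b

set_option autoImplicit false
set_option linter.style.haveILetI false
set_option linter.unusedSectionVars false

namespace Cfsg.Agent.Lib.Lead.BG14n

open Cfsg Cfsg.Agent.Lib.Lead Cfsg.Agent.Lib.Lead.BG10 Cfsg.Agent.Lib.Helper7 Cfsg.Agent.Lib.Helper4
open Cfsg.Agent.Lib.Helper4.BG76 Cfsg.Agent.Lib.Helper4.BG8 Cfsg.Agent.Lib.Helper4.BG9
open Cfsg.Agent.Lib.Helper4.BG7 Cfsg.Agent.Lib.Helper4.BG12 Cfsg.Agent.Lib.Helper4.BGConj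
open Cfsg.Agent.Lib.Helper4.BG13 Cfsg.Agent.Lib.Lead.BG95 Cfsg.Agent.Lib.Lead.BG12q
open Cfsg.Agent.Lib.Lead.BG11 Cfsg.Agent.Lib.Lead.BG13q Cfsg.Agent.Lib.Helper4.BG18
open Cfsg.Agent.Lib.Helper2.BG12 Cfsg.Agent.Lib.Helper6 Cfsg.Agent.Lib.Helper2.BG13x
open Cfsg.Agent.Lib.Helper2.BG14y Cfsg.Agent.Lib.Helper5.BG139
open scoped commutatorElement

universe u

variable {G : Type u} [Group G] [Finite G]

open Cfsg.Agent.Lib.Helper4.BG14

/-- the centralizer of `x` normalizes `S ⊓ C_G(x)` when it normalizes `S` -/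
theorem centralizer_le_normalizer_inf {S : Subgroup G} {x : G}
    (h : Subgroup.centralizer ({x} : Set G) ≤ Subgroup.normalizer (S : Set G)) :
    Subgroup.centralizer ({x} : Set G) ≤
      Subgroup.normalizer ((S ⊓ Subgroup.centralizer ({x} : Set G) : Subgroup G) : Set G) := by
  intro c hc
  rw [Subgroup.mem_normalizer_iff]
  intro s
  have hn := Subgroup.mem_normalizer_iff.mp (h hc) s
  constructor
  · rintro ⟨hs1, hs2⟩
    exact ⟨hn.mp hs1, Subgroup.mul_mem _ (Subgroup.mul_mem _ hc hs2) (Subgroup.inv_mem _ hc)⟩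
  · rintro ⟨hs1, hs2⟩
    refine ⟨hn.mpr hs1, ?_⟩
    have : s = c⁻¹ * (c * s * c⁻¹) * c := by group
    rw [this]
    exact Subgroup.mul_mem _ (Subgroup.mul_mem _ (Subgroup.inv_mem _ hc) hs2) hc

/-- **B and G, Theorem 14.4(a)**: if `C_G(x) ≤ N` and `M ∩ N` complements `N_σ` in `N`, then
`R = C_{N_σ}(x)` is a normal complement of `C_M(x)` in `C_G(x)`, of order prime to `|C_M(x)|`, acting
regularly on the conjugates of `M` containing `x` -/
theorem partner_props (hG : IsMinSimpleOddOrder G) {M : Subgroup G} (hM : IsCoatom M) {x : G}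
    (hx : x ∈ sigmaCore M) (hx1 : x ≠ 1) {N : Subgroup G} (hN : IsCoatom N)
    (hCN : Subgroup.centralizer ({x} : Set G) ≤ N) (hcompl : IsComplIn (M ⊓ N) (sigmaCore N) N) :
    Subgroup.centralizer ({x} : Set G) ≤
      Subgroup.normalizer ((sigmaCore N ⊓ Subgroup.centralizer ({x} : Set G) : Subgroup G) : Set G) ∧
    IsComplIn (M ⊓ Subgroup.centralizer ({x} : Set G))
      (sigmaCore N ⊓ Subgroup.centralizer ({x} : Set G)) (Subgroup.centralizer ({x} : Set G)) ∧
    (Nat.card ↥(M ⊓ Subgroup.centralizer ({x} : Set G))).Coprime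
      ((M ⊓ Subgroup.centralizer ({x} : Set G)).relIndex (Subgroup.centralizer ({x} : Set G))) ∧
    ∀ g : G, x ∈ cj g M → ∃! r : G, r ∈ sigmaCore N ⊓ Subgroup.centralizer ({x} : Set G) ∧
      cj r M = cj g M := by
  have hxM : x ∈ M := sigmaCore_le M hx
  have hxC : x ∈ Subgroup.centralizer ({x} : Set G) := by
    rw [Subgroup.mem_centralizer_iff]; rintro z rfl; rfl
  have hxN : x ∈ N := hCN hxC
  have hnorm := centralizer_le_normalizer_inf (hCN.trans (le_normalizer_sigmaCore N))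
  have hc : IsComplIn (M ⊓ Subgroup.centralizer ({x} : Set G))
      (sigmaCore N ⊓ Subgroup.centralizer ({x} : Set G)) (Subgroup.centralizer ({x} : Set G)) := by
    refine ⟨inf_le_right, inf_le_right, ?_, ?_⟩
    · rw [eq_bot_iff, ← hcompl.2.2.1]
      exact le_inf (le_inf (inf_le_left.trans inf_le_left) (inf_le_left.trans (inf_le_right.trans hCN)))
        (inf_le_right.trans inf_le_left)
    · intro n hn
      obtain ⟨e, he, s, hs, rfl⟩ := exists_mul_of_mem_centralizer hcompl (le_normalizer_sigmaCore N)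
        (x := x) ⟨hxM, hxN⟩ (hCN hn) hn
      exact ⟨e, ⟨he.1.1, he.2⟩, s, hs, rfl⟩
  have hcard := card_mul_of_isComplIn hc
  have hrel : (M ⊓ Subgroup.centralizer ({x} : Set G)).relIndex (Subgroup.centralizer ({x} : Set G)) =
      Nat.card ↥(sigmaCore N ⊓ Subgroup.centralizer ({x} : Set G)) := by
    have h1 := Subgroup.relIndex_mul_relIndex (H := ⊥) (K := M ⊓ Subgroup.centralizer ({x} : Set G))
      (L := Subgroup.centralizer ({x} : Set G)) bot_le inf_le_right
    rw [Subgroup.relIndex_bot_left, Subgroup.relIndex_bot_left, hcard] at h1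
    exact Nat.eq_of_mul_eq_mul_left Nat.card_pos h1
  refine ⟨hnorm, hc, ?_, ?_⟩
  · rw [hrel]
    apply Nat.coprime_of_dvd
    intro p hp hp1 hp2
    have h1 : p ∉ sigma N := by
      apply not_sigma_of_dvd_card_compl hG hN hcompl hp
      exact hp1.trans (Subgroup.card_dvd_of_le (inf_le_inf_left M hCN))
    apply h1
    apply (sigmaCore_hall hG hN).1.2.1 p hp
    exact hp2.trans (Subgroup.card_dvd_of_le inf_le_left)
  · intro g hg
    obtain ⟨c, hcC, hcg⟩ := exists_centralizer_cj hG hM hx hg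
    obtain ⟨e, he, s, hs, rfl⟩ := hc.2.2.2 c hcC
    have hr : e * s * e⁻¹ ∈ sigmaCore N ⊓ Subgroup.centralizer ({x} : Set G) :=
      (Subgroup.mem_normalizer_iff.mp (hnorm he.2) s).mp hs
    have hgr : cj (e * s * e⁻¹) M = cj g M := by
      rw [hcg]
      symm
      calc cj (e * s) M = cj ((e * s * e⁻¹) * e) M := by
            congr 1; group
        _ = cj (e * s * e⁻¹) (cj e M) := cj_mul _ _ _
        _ = cj (e * s * e⁻¹) M := by rw [cj_eq_self_of_mem he.1]
    refine ⟨e * s * e⁻¹, ⟨hr, hgr⟩, ?_⟩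
    rintro r' ⟨hr', hgr'⟩
    -- `r'⁻¹ r ∈ N_G(M) = M`
    set r := e * s * e⁻¹ with hrdef
    have hM1 : M ≠ ⊥ := by
      rintro rfl
      exact hx1 (Subgroup.mem_bot.mp hxM)
    have hNM : Subgroup.normalizer (M : Set G) = M :=
      normalizer_eq_of_isCoatom hG hM hM1 le_rfl Subgroup.le_normalizer
    have h1 : cj (r⁻¹ * r') M = M := by
      rw [cj_mul, hgr', ← hgr, ← cj_mul, inv_mul_cancel]
      exact cj_eq_self_of_mem M.one_mem
    have h2 : r⁻¹ * r' ∈ M := by
      rw [← hNM]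
      exact Cfsg.Agent.Lib.Helper7.mem_normalizer_iff_cj.mpr h1
    have h3 : r⁻¹ * r' ∈ (M ⊓ N) ⊓ sigmaCore N := by
      refine ⟨⟨h2, ?_⟩, ?_⟩
      · exact N.mul_mem (N.inv_mem (sigmaCore_le N hr.1)) (sigmaCore_le N hr'.1)
      · exact (sigmaCore N).mul_mem ((sigmaCore N).inv_mem hr.1) hr'.1
    rw [hcompl.2.2.1, Subgroup.mem_bot] at h3
    calc r' = r * (r⁻¹ * r') := by group
      _ = r := by rw [h3, mul_one]

end Cfsg.Agent.Lib.Lead.BG14n
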