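import Mathlib
import Cfsg.Agent.Lib.Lead.BG14n2
import Cfsg.Agent.Lib.Helper4.FittingHall
import Cfsg.Agent.Lib.Lead.CoprimeFrattini
import Cfsg.Agent.Lib.Helper4.BG18b
import Cfsg.Agent.Lib.Helper4.BG14b

set_option autoImplicit false
set_option linter.style.haveILetI false
set_option linter.unusedSectionVars false

namespace Cfsg.Agent.Lib.Lead.BG14n

open Cfsg Cfsg.Agent.Lib.Lead Cfsg.Agent.Lib.Lead.BG10 Cfsg.Agent.Lib.Helper7 Cfsg.Agent.Lib.Helper4
open Cfsg.Agent.Lib.Helper4.BG76 Cfsg.Agent.Lib.Helper4.BG8 Cfsg.Agent.Lib.Helper4.BG9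
open Cfsg.Agent.Lib.Helper4.BG7 Cfsg.Agent.Lib.Helper4.BG12 Cfsg.Agent.Lib.Helper4.BGConj
open Cfsg.Agent.Lib.Helper4.BG13 Cfsg.Agent.Lib.Lead.BG95 Cfsg.Agent.Lib.Lead.BG12q
open Cfsg.Agent.Lib.Lead.BG11 Cfsg.Agent.Lib.Lead.BG13q Cfsg.Agent.Lib.Helper4.BG18
open Cfsg.Agent.Lib.Helper2.BG12 Cfsg.Agent.Lib.Helper6 Cfsg.Agent.Lib.Helper2.BG13x
open Cfsg.Agent.Lib.Helper2.BG14y Cfsg.Agent.Lib.Helper5.BG139
open scoped commutatorElement

universe u

variable {G : Type u} [Group G] [Finite G]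

open Cfsg.Agent.Lib.Helper4.BG14

/-- every prime divisor of `|N_F|` is in `σ(N)`, so `N_F ≤ N_σ` -/
theorem fittingHallOf_le_sigmaCore (hG : IsMinSimpleOddOrder G) {N : Subgroup G} (hN : IsCoatom N) :
    fittingHallOf N ≤ sigmaCore N := by
  apply le_sigmaCore_of_piNum hG hN (fittingHallOf_le N)
  intro p hp hpd
  haveI : Fact p.Prime := ⟨hp⟩
  haveI hnil : Group.IsNilpotent ↥(fittingHallOf N) := isNilpotent_fittingHallOf N
  obtain ⟨Q⟩ : Nonempty (Sylow p ↥(fittingHallOf N)) := inferInstance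
  have htf := (Group.isNilpotent_of_finite_tfae (G := ↥(fittingHallOf N))).out 0 3
  have hQn : (Q : Subgroup ↥(fittingHallOf N)).Normal := htf.mp hnil p ⟨hp⟩ Q
  haveI := Sylow.characteristic_of_normal Q hQn
  have hS := sylIn_map_sylow Q
  rw [mem_sigma_iff_sylIn]
  refine ⟨hpd.trans (Subgroup.card_dvd_of_le (fittingHallOf_le N)),
    (Q : Subgroup ↥(fittingHallOf N)).map (fittingHallOf N).subtype,
    ⟨hS.1.trans (fittingHallOf_le N), hS.2.1, ?_⟩, ?_⟩
  · rw [← Subgroup.relIndex_mul_relIndex _ _ _ hS.1 (fittingHallOf_le N)]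
    intro hd
    rcases (Nat.Prime.dvd_mul hp).mp hd with h | h
    · exact hS.2.2 h
    · have := fittingHallOf_coprime N
      exact Nat.Prime.not_coprime_iff_dvd.mpr ⟨p, hp, hpd, h⟩ this
  · have h1 : (Q : Subgroup ↥(fittingHallOf N)).map (fittingHallOf N).subtype ≠ ⊥ := by
      intro h0
      rw [Subgroup.map_eq_bot_iff_of_injective _ (Subgroup.subtype_injective _)] at h0
      exact Q.ne_bot_of_dvd_card hpd h0
    have h2 : N ≤ Subgroup.normalizer
        (((Q : Subgroup ↥(fittingHallOf N)).map (fittingHallOf N).subtype : Subgroup G) : Set G) :=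
      (le_normalizer_fittingHallOf N).trans (le_normalizer_map_characteristic _ _)
    exact (normalizer_eq_of_isCoatom hG hN h1 (hS.1.trans (fittingHallOf_le N)) h2).le

/-- `N_σ = N_F` when `N_σ` is nilpotent -/
theorem sigmaCore_eq_fittingHallOf (hG : IsMinSimpleOddOrder G) {N : Subgroup G} (hN : IsCoatom N)
    (hnil : Group.IsNilpotent ↥(sigmaCore N)) : sigmaCore N = fittingHallOf N := by
  apply le_antisymm _ (fittingHallOf_le_sigmaCore hG hN)
  apply le_fittingHallOf N (sigmaCore_le N) (le_normalizer_sigmaCore N) hnil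
  apply Nat.coprime_of_dvd
  intro p hp h1 h2
  have h3 := (sigmaCore_hall hG hN).1
  exact h3.2.2 p hp (h3.2.1 p hp h1) h2

/-- `|HK : K| = |H : H ∩ K|` when `H` normalizes `K` -/
theorem relIndex_sup_of_le_normalizer'' {H K : Subgroup G}
    (hHK : H ≤ Subgroup.normalizer (K : Set G)) : K.relIndex (H ⊔ K) = K.relIndex H := by
  obtain ⟨L, hLdef⟩ : ∃ L : Subgroup G, L = Subgroup.normalizer (K : Set G) := ⟨_, rfl⟩
  have hKL : K ≤ L := by rw [hLdef]; exact Subgroup.le_normalizer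
  have hHL : H ≤ L := by rw [hLdef]; exact hHK
  haveI : (K.subgroupOf L).Normal := by rw [hLdef]; exact Subgroup.normal_in_normalizer
  have h1 := Subgroup.relIndex_sup_right (H.subgroupOf L) (K.subgroupOf L)
  rw [← Subgroup.subgroupOf_sup hHL hKL, Subgroup.relIndex_subgroupOf (sup_le hHL hKL),
    Subgroup.relIndex_subgroupOf hHL] at h1
  exact h1

/-- a prime of `τ₂(N)` is not in `κ(N)` -/
theorem not_kappa_of_tau2 {N : Subgroup G} {p : ℕ} (hp : p ∈ tau2 N) : p ∉ kappa N := by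
  intro hκ
  haveI : Fact p.Prime := ⟨hp.1⟩
  obtain ⟨P⟩ : Nonempty (Sylow p ↥N) := inferInstance
  have hc := (hκ.2.2.2 P).1
  have hS := sylIn_map_sylow P
  have e : ↥(P : Subgroup ↥N) ≃* ↥((P : Subgroup ↥N).map N.subtype) :=
    (P : Subgroup ↥N).equivMapOfInjective N.subtype N.subtype_injective
  haveI : IsCyclic ↥((P : Subgroup ↥N).map N.subtype) := by
    haveI := hc
    exact isCyclic_of_surjective e.toMonoidHom e.surjective
  exact hp.2.2.2 (prankLE_of_sylIn hS (prankLE_one_of_isCyclic p))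

/-- for a standard factorisation `N = K U N_σ`, `U N_σ` is normal in `N` -/
theorem sd_le_normalizer {N K U : Subgroup G} (h : IsSigmaDecomposition N K U) :
    N ≤ Subgroup.normalizer ((U ⊔ sigmaCore N : Subgroup G) : Set G) := by
  have hK : K ⊔ sigmaCore N ≤ Subgroup.normalizer ((U ⊔ sigmaCore N : Subgroup G) : Set G) :=
    sup_le (le_normalizer_sup' h.normal (h.hall.1.trans (le_normalizer_sigmaCore N)))
      (le_sup_right.trans Subgroup.le_normalizer)
  intro n hn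
  obtain ⟨u, hu, b, hb, rfl⟩ := h.compl.2.2.2 n hn
  exact Subgroup.mul_mem _ (Subgroup.le_normalizer ((le_sup_left : U ≤ U ⊔ sigmaCore N) hu)) (hK hb)

/-- for a standard factorisation `N = K U N_σ`, a `κ(N)'`-element of `N` lies in `U N_σ` -/
theorem sd_mem_of_not_kappa {N K U : Subgroup G} (h : IsSigmaDecomposition N K U) {x : G}
    (hxN : x ∈ N) (hx : ∀ p : ℕ, p.Prime → p ∣ orderOf x → p ∉ kappa N) :
    x ∈ U ⊔ sigmaCore N := by
  have hn := sd_le_normalizer h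
  obtain ⟨H, hH⟩ : ∃ H : Subgroup G, H = U ⊔ sigmaCore N := ⟨_, rfl⟩
  rw [← hH] at hn ⊢
  have hHN : H ≤ N := by rw [hH]; exact sup_le h.compl.1 (sigmaCore_le N)
  haveI : (H.subgroupOf N).Normal := Subgroup.normal_subgroupOf_of_le_normalizer hn
  have h1 := Subgroup.pow_index_mem (H.subgroupOf N) ⟨x, hxN⟩
  have h2 : x ^ H.relIndex N ∈ H := by
    have : ((⟨x, hxN⟩ : ↥N) ^ (H.subgroupOf N).index : ↥N) ∈ H.subgroupOf N := h1
    rw [Subgroup.mem_subgroupOf] at this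
    have e : H.relIndex N = (H.subgroupOf N).index := rfl
    rw [e]
    simpa using this
  have hNeq : N = K ⊔ H := by
    apply le_antisymm
    · intro n hn'
      obtain ⟨u, hu, b, hb, rfl⟩ := h.compl.2.2.2 n hn'
      have hu' : u ∈ K ⊔ H := by
        rw [hH]; exact (le_sup_right : U ⊔ sigmaCore N ≤ _) ((le_sup_left : U ≤ _) hu)
      have hb' : b ∈ K ⊔ H := by
        have : K ⊔ sigmaCore N ≤ K ⊔ H := by
          rw [hH]; exact sup_le le_sup_left (le_sup_right.trans le_sup_right)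
        exact this hb
      exact Subgroup.mul_mem _ hu' hb'
    · exact sup_le h.hall.1 hHN
  have hdvd : H.relIndex N ∣ Nat.card ↥K := by
    have e1 : H.relIndex N = H.relIndex (K ⊔ H) := by rw [← hNeq]
    rw [e1, relIndex_sup_of_le_normalizer'' (h.hall.1.trans hn)]
    exact Subgroup.relIndex_dvd_card _ _
  have hcop : (H.relIndex N).Coprime (orderOf x) := by
    apply Nat.coprime_of_dvd
    intro p hp h3 h4
    exact hx p hp h4 (h.hall.2.1 p hp (h3.trans hdvd))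
  obtain ⟨m, hm⟩ := exists_pow_eq_self_of_coprime hcop
  rw [← hm]
  exact H.pow_mem h2 m

/-- **B and G, Theorem 14.4(c)**: a `τ₂(N)`-element `x ≠ 1` of `N` with `C_{N_σ}(x) ≠ 1` lies in
`A(N) ∖ N_σ`, and `U ≠ 1` -/
theorem partner_sd (hG : IsMinSimpleOddOrder G) {N : Subgroup G} (hN : IsCoatom N) {x : G}
    (hxN : x ∈ N) (hx1 : x ≠ 1) (hτ2 : ∀ p : ℕ, p.Prime → p ∣ orderOf x → p ∈ tau2 N)
    (hR : sigmaCore N ⊓ Subgroup.centralizer ({x} : Set G) ≠ ⊥) {K U : Subgroup G}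
    (h : IsSigmaDecomposition N K U) : U ≠ ⊥ ∧ x ∈ sigmaA N U ∧ x ∉ sigmaCore N := by
  have hxS : x ∉ sigmaCore N := by
    intro hxS
    have hord : orderOf x ≠ 1 := fun h => hx1 (orderOf_eq_one_iff.mp h)
    obtain ⟨q, hq, hqx⟩ := Nat.exists_prime_and_dvd hord
    apply (hτ2 q hq hqx).2.1
    apply (sigmaCore_hall hG hN).1.2.1 q hq
    have h1 : orderOf (⟨x, hxS⟩ : sigmaCore N) = orderOf x := Subgroup.orderOf_mk x hxS
    rw [← h1] at hqx
    exact hqx.trans (orderOf_dvd_natCard _)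
  have hxH : x ∈ U ⊔ sigmaCore N :=
    sd_mem_of_not_kappa h hxN (fun p hp hpx => not_kappa_of_tau2 (hτ2 p hp hpx))
  refine ⟨?_, ⟨?_, hxH⟩, hxS⟩
  · rintro rfl
    rw [bot_sup_eq] at hxH
    exact hxS hxH
  · refine ⟨hxN, ?_⟩
    obtain ⟨r, hr1⟩ := (Subgroup.ne_bot_iff_exists_ne_one).mp hR
    refine ⟨r.1, r.2.1, ?_, ?_⟩
    · intro h
      apply hr1
      exact Subtype.ext h
    · exact (Subgroup.mem_centralizer_iff.mp r.2.2 x rfl)

end Cfsg.Agent.Lib.Lead.BG14n
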