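import Mathlib
import Cfsg.Agent.Lib.Lead.BG14n3
import Cfsg.Agent.Lib.Helper4.BG14b

set_option autoImplicit false
set_option linter.style.haveILetI false
set_option linter.unusedSectionVars false

namespace Cfsg.Agent.Lib.Lead.BG14n

open Cfsg Cfsg.Agent.Lib.Lead Cfsg.Agent.Lib.Lead.BG10 Cfsg.Agent.Lib.Helper7 Cfsg.Agent.Lib.Helper4
open Cfsg.Agent.Lib.Helper4.BG76 Cfsg.Agent.Lib.Helper4.BG8 Cfsg.Agent.Lib.Helper4.BG9
open Cfsg.Agent.Lib.Helper4.BG7 Cfsg.Agent.Lib.Helper4.BG12 Cfsg.Agent.Lib.Helper4.BGConj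
open Cfsg.Agent.Lib.Helper4.BG13 Cfsg.Agent.Lib.Lead.BG95 Cfsg.Agent.Lib.Lead.BG12q
open Cfsg.Agent.Lib.Lead.BG11 Cfsg.Agent.Lib.Lead.BG13q Cfsg.Agent.Lib.Helper4.BG18
open Cfsg.Agent.Lib.Helper2.BG12 Cfsg.Agent.Lib.Helper6 Cfsg.Agent.Lib.Helper2.BG13x
open Cfsg.Agent.Lib.Helper2.BG14y Cfsg.Agent.Lib.Helper5.BG139
open scoped commutatorElement

universe u

variable {G : Type u} [Group G] [Finite G]

open Cfsg.Agent.Lib.Helper4.BG14

theorem supportR_eq_bot {M : Subgroup G} {x : G} (hC : Subgroup.centralizer ({x} : Set G) ≤ M) :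
    supportR M x = ⊥ := by
  unfold supportR
  rw [dif_neg]
  intro h
  exact h.1 hC

theorem supportR_eq {M N : Subgroup G} {x : G} (hC : ¬ Subgroup.centralizer ({x} : Set G) ≤ M)
    (hN : IsCoatom N) (hCN : Subgroup.centralizer ({x} : Set G) ≤ N)
    (huniq : ∀ L : Subgroup G, IsCoatom L → Subgroup.centralizer ({x} : Set G) ≤ L → L = N) :
    supportR M x = fittingHallOf N ⊓ Subgroup.centralizer ({x} : Set G) := by
  have h : ¬ Subgroup.centralizer ({x} : Set G) ≤ M ∧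
      ∃! L : Subgroup G, IsCoatom L ∧ Subgroup.centralizer ({x} : Set G) ≤ L :=
    ⟨hC, N, ⟨hN, hCN⟩, fun L hL => huniq L hL.1 hL.2⟩
  unfold supportR
  rw [dif_pos h]
  have := Classical.choose_spec h.2.exists
  rw [huniq _ this.1 this.2]

/-- the two cases for `R(x)`, `x ∈ M_σ#` -/
theorem supportR_cases (hG : IsMinSimpleOddOrder G) {M : Subgroup G} (hM : IsCoatom M) {x : G}
    (hx : x ∈ sigmaCore M) (hx1 : x ≠ 1) :
    (Subgroup.centralizer ({x} : Set G) ≤ M ∧ supportR M x = ⊥) ∨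
    (¬ Subgroup.centralizer ({x} : Set G) ≤ M ∧ ∃ L : Subgroup G, IsCoatom L ∧
      Subgroup.centralizer ({x} : Set G) ≤ L ∧ (∀ g : G, L ≠ cj g M) ∧
      IsComplIn (M ⊓ L) (sigmaCore L) L ∧ (∀ p : ℕ, p.Prime → p ∣ orderOf x → p ∈ tau2 L) ∧
      supportR M x = sigmaCore L ⊓ Subgroup.centralizer ({x} : Set G)) := by
  by_cases hC : Subgroup.centralizer ({x} : Set G) ≤ M
  · exact Or.inl ⟨hC, supportR_eq_bot hC⟩
  · right
    obtain ⟨L, hL, hCL, huniq, hnc, hcompl, hnil, hτ2, -⟩ := exists_partner hG hM hx hx1 hC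
    refine ⟨hC, L, hL, hCL, hnc, hcompl, hτ2, ?_⟩
    rw [supportR_eq hC hL hCL huniq, sigmaCore_eq_fittingHallOf hG hL hnil]

/-- the primes of an element of `M_σ` are in `σ(M)` -/
theorem mem_sigma_of_dvd_orderOf (hG : IsMinSimpleOddOrder G) {M : Subgroup G} (hM : IsCoatom M)
    {x : G} (hx : x ∈ sigmaCore M) {p : ℕ} (hp : p.Prime) (hpx : p ∣ orderOf x) : p ∈ sigma M := by
  apply (sigmaCore_hall hG hM).1.2.1 p hp
  have h1 : orderOf (⟨x, hx⟩ : sigmaCore M) = orderOf x := Subgroup.orderOf_mk x hx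
  rw [← h1] at hpx
  exact hpx.trans (orderOf_dvd_natCard _)

/-- an element of `M` all of whose primes are in `σ(M)` is in `M_σ` -/
theorem mem_sigmaCore_of_orderOf (hG : IsMinSimpleOddOrder G) {M : Subgroup G} (hM : IsCoatom M)
    {x : G} (hxM : x ∈ M) (hx : ∀ p : ℕ, p.Prime → p ∣ orderOf x → p ∈ sigma M) :
    x ∈ sigmaCore M := by
  have h1 : Subgroup.zpowers x ≤ sigmaCore M := by
    apply le_sigmaCore_of_piNum hG hM (Subgroup.zpowers_le.mpr hxM)
    intro p hp hd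
    rw [Nat.card_zpowers] at hd
    exact hx p hp hd
  exact h1 (Subgroup.mem_zpowers x)

/-- `x` and `r ∈ R(x)` commute and have coprime orders -/
theorem supportR_commute_coprime (hG : IsMinSimpleOddOrder G) {M : Subgroup G} (hM : IsCoatom M)
    {x : G} (hx : x ∈ sigmaCore M) (hx1 : x ≠ 1) {r : G} (hr : r ∈ supportR M x) :
    x * r = r * x ∧ (orderOf x).Coprime (orderOf r) := by
  rcases supportR_cases hG hM hx hx1 with ⟨-, h⟩ | ⟨-, L, hL, -, -, -, hτ2, h⟩
  · rw [h, Subgroup.mem_bot] at hr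
    subst hr
    simp
  · rw [h] at hr
    refine ⟨Subgroup.mem_centralizer_iff.mp hr.2 x rfl, ?_⟩
    apply Nat.coprime_of_dvd
    intro p hp h1 h2
    exact (hτ2 p hp h1).2.1 (mem_sigma_of_dvd_orderOf hG hL hr.1 hp h2)

/-- commuting elements of coprime orders are powers of their product -/
theorem mem_zpowers_mul_of_coprime {x r : G} (hc : x * r = r * x)
    (hcop : (orderOf x).Coprime (orderOf r)) :
    x ∈ Subgroup.zpowers (x * r) ∧ r ∈ Subgroup.zpowers (x * r) := by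
  have hcomm : Commute x r := hc
  constructor
  · obtain ⟨m, hm⟩ := exists_pow_eq_self_of_coprime hcop.symm
    have h1 : (x * r) ^ orderOf r = x ^ orderOf r := by
      rw [hcomm.mul_pow, pow_orderOf_eq_one, mul_one]
    have h2 : ((x * r) ^ orderOf r) ^ m ∈ Subgroup.zpowers (x * r) :=
      Subgroup.pow_mem _ (Subgroup.pow_mem _ (Subgroup.mem_zpowers (x * r)) _) _
    rwa [h1, hm] at h2
  · obtain ⟨m, hm⟩ := exists_pow_eq_self_of_coprime hcop
    have h1 : (x * r) ^ orderOf x = r ^ orderOf x := by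
      rw [hcomm.mul_pow, pow_orderOf_eq_one, one_mul]
    have h2 : ((x * r) ^ orderOf x) ^ m ∈ Subgroup.zpowers (x * r) :=
      Subgroup.pow_mem _ (Subgroup.pow_mem _ (Subgroup.mem_zpowers (x * r)) _) _
    rwa [h1, hm] at h2

/-- elements of a cyclic subgroup commute -/
theorem commute_of_mem_zpowers {z a b : G} (ha : a ∈ Subgroup.zpowers z)
    (hb : b ∈ Subgroup.zpowers z) : a * b = b * a := by
  obtain ⟨i, rfl⟩ := Subgroup.mem_zpowers_iff.mp ha
  obtain ⟨j, rfl⟩ := Subgroup.mem_zpowers_iff.mp hb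
  rw [← zpow_add, ← zpow_add, add_comm]

/-- **B and G, Lemma 14.5**, asymmetric step: if `x r = y s` with `x ∈ M_σ#`, `r ∈ R(x)`,
`y ∈ N_σ#`, `s ∈ R(y)`, then the orders of `x` and `s` are coprime -/
theorem coprime_orderOf_of_mul_eq (hG : IsMinSimpleOddOrder G) {M N : Subgroup G} (hM : IsCoatom M)
    (hN : IsCoatom N) {x y : G} (hx : x ∈ sigmaCore M) (hy : y ∈ sigmaCore N) (hx1 : x ≠ 1)
    (hy1 : y ≠ 1) {r s : G} (hr : r ∈ supportR M x) (hs : s ∈ supportR N y)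
    (h : x * r = y * s) : (orderOf x).Coprime (orderOf s) := by
  apply Nat.coprime_of_dvd
  intro p hp hpx hps
  obtain ⟨hxr, hcxr⟩ := supportR_commute_coprime hG hM hx hx1 hr
  obtain ⟨hys, hcys⟩ := supportR_commute_coprime hG hN hy hy1 hs
  obtain ⟨hxz, hrz⟩ := mem_zpowers_mul_of_coprime hxr hcxr
  obtain ⟨hyz, hsz⟩ := mem_zpowers_mul_of_coprime hys hcys
  rw [← h] at hyz hsz
  have hxy : x * y = y * x := commute_of_mem_zpowers hxz hyz
  -- `s ≠ 1`, so `C_G(y) ≰ N`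
  rcases supportR_cases hG hN hy hy1 with ⟨-, h0⟩ | ⟨-, K, hK, hCK, hncK, hcomplK, hτ2K, hRK⟩
  · rw [h0, Subgroup.mem_bot] at hs
    rw [hs, orderOf_one] at hps
    exact hp.one_lt.ne' (Nat.dvd_one.mp hps)
  rw [hRK] at hs
  have hpK : p ∈ sigma K := mem_sigma_of_dvd_orderOf hG hK hs.1 hp hps
  have hpM : p ∈ sigma M := mem_sigma_of_dvd_orderOf hG hM hx hp hpx
  obtain ⟨g, hg⟩ := sigma_partition hG hM hK hpM hpK
  -- the primes of `y` do not divide `o(x)`
  have hyx : ∀ q : ℕ, q.Prime → q ∣ orderOf y → ¬ q ∣ orderOf x := by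
    intro q hq hqy hqx
    have h1 : q ∈ sigma K := by
      rw [hg, sigma_cj]
      exact mem_sigma_of_dvd_orderOf hG hM hx hq hqx
    exact (hτ2K q hq hqy).2.1 h1
  -- `x ∈ K_σ`
  have hxK : x ∈ K := hCK (by
    rw [Subgroup.mem_centralizer_iff]; rintro z rfl; exact hxy.symm)
  have hxg : x ∈ cj g M := hg ▸ hxK
  obtain ⟨c, hcC, hcg⟩ := exists_centralizer_cj hG hM hx hxg
  have hyK : y ∈ K := hCK (by
    rw [Subgroup.mem_centralizer_iff]; rintro z rfl; rfl)
  rcases supportR_cases hG hM hx hx1 with ⟨hCM, h0⟩ | ⟨-, L, hL, hCL, -, hcomplL, -, hRL⟩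
  · -- `C_G(x) ≤ M`: `K = M`, `r = 1`, `y ∈ ⟨x⟩ ≤ K_σ`
    have hKM : K = M := by
      rw [hg, hcg]
      exact cj_eq_self_of_mem (hCM hcC)
    rw [h0, Subgroup.mem_bot] at hr
    rw [hr, mul_one] at hyz
    have hyσ : y ∈ sigmaCore K := by
      rw [hKM]
      exact (Subgroup.zpowers_le.mpr hx) hyz
    have hord : orderOf y ≠ 1 := fun h => hy1 (orderOf_eq_one_iff.mp h)
    obtain ⟨q, hq, hqy⟩ := Nat.exists_prime_and_dvd hord
    exact (hτ2K q hq hqy).2.1 (mem_sigma_of_dvd_orderOf hG hK hyσ hq hqy)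
  · -- `C_G(x) ≰ M`: `y ∈ L_σ`, and `c⁻¹ y c ∈ M ∩ L_σ = 1`
    rw [hRL] at hr
    have hyL : y ∈ L := hCL (by
      rw [Subgroup.mem_centralizer_iff]; rintro z rfl; exact hxy)
    have hyLσ : y ∈ sigmaCore L := by
      apply mem_sigmaCore_of_orderOf hG hL hyL
      intro q hq hqy
      have h1 : q ∣ orderOf (x * r) := hqy.trans (orderOf_dvd_of_mem_zpowers hyz)
      have h2 : orderOf (x * r) ∣ orderOf x * orderOf r :=
        (Commute.orderOf_mul_dvd_lcm hxr).trans (Nat.lcm_dvd_mul _ _)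
      rcases (Nat.Prime.dvd_mul hq).mp (h1.trans h2) with h3 | h3
      · exact absurd h3 (hyx q hq hqy)
      · exact mem_sigma_of_dvd_orderOf hG hL hr.1 hq h3
    have hcL : c ∈ L := hCL hcC
    have h1 : c⁻¹ * y * c ∈ M := by
      have : y ∈ cj c M := by rw [← hcg, ← hg]; exact hyK
      exact mem_cj_iff.mp this
    have h2 : c⁻¹ * y * c ∈ sigmaCore L := by
      have := (Subgroup.mem_normalizer_iff.mp (le_normalizer_sigmaCore L (L.inv_mem hcL)) y).mp hyLσ
      simpa using this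
    have h3 : c⁻¹ * y * c ∈ (M ⊓ L) ⊓ sigmaCore L :=
      ⟨⟨h1, L.mul_mem (L.mul_mem (L.inv_mem hcL) hyL) hcL⟩, h2⟩
    rw [hcomplL.2.2.1, Subgroup.mem_bot] at h3
    apply hy1
    calc y = c * (c⁻¹ * y * c) * c⁻¹ := by group
      _ = 1 := by rw [h3]; group

/-- **B and G, Lemma 14.5**: the cosets `x R(x)` are pairwise disjoint -/
theorem eq_of_mul_supportR_eq (hG : IsMinSimpleOddOrder G) {M N : Subgroup G} (hM : IsCoatom M)
    (hN : IsCoatom N) {x y : G} (hx : x ∈ sigmaCore M) (hy : y ∈ sigmaCore N) (hx1 : x ≠ 1)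
    (hy1 : y ≠ 1) {r s : G} (hr : r ∈ supportR M x) (hs : s ∈ supportR N y)
    (h : x * r = y * s) : x = y := by
  obtain ⟨hxr, hcxr⟩ := supportR_commute_coprime hG hM hx hx1 hr
  obtain ⟨hys, hcys⟩ := supportR_commute_coprime hG hN hy hy1 hs
  obtain ⟨hxz, hrz⟩ := mem_zpowers_mul_of_coprime hxr hcxr
  obtain ⟨hyz, hsz⟩ := mem_zpowers_mul_of_coprime hys hcys
  rw [← h] at hyz hsz
  have hxs := coprime_orderOf_of_mul_eq hG hM hN hx hy hx1 hy1 hr hs h
  have hyr := coprime_orderOf_of_mul_eq hG hN hM hy hx hy1 hx1 hs hr h.symm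
  -- `w = y⁻¹ x = s r⁻¹`
  have hyx : Commute y⁻¹ x := by
    have : x * y = y * x := commute_of_mem_zpowers hxz hyz
    exact (Commute.inv_left (show Commute y x from this.symm))
  have hsr : Commute s r⁻¹ := by
    have : r * s = s * r := commute_of_mem_zpowers hrz hsz
    exact (Commute.inv_right (show Commute s r from this.symm))
  have hw : y⁻¹ * x = s * r⁻¹ := by
    calc y⁻¹ * x = y⁻¹ * (x * r) * r⁻¹ := by group
      _ = y⁻¹ * (y * s) * r⁻¹ := by rw [h]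
      _ = s * r⁻¹ := by group
  have h1 : (y⁻¹ * x) ^ (orderOf y * orderOf x) = 1 := by
    rw [hyx.mul_pow, pow_mul, inv_pow, pow_orderOf_eq_one, inv_one, one_pow, one_mul, mul_comm,
      pow_mul, pow_orderOf_eq_one, one_pow]
  have h2 : (y⁻¹ * x) ^ (orderOf s * orderOf r) = 1 := by
    rw [hw, hsr.mul_pow, pow_mul, pow_orderOf_eq_one, one_pow, one_mul, mul_comm, pow_mul, inv_pow,
      pow_orderOf_eq_one, inv_one, one_pow]
  have hcop : (orderOf y * orderOf x).Coprime (orderOf s * orderOf r) := by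
    apply Nat.Coprime.mul_left
    · exact Nat.Coprime.mul_right hcys hyr
    · exact Nat.Coprime.mul_right hxs hcxr
  have h3 : orderOf (y⁻¹ * x) = 1 := by
    have d1 := orderOf_dvd_of_pow_eq_one h1
    have d2 := orderOf_dvd_of_pow_eq_one h2
    exact Nat.eq_one_of_dvd_coprimes hcop d1 d2
  have h4 : y⁻¹ * x = 1 := orderOf_eq_one_iff.mp h3
  calc x = y * (y⁻¹ * x) := by group
    _ = y := by rw [h4, mul_one]

end Cfsg.Agent.Lib.Lead.BG14n
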