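import Mathlib
import Cfsg.Agent.Lib.Lead.BG14n4
import Cfsg.Agent.Lib.Helper4.BG14b

set_option autoImplicit false
set_option linter.style.haveILetI false
set_option linter.unusedSectionVars false

namespace Cfsg.Agent.Lib.Lead.BG14n

open Cfsg Cfsg.Agent.Lib.Lead Cfsg.Agent.Lib.Lead.BG10 Cfsg.Agent.Lib.Helper7 Cfsg.Agent.Lib.Helper4
open Cfsg.Agent.Lib.Helper4.BG76 Cfsg.Agent.Lib.Helper4.BG8 Cfsg.Agent.Lib.Helper4.BG9
open Cfsg.Agent.Lib.Helper4.BG7 Cfsg.Agent.Lib.Helper4.BG12 Cfsg.Agent.Lib.Helper4.BGConj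
open Cfsg.Agent.Lib.Helper4.BG13 Cfsg.Agent.Lib.Lead.BG95 Cfsg.Agent.Lib.Lead.BG12q
open Cfsg.Agent.Lib.Lead.BG11 Cfsg.Agent.Lib.Lead.BG13q Cfsg.Agent.Lib.Helper4.BG18
open Cfsg.Agent.Lib.Helper2.BG12 Cfsg.Agent.Lib.Helper6 Cfsg.Agent.Lib.Helper2.BG13x
open Cfsg.Agent.Lib.Helper2.BG14y Cfsg.Agent.Lib.Helper5.BG139
open scoped commutatorElement

universe u

variable {G : Type u} [Group G] [Finite G]

open Cfsg.Agent.Lib.Helper4.BG14

theorem centralizer_singleton_cj (t a : G) :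
    Subgroup.centralizer ({t * a * t⁻¹} : Set G) = cj t (Subgroup.centralizer ({a} : Set G)) := by
  ext z
  rw [mem_cj_iff, Subgroup.mem_centralizer_iff, Subgroup.mem_centralizer_iff]
  constructor
  · intro h y hy
    rw [Set.mem_singleton_iff] at hy
    subst hy
    have := h (t * y * t⁻¹) rfl
    calc y * (t⁻¹ * z * t) = t⁻¹ * ((t * y * t⁻¹) * z) * t := by group
      _ = t⁻¹ * (z * (t * y * t⁻¹)) * t := by rw [this]
      _ = _ := by group
  · intro h y hy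
    rw [Set.mem_singleton_iff] at hy
    subst hy
    have := h a rfl
    calc (t * a * t⁻¹) * z = t * (a * (t⁻¹ * z * t)) * t⁻¹ := by group
      _ = t * ((t⁻¹ * z * t) * a) * t⁻¹ := by rw [this]
      _ = _ := by group

theorem cj_le_cj_iff' (t : G) {A B : Subgroup G} : cj t A ≤ cj t B ↔ A ≤ B :=
  Subgroup.map_le_map_iff_of_injective (MulAut.conj t).injective

theorem cj_inf' (t : G) (A B : Subgroup G) : cj t (A ⊓ B) = cj t A ⊓ cj t B :=
  Subgroup.map_inf_eq A B _ (MulAut.conj t).injective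

theorem conj_mem_cj {t a : G} {A : Subgroup G} (ha : a ∈ A) : t * a * t⁻¹ ∈ cj t A := by
  rw [mem_cj_iff]
  have : t⁻¹ * (t * a * t⁻¹) * t = a := by group
  rw [this]; exact ha

/-- the two cases for `R(x)`, `x ∈ M_σ#`, with the uniqueness of the partner -/
theorem supportR_cases' (hG : IsMinSimpleOddOrder G) {M : Subgroup G} (hM : IsCoatom M) {x : G}
    (hx : x ∈ sigmaCore M) (hx1 : x ≠ 1) :
    (Subgroup.centralizer ({x} : Set G) ≤ M ∧ supportR M x = ⊥) ∨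
    (¬ Subgroup.centralizer ({x} : Set G) ≤ M ∧ ∃ L : Subgroup G, IsCoatom L ∧
      Subgroup.centralizer ({x} : Set G) ≤ L ∧
      (∀ L' : Subgroup G, IsCoatom L' → Subgroup.centralizer ({x} : Set G) ≤ L' → L' = L) ∧
      IsComplIn (M ⊓ L) (sigmaCore L) L ∧
      supportR M x = sigmaCore L ⊓ Subgroup.centralizer ({x} : Set G)) := by
  by_cases hC : Subgroup.centralizer ({x} : Set G) ≤ M
  · exact Or.inl ⟨hC, supportR_eq_bot hC⟩
  · right
    obtain ⟨L, hL, hCL, huniq, hnc, hcompl, hnil, hτ2, -⟩ := exists_partner hG hM hx hx1 hC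
    refine ⟨hC, L, hL, hCL, huniq, hcompl, ?_⟩
    rw [supportR_eq hC hL hCL huniq, sigmaCore_eq_fittingHallOf hG hL hnil]

/-- `R(x)` is compatible with conjugation -/
theorem supportR_cj (hG : IsMinSimpleOddOrder G) {M : Subgroup G} (hM : IsCoatom M) {a : G}
    (ha : a ∈ sigmaCore M) (ha1 : a ≠ 1) (t : G) :
    supportR (cj t M) (t * a * t⁻¹) = cj t (supportR M a) := by
  have ha' : t * a * t⁻¹ ∈ sigmaCore (cj t M) := by
    rw [sigmaCore_cj]; exact conj_mem_cj ha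
  have ha1' : t * a * t⁻¹ ≠ 1 := by
    intro h
    apply ha1
    calc a = t⁻¹ * (t * a * t⁻¹) * t := by group
      _ = 1 := by rw [h]; group
  rcases supportR_cases' hG hM ha ha1 with ⟨hC, h0⟩ | ⟨hC, L, hL, hCL, huniq, hcompl, hR⟩
  · rw [h0]
    have : cj t (⊥ : Subgroup G) = ⊥ := Subgroup.map_bot _
    rw [this]
    apply supportR_eq_bot
    rw [centralizer_singleton_cj]
    exact (cj_le_cj_iff' t).mpr hC
  · rcases supportR_cases' hG (isCoatom_cj hM t) ha' ha1' with ⟨hC', -⟩ | ⟨-, L', hL', hCL', huniq', -, hR'⟩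
    · exfalso
      rw [centralizer_singleton_cj] at hC'
      exact hC ((cj_le_cj_iff' t).mp hC')
    · have hLL : cj t L = L' := by
        apply huniq' _ (isCoatom_cj hL t)
        rw [centralizer_singleton_cj]
        exact (cj_le_cj_iff' t).mpr hCL
      rw [hR', hR, ← hLL, sigmaCore_cj, centralizer_singleton_cj, cj_inf']

/-- `R(x)` acts regularly on the conjugates of `M` containing `x` -/
theorem supportR_regular (hG : IsMinSimpleOddOrder G) {M : Subgroup G} (hM : IsCoatom M) {x : G}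
    (hx : x ∈ sigmaCore M) (hx1 : x ≠ 1) {g : G} (hg : x ∈ cj g M) :
    ∃! r : G, r ∈ supportR M x ∧ cj r M = cj g M := by
  rcases supportR_cases' hG hM hx hx1 with ⟨hC, h0⟩ | ⟨hC, L, hL, hCL, huniq, hcompl, hR⟩
  · obtain ⟨c, hcC, hcg⟩ := exists_centralizer_cj hG hM hx hg
    have h1 : cj g M = M := hcg.trans (cj_eq_self_of_mem (hC hcC))
    refine ⟨1, ⟨Subgroup.one_mem _, ?_⟩, ?_⟩
    · rw [h1]
      exact cj_eq_self_of_mem M.one_mem
    · rintro r ⟨hr, -⟩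
      rw [h0] at hr
      exact Subgroup.mem_bot.mp hr
  · rw [hR]
    exact (partner_props hG hM hx hx1 hL hCL hcompl).2.2.2 g hg

/-- `C_G(x)` normalizes `R(x)` -/
theorem centralizer_le_normalizer_supportR (hG : IsMinSimpleOddOrder G) {M : Subgroup G}
    (hM : IsCoatom M) {x : G} (hx : x ∈ sigmaCore M) (hx1 : x ≠ 1) :
    Subgroup.centralizer ({x} : Set G) ≤ Subgroup.normalizer ((supportR M x : Subgroup G) : Set G) := by
  rcases supportR_cases' hG hM hx hx1 with ⟨hC, h0⟩ | ⟨hC, L, hL, hCL, huniq, hcompl, hR⟩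
  · rw [h0]
    intro c _
    rw [Cfsg.Agent.Lib.Helper7.mem_normalizer_iff_cj]
    exact Subgroup.map_bot _
  · rw [hR]
    exact (partner_props hG hM hx hx1 hL hCL hcompl).1

/-- `R(x)` is the same for all conjugates of `M` containing `x ∈ M_σ#` -/
theorem supportR_eq_of_mem (hG : IsMinSimpleOddOrder G) {M : Subgroup G} (hM : IsCoatom M) {x : G}
    (hx : x ∈ sigmaCore M) (hx1 : x ≠ 1) {g : G} (hg : x ∈ cj g M) :
    supportR (cj g M) x = supportR M x := by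
  obtain ⟨c, hcC, hcg⟩ := exists_centralizer_cj hG hM hx hg
  have h1 : c * x * c⁻¹ = x := by
    have := Subgroup.mem_centralizer_iff.mp hcC x rfl
    calc c * x * c⁻¹ = (x * c) * c⁻¹ := by rw [this]
      _ = x := by group
  have h2 := supportR_cj hG hM hx hx1 c
  rw [h1] at h2
  rw [hcg, h2]
  exact Cfsg.Agent.Lib.Helper7.mem_normalizer_iff_cj.mp
    (centralizer_le_normalizer_supportR hG hM hx hx1 hcC)

/-- a conjugating element `g` with `z ∈ (gMg⁻¹)_σ`, if there is one -/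
noncomputable def baseElt (M : Subgroup G) (z : G) : G :=
  open Classical in
  if h : ∃ g : G, z ∈ sigmaCore (cj g M) then Classical.choose h else 1

theorem baseElt_spec {M : Subgroup G} {z : G} (h : ∃ g : G, z ∈ sigmaCore (cj g M)) :
    z ∈ sigmaCore (cj (baseElt M z) M) := by
  unfold baseElt
  rw [dif_pos h]
  exact Classical.choose_spec h

/-- the element of `R(z)` moving the base conjugate of `M` to `tMt⁻¹` -/
noncomputable def rhoElt (M : Subgroup G) (z t : G) : G :=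
  open Classical in
  if h : ∃ r : G, r ∈ supportR (cj (baseElt M z) M) z ∧
      cj r (cj (baseElt M z) M) = cj t M then Classical.choose h else 1

theorem rhoElt_spec (hG : IsMinSimpleOddOrder G) {M : Subgroup G} (hM : IsCoatom M) {z t : G}
    (h : ∃ g : G, z ∈ sigmaCore (cj g M)) (hz1 : z ≠ 1) (hzt : z ∈ cj t M) :
    rhoElt M z t ∈ supportR (cj (baseElt M z) M) z ∧
      cj (rhoElt M z t) (cj (baseElt M z) M) = cj t M ∧
      ∀ r : G, r ∈ supportR (cj (baseElt M z) M) z → cj r (cj (baseElt M z) M) = cj t M →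
        r = rhoElt M z t := by
  have hzb := baseElt_spec h
  have e : cj (t * (baseElt M z)⁻¹) (cj (baseElt M z) M) = cj t M := by
    rw [← cj_mul]
    congr 1
    group
  have hreg := supportR_regular hG (isCoatom_cj hM (baseElt M z)) hzb hz1
    (g := t * (baseElt M z)⁻¹) (by rw [e]; exact hzt)
  rw [e] at hreg
  have h' : ∃ r : G, r ∈ supportR (cj (baseElt M z) M) z ∧
      cj r (cj (baseElt M z) M) = cj t M := hreg.exists
  have hspec : rhoElt M z t ∈ supportR (cj (baseElt M z) M) z ∧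
      cj (rhoElt M z t) (cj (baseElt M z) M) = cj t M := by
    unfold rhoElt
    rw [dif_pos h']
    exact Classical.choose_spec h'
  exact ⟨hspec.1, hspec.2, fun r hr1 hr2 => hreg.unique ⟨hr1, hr2⟩ hspec⟩

/-- the parametrisation of `M̃_σ#` -/
noncomputable def tildeMap (M : Subgroup G) (p : (G ⧸ M) × ↥((sigmaCore M : Set G) \ {1})) : G :=
  (p.1.out * (p.2 : G) * p.1.out⁻¹) * rhoElt M (p.1.out * (p.2 : G) * p.1.out⁻¹) p.1.out

theorem conj_ne_one {t a : G} (ha : a ≠ 1) : t * a * t⁻¹ ≠ 1 := by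
  intro h
  apply ha
  calc a = t⁻¹ * (t * a * t⁻¹) * t := by group
    _ = 1 := by rw [h]; group

theorem tildeMap_mem (hG : IsMinSimpleOddOrder G) {M : Subgroup G} (hM : IsCoatom M)
    (p : (G ⧸ M) × ↥((sigmaCore M : Set G) \ {1})) :
    tildeMap M p ∈ tildeOf M ((sigmaCore M : Set G) \ {1}) := by
  obtain ⟨q, ⟨a, ha, ha1⟩⟩ := p
  have ha1' : a ≠ 1 := ha1
  have ha' : a ∈ sigmaCore M := ha
  set t := q.out with ht
  have hzσ : t * a * t⁻¹ ∈ sigmaCore (cj t M) := by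
    rw [sigmaCore_cj]; exact conj_mem_cj ha'
  have hex : ∃ g : G, t * a * t⁻¹ ∈ sigmaCore (cj g M) := ⟨t, hzσ⟩
  have hz1 := conj_ne_one (t := t) ha1'
  obtain ⟨h1, h2, -⟩ := rhoElt_spec hG hM hex hz1 (sigmaCore_le _ hzσ)
  -- `ρ ∈ R_{tMt⁻¹}(t a t⁻¹) = t R_M(a) t⁻¹`
  have hzb := baseElt_spec hex
  have e : cj (t * (baseElt M (t * a * t⁻¹))⁻¹) (cj (baseElt M (t * a * t⁻¹)) M) = cj t M := by
    rw [← cj_mul]
    congr 1
    group
  have h3 := supportR_eq_of_mem hG (isCoatom_cj hM (baseElt M (t * a * t⁻¹))) hzb hz1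
    (g := t * (baseElt M (t * a * t⁻¹))⁻¹) (by rw [e]; exact sigmaCore_le _ hzσ)
  rw [e, supportR_cj hG hM ha' ha1' t] at h3
  rw [← h3, mem_cj_iff] at h1
  refine ⟨a, ⟨ha', ha1⟩, _, h1, t, ?_⟩
  show t * a * t⁻¹ * rhoElt M (t * a * t⁻¹) t = _
  group

theorem tildeMap_injective (hG : IsMinSimpleOddOrder G) {M : Subgroup G} (hM : IsCoatom M) :
    Function.Injective (tildeMap M) := by
  rintro ⟨q, ⟨a, ha, ha1⟩⟩ ⟨q', ⟨a', ha', ha1'⟩⟩ heq
  have hane : a ≠ 1 := ha1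
  have hane' : a' ≠ 1 := ha1'
  have haσ : a ∈ sigmaCore M := ha
  have haσ' : a' ∈ sigmaCore M := ha'
  have hM1 : M ≠ ⊥ := by
    rintro rfl
    have : sigmaCore (⊥ : Subgroup G) ≤ ⊥ := sigmaCore_le _
    exact hane (Subgroup.mem_bot.mp (this haσ))
  have hNM : Subgroup.normalizer (M : Set G) = M :=
    normalizer_eq_of_isCoatom hG hM hM1 le_rfl Subgroup.le_normalizer
  have hzσ : q.out * a * q.out⁻¹ ∈ sigmaCore (cj q.out M) := by
    rw [sigmaCore_cj]; exact conj_mem_cj haσ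
  have hzσ' : q'.out * a' * q'.out⁻¹ ∈ sigmaCore (cj q'.out M) := by
    rw [sigmaCore_cj]; exact conj_mem_cj haσ'
  have hex : ∃ g : G, q.out * a * q.out⁻¹ ∈ sigmaCore (cj g M) := ⟨_, hzσ⟩
  have hex' : ∃ g : G, q'.out * a' * q'.out⁻¹ ∈ sigmaCore (cj g M) := ⟨_, hzσ'⟩
  have hz1 := conj_ne_one (t := q.out) hane
  have hz1' := conj_ne_one (t := q'.out) hane'
  obtain ⟨h1, h2, -⟩ := rhoElt_spec hG hM hex hz1 (sigmaCore_le _ hzσ)
  obtain ⟨h1', h2', -⟩ := rhoElt_spec hG hM hex' hz1' (sigmaCore_le _ hzσ')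
  have heq' : q.out * a * q.out⁻¹ * rhoElt M (q.out * a * q.out⁻¹) q.out =
      q'.out * a' * q'.out⁻¹ * rhoElt M (q'.out * a' * q'.out⁻¹) q'.out := heq
  have hzz := eq_of_mul_supportR_eq hG (isCoatom_cj hM _) (isCoatom_cj hM _)
    (baseElt_spec hex) (baseElt_spec hex') hz1 hz1' h1 h1' heq'
  rw [← hzz] at heq' h2'
  have hρ : rhoElt M (q.out * a * q.out⁻¹) q.out = rhoElt M (q.out * a * q.out⁻¹) q'.out :=
    mul_left_cancel heq'
  rw [← hρ, h2] at h2'
  -- `q.out⁻¹ q'.out ∈ N_G(M) = M`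
  have h3 : cj (q.out⁻¹ * q'.out) M = M := by
    rw [cj_mul, ← h2', ← cj_mul, inv_mul_cancel]
    exact cj_eq_self_of_mem M.one_mem
  have h4 : q.out⁻¹ * q'.out ∈ M :=
    hNM.le (Cfsg.Agent.Lib.Helper7.mem_normalizer_iff_cj.mpr h3)
  have hqq : q = q' := by
    have := (QuotientGroup.eq (s := M)).mpr h4
    rwa [QuotientGroup.out_eq', QuotientGroup.out_eq'] at this
  subst hqq
  have haa : a = a' := by
    calc a = q.out⁻¹ * (q.out * a * q.out⁻¹) * q.out := by group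
      _ = q.out⁻¹ * (q.out * a' * q.out⁻¹) * q.out := by rw [hzz]
      _ = a' := by group
  subst haa
  rfl

theorem tildeMap_surj (hG : IsMinSimpleOddOrder G) {M : Subgroup G} (hM : IsCoatom M) {z : G}
    (hz : z ∈ tildeOf M ((sigmaCore M : Set G) \ {1})) : ∃ p, tildeMap M p = z := by
  obtain ⟨a, ⟨ha, ha1⟩, r, hr, y, rfl⟩ := hz
  have hane : a ≠ 1 := ha1
  have haσ : a ∈ sigmaCore M := ha
  have hx'σ : y * a * y⁻¹ ∈ sigmaCore (cj y M) := by
    rw [sigmaCore_cj]; exact conj_mem_cj haσ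
  have hex : ∃ g : G, y * a * y⁻¹ ∈ sigmaCore (cj g M) := ⟨_, hx'σ⟩
  have hz1 := conj_ne_one (t := y) hane
  have hzb := baseElt_spec hex
  obtain ⟨x', hx'⟩ : ∃ x' : G, x' = y * a * y⁻¹ := ⟨_, rfl⟩
  obtain ⟨ρ₀, hρ₀⟩ : ∃ ρ₀ : G, ρ₀ = y * r * y⁻¹ := ⟨_, rfl⟩
  have hzeq : y * (a * r) * y⁻¹ = x' * ρ₀ := by rw [hx', hρ₀]; group
  rw [hzeq]
  have hρy : ρ₀ ∈ supportR (cj y M) x' := by
    rw [hx', hρ₀, supportR_cj hG hM haσ hane y]
    exact conj_mem_cj hr
  rw [← hx'] at hx'σ hex hz1 hzb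
  obtain ⟨b, hb⟩ : ∃ b : G, b = baseElt M x' := ⟨_, rfl⟩
  rw [← hb] at hzb
  have e : cj (y * b⁻¹) (cj b M) = cj y M := by
    rw [← cj_mul]
    congr 1
    group
  have h3 := supportR_eq_of_mem hG (isCoatom_cj hM b) hzb hz1
    (g := y * b⁻¹) (by rw [e]; exact sigmaCore_le _ hx'σ)
  rw [e] at h3
  rw [h3] at hρy
  have hcomm := (supportR_commute_coprime hG (isCoatom_cj hM b) hzb hz1 hρy).1
  -- the coset of `ρ₀ b`
  obtain ⟨q, hq⟩ : ∃ q : G ⧸ M, q = ((ρ₀ * b : G) : G ⧸ M) := ⟨_, rfl⟩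
  have hout : q.out⁻¹ * (ρ₀ * b) ∈ M := by
    apply (QuotientGroup.eq (s := M)).mp
    rw [QuotientGroup.out_eq', hq]
  have hct : cj q.out M = cj ρ₀ (cj b M) := by
    rw [← cj_mul]
    have : ρ₀ * b = q.out * (q.out⁻¹ * (ρ₀ * b)) := by group
    rw [this, cj_mul, cj_eq_self_of_mem hout]
  have hx't : x' ∈ sigmaCore (cj q.out M) := by
    rw [hct, sigmaCore_cj]
    have : x' = ρ₀ * x' * ρ₀⁻¹ := by
      calc x' = x' * ρ₀ * ρ₀⁻¹ := by group
        _ = ρ₀ * x' * ρ₀⁻¹ := by rw [hcomm]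
    rw [this]
    exact conj_mem_cj hzb
  have ha'σ : q.out⁻¹ * x' * q.out ∈ sigmaCore M := by
    rw [sigmaCore_cj] at hx't
    exact mem_cj_iff.mp hx't
  have ha'1 : q.out⁻¹ * x' * q.out ≠ 1 := by
    have := conj_ne_one (t := q.out⁻¹) hz1
    simpa using this
  refine ⟨(q, ⟨q.out⁻¹ * x' * q.out, ha'σ, ha'1⟩), ?_⟩
  show q.out * (q.out⁻¹ * x' * q.out) * q.out⁻¹ *
    rhoElt M (q.out * (q.out⁻¹ * x' * q.out) * q.out⁻¹) q.out = x' * ρ₀
  have e2 : q.out * (q.out⁻¹ * x' * q.out) * q.out⁻¹ = x' := by group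
  rw [e2]
  obtain ⟨-, -, huniq⟩ := rhoElt_spec hG hM hex hz1 (sigmaCore_le _ hx't)
  rw [← hb] at huniq
  rw [← huniq ρ₀ hρy hct.symm]

/-- **B and G, Lemma 14.5/14.6 (counting)**: `|M̃_σ#| = (|M_σ| - 1) |G : M|` -/
theorem ncard_tildeOf (hG : IsMinSimpleOddOrder G) {M : Subgroup G} (hM : IsCoatom M) :
    Set.ncard (tildeOf M ((sigmaCore M : Set G) \ {1})) =
      (Nat.card (sigmaCore M) - 1) * M.index := by
  have hrange : tildeOf M ((sigmaCore M : Set G) \ {1}) = Set.range (tildeMap M) := by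
    ext z
    constructor
    · intro hz
      exact tildeMap_surj hG hM hz
    · rintro ⟨p, rfl⟩
      exact tildeMap_mem hG hM p
  rw [hrange, ← Nat.card_coe_set_eq, Nat.card_range_of_injective (tildeMap_injective hG hM),
    Nat.card_prod, Nat.card_coe_set_eq, Set.ncard_sdiff_singleton_of_mem (Subgroup.one_mem _),
    mul_comm]
  rfl

end Cfsg.Agent.Lib.Lead.BG14n
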