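import Mathlib
import Cfsg.Prelude.Def_PLocal
import Cfsg.Prelude.Def_Transfer
import Cfsg.Agent.Lib.Lead.HallTools

set_option autoImplicit false

universe u

namespace Cfsg.Agent.Lib.Lead.Holo

open scoped commutatorElement
open Cfsg.Agent.Lib.Lead

section holo
variable {G : Type u} [Group G] (V : Subgroup G) [V.Normal]

/-- the holomorph of the normal subgroup `V` -/
abbrev Hol : Type u := ↥V ⋊[MonoidHom.id (MulAut ↥V)] MulAut ↥V

/-- the natural map of `G` into the holomorph of `V` (conjugation action) -/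
def psi : G →* Hol V := SemidirectProduct.inr.comp MulAut.conjNormal

/-- the copy of `V` inside its holomorph -/
def VH : Subgroup (Hol V) := (SemidirectProduct.inl : ↥V →* Hol V).range

theorem psi_apply (g : G) : psi V g = SemidirectProduct.inr (MulAut.conjNormal g) := rfl

theorem psi_eq_one_iff (g : G) : psi V g = 1 ↔ g ∈ Subgroup.centralizer (V : Set G) := by
  rw [psi_apply, ← map_one (SemidirectProduct.inr : MulAut ↥V →* Hol V),
    SemidirectProduct.inr_inj]
  constructor
  · intro h
    rw [Subgroup.mem_centralizer_iff]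
    intro v hv
    have h1 := congrArg (fun f : MulAut ↥V => ((f ⟨v, hv⟩ : ↥V) : G)) h
    simp only [MulAut.conjNormal_apply, MulAut.one_apply] at h1
    calc v * g = g * v * g⁻¹ * g := by rw [h1]
      _ = g * v := by group
  · intro h
    apply MulEquiv.ext
    intro v
    apply Subtype.ext
    rw [MulAut.conjNormal_apply, MulAut.one_apply]
    have := Subgroup.mem_centralizer_iff.mp h v v.2
    rw [← this]; group

theorem ker_psi : (psi V).ker = Subgroup.centralizer (V : Set G) := by
  ext g
  rw [MonoidHom.mem_ker, psi_eq_one_iff]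

instance VH_normal : (VH V).Normal := by
  unfold VH
  rw [SemidirectProduct.range_inl_eq_ker_rightHom]
  infer_instance

theorem le_normalizer_VH (X : Subgroup (Hol V)) : X ≤ Subgroup.normalizer ((VH V : Subgroup (Hol V)) : Set (Hol V)) := by
  rw [Subgroup.normalizer_eq_top]
  exact le_top

theorem mem_VH_iff (γ : Hol V) : γ ∈ VH V ↔ ∃ v : ↥V, SemidirectProduct.inl v = γ := Iff.rfl

theorem VH_isEA {p : ℕ} (hV : Cfsg.IsElementaryAbelian p V) : Cfsg.IsElementaryAbelian p (VH V) := by
  constructor
  · refine ⟨⟨fun a b => ?_⟩⟩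
    obtain ⟨a, v, rfl⟩ := a
    obtain ⟨b, w, rfl⟩ := b
    apply Subtype.ext
    show SemidirectProduct.inl v * SemidirectProduct.inl w =
      SemidirectProduct.inl w * SemidirectProduct.inl v
    rw [← map_mul, ← map_mul, hV.1.is_comm.comm v w]
  · rintro _ ⟨v, rfl⟩
    rw [← map_pow]
    have : v ^ p = 1 := by
      apply Subtype.ext
      simpa using hV.2 v v.2
    rw [this, map_one]

/-- commutation of `ψ g` with `inl v` -/
theorem psi_mul_inl_comm_iff (g : G) (v : ↥V) :
    psi V g * SemidirectProduct.inl v = SemidirectProduct.inl v * psi V g ↔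
      g * (v : G) = (v : G) * g := by
  have h1 : psi V g * SemidirectProduct.inl v * (psi V g)⁻¹ =
      SemidirectProduct.inl (MulAut.conjNormal g v) := by
    rw [psi_apply, ← map_inv]
    exact (SemidirectProduct.inl_aut (φ := MonoidHom.id (MulAut ↥V)) (MulAut.conjNormal g) v).symm
  constructor
  · intro h
    have h2 : psi V g * SemidirectProduct.inl v * (psi V g)⁻¹ = SemidirectProduct.inl v := by
      rw [h]; group
    rw [h1, SemidirectProduct.inl_inj] at h2
    have h3 := congrArg Subtype.val h2
    rw [MulAut.conjNormal_apply] at h3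
    calc g * (v : G) = g * v * g⁻¹ * g := by group
      _ = v * g := by rw [h3]
  · intro h
    have h2 : MulAut.conjNormal g v = v := by
      apply Subtype.ext
      rw [MulAut.conjNormal_apply, h]; group
    rw [h2] at h1
    calc psi V g * SemidirectProduct.inl v
        = psi V g * SemidirectProduct.inl v * (psi V g)⁻¹ * psi V g := by group
      _ = SemidirectProduct.inl v * psi V g := by rw [h1]

theorem range_psi_inf_centralizer :
    (psi V).range ⊓ Subgroup.centralizer ((VH V : Subgroup (Hol V)) : Set (Hol V)) = ⊥ := by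
  rw [eq_bot_iff]
  rintro _ ⟨⟨g, rfl⟩, hc⟩
  rw [Subgroup.mem_bot, psi_eq_one_iff, Subgroup.mem_centralizer_iff]
  intro v hv
  have h1 := Subgroup.mem_centralizer_iff.mp hc (SemidirectProduct.inl ⟨v, hv⟩) ⟨⟨v, hv⟩, rfl⟩
  exact ((psi_mul_inl_comm_iff V g ⟨v, hv⟩).mp h1.symm).symm

theorem VH_inf_centralizer_map (B : Subgroup G) :
    VH V ⊓ Subgroup.centralizer (((B.map (psi V) : Subgroup (Hol V))) : Set (Hol V)) =
      ((V ⊓ Subgroup.centralizer (B : Set G)).subgroupOf V).map SemidirectProduct.inl := by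
  ext γ
  constructor
  · rintro ⟨⟨v, rfl⟩, hc⟩
    refine ⟨v, ?_, rfl⟩
    rw [SetLike.mem_coe, Subgroup.mem_subgroupOf]
    refine ⟨v.2, ?_⟩
    show (v : G) ∈ Subgroup.centralizer (B : Set G)
    rw [Subgroup.mem_centralizer_iff]
    intro b hb
    have h1 := Subgroup.mem_centralizer_iff.mp hc (psi V b) ⟨b, hb, rfl⟩
    exact (psi_mul_inl_comm_iff V b v).mp h1
  · rintro ⟨v, hv, rfl⟩
    rw [SetLike.mem_coe, Subgroup.mem_subgroupOf] at hv
    refine ⟨⟨v, rfl⟩, ?_⟩
    show SemidirectProduct.inl v ∈ Subgroup.centralizer (((B.map (psi V) : Subgroup (Hol V))) : Set (Hol V))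
    rw [Subgroup.mem_centralizer_iff]
    rintro _ ⟨b, hb, rfl⟩
    have h1 := Subgroup.mem_centralizer_iff.mp hv.2 b hb
    exact (psi_mul_inl_comm_iff V b v).mpr h1

theorem card_fix (B : Subgroup G) :
    Nat.card ↥(VH V ⊓ Subgroup.centralizer (((B.map (psi V) : Subgroup (Hol V))) : Set (Hol V))) =
      Nat.card ↥(V ⊓ Subgroup.centralizer (B : Set G)) := by
  rw [VH_inf_centralizer_map, Subgroup.card_map_of_injective SemidirectProduct.inl_injective,
    card_subgroupOf_of_le inf_le_left]

end holo

end Cfsg.Agent.Lib.Lead.Holo
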