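import Mathlib
import Cfsg.Agent.Lib.Lead.Holo1

set_option autoImplicit false

universe u

namespace Cfsg.Agent.Lib.Lead.Holo

open scoped commutatorElement
open Cfsg.Agent.Lib.Lead

section transfer
variable {G : Type u} [Group G] [Finite G] (V : Subgroup G) [V.Normal]

/-- best offenders on `V` map to best offenders on the copy of `V` in the holomorph -/
theorem bestOffender_map {p : ℕ} {A : Subgroup G} (hA : Cfsg.IsBestOffenderOn p V A) :
    Cfsg.IsBestOffenderOn p (VH V) (A.map (psi V)) := by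
  obtain ⟨h1, h2, h3⟩ := hA
  refine ⟨?_, ?_, ?_⟩
  · intro B' hB'
    set B : Subgroup G := A ⊓ B'.comap (psi V) with hB
    have hBA : B ≤ A := inf_le_left
    have hBB' : B.map (psi V) = B' := by
      apply le_antisymm
      · rintro _ ⟨b, hb, rfl⟩
        exact hb.2
      · intro b' hb'
        obtain ⟨a, ha, rfl⟩ := hB' hb'
        exact ⟨a, ⟨ha, hb'⟩, rfl⟩
    have hker : B ⊓ (psi V).ker = A ⊓ (psi V).ker := by
      apply le_antisymm (inf_le_inf_right _ hBA)
      rintro x ⟨hxA, hxk⟩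
      refine ⟨⟨hxA, ?_⟩, hxk⟩
      show psi V x ∈ B'
      rw [MonoidHom.mem_ker.mp hxk]
      exact B'.one_mem
    have e1 := card_map_mul_card_inf_ker (psi V) B
    have e2 := card_map_mul_card_inf_ker (psi V) A
    rw [hker, hBB'] at e1
    have hk : 0 < Nat.card ↥(A ⊓ (psi V).ker : Subgroup G) := Nat.card_pos
    have h4 := h1 B hBA
    rw [← e1, ← e2, ← card_fix V B, ← card_fix V A, hBB'] at h4
    have h5 : Nat.card ↥(A ⊓ (psi V).ker : Subgroup G) * (Nat.card B' *
        Nat.card ↥(VH V ⊓ Subgroup.centralizer ((B' : Subgroup (Hol V)) : Set (Hol V)))) ≤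
        Nat.card ↥(A ⊓ (psi V).ker : Subgroup G) * (Nat.card ↥(A.map (psi V)) *
        Nat.card ↥(VH V ⊓ Subgroup.centralizer (((A.map (psi V) : Subgroup (Hol V))) : Set (Hol V)))) := by
      calc _ = Nat.card B' * Nat.card ↥(A ⊓ (psi V).ker : Subgroup G) *
            Nat.card ↥(VH V ⊓ Subgroup.centralizer ((B' : Subgroup (Hol V)) : Set (Hol V))) := by ring
        _ ≤ _ := h4
        _ = _ := by ring
    exact Nat.le_of_mul_le_mul_left h5 hk
  · rw [← Subgroup.map_commutator]
    have : (⁅A, A⁆).map (psi V) = ⊥ := by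
      rw [eq_bot_iff]
      rintro _ ⟨x, hx, rfl⟩
      rw [Subgroup.mem_bot, psi_eq_one_iff]
      exact h2 hx
    rw [this]
    exact bot_le
  · rintro _ ⟨a, ha, rfl⟩
    rw [← map_pow, (psi_eq_one_iff V (a ^ p)).mpr (h3 a ha)]
    exact Subgroup.one_mem _

/-- pulling back a subgroup of `ψ(J)` -/
theorem comap_le_sup {J : Subgroup G} {E' : Subgroup (Hol V)} (hE' : E' ≤ J.map (psi V)) :
    E'.comap (psi V) ≤ J ⊔ Subgroup.centralizer (V : Set G) := by
  intro g hg
  obtain ⟨j, hj, hjg⟩ := hE' hg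
  have h1 : j⁻¹ * g ∈ Subgroup.centralizer (V : Set G) := by
    rw [← psi_eq_one_iff, map_mul, map_inv, hjg, inv_mul_cancel]
  have : g = j * (j⁻¹ * g) := by group
  rw [this]
  exact Subgroup.mul_mem _ (le_sup_left (a := J) hj) (le_sup_right (a := J) h1)

theorem centralizer_le_comap (E' : Subgroup (Hol V)) :
    Subgroup.centralizer (V : Set G) ≤ E'.comap (psi V) := by
  intro g hg
  rw [Subgroup.mem_comap, (psi_eq_one_iff V g).mpr hg]
  exact E'.one_mem

theorem map_comap_eq {J : Subgroup G} {E' : Subgroup (Hol V)} (hE' : E' ≤ J.map (psi V)) :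
    (E'.comap (psi V)).map (psi V) = E' := by
  apply le_antisymm
  · rintro _ ⟨g, hg, rfl⟩
    exact hg
  · intro e he
    obtain ⟨j, -, rfl⟩ := hE' he
    exact ⟨j, he, rfl⟩

/-- the quotient of the pullback by `C_G(V)` is the subgroup `E'` -/
theorem quotient_iso {J : Subgroup G} {E' : Subgroup (Hol V)} (hE' : E' ≤ J.map (psi V)) :
    ∃ _ : ((Subgroup.centralizer (V : Set G)).subgroupOf (E'.comap (psi V))).Normal,
      Nonempty ((↥(E'.comap (psi V)) ⧸
        (Subgroup.centralizer (V : Set G)).subgroupOf (E'.comap (psi V))) ≃* ↥E') := by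
  haveI hn : ((Subgroup.centralizer (V : Set G)).subgroupOf (E'.comap (psi V))).Normal := by
    haveI : (Subgroup.centralizer (V : Set G)).Normal := Subgroup.normal_centralizer
    infer_instance
  refine ⟨hn, ?_⟩
  let f : ↥(E'.comap (psi V)) →* ↥E' :=
    ((psi V).comp (E'.comap (psi V)).subtype).codRestrict E' (fun g => g.2)
  have hsurj : Function.Surjective f := by
    rintro ⟨e, he⟩
    obtain ⟨j, -, rfl⟩ := hE' he
    exact ⟨⟨j, he⟩, rfl⟩
  have hker : f.ker = (Subgroup.centralizer (V : Set G)).subgroupOf (E'.comap (psi V)) := by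
    ext g
    rw [MonoidHom.mem_ker, Subgroup.mem_subgroupOf, ← psi_eq_one_iff]
    constructor
    · intro h
      exact congrArg Subtype.val h
    · intro h
      exact Subtype.ext h
  exact ⟨(QuotientGroup.quotientMulEquivOfEq hker).symm.trans
    (QuotientGroup.quotientKerEquivOfSurjective f hsurj)⟩

theorem le_normalizer_comap {X : Subgroup G} {E' : Subgroup (Hol V)}
    (h : X.map (psi V) ≤ Subgroup.normalizer ((E' : Subgroup (Hol V)) : Set (Hol V))) :
    X ≤ Subgroup.normalizer ((E'.comap (psi V) : Subgroup G) : Set G) := by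
  intro x hx
  rw [Subgroup.mem_normalizer_iff]
  intro g
  rw [Subgroup.mem_comap, Subgroup.mem_comap, map_mul, map_mul, map_inv]
  exact Subgroup.mem_normalizer_iff.mp (h ⟨x, hx, rfl⟩) (psi V g)

end transfer

end Cfsg.Agent.Lib.Lead.Holo
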