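import Mathlib
import Cfsg.Prelude.Def_PLocal
import Cfsg.Agent.Lib.Lead.ZJFun
import Cfsg.Agent.Lib.Lead.ZJ6

set_option autoImplicit false

/-!
Stellmacher's characteristic subgroup `W(S)`: transport along isomorphisms, and the family
whose intersection it is.
-/

namespace Cfsg.Agent.Lib.Lead

namespace WS

open scoped commutatorElement

universe u

section Maps

variable {S H : Type*} [Group S] [Group H] {p : ℕ}

theorem omegaOne_map_inj (τ : S →* H) (hτ : Function.Injective τ) (K : Subgroup S) :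
    (Cfsg.omegaOne p K).map τ = Cfsg.omegaOne p (K.map τ) := by
  unfold Cfsg.omegaOne
  rw [MonoidHom.map_closure]
  congr 1
  ext y
  constructor
  · rintro ⟨x, ⟨hxK, hxp⟩, rfl⟩
    refine ⟨⟨x, hxK, rfl⟩, ?_⟩
    rw [← map_pow, hxp, map_one]
  · rintro ⟨⟨x, hxK, rfl⟩, hxp⟩
    refine ⟨x, ⟨hxK, ?_⟩, rfl⟩
    apply hτ
    rw [map_pow, map_one]
    exact hxp

theorem map_inf_centralizer_inj (τ : S →* H) (hτ : Function.Injective τ) (K : Subgroup S) :
    (K ⊓ Subgroup.centralizer (K : Set S)).map τ =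
      K.map τ ⊓ Subgroup.centralizer ((K.map τ : Subgroup H) : Set H) := by
  ext y
  constructor
  · rintro ⟨x, hx, rfl⟩
    obtain ⟨hx1, hx2⟩ := Subgroup.mem_inf.mp hx
    refine Subgroup.mem_inf.mpr ⟨⟨x, hx1, rfl⟩, ?_⟩
    rw [Subgroup.mem_centralizer_iff]
    rintro _ ⟨k, hk, rfl⟩
    rw [← map_mul, ← map_mul, (Subgroup.mem_centralizer_iff.mp hx2) k hk]
  · intro hy
    obtain ⟨⟨x, hx1, rfl⟩, hy2⟩ := Subgroup.mem_inf.mp hy
    refine ⟨x, Subgroup.mem_inf.mpr ⟨hx1, ?_⟩, rfl⟩
    rw [Subgroup.mem_centralizer_iff]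
    intro k hk
    apply hτ
    rw [map_mul, map_mul]
    exact (Subgroup.mem_centralizer_iff.mp hy2) (τ k) ⟨k, hk, rfl⟩

theorem omegaOne_normal (p : ℕ) (K : Subgroup H) [hK : K.Normal] : (Cfsg.omegaOne p K).Normal := by
  constructor
  intro n hn g
  unfold Cfsg.omegaOne at hn ⊢
  induction hn using Subgroup.closure_induction with
  | mem x hx =>
    apply Subgroup.subset_closure
    refine ⟨hK.conj_mem x hx.1 g, ?_⟩
    rw [conj_pow, hx.2]; group
  | one => simp
  | mul x y _ _ ihx ihy =>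
    have : g * (x * y) * g⁻¹ = (g * x * g⁻¹) * (g * y * g⁻¹) := by group
    rw [this]; exact Subgroup.mul_mem _ ihx ihy
  | inv x _ ih =>
    have : g * x⁻¹ * g⁻¹ = (g * x * g⁻¹)⁻¹ := by group
    rw [this]; exact Subgroup.inv_mem _ ih

theorem omegaOne_mono (p : ℕ) {K L : Subgroup H} (h : K ≤ L) :
    Cfsg.omegaOne p K ≤ Cfsg.omegaOne p L := by
  unfold Cfsg.omegaOne
  apply Subgroup.closure_mono
  rintro x ⟨hx, hxp⟩
  exact ⟨h hx, hxp⟩

theorem omegaOne_le (p : ℕ) (K : Subgroup H) : Cfsg.omegaOne p K ≤ K := by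
  unfold Cfsg.omegaOne
  rw [Subgroup.closure_le]
  intro x hx
  exact hx.1

end Maps

section Iso

variable {S S' : Type u} [Group S] [Group S'] {p : ℕ}

theorem isEA_map (η : S ≃* S') {A : Subgroup S} (hA : Cfsg.IsElementaryAbelian p A) :
    Cfsg.IsElementaryAbelian p (A.map η.toMonoidHom) := by
  refine ⟨ZJFun.isMulCommutative_map η hA.1, ?_⟩
  rintro _ ⟨a, ha, rfl⟩
  show (η a) ^ p = 1
  rw [← map_pow, hA.2 a ha, map_one]

theorem map_mem_maxEA (η : S ≃* S') {A : Subgroup S}
    (hA : A ∈ Cfsg.maxElementaryAbelianSubgroups p S) :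
    A.map η.toMonoidHom ∈ Cfsg.maxElementaryAbelianSubgroups p S' := by
  refine ⟨isEA_map η hA.1, ?_⟩
  intro B hB
  have h1 := hA.2 (B.map η.symm.toMonoidHom) (isEA_map η.symm hB)
  rw [Subgroup.card_map_of_injective η.symm.injective] at h1
  rw [Subgroup.card_map_of_injective η.injective]
  exact h1

theorem map_thompsonSubgroup (η : S ≃* S') :
    (Cfsg.thompsonSubgroup p S).map η.toMonoidHom = Cfsg.thompsonSubgroup p S' := by
  unfold Cfsg.thompsonSubgroup
  apply le_antisymm
  · rw [Subgroup.map_le_iff_le_comap]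
    apply sSup_le
    intro A hA
    rw [← Subgroup.map_le_iff_le_comap]
    exact le_sSup (map_mem_maxEA η hA)
  · apply sSup_le
    intro B hB
    rw [← ZJFun.map_symm_map η B]
    apply Subgroup.map_mono
    exact le_sSup (map_mem_maxEA η.symm hB)

theorem map_center (η : S ≃* S') :
    (Subgroup.center S).map η.toMonoidHom = Subgroup.center S' := by
  ext y
  constructor
  · rintro ⟨x, hx, rfl⟩
    rw [Subgroup.mem_center_iff]
    intro g
    obtain ⟨g', rfl⟩ := η.surjective g
    show η g' * η x = η x * η g'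
    rw [← map_mul, ← map_mul, (Subgroup.mem_center_iff.mp hx) g']
  · intro hy
    refine ⟨η.symm y, ?_, by simp⟩
    rw [SetLike.mem_coe, Subgroup.mem_center_iff]
    intro g
    apply η.injective
    rw [map_mul, map_mul, η.apply_symm_apply]
    exact (Subgroup.mem_center_iff.mp hy) (η g)

theorem map_omegaCenterThompson (η : S ≃* S') :
    (Cfsg.omegaCenterThompson p S).map η.toMonoidHom = Cfsg.omegaCenterThompson p S' := by
  unfold Cfsg.omegaCenterThompson
  rw [omegaOne_map_inj _ η.injective, map_inf_centralizer_inj _ η.injective, map_thompsonSubgroup]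

theorem map_omegaOne_center (η : S ≃* S') :
    (Cfsg.omegaOne p (Subgroup.center S)).map η.toMonoidHom =
      Cfsg.omegaOne p (Subgroup.center S') := by
  rw [omegaOne_map_inj _ η.injective, map_center]

theorem isStableEmbedding_comp [hp : Fact p.Prime] {H : Type u} [Group H] (η : S ≃* S')
    (τ : S' →* H) (hτ : Cfsg.IsStableEmbedding p τ) :
    Cfsg.IsStableEmbedding p (τ.comp η.toMonoidHom) := by
  obtain ⟨h1, h2, ⟨P, hP⟩, h4, h5, h6⟩ := hτ
  refine ⟨h1.comp η.injective, h2, ⟨P, ?_⟩, h4, ?_, ?_⟩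
  · rw [hP]
    ext y
    constructor
    · rintro ⟨x, rfl⟩
      exact ⟨η.symm x, by simp⟩
    · rintro ⟨x, rfl⟩
      exact ⟨η x, rfl⟩
  · rw [← Subgroup.map_map, map_thompsonSubgroup]
    exact h5
  · intro V hV hle
    rw [← Subgroup.map_map, map_omegaCenterThompson] at hle
    exact h6 V hle

/-- the family whose intersection is `W(S)` -/
def Fam (p : ℕ) (S : Type u) [Group S] : Set (Subgroup S) :=
  {W : Subgroup S | Cfsg.omegaOne p (Subgroup.center S) ≤ W ∧
    ∀ (H : Type u) [Group H] (τ : S →* H), Cfsg.IsStableEmbedding p τ → (W.map τ).Normal}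

theorem stableNormalClosure_eq (p : ℕ) (S : Type u) [Group S] :
    Cfsg.stableNormalClosure p S = sInf (Fam p S) := rfl

theorem map_mem_Fam [hp : Fact p.Prime] (η : S ≃* S') {W : Subgroup S} (hW : W ∈ Fam p S) :
    W.map η.toMonoidHom ∈ Fam p S' := by
  refine ⟨?_, ?_⟩
  · rw [← map_omegaOne_center η]
    exact Subgroup.map_mono hW.1
  · intro H _ τ hτ
    rw [Subgroup.map_map]
    exact hW.2 H _ (isStableEmbedding_comp η τ hτ)

theorem map_stableNormalClosure_le [hp : Fact p.Prime] (η : S ≃* S') :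
    (Cfsg.stableNormalClosure p S).map η.toMonoidHom ≤ Cfsg.stableNormalClosure p S' := by
  rw [stableNormalClosure_eq, stableNormalClosure_eq]
  apply le_sInf
  intro W' hW'
  rw [← ZJFun.map_symm_map η W']
  apply Subgroup.map_mono
  exact sInf_le (map_mem_Fam η.symm hW')

theorem map_stableNormalClosure [hp : Fact p.Prime] (η : S ≃* S') :
    (Cfsg.stableNormalClosure p S).map η.toMonoidHom = Cfsg.stableNormalClosure p S' := by
  apply le_antisymm (map_stableNormalClosure_le η)
  have h1 := map_stableNormalClosure_le (p := p) η.symm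
  have h2 := Subgroup.map_mono (f := η.toMonoidHom) h1
  have h3 := ZJFun.map_symm_map η (Cfsg.stableNormalClosure p S')
  rw [h3] at h2
  exact h2

end Iso

end WS

end Cfsg.Agent.Lib.Lead
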