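import Mathlib
import Cfsg.Agent.Lib.Lead.Holo2
import Cfsg.Agent.Lib.Lead.HHDual
import Cfsg.Agent.Lib.Lead.WS2
import Cfsg.Agent.Lib.Lead.OddStable2
import Cfsg.Agent.Lib.Helper2.OmegaZ
import Cfsg.Agent.Lib.Helper2.SL2PSolv
import Cfsg.Agent.Lib.Helper7.PSolvable

set_option autoImplicit false

namespace Cfsg.Agent.Lib.Lead.Holo

open scoped commutatorElement
open Cfsg.Agent.Lib.Helper2.OmegaZ

universe u

section
variable {G : Type u} [Group G]

theorem thompsonSubgroup_normal (p : ℕ) : (Cfsg.thompsonSubgroup p G).Normal := by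
  haveI : (Cfsg.thompsonSubgroup p G).Characteristic := by
    rw [Subgroup.characteristic_iff_map_le]
    intro e
    exact le_of_eq (Cfsg.Agent.Lib.Lead.WS.map_thompsonSubgroup e)
  infer_instance

variable [Finite G] {p : ℕ} [hp : Fact p.Prime]

/-- `O_p(G / C_G(V)) = 1` for `V = ⟨Ω₁(Z(S))⟩`. -/
theorem pCore_quotient_centralizer_VV
    [hn : (Subgroup.centralizer ((VV p G : Subgroup G) : Set G)).Normal] :
    Cfsg.pCore p (G ⧸ Subgroup.centralizer ((VV p G : Subgroup G) : Set G)) = ⊥ := by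
  obtain ⟨C, hC⟩ : ∃ C : Subgroup G, C = Subgroup.centralizer ((VV p G : Subgroup G) : Set G) :=
    ⟨_, rfl⟩
  subst hC
  set P := Cfsg.pCore p (G ⧸ Subgroup.centralizer ((VV p G : Subgroup G) : Set G)) with hP
  have hPn : P.Normal := Cfsg.Agent.Lib.Lead.pCore_normal p
  have hPp : IsPGroup p P := Cfsg.Agent.Lib.Lead.pCore_isPGroup p
  set mk := QuotientGroup.mk' (Subgroup.centralizer ((VV p G : Subgroup G) : Set G)) with hmk
  have hsurj : Function.Surjective mk := QuotientGroup.mk'_surjective _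
  have hCD : Subgroup.centralizer ((VV p G : Subgroup G) : Set G) ≤ P.comap mk := by
    intro c hc
    rw [Subgroup.mem_comap]
    have : mk c = 1 := (QuotientGroup.eq_one_iff c).mpr hc
    rw [this]
    exact P.one_mem
  obtain ⟨k, hk⟩ := hPp.exists_card_eq
  have hrel : (Subgroup.centralizer ((VV p G : Subgroup G) : Set G)).relIndex (P.comap mk) = p ^ k := by
    have h1 : Subgroup.centralizer ((VV p G : Subgroup G) : Set G) = (⊥ : Subgroup _).comap mk := by
      rw [MonoidHom.comap_bot, hmk, QuotientGroup.ker_mk']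
    have h2 : ((⊥ : Subgroup _).comap mk).relIndex (P.comap mk) = p ^ k := by
      rw [Subgroup.relIndex_comap, Subgroup.map_comap_eq_self_of_surjective hsurj,
        Subgroup.relIndex_bot_left, hk]
    rw [← h1] at h2
    exact h2
  have hD := eq_centralizer_of_relIndex_pow (P.comap mk) (hPn.comap mk) hCD hrel
  rw [eq_bot_iff]
  intro x hx
  obtain ⟨g, rfl⟩ := hsurj x
  have hg : g ∈ P.comap mk := hx
  rw [hD] at hg
  rw [Subgroup.mem_bot]
  exact (QuotientGroup.eq_one_iff g).mpr hg

end

section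
variable {G : Type u} [Group G] (V : Subgroup G) [V.Normal]

/-- the injective map of `G / C_G(V)` into the holomorph -/
noncomputable def phi [hn : (Subgroup.centralizer (V : Set G)).Normal] :
    G ⧸ Subgroup.centralizer (V : Set G) →* Hol V :=
  QuotientGroup.lift _ (psi V) (fun x hx => (psi_eq_one_iff V x).mpr hx)

theorem phi_mk [hn : (Subgroup.centralizer (V : Set G)).Normal] (g : G) :
    phi V (QuotientGroup.mk' _ g) = psi V g := rfl

theorem phi_injective [hn : (Subgroup.centralizer (V : Set G)).Normal] :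
    Function.Injective (phi V) := by
  rw [injective_iff_map_eq_one]
  intro x hx
  obtain ⟨g, rfl⟩ := QuotientGroup.mk'_surjective _ x
  rw [phi_mk, psi_eq_one_iff] at hx
  exact (QuotientGroup.eq_one_iff g).mpr hx

theorem map_psi_eq [hn : (Subgroup.centralizer (V : Set G)).Normal] (J : Subgroup G) :
    J.map (psi V) = (J.map (QuotientGroup.mk' (Subgroup.centralizer (V : Set G)))).map (phi V) := by
  rw [Subgroup.map_map]
  rfl

variable [Finite G] {p : ℕ} [hp : Fact p.Prime]

instance Hol_finite : Finite (Hol V) := Finite.of_equiv _ SemidirectProduct.equivProd.symm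

/-- the image in the holomorph of a normal subgroup of a `p`-solvable group with
`O_p(G/C_G(V)) = 1` has self-centralizing `p'`-core -/
theorem hS1_of [hn : (Subgroup.centralizer (V : Set G)).Normal]
    (J : Subgroup G) [hJ : J.Normal] (hG : Cfsg.IsPSolvable p G)
    (hC : Cfsg.pCore p (G ⧸ Subgroup.centralizer (V : Set G)) = ⊥)
    (H' : Subgroup (Hol V)) (hH' : H' = J.map (psi V)) :
    Subgroup.centralizer ((Cfsg.pPrimeCore p ↥H' : Subgroup ↥H') : Set ↥H') ≤
      Cfsg.pPrimeCore p ↥H' := by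
  rw [map_psi_eq] at hH'
  subst hH'
  set Jb := J.map (QuotientGroup.mk' (Subgroup.centralizer (V : Set G))) with hJb
  haveI hJbn : Jb.Normal := hJ.map _ (QuotientGroup.mk'_surjective _)
  have hq : Cfsg.IsPSolvable p (G ⧸ Subgroup.centralizer (V : Set G)) :=
    Cfsg.Agent.Lib.Helper7.isPSolvable_quotient hG _
  have hJs : Cfsg.IsPSolvable p ↥Jb :=
    Cfsg.Agent.Lib.Helper2.SL2Sections.isPSolvable_subgroup hq Jb
  have hJc : Cfsg.pCore p ↥Jb = ⊥ := by
    have h1 := Cfsg.Agent.Lib.Lead.OddStable.pCore_map_subtype_le_of_normal (p := p) Jb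
    rw [hC, le_bot_iff] at h1
    exact (Subgroup.map_eq_bot_iff_of_injective _ Jb.subtype_injective).mp h1
  let e : ↥Jb ≃* ↥(Jb.map (phi V)) := Jb.equivMapOfInjective (phi V) (phi_injective V)
  have hs : Cfsg.IsPSolvable p ↥(Jb.map (phi V)) :=
    Cfsg.Agent.Lib.Helper2.SL2Sections.isPSolvable_of_surj e.toMonoidHom e.surjective hJs
  have hc : Cfsg.pCore p ↥(Jb.map (phi V)) = ⊥ := by
    rw [← Cfsg.Agent.Lib.Helper6.pCore_map_equiv p e, hJc, Subgroup.map_bot]
  exact Cfsg.Agent.Lib.Lead.centralizer_pPrimeCore_le_of_isPSolvable hs hc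

end

end Cfsg.Agent.Lib.Lead.Holo
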