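import Mathlib
import Cfsg.Agent.Lib.Lead.KS93f
import Cfsg.Agent.Lib.Lead.CoprimeAction2

set_option autoImplicit false

namespace Cfsg.Agent.Lib.Lead.KS93

open scoped commutatorElement
open Cfsg.Agent.Lib.Lead Cfsg.Agent.Lib.Helper6 Cfsg.Agent.Lib.Lead.ExpSec

section
variable {G : Type*} [Group G] [Finite G] {p : ℕ} [hp : Fact p.Prime] {V H Q : Subgroup G}

/-- a proper subgroup with cyclic quotient of an elementary abelian group is a hyperplane -/
theorem card_of_cyc {A B : Subgroup G} (hab : ∀ a ∈ A, ∀ b ∈ A, a * b = b * a)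
    (hexp : ∀ a ∈ A, a ^ p = 1) (hBA : B ≤ A) {a : G} (haA : a ∈ A)
    (hBa : B ⊔ Subgroup.zpowers a = A) (hBneA : B ≠ A) : Nat.card A = Nat.card B * p := by
  have haB : a ∉ B := by
    intro h
    apply hBneA
    rw [← hBa]
    exact (sup_eq_left.mpr (Subgroup.zpowers_le.mpr h)).symm
  have ha1 : a ≠ 1 := fun h => haB (h ▸ B.one_mem)
  have hord : orderOf a = p := orderOf_eq_prime (hexp a haA) ha1
  have hzcard : Nat.card (Subgroup.zpowers a) = p := by rw [Nat.card_zpowers, hord]
  have hzA : Subgroup.zpowers a ≤ A := Subgroup.zpowers_le.mpr haA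
  have hzB : Subgroup.zpowers a ≤ Subgroup.normalizer (B : Set G) :=
    hzA.trans (le_normalizer_of_abelian hab hBA)
  have hinf : Subgroup.zpowers a ⊓ B = ⊥ := by
    have h1 : Nat.card (Subgroup.zpowers a ⊓ B : Subgroup G) ∣ p := by
      rw [← hzcard]; exact Subgroup.card_dvd_of_le inf_le_left
    rcases (Nat.dvd_prime hp.out).mp h1 with h | h
    · exact Subgroup.card_eq_one.mp h
    · exfalso
      apply haB
      have h2 : Subgroup.zpowers a ⊓ B = Subgroup.zpowers a :=
        Subgroup.eq_of_le_of_card_ge inf_le_left (by rw [h, hzcard])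
      have h3 : Subgroup.zpowers a ≤ B := by rw [← h2]; exact inf_le_right
      exact h3 (Subgroup.mem_zpowers a)
  have h1 := card_sup_of_disjoint (Subgroup.zpowers a) B hzB hinf
  rw [sup_comm, hBa, hzcard, mul_comm] at h1
  exact h1

/-- a best offender of order more than `p` has two hyperplanes of the kind found in
`exists_hyperplane` -/
theorem exists_second_hyperplane (S : Setup p V H Q) {A : Subgroup G} (hAH : A ≤ H)
    (hA : Cfsg.IsBestOffenderOn p V A) (B₀ : Subgroup G) (hB₀A : B₀ ≤ A) (hB₀1 : B₀ ≠ ⊥) :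
    ∃ B : Subgroup G, B ≤ A ∧ Nat.card A = Nat.card B * p ∧
      ⁅Q ⊓ Subgroup.centralizer (B : Set G), A⁆ ≠ ⊥ ∧ B ≠ B₀ := by
  classical
  obtain ⟨hab, hexp⟩ := bestOffender_elementary S hAH hA
  have hAp : IsPGroup p A := isPGroup_of_bestOffender S hAH hA
  have hAc : IsMulCommutative A := ⟨⟨fun a b => Subtype.ext (hab a a.2 b b.2)⟩⟩
  have hAQ : A ≤ Subgroup.normalizer (Q : Set G) := hAH.trans S.hQn
  have hcop : (Nat.card A).Coprime (Nat.card Q) := by
    obtain ⟨k, hk⟩ := IsPGroup.iff_card.mp hAp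
    rw [hk]; exact Nat.Coprime.pow_left k S.hQc.symm
  have hgen := (Cfsg.Agent.S3734.result A Q hAc hAQ hcop).2
  by_contra hcon
  push_neg at hcon
  -- every term of the generation formula centralises `B₀`
  have h1 : ⁅Q, A⁆ ≤ Subgroup.centralizer (B₀ : Set G) := by
    rw [← hgen]
    apply iSup₂_le
    rintro B ⟨hBA, a, haA, hBa⟩
    by_cases hBA' : B = A
    · have : ⁅Q ⊓ Subgroup.centralizer (B : Set G), A⁆ = ⊥ := by
        rw [Subgroup.commutator_eq_bot_iff_le_centralizer, hBA']
        exact inf_le_right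
      rw [this]; exact bot_le
    · by_cases hne : ⁅Q ⊓ Subgroup.centralizer (B : Set G), A⁆ = ⊥
      · rw [hne]; exact bot_le
      · have hBB₀ := hcon B hBA (card_of_cyc hab hexp hBA haA hBa hBA') hne
        rw [hBB₀]
        have hAB₀ : A ≤ Subgroup.normalizer (B₀ : Set G) := le_normalizer_of_abelian hab hB₀A
        have hAQ₁ : A ≤ Subgroup.normalizer
            ((Q ⊓ Subgroup.centralizer (B₀ : Set G) : Subgroup G) : Set G) := by
          apply le_normalizer_of_conj_mem
          intro g hg y hy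
          refine Subgroup.mem_inf.mpr ⟨?_, ?_⟩
          · exact (Subgroup.mem_normalizer_iff.mp (S.hQn (hAH hg)) y).mp hy.1
          · exact (Subgroup.mem_normalizer_iff.mp
              (normalizer_le_normalizer_centralizer B₀ (hAB₀ hg)) y).mp hy.2
        exact (commutator_le_left_of_le_normalizer _ A hAQ₁).trans inf_le_right
  have h2 : Q ⊓ Subgroup.centralizer (A : Set G) ≤ Subgroup.centralizer (B₀ : Set G) :=
    inf_le_right.trans (Subgroup.centralizer_le hB₀A)
  have hsolvA : Group.IsSolvable A := isSolvable_of_isPGroup p A hAp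
  have h3 : Q ≤ Subgroup.centralizer (B₀ : Set G) := by
    rw [← coprime_commutator_sup_centralizer A Q hAQ hcop (Or.inl hsolvA)]
    exact sup_le h1 h2
  have h4 : B₀ ≤ Q := fun b hb =>
    S.hCQ ⟨hAH (hB₀A hb), Subgroup.le_centralizer_iff.mp h3 hb⟩
  have h5 : B₀ ⊓ Q = ⊥ := isPGroup_inf_coprime_eq_bot S.hQc (hAp.to_le hB₀A)
  apply hB₀1
  rw [← h5]; exact (inf_eq_left.mpr h4).symm

/-- the property of being a minimal nontrivial best offender -/
def IsMinOffender (p : ℕ) (V L : Subgroup G) : Prop :=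
  Cfsg.IsBestOffenderOn p V L ∧ L ≠ ⊥ ∧
    ∀ C : Subgroup G, C ≤ L → Cfsg.IsBestOffenderOn p V C → C ≠ ⊥ → C = L

theorem decomposition (S : Setup p V H Q) :
    ∀ (n : ℕ) (A : Subgroup G), Nat.card A = n → A ≤ H → Cfsg.IsBestOffenderOn p V A → A ≠ ⊥ →
      ∃ (k : ℕ) (B : Fin k → Subgroup G), (∀ i, B i ≤ A ∧ IsMinOffender p V (B i)) ∧
        iSupIndep B ∧ ⨆ i, B i = A := by
  intro n
  induction n using Nat.strong_induction_on with
  | _ n ih =>
    intro A hn hAH hA hA1
    classical
    obtain ⟨hab, hexp⟩ := bestOffender_elementary S hAH hA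
    obtain ⟨B₀, hB₀A, hcard₀, hne₀⟩ := exists_hyperplane S hAH hA hA1
    have hp1 : 1 < p := hp.out.one_lt
    by_cases hB₀1 : B₀ = ⊥
    · -- `A` has order `p`
      have hcA : Nat.card A = p := by rw [hcard₀, hB₀1, Subgroup.card_bot, one_mul]
      refine ⟨1, fun _ => A, fun _ => ⟨le_rfl, hA, hA1, ?_⟩, ?_, ?_⟩
      · intro C hCA _ hC1
        apply Subgroup.eq_of_le_of_card_ge hCA
        have h1 : Nat.card C ∣ p := by rw [← hcA]; exact Subgroup.card_dvd_of_le hCA
        rcases (Nat.dvd_prime hp.out).mp h1 with h | h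
        · exact absurd (Subgroup.card_eq_one.mp h) hC1
        · rw [h, hcA]
      · rw [iSupIndep_def]
        intro i
        have : (⨆ j, ⨆ (_ : j ≠ i), (fun _ : Fin 1 => A) j) = ⊥ := by
          rw [eq_bot_iff]
          apply iSup_le
          intro j
          apply iSup_le
          intro hj
          exact absurd (Subsingleton.elim j i) hj
        rw [this]; exact disjoint_bot_right
      · exact ciSup_const
    · obtain ⟨-, hB₀bo⟩ := hyperplane_offender S hAH hA hB₀A hcard₀ hne₀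
      have hlt₀ : Nat.card B₀ < n := by
        rw [← hn, hcard₀]
        have : 0 < Nat.card B₀ := Nat.card_pos
        nlinarith
      obtain ⟨k₀, F₀, hF₀, hind₀, hsup₀⟩ :=
        ih (Nat.card B₀) hlt₀ B₀ rfl (hB₀A.trans hAH) hB₀bo hB₀1
      obtain ⟨B₁, hB₁A, hcard₁, hne₁, hB₁B₀⟩ :=
        exists_second_hyperplane S hAH hA B₀ hB₀A hB₀1
      obtain ⟨-, hB₁bo⟩ := hyperplane_offender S hAH hA hB₁A hcard₁ hne₁
      have hcardeq : Nat.card B₁ = Nat.card B₀ := by
        have : Nat.card B₁ * p = Nat.card B₀ * p := by rw [← hcard₁, ← hcard₀]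
        exact Nat.eq_of_mul_eq_mul_right hp.out.pos this
      have hB₁1 : B₁ ≠ ⊥ := by
        intro h
        rw [h, Subgroup.card_bot] at hcardeq
        exact hB₀1 (Subgroup.card_eq_one.mp hcardeq.symm)
      have hlt₁ : Nat.card B₁ < n := by rw [hcardeq]; exact hlt₀
      obtain ⟨k₁, F₁, hF₁, -, hsup₁⟩ :=
        ih (Nat.card B₁) hlt₁ B₁ rfl (hB₁A.trans hAH) hB₁bo hB₁1
      -- a member of the second family outside `B₀`
      have hex : ∃ j, ¬ F₁ j ≤ B₀ := by
        by_contra hcon
        push_neg at hcon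
        have h1 : B₁ ≤ B₀ := by rw [← hsup₁]; exact iSup_le hcon
        exact hB₁B₀ (Subgroup.eq_of_le_of_card_ge h1 hcardeq.ge)
      obtain ⟨j, hj⟩ := hex
      set L := F₁ j with hL
      obtain ⟨hLB₁, hLbo, hL1, hLmin⟩ := hF₁ j
      have hLA : L ≤ A := hLB₁.trans hB₁A
      have hLcard : Nat.card L = p := card_of_minimal S (hLA.trans hAH) hLbo hL1 hLmin
      have hLB₀ : L ⊓ B₀ = ⊥ := by
        have h1 : Nat.card (L ⊓ B₀ : Subgroup G) ∣ p := by
          rw [← hLcard]; exact Subgroup.card_dvd_of_le inf_le_left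
        rcases (Nat.dvd_prime hp.out).mp h1 with h | h
        · exact Subgroup.card_eq_one.mp h
        · exfalso
          apply hj
          have h2 : L ⊓ B₀ = L := Subgroup.eq_of_le_of_card_ge inf_le_left (by rw [h, hLcard])
          rw [← h2]; exact inf_le_right
      have hF₀A : ∀ i, F₀ i ≤ A := fun i => (hF₀ i).1.trans hB₀A
      obtain ⟨hind, hsup⟩ := iSupIndep_snoc hab F₀ hF₀A hind₀ L hLA (by rw [hsup₀]; exact hLB₀)
      refine ⟨k₀ + 1, Fin.snoc F₀ L, ?_, hind, ?_⟩
      · intro i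
        induction i using Fin.lastCases with
        | last => rw [Fin.snoc_last]; exact ⟨hLA, hLbo, hL1, hLmin⟩
        | cast i' => rw [Fin.snoc_castSucc]; exact ⟨hF₀A i', (hF₀ i').2⟩
      · rw [hsup, hsup₀]
        apply Subgroup.eq_of_le_of_card_ge (sup_le hB₀A hLA)
        have hLn : L ≤ Subgroup.normalizer (B₀ : Set G) :=
          hLA.trans (le_normalizer_of_abelian hab hB₀A)
        have h1 := card_sup_of_disjoint L B₀ hLn hLB₀
        rw [sup_comm] at h1
        rw [h1, hLcard, hcard₀, mul_comm]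

end

end Cfsg.Agent.Lib.Lead.KS93
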