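import Mathlib
import Cfsg.Agent.Lib.Lead.KS93g
import Cfsg.Agent.Lib.Lead.CoprimeAction3

set_option autoImplicit false

namespace Cfsg.Agent.Lib.Lead.KS93

open scoped commutatorElement
open Cfsg.Agent.Lib.Lead Cfsg.Agent.Lib.Helper6

section tools
variable {G : Type*} [Group G]

/-- a subgroup of a group of prime order is trivial or everything -/
theorem eq_bot_or_eq_of_card_prime {p : ℕ} [hp : Fact p.Prime] {X L : Subgroup G} (hXL : X ≤ L)
    (hL : Nat.card L = p) : X = ⊥ ∨ X = L := by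
  have hfin : Finite L := Nat.finite_of_card_ne_zero (by rw [hL]; exact hp.out.ne_zero)
  have hdvd : Nat.card X ∣ p := hL ▸ Subgroup.card_dvd_of_le hXL
  rcases (Nat.dvd_prime hp.out).mp hdvd with h | h
  · left
    exact Subgroup.card_eq_one.mp h
  · right
    exact Subgroup.eq_of_le_of_card_ge hXL (by rw [h, hL])

theorem centralizer_sup (A B : Subgroup G) :
    Subgroup.centralizer ((A ⊔ B : Subgroup G) : Set G) =
      Subgroup.centralizer (A : Set G) ⊓ Subgroup.centralizer (B : Set G) := by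
  apply le_antisymm
  · exact le_inf (Subgroup.centralizer_le (show (A : Set G) ⊆ ((A ⊔ B : Subgroup G) : Set G) from (le_sup_left : A ≤ A ⊔ B))) (Subgroup.centralizer_le (show (B : Set G) ⊆ ((A ⊔ B : Subgroup G) : Set G) from (le_sup_right : B ≤ A ⊔ B)))
  · intro g hg
    rw [Subgroup.mem_centralizer_iff]
    intro h hh
    have hA : A ≤ Subgroup.centralizer ({g} : Set G) := by
      intro a ha
      rw [Subgroup.mem_centralizer_iff]
      intro x hx
      rw [Set.mem_singleton_iff] at hx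
      rw [hx]
      exact ((Subgroup.mem_centralizer_iff.mp hg.1) a ha).symm
    have hB : B ≤ Subgroup.centralizer ({g} : Set G) := by
      intro a ha
      rw [Subgroup.mem_centralizer_iff]
      intro x hx
      rw [Set.mem_singleton_iff] at hx
      rw [hx]
      exact ((Subgroup.mem_centralizer_iff.mp hg.2) a ha).symm
    have := (sup_le hA hB) hh
    rw [Subgroup.mem_centralizer_iff] at this
    exact (this g rfl).symm

/-- the subgroup of elements normalizing `U` and acting trivially on `X / U` -/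
def stabSub (X U : Subgroup G) : Subgroup G where
  carrier := {g | g ∈ Subgroup.normalizer (U : Set G) ∧ ∀ x ∈ X, ⁅x, g⁆ ∈ U}
  one_mem' := by
    refine ⟨Subgroup.one_mem _, ?_⟩
    intro x _
    rw [commutatorElement_one_right]
    exact U.one_mem
  mul_mem' := by
    rintro g h ⟨hg1, hg2⟩ ⟨hh1, hh2⟩
    refine ⟨Subgroup.mul_mem _ hg1 hh1, ?_⟩
    intro x hx
    have e : ⁅x, g * h⁆ = ⁅x, g⁆ * (g * ⁅x, h⁆ * g⁻¹) := by
      simp only [commutatorElement_def]; group
    rw [e]
    exact U.mul_mem (hg2 x hx) ((Subgroup.mem_normalizer_iff.mp hg1 _).mp (hh2 x hx))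
  inv_mem' := by
    rintro g ⟨hg1, hg2⟩
    refine ⟨Subgroup.inv_mem _ hg1, ?_⟩
    intro x hx
    have e : ⁅x, g⁻¹⁆ = g⁻¹ * (⁅x, g⁆)⁻¹ * g⁻¹⁻¹ := by
      simp only [commutatorElement_def]; group
    rw [e]
    exact (Subgroup.mem_normalizer_iff.mp (Subgroup.inv_mem _ hg1) _).mp (U.inv_mem (hg2 x hx))

theorem mem_stabSub {X U : Subgroup G} {g : G} :
    g ∈ stabSub X U ↔ g ∈ Subgroup.normalizer (U : Set G) ∧ ∀ x ∈ X, ⁅x, g⁆ ∈ U := Iff.rfl

theorem le_stabSub {X U A : Subgroup G} (hAU : A ≤ Subgroup.normalizer (U : Set G))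
    (h : ⁅X, A⁆ ≤ U) : A ≤ stabSub X U := by
  intro a ha
  exact ⟨hAU ha, fun x hx => h (Subgroup.commutator_mem_commutator hx ha)⟩

theorem commutator_le_of_le_stabSub {X U E : Subgroup G} (h : E ≤ stabSub X U) : ⁅X, E⁆ ≤ U := by
  rw [Subgroup.commutator_le]
  intro x hx g hg
  exact (h hg).2 x hx

end tools

section coprime
variable {G : Type*} [Group G] [Finite G]

/-- a coprime operator group stabilizing a two-step chain acts trivially -/
theorem coprime_stab {p : ℕ} [Fact p.Prime] {X U Y : Subgroup G} (hX : IsPGroup p X)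
    (hYX : Y ≤ Subgroup.normalizer (X : Set G)) (hY : (Nat.card Y).Coprime p)
    (h1 : ⁅X, Y⁆ ≤ U) (h2 : ⁅U, Y⁆ = ⊥) : ⁅X, Y⁆ = ⊥ := by
  obtain ⟨n, hn⟩ := (IsPGroup.iff_card).mp hX
  have hcop : (Nat.card Y).Coprime (Nat.card X) := by
    rw [hn]; exact Nat.Coprime.pow_right n hY
  have hsolv : Group.IsSolvable X := isSolvable_of_isPGroup p X hX
  have h3 := coprime_commutator_stable Y X hYX hcop (Or.inr hsolv)
  rw [← h3, eq_bot_iff, ← h2]
  exact Subgroup.commutator_mono h1 le_rfl

/-- an operator `p`-group whose commutator with a `p`-group `V` has order `p` acts quadratically -/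
theorem quadratic_of_card_prime {p : ℕ} [Fact p.Prime] {V A : Subgroup G} (hV : IsPGroup p V)
    (hA : IsPGroup p A) (hAV : A ≤ Subgroup.normalizer (V : Set G))
    (hL : Nat.card ↥(⁅V, A⁆) = p) : ⁅V, A⁆ ≤ Subgroup.centralizer (A : Set G) := by
  have hLV : ⁅V, A⁆ ≤ V := commutator_le_left_of_le_normalizer V A hAV
  have hLp : IsPGroup p ↥(⁅V, A⁆) := hV.to_le hLV
  have hAL : A ≤ Subgroup.normalizer ((⁅V, A⁆ : Subgroup G) : Set G) :=
    le_normalizer_commutator_right V A hAV
  have hne : (⁅V, A⁆ : Subgroup G) ≠ ⊥ := by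
    intro h
    rw [h, Subgroup.card_bot] at hL
    exact (Fact.out : p.Prime).one_lt.ne hL
  have h1 := commutator_ne_of_pgroups p _ A hLp hA hAL hne
  have h2 : ⁅⁅V, A⁆, A⁆ ≤ ⁅V, A⁆ := commutator_le_left_of_le_normalizer _ A hAL
  rcases eq_bot_or_eq_of_card_prime h2 hL with h | h
  · exact Subgroup.commutator_eq_bot_iff_le_centralizer.mp h
  · exact absurd h h1

end coprime

end Cfsg.Agent.Lib.Lead.KS93
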