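import Mathlib
import Cfsg.Agent.Lib.Lead.KS93h
import Cfsg.Agent.Lib.Lead.ExpSec1
import Cfsg.Agent.Lib.Lead.HallTools

set_option autoImplicit false

namespace Cfsg.Agent.Lib.Lead.KS93

open scoped commutatorElement
open Cfsg.Agent.Lib.Lead Cfsg.Agent.Lib.Helper6

section tpair
variable {G : Type*} [Group G]

theorem card_mul_relIndex_of_le {H K : Subgroup G} (h : H ≤ K) :
    Nat.card H * H.relIndex K = Nat.card K := by
  have := Subgroup.card_mul_index (H.subgroupOf K)
  rwa [card_subgroupOf_of_le h] at this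

/-- if `A` normalizes `V` and `L ≤ V`, then `A` normalizes `⁅V, A⁆ ⊔ L` -/
theorem le_normalizer_commutator_sup {V A L : Subgroup G}
    (hAV : A ≤ Subgroup.normalizer (V : Set G)) (hLV : L ≤ V) :
    A ≤ Subgroup.normalizer ((⁅V, A⁆ ⊔ L : Subgroup G) : Set G) := by
  apply ExpSec.le_normalizer_of_conj_mem
  intro g hg y hy
  have hle : (⁅V, A⁆ ⊔ L : Subgroup G).map (MulAut.conj g).toMonoidHom ≤ ⁅V, A⁆ ⊔ L := by
    rw [Subgroup.map_sup]
    apply sup_le
    · refine le_trans ?_ le_sup_left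
      rintro _ ⟨z, hz, rfl⟩
      exact (Subgroup.mem_normalizer_iff.mp (le_normalizer_commutator_right V A hAV hg) z).mp hz
    · rintro _ ⟨l, hl, rfl⟩
      have e : (MulAut.conj g).toMonoidHom l = (⁅l, g⁆)⁻¹ * l := by
        simp only [MulEquiv.coe_toMonoidHom, MulAut.conj_apply, commutatorElement_def]
        group
      rw [e]
      exact Subgroup.mul_mem _
        (le_sup_left (a := ⁅V, A⁆) (b := L)
          (Subgroup.inv_mem _ (Subgroup.commutator_mem_commutator (hLV hl) hg)))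
        (le_sup_right (a := ⁅V, A⁆) (b := L) hl)
  exact hle ⟨y, hy, by simp [MulAut.conj_apply]⟩

variable [Finite G] {p : ℕ} [Fact p.Prime]

/-- a pair of "transvection" subgroups on `V` generating a group that is not a `p`-group on `V` -/
structure TPair (p : ℕ) (V A B : Subgroup G) : Prop where
  hVab : ∀ x ∈ V, ∀ y ∈ V, x * y = y * x
  hVp : IsPGroup p V
  hAV : A ≤ Subgroup.normalizer (V : Set G)
  hBV : B ≤ Subgroup.normalizer (V : Set G)
  hAp : IsPGroup p A
  hBp : IsPGroup p B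
  hLA : Nat.card ↥(⁅V, A⁆) = p
  hLB : Nat.card ↥(⁅V, B⁆) = p
  hKA : p * Nat.card ↥(V ⊓ Subgroup.centralizer (A : Set G)) = Nat.card V
  hKB : p * Nat.card ↥(V ⊓ Subgroup.centralizer (B : Set G)) = Nat.card V
  hy : ∃ y ∈ A ⊔ B, (orderOf y).Coprime p ∧ y ∉ Subgroup.centralizer (V : Set G)

variable {V A B : Subgroup G}

theorem TPair.symm (T : TPair p V A B) : TPair p V B A :=
  ⟨T.hVab, T.hVp, T.hBV, T.hAV, T.hBp, T.hAp, T.hLB, T.hLA, T.hKB, T.hKA, by
    rw [sup_comm]; exact T.hy⟩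

theorem TPair.quadA (T : TPair p V A B) : ⁅V, A⁆ ≤ Subgroup.centralizer (A : Set G) :=
  quadratic_of_card_prime T.hVp T.hAp T.hAV T.hLA

theorem TPair.quadB (T : TPair p V A B) : ⁅V, B⁆ ≤ Subgroup.centralizer (B : Set G) :=
  T.symm.quadA

theorem TPair.LA_le (T : TPair p V A B) : ⁅V, A⁆ ≤ V :=
  commutator_le_left_of_le_normalizer V A T.hAV

theorem TPair.LB_le (T : TPair p V A B) : ⁅V, B⁆ ≤ V :=
  commutator_le_left_of_le_normalizer V B T.hBV

theorem TPair.sup_le_stabSub (T : TPair p V A B) : A ⊔ B ≤ stabSub V (⁅V, A⁆ ⊔ ⁅V, B⁆) := by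
  apply sup_le
  · exact le_stabSub (le_normalizer_commutator_sup T.hAV T.LB_le) le_sup_left
  · have := le_normalizer_commutator_sup T.hBV T.LA_le
    rw [sup_comm] at this
    exact le_stabSub this le_sup_right

theorem TPair.commutator_sup (T : TPair p V A B) : ⁅V, A ⊔ B⁆ = ⁅V, A⁆ ⊔ ⁅V, B⁆ := by
  apply le_antisymm
  · exact commutator_le_of_le_stabSub T.sup_le_stabSub
  · exact sup_le (Subgroup.commutator_mono le_rfl le_sup_left)
      (Subgroup.commutator_mono le_rfl le_sup_right)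

theorem TPair.sup_le_normalizer (T : TPair p V A B) :
    A ⊔ B ≤ Subgroup.normalizer (V : Set G) := sup_le T.hAV T.hBV

/-- `A` does not centralize `⁅V, B⁆` -/
theorem TPair.inf_centralizer (T : TPair p V A B) :
    ⁅V, B⁆ ⊓ Subgroup.centralizer (A : Set G) = ⊥ := by
  by_contra hne
  have hLbA : ⁅V, B⁆ ≤ Subgroup.centralizer (A : Set G) := by
    rcases eq_bot_or_eq_of_card_prime (inf_le_left : ⁅V, B⁆ ⊓ Subgroup.centralizer (A : Set G) ≤ _)
      T.hLB with h | h
    · exact absurd h hne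
    · exact inf_eq_left.mp h
  obtain ⟨y, hyE, hyo, hyV⟩ := T.hy
  set W : Subgroup G := ⁅V, A⁆ ⊔ ⁅V, B⁆ with hW
  have hWV : W ≤ V := sup_le T.LA_le T.LB_le
  have hALb : A ≤ Subgroup.centralizer ((⁅V, B⁆ : Subgroup G) : Set G) :=
    Subgroup.le_centralizer_iff.mp hLbA
  have hBLb : B ≤ Subgroup.centralizer ((⁅V, B⁆ : Subgroup G) : Set G) :=
    Subgroup.le_centralizer_iff.mp T.quadB
  have hWA : W ≤ Subgroup.centralizer (A : Set G) := sup_le T.quadA hLbA
  have h1 : A ⊔ B ≤ stabSub V W := T.sup_le_stabSub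
  have h2 : A ⊔ B ≤ stabSub W ⁅V, B⁆ := by
    apply sup_le
    · apply le_stabSub (le_trans hALb (Subgroup.centralizer_le_normalizer _))
      rw [Subgroup.commutator_eq_bot_iff_le_centralizer.mpr hWA]
      exact bot_le
    · exact le_stabSub (le_normalizer_commutator_right V B T.hBV)
        (Subgroup.commutator_mono hWV le_rfl)
  have h3 : A ⊔ B ≤ Subgroup.centralizer ((⁅V, B⁆ : Subgroup G) : Set G) := sup_le hALb hBLb
  set Y : Subgroup G := Subgroup.zpowers y with hY
  have hYE : Y ≤ A ⊔ B := by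
    rw [hY, Subgroup.zpowers_le]; exact hyE
  have hYc : (Nat.card Y).Coprime p := by
    rw [hY, Nat.card_zpowers]; exact hyo
  have s1 : ⁅W, Y⁆ = ⊥ := by
    apply coprime_stab (T.hVp.to_le hWV) (U := ⁅V, B⁆) _ hYc
    · exact commutator_le_of_le_stabSub (le_trans hYE h2)
    · exact Subgroup.commutator_eq_bot_iff_le_centralizer.mpr
        (Subgroup.le_centralizer_iff.mp (le_trans hYE h3))
    · intro g hg
      exact (h1 (hYE hg)).1
  have s2 : ⁅V, Y⁆ = ⊥ := by
    apply coprime_stab T.hVp (U := W) _ hYc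
    · exact commutator_le_of_le_stabSub (le_trans hYE h1)
    · exact s1
    · exact le_trans hYE T.sup_le_normalizer
  have : V ≤ Subgroup.centralizer (Y : Set G) := Subgroup.commutator_eq_bot_iff_le_centralizer.mp s2
  apply hyV
  have h4 : Y ≤ Subgroup.centralizer (V : Set G) := Subgroup.le_centralizer_iff.mp this
  exact h4 (Subgroup.mem_zpowers y)

theorem TPair.inf_eq_bot (T : TPair p V A B) : ⁅V, A⁆ ⊓ ⁅V, B⁆ = ⊥ := by
  rw [eq_bot_iff, ← T.inf_centralizer]
  exact le_inf inf_le_right (le_trans inf_le_left T.quadA)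

theorem TPair.card_commutator (T : TPair p V A B) : Nat.card ↥(⁅V, A ⊔ B⁆) = p ^ 2 := by
  rw [T.commutator_sup, card_sup_of_disjoint _ _ _ T.inf_eq_bot, T.hLA, T.hLB, sq]
  exact le_trans T.LA_le (le_normalizer_of_abelian T.hVab T.LB_le)

theorem TPair.inf_fix (T : TPair p V A B) :
    ⁅V, A ⊔ B⁆ ⊓ (V ⊓ Subgroup.centralizer ((A ⊔ B : Subgroup G) : Set G)) = ⊥ := by
  rw [eq_bot_iff]
  rintro w ⟨hw1, -, hw2⟩
  rw [SetLike.mem_coe, T.commutator_sup] at hw1
  rw [SetLike.mem_coe, centralizer_sup] at hw2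
  obtain ⟨la, hla, lb, hlb, rfl⟩ := exists_mul_of_mem_sup'
    (le_trans T.LB_le (le_normalizer_of_abelian T.hVab T.LA_le)) hw1
  have hlb1 : lb = 1 := by
    have h1 : lb ∈ Subgroup.centralizer (A : Set G) := by
      have := Subgroup.mul_mem _ (Subgroup.inv_mem _ (T.quadA hla)) hw2.1
      rwa [inv_mul_cancel_left] at this
    have : lb ∈ ⁅V, B⁆ ⊓ Subgroup.centralizer (A : Set G) := ⟨hlb, h1⟩
    rwa [T.inf_centralizer, Subgroup.mem_bot] at this
  have hla1 : la = 1 := by
    have h1 : la ∈ Subgroup.centralizer (B : Set G) := by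
      have := hw2.2
      rwa [hlb1, mul_one] at this
    have : la ∈ ⁅V, A⁆ ⊓ Subgroup.centralizer (B : Set G) := ⟨hla, h1⟩
    rwa [T.symm.inf_centralizer, Subgroup.mem_bot] at this
  rw [hla1, hlb1, mul_one, Subgroup.mem_bot]

theorem TPair.sup_fix (T : TPair p V A B) :
    ⁅V, A ⊔ B⁆ ⊔ (V ⊓ Subgroup.centralizer ((A ⊔ B : Subgroup G) : Set G)) = V := by
  have hpos : 0 < p := (Fact.out : p.Prime).pos
  set K : Subgroup G := V ⊓ Subgroup.centralizer ((A ⊔ B : Subgroup G) : Set G) with hK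
  have hWV : ⁅V, A ⊔ B⁆ ≤ V := commutator_le_left_of_le_normalizer V _ T.sup_le_normalizer
  have hle : ⁅V, A ⊔ B⁆ ⊔ K ≤ V := sup_le hWV inf_le_left
  apply Subgroup.eq_of_le_of_card_ge hle
  have hcard : Nat.card ↥(⁅V, A ⊔ B⁆ ⊔ K : Subgroup G) = p ^ 2 * Nat.card K := by
    rw [card_sup_of_disjoint _ _ _ T.inf_fix, T.card_commutator]
    exact le_trans hWV (le_normalizer_of_abelian T.hVab inf_le_left)
  rw [hcard]
  have hKeq : K = (V ⊓ Subgroup.centralizer (A : Set G)) ⊓ (V ⊓ Subgroup.centralizer (B : Set G)) := by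
    rw [hK, centralizer_sup]
    ext g
    simp only [Subgroup.mem_inf]
    tauto
  have hrA : (V ⊓ Subgroup.centralizer (A : Set G)).relIndex V = p := by
    have h1 := card_mul_relIndex_of_le (inf_le_left : V ⊓ Subgroup.centralizer (A : Set G) ≤ V)
    have h2 := T.hKA
    have hpos' : 0 < Nat.card ↥(V ⊓ Subgroup.centralizer (A : Set G)) := Nat.card_pos
    rw [← h2] at h1
    exact Nat.eq_of_mul_eq_mul_left hpos' (by rw [h1, mul_comm])
  have hrB : (V ⊓ Subgroup.centralizer (B : Set G)).relIndex V = p := by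
    have h1 := card_mul_relIndex_of_le (inf_le_left : V ⊓ Subgroup.centralizer (B : Set G) ≤ V)
    have h2 := T.hKB
    have hpos' : 0 < Nat.card ↥(V ⊓ Subgroup.centralizer (B : Set G)) := Nat.card_pos
    rw [← h2] at h1
    exact Nat.eq_of_mul_eq_mul_left hpos' (by rw [h1, mul_comm])
  have hrK : K.relIndex V ≤ p ^ 2 := by
    rw [hKeq, sq]
    calc _ ≤ (V ⊓ Subgroup.centralizer (A : Set G)).relIndex V *
          (V ⊓ Subgroup.centralizer (B : Set G)).relIndex V := Subgroup.relIndex_inf_le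
      _ = p * p := by rw [hrA, hrB]
  have h5 := card_mul_relIndex_of_le (inf_le_left : K ≤ V)
  rw [← h5, mul_comm]
  exact Nat.mul_le_mul_right _ hrK

theorem TPair.centralizer_le (T : TPair p V A B) :
    (A ⊔ B) ⊓ Subgroup.centralizer ((⁅V, A ⊔ B⁆ : Subgroup G) : Set G) ≤
      Subgroup.centralizer (V : Set G) := by
  rintro g ⟨hg1, hg2⟩
  have h1 : ⁅V, A ⊔ B⁆ ≤ Subgroup.centralizer ({g} : Set G) := by
    intro w hw
    rw [Subgroup.mem_centralizer_iff]
    intro x hx
    rw [Set.mem_singleton_iff] at hx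
    rw [hx]
    exact ((Subgroup.mem_centralizer_iff.mp hg2) w hw).symm
  have h2 : V ⊓ Subgroup.centralizer ((A ⊔ B : Subgroup G) : Set G) ≤
      Subgroup.centralizer ({g} : Set G) := by
    rintro w ⟨-, hw⟩
    rw [Subgroup.mem_centralizer_iff]
    intro x hx
    rw [Set.mem_singleton_iff] at hx
    rw [hx]
    exact (Subgroup.mem_centralizer_iff.mp hw) g hg1
  have h3 : V ≤ Subgroup.centralizer ({g} : Set G) := by
    conv_lhs => rw [← T.sup_fix]
    exact sup_le h1 h2
  rw [Subgroup.mem_centralizer_iff]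
  intro v hv
  have := Subgroup.mem_centralizer_iff.mp (h3 hv) g rfl
  exact this.symm

end tpair

end Cfsg.Agent.Lib.Lead.KS93
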