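import Mathlib
import Cfsg.Agent.Lib.Lead.Quad9
import Cfsg.Agent.Lib.Lead.SL2y

set_option autoImplicit false

namespace Cfsg.Agent.Lib.Lead.KS93

open Cfsg.Agent.Lib.Lead

section iso
variable {p : ℕ} [Fact p.Prime]

theorem xs_pow' (s : ZMod p) (n : ℕ) : SL2.xs s ^ n = SL2.xs ((n : ZMod p) * s) := by
  induction n with
  | zero => simp [SL2.xs_zero]
  | succ n ih => rw [pow_succ, ih, ← SL2.xs_add, Nat.cast_succ, add_mul, one_mul]

/-- a faithful action on an elementary abelian group of rank two generated by two "transvections"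
with distinct centres and axes is `SL₂(p)`. -/
theorem iso_of_twoDim_action' {Γ : Type*} [Group Γ] {W : Type*} [CommGroup W]
    (hexp : ∀ w : W, w ^ p = 1) (φ : Γ →* MulAut W) (hφ : ∀ g, φ g = 1 → g = 1)
    (a b : Γ) (hgen : Subgroup.closure {a, b} = ⊤) (e1 e2 : W) (k : ℤ)
    (hk : (k : ZMod p) ≠ 0) (x1 : φ a e1 = e1) (x2 : φ a e2 = e2 * e1 ^ k)
    (y1 : φ b e1 = e1 * e2) (y2 : φ b e2 = e2) (he2 : e2 ≠ 1)
    (hspan : ∀ w : W, ∃ k1 k2 : ℤ, w = e1 ^ k1 * e2 ^ k2) :
    ∃ e : Γ ≃* Matrix.SpecialLinearGroup (Fin 2) (ZMod p),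
      e a = SL2.xs (k : ZMod p) ∧ e b = SL2.ys 1 := by
  haveI instM : Module (ZMod p) (Additive W) := AddCommGroup.zmodModule (by
    intro m
    change Additive.ofMul (m.toMul ^ p) = 0
    rw [hexp]; rfl)
  set ρ := Quad.linRep (p := p) φ with hρ
  set j : ZMod p →+* Module.End (ZMod p) (Additive W) :=
    algebraMap (ZMod p) (Module.End (ZMod p) (Additive W)) with hj
  have hjk : ∀ (n : ℤ) (w : W), j (n : ZMod p) (Additive.ofMul w) = Additive.ofMul (w ^ n) := by
    intro n w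
    rw [hj, Module.algebraMap_end_apply, Int.cast_smul_eq_zsmul]
    rfl
  obtain ⟨T, hTθ⟩ : ∃ T : Quad.TwoDim ρ a b j, T.θ = (k : ZMod p) := ⟨
    { e1 := Additive.ofMul e1
      e2 := Additive.ofMul e2
      θ := (k : ZMod p)
      comm := fun g c => (Algebra.commutes c (ρ g)).symm
      x1 := by rw [hρ, Quad.linRep_apply]; exact congrArg Additive.ofMul x1
      x2 := by
        rw [hρ, Quad.linRep_apply, hjk]
        exact congrArg Additive.ofMul x2
      y1 := by rw [hρ, Quad.linRep_apply]; exact congrArg Additive.ofMul y1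
      y2 := by rw [hρ, Quad.linRep_apply]; exact congrArg Additive.ofMul y2
      e2_ne := by
        intro h
        exact he2 (congrArg Additive.toMul h)
      span := by
        intro m
        obtain ⟨k1, k2, h⟩ := hspan m.toMul
        refine ⟨(k1 : ZMod p), (k2 : ZMod p), ?_⟩
        rw [hjk, hjk]
        exact congrArg Additive.ofMul h }, rfl⟩
  have hinj : Function.Injective (T.hom hgen) := by
    rw [injective_iff_map_eq_one]
    intro g hg
    apply hφ
    have h1 : ρ g = 1 := (T.hom_eq_one_iff hgen g).mp hg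
    apply MulEquiv.ext
    intro w
    have h2 := congrArg (fun f => f (Additive.ofMul w)) h1
    simp only [hρ, Quad.linRep_apply, Module.End.one_apply] at h2
    exact congrArg Additive.toMul h2
  have hx : T.hom hgen a = SL2.xs (k : ZMod p) := Subtype.ext (by rw [← hTθ]; exact T.mat_x)
  have hy : T.hom hgen b = SL2.ys 1 := Subtype.ext T.mat_y
  have hsurj : Function.Surjective (T.hom hgen) := by
    rw [← MonoidHom.range_eq_top, eq_top_iff, ← SL2.closure_xs_ys_zmod p, Subgroup.closure_le]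
    rintro M (rfl | hM)
    · have : SL2.xs (1 : ZMod p) = (T.hom hgen a) ^ ((k : ZMod p)⁻¹).val := by
        rw [hx, xs_pow', ZMod.natCast_zmod_val, inv_mul_cancel₀ hk]
      rw [this]
      exact ⟨a ^ ((k : ZMod p)⁻¹).val, map_pow _ _ _⟩
    · rw [Set.mem_singleton_iff] at hM
      rw [hM]
      exact ⟨b, hy⟩
  exact ⟨MulEquiv.ofBijective (T.hom hgen) ⟨hinj, hsurj⟩, hx, hy⟩

theorem iso_of_twoDim_action {Γ : Type*} [Group Γ] {W : Type*} [CommGroup W]
    (hexp : ∀ w : W, w ^ p = 1) (φ : Γ →* MulAut W) (hφ : ∀ g, φ g = 1 → g = 1)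
    (a b : Γ) (hgen : Subgroup.closure {a, b} = ⊤) (e1 e2 : W) (k : ℤ)
    (hk : (k : ZMod p) ≠ 0) (x1 : φ a e1 = e1) (x2 : φ a e2 = e2 * e1 ^ k)
    (y1 : φ b e1 = e1 * e2) (y2 : φ b e2 = e2) (he2 : e2 ≠ 1)
    (hspan : ∀ w : W, ∃ k1 k2 : ℤ, w = e1 ^ k1 * e2 ^ k2) :
    Nonempty (Γ ≃* Matrix.SpecialLinearGroup (Fin 2) (ZMod p)) := by
  obtain ⟨e, -, -⟩ := iso_of_twoDim_action' hexp φ hφ a b hgen e1 e2 k hk x1 x2 y1 y2 he2 hspan
  exact ⟨e⟩

end iso

end Cfsg.Agent.Lib.Lead.KS93
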