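import Mathlib
import Cfsg.Agent.Lib.Lead.KS93i
import Cfsg.Agent.Lib.Lead.KS93j

set_option autoImplicit false

namespace Cfsg.Agent.Lib.Lead.KS93

open scoped commutatorElement
open Cfsg.Agent.Lib.Lead Cfsg.Agent.Lib.Helper6

section tpairiso
variable {G : Type*} [Group G] [Finite G] {p : ℕ} [Fact p.Prime] {V A B : Subgroup G}

theorem exists_gen_of_card_prime {A : Subgroup G} (hA : Nat.card A = p) :
    ∃ a ∈ A, a ≠ 1 ∧ A = Subgroup.zpowers a := by
  have hne : A ≠ ⊥ := by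
    intro h
    rw [h, Subgroup.card_bot] at hA
    exact (Fact.out : p.Prime).one_lt.ne hA
  obtain ⟨a, ha1⟩ := (Subgroup.ne_bot_iff_exists_ne_one).mp hne
  have ha1' : (a : G) ≠ 1 := fun h => ha1 (Subtype.ext h)
  exact ⟨a, a.2, ha1', eq_zpowers_of_card_prime hA a.2 ha1'⟩

theorem closure_pair_subtype_eq_top {E : Subgroup G} {a b : G} (haE : a ∈ E) (hbE : b ∈ E)
    (h : E = Subgroup.zpowers a ⊔ Subgroup.zpowers b) :
    Subgroup.closure ({⟨a, haE⟩, ⟨b, hbE⟩} : Set ↥E) = ⊤ := by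
  apply Subgroup.map_injective E.subtype_injective
  rw [MonoidHom.map_closure, ← MonoidHom.range_eq_map, Subgroup.range_subtype, Set.image_pair]
  simp only [Subgroup.subtype_apply]
  have : ({a, b} : Set G) = {a} ∪ {b} := by
    ext x; simp [or_comm]
  rw [this, Subgroup.closure_union, ← Subgroup.zpowers_eq_closure, ← Subgroup.zpowers_eq_closure]
  exact h.symm

/-- a faithful transvection pair generates `SL₂(p)`, with explicit images of generators -/
theorem TPair.iso' (T : TPair p V A B) (hexp : ∀ v ∈ V, v ^ p = 1) (hA : Nat.card A = p)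
    (hB : Nat.card B = p)
    (hf : (A ⊔ B) ⊓ Subgroup.centralizer (V : Set G) = ⊥)
    {a b : G} (haA : a ∈ A) (ha1 : a ≠ 1) (hbB : b ∈ B) (hb1 : b ≠ 1) :
    ∃ (θ : ZMod p) (e : ↥(A ⊔ B) ≃* Matrix.SpecialLinearGroup (Fin 2) (ZMod p)), θ ≠ 0 ∧
      e ⟨a, (le_sup_left : A ≤ A ⊔ B) haA⟩ = SL2.xs θ ∧
      e ⟨b, (le_sup_right : B ≤ A ⊔ B) hbB⟩ = SL2.ys 1 := by
  set E : Subgroup G := A ⊔ B with hE
  set W : Subgroup G := ⁅V, E⁆ with hW
  have hEV : E ≤ Subgroup.normalizer (V : Set G) := T.sup_le_normalizer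
  have hEW : E ≤ Subgroup.normalizer (W : Set G) := le_normalizer_commutator_right V E hEV
  have hWV : W ≤ V := commutator_le_left_of_le_normalizer V E hEV
  have hLaW : ⁅V, A⁆ ≤ W := Subgroup.commutator_mono le_rfl le_sup_left
  have hLbW : ⁅V, B⁆ ≤ W := Subgroup.commutator_mono le_rfl le_sup_right
  have hAz : A = Subgroup.zpowers a := eq_zpowers_of_card_prime hA haA ha1
  have hBz : B = Subgroup.zpowers b := eq_zpowers_of_card_prime hB hbB hb1
  obtain ⟨e1, he1L, he11, hLaz⟩ := exists_gen_of_card_prime T.hLA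
  have haE : a ∈ E := (le_sup_left : A ≤ E) haA
  have hbE : b ∈ E := (le_sup_right : B ≤ E) hbB
  have he1V : e1 ∈ V := T.LA_le he1L
  set e2 : G := ⁅b, e1⁆ with he2def
  have he2L : e2 ∈ ⁅V, B⁆ := by
    rw [he2def, ← commutatorElement_inv]
    exact Subgroup.inv_mem _ (Subgroup.commutator_mem_commutator he1V hbB)
  have he2V : e2 ∈ V := T.LB_le he2L
  -- f1
  have f1 : a * e1 * a⁻¹ = e1 := by
    have := Subgroup.mem_centralizer_iff.mp (T.quadA he1L) a haA
    rw [this, mul_inv_cancel_right]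
  -- f3
  have f3 : e2 ≠ 1 := by
    intro h
    rw [he2def, commutatorElement_eq_one_iff_mul_comm] at h
    have h1 : e1 ∈ Subgroup.centralizer (B : Set G) := by
      rw [hBz, mem_centralizer_zpowers_iff]
      exact h.symm
    have h2 : e1 ∈ ⁅V, A⁆ ⊓ Subgroup.centralizer (B : Set G) := ⟨he1L, h1⟩
    rw [T.symm.inf_centralizer, Subgroup.mem_bot] at h2
    exact he11 h2
  -- f4
  have f4 : b * e1 * b⁻¹ = e1 * e2 := by
    rw [T.hVab e1 he1V e2 he2V, he2def, commutatorElement_def]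
    group
  -- f5
  have f5 : b * e2 * b⁻¹ = e2 := by
    have := Subgroup.mem_centralizer_iff.mp (T.quadB he2L) b hbB
    rw [this, mul_inv_cancel_right]
  -- f6
  have hc : e2⁻¹ * (a * e2 * a⁻¹) ∈ ⁅V, A⁆ := by
    have e : e2⁻¹ * (a * e2 * a⁻¹) = ⁅e2⁻¹, a⁆ := by
      rw [commutatorElement_def]; group
    rw [e]
    exact Subgroup.commutator_mem_commutator (V.inv_mem he2V) haA
  rw [hLaz] at hc
  obtain ⟨k, hk⟩ := Subgroup.mem_zpowers_iff.mp hc
  have f6 : a * e2 * a⁻¹ = e2 * e1 ^ k := by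
    rw [hk, mul_inv_cancel_left]
  have hkne : (k : ZMod p) ≠ 0 := by
    intro h0
    have hdvd : (p : ℤ) ∣ k := (ZMod.intCast_zmod_eq_zero_iff_dvd k p).mp h0
    have h1 : e1 ^ k = 1 := by
      rw [← orderOf_dvd_iff_zpow_eq_one]
      exact dvd_trans (Int.natCast_dvd_natCast.mpr (orderOf_dvd_of_pow_eq_one (hexp e1 he1V))) hdvd
    rw [h1, mul_one] at f6
    have h2 : e2 ∈ Subgroup.centralizer (A : Set G) := by
      rw [hAz, mem_centralizer_zpowers_iff]
      have : a * e2 = e2 * a := by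
        calc a * e2 = a * e2 * a⁻¹ * a := by group
          _ = e2 * a := by rw [f6]
      exact this.symm
    have h3 : e2 ∈ ⁅V, B⁆ ⊓ Subgroup.centralizer (A : Set G) := ⟨he2L, h2⟩
    rw [T.inf_centralizer, Subgroup.mem_bot] at h3
    exact f3 h3
  obtain ⟨e2g, -, -, hLbz⟩ : ∃ g ∈ ⁅V, B⁆, g ≠ 1 ∧ ⁅V, B⁆ = Subgroup.zpowers g :=
    exists_gen_of_card_prime T.hLB
  have hLbz' : ⁅V, B⁆ = Subgroup.zpowers e2 := eq_zpowers_of_card_prime T.hLB he2L f3
  -- the commutative group structure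
  letI : CommGroup ↥W :=
    { (inferInstance : Group ↥W) with
      mul_comm := fun x y => Subtype.ext (T.hVab x (hWV x.2) y (hWV y.2)) }
  have hgen : Subgroup.closure ({⟨a, haE⟩, ⟨b, hbE⟩} : Set ↥E) = ⊤ :=
    closure_pair_subtype_eq_top haE hbE (by rw [hE, hAz, hBz])
  suffices hmain : ∃ e : ↥E ≃* Matrix.SpecialLinearGroup (Fin 2) (ZMod p),
      e ⟨a, haE⟩ = SL2.xs (k : ZMod p) ∧ e ⟨b, hbE⟩ = SL2.ys 1 by
    obtain ⟨e, h1, h2⟩ := hmain
    exact ⟨(k : ZMod p), e, hkne, h1, h2⟩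
  refine iso_of_twoDim_action' (p := p) (Γ := ↥E) (W := ↥W) ?_ (Quad.conjAct W E hEW) ?_
    ⟨a, haE⟩ ⟨b, hbE⟩ hgen ⟨e1, hLaW he1L⟩ ⟨e2, hLbW he2L⟩ k hkne ?_ ?_ ?_ ?_ ?_ ?_
  · intro w
    apply Subtype.ext
    simpa using hexp w (hWV w.2)
  · intro g hg
    have h1 : (g : G) ∈ Subgroup.centralizer (W : Set G) := by
      rw [Subgroup.mem_centralizer_iff]
      intro w hw
      have h2 := congrArg (fun f => ((f ⟨w, hw⟩ : ↥W) : G)) hg
      simp only [Quad.conjAct_apply, MulAut.one_apply] at h2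
      calc w * (g : G) = (g : G) * w * (g : G)⁻¹ * (g : G) := by rw [h2]
        _ = (g : G) * w := by group
    have h3 : (g : G) ∈ E ⊓ Subgroup.centralizer (V : Set G) :=
      ⟨g.2, T.centralizer_le ⟨g.2, h1⟩⟩
    rw [hf, Subgroup.mem_bot] at h3
    exact Subtype.ext h3
  · apply Subtype.ext
    rw [Quad.conjAct_apply]
    exact f1
  · apply Subtype.ext
    rw [Quad.conjAct_apply, Subgroup.coe_mul, Subgroup.coe_zpow]
    exact f6
  · apply Subtype.ext
    rw [Quad.conjAct_apply, Subgroup.coe_mul]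
    exact f4
  · apply Subtype.ext
    rw [Quad.conjAct_apply]
    exact f5
  · intro h
    exact f3 (congrArg Subtype.val h)
  · intro w
    have hw : (w : G) ∈ ⁅V, A⁆ ⊔ ⁅V, B⁆ := by
      rw [← T.commutator_sup]; exact w.2
    obtain ⟨la, hla, lb, hlb, hwe⟩ := exists_mul_of_mem_sup'
      (le_trans T.LB_le (le_normalizer_of_abelian T.hVab T.LA_le)) hw
    rw [hLaz] at hla
    rw [hLbz'] at hlb
    obtain ⟨k1, hk1⟩ := Subgroup.mem_zpowers_iff.mp hla
    obtain ⟨k2, hk2⟩ := Subgroup.mem_zpowers_iff.mp hlb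
    refine ⟨k1, k2, ?_⟩
    apply Subtype.ext
    rw [Subgroup.coe_mul, Subgroup.coe_zpow, Subgroup.coe_zpow]
    rw [hwe, ← hk1, ← hk2]

/-- a faithful transvection pair generates `SL₂(p)` -/
theorem TPair.iso (T : TPair p V A B) (hexp : ∀ v ∈ V, v ^ p = 1) (hA : Nat.card A = p)
    (hB : Nat.card B = p)
    (hf : (A ⊔ B) ⊓ Subgroup.centralizer (V : Set G) = ⊥) :
    Nonempty (↥(A ⊔ B) ≃* Matrix.SpecialLinearGroup (Fin 2) (ZMod p)) := by
  obtain ⟨a, haA, ha1, -⟩ := exists_gen_of_card_prime hA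
  obtain ⟨b, hbB, hb1, -⟩ := exists_gen_of_card_prime hB
  obtain ⟨θ, e, -, -, -⟩ := T.iso' hexp hA hB hf haA ha1 hbB hb1
  exact ⟨e⟩

end tpairiso

end Cfsg.Agent.Lib.Lead.KS93
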