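import Mathlib
import Cfsg.Agent.Lib.Lead.KS93k

set_option autoImplicit false

namespace Cfsg.Agent.Lib.Lead.KS93

open scoped commutatorElement
open Cfsg.Agent.Lib.Lead

section sl2
variable {p : ℕ} [Fact p.Prime]

/-- the diagonal element `diag(2, 2⁻¹)` -/
def dtwo (h2 : (2 : ZMod p) ≠ 0) : Matrix.SpecialLinearGroup (Fin 2) (ZMod p) :=
  ⟨!![2, 0; 0, 2⁻¹], by simp [Matrix.det_fin_two, mul_inv_cancel₀ h2]⟩

theorem dtwo_comm (h2 : (2 : ZMod p) ≠ 0) : ⁅dtwo h2, SL2.xs (1 : ZMod p)⁆ = SL2.xs 3 := by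
  have e : dtwo h2 * SL2.xs (1 : ZMod p) = SL2.xs 3 * SL2.xs 1 * dtwo h2 := by
    apply Subtype.ext
    show !![2, 0; 0, 2⁻¹] * !![1, (1 : ZMod p); 0, 1] =
      !![1, (3 : ZMod p); 0, 1] * !![1, (1 : ZMod p); 0, 1] * !![2, 0; 0, 2⁻¹]
    ext i j
    fin_cases i <;> fin_cases j <;> simp [Matrix.mul_apply, Fin.sum_univ_two]
    field_simp
    norm_num
  rw [commutatorElement_def, e]
  group

/-- if `SL₂(p)` has a normal `p'`-subgroup with abelian quotient then `p ≤ 3` -/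
theorem le_three_of_sl2 {Γ : Type*} [Group Γ] [Finite Γ]
    (e : Γ ≃* Matrix.SpecialLinearGroup (Fin 2) (ZMod p)) (N : Subgroup Γ)
    (hN : ∀ g h : Γ, ⁅g, h⁆ ∈ N) (hcop : (Nat.card N).Coprime p) : p = 2 ∨ p = 3 := by
  by_contra hp
  push_neg at hp
  have hpp : p.Prime := Fact.out
  have h2 : (2 : ZMod p) ≠ 0 := by
    intro h
    have : ((2 : ℕ) : ZMod p) = 0 := by exact_mod_cast h
    rw [ZMod.natCast_eq_zero_iff] at this
    exact hp.1 ((Nat.prime_dvd_prime_iff_eq hpp Nat.prime_two).mp this)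
  have h3 : (3 : ZMod p) ≠ 0 := by
    intro h
    have : ((3 : ℕ) : ZMod p) = 0 := by exact_mod_cast h
    rw [ZMod.natCast_eq_zero_iff] at this
    exact hp.2 ((Nat.prime_dvd_prime_iff_eq hpp Nat.prime_three).mp this)
  set g : Γ := ⁅e.symm (dtwo h2), e.symm (SL2.xs 1)⁆ with hg
  have hgN : g ∈ N := hN _ _
  have heg : e g = SL2.xs 3 := by
    rw [hg, map_commutatorElement, MulEquiv.apply_symm_apply, MulEquiv.apply_symm_apply, dtwo_comm]
  have hgp : g ^ p = 1 := by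
    apply e.injective
    rw [map_pow, heg, xs_pow', map_one]
    simp [SL2.xs_zero]
  have hg1 : g ≠ 1 := by
    intro h
    rw [h, map_one] at heg
    have := congrArg (fun M : Matrix.SpecialLinearGroup (Fin 2) (ZMod p) =>
      (M : Matrix (Fin 2) (Fin 2) (ZMod p)) 0 1) heg
    simp [SL2.xs] at this
    exact h3 this.symm
  have ho : orderOf (⟨g, hgN⟩ : N) ∣ p := by
    apply orderOf_dvd_of_pow_eq_one
    apply Subtype.ext
    simpa using hgp
  have ho2 : orderOf (⟨g, hgN⟩ : N) ∣ Nat.card N := orderOf_dvd_natCard _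
  have h1 : orderOf (⟨g, hgN⟩ : N) = 1 := Nat.eq_one_of_dvd_coprimes hcop ho2 ho
  rw [orderOf_eq_one_iff] at h1
  exact hg1 (congrArg Subtype.val h1)

end sl2

end Cfsg.Agent.Lib.Lead.KS93
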