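import Mathlib
import Cfsg.Agent.Lib.Lead.KS93l

set_option autoImplicit false

namespace Cfsg.Agent.Lib.Lead.KS93

open scoped commutatorElement
open Cfsg.Agent.Lib.Lead Cfsg.Agent.Lib.Helper6

section conjpair
variable {G : Type*} [Group G]

theorem map_conj_eq_of_mem_normalizer {V : Subgroup G} {x : G}
    (hx : x ∈ Subgroup.normalizer (V : Set G)) : V.map (MulAut.conj x).toMonoidHom = V := by
  ext g
  constructor
  · rintro ⟨v, hv, rfl⟩
    exact (Subgroup.mem_normalizer_iff.mp hx v).mp hv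
  · intro hg
    refine ⟨x⁻¹ * g * x, ?_, ?_⟩
    · have := (Subgroup.mem_normalizer_iff.mp (Subgroup.inv_mem _ hx) g).mp hg
      simpa using this
    · simp [MulAut.conj_apply]
      group

/-- commutators of elements of `Q ⊔ A` (with `A` abelian normalizing `Q`) lie in `Q` -/
theorem commutator_mem_of_mem_sup {Q A : Subgroup G} (hAQ : A ≤ Subgroup.normalizer (Q : Set G))
    (hab : ∀ a ∈ A, ∀ b ∈ A, a * b = b * a) {g h : G} (hg : g ∈ Q ⊔ A) (hh : h ∈ Q ⊔ A) :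
    ⁅g, h⁆ ∈ Q := by
  obtain ⟨q1, hq1, a1, ha1, rfl⟩ := exists_mul_of_mem_sup' hAQ hg
  obtain ⟨q2, hq2, a2, ha2, rfl⟩ := exists_mul_of_mem_sup' hAQ hh
  have e : ⁅q1 * a1, q2 * a2⁆ =
      q1 * (a1 * q2 * a1⁻¹) * (a1 * a2 * a1⁻¹ * a2⁻¹) * (a2 * q1⁻¹ * a2⁻¹) * q2⁻¹ := by
    rw [commutatorElement_def]; group
  have e2 : a1 * a2 * a1⁻¹ * a2⁻¹ = 1 := by
    rw [hab a1 ha1 a2 ha2]; group
  rw [e, e2, mul_one]
  refine Q.mul_mem (Q.mul_mem (Q.mul_mem hq1 ?_) ?_) (Q.inv_mem hq2)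
  · exact (Subgroup.mem_normalizer_iff.mp (hAQ ha1) q2).mp hq2
  · exact (Subgroup.mem_normalizer_iff.mp (hAQ ha2) q1⁻¹).mp (Q.inv_mem hq1)

variable [Finite G] {p : ℕ} [Fact p.Prime] {V H Q : Subgroup G}

/-- data of a minimal offender `A` and a conjugate by a non-centralizing element of `Q` -/
theorem conjPair (S : Setup p V H Q) {A : Subgroup G} (hAH : A ≤ H)
    (hA : Cfsg.IsBestOffenderOn p V A) (hA1 : A ≠ ⊥)
    (hmin : ∀ B : Subgroup G, B ≤ A → Cfsg.IsBestOffenderOn p V B → B ≠ ⊥ → B = A)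
    {x : G} (hx : x ∈ Q) (hxA : x ∉ Subgroup.centralizer (A : Set G)) :
    TPair p V A (A.map (MulAut.conj x).toMonoidHom) ∧
      Nat.card ↥(A.map (MulAut.conj x).toMonoidHom) = p ∧
      A ⊔ A.map (MulAut.conj x).toMonoidHom ≤ H ∧
      A ⊔ A.map (MulAut.conj x).toMonoidHom ≤ Q ⊔ A := by
  obtain ⟨hcA, hLA, hKA⟩ := minimal_data S hAH hA hA1 hmin
  have hVab : ∀ x ∈ V, ∀ y ∈ V, x * y = y * x := by
    intro x hx y hy
    have h1 := S.hV.1.is_comm.comm (⟨x, hx⟩ : V) ⟨y, hy⟩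
    exact congrArg Subtype.val h1
  have hxH : x ∈ H := S.hQH hx
  have hxV : x ∈ Subgroup.normalizer (V : Set G) := S.hHV hxH
  set B : Subgroup G := A.map (MulAut.conj x).toMonoidHom with hB
  have hBH : B ≤ H := by
    rintro _ ⟨a, ha, rfl⟩
    simp only [MulEquiv.coe_toMonoidHom, MulAut.conj_apply]
    exact H.mul_mem (H.mul_mem hxH (hAH ha)) (H.inv_mem hxH)
  have hcB : Nat.card B = p := by
    rw [hB, Subgroup.card_map_of_injective (MulAut.conj x).injective, hcA]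
  have hLB : Nat.card ↥(⁅V, B⁆) = p := by
    have h1 : ⁅V, B⁆ = (⁅V, A⁆).map (MulAut.conj x).toMonoidHom := by
      rw [Subgroup.map_commutator, map_conj_eq_of_mem_normalizer hxV]
    rw [h1, Subgroup.card_map_of_injective (MulAut.conj x).injective, hLA]
  obtain ⟨a, haA, ha1, hAz⟩ := exists_gen_of_card_prime hcA
  obtain ⟨b, hbB, hb1, hBz⟩ := exists_gen_of_card_prime hcB
  have hKB : p * Nat.card ↥(V ⊓ Subgroup.centralizer (B : Set G)) = Nat.card V := by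
    have := card_commutator_zpowers_mul V hVab b (S.hHV (hBH hbB))
    rw [← hBz, hLB] at this
    exact this
  have hAE : A ≤ A ⊔ B := le_sup_left
  have hBE : B ≤ A ⊔ B := le_sup_right
  have hQp : ∀ q ∈ Q, (orderOf q).Coprime p := by
    intro q hq
    have : orderOf q ∣ Nat.card Q := by
      have := orderOf_dvd_natCard (⟨q, hq⟩ : Q)
      rwa [Subgroup.orderOf_mk] at this
    exact Nat.Coprime.coprime_dvd_left this S.hQc
  refine ⟨⟨hVab, isPGroup_V S, le_trans hAH S.hHV, le_trans hBH S.hHV,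
    isPGroup_of_bestOffender S hAH hA, IsPGroup.of_card (n := 1) (by rw [hcB, pow_one]),
    hLA, hLB, hKA, hKB, ?_⟩, hcB, sup_le hAH hBH, ?_⟩
  · refine ⟨x * a * x⁻¹ * a⁻¹, ?_, ?_, ?_⟩
    · exact Subgroup.mul_mem _ (hBE ⟨a, haA, by simp [MulAut.conj_apply]⟩)
        (Subgroup.inv_mem _ (hAE haA))
    · apply hQp
      have e : x * a * x⁻¹ * a⁻¹ = x * (a * x⁻¹ * a⁻¹) := by group
      rw [e]
      exact Q.mul_mem hx ((Subgroup.mem_normalizer_iff.mp (S.hQn (hAH haA)) x⁻¹).mp (Q.inv_mem hx))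
    · intro hc
      have h1 : x * a * x⁻¹ * a⁻¹ ∈ H ⊓ Subgroup.centralizer (V : Set G) :=
        ⟨H.mul_mem (H.mul_mem (H.mul_mem hxH (hAH haA)) (H.inv_mem hxH)) (H.inv_mem (hAH haA)), hc⟩
      rw [S.hf, Subgroup.mem_bot] at h1
      apply hxA
      rw [hAz, mem_centralizer_zpowers_iff]
      calc x * a = x * a * x⁻¹ * a⁻¹ * (a * x) := by group
        _ = a * x := by rw [h1, one_mul]
  · apply sup_le le_sup_right
    rintro _ ⟨a', ha', rfl⟩
    simp only [MulEquiv.coe_toMonoidHom, MulAut.conj_apply]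
    have e : x * a' * x⁻¹ = (x * (a' * x⁻¹ * a'⁻¹)) * a' := by group
    rw [e]
    exact Subgroup.mul_mem _ (le_sup_left (a := Q) (b := A)
      (Q.mul_mem hx ((Subgroup.mem_normalizer_iff.mp (S.hQn (hAH ha')) x⁻¹).mp (Q.inv_mem hx))))
      (le_sup_right (a := Q) (b := A) ha')

end conjpair

end Cfsg.Agent.Lib.Lead.KS93
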