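import Mathlib
import Cfsg.Agent.Lib.Lead.KS93m
import Cfsg.Agent.Lib.Lead.SCN

set_option autoImplicit false

namespace Cfsg.Agent.Lib.Lead.KS93

open scoped commutatorElement
open Cfsg.Agent.Lib.Lead Cfsg.Agent.Lib.Helper6

section conjinv
variable {G : Type*} [Group G]

theorem map_centralizer_equiv (f : G ≃* G) (B : Subgroup G) :
    (Subgroup.centralizer (B : Set G)).map f.toMonoidHom =
      Subgroup.centralizer ((B.map f.toMonoidHom : Subgroup G) : Set G) := by
  ext x
  constructor
  · rintro ⟨y, hy, rfl⟩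
    rw [Subgroup.mem_centralizer_iff]
    rintro _ ⟨b, hb, rfl⟩
    have := Subgroup.mem_centralizer_iff.mp hy b hb
    simp only [MulEquiv.coe_toMonoidHom]
    rw [← map_mul, ← map_mul, this]
  · intro hx
    refine ⟨f.symm x, ?_, by simp⟩
    rw [SetLike.mem_coe, Subgroup.mem_centralizer_iff]
    intro b hb
    have := Subgroup.mem_centralizer_iff.mp hx (f b) ⟨b, hb, rfl⟩
    apply f.injective
    rw [map_mul, map_mul, MulEquiv.apply_symm_apply]
    exact this

theorem map_conj_centralizer_of_mem_normalizer {V : Subgroup G} {h : G}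
    (hh : h ∈ Subgroup.normalizer (V : Set G)) :
    (Subgroup.centralizer (V : Set G)).map (MulAut.conj h).toMonoidHom =
      Subgroup.centralizer (V : Set G) := by
  rw [map_centralizer_equiv, map_conj_eq_of_mem_normalizer hh]

theorem card_inf_centralizer_map_conj {V : Subgroup G} {h : G}
    (hh : h ∈ Subgroup.normalizer (V : Set G)) (B : Subgroup G) :
    Nat.card ↥(V ⊓ Subgroup.centralizer ((B.map (MulAut.conj h).toMonoidHom : Subgroup G) : Set G)) =
      Nat.card ↥(V ⊓ Subgroup.centralizer (B : Set G)) := by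
  have h1 : (V ⊓ Subgroup.centralizer (B : Set G)).map (MulAut.conj h).toMonoidHom =
      V ⊓ Subgroup.centralizer ((B.map (MulAut.conj h).toMonoidHom : Subgroup G) : Set G) := by
    rw [Subgroup.map_inf _ _ _ (MulAut.conj h).injective, map_centralizer_equiv,
      map_conj_eq_of_mem_normalizer hh]
  rw [← h1, Subgroup.card_map_of_injective (MulAut.conj h).injective]

theorem map_conj_map_conj_inv (h : G) (B : Subgroup G) :
    (B.map (MulAut.conj h⁻¹).toMonoidHom).map (MulAut.conj h).toMonoidHom = B := by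
  rw [Subgroup.map_map]
  have : (MulAut.conj h).toMonoidHom.comp (MulAut.conj h⁻¹).toMonoidHom = MonoidHom.id G := by
    ext g
    simp [MulAut.conj_apply]
    group
  rw [this, Subgroup.map_id]

theorem map_conj_inv_map_conj (h : G) (B : Subgroup G) :
    (B.map (MulAut.conj h).toMonoidHom).map (MulAut.conj h⁻¹).toMonoidHom = B := by
  have := map_conj_map_conj_inv h⁻¹ B
  rwa [inv_inv] at this

theorem map_conj_mul (g h : G) (B : Subgroup G) :
    B.map (MulAut.conj (g * h)).toMonoidHom =
      (B.map (MulAut.conj h).toMonoidHom).map (MulAut.conj g).toMonoidHom := by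
  rw [Subgroup.map_map]
  congr 1
  ext x
  simp [MulAut.conj_apply, mul_assoc]

variable {p : ℕ}

theorem bestOffender_conj {V A : Subgroup G} {h : G} (hh : h ∈ Subgroup.normalizer (V : Set G))
    (hA : Cfsg.IsBestOffenderOn p V A) :
    Cfsg.IsBestOffenderOn p V (A.map (MulAut.conj h).toMonoidHom) := by
  obtain ⟨h1, h2, h3⟩ := hA
  refine ⟨?_, ?_, ?_⟩
  · intro B' hB'
    obtain ⟨B, hBB', hBA⟩ : ∃ B : Subgroup G, B' = B.map (MulAut.conj h).toMonoidHom ∧ B ≤ A := by
      refine ⟨B'.map (MulAut.conj h⁻¹).toMonoidHom, (map_conj_map_conj_inv h B').symm, ?_⟩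
      rw [← map_conj_inv_map_conj h A]
      exact Subgroup.map_mono hB'
    rw [hBB', Subgroup.card_map_of_injective (MulAut.conj h).injective,
      Subgroup.card_map_of_injective (MulAut.conj h).injective,
      card_inf_centralizer_map_conj hh, card_inf_centralizer_map_conj hh]
    exact h1 B hBA
  · rw [← Subgroup.map_commutator, ← map_conj_centralizer_of_mem_normalizer hh]
    exact Subgroup.map_mono h2
  · rintro _ ⟨a, ha, rfl⟩
    rw [← map_pow, ← map_conj_centralizer_of_mem_normalizer hh]
    exact ⟨a ^ p, h3 a ha, rfl⟩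

theorem minimal_conj {V A : Subgroup G} {h : G} (hh : h ∈ Subgroup.normalizer (V : Set G))
    (hmin : ∀ B : Subgroup G, B ≤ A → Cfsg.IsBestOffenderOn p V B → B ≠ ⊥ → B = A) :
    ∀ B : Subgroup G, B ≤ A.map (MulAut.conj h).toMonoidHom → Cfsg.IsBestOffenderOn p V B →
      B ≠ ⊥ → B = A.map (MulAut.conj h).toMonoidHom := by
  intro B' hB' hoff hne
  obtain ⟨B, hBB', hBA, hBoff⟩ : ∃ B : Subgroup G, B' = B.map (MulAut.conj h).toMonoidHom ∧ B ≤ A ∧
      Cfsg.IsBestOffenderOn p V B := by
    refine ⟨B'.map (MulAut.conj h⁻¹).toMonoidHom, (map_conj_map_conj_inv h B').symm, ?_,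
      bestOffender_conj (Subgroup.inv_mem _ hh) hoff⟩
    rw [← map_conj_inv_map_conj h A]
    exact Subgroup.map_mono hB'
  have hBne : B ≠ ⊥ := by
    intro h0
    apply hne
    rw [hBB', h0, Subgroup.map_bot]
  rw [hBB', hmin B hBA hBoff hBne]

end conjinv

end Cfsg.Agent.Lib.Lead.KS93
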