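import Mathlib
import Cfsg.Agent.Lib.Lead.KS93n

set_option autoImplicit false

namespace Cfsg.Agent.Lib.Lead.KS93

open scoped commutatorElement
open Cfsg.Agent.Lib.Lead Cfsg.Agent.Lib.Helper6

section cover
variable {G : Type*} [Group G] [Finite G] {p : ℕ} [Fact p.Prime] {V A B : Subgroup G}

/-- every vector of `V` is fixed by `B` or by a `B`-conjugate of `A` -/
theorem TPair.cover (T : TPair p V A B) {v : G} (hv : v ∈ V) :
    v ∈ Subgroup.centralizer (B : Set G) ∨ ∃ g ∈ B,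
      v ∈ Subgroup.centralizer ((A.map (MulAut.conj g).toMonoidHom : Subgroup G) : Set G) := by
  have hWV : ⁅V, A ⊔ B⁆ ≤ V := commutator_le_left_of_le_normalizer V _ T.sup_le_normalizer
  have hv' : v ∈ ⁅V, A ⊔ B⁆ ⊔ (V ⊓ Subgroup.centralizer ((A ⊔ B : Subgroup G) : Set G)) := by
    rw [T.sup_fix]; exact hv
  obtain ⟨w, hw, k, hk, rfl⟩ := exists_mul_of_mem_sup'
    (le_trans inf_le_left (le_normalizer_of_abelian T.hVab hWV)) hv'
  rw [T.commutator_sup] at hw
  obtain ⟨la, hla, lb, hlb, rfl⟩ := exists_mul_of_mem_sup'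
    (le_trans T.LB_le (le_normalizer_of_abelian T.hVab T.LA_le)) hw
  have hkE := hk.2
  rw [centralizer_sup] at hkE
  by_cases h1 : la = 1
  · left
    rw [h1, one_mul]
    exact Subgroup.mul_mem _ (T.quadB hlb) hkE.2
  · right
    have hlaB : la ∉ Subgroup.centralizer (B : Set G) := by
      intro h
      have : la ∈ ⁅V, A⁆ ⊓ Subgroup.centralizer (B : Set G) := ⟨hla, h⟩
      rw [T.symm.inf_centralizer, Subgroup.mem_bot] at this
      exact h1 this
    rw [Subgroup.mem_centralizer_iff] at hlaB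
    push_neg at hlaB
    obtain ⟨b, hbB, hb⟩ := hlaB
    have hlaV : la ∈ V := T.LA_le hla
    set e2 : G := ⁅b, la⁆ with he2def
    have he2L : e2 ∈ ⁅V, B⁆ := by
      rw [he2def, ← commutatorElement_inv]
      exact Subgroup.inv_mem _ (Subgroup.commutator_mem_commutator hlaV hbB)
    have he2V : e2 ∈ V := T.LB_le he2L
    have he2ne : e2 ≠ 1 := by
      intro h
      rw [he2def, commutatorElement_eq_one_iff_mul_comm] at h
      exact hb h
    have hLbz : ⁅V, B⁆ = Subgroup.zpowers e2 := eq_zpowers_of_card_prime T.hLB he2L he2ne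
    rw [hLbz, ← mem_powers_iff_mem_zpowers, Submonoid.mem_powers_iff] at hlb
    obtain ⟨m, hm⟩ := hlb
    have f4 : b * la * b⁻¹ = la * e2 := by
      rw [T.hVab la hlaV e2 he2V, he2def, commutatorElement_def]
      group
    have f5 : b * e2 * b⁻¹ = e2 := by
      have := Subgroup.mem_centralizer_iff.mp (T.quadB he2L) b hbB
      rw [this, mul_inv_cancel_right]
    have key : ∀ n : ℕ, b ^ n * la * (b ^ n)⁻¹ = la * e2 ^ n := by
      intro n
      induction n with
      | zero => simp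
      | succ n ih =>
        have e : b ^ (n + 1) * la * (b ^ (n + 1))⁻¹ = b * (b ^ n * la * (b ^ n)⁻¹) * b⁻¹ := by
          rw [pow_succ']; group
        rw [e, ih]
        have e' : b * (la * e2 ^ n) * b⁻¹ = (b * la * b⁻¹) * (b * e2 * b⁻¹) ^ n := by
          rw [conj_pow]; group
        rw [e', f4, f5, pow_succ, mul_assoc]
        rw [← pow_succ, ← pow_succ']
    refine ⟨b ^ m, B.pow_mem hbB m, ?_⟩
    have hAE : A.map (MulAut.conj (b ^ m)).toMonoidHom ≤ A ⊔ B := by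
      rintro _ ⟨a, ha, rfl⟩
      simp only [MulEquiv.coe_toMonoidHom, MulAut.conj_apply]
      have hbm : b ^ m ∈ A ⊔ B := (le_sup_right : B ≤ A ⊔ B) (B.pow_mem hbB m)
      exact Subgroup.mul_mem _ (Subgroup.mul_mem _ hbm ((le_sup_left : A ≤ A ⊔ B) ha))
        (Subgroup.inv_mem _ hbm)
    apply Subgroup.mul_mem
    · rw [← hm, ← key m, ← map_centralizer_equiv]
      exact ⟨la, T.quadA hla, by simp only [MulEquiv.coe_toMonoidHom, MulAut.conj_apply]⟩
    · exact Subgroup.centralizer_le (show ((A.map (MulAut.conj (b ^ m)).toMonoidHom : Subgroup G) : Set G)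
        ⊆ ((A ⊔ B : Subgroup G) : Set G) from hAE) hk.2

end cover

section conjle
variable {G : Type*} [Group G] [Finite G] {p : ℕ} [Fact p.Prime] {V H Q : Subgroup G}

/-- every `Q`-conjugate of the minimal offender `A` lies in `⟨A, A^x⟩` -/
theorem conj_le_pair (S : Setup p V H Q) {A : Subgroup G} (hAH : A ≤ H)
    (hA : Cfsg.IsBestOffenderOn p V A) (hA1 : A ≠ ⊥)
    (hmin : ∀ B : Subgroup G, B ≤ A → Cfsg.IsBestOffenderOn p V B → B ≠ ⊥ → B = A)
    {x : G} (hx : x ∈ Q) (hxA : x ∉ Subgroup.centralizer (A : Set G)) {z : G} (hz : z ∈ Q) :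
    A.map (MulAut.conj z).toMonoidHom ≤ A ⊔ A.map (MulAut.conj x).toMonoidHom := by
  obtain ⟨T, hcB, hEH, hEQ⟩ := conjPair S hAH hA hA1 hmin hx hxA
  have hQV : Q ≤ Subgroup.normalizer (V : Set G) := le_trans S.hQH S.hHV
  -- facts about conjugates
  have hconj : ∀ w ∈ Q, A.map (MulAut.conj w).toMonoidHom ≤ H ∧
      Cfsg.IsBestOffenderOn p V (A.map (MulAut.conj w).toMonoidHom) ∧
      A.map (MulAut.conj w).toMonoidHom ≠ ⊥ ∧
      (∀ B : Subgroup G, B ≤ A.map (MulAut.conj w).toMonoidHom → Cfsg.IsBestOffenderOn p V B →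
        B ≠ ⊥ → B = A.map (MulAut.conj w).toMonoidHom) := by
    intro w hw
    refine ⟨?_, bestOffender_conj (hQV hw) hA, ?_, minimal_conj (hQV hw) hmin⟩
    · rintro _ ⟨a, ha, rfl⟩
      simp only [MulEquiv.coe_toMonoidHom, MulAut.conj_apply]
      exact H.mul_mem (H.mul_mem (S.hQH hw) (hAH ha)) (H.inv_mem (S.hQH hw))
    · intro h0
      apply hA1
      rw [← map_conj_inv_map_conj w A, h0, Subgroup.map_bot]
  set C : Subgroup G := A.map (MulAut.conj z).toMonoidHom with hC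
  obtain ⟨hCH, hCoff, hC1, hCmin⟩ := hconj z hz
  obtain ⟨-, hLC, -⟩ := minimal_data S hCH hCoff hC1 hCmin
  obtain ⟨c, hcL, hc1, -⟩ := exists_gen_of_card_prime hLC
  have hcV : c ∈ V := commutator_le_left_of_le_normalizer V C (le_trans hCH S.hHV) hcL
  -- find a conjugate of `A` inside `E` fixing `c`
  obtain ⟨z', hz', hDE, hcD⟩ : ∃ z' ∈ Q,
      A.map (MulAut.conj z').toMonoidHom ≤ A ⊔ A.map (MulAut.conj x).toMonoidHom ∧
      c ∈ Subgroup.centralizer ((A.map (MulAut.conj z').toMonoidHom : Subgroup G) : Set G) := by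
    rcases T.cover hcV with h | ⟨g, hgB, h⟩
    · exact ⟨x, hx, le_sup_right, h⟩
    · obtain ⟨a'', ha'', rfl⟩ := hgB
      simp only [MulEquiv.coe_toMonoidHom, MulAut.conj_apply] at h ⊢
      have hz'Q : x * a'' * x⁻¹ * a''⁻¹ ∈ Q := by
        have e : x * a'' * x⁻¹ * a''⁻¹ = x * (a'' * x⁻¹ * a''⁻¹) := by group
        rw [e]
        exact Q.mul_mem hx
          ((Subgroup.mem_normalizer_iff.mp (S.hQn (hAH ha'')) x⁻¹).mp (Q.inv_mem hx))
      have hab := (bestOffender_elementary S hAH hA).1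
      have hnorm : a''⁻¹ ∈ Subgroup.normalizer (A : Set G) :=
        (le_normalizer_of_abelian hab le_rfl) (A.inv_mem ha'')
      have heq : A.map (MulAut.conj (x * a'' * x⁻¹ * a''⁻¹)).toMonoidHom =
          A.map (MulAut.conj (x * a'' * x⁻¹)).toMonoidHom := by
        rw [map_conj_mul, map_conj_eq_of_mem_normalizer hnorm]
      refine ⟨x * a'' * x⁻¹ * a''⁻¹, hz'Q, ?_, ?_⟩
      · rw [heq]
        rintro _ ⟨a, ha, rfl⟩
        simp only [MulEquiv.coe_toMonoidHom, MulAut.conj_apply]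
        have hg : x * a'' * x⁻¹ ∈ A ⊔ A.map (MulAut.conj x).toMonoidHom :=
          (le_sup_right : A.map (MulAut.conj x).toMonoidHom ≤ _)
            ⟨a'', ha'', by simp [MulAut.conj_apply]⟩
        exact Subgroup.mul_mem _ (Subgroup.mul_mem _ hg
          ((le_sup_left : A ≤ A ⊔ A.map (MulAut.conj x).toMonoidHom) ha)) (Subgroup.inv_mem _ hg)
      · rw [heq]
        exact h
  set D : Subgroup G := A.map (MulAut.conj z').toMonoidHom with hD
  obtain ⟨hDH, hDoff, hD1, hDmin⟩ := hconj z' hz'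
  have hu : z * z'⁻¹ ∈ Q := Q.mul_mem hz (Q.inv_mem hz')
  have hCD : C = D.map (MulAut.conj (z * z'⁻¹)).toMonoidHom := by
    rw [hD, ← map_conj_mul, inv_mul_cancel_right]
  by_cases hcen : z * z'⁻¹ ∈ Subgroup.centralizer (D : Set G)
  · rw [hCD, map_conj_eq_of_mem_normalizer (Subgroup.centralizer_le_normalizer _ hcen)]
    exact hDE
  · exfalso
    obtain ⟨T', -, -, -⟩ := conjPair S hDH hDoff hD1 hDmin hu hcen
    have := T'.inf_centralizer
    rw [← hCD] at this
    have hc : c ∈ ⁅V, C⁆ ⊓ Subgroup.centralizer (D : Set G) := ⟨hcL, hcD⟩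
    rw [this, Subgroup.mem_bot] at hc
    exact hc1 hc

/-- the commutator `⁅Q, A⁆` lies in `⟨A, A^x⟩ ⊓ Q` -/
theorem commutator_le_pair (S : Setup p V H Q) {A : Subgroup G} (hAH : A ≤ H)
    (hA : Cfsg.IsBestOffenderOn p V A) (hA1 : A ≠ ⊥)
    (hmin : ∀ B : Subgroup G, B ≤ A → Cfsg.IsBestOffenderOn p V B → B ≠ ⊥ → B = A)
    {x : G} (hx : x ∈ Q) (hxA : x ∉ Subgroup.centralizer (A : Set G)) :
    ⁅Q, A⁆ ≤ (A ⊔ A.map (MulAut.conj x).toMonoidHom) ⊓ Q := by
  rw [Subgroup.commutator_le]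
  intro q hq a ha
  constructor
  · have h1 : q * a * q⁻¹ ∈ A ⊔ A.map (MulAut.conj x).toMonoidHom :=
      conj_le_pair S hAH hA hA1 hmin hx hxA hq ⟨a, ha, by simp [MulAut.conj_apply]⟩
    rw [commutatorElement_def]
    exact Subgroup.mul_mem _ h1 (Subgroup.inv_mem _ ((le_sup_left : A ≤ _) ha))
  · have e : ⁅q, a⁆ = q * (a * q⁻¹ * a⁻¹) := by rw [commutatorElement_def]; group
    rw [e]
    exact Q.mul_mem hq ((Subgroup.mem_normalizer_iff.mp (S.hQn (hAH ha)) q⁻¹).mp (Q.inv_mem hq))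

end conjle

end Cfsg.Agent.Lib.Lead.KS93
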