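import Mathlib
import Cfsg.Agent.Lib.Lead.KS93o
import Cfsg.Agent.Lib.Helper1.SL2Torus

set_option autoImplicit false

namespace Cfsg.Agent.Lib.Lead.KS93

open scoped commutatorElement
open Cfsg.Agent.Lib.Lead Cfsg.Agent.Lib.Helper6

theorem xs_inv' {K : Type*} [CommRing K] (s : K) : (SL2.xs s)⁻¹ = SL2.xs (-s) := by
  rw [inv_eq_iff_mul_eq_one, ← SL2.xs_add]
  simp [SL2.xs_zero]

theorem not_commute_three (θ : ZMod 3) (hθ : θ ≠ 0) :
    SL2.ys 1 * (SL2.xs θ)⁻¹ * (SL2.xs θ * (SL2.ys 1 * (SL2.xs θ)⁻¹) * (SL2.xs θ)⁻¹) ≠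
      SL2.xs θ * (SL2.ys 1 * (SL2.xs θ)⁻¹) * (SL2.xs θ)⁻¹ * (SL2.ys 1 * (SL2.xs θ)⁻¹) := by
  rw [xs_inv']
  intro h
  have h1 := congrArg (fun M : Matrix.SpecialLinearGroup (Fin 2) (ZMod 3) =>
    (M : Matrix (Fin 2) (Fin 2) (ZMod 3))) h
  simp only [SL2.xs, SL2.ys, Matrix.SpecialLinearGroup.coe_mul] at h1
  have h00 := congrFun (congrFun h1 0) 0
  have h01 := congrFun (congrFun h1 0) 1
  simp [Matrix.mul_apply, Fin.sum_univ_two] at h00 h01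
  revert h00 h01 hθ
  revert θ
  decide

section
variable {G : Type*} [Group G] [Finite G] {p : ℕ} [Fact p.Prime] {V H Q : Subgroup G}

theorem exists_noncentralizing (S : Setup p V H Q) {A : Subgroup G} (hAH : A ≤ H)
    (hAp : IsPGroup p A) (hA1 : A ≠ ⊥) : ∃ x ∈ Q, x ∉ Subgroup.centralizer (A : Set G) := by
  by_contra hcon
  push_neg at hcon
  have h1 : Q ≤ Subgroup.centralizer (A : Set G) := fun x hx => hcon x hx
  exact commutator_Q_ne_bot S hAH hAp hA1 (Subgroup.commutator_eq_bot_iff_le_centralizer.mpr h1)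

/-- main package for a minimal offender `A` and `x ∈ Q` not centralizing `A` -/
theorem pair_package (S : Setup p V H Q) {A : Subgroup G} (hAH : A ≤ H)
    (hA : Cfsg.IsBestOffenderOn p V A) (hA1 : A ≠ ⊥)
    (hmin : ∀ B : Subgroup G, B ≤ A → Cfsg.IsBestOffenderOn p V B → B ≠ ⊥ → B = A)
    {x : G} (hx : x ∈ Q) (hxA : x ∉ Subgroup.centralizer (A : Set G))
    {a : G} (haA : a ∈ A) (ha1 : a ≠ 1) :
    (p = 2 ∨ p = 3) ∧
    ∃ (haE : a ∈ A ⊔ A.map (MulAut.conj x).toMonoidHom)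
      (hbE : x * a * x⁻¹ ∈ A ⊔ A.map (MulAut.conj x).toMonoidHom) (θ : ZMod p)
      (e : ↥(A ⊔ A.map (MulAut.conj x).toMonoidHom) ≃* Matrix.SpecialLinearGroup (Fin 2) (ZMod p)),
      θ ≠ 0 ∧ e ⟨a, haE⟩ = SL2.xs θ ∧ e ⟨x * a * x⁻¹, hbE⟩ = SL2.ys 1 := by
  obtain ⟨T, hcB, hEH, hEQ⟩ := conjPair S hAH hA hA1 hmin hx hxA
  obtain ⟨hcA, -, -⟩ := minimal_data S hAH hA hA1 hmin
  have hfE : (A ⊔ A.map (MulAut.conj x).toMonoidHom) ⊓ Subgroup.centralizer (V : Set G) = ⊥ := by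
    rw [eq_bot_iff, ← S.hf]
    exact inf_le_inf_right _ hEH
  have hbB : x * a * x⁻¹ ∈ A.map (MulAut.conj x).toMonoidHom :=
    ⟨a, haA, by simp [MulAut.conj_apply]⟩
  have hb1 : x * a * x⁻¹ ≠ 1 := by
    intro h
    apply ha1
    have : a = x⁻¹ * (x * a * x⁻¹) * x := by group
    rw [this, h]; group
  obtain ⟨θ, e, hθ, hea, heb⟩ := T.iso' S.hV.2 hcA hcB hfE haA ha1 hbB hb1
  refine ⟨?_, _, _, θ, e, hθ, hea, heb⟩
  apply le_three_of_sl2 e (Q.subgroupOf (A ⊔ A.map (MulAut.conj x).toMonoidHom))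
  · intro g h
    rw [Subgroup.mem_subgroupOf]
    exact commutator_mem_of_mem_sup (le_trans hAH S.hQn)
      (bestOffender_elementary S hAH hA).1 (hEQ g.2) (hEQ h.2)
  · rw [← Subgroup.inf_subgroupOf_right, card_subgroupOf_of_le inf_le_right]
    exact Nat.Coprime.coprime_dvd_left (Subgroup.card_dvd_of_le inf_le_left) S.hQc

/-- the order of `⁅Q, A⁆` divides `p ^ 2 - 1` -/
theorem card_commutator_dvd (S : Setup p V H Q) {A : Subgroup G} (hAH : A ≤ H)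
    (hA : Cfsg.IsBestOffenderOn p V A) (hA1 : A ≠ ⊥)
    (hmin : ∀ B : Subgroup G, B ≤ A → Cfsg.IsBestOffenderOn p V B → B ≠ ⊥ → B = A) :
    Nat.card ↥(⁅Q, A⁆) ∣ p ^ 2 - 1 := by
  obtain ⟨x, hx, hxA⟩ := exists_noncentralizing S hAH (isPGroup_of_bestOffender S hAH hA) hA1
  obtain ⟨hcA, -, -⟩ := minimal_data S hAH hA hA1 hmin
  obtain ⟨a, haA, ha1, hAz⟩ := exists_gen_of_card_prime hcA
  obtain ⟨-, haE, hbE, θ, e, -, -, -⟩ := pair_package S hAH hA hA1 hmin hx hxA haA ha1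
  have hle := commutator_le_pair S hAH hA hA1 hmin hx hxA
  have hcardE : Nat.card ↥(A ⊔ A.map (MulAut.conj x).toMonoidHom) = p * (p ^ 2 - 1) := by
    rw [Nat.card_congr e.toEquiv, Cfsg.Agent.Lib.Helper1.card_SL2, ZMod.card]
  have hdvd : Nat.card ↥((A ⊔ A.map (MulAut.conj x).toMonoidHom) ⊓ Q : Subgroup G) ∣
      p * (p ^ 2 - 1) := hcardE ▸ Subgroup.card_dvd_of_le inf_le_left
  have hcop : (Nat.card ↥((A ⊔ A.map (MulAut.conj x).toMonoidHom) ⊓ Q : Subgroup G)).Coprime p :=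
    Nat.Coprime.coprime_dvd_left (Subgroup.card_dvd_of_le inf_le_right) S.hQc
  exact dvd_trans (Subgroup.card_dvd_of_le hle) (Nat.Coprime.dvd_of_dvd_mul_left hcop hdvd)

end

end Cfsg.Agent.Lib.Lead.KS93
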