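import Mathlib
import Cfsg.Agent.Lib.Lead.KS93p

set_option autoImplicit false

namespace Cfsg.Agent.Lib.Lead.KS93

open scoped commutatorElement
open Cfsg.Agent.Lib.Lead Cfsg.Agent.Lib.Helper6

section minoff
variable {G : Type*} [Group G]

/-- a minimal nontrivial best offender inside `H` -/
structure MinOff (p : ℕ) (V H A : Subgroup G) : Prop where
  hAH : A ≤ H
  hA : Cfsg.IsBestOffenderOn p V A
  hA1 : A ≠ ⊥
  hmin : ∀ B : Subgroup G, B ≤ A → Cfsg.IsBestOffenderOn p V B → B ≠ ⊥ → B = A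

variable {p : ℕ} {V H Q A : Subgroup G}

theorem MinOff.conj (hHV : H ≤ Subgroup.normalizer (V : Set G)) (M : MinOff p V H A) {h : G}
    (hh : h ∈ H) : MinOff p V H (A.map (MulAut.conj h).toMonoidHom) := by
  refine ⟨?_, bestOffender_conj (hHV hh) M.hA, ?_, minimal_conj (hHV hh) M.hmin⟩
  · rintro _ ⟨a, ha, rfl⟩
    simp only [MulEquiv.coe_toMonoidHom, MulAut.conj_apply]
    exact H.mul_mem (H.mul_mem hh (M.hAH ha)) (H.inv_mem hh)
  · intro h0
    apply M.hA1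
    rw [← map_conj_inv_map_conj h A, h0, Subgroup.map_bot]

theorem conj_le_commutator_sup {z : G} (hz : z ∈ Q) :
    A.map (MulAut.conj z).toMonoidHom ≤ ⁅Q, A⁆ ⊔ A := by
  rintro _ ⟨a, ha, rfl⟩
  simp only [MulEquiv.coe_toMonoidHom, MulAut.conj_apply]
  have e : z * a * z⁻¹ = ⁅z, a⁆ * a := by rw [commutatorElement_def]; group
  rw [e]
  exact Subgroup.mul_mem _ (le_sup_left (a := ⁅Q, A⁆) (b := A)
    (Subgroup.commutator_mem_commutator hz ha)) (le_sup_right (a := ⁅Q, A⁆) (b := A) ha)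

theorem map_conj_commutator_sup {h : G} (hh : h ∈ Subgroup.normalizer (Q : Set G)) :
    (⁅Q, A⁆ ⊔ A).map (MulAut.conj h).toMonoidHom =
      ⁅Q, A.map (MulAut.conj h).toMonoidHom⁆ ⊔ A.map (MulAut.conj h).toMonoidHom := by
  rw [Subgroup.map_sup, Subgroup.map_commutator, map_conj_eq_of_mem_normalizer hh]

theorem le_normalizer_commutator_sup_self (hAQ : A ≤ Subgroup.normalizer (Q : Set G)) :
    Q ≤ Subgroup.normalizer ((⁅Q, A⁆ ⊔ A : Subgroup G) : Set G) := by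
  apply ExpSec.le_normalizer_of_conj_mem
  intro g hg y hy
  have hle : (⁅Q, A⁆ ⊔ A : Subgroup G).map (MulAut.conj g).toMonoidHom ≤ ⁅Q, A⁆ ⊔ A := by
    rw [Subgroup.map_sup]
    apply sup_le
    · refine le_trans ?_ le_sup_left
      rintro _ ⟨z, hz, rfl⟩
      exact (Subgroup.mem_normalizer_iff.mp (le_normalizer_commutator_left Q A hg) z).mp hz
    · exact conj_le_commutator_sup hg
  exact hle ⟨y, hy, by simp [MulAut.conj_apply]⟩

end minoff

section block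
variable {G : Type*} [Group G] [Finite G] {p : ℕ} [Fact p.Prime] {V H Q A : Subgroup G}

theorem MinOff.card (S : Setup p V H Q) (M : MinOff p V H A) : Nat.card A = p :=
  (minimal_data S M.hAH M.hA M.hA1 M.hmin).1

theorem MinOff.isPGroup (S : Setup p V H Q) (M : MinOff p V H A) : IsPGroup p A :=
  isPGroup_of_bestOffender S M.hAH M.hA

theorem MinOff.le_normalizer_Q (S : Setup p V H Q) (M : MinOff p V H A) :
    A ≤ Subgroup.normalizer (Q : Set G) := le_trans M.hAH S.hQn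

/-- `⁅Q, A⁆ ⊔ A` is generated by `A` and any conjugate `A^x`, `x ∈ Q` not centralizing `A` -/
theorem MinOff.EA_eq_pair (S : Setup p V H Q) (M : MinOff p V H A) {x : G} (hx : x ∈ Q)
    (hxA : x ∉ Subgroup.centralizer (A : Set G)) :
    ⁅Q, A⁆ ⊔ A = A ⊔ A.map (MulAut.conj x).toMonoidHom := by
  apply le_antisymm
  · exact sup_le (le_trans (commutator_le_pair S M.hAH M.hA M.hA1 M.hmin hx hxA) inf_le_left)
      le_sup_left
  · exact sup_le le_sup_right (conj_le_commutator_sup hx)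

theorem MinOff.EA_le (S : Setup p V H Q) (M : MinOff p V H A) : ⁅Q, A⁆ ⊔ A ≤ H := by
  apply sup_le _ M.hAH
  rw [Subgroup.commutator_le]
  intro q hq a ha
  exact H.mul_mem (H.mul_mem (H.mul_mem (S.hQH hq) (M.hAH ha)) (H.inv_mem (S.hQH hq)))
    (H.inv_mem (M.hAH ha))

theorem MinOff.exists_x (S : Setup p V H Q) (M : MinOff p V H A) :
    ∃ x ∈ Q, x ∉ Subgroup.centralizer (A : Set G) :=
  exists_noncentralizing S M.hAH (M.isPGroup S) M.hA1

theorem MinOff.exists_tpair (S : Setup p V H Q) (M : MinOff p V H A) :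
    ∃ B : Subgroup G, TPair p V A B ∧ Nat.card B = p ∧ ⁅Q, A⁆ ⊔ A = A ⊔ B ∧
      ∃ x ∈ Q, B = A.map (MulAut.conj x).toMonoidHom := by
  obtain ⟨x, hx, hxA⟩ := M.exists_x S
  obtain ⟨T, hcB, -, -⟩ := conjPair S M.hAH M.hA M.hA1 M.hmin hx hxA
  exact ⟨_, T, hcB, M.EA_eq_pair S hx hxA, x, hx, rfl⟩

theorem MinOff.card_W (S : Setup p V H Q) (M : MinOff p V H A) :
    Nat.card ↥(⁅V, ⁅Q, A⁆ ⊔ A⁆) = p ^ 2 := by
  obtain ⟨B, T, -, hE, -⟩ := M.exists_tpair S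
  rw [hE]; exact T.card_commutator

theorem MinOff.inf_fix (S : Setup p V H Q) (M : MinOff p V H A) :
    ⁅V, ⁅Q, A⁆ ⊔ A⁆ ⊓ (V ⊓ Subgroup.centralizer ((⁅Q, A⁆ ⊔ A : Subgroup G) : Set G)) = ⊥ := by
  obtain ⟨B, T, -, hE, -⟩ := M.exists_tpair S
  rw [hE]; exact T.inf_fix

theorem MinOff.sup_fix (S : Setup p V H Q) (M : MinOff p V H A) :
    ⁅V, ⁅Q, A⁆ ⊔ A⁆ ⊔ (V ⊓ Subgroup.centralizer ((⁅Q, A⁆ ⊔ A : Subgroup G) : Set G)) = V := by
  obtain ⟨B, T, -, hE, -⟩ := M.exists_tpair S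
  rw [hE]; exact T.sup_fix

theorem MinOff.faithful (S : Setup p V H Q) (M : MinOff p V H A) :
    (⁅Q, A⁆ ⊔ A) ⊓ Subgroup.centralizer ((⁅V, ⁅Q, A⁆ ⊔ A⁆ : Subgroup G) : Set G) = ⊥ := by
  obtain ⟨B, T, -, hE, -⟩ := M.exists_tpair S
  rw [eq_bot_iff, ← S.hf]
  apply le_inf (le_trans inf_le_left (M.EA_le S))
  rw [hE]
  exact T.centralizer_le

theorem MinOff.W_le (S : Setup p V H Q) (M : MinOff p V H A) : ⁅V, ⁅Q, A⁆ ⊔ A⁆ ≤ V :=
  commutator_le_left_of_le_normalizer V _ (le_trans (M.EA_le S) S.hHV)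

theorem MinOff.iso (S : Setup p V H Q) (M : MinOff p V H A) :
    (p = 2 ∨ p = 3) ∧
      Nonempty (↥(⁅Q, A⁆ ⊔ A) ≃* Matrix.SpecialLinearGroup (Fin 2) (ZMod p)) := by
  obtain ⟨x, hx, hxA⟩ := M.exists_x S
  obtain ⟨a, haA, ha1, -⟩ := exists_gen_of_card_prime (M.card S)
  obtain ⟨hp, -, -, -, e, -, -, -⟩ := pair_package S M.hAH M.hA M.hA1 M.hmin hx hxA haA ha1
  refine ⟨hp, ?_⟩
  rw [M.EA_eq_pair S hx hxA]
  exact ⟨e⟩

theorem MinOff.QA_ne_bot (S : Setup p V H Q) (M : MinOff p V H A) : ⁅Q, A⁆ ≠ ⊥ :=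
  commutator_Q_ne_bot S M.hAH (M.isPGroup S) M.hA1

theorem MinOff.QA_le (S : Setup p V H Q) (M : MinOff p V H A) : ⁅Q, A⁆ ≤ Q :=
  commutator_le_left_of_le_normalizer Q A (M.le_normalizer_Q S)

theorem MinOff.QA_stable (S : Setup p V H Q) (M : MinOff p V H A) : ⁅⁅Q, A⁆, A⁆ = ⁅Q, A⁆ := by
  apply coprime_commutator_stable A Q (M.le_normalizer_Q S)
  · obtain ⟨n, hn⟩ := (IsPGroup.iff_card).mp (M.isPGroup S)
    rw [hn]
    exact Nat.Coprime.pow_left n (Nat.Coprime.symm S.hQc)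
  · exact Or.inl (isSolvable_of_isPGroup p A (M.isPGroup S))

end block

end Cfsg.Agent.Lib.Lead.KS93
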