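import Mathlib
import Cfsg.Agent.Lib.Lead.KS93q

set_option autoImplicit false

namespace Cfsg.Agent.Lib.Lead.KS93

open scoped commutatorElement
open Cfsg.Agent.Lib.Lead Cfsg.Agent.Lib.Helper6

section cover2
variable {G : Type*} [Group G] [Finite G] {p : ℕ} [Fact p.Prime] {V A B : Subgroup G}

/-- every vector of `⁅V, A ⊔ B⁆` lies in `⁅V, B⁆` or in a `B`-conjugate of `⁅V, A⁆` -/
theorem TPair.cover' (T : TPair p V A B) {w : G} (hw : w ∈ ⁅V, A ⊔ B⁆) :
    w ∈ ⁅V, B⁆ ∨ ∃ g ∈ B, w ∈ (⁅V, A⁆).map (MulAut.conj g).toMonoidHom := by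
  rw [T.commutator_sup] at hw
  obtain ⟨la, hla, lb, hlb, rfl⟩ := exists_mul_of_mem_sup'
    (le_trans T.LB_le (le_normalizer_of_abelian T.hVab T.LA_le)) hw
  by_cases h1 : la = 1
  · left
    rw [h1, one_mul]
    exact hlb
  · right
    have hlaB : la ∉ Subgroup.centralizer (B : Set G) := by
      intro h
      have : la ∈ ⁅V, A⁆ ⊓ Subgroup.centralizer (B : Set G) := ⟨hla, h⟩
      rw [T.symm.inf_centralizer, Subgroup.mem_bot] at this
      exact h1 this
    rw [Subgroup.mem_centralizer_iff] at hlaB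
    push_neg at hlaB
    obtain ⟨b, hbB, hb⟩ := hlaB
    have hlaV : la ∈ V := T.LA_le hla
    set e2 : G := ⁅b, la⁆ with he2def
    have he2L : e2 ∈ ⁅V, B⁆ := by
      rw [he2def, ← commutatorElement_inv]
      exact Subgroup.inv_mem _ (Subgroup.commutator_mem_commutator hlaV hbB)
    have he2V : e2 ∈ V := T.LB_le he2L
    have he2ne : e2 ≠ 1 := by
      intro h
      rw [he2def, commutatorElement_eq_one_iff_mul_comm] at h
      exact hb h
    have hLbz : ⁅V, B⁆ = Subgroup.zpowers e2 := eq_zpowers_of_card_prime T.hLB he2L he2ne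
    rw [hLbz, ← mem_powers_iff_mem_zpowers, Submonoid.mem_powers_iff] at hlb
    obtain ⟨m, hm⟩ := hlb
    have f4 : b * la * b⁻¹ = la * e2 := by
      rw [T.hVab la hlaV e2 he2V, he2def, commutatorElement_def]
      group
    have f5 : b * e2 * b⁻¹ = e2 := by
      have := Subgroup.mem_centralizer_iff.mp (T.quadB he2L) b hbB
      rw [this, mul_inv_cancel_right]
    have key : ∀ n : ℕ, b ^ n * la * (b ^ n)⁻¹ = la * e2 ^ n := by
      intro n
      induction n with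
      | zero => simp
      | succ n ih =>
        have e : b ^ (n + 1) * la * (b ^ (n + 1))⁻¹ = b * (b ^ n * la * (b ^ n)⁻¹) * b⁻¹ := by
          rw [pow_succ']; group
        rw [e, ih]
        have e' : b * (la * e2 ^ n) * b⁻¹ = (b * la * b⁻¹) * (b * e2 * b⁻¹) ^ n := by
          rw [conj_pow]; group
        rw [e', f4, f5, pow_succ, mul_assoc]
        rw [← pow_succ, ← pow_succ']
    refine ⟨b ^ m, B.pow_mem hbB m, ?_⟩
    rw [← hm, ← key m]
    exact ⟨la, hla, by simp only [MulEquiv.coe_toMonoidHom, MulAut.conj_apply]⟩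

end cover2

section irred
variable {G : Type*} [Group G] [Finite G] {p : ℕ} [Fact p.Prime] {V H Q A : Subgroup G}

theorem commutator_map_conj_of_mem_normalizer {V A : Subgroup G} {g : G}
    (hg : g ∈ Subgroup.normalizer (V : Set G)) :
    ⁅V, A.map (MulAut.conj g).toMonoidHom⁆ = (⁅V, A⁆).map (MulAut.conj g).toMonoidHom := by
  rw [Subgroup.map_commutator, map_conj_eq_of_mem_normalizer hg]

/-- every vector of `⁅V, E_A⁆` lies in the commutator of `V` with a `Q`-conjugate of `A` -/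
theorem MinOff.line (S : Setup p V H Q) (M : MinOff p V H A) {w : G}
    (hw : w ∈ ⁅V, ⁅Q, A⁆ ⊔ A⁆) :
    ∃ z ∈ Q, w ∈ ⁅V, A.map (MulAut.conj z).toMonoidHom⁆ := by
  obtain ⟨B, T, -, hE, x, hx, rfl⟩ := M.exists_tpair S
  rw [hE] at hw
  rcases T.cover' hw with h | ⟨g, hgB, h⟩
  · exact ⟨x, hx, h⟩
  · obtain ⟨a'', ha'', rfl⟩ := hgB
    simp only [MulEquiv.coe_toMonoidHom, MulAut.conj_apply] at h
    have hz'Q : x * a'' * x⁻¹ * a''⁻¹ ∈ Q := by
      have e : x * a'' * x⁻¹ * a''⁻¹ = x * (a'' * x⁻¹ * a''⁻¹) := by group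
      rw [e]
      exact Q.mul_mem hx
        ((Subgroup.mem_normalizer_iff.mp (S.hQn (M.hAH ha'')) x⁻¹).mp (Q.inv_mem hx))
    have hab := (bestOffender_elementary S M.hAH M.hA).1
    have hnorm : a''⁻¹ ∈ Subgroup.normalizer (A : Set G) :=
      (le_normalizer_of_abelian hab le_rfl) (A.inv_mem ha'')
    have heq : A.map (MulAut.conj (x * a'' * x⁻¹ * a''⁻¹)).toMonoidHom =
        A.map (MulAut.conj (x * a'' * x⁻¹)).toMonoidHom := by
      rw [map_conj_mul, map_conj_eq_of_mem_normalizer hnorm]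
    refine ⟨x * a'' * x⁻¹ * a''⁻¹, hz'Q, ?_⟩
    rw [heq, commutator_map_conj_of_mem_normalizer]
    · exact h
    · exact S.hHV (H.mul_mem (H.mul_mem (S.hQH hx) (M.hAH ha'')) (H.inv_mem (S.hQH hx)))

theorem MinOff.QA_conj (S : Setup p V H Q) (M : MinOff p V H A) {z : G} (hz : z ∈ Q) :
    ⁅Q, A.map (MulAut.conj z).toMonoidHom⁆ = ⁅Q, A⁆ := by
  rw [commutator_map_conj_of_mem_normalizer (S.hQn (S.hQH hz)),
    map_conj_eq_of_mem_normalizer (le_normalizer_commutator_left Q A hz)]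

/-- `⁅Q, A⁆` acts irreducibly on `⁅V, E_A⁆` -/
theorem MinOff.irred (S : Setup p V H Q) (M : MinOff p V H A) {U : Subgroup G}
    (hUW : U ≤ ⁅V, ⁅Q, A⁆ ⊔ A⁆) (hU : ⁅Q, A⁆ ≤ Subgroup.normalizer (U : Set G)) :
    U = ⊥ ∨ U = ⁅V, ⁅Q, A⁆ ⊔ A⁆ := by
  by_cases hU1 : U = ⊥
  · exact Or.inl hU1
  right
  by_contra hUne
  obtain ⟨u, hu1⟩ := (Subgroup.ne_bot_iff_exists_ne_one).mp hU1
  have hu1' : (u : G) ≠ 1 := fun h => hu1 (Subtype.ext h)
  obtain ⟨z, hz, huL⟩ := M.line S (hUW u.2)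
  have M' := M.conj S.hHV (S.hQH hz)
  set A' : Subgroup G := A.map (MulAut.conj z).toMonoidHom with hA'
  obtain ⟨-, hL', -⟩ := minimal_data S M'.hAH M'.hA M'.hA1 M'.hmin
  have hL'z : ⁅V, A'⁆ = Subgroup.zpowers (u : G) := eq_zpowers_of_card_prime hL' huL hu1'
  have hL'U : ⁅V, A'⁆ ≤ U := by
    rw [hL'z, Subgroup.zpowers_le]; exact u.2
  -- the order of `U` is `p`
  have hUL : U = ⁅V, A'⁆ := by
    have hdvd : Nat.card U ∣ p ^ 2 := by
      rw [← M.card_W S]; exact Subgroup.card_dvd_of_le hUW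
    obtain ⟨k, hk2, hk⟩ := (Nat.dvd_prime_pow (Fact.out : p.Prime)).mp hdvd
    have hp1 : 1 < p := (Fact.out : p.Prime).one_lt
    interval_cases k
    · exfalso
      rw [pow_zero] at hk
      exact hU1 (Subgroup.card_eq_one.mp hk)
    · symm
      apply Subgroup.eq_of_le_of_card_ge hL'U
      rw [hk, hL', pow_one]
    · exfalso
      apply hUne
      apply Subgroup.eq_of_le_of_card_ge hUW
      rw [hk, M.card_W S]
  have hQA' : ⁅Q, A⁆ ≤ Subgroup.centralizer (A' : Set G) := by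
    intro q hq
    by_contra hqA'
    have hqQ : q ∈ Q := M.QA_le S hq
    obtain ⟨T', -, -, -⟩ := conjPair S M'.hAH M'.hA M'.hA1 M'.hmin hqQ hqA'
    have h1 := T'.inf_eq_bot
    rw [commutator_map_conj_of_mem_normalizer (S.hHV (S.hQH hqQ)), ← hUL,
      map_conj_eq_of_mem_normalizer (hU hq), inf_idem] at h1
    exact hU1 h1
  have h2 : ⁅⁅Q, A'⁆, A'⁆ = ⊥ := by
    rw [M.QA_conj S hz]
    exact Subgroup.commutator_eq_bot_iff_le_centralizer.mpr hQA'
  rw [M'.QA_stable S] at h2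
  exact M'.QA_ne_bot S h2

theorem MinOff.commutator_V_QA (S : Setup p V H Q) (M : MinOff p V H A) :
    ⁅V, ⁅Q, A⁆⁆ = ⁅V, ⁅Q, A⁆ ⊔ A⁆ := by
  have hQAH : ⁅Q, A⁆ ≤ H := le_trans (M.QA_le S) S.hQH
  rcases M.irred S (Subgroup.commutator_mono le_rfl le_sup_left)
    (le_normalizer_commutator_right V _ (le_trans hQAH S.hHV)) with h | h
  · exact absurd h ((commutator_V_ne_bot_iff S hQAH).mpr (M.QA_ne_bot S))
  · exact h

theorem MinOff.fix_QA (S : Setup p V H Q) (M : MinOff p V H A) :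
    V ⊓ Subgroup.centralizer ((⁅Q, A⁆ : Subgroup G) : Set G) =
      V ⊓ Subgroup.centralizer ((⁅Q, A⁆ ⊔ A : Subgroup G) : Set G) := by
  set W : Subgroup G := ⁅V, ⁅Q, A⁆ ⊔ A⁆ with hW
  set K : Subgroup G := V ⊓ Subgroup.centralizer ((⁅Q, A⁆ ⊔ A : Subgroup G) : Set G) with hK
  set X : Subgroup G := V ⊓ Subgroup.centralizer ((⁅Q, A⁆ : Subgroup G) : Set G) with hX
  have hVab : ∀ x ∈ V, ∀ y ∈ V, x * y = y * x := fun x hx y hy => by
    have := S.hV.1.is_comm.comm (⟨x, hx⟩ : V) ⟨y, hy⟩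
    exact congrArg Subtype.val this
  have hKX : K ≤ X := inf_le_inf_left _ (Subgroup.centralizer_le
    (show ((⁅Q, A⁆ : Subgroup G) : Set G) ⊆ ((⁅Q, A⁆ ⊔ A : Subgroup G) : Set G) from
      (le_sup_left : ⁅Q, A⁆ ≤ ⁅Q, A⁆ ⊔ A)))
  have hWX : W ⊓ X = ⊥ := by
    have hn : ⁅Q, A⁆ ≤ Subgroup.normalizer ((W ⊓ X : Subgroup G) : Set G) := by
      refine le_trans ?_ (Subgroup.centralizer_le_normalizer _)
      rw [Subgroup.le_centralizer_iff]
      exact le_trans inf_le_right inf_le_right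
    rcases M.irred S (inf_le_left : W ⊓ X ≤ W) hn with h | h
    · exact h
    · exfalso
      have h1 : W ≤ Subgroup.centralizer ((⁅Q, A⁆ : Subgroup G) : Set G) := by
        have h' : W ⊓ X = W := h
        rw [← h']; exact le_trans inf_le_right inf_le_right
      have h2 : ⁅Q, A⁆ ≤ (⁅Q, A⁆ ⊔ A) ⊓ Subgroup.centralizer (W : Set G) :=
        le_inf le_sup_left (Subgroup.le_centralizer_iff.mp h1)
      rw [M.faithful S] at h2
      exact M.QA_ne_bot S (eq_bot_iff.mpr h2)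
  symm
  apply Subgroup.eq_of_le_of_card_ge hKX
  have hWV : W ≤ V := M.W_le S
  have h1 : Nat.card ↥(W ⊔ X : Subgroup G) = Nat.card W * Nat.card X :=
    card_sup_of_disjoint _ _ (le_trans hWV (le_normalizer_of_abelian hVab inf_le_left)) hWX
  have h2 : Nat.card ↥(W ⊔ K : Subgroup G) = Nat.card W * Nat.card K :=
    card_sup_of_disjoint _ _ (le_trans hWV (le_normalizer_of_abelian hVab inf_le_left)) (M.inf_fix S)
  rw [M.sup_fix S] at h2
  have h3 : Nat.card ↥(W ⊔ X : Subgroup G) ≤ Nat.card V :=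
    Nat.le_of_dvd Nat.card_pos (Subgroup.card_dvd_of_le (sup_le hWV inf_le_left))
  rw [h1, h2] at h3
  exact Nat.le_of_mul_le_mul_left h3 Nat.card_pos

end irred

end Cfsg.Agent.Lib.Lead.KS93
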