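import Mathlib
import Cfsg.Agent.Lib.Lead.KS93r

set_option autoImplicit false

namespace Cfsg.Agent.Lib.Lead.KS93

open scoped commutatorElement
open Cfsg.Agent.Lib.Lead Cfsg.Agent.Lib.Helper6

section inv
variable {G : Type*} [Group G]

theorem mem_normalizer_of_map_conj_eq {W : Subgroup G} {d : G}
    (h : W.map (MulAut.conj d).toMonoidHom = W) : d ∈ Subgroup.normalizer (W : Set G) := by
  rw [Subgroup.mem_normalizer_iff]
  intro w
  constructor
  · intro hw
    rw [← h]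
    exact ⟨w, hw, by simp [MulAut.conj_apply]⟩
  · intro hw
    rw [← h] at hw
    obtain ⟨w', hw', he⟩ := hw
    simp only [MulEquiv.coe_toMonoidHom, MulAut.conj_apply] at he
    have : w' = w := by
      have h2 : d⁻¹ * (d * w' * d⁻¹) * d = d⁻¹ * (d * w * d⁻¹) * d := by rw [he]
      rw [show d⁻¹ * (d * w' * d⁻¹) * d = w' by group, show d⁻¹ * (d * w * d⁻¹) * d = w by group]
        at h2
      exact h2
    rwa [← this]

theorem le_normalizer_inf {X Y R : Subgroup G} (hX : R ≤ Subgroup.normalizer (X : Set G))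
    (hY : R ≤ Subgroup.normalizer (Y : Set G)) :
    R ≤ Subgroup.normalizer ((X ⊓ Y : Subgroup G) : Set G) := by
  intro r hr
  rw [Subgroup.mem_normalizer_iff]
  intro g
  rw [Subgroup.mem_inf, Subgroup.mem_inf, ← Subgroup.mem_normalizer_iff.mp (hX hr) g,
    ← Subgroup.mem_normalizer_iff.mp (hY hr) g]

variable [Finite G] {p : ℕ} [Fact p.Prime] {V H Q A D : Subgroup G}

theorem MinOff.Q_le_normalizer_EA (S : Setup p V H Q) (M : MinOff p V H A) :
    Q ≤ Subgroup.normalizer ((⁅Q, A⁆ ⊔ A : Subgroup G) : Set G) :=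
  le_normalizer_commutator_sup_self (M.le_normalizer_Q S)

theorem MinOff.Q_le_normalizer_W (S : Setup p V H Q) (M : MinOff p V H A) :
    Q ≤ Subgroup.normalizer ((⁅V, ⁅Q, A⁆ ⊔ A⁆ : Subgroup G) : Set G) :=
  le_trans (le_inf (le_trans S.hQH S.hHV) (M.Q_le_normalizer_EA S))
    (normalizer_inf_le_normalizer_commutator V _)

theorem MinOff.Q_le_normalizer_K (S : Setup p V H Q) (M : MinOff p V H A) :
    Q ≤ Subgroup.normalizer
      ((V ⊓ Subgroup.centralizer ((⁅Q, A⁆ ⊔ A : Subgroup G) : Set G) : Subgroup G) : Set G) :=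
  le_normalizer_inf (le_trans S.hQH S.hHV)
    (le_trans (M.Q_le_normalizer_EA S) (normalizer_le_normalizer_centralizer _))

theorem MinOff.W_map_conj (S : Setup p V H Q) (M : MinOff p V H A) {d : G} (hd : d ∈ H) :
    (⁅V, ⁅Q, A⁆ ⊔ A⁆).map (MulAut.conj d).toMonoidHom =
      ⁅V, ⁅Q, A.map (MulAut.conj d).toMonoidHom⁆ ⊔ A.map (MulAut.conj d).toMonoidHom⁆ := by
  rw [← map_conj_commutator_sup (S.hQn hd), commutator_map_conj_of_mem_normalizer (S.hHV hd)]

theorem MinOff.K_map_conj (S : Setup p V H Q) (M : MinOff p V H A) {d : G} (hd : d ∈ H) :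
    (V ⊓ Subgroup.centralizer ((⁅Q, A⁆ ⊔ A : Subgroup G) : Set G)).map (MulAut.conj d).toMonoidHom =
      V ⊓ Subgroup.centralizer ((⁅Q, A.map (MulAut.conj d).toMonoidHom⁆ ⊔
        A.map (MulAut.conj d).toMonoidHom : Subgroup G) : Set G) := by
  rw [Subgroup.map_inf _ _ _ (MulAut.conj d).injective, map_centralizer_equiv,
    map_conj_eq_of_mem_normalizer (S.hHV hd), ← map_conj_commutator_sup (S.hQn hd)]

/-- elements of minimal offenders normalize `W = ⁅V, E_A⁆` -/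
theorem MinOff.W_invariant (S : Setup p V H Q) (M : MinOff p V H A) (MD : MinOff p V H D)
    {d : G} (hd : d ∈ D) :
    (⁅V, ⁅Q, A⁆ ⊔ A⁆).map (MulAut.conj d).toMonoidHom = ⁅V, ⁅Q, A⁆ ⊔ A⁆ := by
  have hdH : d ∈ H := MD.hAH hd
  have M' := M.conj S.hHV hdH
  set A' : Subgroup G := A.map (MulAut.conj d).toMonoidHom with hA'
  set W : Subgroup G := ⁅V, ⁅Q, A⁆ ⊔ A⁆ with hW
  set W' : Subgroup G := ⁅V, ⁅Q, A'⁆ ⊔ A'⁆ with hW'
  have hWW' : W.map (MulAut.conj d).toMonoidHom = W' := M.W_map_conj S hdH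
  rw [hWW']
  have hVab : ∀ x ∈ V, ∀ y ∈ V, x * y = y * x := fun x hx y hy => by
    have := S.hV.1.is_comm.comm (⟨x, hx⟩ : V) ⟨y, hy⟩
    exact congrArg Subtype.val this
  have hn : Q ≤ Subgroup.normalizer ((W ⊓ W' : Subgroup G) : Set G) :=
    le_normalizer_inf (M.Q_le_normalizer_W S) (M'.Q_le_normalizer_W S)
  have hne : W ⊓ W' ≠ ⊥ := by
    intro h0
    -- a nontrivial element of `W` centralized by `D`
    obtain ⟨-, -, hKD⟩ := minimal_data S MD.hAH MD.hA MD.hA1 MD.hmin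
    set CD : Subgroup G := V ⊓ Subgroup.centralizer (D : Set G) with hCD
    have hWV : W ≤ V := M.W_le S
    have h1 := card_sup_mul_card_inf W CD (le_trans hWV (le_normalizer_of_abelian hVab inf_le_left))
    have h2 : Nat.card ↥(W ⊔ CD : Subgroup G) ≤ Nat.card V :=
      Nat.le_of_dvd Nat.card_pos (Subgroup.card_dvd_of_le (sup_le hWV inf_le_left))
    have h3 : Nat.card W = p ^ 2 := M.card_W S
    have hpos : 0 < Nat.card CD := Nat.card_pos
    have hp1 : 1 < p := (Fact.out : p.Prime).one_lt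
    have h4 : 1 < Nat.card ↥(W ⊓ CD : Subgroup G) := by
      by_contra hle
      push_neg at hle
      have h5 : Nat.card ↥(W ⊓ CD : Subgroup G) = 1 := le_antisymm hle Nat.card_pos
      rw [h5, mul_one, h3] at h1
      rw [h1, ← hKD] at h2
      have : p ^ 2 * Nat.card CD ≤ p * Nat.card CD := h2
      have h6 : p ^ 2 ≤ p := Nat.le_of_mul_le_mul_right this hpos
      nlinarith
    have h7 : (W ⊓ CD : Subgroup G) ≠ ⊥ := by
      intro h
      rw [h, Subgroup.card_bot] at h4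
      exact lt_irrefl _ h4
    obtain ⟨w, hw1⟩ := (Subgroup.ne_bot_iff_exists_ne_one).mp h7
    have hwW : (w : G) ∈ W := w.2.1
    have hwD : (w : G) ∈ Subgroup.centralizer (D : Set G) := w.2.2.2
    have hdw : d * (w : G) * d⁻¹ = w := by
      have := Subgroup.mem_centralizer_iff.mp hwD d hd
      rw [this, mul_inv_cancel_right]
    have hwW' : (w : G) ∈ W' := by
      rw [← hWW']
      exact ⟨w, hwW, by simp only [MulEquiv.coe_toMonoidHom, MulAut.conj_apply]; exact hdw⟩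
    have : (w : G) ∈ W ⊓ W' := ⟨hwW, hwW'⟩
    rw [h0, Subgroup.mem_bot] at this
    exact hw1 (Subtype.ext this)
  have e1 : W ⊓ W' = W := by
    rcases M.irred S (inf_le_left : W ⊓ W' ≤ W) (le_trans (M.QA_le S) hn) with h | h
    · exact absurd h hne
    · exact h
  have e2 : W ⊓ W' = W' := by
    rcases M'.irred S (inf_le_right : W ⊓ W' ≤ W') (le_trans (M'.QA_le S) hn) with h | h
    · exact absurd h hne
    · exact h
  rw [← e2, e1]

/-- elements of minimal offenders normalize `K = C_V(E_A)` -/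
theorem MinOff.K_invariant (S : Setup p V H Q) (M : MinOff p V H A) (MD : MinOff p V H D)
    {d : G} (hd : d ∈ D) :
    (V ⊓ Subgroup.centralizer ((⁅Q, A⁆ ⊔ A : Subgroup G) : Set G)).map
      (MulAut.conj d).toMonoidHom =
      V ⊓ Subgroup.centralizer ((⁅Q, A⁆ ⊔ A : Subgroup G) : Set G) := by
  have hdH : d ∈ H := MD.hAH hd
  have M' := M.conj S.hHV hdH
  set A' : Subgroup G := A.map (MulAut.conj d).toMonoidHom with hA'
  set K : Subgroup G := V ⊓ Subgroup.centralizer ((⁅Q, A⁆ ⊔ A : Subgroup G) : Set G) with hK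
  have hKK' : K.map (MulAut.conj d).toMonoidHom =
      V ⊓ Subgroup.centralizer ((⁅Q, A'⁆ ⊔ A' : Subgroup G) : Set G) := M.K_map_conj S hdH
  have hWW' : ⁅V, ⁅Q, A'⁆ ⊔ A'⁆ = ⁅V, ⁅Q, A⁆ ⊔ A⁆ := by
    rw [← M.W_map_conj S hdH]; exact M.W_invariant S MD hd
  have hle : K ≤ K.map (MulAut.conj d).toMonoidHom := by
    rw [hKK', ← M'.fix_QA S]
    intro k hk
    refine ⟨hk.1, ?_⟩
    show k ∈ Subgroup.centralizer ((⁅Q, A'⁆ : Subgroup G) : Set G)
    rw [Subgroup.mem_centralizer_iff]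
    intro g hg
    have hgQ : g ∈ Q := M'.QA_le S hg
    have h1 : ⁅k, g⁆ ∈ ⁅V, ⁅Q, A⁆ ⊔ A⁆ := by
      rw [← hWW']
      exact Subgroup.commutator_mem_commutator hk.1 ((le_sup_left : ⁅Q, A'⁆ ≤ ⁅Q, A'⁆ ⊔ A') hg)
    have h2 : ⁅k, g⁆ ∈ K := by
      rw [commutatorElement_def]
      have h3 : g * k⁻¹ * g⁻¹ ∈ K :=
        (Subgroup.mem_normalizer_iff.mp (M.Q_le_normalizer_K S hgQ) k⁻¹).mp (K.inv_mem hk)
      have e : k * g * k⁻¹ * g⁻¹ = k * (g * k⁻¹ * g⁻¹) := by group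
      rw [e]
      exact K.mul_mem hk h3
    have h4 : ⁅k, g⁆ ∈ ⁅V, ⁅Q, A⁆ ⊔ A⁆ ⊓ K := ⟨h1, h2⟩
    rw [M.inf_fix S, Subgroup.mem_bot, commutatorElement_eq_one_iff_mul_comm] at h4
    exact h4.symm
  symm
  apply Subgroup.eq_of_le_of_card_ge hle
  rw [Subgroup.card_map_of_injective (MulAut.conj d).injective]

end inv

end Cfsg.Agent.Lib.Lead.KS93
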