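import Mathlib
import Cfsg.Agent.Lib.Lead.KS93s

set_option autoImplicit false

namespace Cfsg.Agent.Lib.Lead.KS93

open scoped commutatorElement
open Cfsg.Agent.Lib.Lead Cfsg.Agent.Lib.Helper6

section dich
variable {G : Type*} [Group G] [Finite G] {p : ℕ} [Fact p.Prime] {V H Q A D : Subgroup G}

theorem Setup.hVab (S : Setup p V H Q) : ∀ x ∈ V, ∀ y ∈ V, x * y = y * x := fun x hx y hy => by
  have := S.hV.1.is_comm.comm (⟨x, hx⟩ : V) ⟨y, hy⟩
  exact congrArg Subtype.val this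

theorem MinOff.D_le_normalizer_W (S : Setup p V H Q) (M : MinOff p V H A) (MD : MinOff p V H D) :
    D ≤ Subgroup.normalizer ((⁅V, ⁅Q, A⁆ ⊔ A⁆ : Subgroup G) : Set G) :=
  fun _ hd => mem_normalizer_of_map_conj_eq (M.W_invariant S MD hd)

theorem MinOff.D_le_normalizer_K (S : Setup p V H Q) (M : MinOff p V H A) (MD : MinOff p V H D) :
    D ≤ Subgroup.normalizer
      ((V ⊓ Subgroup.centralizer ((⁅Q, A⁆ ⊔ A : Subgroup G) : Set G) : Subgroup G) : Set G) :=
  fun _ hd => mem_normalizer_of_map_conj_eq (M.K_invariant S MD hd)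

theorem MinOff.quad (S : Setup p V H Q) (M : MinOff p V H A) :
    ⁅V, A⁆ ≤ Subgroup.centralizer (A : Set G) :=
  quadratic_of_card_prime (isPGroup_V S) (M.isPGroup S) (le_trans M.hAH S.hHV)
    (minimal_data S M.hAH M.hA M.hA1 M.hmin).2.1

/-- a minimal offender either centralizes `W = ⁅V, E_A⁆` or lies in `E_A` -/
theorem MinOff.dichotomy (S : Setup p V H Q) (M : MinOff p V H A) (MD : MinOff p V H D) :
    D ≤ Subgroup.centralizer ((⁅V, ⁅Q, A⁆ ⊔ A⁆ : Subgroup G) : Set G) ∨ D ≤ ⁅Q, A⁆ ⊔ A := by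
  set E : Subgroup G := ⁅Q, A⁆ ⊔ A with hE
  set W : Subgroup G := ⁅V, E⁆ with hW
  set K : Subgroup G := V ⊓ Subgroup.centralizer (E : Set G) with hK
  have hVab := S.hVab
  have hDW : D ≤ Subgroup.normalizer (W : Set G) := M.D_le_normalizer_W S MD
  have hDK : D ≤ Subgroup.normalizer (K : Set G) := M.D_le_normalizer_K S MD
  have hWV : W ≤ V := M.W_le S
  obtain ⟨hcD, hL, -⟩ := minimal_data S MD.hAH MD.hA MD.hA1 MD.hmin
  have hWDL : ⁅W, D⁆ ≤ ⁅V, D⁆ := Subgroup.commutator_mono hWV le_rfl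
  have hKDL : ⁅K, D⁆ ≤ ⁅V, D⁆ := Subgroup.commutator_mono inf_le_left le_rfl
  rcases eq_bot_or_eq_of_card_prime hWDL hL with h | h
  · left
    exact Subgroup.le_centralizer_iff.mp (Subgroup.commutator_eq_bot_iff_le_centralizer.mp h)
  right
  have hLW : ⁅V, D⁆ ≤ W := by
    rw [← h]; exact commutator_le_left_of_le_normalizer W D hDW
  have hKD : K ≤ Subgroup.centralizer (D : Set G) := by
    rcases eq_bot_or_eq_of_card_prime hKDL hL with h' | h'
    · exact Subgroup.commutator_eq_bot_iff_le_centralizer.mp h'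
    · exfalso
      have h1 : ⁅V, D⁆ ≤ W ⊓ K := le_inf hLW (by
        rw [← h']; exact commutator_le_left_of_le_normalizer K D hDK)
      rw [M.inf_fix S] at h1
      have h2 : (⁅V, D⁆ : Subgroup G) = ⊥ := eq_bot_iff.mpr h1
      rw [h2, Subgroup.card_bot] at hL
      exact (Fact.out : p.Prime).one_lt.ne hL
  obtain ⟨l, hlL, hl1, hLz⟩ := exists_gen_of_card_prime hL
  obtain ⟨z, hz, hlA'⟩ := M.line S (hLW hlL)
  have M' := M.conj S.hHV (S.hQH hz)
  set A' : Subgroup G := A.map (MulAut.conj z).toMonoidHom with hA'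
  have hA'E : A' ≤ E := conj_le_commutator_sup hz
  obtain ⟨hcA', hL', -⟩ := minimal_data S M'.hAH M'.hA M'.hA1 M'.hmin
  have hL'L : ⁅V, A'⁆ = ⁅V, D⁆ := by
    rw [hLz]; exact eq_zpowers_of_card_prime hL' hlA' hl1
  obtain ⟨d, hdD, hd1, hDz⟩ := exists_gen_of_card_prime hcD
  obtain ⟨a', ha'A', ha'1, hA'z⟩ := exists_gen_of_card_prime hcA'
  -- a vector of `W` outside `L`
  have hLneW : (⁅V, D⁆ : Subgroup G) ≠ W := by
    intro h0
    have := M.card_W S
    rw [← hW, ← h0, hL] at this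
    have hp1 : 1 < p := (Fact.out : p.Prime).one_lt
    nlinarith
  obtain ⟨w, hwW, hwL⟩ := SetLike.exists_of_lt (lt_of_le_of_ne hLW hLneW)
  have hwV : w ∈ V := hWV hwW
  have hLwW : ⁅V, D⁆ ⊔ Subgroup.zpowers w = W := by
    have hle : ⁅V, D⁆ ⊔ Subgroup.zpowers w ≤ W :=
      sup_le hLW ((Subgroup.zpowers_le).mpr hwW)
    have hdvd : Nat.card ↥(⁅V, D⁆ ⊔ Subgroup.zpowers w : Subgroup G) ∣ p ^ 2 := by
      rw [← M.card_W S]; exact Subgroup.card_dvd_of_le hle
    obtain ⟨k, hk2, hk⟩ := (Nat.dvd_prime_pow (Fact.out : p.Prime)).mp hdvd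
    have hp1 : 1 < p := (Fact.out : p.Prime).one_lt
    have hLle : ⁅V, D⁆ ≤ ⁅V, D⁆ ⊔ Subgroup.zpowers w := le_sup_left
    have hLdvd : p ∣ Nat.card ↥(⁅V, D⁆ ⊔ Subgroup.zpowers w : Subgroup G) := by
      rw [← hL]; exact Subgroup.card_dvd_of_le hLle
    interval_cases k
    · exfalso
      rw [hk, pow_zero] at hLdvd
      exact (Fact.out : p.Prime).one_lt.ne' (Nat.dvd_one.mp hLdvd)
    · exfalso
      have : ⁅V, D⁆ = ⁅V, D⁆ ⊔ Subgroup.zpowers w :=
        Subgroup.eq_of_le_of_card_ge hLle (by rw [hk, hL, pow_one])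
      apply hwL
      rw [this]
      exact (le_sup_right : Subgroup.zpowers w ≤ _) (Subgroup.mem_zpowers w)
    · apply Subgroup.eq_of_le_of_card_ge hle
      rw [hk]
      exact le_of_eq (M.card_W S)
  -- both generators centralize `L`
  have hLa' : ⁅V, D⁆ ≤ Subgroup.centralizer (A' : Set G) := by
    rw [← hL'L]; exact M'.quad S
  have hLd : ⁅V, D⁆ ≤ Subgroup.centralizer (D : Set G) := MD.quad S
  set l₁ : G := ⁅w, a'⁆ with hl₁
  have hl₁L : l₁ ∈ ⁅V, D⁆ := by
    rw [← hL'L]; exact Subgroup.commutator_mem_commutator hwV ha'A'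
  have hl₁ne : l₁ ≠ 1 := by
    intro h0
    rw [hl₁, commutatorElement_eq_one_iff_mul_comm] at h0
    have h1 : W ≤ Subgroup.centralizer (A' : Set G) := by
      rw [← hLwW]
      apply sup_le hLa'
      rw [Subgroup.zpowers_le, hA'z, mem_centralizer_zpowers_iff]
      exact h0
    have h2 : A' ≤ E ⊓ Subgroup.centralizer (W : Set G) :=
      le_inf hA'E (Subgroup.le_centralizer_iff.mp h1)
    rw [M.faithful S] at h2
    exact M'.hA1 (eq_bot_iff.mpr h2)
  have hLz₁ : ⁅V, D⁆ = Subgroup.zpowers l₁ := eq_zpowers_of_card_prime hL hl₁L hl₁ne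
  have hwd : ⁅w, d⁆ ∈ ⁅V, D⁆ := Subgroup.commutator_mem_commutator hwV hdD
  rw [hLz₁, ← mem_powers_iff_mem_zpowers, Submonoid.mem_powers_iff] at hwd
  obtain ⟨k, hk⟩ := hwd
  have ha'l : a' * l₁ * a'⁻¹ = l₁ := by
    have := Subgroup.mem_centralizer_iff.mp (hLa' hl₁L) a' ha'A'
    rw [this, mul_inv_cancel_right]
  have hconj_a : ∀ n : ℕ, a' ^ n * w * (a' ^ n)⁻¹ = (l₁ ^ n)⁻¹ * w := by
    intro n
    induction n with
    | zero => simp
    | succ n ih =>
      have e : a' ^ (n + 1) * w * (a' ^ (n + 1))⁻¹ = a' * (a' ^ n * w * (a' ^ n)⁻¹) * a'⁻¹ := by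
        rw [pow_succ']; group
      rw [e, ih]
      have e' : a' * ((l₁ ^ n)⁻¹ * w) * a'⁻¹ = ((a' * l₁ * a'⁻¹) ^ n)⁻¹ * (a' * w * a'⁻¹) := by
        rw [conj_pow]; group
      rw [e', ha'l]
      have e'' : a' * w * a'⁻¹ = l₁⁻¹ * w := by
        rw [hl₁, commutatorElement_def]; group
      rw [e'']
      group
  have hconj_d : d * w * d⁻¹ = (l₁ ^ k)⁻¹ * w := by
    rw [hk, commutatorElement_def]; group
  -- the element `c = (a'^k)⁻¹ d` centralizes `V`
  set c : G := (a' ^ k)⁻¹ * d with hc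
  have ha'H : a' ∈ H := M'.hAH ha'A'
  have hdH : d ∈ H := MD.hAH hdD
  have hcH : c ∈ H := H.mul_mem (H.inv_mem (H.pow_mem ha'H k)) hdH
  have hcomm_of : ∀ v : G, a' * v = v * a' → d * v = v * d → c * v = v * c := by
    intro v h1 h2
    have h3 : a' ^ k * v = v * a' ^ k := by
      have : Commute a' v := h1
      exact (this.pow_left k).eq
    have h4 : (a' ^ k)⁻¹ * v = v * (a' ^ k)⁻¹ := by
      have : Commute (a' ^ k) v := h3
      exact this.inv_left.eq
    rw [hc, mul_assoc, h2, ← mul_assoc, h4, mul_assoc]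
  have hcV : V ≤ Subgroup.centralizer ({c} : Set G) := by
    have hL_le : ⁅V, D⁆ ≤ Subgroup.centralizer ({c} : Set G) := by
      intro v hv
      rw [Subgroup.mem_centralizer_iff]
      intro x hx
      rw [Set.mem_singleton_iff] at hx
      rw [hx]
      exact hcomm_of v (Subgroup.mem_centralizer_iff.mp (hLa' hv) a' ha'A')
        (Subgroup.mem_centralizer_iff.mp (hLd hv) d hdD)
    have hK_le : K ≤ Subgroup.centralizer ({c} : Set G) := by
      intro v hv
      rw [Subgroup.mem_centralizer_iff]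
      intro x hx
      rw [Set.mem_singleton_iff] at hx
      rw [hx]
      exact hcomm_of v (Subgroup.mem_centralizer_iff.mp hv.2 a' (hA'E ha'A'))
        (Subgroup.mem_centralizer_iff.mp (hKD hv) d hdD)
    have hw_le : Subgroup.zpowers w ≤ Subgroup.centralizer ({c} : Set G) := by
      rw [Subgroup.zpowers_le, Subgroup.mem_centralizer_iff]
      intro x hx
      rw [Set.mem_singleton_iff] at hx
      rw [hx]
      have h5 : c * w * c⁻¹ = w := by
        have e : c * w * c⁻¹ = (a' ^ k)⁻¹ * (d * w * d⁻¹) * (a' ^ k) := by rw [hc]; group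
        rw [e, hconj_d, ← hconj_a k]; group
      calc c * w = c * w * c⁻¹ * c := by group
        _ = w * c := by rw [h5]
    rw [← M.sup_fix S, ← hE, ← hW, ← hLwW]
    exact sup_le (sup_le hL_le hw_le) hK_le
  have hc1 : c = 1 := by
    have h1 : c ∈ H ⊓ Subgroup.centralizer (V : Set G) := by
      refine ⟨hcH, ?_⟩
      show c ∈ Subgroup.centralizer (V : Set G)
      rw [Subgroup.mem_centralizer_iff]
      intro v hv
      exact (Subgroup.mem_centralizer_iff.mp (hcV hv) c rfl).symm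
    rw [S.hf, Subgroup.mem_bot] at h1
    exact h1
  have hd_eq : d = a' ^ k := by
    have : a' ^ k * c = d := by rw [hc]; group
    rw [← this, hc1, mul_one]
  rw [hDz, Subgroup.zpowers_le, hd_eq]
  exact hA'E (A'.pow_mem ha'A' k)

end dich

end Cfsg.Agent.Lib.Lead.KS93
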