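import Mathlib
import Cfsg.Agent.Lib.Lead.KS93t

set_option autoImplicit false

namespace Cfsg.Agent.Lib.Lead.KS93

open scoped commutatorElement
open Cfsg.Agent.Lib.Lead Cfsg.Agent.Lib.Helper6

section gen
variable {G : Type*} [Group G] [Finite G] {p : ℕ} [Fact p.Prime] {V H Q A D : Subgroup G}

/-- `H` is generated by its minimal offenders -/
theorem le_of_minOff (S : Setup p V H Q)
    (hS3 : H = ⨆ A : {A : Subgroup G // A ≤ H ∧ Cfsg.IsBestOffenderOn p V A}, (A : Subgroup G))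
    {X : Subgroup G} (h : ∀ D : Subgroup G, MinOff p V H D → D ≤ X) : H ≤ X := by
  have key : (⨆ A : {A : Subgroup G // A ≤ H ∧ Cfsg.IsBestOffenderOn p V A}, (A : Subgroup G)) ≤ X := by
    apply iSup_le
    rintro ⟨A, hAH, hA⟩
    show A ≤ X
    by_cases hA1 : A = ⊥
    · rw [hA1]; exact bot_le
    obtain ⟨k, B, hB, -, hsup⟩ := decomposition S _ A rfl hAH hA hA1
    rw [← hsup]
    apply iSup_le
    intro i
    obtain ⟨hBA, hBoff, hB1, hBmin⟩ := hB i
    exact h (B i) ⟨le_trans hBA hAH, hBoff, hB1, hBmin⟩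
  exact le_of_eq_of_le hS3 key

variable (hS3 : H = ⨆ A : {A : Subgroup G // A ≤ H ∧ Cfsg.IsBestOffenderOn p V A}, (A : Subgroup G))
include hS3

theorem MinOff.H_le_normalizer_W (S : Setup p V H Q) (M : MinOff p V H A) :
    H ≤ Subgroup.normalizer ((⁅V, ⁅Q, A⁆ ⊔ A⁆ : Subgroup G) : Set G) :=
  le_of_minOff S hS3 (fun _ MD => M.D_le_normalizer_W S MD)

theorem MinOff.H_le_normalizer_K (S : Setup p V H Q) (M : MinOff p V H A) :
    H ≤ Subgroup.normalizer
      ((V ⊓ Subgroup.centralizer ((⁅Q, A⁆ ⊔ A : Subgroup G) : Set G) : Subgroup G) : Set G) :=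
  le_of_minOff S hS3 (fun _ MD => M.D_le_normalizer_K S MD)

/-- every `H`-conjugate of `A` lies in `E_A` -/
theorem MinOff.conj_le_EA (S : Setup p V H Q) (M : MinOff p V H A) {h : G} (hh : h ∈ H) :
    A.map (MulAut.conj h).toMonoidHom ≤ ⁅Q, A⁆ ⊔ A := by
  have M' := M.conj S.hHV hh
  rcases M.dichotomy S M' with hc | hc
  · exfalso
    -- then `A` centralizes `W`
    have hW : (⁅V, ⁅Q, A⁆ ⊔ A⁆).map (MulAut.conj h⁻¹).toMonoidHom = ⁅V, ⁅Q, A⁆ ⊔ A⁆ :=
      map_conj_eq_of_mem_normalizer (M.H_le_normalizer_W hS3 S (H.inv_mem hh))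
    have h1 : A ≤ Subgroup.centralizer ((⁅V, ⁅Q, A⁆ ⊔ A⁆ : Subgroup G) : Set G) := by
      have h2 := Subgroup.map_mono (f := (MulAut.conj h⁻¹).toMonoidHom) hc
      rw [map_conj_inv_map_conj, map_centralizer_equiv, hW] at h2
      exact h2
    have h3 : A ≤ (⁅Q, A⁆ ⊔ A) ⊓ Subgroup.centralizer ((⁅V, ⁅Q, A⁆ ⊔ A⁆ : Subgroup G) : Set G) :=
      le_inf le_sup_right h1
    rw [M.faithful S] at h3
    exact M.hA1 (eq_bot_iff.mpr h3)
  · exact hc

theorem MinOff.H_le_normalizer_EA (S : Setup p V H Q) (M : MinOff p V H A) :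
    H ≤ Subgroup.normalizer ((⁅Q, A⁆ ⊔ A : Subgroup G) : Set G) := by
  apply ExpSec.le_normalizer_of_conj_mem
  intro g hg y hy
  have hle : (⁅Q, A⁆ ⊔ A : Subgroup G).map (MulAut.conj g).toMonoidHom ≤ ⁅Q, A⁆ ⊔ A := by
    rw [map_conj_commutator_sup (S.hQn hg)]
    apply sup_le _ (M.conj_le_EA hS3 S hg)
    refine le_trans (Subgroup.commutator_mono le_rfl (M.conj_le_EA hS3 S hg)) ?_
    rw [Subgroup.commutator_comm]
    exact commutator_le_left_of_le_normalizer _ Q (M.Q_le_normalizer_EA S)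
  exact hle ⟨y, hy, by simp [MulAut.conj_apply]⟩

end gen

end Cfsg.Agent.Lib.Lead.KS93
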