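import Mathlib
import Cfsg.Agent.Lib.Lead.KS93u

set_option autoImplicit false

namespace Cfsg.Agent.Lib.Lead.KS93

open scoped commutatorElement
open Cfsg.Agent.Lib.Lead Cfsg.Agent.Lib.Helper6

section factor
variable {G : Type*} [Group G] [Finite G] {p : ℕ} [Fact p.Prime] {V H Q A D : Subgroup G}
variable (hS3 : H = ⨆ A : {A : Subgroup G // A ≤ H ∧ Cfsg.IsBestOffenderOn p V A}, (A : Subgroup G))
include hS3

theorem MinOff.H_le_normalizer_CW (S : Setup p V H Q) (M : MinOff p V H A) :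
    H ≤ Subgroup.normalizer
      ((H ⊓ Subgroup.centralizer ((⁅V, ⁅Q, A⁆ ⊔ A⁆ : Subgroup G) : Set G) : Subgroup G) : Set G) :=
  le_normalizer_inf Subgroup.le_normalizer
    (le_trans (M.H_le_normalizer_W hS3 S) (normalizer_le_normalizer_centralizer _))

theorem MinOff.inf_CW (S : Setup p V H Q) (M : MinOff p V H A) :
    (⁅Q, A⁆ ⊔ A) ⊓ (H ⊓ Subgroup.centralizer ((⁅V, ⁅Q, A⁆ ⊔ A⁆ : Subgroup G) : Set G)) = ⊥ := by
  rw [eq_bot_iff, ← M.faithful S]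
  exact inf_le_inf_left _ inf_le_right

theorem MinOff.commutator_CW (S : Setup p V H Q) (M : MinOff p V H A) :
    ⁅⁅Q, A⁆ ⊔ A, H ⊓ Subgroup.centralizer ((⁅V, ⁅Q, A⁆ ⊔ A⁆ : Subgroup G) : Set G)⁆ = ⊥ := by
  rw [eq_bot_iff, ← M.inf_CW hS3 S]
  apply le_inf
  · exact commutator_le_left_of_le_normalizer _ _ (le_trans inf_le_left (M.H_le_normalizer_EA hS3 S))
  · rw [Subgroup.commutator_comm]
    exact commutator_le_left_of_le_normalizer _ _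
      (le_trans (M.EA_le S) (M.H_le_normalizer_CW hS3 S))

theorem MinOff.sup_CW (S : Setup p V H Q) (M : MinOff p V H A) :
    (⁅Q, A⁆ ⊔ A) ⊔ (H ⊓ Subgroup.centralizer ((⁅V, ⁅Q, A⁆ ⊔ A⁆ : Subgroup G) : Set G)) = H := by
  apply le_antisymm (sup_le (M.EA_le S) inf_le_left)
  apply le_of_minOff S hS3
  intro D MD
  rcases M.dichotomy S MD with h | h
  · exact le_trans (le_inf MD.hAH h) le_sup_right
  · exact le_trans h le_sup_left

theorem MinOff.commutator_V_CW (S : Setup p V H Q) (M : MinOff p V H A) :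
    ⁅V, H ⊓ Subgroup.centralizer ((⁅V, ⁅Q, A⁆ ⊔ A⁆ : Subgroup G) : Set G)⁆ ≤
      V ⊓ Subgroup.centralizer ((⁅Q, A⁆ ⊔ A : Subgroup G) : Set G) := by
  set K : Subgroup G := V ⊓ Subgroup.centralizer ((⁅Q, A⁆ ⊔ A : Subgroup G) : Set G) with hK
  rw [Subgroup.commutator_le]
  intro v hv c hc
  have hv' : v ∈ ⁅V, ⁅Q, A⁆ ⊔ A⁆ ⊔ K := by rw [M.sup_fix S]; exact hv
  have hWV : ⁅V, ⁅Q, A⁆ ⊔ A⁆ ≤ V := M.W_le S
  obtain ⟨w, hw, k, hk, rfl⟩ := exists_mul_of_mem_sup'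
    (le_trans inf_le_left (le_normalizer_of_abelian S.hVab hWV)) hv'
  have hcw : c * w⁻¹ = w⁻¹ * c :=
    (Subgroup.mem_centralizer_iff.mp hc.2 w⁻¹ (Subgroup.inv_mem _ hw)).symm
  have hkc : ⁅k, c⁆ ∈ K := by
    rw [commutatorElement_def]
    have h3 : c * k⁻¹ * c⁻¹ ∈ K :=
      (Subgroup.mem_normalizer_iff.mp (M.H_le_normalizer_K hS3 S hc.1) k⁻¹).mp (K.inv_mem hk)
    have e : k * c * k⁻¹ * c⁻¹ = k * (c * k⁻¹ * c⁻¹) := by group
    rw [e]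
    exact K.mul_mem hk h3
  have e1 : ⁅w * k, c⁆ = w * ⁅k, c⁆ * w⁻¹ := by
    have : ⁅w * k, c⁆ = w * ⁅k, c⁆ * (c * w⁻¹) * c⁻¹ := by
      simp only [commutatorElement_def]; group
    rw [this, hcw]; group
  have e2 : w * ⁅k, c⁆ * w⁻¹ = ⁅k, c⁆ := by
    rw [S.hVab w (hWV hw) _ hkc.1]; group
  rw [e1, e2]
  exact hkc

end factor

end Cfsg.Agent.Lib.Lead.KS93
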