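import Mathlib
import Cfsg.Agent.Lib.Lead.KS93v

set_option autoImplicit false

namespace Cfsg.Agent.Lib.Lead.KS93

open scoped commutatorElement
open Cfsg.Agent.Lib.Lead Cfsg.Agent.Lib.Helper6

section decomp
variable {G : Type*} [Group G] [Finite G]

/-- abstract decomposition: pairwise compatible direct decompositions `V = W i × K i` of an abelian
group assemble to `V = (∏ W i) × ⋂ K i`. -/
theorem decomp_finset {V : Subgroup G} (hVab : ∀ x ∈ V, ∀ y ∈ V, x * y = y * x)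
    {ι : Type*} [DecidableEq ι] (W K : ι → Subgroup G) (hWV : ∀ i, W i ≤ V) (hKV : ∀ i, K i ≤ V)
    (hdisj : ∀ i, W i ⊓ K i = ⊥) (hsup : ∀ i, V ≤ W i ⊔ K i)
    (hWK : ∀ i j, i ≠ j → W i ≤ K j) (F : Finset ι) :
    (⨆ i ∈ F, W i) ⊓ (V ⊓ ⨅ i ∈ F, K i) = ⊥ ∧ V ≤ (⨆ i ∈ F, W i) ⊔ (V ⊓ ⨅ i ∈ F, K i) := by
  induction F using Finset.induction_on with
  | empty => simp
  | insert a s ha ih =>
    obtain ⟨ih1, ih2⟩ := ih
    rw [Finset.iSup_insert, Finset.iInf_insert]
    set X : Subgroup G := ⨆ i ∈ s, W i with hX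
    set KF : Subgroup G := ⨅ i ∈ s, K i with hKF
    have hXV : X ≤ V := by
      rw [hX]
      exact iSup_le fun i => iSup_le fun _ => hWV i
    have hWaKF : W a ≤ KF := by
      rw [hKF]
      refine le_iInf fun i => le_iInf fun hi => hWK a i ?_
      rintro rfl
      exact ha hi
    have hXKa : X ≤ K a := by
      rw [hX]
      refine iSup_le fun i => iSup_le fun hi => hWK i a ?_
      rintro rfl
      exact ha hi
    have hnorm : ∀ Y Z : Subgroup G, Y ≤ V → Z ≤ V → Y ≤ Subgroup.normalizer (Z : Set G) :=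
      fun Y Z hY hZ => le_trans hY (le_normalizer_of_abelian hVab hZ)
    constructor
    · rw [eq_bot_iff]
      rintro v ⟨hv1, hvV, hv2'⟩
      have hv1 : v ∈ W a ⊔ X := hv1
      have hv2 : v ∈ K a ∧ v ∈ KF := hv2'
      obtain ⟨w, hw, x, hx, rfl⟩ := exists_mul_of_mem_sup' (hnorm X (W a) hXV (hWV a)) hv1
      have hx1 : x = 1 := by
        have h1 : x ∈ KF := by
          have := KF.mul_mem (KF.inv_mem (hWaKF hw)) hv2.2
          rwa [inv_mul_cancel_left] at this
        have h2 : x ∈ X ⊓ (V ⊓ KF) := ⟨hx, hXV hx, h1⟩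
        rwa [ih1, Subgroup.mem_bot] at h2
      rw [hx1, mul_one] at hv2 ⊢
      have h3 : w ∈ W a ⊓ K a := ⟨hw, hv2.1⟩
      rwa [hdisj a, Subgroup.mem_bot] at h3
    · intro v hv
      obtain ⟨x, hx, k, hk, rfl⟩ := exists_mul_of_mem_sup'
        (hnorm (V ⊓ KF) X inf_le_left hXV) (ih2 hv)
      obtain ⟨w, hw, k', hk', hkk'⟩ := exists_mul_of_mem_sup'
        (hnorm (K a) (W a) (hKV a) (hWV a)) (hsup a hk.1)
      have hk'KF : k' ∈ KF := by
        have := KF.mul_mem (KF.inv_mem (hWaKF hw)) hk.2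
        rwa [hkk', inv_mul_cancel_left] at this
      have e : x * k = (w * x) * k' := by
        rw [hkk', ← mul_assoc, hVab x (hXV hx) w (hWV a hw)]
      rw [e]
      exact Subgroup.mul_mem _
        (le_sup_left (a := W a ⊔ X) (b := V ⊓ (K a ⊓ KF))
          (Subgroup.mul_mem _ (le_sup_left (a := W a) (b := X) hw)
            (le_sup_right (a := W a) (b := X) hx)))
        (le_sup_right (a := W a ⊔ X) (b := V ⊓ (K a ⊓ KF)) ⟨hKV a hk', hk', hk'KF⟩)

end decomp

end Cfsg.Agent.Lib.Lead.KS93
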