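import Mathlib
import Cfsg.Agent.Lib.Lead.KS93w

set_option autoImplicit false

namespace Cfsg.Agent.Lib.Lead.KS93

open scoped commutatorElement
open Cfsg.Agent.Lib.Lead Cfsg.Agent.Lib.Helper6

section assembly
variable {G : Type*} [Group G] [Finite G] {p : ℕ} [Fact p.Prime] {V H Q : Subgroup G}
variable (hS3 : H = ⨆ A : {A : Subgroup G // A ≤ H ∧ Cfsg.IsBestOffenderOn p V A}, (A : Subgroup G))
include hS3

/-- a block `E_D` different from `E_A` centralizes `W_A` -/
theorem MinOff.block_le_CW (S : Setup p V H Q) {A D : Subgroup G} (M : MinOff p V H A)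
    (MD : MinOff p V H D) (hne : ⁅Q, D⁆ ⊔ D ≠ ⁅Q, A⁆ ⊔ A) :
    ⁅Q, D⁆ ⊔ D ≤ H ⊓ Subgroup.centralizer ((⁅V, ⁅Q, A⁆ ⊔ A⁆ : Subgroup G) : Set G) := by
  rcases M.dichotomy S MD with h | h
  · have hD : D ≤ H ⊓ Subgroup.centralizer ((⁅V, ⁅Q, A⁆ ⊔ A⁆ : Subgroup G) : Set G) :=
      le_inf MD.hAH h
    apply sup_le _ hD
    refine le_trans (Subgroup.commutator_mono le_rfl hD) ?_
    rw [Subgroup.commutator_comm]
    exact commutator_le_left_of_le_normalizer _ Q (le_trans S.hQH (M.H_le_normalizer_CW hS3 S))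
  · exfalso
    apply hne
    have hle : ⁅Q, D⁆ ⊔ D ≤ ⁅Q, A⁆ ⊔ A := by
      apply sup_le _ h
      refine le_trans (Subgroup.commutator_mono le_rfl h) ?_
      rw [Subgroup.commutator_comm]
      exact commutator_le_left_of_le_normalizer _ Q (M.Q_le_normalizer_EA S)
    apply Subgroup.eq_of_le_of_card_ge hle
    obtain ⟨e1⟩ := (M.iso S).2
    obtain ⟨e2⟩ := (MD.iso S).2
    rw [Nat.card_congr e1.toEquiv, Nat.card_congr e2.toEquiv]

variable {ι : Type*} (E : ι → Subgroup G)
  (hE : ∀ i, ∃ A : Subgroup G, MinOff p V H A ∧ E i = ⁅Q, A⁆ ⊔ A)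
  (hinj : Function.Injective E)
  (hall : ∀ A : Subgroup G, MinOff p V H A → ∃ i, E i = ⁅Q, A⁆ ⊔ A)
include hE hinj

theorem blocks_le_CW (S : Setup p V H Q) {i j : ι} (hij : j ≠ i) :
    E j ≤ H ⊓ Subgroup.centralizer ((⁅V, E i⁆ : Subgroup G) : Set G) := by
  obtain ⟨A, M, hA⟩ := hE i
  obtain ⟨D, MD, hD⟩ := hE j
  rw [hA, hD]
  apply M.block_le_CW hS3 S MD
  rw [← hA, ← hD]
  exact fun h => hij (hinj h)

theorem blocks_iSupIndep (S : Setup p V H Q) : iSupIndep E := by
  intro i
  rw [disjoint_iff, eq_bot_iff]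
  obtain ⟨A, M, hA⟩ := hE i
  have h1 : (⨆ (j : ι) (_ : j ≠ i), E j) ≤
      H ⊓ Subgroup.centralizer ((⁅V, E i⁆ : Subgroup G) : Set G) :=
    iSup_le fun j => iSup_le fun hj => blocks_le_CW hS3 E hE hinj S hj
  refine le_trans (inf_le_inf_left _ h1) ?_
  rw [hA, M.inf_CW hS3 S]

theorem blocks_W_le_K (S : Setup p V H Q) {i j : ι} (hij : j ≠ i) :
    ⁅V, E j⁆ ≤ V ⊓ Subgroup.centralizer ((E i : Subgroup G) : Set G) := by
  obtain ⟨A, M, hA⟩ := hE i
  have h1 := blocks_le_CW hS3 E hE hinj S hij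
  refine le_trans (Subgroup.commutator_mono le_rfl h1) ?_
  rw [hA]
  exact M.commutator_V_CW hS3 S

omit hinj in
include hall in
theorem blocks_iSup (S : Setup p V H Q) : ⨆ i, E i = H := by
  apply le_antisymm
  · apply iSup_le
    intro i
    obtain ⟨A, M, hA⟩ := hE i
    rw [hA]
    exact M.EA_le S
  · apply le_of_minOff S hS3
    intro D MD
    obtain ⟨i, hi⟩ := hall D MD
    exact le_trans (le_trans le_sup_right (le_of_eq hi.symm)) (le_iSup E i)

include hall in
theorem blocks_decomp (S : Setup p V H Q) :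
    (⨆ i, ⁅V, E i⁆) ⊓ (V ⊓ Subgroup.centralizer (H : Set G)) = ⊥ ∧
      V ≤ (⨆ i, ⁅V, E i⁆) ⊔ (V ⊓ Subgroup.centralizer (H : Set G)) := by
  classical
  haveI : Finite ι := Finite.of_injective E hinj
  haveI : Fintype ι := Fintype.ofFinite ι
  have hfix : V ⊓ ⨅ i, (V ⊓ Subgroup.centralizer ((E i : Subgroup G) : Set G)) =
      V ⊓ Subgroup.centralizer (H : Set G) := by
    apply le_antisymm
    · rintro g ⟨hgV, hg⟩
      refine ⟨hgV, ?_⟩
      have hg' : ∀ i, g ∈ Subgroup.centralizer ((E i : Subgroup G) : Set G) := by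
        intro i
        have := (Subgroup.mem_iInf.mp hg i)
        exact this.2
      have hH : H ≤ Subgroup.centralizer ({g} : Set G) := by
        rw [← blocks_iSup hS3 E hE hall S]
        apply iSup_le
        intro i x hx
        rw [Subgroup.mem_centralizer_iff]
        intro y hy
        rw [Set.mem_singleton_iff] at hy
        rw [hy]
        exact (Subgroup.mem_centralizer_iff.mp (hg' i) x hx).symm
      show g ∈ Subgroup.centralizer (H : Set G)
      rw [Subgroup.mem_centralizer_iff]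
      intro h hh
      exact (Subgroup.mem_centralizer_iff.mp (hH hh) g rfl).symm
    · apply le_inf inf_le_left
      apply le_iInf
      intro i
      obtain ⟨A, M, hA⟩ := hE i
      refine inf_le_inf_left _ (Subgroup.centralizer_le ?_)
      show (E i : Set G) ⊆ (H : Set G)
      have : E i ≤ H := by rw [hA]; exact M.EA_le S
      exact this
  have key := decomp_finset S.hVab (fun i => ⁅V, E i⁆)
    (fun i => V ⊓ Subgroup.centralizer ((E i : Subgroup G) : Set G))
    (fun i => by
      obtain ⟨A, M, hA⟩ := hE i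
      rw [hA]; exact M.W_le S)
    (fun i => inf_le_left)
    (fun i => by
      obtain ⟨A, M, hA⟩ := hE i
      rw [hA]; exact M.inf_fix S)
    (fun i => by
      obtain ⟨A, M, hA⟩ := hE i
      rw [hA]; exact le_of_eq (M.sup_fix S).symm)
    (fun i j hij => blocks_W_le_K hS3 E hE hinj S hij)
    (Finset.univ : Finset ι)
  simp only [Finset.mem_univ, iSup_pos, iInf_pos] at key
  rw [hfix] at key
  exact key

include hall in
theorem blocks_option_iSupIndep (S : Setup p V H Q) :
    iSupIndep (fun o : Option ι => o.elim (V ⊓ Subgroup.centralizer (H : Set G))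
      (fun i => ⁅V, E i⁆)) := by
  intro o
  rw [disjoint_iff, eq_bot_iff]
  cases o with
  | none =>
    have h1 : (⨆ (j : Option ι) (_ : j ≠ none), j.elim (V ⊓ Subgroup.centralizer (H : Set G))
        (fun i => ⁅V, E i⁆)) ≤ ⨆ i, ⁅V, E i⁆ := by
      apply iSup_le
      intro j
      apply iSup_le
      intro hj
      cases j with
      | none => exact absurd rfl hj
      | some i => exact le_iSup (fun i => ⁅V, E i⁆) i
    refine le_trans (inf_le_inf_left _ h1) ?_
    show (V ⊓ Subgroup.centralizer (H : Set G)) ⊓ (⨆ i, ⁅V, E i⁆) ≤ ⊥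
    rw [inf_comm, (blocks_decomp hS3 E hE hinj hall S).1]
  | some i =>
    obtain ⟨A, M, hA⟩ := hE i
    have h1 : (⨆ (j : Option ι) (_ : j ≠ some i), j.elim (V ⊓ Subgroup.centralizer (H : Set G))
        (fun i => ⁅V, E i⁆)) ≤ V ⊓ Subgroup.centralizer ((E i : Subgroup G) : Set G) := by
      apply iSup_le
      intro j
      apply iSup_le
      intro hj
      cases j with
      | none =>
        refine inf_le_inf_left _ (Subgroup.centralizer_le ?_)
        show (E i : Set G) ⊆ (H : Set G)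
        have : E i ≤ H := by rw [hA]; exact M.EA_le S
        exact this
      | some j =>
        have hji : j ≠ i := fun h => hj (by rw [h])
        exact blocks_W_le_K hS3 E hE hinj S hji
    refine le_trans (inf_le_inf_left _ h1) ?_
    show ⁅V, E i⁆ ⊓ (V ⊓ Subgroup.centralizer ((E i : Subgroup G) : Set G)) ≤ ⊥
    rw [hA, M.inf_fix S]

end assembly

end Cfsg.Agent.Lib.Lead.KS93
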