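import Mathlib
import Cfsg.Agent.Lib.Lead.Holo3
import Cfsg.Agent.Lib.Lead.KS93x
import Cfsg.Agent.S0606

set_option autoImplicit false

namespace Cfsg.Agent.Lib.Lead.Holo

open scoped commutatorElement
open Cfsg.Agent.Lib.Helper2.OmegaZ Cfsg.Agent.Lib.Lead.KS93

universe u

section
variable {G : Type u} [Group G] [Finite G] {p : ℕ} [hp : Fact p.Prime]
  (V : Subgroup G) [hVn : V.Normal]

/-- the structure of `J(G) C_G(V) / C_G(V)` when `J(G)` does not centralize `V` -/
theorem structure_of_not_le (hVea : Cfsg.IsElementaryAbelian p V)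
    [hn : (Subgroup.centralizer (V : Set G)).Normal]
    (hsep : Cfsg.IsPSolvable p G)
    (hC : Cfsg.pCore p (G ⧸ Subgroup.centralizer (V : Set G)) = ⊥)
    (hJ : ¬ Cfsg.thompsonSubgroup p G ≤ Subgroup.centralizer (V : Set G)) :
    (p = 2 ∨ p = 3) ∧ ∃ E : Subgroup G, Subgroup.centralizer (V : Set G) ≤ E ∧
      E ≤ Cfsg.thompsonSubgroup p G ⊔ Subgroup.centralizer (V : Set G) ∧
      Cfsg.thompsonSubgroup p G ⊔ Subgroup.centralizer (V : Set G) ≤
        Subgroup.normalizer (E : Set G) ∧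
      ∃ hn : ((Subgroup.centralizer (V : Set G)).subgroupOf E).Normal,
        Nonempty ((↥E ⧸ (Subgroup.centralizer (V : Set G)).subgroupOf E) ≃*
          Matrix.SpecialLinearGroup (Fin 2) (ZMod p)) := by
  classical
  obtain ⟨J, hJdef⟩ : ∃ J : Subgroup G, J = Cfsg.thompsonSubgroup p G := ⟨_, rfl⟩
  rw [← hJdef] at hJ ⊢
  haveI hJn : J.Normal := by rw [hJdef]; exact thompsonSubgroup_normal p
  obtain ⟨H', hH'⟩ : ∃ H' : Subgroup (Hol V), H' = J.map (psi V) := ⟨_, rfl⟩
  have hS1' := hS1_of V J hsep hC H' hH'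
  have hf' : H' ⊓ Subgroup.centralizer ((VH V : Subgroup (Hol V)) : Set (Hol V)) = ⊥ := by
    rw [eq_bot_iff, ← range_psi_inf_centralizer V, hH']
    exact inf_le_inf_right _ (Subgroup.map_le_range _ _)
  have hS3' : H' = ⨆ A' : {A' : Subgroup (Hol V) // A' ≤ H' ∧ Cfsg.IsBestOffenderOn p (VH V) A'},
      (A' : Subgroup (Hol V)) := by
    apply le_antisymm
    · refine le_trans (le_of_eq hH') ?_
      rw [hJdef]
      unfold Cfsg.thompsonSubgroup
      rw [sSup_eq_iSup', Subgroup.map_iSup]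
      apply iSup_le
      rintro ⟨A, hA⟩
      have h1 : A.map (psi V) ≤ H' := by
        rw [hH', hJdef]
        exact Subgroup.map_mono (le_sSup hA)
      have h2 : Cfsg.IsBestOffenderOn p (VH V) (A.map (psi V)) :=
        bestOffender_map V (Cfsg.Agent.S0606.result V hVea A hA)
      exact le_iSup (fun A' : {A' : Subgroup (Hol V) // A' ≤ H' ∧
        Cfsg.IsBestOffenderOn p (VH V) A'} => (A' : Subgroup (Hol V))) ⟨_, h1, h2⟩
    · exact iSup_le fun A' => A'.2.1
  have hH1' : H' ≠ ⊥ := by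
    intro h
    apply hJ
    rw [hH', Subgroup.map_eq_bot_iff, ker_psi] at h
    exact h
  have S := setup_of_hyps (VH V) H' (VH_isEA V hVea) (le_normalizer_VH V H') hf' hS1'
  have hex : ∃ A : Subgroup (Hol V), MinOff p (VH V) H' A := by
    by_contra h
    push Not at h
    apply hH1'
    rw [eq_bot_iff]
    exact le_of_minOff S hS3' (fun D MD => absurd MD (h D))
  obtain ⟨A, M⟩ := hex
  obtain ⟨hp23, ⟨e⟩⟩ := M.iso S
  have hN := M.H_le_normalizer_EA hS3' S
  have hE'H : ⁅(Cfsg.pPrimeCore p ↥H').map H'.subtype, A⁆ ⊔ A ≤ J.map (psi V) := by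
    rw [← hH']
    exact M.EA_le S
  refine ⟨hp23, (⁅(Cfsg.pPrimeCore p ↥H').map H'.subtype, A⁆ ⊔ A).comap (psi V),
    centralizer_le_comap V _, comap_le_sup V hE'H, ?_, ?_⟩
  · apply le_normalizer_comap V
    rw [Subgroup.map_sup]
    have h1 : (Subgroup.centralizer (V : Set G)).map (psi V) = ⊥ := by
      rw [Subgroup.map_eq_bot_iff, ker_psi]
    rw [h1, sup_bot_eq, ← hH']
    exact hN
  · obtain ⟨hn', ⟨e'⟩⟩ := quotient_iso V hE'H
    exact ⟨hn', ⟨e'.trans e⟩⟩

end

end Cfsg.Agent.Lib.Lead.Holo
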