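import Mathlib
import Cfsg.Agent.Lib.Lead.KS93x

set_option autoImplicit false

namespace Cfsg.Agent.Lib.Lead.KS93

open scoped commutatorElement
open Cfsg.Agent.Lib.Lead Cfsg.Agent.Lib.Helper6 Cfsg.Agent.Lib.Lead.ExpSec

section tools
variable {G : Type*} [Group G] [Finite G]

/-- if the commutators `⁅w, a⁆` (`a ∈ A`) all lie in a subgroup `L` centralized by `A`, then
`|A : C_A(w)| ≤ |L|` -/
theorem card_le_of_commHom {A L : Subgroup G} (w : G) (hL : ∀ a ∈ A, ⁅w, a⁆ ∈ L)
    (hLA : L ≤ Subgroup.centralizer (A : Set G)) :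
    Nat.card A ≤ Nat.card L * Nat.card ↥(A ⊓ Subgroup.centralizer ({w} : Set G)) := by
  classical
  let φ : ↥A →* ↥L := MonoidHom.mk' (fun a => ⟨⁅w, (a : G)⁆, hL a a.2⟩) (by
    intro a b
    apply Subtype.ext
    show ⁅w, (a : G) * (b : G)⁆ = ⁅w, (a : G)⁆ * ⁅w, (b : G)⁆
    have h1 : ⁅w, (a : G) * (b : G)⁆ = ⁅w, (a : G)⁆ * ((a : G) * ⁅w, (b : G)⁆ * (a : G)⁻¹) := by
      simp only [commutatorElement_def]; group
    have h2 : (a : G) * ⁅w, (b : G)⁆ = ⁅w, (b : G)⁆ * (a : G) :=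
      (Subgroup.mem_centralizer_iff.mp (hLA (hL b b.2)) (a : G) a.2)
    rw [h1, h2, mul_assoc, mul_inv_cancel, mul_one])
  have h1 := Subgroup.card_mul_index φ.ker
  rw [Subgroup.index_ker] at h1
  have h2 : Nat.card φ.range ≤ Nat.card L := Subgroup.card_le_card_group _
  have h3 : Nat.card φ.ker ≤ Nat.card ↥(A ⊓ Subgroup.centralizer ({w} : Set G)) := by
    rw [← card_map_subtype A φ.ker]
    apply Subgroup.card_le_of_le
    rintro _ ⟨a, ha, rfl⟩
    refine ⟨a.2, ?_⟩
    show (a : G) ∈ Subgroup.centralizer ({w} : Set G)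
    rw [Subgroup.mem_centralizer_iff]
    intro x hx
    rw [Set.mem_singleton_iff] at hx
    subst hx
    have h4 : ⁅x, (a : G)⁆ = 1 := by
      have := (MonoidHom.mem_ker).mp ha
      exact congrArg Subtype.val this
    exact (commutatorElement_eq_one_iff_mul_comm.mp h4)
  calc Nat.card A = Nat.card φ.ker * Nat.card φ.range := h1.symm
    _ ≤ Nat.card ↥(A ⊓ Subgroup.centralizer ({w} : Set G)) * Nat.card L := Nat.mul_le_mul h3 h2
    _ = _ := mul_comm _ _

/-- an abelian `p`-group acting on a group of order `p²` induces a group of order at most `p` -/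
theorem card_le_mul_of_plane {p : ℕ} [hp : Fact p.Prime] {A W : Subgroup G} (hA : IsPGroup p A)
    (hW : Nat.card W = p ^ 2) (hAW : A ≤ Subgroup.normalizer (W : Set G)) :
    Nat.card A ≤ p * Nat.card ↥(A ⊓ Subgroup.centralizer (W : Set G)) := by
  classical
  have hp1 : 1 < p := hp.out.one_lt
  have hWp : IsPGroup p W := IsPGroup.of_card hW
  have hWne : W ≠ ⊥ := by
    intro h
    rw [h, Subgroup.card_bot] at hW
    have : 1 < p ^ 2 := Nat.one_lt_pow (by norm_num) hp1
    omega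
  have hLW : ⁅W, A⁆ ≤ W := commutator_le_left_of_le_normalizer W A hAW
  have hLne : ⁅W, A⁆ ≠ W := commutator_ne_of_pgroups p W A hWp hA hAW hWne
  have hdvd : Nat.card ↥(⁅W, A⁆) ∣ p ^ 2 := by
    rw [← hW]; exact Subgroup.card_dvd_of_le hLW
  obtain ⟨i, hi, hci⟩ := (Nat.dvd_prime_pow hp.out).mp hdvd
  have hi2 : i ≠ 2 := by
    intro h
    apply hLne
    apply Subgroup.eq_of_le_of_card_ge hLW
    rw [hci, h, hW]
  by_cases hi0 : i = 0
  · -- trivial action
    have hbot : ⁅W, A⁆ = ⊥ := by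
      rw [← Subgroup.card_eq_one, hci, hi0, pow_zero]
    have hAC : A ≤ Subgroup.centralizer (W : Set G) := by
      rw [Subgroup.commutator_comm] at hbot
      exact Subgroup.commutator_eq_bot_iff_le_centralizer.mp hbot
    rw [inf_eq_left.mpr hAC]
    exact Nat.le_mul_of_pos_left _ hp.out.pos
  have hi1 : i = 1 := by omega
  rw [hi1, pow_one] at hci
  have hquad : ⁅W, A⁆ ≤ Subgroup.centralizer (A : Set G) :=
    quadratic_of_card_prime hWp hA hAW hci
  -- choose `w ∈ W ∖ [W, A]`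
  obtain ⟨w, hwW, hwL⟩ : ∃ w ∈ W, w ∉ ⁅W, A⁆ := by
    by_contra h
    push Not at h
    exact hLne (le_antisymm hLW h)
  have h1 := card_le_of_commHom (A := A) (L := ⁅W, A⁆) w
    (fun a ha => Subgroup.commutator_mem_commutator hwW ha) hquad
  rw [hci] at h1
  refine le_trans h1 (Nat.mul_le_mul_left _ (Subgroup.card_le_of_le ?_))
  rintro a ⟨haA, haw⟩
  refine ⟨haA, ?_⟩
  -- `T = C_W(a)` contains `[W, A]` and `w`, hence is `W`
  have hT1 : ⁅W, A⁆ ≤ W ⊓ Subgroup.centralizer ({a} : Set G) := by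
    apply le_inf hLW
    intro x hx
    rw [Subgroup.mem_centralizer_iff]
    intro y hy
    rw [Set.mem_singleton_iff] at hy
    subst hy
    exact Subgroup.mem_centralizer_iff.mp (hquad hx) y haA
  have hT2 : w ∈ W ⊓ Subgroup.centralizer ({a} : Set G) := by
    refine ⟨hwW, ?_⟩
    show w ∈ Subgroup.centralizer ({a} : Set G)
    rw [Subgroup.mem_centralizer_iff]
    intro y hy
    rw [Set.mem_singleton_iff] at hy
    subst hy
    exact (Subgroup.mem_centralizer_iff.mp haw w rfl).symm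
  have hT3 : W ⊓ Subgroup.centralizer ({a} : Set G) = W := by
    have hTW : W ⊓ Subgroup.centralizer ({a} : Set G) ≤ W := inf_le_left
    have hd1 : Nat.card ↥(W ⊓ Subgroup.centralizer ({a} : Set G)) ∣ p ^ 2 := by
      rw [← hW]; exact Subgroup.card_dvd_of_le hTW
    obtain ⟨j, hj, hcj⟩ := (Nat.dvd_prime_pow hp.out).mp hd1
    have hd2 : p ∣ Nat.card ↥(W ⊓ Subgroup.centralizer ({a} : Set G)) := by
      rw [← hci]; exact Subgroup.card_dvd_of_le hT1
    have hj1 : j ≠ 1 := by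
      intro h
      rw [h, pow_one] at hcj
      have : ⁅W, A⁆ = W ⊓ Subgroup.centralizer ({a} : Set G) :=
        Subgroup.eq_of_le_of_card_ge hT1 (by rw [hcj, hci])
      exact hwL (this ▸ hT2)
    have hj0 : j ≠ 0 := by
      intro h
      rw [h, pow_zero] at hcj
      rw [hcj] at hd2
      exact hp.out.one_lt.ne' (Nat.dvd_one.mp hd2)
    have hj2 : j = 2 := by omega
    apply Subgroup.eq_of_le_of_card_ge hTW
    rw [hcj, hj2, hW]
  show a ∈ Subgroup.centralizer (W : Set G)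
  rw [Subgroup.mem_centralizer_iff]
  intro x hx
  have hx' : x ∈ W ⊓ Subgroup.centralizer ({a} : Set G) := by rw [hT3]; exact hx
  exact (Subgroup.mem_centralizer_iff.mp hx'.2 a rfl).symm

end tools

end Cfsg.Agent.Lib.Lead.KS93
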