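import Mathlib
import Cfsg.Agent.Lib.Lead.KS93y

set_option autoImplicit false

namespace Cfsg.Agent.Lib.Lead.KS93

open scoped commutatorElement
open Cfsg.Agent.Lib.Lead Cfsg.Agent.Lib.Helper6 Cfsg.Agent.Lib.Lead.ExpSec

section noover
variable {G : Type*} [Group G] [Finite G] {p : ℕ} [hp : Fact p.Prime] {V H Q : Subgroup G}
variable (hS3 : H = ⨆ A : {A : Subgroup G // A ≤ H ∧ Cfsg.IsBestOffenderOn p V A}, (A : Subgroup G))
include hS3

/-- there are no over-offenders: `|A| |C_V(A)| ≤ |V|` for every best offender `A ≤ H` -/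
theorem no_over (S : Setup p V H Q) : ∀ (n : ℕ) (A : Subgroup G), Nat.card A = n → A ≤ H →
    Cfsg.IsBestOffenderOn p V A →
    Nat.card A * Nat.card ↥(V ⊓ Subgroup.centralizer (A : Set G)) ≤ Nat.card V := by
  intro n
  induction n using Nat.strong_induction_on with
  | _ n ih =>
    intro A hn hAH hA
    classical
    by_cases hA1 : A = ⊥
    · rw [hA1, Subgroup.card_bot, one_mul]
      exact Subgroup.card_le_of_le inf_le_left
    obtain ⟨k, B, hB, -, hsup⟩ := decomposition S _ A rfl hAH hA hA1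
    have hk : k ≠ 0 := by
      rintro rfl
      apply hA1
      rw [← hsup, eq_bot_iff]
      exact iSup_le (fun i => i.elim0)
    obtain ⟨D, hD⟩ : ∃ D : Subgroup G, D = B ⟨0, Nat.pos_of_ne_zero hk⟩ := ⟨_, rfl⟩
    obtain ⟨hDA, hDoff, hD1, hDmin⟩ := hB ⟨0, Nat.pos_of_ne_zero hk⟩
    rw [← hD] at hDA hDoff hD1 hDmin
    have M : MinOff p V H D := ⟨le_trans hDA hAH, hDoff, hD1, hDmin⟩
    obtain ⟨W, hW⟩ : ∃ W : Subgroup G, W = ⁅V, ⁅Q, D⁆ ⊔ D⁆ := ⟨_, rfl⟩
    have hcW : Nat.card W = p ^ 2 := by rw [hW]; exact M.card_W S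
    have hWV : W ≤ V := by rw [hW]; exact M.W_le S
    have hAW : A ≤ Subgroup.normalizer (W : Set G) := by
      rw [hW]; exact le_trans hAH (M.H_le_normalizer_W hS3 S)
    have hAp : IsPGroup p A := isPGroup_of_bestOffender S hAH hA
    have hDW : D ⊓ Subgroup.centralizer (W : Set G) = ⊥ := by
      rw [eq_bot_iff, ← M.faithful S, hW]
      exact inf_le_inf_right _ le_sup_right
    have hDnot : ¬ D ≤ Subgroup.centralizer (W : Set G) := by
      intro h
      apply hD1
      rw [eq_bot_iff, ← hDW]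
      exact le_inf le_rfl h
    obtain ⟨A₁, hA₁⟩ : ∃ A₁ : Subgroup G, A₁ = A ⊓ Subgroup.centralizer (W : Set G) := ⟨_, rfl⟩
    have hA₁A : A₁ ≤ A := by rw [hA₁]; exact inf_le_left
    have h1 : Nat.card A ≤ p * Nat.card A₁ := by
      rw [hA₁]; exact card_le_mul_of_plane hAp hcW hAW
    have hVab := S.hVab
    -- fixed points
    have hF : V ⊓ Subgroup.centralizer (A : Set G) ⊔ W ≤ V ⊓ Subgroup.centralizer (A₁ : Set G) := by
      apply sup_le
      · exact inf_le_inf_left _ (Subgroup.centralizer_le hA₁A)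
      · apply le_inf hWV
        intro w hw
        rw [Subgroup.mem_centralizer_iff]
        intro a ha
        rw [hA₁] at ha
        exact (Subgroup.mem_centralizer_iff.mp ha.2 w hw).symm
    have hnorm : V ⊓ Subgroup.centralizer (A : Set G) ≤ Subgroup.normalizer (W : Set G) := by
      intro x hx
      rw [Subgroup.mem_normalizer_iff]
      intro w
      have key : ∀ y ∈ W, x * y * x⁻¹ = y := by
        intro y hy
        rw [hVab x hx.1 y (hWV hy), mul_assoc, mul_inv_cancel, mul_one]
      constructor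
      · intro hw; rw [key w hw]; exact hw
      · intro hw
        have h2 := key _ hw
        have h3 : w = x⁻¹ * (x * w * x⁻¹) * x := by group
        rw [h3, ← h2]
        have h4 : x⁻¹ * (x * (x * w * x⁻¹) * x⁻¹) * x = x * w * x⁻¹ := by group
        rw [h4]; exact hw
    have hprod := card_sup_mul_card_inf (V ⊓ Subgroup.centralizer (A : Set G)) W hnorm
    have hT : Nat.card ↥(V ⊓ Subgroup.centralizer (A : Set G) ⊓ W) ≤ p := by
      have hle : V ⊓ Subgroup.centralizer (A : Set G) ⊓ W ≤ W ⊓ Subgroup.centralizer (D : Set G) := by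
        rintro x ⟨⟨_, hxA⟩, hxW⟩
        exact ⟨hxW, Subgroup.centralizer_le hDA hxA⟩
      refine le_trans (Subgroup.card_le_of_le hle) ?_
      have hTW : W ⊓ Subgroup.centralizer (D : Set G) ≤ W := inf_le_left
      have hd : Nat.card ↥(W ⊓ Subgroup.centralizer (D : Set G)) ∣ p ^ 2 := by
        rw [← hcW]; exact Subgroup.card_dvd_of_le hTW
      obtain ⟨j, hj, hcj⟩ := (Nat.dvd_prime_pow hp.out).mp hd
      have hj2 : j ≠ 2 := by
        intro h
        apply hDnot
        have h5 : W ⊓ Subgroup.centralizer (D : Set G) = W :=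
          Subgroup.eq_of_le_of_card_ge hTW (by rw [hcj, h, hcW])
        intro d hd
        rw [Subgroup.mem_centralizer_iff]
        intro w hw
        have hw' : w ∈ W ⊓ Subgroup.centralizer (D : Set G) := by rw [h5]; exact hw
        exact (Subgroup.mem_centralizer_iff.mp hw'.2 d hd).symm
      rw [hcj]
      have : j ≤ 1 := by omega
      calc p ^ j ≤ p ^ 1 := Nat.pow_le_pow_right hp.out.pos this
        _ = p := pow_one p
    have h2 : p * Nat.card ↥(V ⊓ Subgroup.centralizer (A : Set G)) ≤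
        Nat.card ↥(V ⊓ Subgroup.centralizer (A₁ : Set G)) := by
      have h3 := Subgroup.card_le_of_le hF
      have h4 : Nat.card ↥(V ⊓ Subgroup.centralizer (A : Set G)) * p ^ 2 ≤
          Nat.card ↥(V ⊓ Subgroup.centralizer (A₁ : Set G)) * p := by
        rw [← hcW, ← hprod]
        exact Nat.mul_le_mul h3 hT
      have hpp : 0 < p := hp.out.pos
      have h5 : (p * Nat.card ↥(V ⊓ Subgroup.centralizer (A : Set G))) * p ≤
          Nat.card ↥(V ⊓ Subgroup.centralizer (A₁ : Set G)) * p := by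
        calc (p * Nat.card ↥(V ⊓ Subgroup.centralizer (A : Set G))) * p
            = Nat.card ↥(V ⊓ Subgroup.centralizer (A : Set G)) * p ^ 2 := by ring
          _ ≤ _ := h4
      exact Nat.le_of_mul_le_mul_right h5 hpp
    have h3 : Nat.card A * Nat.card ↥(V ⊓ Subgroup.centralizer (A : Set G)) ≤
        Nat.card A₁ * Nat.card ↥(V ⊓ Subgroup.centralizer (A₁ : Set G)) := by
      calc Nat.card A * Nat.card ↥(V ⊓ Subgroup.centralizer (A : Set G))
          ≤ (p * Nat.card A₁) * Nat.card ↥(V ⊓ Subgroup.centralizer (A : Set G)) :=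
            Nat.mul_le_mul_right _ h1
        _ = Nat.card A₁ * (p * Nat.card ↥(V ⊓ Subgroup.centralizer (A : Set G))) := by ring
        _ ≤ _ := Nat.mul_le_mul_left _ h2
    have hoff : Cfsg.IsBestOffenderOn p V A₁ :=
      ⟨fun B hB => le_trans (hA.1 B (le_trans hB hA₁A)) h3,
        le_trans (Subgroup.commutator_mono hA₁A hA₁A) hA.2.1, fun a ha => hA.2.2 a (hA₁A ha)⟩
    have hlt : Nat.card A₁ < n := by
      rw [← hn]
      by_contra hge
      push Not at hge
      have heq : A₁ = A := Subgroup.eq_of_le_of_card_ge hA₁A hge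
      apply hDnot
      intro d hd
      have : d ∈ A₁ := by rw [heq]; exact hDA hd
      rw [hA₁] at this
      exact this.2
    exact le_trans h3 (ih _ hlt A₁ rfl (le_trans hA₁A hAH) hoff)

end noover

end Cfsg.Agent.Lib.Lead.KS93
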