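import Mathlib
import Cfsg.Agent.Lib.Lead.Holo4
import Cfsg.Agent.Lib.Lead.KS93z

set_option autoImplicit false

namespace Cfsg.Agent.Lib.Lead.Holo

open scoped commutatorElement
open Cfsg.Agent.Lib.Helper2.OmegaZ Cfsg.Agent.Lib.Lead.KS93 Cfsg.Agent.Lib.Lead

universe u

section gen
variable {G : Type*} [Group G] [Finite G] {G' : Type*} [Group G']

theorem card_inf_ker_mul_card_map (f : G →* G') (A : Subgroup G) :
    Nat.card ↥(A ⊓ f.ker) * Nat.card ↥(A.map f) = Nat.card A := by
  have h1 := Subgroup.card_mul_index (f.domRestrict A).ker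
  rw [Subgroup.index_ker, MonoidHom.domRestrict_range, MonoidHom.ker_domRestrict,
    card_subgroupOf_eq, inf_comm] at h1
  exact h1

end gen

section
variable {G : Type u} [Group G] [Finite G] {p : ℕ} [hp : Fact p.Prime]
  (V : Subgroup G) [hVn : V.Normal]

/-- the faithful setup in the holomorph -/
theorem exists_setup (hVea : Cfsg.IsElementaryAbelian p V)
    [hn : (Subgroup.centralizer (V : Set G)).Normal]
    (hsep : Cfsg.IsPSolvable p G)
    (hC : Cfsg.pCore p (G ⧸ Subgroup.centralizer (V : Set G)) = ⊥) :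
    ∃ H' Q' : Subgroup (Hol V), H' = (Cfsg.thompsonSubgroup p G).map (psi V) ∧
      Setup p (VH V) H' Q' ∧
      H' = ⨆ A' : {A' : Subgroup (Hol V) // A' ≤ H' ∧ Cfsg.IsBestOffenderOn p (VH V) A'},
        (A' : Subgroup (Hol V)) := by
  classical
  obtain ⟨J, hJdef⟩ : ∃ J : Subgroup G, J = Cfsg.thompsonSubgroup p G := ⟨_, rfl⟩
  rw [← hJdef]
  haveI hJn : J.Normal := by rw [hJdef]; exact thompsonSubgroup_normal p
  obtain ⟨H', hH'⟩ : ∃ H' : Subgroup (Hol V), H' = J.map (psi V) := ⟨_, rfl⟩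
  have hS1' := hS1_of V J hsep hC H' hH'
  have hf' : H' ⊓ Subgroup.centralizer ((VH V : Subgroup (Hol V)) : Set (Hol V)) = ⊥ := by
    rw [eq_bot_iff, ← range_psi_inf_centralizer V, hH']
    exact inf_le_inf_right _ (Subgroup.map_le_range _ _)
  have hS3' : H' = ⨆ A' : {A' : Subgroup (Hol V) // A' ≤ H' ∧ Cfsg.IsBestOffenderOn p (VH V) A'},
      (A' : Subgroup (Hol V)) := by
    apply le_antisymm
    · refine le_trans (le_of_eq hH') ?_
      rw [hJdef]
      unfold Cfsg.thompsonSubgroup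
      rw [sSup_eq_iSup', Subgroup.map_iSup]
      apply iSup_le
      rintro ⟨A, hA⟩
      have h1 : A.map (psi V) ≤ H' := by
        rw [hH', hJdef]
        exact Subgroup.map_mono (le_sSup hA)
      have h2 : Cfsg.IsBestOffenderOn p (VH V) (A.map (psi V)) :=
        bestOffender_map V (Cfsg.Agent.S0606.result V hVea A hA)
      exact le_iSup (fun A' : {A' : Subgroup (Hol V) // A' ≤ H' ∧
        Cfsg.IsBestOffenderOn p (VH V) A'} => (A' : Subgroup (Hol V))) ⟨_, h1, h2⟩
    · exact iSup_le fun A' => A'.2.1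
  exact ⟨H', _, hH', setup_of_hyps (VH V) H' (VH_isEA V hVea) (le_normalizer_VH V H') hf' hS1',
    hS3'⟩

theorem card_VH : Nat.card ↥(VH V) = Nat.card V := by
  unfold VH
  exact Nat.card_congr (Equiv.ofInjective _ SemidirectProduct.inl_injective).symm

/-- no over-offenders among the maximal elementary abelian subgroups -/
theorem card_le_of_maxEA (hVea : Cfsg.IsElementaryAbelian p V)
    [hn : (Subgroup.centralizer (V : Set G)).Normal]
    (hsep : Cfsg.IsPSolvable p G)
    (hC : Cfsg.pCore p (G ⧸ Subgroup.centralizer (V : Set G)) = ⊥)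
    {A : Subgroup G} (hA : A ∈ Cfsg.maxElementaryAbelianSubgroups p G) :
    Nat.card A * Nat.card ↥(V ⊓ Subgroup.centralizer (A : Set G)) ≤
      Nat.card ↥(A ⊓ Subgroup.centralizer (V : Set G)) * Nat.card V := by
  obtain ⟨H', Q', hH', S, hS3'⟩ := exists_setup V hVea hsep hC
  have h1 : A.map (psi V) ≤ H' := by
    rw [hH']
    exact Subgroup.map_mono (le_sSup hA)
  have h2 : Cfsg.IsBestOffenderOn p (VH V) (A.map (psi V)) :=
    bestOffender_map V (Cfsg.Agent.S0606.result V hVea A hA)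
  have h3 := no_over hS3' S _ (A.map (psi V)) rfl h1 h2
  rw [card_fix, card_VH] at h3
  have h4 := card_inf_ker_mul_card_map (psi V) A
  rw [ker_psi] at h4
  calc Nat.card A * Nat.card ↥(V ⊓ Subgroup.centralizer (A : Set G))
      = Nat.card ↥(A ⊓ Subgroup.centralizer (V : Set G)) *
          (Nat.card ↥(A.map (psi V)) * Nat.card ↥(V ⊓ Subgroup.centralizer (A : Set G))) := by
        rw [← h4]; ring
    _ ≤ _ := Nat.mul_le_mul_left _ h3

end

end Cfsg.Agent.Lib.Lead.Holo
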