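import Mathlib
import Cfsg.Agent.Lib.Lead.KS93h
import Cfsg.Agent.Lib.Lead.AbelianSylowP
import Cfsg.Agent.Lib.Lead.Holo5
import Cfsg.Agent.S0129

set_option autoImplicit false

namespace Cfsg.Agent.Lib.Lead.RankTwoAut

open scoped commutatorElement
open Cfsg.Agent.Lib.Lead Cfsg.Agent.Lib.Lead.KS93

section cube

/-- a `p`-group all of whose abelian subgroups have order at most `p²` has order at most `p³` -/
theorem card_le_cube {E : Type*} [Group E] [Finite E] {p : ℕ} [hp : Fact p.Prime]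
    (hE : IsPGroup p E)
    (hrk : ∀ A : Subgroup E, IsMulCommutative A → Nat.card A ≤ p ^ 2) : Nat.card E ≤ p ^ 3 := by
  classical
  let S := {A : Subgroup E // A.Normal ∧ IsMulCommutative A}
  haveI : Nonempty S := ⟨⟨⊥, inferInstance, inferInstance⟩⟩
  obtain ⟨⟨A, hAn, hAc⟩, hmax⟩ := Finite.exists_max (fun A : S => Nat.card A.1)
  haveI := hAn
  obtain ⟨a, ha⟩ := (hE.to_subgroup A).exists_card_eq
  have ha2 : a ≤ 2 := by
    have h1 := hrk A hAc
    rw [ha] at h1
    exact (Nat.pow_le_pow_iff_right hp.out.one_lt).mp h1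
  have h := Cfsg.Agent.S0129.result hE A hAc (fun B hBn hBc hAB =>
    (Subgroup.eq_of_le_of_card_ge hAB (hmax ⟨B, hBn, hBc⟩)).symm) a ha
  calc Nat.card E ≤ p ^ (a * (a + 1) / 2) := h
    _ ≤ p ^ 3 := Nat.pow_le_pow_right hp.out.pos (by interval_cases a <;> norm_num)

end cube

section main
variable {Γ : Type*} [Group Γ] [Finite Γ] {p q : ℕ} [hp : Fact p.Prime] [hq : Fact q.Prime]

/-- a `q`-group (`q ∤ p² - 1`, `q ≠ p`) centralizes every normal subgroup of exponent `p`, class at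
most two and rank at most two -/
theorem le_centralizer_of_exp_p (hqp : q ≠ p) (hq2 : ¬ q ∣ p ^ 2 - 1)
    (E : Subgroup Γ) [hEn : E.Normal] (hexp : ∀ x ∈ E, x ^ p = 1)
    (hcl : ⁅E, E⁆ ≤ Subgroup.centralizer (E : Set Γ))
    (hrk : ∀ A : Subgroup Γ, A ≤ E → (∀ x ∈ A, ∀ y ∈ A, x * y = y * x) → Nat.card A ≤ p ^ 2)
    (Q : Subgroup Γ) (hQ : IsPGroup q Q) : Q ≤ Subgroup.centralizer (E : Set Γ) := by
  classical
  have hp1 : 1 < p := hp.out.one_lt
  have hq1 : ¬ q ∣ p ^ 1 - 1 := by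
    intro h
    apply hq2
    have e : p ^ 2 - 1 = (p ^ 1 - 1) * (p + 1) := by
      rw [pow_one]
      have h1 : 1 ≤ p := hp.out.pos
      zify [h1, Nat.one_le_pow 2 p h1]
      ring
    rw [e]
    exact Dvd.dvd.mul_right h _
  have hqi : ∀ k, k ≤ 2 → ∀ i, 1 ≤ i → i ≤ k → ¬ q ∣ p ^ i - 1 := by
    intro k hk i hi1 hik
    have : i = 1 ∨ i = 2 := by omega
    rcases this with rfl | rfl
    · exact hq1
    · exact hq2
  have hEp : IsPGroup p E := by
    rintro ⟨x, hx⟩
    refine ⟨1, Subtype.ext ?_⟩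
    simpa using hexp x hx
  have hQcop : (Nat.card Q).Coprime p := by
    obtain ⟨n, hn⟩ := hQ.exists_card_eq
    rw [hn]
    exact Nat.Coprime.pow_left n ((Nat.coprime_primes hq.out hp.out).mpr hqp)
  have hQN : ∀ T : Subgroup Γ, T.Normal → Q ≤ Subgroup.normalizer (T : Set Γ) := by
    intro T hT
    rw [Subgroup.normalizer_eq_top_iff.mpr hT]
    exact le_top
  by_cases hE1 : E = ⊥
  · rw [hE1]
    intro x _
    rw [Subgroup.mem_centralizer_iff]
    intro y hy
    rw [Subgroup.coe_bot, Set.mem_singleton_iff] at hy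
    rw [hy, one_mul, mul_one]
  -- the centre of `E`
  obtain ⟨Z, hZ⟩ : ∃ Z : Subgroup Γ, Z = E ⊓ Subgroup.centralizer (E : Set Γ) := ⟨_, rfl⟩
  haveI hZn : Z.Normal := by
    rw [hZ]
    haveI : (Subgroup.centralizer (E : Set Γ)).Normal := Subgroup.normal_centralizer
    infer_instance
  have hZE : Z ≤ E := by rw [hZ]; exact inf_le_left
  have hZab : ∀ x ∈ Z, ∀ y ∈ Z, x * y = y * x := by
    intro x hx y hy
    rw [hZ] at hx hy
    exact Subgroup.mem_centralizer_iff.mp hy.2 x hx.1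
  obtain ⟨i, hi⟩ := (hEp.to_le hZE).exists_card_eq
  have hi2 : i ≤ 2 := by
    have h1 := hrk Z hZE hZab
    rw [hi] at h1
    exact (Nat.pow_le_pow_iff_right hp1).mp h1
  have hQZ : Q ≤ Subgroup.centralizer (Z : Set Γ) :=
    le_centralizer_of_qgroup_gen Z Q p i hp.out hi q hQ (hQN Z hZn) (hqi i hi2) hqp
  -- the order of `E`
  obtain ⟨k, hk⟩ := hEp.exists_card_eq
  have hk3 : k ≤ 3 := by
    have h1 : Nat.card E ≤ p ^ 3 := by
      apply card_le_cube hEp
      intro A hA
      have h2 := hrk (A.map E.subtype) (Subgroup.map_subtype_le A) (by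
        rintro _ ⟨x, hx, rfl⟩ _ ⟨y, hy, rfl⟩
        have := hA.is_comm.comm ⟨x, hx⟩ ⟨y, hy⟩
        exact congrArg (fun z : A => ((z : E) : Γ)) this)
      rwa [Subgroup.card_map_of_injective E.subtype_injective] at h2
    rw [hk] at h1
    exact (Nat.pow_le_pow_iff_right hp1).mp h1
  have hi1 : 1 ≤ i := by
    by_contra h
    have hi0 : i = 0 := by omega
    rw [hi0, pow_zero, Subgroup.card_eq_one] at hi
    -- the centre of a nontrivial `p`-group is nontrivial
    haveI : Nontrivial E := (Subgroup.nontrivial_iff_ne_bot E).mpr hE1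
    haveI : Nontrivial (Subgroup.center E) := IsPGroup.center_nontrivial hEp
    obtain ⟨⟨z, hz⟩, hz1⟩ := exists_ne (1 : Subgroup.center E)
    apply hz1
    have hzZ : ((z : E) : Γ) ∈ Z := by
      rw [hZ]
      refine ⟨z.2, ?_⟩
      show ((z : E) : Γ) ∈ Subgroup.centralizer (E : Set Γ)
      rw [Subgroup.mem_centralizer_iff]
      intro y hy
      have := (Subgroup.mem_center_iff.mp hz) ⟨y, hy⟩
      exact congrArg (fun w : E => (w : Γ)) this
    rw [hi, Subgroup.mem_bot] at hzZ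
    apply Subtype.ext
    apply Subtype.ext
    simpa using hzZ
  -- the quotient by `Z`
  have hker : (QuotientGroup.mk' Z).ker = Z := QuotientGroup.ker_mk' Z
  have hcardEbar : Nat.card (E.map (QuotientGroup.mk' Z)) = p ^ (k - i) := by
    have h1 := Holo.card_inf_ker_mul_card_map (QuotientGroup.mk' Z) E
    rw [hker, inf_eq_right.mpr hZE, hi, hk] at h1
    have hik : i ≤ k := by
      have h2 : p ^ i ∣ p ^ k := Dvd.intro _ h1
      exact (Nat.pow_dvd_pow_iff_le_right hp1).mp h2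
    have h3 : p ^ i * p ^ (k - i) = p ^ k := by
      rw [← pow_add]
      congr 1
      omega
    exact Nat.eq_of_mul_eq_mul_left (Nat.pow_pos hp.out.pos) (h1.trans h3.symm)
  haveI hEbarn : (E.map (QuotientGroup.mk' Z)).Normal :=
    hEn.map _ (QuotientGroup.mk'_surjective Z)
  have hQbar : IsPGroup q (Q.map (QuotientGroup.mk' Z)) := hQ.map _
  have hcen : Q.map (QuotientGroup.mk' Z) ≤
      Subgroup.centralizer ((E.map (QuotientGroup.mk' Z) : Subgroup (Γ ⧸ Z)) : Set (Γ ⧸ Z)) := by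
    apply le_centralizer_of_qgroup_gen _ _ p (k - i) hp.out hcardEbar q hQbar
    · rw [Subgroup.normalizer_eq_top_iff.mpr hEbarn]
      exact le_top
    · exact hqi (k - i) (by omega)
    · exact hqp
  have h1 : ⁅E, Q⁆ ≤ Z := by
    rw [Subgroup.commutator_le]
    intro e he x hx
    rw [← hker, MonoidHom.mem_ker, map_commutatorElement, commutatorElement_eq_one_iff_commute]
    have hxc := hcen (Subgroup.mem_map_of_mem _ hx)
    rw [Subgroup.mem_centralizer_iff] at hxc
    exact hxc _ (Subgroup.mem_map_of_mem _ he)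
  have h2 : ⁅Z, Q⁆ = ⊥ := by
    rw [Subgroup.commutator_comm]
    exact Subgroup.commutator_eq_bot_iff_le_centralizer.mpr hQZ
  have h3 := coprime_stab hEp (hQN E hEn) hQcop h1 h2
  rw [Subgroup.commutator_comm] at h3
  exact Subgroup.commutator_eq_bot_iff_le_centralizer.mp h3

end main

end Cfsg.Agent.Lib.Lead.RankTwoAut
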