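import Mathlib
import Cfsg.Agent.Lib.Lead.RankTwoAut1
import Cfsg.Agent.Lib.Lead.Replacement6
import Cfsg.Agent.Lib.Lead.Special
import Cfsg.Agent.Lib.Lead.Critical2
import Cfsg.Agent.S0120
import Cfsg.Agent.S0121

set_option autoImplicit false

namespace Cfsg.Agent.Lib.Lead.RankTwoAut

open scoped commutatorElement
open Cfsg.Agent.Lib.Lead Cfsg.Agent.Lib.Lead.KS93

section omega
variable {Γ : Type*} [Group Γ]

/-- in a group of class at most two, for odd `p`, the product of two elements of order dividing `p`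
has order dividing `p` -/
theorem mul_pow_prime_eq_one {p : ℕ} (hp : p.Prime) (hp2 : p ≠ 2) (x y : Γ)
    (hx : Commute x ⁅y, x⁆) (hy : Commute y ⁅y, x⁆) (hxp : x ^ p = 1) (hyp : y ^ p = 1) :
    (x * y) ^ p = 1 := by
  rw [Repl.mul_pow_of_commute_comm x y hx hy p, hxp, hyp, one_mul, one_mul]
  have h1 : ⁅y, x⁆ ^ p = 1 := by
    rw [← commutatorElement_pow_left y x hy.symm p, hyp, commutatorElement_one_left]
  have h2 : p ∣ p.choose 2 := by
    apply hp.dvd_choose_self (by norm_num)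
    have := hp.two_le
    omega
  obtain ⟨c, hc⟩ := h2
  rw [hc, pow_mul, h1, one_pow]

/-- the elements of order dividing `p` in a subgroup of class at most two, `p` odd -/
def omegaExp (p : ℕ) (hp : p.Prime) (hp2 : p ≠ 2) (H : Subgroup Γ)
    (hcl : ⁅H, H⁆ ≤ Subgroup.centralizer (H : Set Γ)) : Subgroup Γ where
  carrier := {x | x ∈ H ∧ x ^ p = 1}
  one_mem' := ⟨H.one_mem, one_pow p⟩
  mul_mem' := by
    rintro x y ⟨hx, hxp⟩ ⟨hy, hyp⟩
    refine ⟨H.mul_mem hx hy, ?_⟩
    have hc : ⁅y, x⁆ ∈ Subgroup.centralizer (H : Set Γ) :=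
      hcl (Subgroup.commutator_mem_commutator hy hx)
    rw [Subgroup.mem_centralizer_iff] at hc
    exact mul_pow_prime_eq_one hp hp2 x y (hc x hx) (hc y hy) hxp hyp
  inv_mem' := by
    rintro x ⟨hx, hxp⟩
    exact ⟨H.inv_mem hx, by rw [inv_pow, hxp, inv_one]⟩

theorem mem_omegaExp {p : ℕ} (hp : p.Prime) (hp2 : p ≠ 2) (H : Subgroup Γ)
    (hcl : ⁅H, H⁆ ≤ Subgroup.centralizer (H : Set Γ)) (x : Γ) :
    x ∈ omegaExp p hp hp2 H hcl ↔ x ∈ H ∧ x ^ p = 1 := Iff.rfl

theorem omegaExp_normal {p : ℕ} (hp : p.Prime) (hp2 : p ≠ 2) (H : Subgroup Γ) [hH : H.Normal]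
    (hcl : ⁅H, H⁆ ≤ Subgroup.centralizer (H : Set Γ)) : (omegaExp p hp hp2 H hcl).Normal := by
  constructor
  rintro x ⟨hx, hxp⟩ g
  refine ⟨hH.conj_mem x hx g, ?_⟩
  rw [conj_pow, hxp, mul_one, mul_inv_cancel]

end omega

section main
variable {Γ : Type*} [Group Γ] [Finite Γ] {p q : ℕ} [hp : Fact p.Prime] [hq : Fact q.Prime]

theorem orderOf_conjNormal_coprime {N : Subgroup Γ} [N.Normal] (hqp : q ≠ p) {Q : Subgroup Γ}
    (hQ : IsPGroup q Q) {x : Γ} (hx : x ∈ Q) :
    Nat.Coprime (orderOf (MulAut.conjNormal x : MulAut N)) p := by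
  obtain ⟨m, hm⟩ := hQ ⟨x, hx⟩
  have h1 : x ^ q ^ m = 1 := by
    have := congrArg (fun z : Q => (z : Γ)) hm
    simpa using this
  have h2 : (MulAut.conjNormal x : MulAut N) ^ q ^ m = 1 := by
    rw [← map_pow, h1, map_one]
  have h3 : orderOf (MulAut.conjNormal x : MulAut N) ∣ q ^ m := orderOf_dvd_of_pow_eq_one h2
  exact Nat.Coprime.coprime_dvd_left h3
    (Nat.Coprime.pow_left m ((Nat.coprime_primes hq.out hp.out).mpr hqp))

/-- a `q`-group (`q ∤ p² - 1`, `q ≠ p`) centralizes every normal `p`-subgroup of rank at most two,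
`p` odd -/
theorem le_centralizer_of_rank_two (hp2 : p ≠ 2) (hqp : q ≠ p) (hq2 : ¬ q ∣ p ^ 2 - 1)
    (P : Subgroup Γ) [hPn : P.Normal] (hP : IsPGroup p P)
    (hrk : ∀ A : Subgroup Γ, A ≤ P → (∀ x ∈ A, ∀ y ∈ A, x * y = y * x) → (∀ x ∈ A, x ^ p = 1) →
      Nat.card A ≤ p ^ 2)
    (Q : Subgroup Γ) (hQ : IsPGroup q Q) : Q ≤ Subgroup.centralizer (P : Set Γ) := by
  classical
  obtain ⟨H, hHc, h1, h2, h3⟩ := exists_critical hP
  haveI := hHc
  obtain ⟨Hc, hHcdef⟩ : ∃ Hc : Subgroup Γ, Hc = H.map P.subtype := ⟨_, rfl⟩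
  haveI hHcn : Hc.Normal := by
    rw [hHcdef]
    infer_instance
  have hHcP : Hc ≤ P := by
    rw [hHcdef]
    exact Subgroup.map_subtype_le H
  have hmemHc : ∀ y : P, (y : Γ) ∈ Hc ↔ y ∈ H := by
    intro y
    rw [hHcdef]
    constructor
    · rintro ⟨z, hz, hzy⟩
      have : z = y := Subtype.ext hzy
      rwa [← this]
    · intro hy
      exact ⟨y, hy, rfl⟩
  have hcl : ⁅Hc, Hc⁆ ≤ Subgroup.centralizer (Hc : Set Γ) := by
    rw [Subgroup.commutator_le]
    intro x hx y hy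
    rw [hHcdef] at hx hy
    obtain ⟨x', hx', rfl⟩ := hx
    obtain ⟨y', hy', rfl⟩ := hy
    have h4 : ⁅x', y'⁆ ∈ H ⊓ Subgroup.centralizer (H : Set P) :=
      h2 (Subgroup.commutator_mem_commutator hx' (Subgroup.mem_top y'))
    rw [Subgroup.mem_centralizer_iff]
    rintro z hz
    rw [hHcdef] at hz
    obtain ⟨z', hz', rfl⟩ := hz
    have h5 := (Subgroup.mem_centralizer_iff.mp h4.2) z' hz'
    have h6 := congrArg (fun w : P => (w : Γ)) h5
    simpa [commutatorElement_def] using h6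
  obtain ⟨E, hEdef⟩ : ∃ E : Subgroup Γ, E = omegaExp p hp.out hp2 Hc hcl := ⟨_, rfl⟩
  haveI hEn : E.Normal := by
    rw [hEdef]
    exact omegaExp_normal hp.out hp2 Hc hcl
  have hEHc : E ≤ Hc := by
    rw [hEdef]
    intro x hx
    exact hx.1
  have hQE : Q ≤ Subgroup.centralizer (E : Set Γ) := by
    apply le_centralizer_of_exp_p hqp hq2 E _ _ _ Q hQ
    · intro x hx
      rw [hEdef] at hx
      exact hx.2
    · exact (Subgroup.commutator_mono hEHc hEHc).trans
        (hcl.trans (Subgroup.centralizer_le hEHc))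
    · intro A hA hAab
      apply hrk A (hA.trans (hEHc.trans hHcP)) hAab
      intro x hx
      have := hA hx
      rw [hEdef] at this
      exact this.2
  -- `Q` centralizes `Hc`
  have hQHc : Q ≤ Subgroup.centralizer (Hc : Set Γ) := by
    intro x hx
    have ha := Cfsg.Agent.S0120.result hp2 (hP.to_le hHcP) (MulAut.conjNormal x : MulAut Hc)
      (orderOf_conjNormal_coprime hqp hQ hx) (by
        intro y hy
        have hyE : (y : Γ) ∈ E := by
          rw [hEdef]
          refine ⟨y.2, ?_⟩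
          have := congrArg (fun w : Hc => (w : Γ)) hy
          simpa using this
        have hc := (Subgroup.mem_centralizer_iff.mp (hQE hx)) _ hyE
        apply Subtype.ext
        rw [MulAut.conjNormal_apply, ← hc, mul_inv_cancel_right])
    rw [Subgroup.mem_centralizer_iff]
    intro y hy
    have h4 := congrArg (fun f : MulAut Hc => ((f ⟨y, hy⟩ : Hc) : Γ)) ha
    simp only [MulAut.conjNormal_apply, MulAut.one_apply] at h4
    calc y * x = (x * y * x⁻¹) * x := by rw [h4]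
      _ = x * y := by group
  -- `Q` centralizes `P`
  intro x hx
  have ha := Cfsg.Agent.S0121.result hP H hHc h1 h2 h3 (MulAut.conjNormal x : MulAut P)
    (orderOf_conjNormal_coprime hqp hQ hx) (by
      intro y hy
      have hyHc : (y : Γ) ∈ Hc := (hmemHc y).mpr hy
      have hc := (Subgroup.mem_centralizer_iff.mp (hQHc hx)) _ hyHc
      apply Subtype.ext
      rw [MulAut.conjNormal_apply, ← hc, mul_inv_cancel_right])
  rw [Subgroup.mem_centralizer_iff]
  intro y hy
  have h4 := congrArg (fun f : MulAut P => ((f ⟨y, hy⟩ : P) : Γ)) ha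
  simp only [MulAut.conjNormal_apply, MulAut.one_apply] at h4
  calc y * x = (x * y * x⁻¹) * x := by rw [h4]
    _ = x * y := by group

end main

end Cfsg.Agent.Lib.Lead.RankTwoAut
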