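import Mathlib
import Cfsg.Agent.Lib.Lead.RankTwoAut2
import Cfsg.Prelude.Def_CaseTheorems

set_option autoImplicit false

namespace Cfsg.Agent.Lib.Lead.RankTwoAut

open scoped commutatorElement
open Cfsg.Agent.Lib.Lead Cfsg.Agent.Lib.Lead.KS93

theorem lt_of_dvd_sq_sub_one {p q : ℕ} (hp : p.Prime) (hp2 : p ≠ 2) (hq : q.Prime)
    (h : q ∣ p ^ 2 - 1) : q < p := by
  have h3 : 3 ≤ p := by
    have := hp.two_le
    omega
  have e : p ^ 2 - 1 = (p - 1) * (p + 1) := by
    have h1 : 1 ≤ p := hp.pos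
    zify [h1, Nat.one_le_pow 2 p h1]
    ring
  rw [e] at h
  rcases (Nat.Prime.dvd_mul hq).mp h with h1 | h1
  · have := Nat.le_of_dvd (by omega) h1
    omega
  · -- `p + 1` is even
    have hodd : p % 2 = 1 := by
      rcases hp.eq_two_or_odd with h2 | h2
      · exact absurd h2 hp2
      · exact h2
    have e2 : p + 1 = 2 * ((p + 1) / 2) := by omega
    rw [e2] at h1
    rcases (Nat.Prime.dvd_mul hq).mp h1 with h2 | h2
    · have := Nat.le_of_dvd (by norm_num) h2
      omega
    · have := Nat.le_of_dvd (by omega) h2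
      omega

theorem aut_prime_divisor {R : Type*} [Group R] [Finite R] {p : ℕ} [hpf : Fact p.Prime]
    (hp : p ≠ 2) (hR : IsPGroup p R) (hrk : Cfsg.PRankLE p 2 R) (q : ℕ) (hq : q.Prime)
    (hqp : q ≠ p) (hdvd : q ∣ Nat.card (MulAut R)) : q ∣ p ^ 2 - 1 ∧ q < p := by
  classical
  haveI : Fact q.Prime := ⟨hq⟩
  suffices h : q ∣ p ^ 2 - 1 from ⟨h, lt_of_dvd_sq_sub_one hpf.out hp hq h⟩
  by_contra hq2
  obtain ⟨α, hα⟩ := exists_prime_orderOf_dvd_card' q hdvd
  let Γ := R ⋊[MonoidHom.id (MulAut R)] MulAut R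
  haveI : Finite Γ := Finite.of_equiv _ SemidirectProduct.equivProd.symm
  let P : Subgroup Γ := (SemidirectProduct.inl : R →* Γ).range
  haveI hPn : P.Normal := by
    have : P = (SemidirectProduct.rightHom : Γ →* MulAut R).ker :=
      SemidirectProduct.range_inl_eq_ker_rightHom
    rw [this]
    infer_instance
  have hinj : Function.Injective (SemidirectProduct.inl : R →* Γ) := SemidirectProduct.inl_injective
  have hP : IsPGroup p P := by
    exact IsPGroup.of_surjective hR _ (SemidirectProduct.inl : R →* Γ).rangeRestrict_surjective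
  let Q : Subgroup Γ := Subgroup.zpowers (SemidirectProduct.inr α : Γ)
  have hQ : IsPGroup q Q := by
    rw [IsPGroup.iff_card]
    refine ⟨1, ?_⟩
    rw [Nat.card_zpowers, pow_one,
      orderOf_injective (SemidirectProduct.inr : MulAut R →* Γ) SemidirectProduct.inr_injective,
      hα]
  have hrk' : ∀ A : Subgroup Γ, A ≤ P → (∀ x ∈ A, ∀ y ∈ A, x * y = y * x) →
      (∀ x ∈ A, x ^ p = 1) → Nat.card A ≤ p ^ 2 := by
    intro A hAP hAab hAexp
    have h1 := hrk (A.comap (SemidirectProduct.inl : R →* Γ)) ⟨⟨by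
      rintro ⟨x, hx⟩ ⟨y, hy⟩
      apply Subtype.ext
      apply hinj
      simp only [Subgroup.coe_mul, map_mul]
      exact hAab _ hx _ hy⟩⟩ (by
      intro a ha
      apply hinj
      rw [map_pow, map_one]
      exact hAexp _ ha)
    have h2 : (A.comap (SemidirectProduct.inl : R →* Γ)).map SemidirectProduct.inl = A := by
      rw [Subgroup.map_comap_eq, inf_eq_right]
      exact hAP
    rw [← h2, Subgroup.card_map_of_injective hinj]
    exact h1
  have h := le_centralizer_of_rank_two hp hqp hq2 P hP hrk' Q hQ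
  have hα1 : α = 1 := by
    ext r
    have h1 : (SemidirectProduct.inr α : Γ) ∈ Subgroup.centralizer (P : Set Γ) :=
      h (Subgroup.mem_zpowers _)
    have h2 := (Subgroup.mem_centralizer_iff.mp h1) (SemidirectProduct.inl r) ⟨r, rfl⟩
    have h3 : (SemidirectProduct.inl ((MonoidHom.id (MulAut R)) α r) : Γ)
        = SemidirectProduct.inr α * SemidirectProduct.inl r * SemidirectProduct.inr α⁻¹ :=
      SemidirectProduct.inl_aut α r
    rw [← h2, map_inv, mul_inv_cancel_right] at h3
    exact hinj h3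
  rw [hα1, orderOf_one] at hα
  exact hq.one_lt.ne hα

end Cfsg.Agent.Lib.Lead.RankTwoAut
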