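import Mathlib
import Cfsg.Agent.Lib.Lead.BG14n5
import Cfsg.Agent.Lib.Helper5.BG143b
import Cfsg.Agent.Lib.Helper5.BG147k
import Cfsg.Agent.Lib.Helper2.BG14v1
import Cfsg.Agent.Lib.Lead.FF15
import Cfsg.Agent.Lib.Helper2.Maschke
import Cfsg.Agent.Lib.Helper2.BG12U4
import Cfsg.Agent.Lib.Helper4.FM12
import Cfsg.Agent.S1420
import Cfsg.Agent.S1429

set_option autoImplicit false
set_option linter.style.haveILetI false
set_option linter.unusedSectionVars false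
set_option maxHeartbeats 800000

namespace Cfsg.Agent.Lib.Lead.BG148

open Cfsg Cfsg.Agent.Lib.Lead Cfsg.Agent.Lib.Lead.BG10 Cfsg.Agent.Lib.Helper7 Cfsg.Agent.Lib.Helper4
open Cfsg.Agent.Lib.Helper4.BG76 Cfsg.Agent.Lib.Helper4.BG8 Cfsg.Agent.Lib.Helper4.BG9
open Cfsg.Agent.Lib.Helper4.BG7 Cfsg.Agent.Lib.Helper4.BG12 Cfsg.Agent.Lib.Helper4.BGConj
open Cfsg.Agent.Lib.Helper4.BG13 Cfsg.Agent.Lib.Lead.BG95 Cfsg.Agent.Lib.Lead.BG12q
open Cfsg.Agent.Lib.Lead.BG11 Cfsg.Agent.Lib.Lead.BG13q Cfsg.Agent.Lib.Helper4.BG18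
open Cfsg.Agent.Lib.Helper2.BG12 Cfsg.Agent.Lib.Helper6 Cfsg.Agent.Lib.Helper2.BG13x
open Cfsg.Agent.Lib.Helper2.BG14y Cfsg.Agent.Lib.Helper5.BG139 Cfsg.Agent.Lib.Lead.BG14n
open Cfsg.Agent.Lib.Helper2.BG14z Cfsg.Agent.Lib.Helper5.BG143 Cfsg.Agent.Lib.Helper4.BG14
open scoped commutatorElement

universe u

variable {G : Type u} [Group G] [Finite G]

/-- a Frobenius group `Q K` acting coprimely on `T` with `C_T(K) = 1`: `Q` centralizes `T` -/
theorem frob_le_centralizer {Q K T : Subgroup G}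
    (hKQ : K ≤ Subgroup.normalizer (Q : Set G))
    (hfpf : ∀ e ∈ K, e ≠ 1 → ∀ u ∈ Q, e * u = u * e → u = 1)
    (hQT : Q ≤ Subgroup.normalizer (T : Set G)) (hKT : K ≤ Subgroup.normalizer (T : Set G))
    (hsolv : Group.IsSolvable ↥T) (hcop : (Nat.card ↥T).Coprime (Nat.card ↥(Q ⊔ K : Subgroup G)))
    (hfix : T ⊓ Subgroup.centralizer (K : Set G) = ⊥) : T ≤ Subgroup.centralizer (Q : Set G) := by
  have h := FF.s1545 Q K T
    (fun e he u hu => (Subgroup.mem_normalizer_iff.mp (hKQ he) u).mp hu) hfpf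
    (fun x hx t ht => (Subgroup.mem_normalizer_iff.mp ((sup_le hQT hKT) hx) t).mp ht) hsolv hcop
  have h1 : T ⊓ Subgroup.centralizer ((Q ⊔ K : Subgroup G) : Set G) = ⊥ := by
    rw [eq_bot_iff, ← hfix]
    exact inf_le_inf_left T (Subgroup.centralizer_le (by
      intro x hx
      exact (le_sup_right : K ≤ Q ⊔ K) hx))
  rw [h1, hfix, Subgroup.card_bot, one_pow, one_mul, one_mul] at h
  have h2 : T ⊓ Subgroup.centralizer (Q : Set G) = T :=
    Subgroup.eq_of_le_of_card_ge inf_le_left h.le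
  rw [← h2]
  exact inf_le_right

/-- a Frobenius group `Q K` acting coprimely on `T` with `C_T(Q) = 1`: `|T| = |C_T(K)| ^ |K|` -/
theorem card_eq_pow_of_frob {Q K T : Subgroup G}
    (hKQ : K ≤ Subgroup.normalizer (Q : Set G))
    (hfpf : ∀ e ∈ K, e ≠ 1 → ∀ u ∈ Q, e * u = u * e → u = 1)
    (hQT : Q ≤ Subgroup.normalizer (T : Set G)) (hKT : K ≤ Subgroup.normalizer (T : Set G))
    (hsolv : Group.IsSolvable ↥T) (hcop : (Nat.card ↥T).Coprime (Nat.card ↥(Q ⊔ K : Subgroup G)))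
    (hfix : T ⊓ Subgroup.centralizer (Q : Set G) = ⊥) :
    Nat.card ↥T = Nat.card ↥(T ⊓ Subgroup.centralizer (K : Set G)) ^ Nat.card ↥K := by
  have h := FF.s1545 Q K T
    (fun e he u hu => (Subgroup.mem_normalizer_iff.mp (hKQ he) u).mp hu) hfpf
    (fun x hx t ht => (Subgroup.mem_normalizer_iff.mp ((sup_le hQT hKT) hx) t).mp ht) hsolv hcop
  have h1 : T ⊓ Subgroup.centralizer ((Q ⊔ K : Subgroup G) : Set G) = ⊥ := by
    rw [eq_bot_iff, ← hfix]
    exact inf_le_inf_left T (Subgroup.centralizer_le (by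
      intro x hx
      exact (le_sup_left : Q ≤ Q ⊔ K) hx))
  rw [h1, hfix, Subgroup.card_bot, one_pow, one_mul, mul_one] at h
  exact h

/-- the hypotheses of B and G, Corollary 14.8: a maximal subgroup of type `P₂` with the data of
Theorem 14.7 -/
structure Ctx (M K U Mstar : Subgroup G) : Prop where
  hM : IsCoatom M
  hKU : IsSigmaDecomposition M K U
  hK1 : K ≠ ⊥
  hU1 : U ≠ ⊥
  hMs : IsCoatom Mstar
  hKst : K = sigmaCore Mstar ⊓ Subgroup.centralizer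
    ((sigmaCore M ⊓ Subgroup.centralizer (K : Set G) : Subgroup G) : Set G)
  hKstH : IsPiHallOf (kappa Mstar) (sigmaCore M ⊓ Subgroup.centralizer (K : Set G)) Mstar
  hKp : (Nat.card K).Prime
  hMM : M ⊓ Mstar = K ⊔ (sigmaCore M ⊓ Subgroup.centralizer (K : Set G))
  hconj : ∀ H : Subgroup G, IsCoatom H → (kappa H).Nonempty → ∃ g : G, H = cj g M ∨ H = cj g Mstar

namespace Ctx

variable {M K U Mstar : Subgroup G}

theorem d (c : Ctx M K U Mstar) (hG : IsMinSimpleOddOrder G) : KData M K :=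
  tkdata hG M K c.hM c.hKU.hall c.hK1

theorem hKM (c : Ctx M K U Mstar) : K ≤ M := c.hKU.hall.1

theorem hUM (c : Ctx M K U Mstar) : U ≤ M := c.hKU.compl.1

theorem hKσ (c : Ctx M K U Mstar) : K ≤ sigmaCore Mstar := by
  have h := c.hKst
  rw [h]
  exact inf_le_left

theorem hKMs (c : Ctx M K U Mstar) : K ≤ Mstar := c.hKσ.trans (sigmaCore_le Mstar)

/-- `𝓜(C_G(K)) = {M*}` -/
theorem hCK (c : Ctx M K U Mstar) (hG : IsMinSimpleOddOrder G) :
    Subgroup.centralizer (K : Set G) ≤ Mstar ∧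
      ∀ L : Subgroup G, IsCoatom L → Subgroup.centralizer (K : Set G) ≤ L → L = Mstar :=
  (Cfsg.Agent.Lib.Helper2.BG14v.s1367_of_kdata hG (tkdata hG) c.hM c.hKU c.hK1 c.hMs c.hKst
    c.hKstH).2 K le_rfl c.hKp

/-- `N_G(K) ≤ M*` -/
theorem hNK (c : Ctx M K U Mstar) (hG : IsMinSimpleOddOrder G) :
    Subgroup.normalizer (K : Set G) ≤ Mstar := by
  have hK2 : K ≠ ⊤ := by
    intro h
    have := c.hKM
    rw [h] at this
    exact c.hM.1 (top_le_iff.mp this)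
  obtain ⟨L, hL, hNL⟩ := exists_coatom_ge (normalizer_ne_top hG c.hK1 hK2)
  have := (c.hCK hG).2 L hL ((Subgroup.centralizer_le_normalizer _).trans hNL)
  rw [← this]
  exact hNL

/-- `K` acts without fixed points on `U` -/
theorem fpf (c : Ctx M K U Mstar) (hG : IsMinSimpleOddOrder G) :
    ∀ k ∈ K, k ≠ 1 → ∀ u ∈ U, k * u = u * k → u = 1 := by
  intro k hk hk1 u hu hku
  have h := s1353_of_kdata (tkdata hG) c.hM c.hKU k hk hk1
  have h1 : u ∈ U ⊓ Subgroup.centralizer ({k} : Set G) := by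
    refine Subgroup.mem_inf.mpr ⟨hu, ?_⟩
    rw [Subgroup.mem_centralizer_singleton_iff]
    exact hku.symm
  rw [h, Subgroup.mem_bot] at h1
  exact h1

theorem hcompl (c : Ctx M K U Mstar) : IsComplIn (U ⊔ K) (sigmaCore M) M :=
  Cfsg.Agent.Lib.Helper2.BG12.sd_isComplIn c.hKU

/-- `U` is abelian -/
theorem U_comm (c : Ctx M K U Mstar) (hG : IsMinSimpleOddOrder G) : IsMulCommutative ↥U := by
  have hnil : Group.IsNilpotent ↥U :=
    Cfsg.Agent.Lib.Helper4.FM.nilpotent_of_fpf_action U K c.hK1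
      (fun e he u hu => (Subgroup.mem_normalizer_iff.mp (c.hKU.normal he) u).mp hu) (c.fpf hG)
  exact (Cfsg.Agent.S1420.result hG M c.hM _ c.hcompl).1 U c.hUM hnil
    (fun p hp hd => sd_not_sigma c.hKU hG c.hM hp hd)

theorem comm (c : Ctx M K U Mstar) (hG : IsMinSimpleOddOrder G) {a b : G} (ha : a ∈ U)
    (hb : b ∈ U) : a * b = b * a := by
  haveI := c.U_comm hG
  have := mul_comm' (⟨a, ha⟩ : U) ⟨b, hb⟩
  exact congrArg Subtype.val this

/-- `M` is not of type `P₁` -/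
theorem not_P1 (c : Ctx M K U Mstar) (hG : IsMinSimpleOddOrder G) :
    ¬ (∀ q : ℕ, q.Prime → q ∣ Nat.card M → q ∉ sigma M → q ∈ kappa M) := by
  intro h
  have h1 : Nat.card ↥U ≠ 1 := fun h0 => c.hU1 (Subgroup.card_eq_one.mp h0)
  obtain ⟨q, hq, hqd⟩ := Nat.exists_prime_and_dvd h1
  exact sd_not_kappa c.hKU hq hqd (h q hq (hqd.trans (Subgroup.card_dvd_of_le c.hUM))
    (sd_not_sigma c.hKU hG c.hM hq hqd))

/-- the context from the hypotheses of S1435, using Theorem 14.7 -/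
theorem of_t147 (hG : IsMinSimpleOddOrder G) (hM : IsCoatom M) (hKU : IsSigmaDecomposition M K U)
    (hK1 : K ≠ ⊥) (hU1 : U ≠ ⊥) (hMs : IsCoatom Mstar)
    (hKst : K = sigmaCore Mstar ⊓ Subgroup.centralizer
      ((sigmaCore M ⊓ Subgroup.centralizer (K : Set G) : Subgroup G) : Set G))
    (hKstH : IsPiHallOf (kappa Mstar) (sigmaCore M ⊓ Subgroup.centralizer (K : Set G)) Mstar) :
    Ctx M K U Mstar := by
  obtain ⟨Ms, t⟩ := Cfsg.Agent.Lib.Helper5.BG147.t147 hG hM hKU.hall hK1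
  have hMsEq : Mstar = Ms := t.uniq Mstar hMs hKst hKstH
  subst hMsEq
  have hne : K ⊔ sigmaCore M ≠ M := by
    intro h
    have h1 := hKU.compl.2.2.1
    rw [h] at h1
    exact hU1 (by rw [← h1]; exact (inf_eq_left.mpr hKU.compl.1).symm)
  exact ⟨hM, hKU, hK1, hU1, hMs, hKst, hKstH, t.prime_left hne, t.inf_eq, t.conj⟩

end Ctx

end Cfsg.Agent.Lib.Lead.BG148
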