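import Mathlib
import Cfsg.Agent.Lib.Lead.BG14n5
import Cfsg.Agent.Lib.Helper5.BG143b
import Cfsg.Agent.Lib.Helper5.BG147k
import Cfsg.Agent.Lib.Helper2.BG14v1
import Cfsg.Agent.Lib.Lead.FF15
import Cfsg.Agent.Lib.Helper2.Maschke
import Cfsg.Agent.Lib.Helper2.BG12U4
import Cfsg.Agent.Lib.Helper4.FM12
import Cfsg.Agent.S1420
import Cfsg.Agent.S1429
import Cfsg.Agent.Lib.Lead.BG148a

set_option autoImplicit false
set_option linter.style.haveILetI false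
set_option linter.unusedSectionVars false
set_option maxHeartbeats 800000

namespace Cfsg.Agent.Lib.Lead.BG148

open Cfsg Cfsg.Agent.Lib.Lead Cfsg.Agent.Lib.Lead.BG10 Cfsg.Agent.Lib.Helper7 Cfsg.Agent.Lib.Helper4
open Cfsg.Agent.Lib.Helper4.BG76 Cfsg.Agent.Lib.Helper4.BG8 Cfsg.Agent.Lib.Helper4.BG9
open Cfsg.Agent.Lib.Helper4.BG7 Cfsg.Agent.Lib.Helper4.BG12 Cfsg.Agent.Lib.Helper4.BGConj
open Cfsg.Agent.Lib.Helper4.BG13 Cfsg.Agent.Lib.Lead.BG95 Cfsg.Agent.Lib.Lead.BG12q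
open Cfsg.Agent.Lib.Lead.BG11 Cfsg.Agent.Lib.Lead.BG13q Cfsg.Agent.Lib.Helper4.BG18
open Cfsg.Agent.Lib.Helper2.BG12 Cfsg.Agent.Lib.Helper6 Cfsg.Agent.Lib.Helper2.BG13x
open Cfsg.Agent.Lib.Helper2.BG14y Cfsg.Agent.Lib.Helper5.BG139 Cfsg.Agent.Lib.Lead.BG14n
open Cfsg.Agent.Lib.Helper2.BG14z Cfsg.Agent.Lib.Helper5.BG143 Cfsg.Agent.Lib.Helper4.BG14
open scoped commutatorElement

universe u

variable {G : Type u} [Group G] [Finite G]

namespace Ctx

variable {M K U Mstar : Subgroup G}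

/-- `U K` normalizes every Sylow subgroup of `U` -/
theorem sup_le_normalizer (c : Ctx M K U Mstar) (hG : IsMinSimpleOddOrder G) {r : ℕ}
    [Fact r.Prime] {R : Subgroup G} (hR : SylIn r U R) :
    U ⊔ K ≤ Subgroup.normalizer (R : Set G) := by
  have hU : U ≤ Subgroup.normalizer (R : Set G) := by
    intro u hu
    rw [Subgroup.mem_normalizer_iff]
    intro x
    constructor
    · intro hx
      have : u * x * u⁻¹ = x := by
        rw [c.comm hG hu (hR.1 hx), mul_inv_cancel_right]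
      rw [this]
      exact hx
    · intro hx
      have h1 := c.comm hG (Subgroup.inv_mem U hu) (hR.1 hx)
      have : x = u * x * u⁻¹ := by
        calc x = u⁻¹ * (u * x * u⁻¹) * u := by group
          _ = (u * x * u⁻¹) * u⁻¹ * u := by rw [h1]
          _ = u * x * u⁻¹ := by group
      rw [this]
      exact hx
  refine sup_le hU ?_
  intro k hk
  have h1 : cj k U = U := mem_normalizer_iff_cj.mp (c.hKU.normal hk)
  have h2 : SylIn r U (cj k R) := by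
    have := Cfsg.Agent.Lib.Helper4.BGConj.sylIn_cj k hR
    rwa [h1] at this
  obtain ⟨u, hu, hur⟩ := hR.conj h2
  have h3 : cj u R = R := mem_normalizer_iff_cj.mp (hU hu)
  rw [h3] at hur
  exact mem_normalizer_iff_cj.mpr hur.symm

end Ctx

namespace Ctx

variable {M K U Mstar : Subgroup G}

theorem sylIn_M (c : Ctx M K U Mstar) (hG : IsMinSimpleOddOrder G) {r : ℕ}
    [hr : Fact r.Prime] {R : Subgroup G} (hR : SylIn r U R) (hrU : r ∣ Nat.card U) :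
    SylIn r M R :=
  Cfsg.Agent.Lib.Helper4.BG13.sylIn_of_sylIn_compl hG c.hM c.hcompl
    (sd_not_sigma c.hKU hG c.hM hr.out hrU) ((sd_uSub c.hKU hG c.hM).sylIn hR hrU)

theorem R_ne_bot {r : ℕ} [hr : Fact r.Prime] {R : Subgroup G} (hR : SylIn r U R)
    (hrU : r ∣ Nat.card U) : R ≠ ⊥ := by
  intro h
  apply hR.2.2
  rw [h, Subgroup.relIndex_bot_left]
  exact hrU

/-- the type of a prime divisor of `|U|` -/
theorem type_cases (c : Ctx M K U Mstar) (hG : IsMinSimpleOddOrder G) {r : ℕ}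
    [hr : Fact r.Prime] (hrU : r ∣ Nat.card U) : r ∈ tau2 M ∨ (r ∈ tau1 M ∨ r ∈ tau3 M) := by
  have hrM : r ∣ Nat.card M := hrU.trans (Subgroup.card_dvd_of_le c.hUM)
  rcases sigma_or_tau hG c.hM hrM with h | h | h | h
  · exact absurd h (sd_not_sigma c.hKU hG c.hM hr.out hrU)
  · exact Or.inr (Or.inl h)
  · exact Or.inl h
  · exact Or.inr (Or.inr h)

/-- `M_σ` is nilpotent -/
theorem nilpotent_sigmaCore (c : Ctx M K U Mstar) (hG : IsMinSimpleOddOrder G) :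
    Group.IsNilpotent ↥(sigmaCore M) := by
  have h1 : Nat.card ↥U ≠ 1 := fun h0 => c.hU1 (Subgroup.card_eq_one.mp h0)
  obtain ⟨q, hq, hqd⟩ := Nat.exists_prime_and_dvd h1
  haveI : Fact q.Prime := ⟨hq⟩
  obtain ⟨S⟩ : Nonempty (Sylow q ↥M) := inferInstance
  exact (Cfsg.Agent.S1429.result hG M c.hM (c.not_P1 hG) q
    (hqd.trans (Subgroup.card_dvd_of_le c.hUM))
    (fun h => h.elim (sd_not_sigma c.hKU hG c.hM hq hqd) (sd_not_kappa c.hKU hq hqd)) S).2.2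

/-- elements of order `r ∈ τ₁(M) ∪ τ₃(M)`, `r ∣ |U|`, act without fixed points on `M_σ` -/
theorem fpf_of_tau13 (c : Ctx M K U Mstar) (hG : IsMinSimpleOddOrder G) {r : ℕ}
    [hr : Fact r.Prime] (hrU : r ∣ Nat.card U) (hτ : r ∈ tau1 M ∨ r ∈ tau3 M) {x : G}
    (hx : x ∈ M) (hxo : orderOf x = r) {y : G} (hy : y ∈ sigmaCore M) (hxy : x * y = y * x) :
    y = 1 := by
  by_contra hy1
  have hr1 : PRankLE r 1 ↥M := by
    rcases hτ with h | h
    · exact h.2.2.2.2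
    · exact h.2.2.2
  exact sd_not_kappa c.hKU hr.out hrU
    (mem_kappa_of_fixed hG c.hM (sd_not_sigma c.hKU hG c.hM hr.out hrU) hr1 hx hxo hy hy1 hxy)

end Ctx

/-- a conjugate `g M g⁻¹` of `M` containing a `q`-subgroup `X ≠ 1` of `M`, `q ∈ σ(M)`, with
`C_G(X) ≤ M`, is `M` -/
theorem cj_eq_of_centralizer_le' (hG : IsMinSimpleOddOrder G) {M : Subgroup G} (hM : IsCoatom M)
    {q : ℕ} [hq : Fact q.Prime] (hqσ : q ∈ sigma M) {X : Subgroup G} (hXq : IsPGroup q ↥X)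
    (hX1 : X ≠ ⊥) (hXM : X ≤ M) {g : G} (hXg : X ≤ cj g M)
    (hC : Subgroup.centralizer (X : Set G) ≤ M) : cj g M = M := by
  have h1 : X.map (MulAut.conj g⁻¹).toMonoidHom ≤ M := by
    rintro _ ⟨x, hx, rfl⟩
    have := mem_cj_iff.mp (hXg hx)
    simpa [MulAut.conj_apply] using this
  obtain ⟨m, hm, c, hc, hgc⟩ := (Cfsg.Agent.S1404.result hG M hM q hqσ X hXq hX1 hXM).1 g⁻¹ h1
  have hg : g = c⁻¹ * m⁻¹ := by
    have : g⁻¹⁻¹ = (m * c)⁻¹ := by rw [hgc]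
    simpa using this
  have hgM : g ∈ M := by
    rw [hg]; exact M.mul_mem (M.inv_mem (hC hc)) (M.inv_mem hm)
  exact Cfsg.Agent.Lib.Lead.BG14n.cj_eq_self_of_mem hgM

/-- the configuration of B and G, Corollary 14.8 -/
structure Cfg (M K U Mstar : Subgroup G) (r : ℕ) (R H : Subgroup G) : Prop where
  c : Ctx M K U Mstar
  hr : r.Prime
  hrU : r ∣ Nat.card U
  hR : SylIn r U R
  hH : IsCoatom H
  hNH : Subgroup.normalizer (R : Set G) ≤ H

namespace Ctx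

variable {M K U Mstar : Subgroup G}

theorem card_K_mem_sigma (c : Ctx M K U Mstar) (hG : IsMinSimpleOddOrder G) :
    Nat.card K ∈ sigma Mstar :=
  (sigmaCore_hall hG c.hMs).1.2.1 _ c.hKp (Subgroup.card_dvd_of_le c.hKσ)

theorem isPGroup_K (c : Ctx M K U Mstar) : IsPGroup (Nat.card K) ↥K :=
  IsPGroup.of_card (n := 1) (by rw [pow_one])

/-- `U ∩ M* = 1` -/
theorem U_inf_Mstar (c : Ctx M K U Mstar) : U ⊓ Mstar = ⊥ := by
  rw [eq_bot_iff]
  have h1 : U ⊓ Mstar ≤ U ⊓ (K ⊔ sigmaCore M) := by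
    refine le_inf inf_le_left ?_
    calc U ⊓ Mstar ≤ M ⊓ Mstar := inf_le_inf_right _ c.hUM
      _ = K ⊔ (sigmaCore M ⊓ Subgroup.centralizer (K : Set G)) := c.hMM
      _ ≤ K ⊔ sigmaCore M := sup_le_sup_left inf_le_left K
  rw [c.hKU.compl.2.2.1] at h1
  exact h1

end Ctx

namespace Cfg

variable {M K U Mstar R H : Subgroup G} {r : ℕ}

theorem hUKH (f : Cfg M K U Mstar r R H) (hG : IsMinSimpleOddOrder G) : U ⊔ K ≤ H := by
  haveI : Fact r.Prime := ⟨f.hr⟩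
  exact (f.c.sup_le_normalizer hG f.hR).trans f.hNH

theorem hRM (f : Cfg M K U Mstar r R H) (hG : IsMinSimpleOddOrder G) : SylIn r M R := by
  haveI : Fact r.Prime := ⟨f.hr⟩
  exact f.c.sylIn_M hG f.hR f.hrU

theorem hR1 (f : Cfg M K U Mstar r R H) : R ≠ ⊥ := by
  haveI : Fact r.Prime := ⟨f.hr⟩
  exact Ctx.R_ne_bot f.hR f.hrU

theorem hRH (f : Cfg M K U Mstar r R H) : R ≤ H := Subgroup.le_normalizer.trans f.hNH

/-- Step 1: `H` is not conjugate to `M` -/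
theorem not_conj_M (f : Cfg M K U Mstar r R H) (hG : IsMinSimpleOddOrder G) :
    ∀ g : G, H ≠ cj g M := by
  haveI : Fact r.Prime := ⟨f.hr⟩
  intro g h
  have hS : SylIn r (cj g M) R := by
    apply SylIn.of_card (f.hRM hG).2.1 (h ▸ f.hRH)
    rw [card_cj, ← SylIn.card_eq_pow (f.hRM hG)]
  have hσ : r ∈ sigma (cj g M) := by
    rw [mem_sigma_iff_sylIn]
    refine ⟨?_, R, hS, h ▸ f.hNH⟩
    rw [card_cj]
    exact f.hrU.trans (Subgroup.card_dvd_of_le f.c.hUM)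
  rw [sigma_cj] at hσ
  exact sd_not_sigma f.c.hKU hG f.c.hM f.hr f.hrU hσ

/-- Step 1: `H` is not conjugate to `M*` -/
theorem not_conj_Ms (f : Cfg M K U Mstar r R H) (hG : IsMinSimpleOddOrder G) :
    ∀ g : G, H ≠ cj g Mstar := by
  intro g h
  haveI : Fact (Nat.card K).Prime := ⟨f.c.hKp⟩
  have hKH : K ≤ H := le_sup_right.trans (f.hUKH hG)
  have h1 : cj g Mstar = Mstar :=
    cj_eq_of_centralizer_le' hG f.c.hMs (f.c.card_K_mem_sigma hG) f.c.isPGroup_K f.c.hK1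
      f.c.hKMs (h ▸ hKH) (f.c.hCK hG).1
  rw [h1] at h
  have hUH : U ≤ H := le_sup_left.trans (f.hUKH hG)
  have : U ≤ U ⊓ Mstar := le_inf le_rfl (h ▸ hUH)
  rw [f.c.U_inf_Mstar] at this
  exact f.c.hU1 (eq_bot_iff.mpr this)

/-- Step 1: `κ(H) = ∅` -/
theorem kappa_empty (f : Cfg M K U Mstar r R H) (hG : IsMinSimpleOddOrder G) : kappa H = ∅ := by
  by_contra h
  obtain ⟨g, hg | hg⟩ := f.c.hconj H f.hH (Set.nonempty_iff_ne_empty.mpr h)
  · exact f.not_conj_M hG g hg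
  · exact f.not_conj_Ms hG g hg

/-- Step 1: `p ∉ σ(H)` -/
theorem p_not_sigma (f : Cfg M K U Mstar r R H) (hG : IsMinSimpleOddOrder G) :
    Nat.card K ∉ sigma H := by
  intro h
  obtain ⟨g, hg⟩ := sigma_partition hG f.c.hMs f.hH (f.c.card_K_mem_sigma hG) h
  exact f.not_conj_Ms hG g hg

end Cfg

end Cfsg.Agent.Lib.Lead.BG148
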