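import Mathlib
import Cfsg.Agent.Lib.Lead.BG14n5
import Cfsg.Agent.Lib.Helper5.BG143b
import Cfsg.Agent.Lib.Helper5.BG147k
import Cfsg.Agent.Lib.Helper2.BG14v1
import Cfsg.Agent.Lib.Lead.FF15
import Cfsg.Agent.Lib.Helper2.Maschke
import Cfsg.Agent.Lib.Helper2.BG12U4
import Cfsg.Agent.Lib.Helper4.FM12
import Cfsg.Agent.S1420
import Cfsg.Agent.S1429
import Cfsg.Agent.Lib.Lead.BG148b
import Cfsg.Agent.Lib.Helper3.PrimeOrder
import Cfsg.Agent.S1417
import Cfsg.Agent.S1418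
import Cfsg.Agent.Lib.Helper4.BG21a

set_option autoImplicit false
set_option linter.style.haveILetI false
set_option linter.unusedSectionVars false
set_option maxHeartbeats 800000

namespace Cfsg.Agent.Lib.Lead.BG148

open Cfsg Cfsg.Agent.Lib.Lead Cfsg.Agent.Lib.Lead.BG10 Cfsg.Agent.Lib.Helper7 Cfsg.Agent.Lib.Helper4
open Cfsg.Agent.Lib.Helper4.BG76 Cfsg.Agent.Lib.Helper4.BG8 Cfsg.Agent.Lib.Helper4.BG9
open Cfsg.Agent.Lib.Helper4.BG7 Cfsg.Agent.Lib.Helper4.BG12 Cfsg.Agent.Lib.Helper4.BGConj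
open Cfsg.Agent.Lib.Helper4.BG13 Cfsg.Agent.Lib.Lead.BG95 Cfsg.Agent.Lib.Lead.BG12q
open Cfsg.Agent.Lib.Lead.BG11 Cfsg.Agent.Lib.Lead.BG13q Cfsg.Agent.Lib.Helper4.BG18
open Cfsg.Agent.Lib.Helper2.BG12 Cfsg.Agent.Lib.Helper6 Cfsg.Agent.Lib.Helper2.BG13x
open Cfsg.Agent.Lib.Helper2.BG14y Cfsg.Agent.Lib.Helper5.BG139 Cfsg.Agent.Lib.Lead.BG14n
open Cfsg.Agent.Lib.Helper2.BG14z Cfsg.Agent.Lib.Helper5.BG143 Cfsg.Agent.Lib.Helper4.BG14
open scoped commutatorElement

universe u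

variable {G : Type u} [Group G] [Finite G]

/-- a complement of order `s` to a subgroup of order `s` in an elementary abelian group of
order `s²` -/
theorem exists_compl_of_card_sq {s : ℕ} (hs : s.Prime) {A B : Subgroup G}
    (hA : IsElementaryAbelian s A) (hAc : Nat.card A = s ^ 2) (hBA : B ≤ A)
    (hB : Nat.card B = s) :
    ∃ W : Subgroup G, W ≤ A ∧ Nat.card W = s ∧ B ⊓ W = ⊥ ∧ B ⊔ W = A := by
  have hne : ¬ A ≤ B := by
    intro h
    have := Subgroup.card_le_of_le h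
    rw [hAc, hB] at this
    nlinarith [hs.one_lt]
  obtain ⟨a, haA, haB⟩ := SetLike.not_le_iff_exists.mp hne
  have ha1 : a ≠ 1 := fun h => haB (h ▸ B.one_mem)
  have hWc : Nat.card (Subgroup.zpowers a) = s := by
    haveI : Fact s.Prime := ⟨hs⟩
    rw [Nat.card_zpowers, orderOf_eq_prime (hA.2 a haA) ha1]
  have hWA : Subgroup.zpowers a ≤ A := Subgroup.zpowers_le.mpr haA
  have hBW : B ⊓ Subgroup.zpowers a = ⊥ := by
    by_contra h0
    obtain ⟨w, hw1⟩ := (Subgroup.ne_bot_iff_exists_ne_one).mp h0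
    have hw' : (w : G) ∈ B ⊓ Subgroup.zpowers a := w.2
    have h1 : Subgroup.zpowers (w : G) = Subgroup.zpowers a :=
      Cfsg.Agent.Lib.Helper3.zpowers_eq_of_card_prime hs _ hWc hw'.2
        (fun h => hw1 (Subtype.ext h))
    apply haB
    have : a ∈ Subgroup.zpowers (w : G) := by rw [h1]; exact Subgroup.mem_zpowers a
    exact (Subgroup.zpowers_le.mpr hw'.1) this
  refine ⟨Subgroup.zpowers a, hWA, hWc, hBW, ?_⟩
  apply Subgroup.eq_of_le_of_card_ge (sup_le hBA hWA)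
  have h1 : Nat.card B ∣ Nat.card ↥(B ⊔ Subgroup.zpowers a) := Subgroup.card_dvd_of_le le_sup_left
  have h2 : Nat.card ↥(B ⊔ Subgroup.zpowers a) ∣ Nat.card A :=
    Subgroup.card_dvd_of_le (sup_le hBA hWA)
  rw [hAc] at h2 ⊢
  rw [hB] at h1
  obtain ⟨m, hm, hmc⟩ := (Nat.dvd_prime_pow hs).mp h2
  rw [hmc]
  have hm2 : m = 2 := by
    interval_cases m
    · rw [hmc, pow_zero] at h1
      exact absurd (Nat.dvd_one.mp h1) hs.one_lt.ne'
    · exfalso
      rw [pow_one] at hmc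
      have h3 : B = B ⊔ Subgroup.zpowers a :=
        Subgroup.eq_of_le_of_card_ge le_sup_left (by rw [hmc, hB])
      apply haB
      rw [h3]
      exact (le_sup_right : Subgroup.zpowers a ≤ _) (Subgroup.mem_zpowers a)
    · rfl
  rw [hm2]

/-- a group of prime order acting on a group of prime order: trivially or without fixed points -/
theorem centralizes_or_fpf {K X : Subgroup G} (hKp : (Nat.card K).Prime)
    (hXp : (Nat.card X).Prime) :
    X ≤ Subgroup.centralizer (K : Set G) ∨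
      ∀ k ∈ K, k ≠ 1 → ∀ x ∈ X, k * x = x * k → x = 1 := by
  by_cases h : ∃ k ∈ K, k ≠ 1 ∧ ∃ x ∈ X, x ≠ 1 ∧ k * x = x * k
  · left
    obtain ⟨k, hk, hk1, x, hx, hx1, hkx⟩ := h
    have h1 : Subgroup.zpowers k = K :=
      Cfsg.Agent.Lib.Helper3.zpowers_eq_of_card_prime hKp K rfl hk hk1
    have h2 : Subgroup.zpowers x = X :=
      Cfsg.Agent.Lib.Helper3.zpowers_eq_of_card_prime hXp X rfl hx hx1
    intro y hy
    rw [Subgroup.mem_centralizer_iff]
    intro k' hk'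
    rw [← h2] at hy
    rw [SetLike.mem_coe, ← h1] at hk'
    obtain ⟨i, rfl⟩ := Subgroup.mem_zpowers_iff.mp hy
    obtain ⟨j, rfl⟩ := Subgroup.mem_zpowers_iff.mp hk'
    have hc : Commute k x := hkx
    exact ((hc.zpow_left j).zpow_right i).eq
  · right
    intro k hk hk1 x hx hkx
    by_contra hx1
    exact h ⟨k, hk, hk1, x, hx, hx1, hkx⟩

/-- in a direct product `B × X` of two `K`-invariant subgroups on which `K` acts without fixed
points, `K` acts without fixed points -/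
theorem fpf_sup {K B X : Subgroup G} (hKB : K ≤ Subgroup.normalizer (B : Set G))
    (hKX : K ≤ Subgroup.normalizer (X : Set G)) (hBX : B ⊓ X = ⊥)
    (hcomm : B ≤ Subgroup.centralizer (X : Set G))
    (hB : ∀ k ∈ K, k ≠ 1 → ∀ b ∈ B, k * b = b * k → b = 1)
    (hX : ∀ k ∈ K, k ≠ 1 → ∀ x ∈ X, k * x = x * k → x = 1) :
    ∀ k ∈ K, k ≠ 1 → ∀ a ∈ B ⊔ X, k * a = a * k → a = 1 := by
  intro k hk hk1 a ha hka
  obtain ⟨b, hb, x, hx, rfl, -⟩ := Cfsg.Agent.Lib.Helper4.BG21.exists_mul_of_mem_sup hcomm ha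
  have hb' : k * b * k⁻¹ ∈ B := (Subgroup.mem_normalizer_iff.mp (hKB hk) b).mp hb
  have hx' : k * x * k⁻¹ ∈ X := (Subgroup.mem_normalizer_iff.mp (hKX hk) x).mp hx
  have h1 : (k * b * k⁻¹) * (k * x * k⁻¹) = b * x := by
    calc (k * b * k⁻¹) * (k * x * k⁻¹) = k * (b * x) * k⁻¹ := by group
      _ = (b * x) * k * k⁻¹ := by rw [hka]
      _ = b * x := by group
  have h2 : b⁻¹ * (k * b * k⁻¹) = x * (k * x * k⁻¹)⁻¹ := by
    calc b⁻¹ * (k * b * k⁻¹) = b⁻¹ * ((k * b * k⁻¹) * (k * x * k⁻¹)) * (k * x * k⁻¹)⁻¹ := by group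
      _ = b⁻¹ * (b * x) * (k * x * k⁻¹)⁻¹ := by rw [h1]
      _ = x * (k * x * k⁻¹)⁻¹ := by group
  have h3 : b⁻¹ * (k * b * k⁻¹) ∈ B ⊓ X := by
    refine ⟨B.mul_mem (B.inv_mem hb) hb', ?_⟩
    rw [h2]
    exact X.mul_mem hx (X.inv_mem hx')
  rw [hBX, Subgroup.mem_bot] at h3
  have h4 : k * b * k⁻¹ = b := by
    calc k * b * k⁻¹ = b * (b⁻¹ * (k * b * k⁻¹)) := by group
      _ = b := by rw [h3, mul_one]
  have h5 : k * x * k⁻¹ = x := by
    have : x * (k * x * k⁻¹)⁻¹ = 1 := by rw [← h2, h3]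
    calc k * x * k⁻¹ = (x * (k * x * k⁻¹)⁻¹)⁻¹ * x := by group
      _ = x := by rw [this, inv_one, one_mul]
  have hb1 : b = 1 := hB k hk hk1 b hb (by
    calc k * b = (k * b * k⁻¹) * k := by group
      _ = b * k := by rw [h4])
  have hx1 : x = 1 := hX k hk hk1 x hx (by
    calc k * x = (k * x * k⁻¹) * k := by group
      _ = x * k := by rw [h5])
  rw [hb1, hx1, mul_one]

/-- **Lemma W**: `s ∈ τ₂(H)`, `A = E_{s²}` in a complement `E` of `H_σ`, `K ≤ E` of prime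
order with `C_{H_σ}(K) = 1`, acting without fixed points on `B ≤ A` of order `s`: then `A = B × X`
with `X` centralized by `K` -/
theorem exists_fixed_compl (hG : IsMinSimpleOddOrder G) {H E A B K : Subgroup G}
    (hH : IsCoatom H) (hE : IsComplIn E (sigmaCore H) H) {s : ℕ} [hs : Fact s.Prime]
    (hsτ : s ∈ tau2 H) (hAE : A ≤ E) (hA : IsElementaryAbelian s A) (hAc : Nat.card A = s ^ 2)
    (hKE : K ≤ E) (hKp : (Nat.card K).Prime) (hps : Nat.card K ≠ s)
    (hfix : sigmaCore H ⊓ Subgroup.centralizer (K : Set G) = ⊥) (hBA : B ≤ A)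
    (hB : Nat.card B = s) (hKB : K ≤ Subgroup.normalizer (B : Set G))
    (hfpf : ∀ k ∈ K, k ≠ 1 → ∀ b ∈ B, k * b = b * k → b = 1) :
    ∃ X : Subgroup G, X ≤ A ∧ Nat.card X = s ∧ B ⊓ X = ⊥ ∧ B ⊔ X = A ∧
      X ≤ Subgroup.centralizer (K : Set G) := by
  have hEA : E ≤ Subgroup.normalizer (A : Set G) :=
    (Cfsg.Agent.S1418.result hG H hH E hE s hsτ A ⟨hAE, hA, hAc⟩).1.1
  have hKA : K ≤ Subgroup.normalizer (A : Set G) := hKE.trans hEA
  obtain ⟨W, hWA, hWc, hBW, hBWA⟩ := exists_compl_of_card_sq hs.out hA hAc hBA hB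
  have hcop : (Nat.card K).Coprime (Nat.card A) := by
    rw [hAc]
    exact Nat.Coprime.pow_right 2 ((Nat.coprime_primes hKp hs.out).mpr hps)
  haveI := hA.1
  obtain ⟨X, hXA, hKX, hBX, hBXA⟩ := Cfsg.Agent.Lib.Helper2.Maschke.exists_invariant_complement
    A K B hA.1 hKA hcop hBA hKB W hWA hBW hBWA
  have hXc : Nat.card X = s := by
    have h2 : Nat.card X ∣ Nat.card A := Subgroup.card_dvd_of_le hXA
    rw [hAc] at h2
    obtain ⟨m, hm, hmc⟩ := (Nat.dvd_prime_pow hs.out).mp h2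
    interval_cases m
    · exfalso
      rw [pow_zero] at hmc
      rw [Subgroup.card_eq_one.mp hmc, sup_bot_eq] at hBXA
      rw [hBXA, hAc] at hB
      have := hs.out.one_lt
      nlinarith
    · rw [hmc, pow_one]
    · exfalso
      have h3 : X = A := Subgroup.eq_of_le_of_card_ge hXA (by rw [hmc, hAc])
      rw [h3, inf_eq_left.mpr hBA] at hBX
      rw [hBX, Subgroup.card_bot] at hB
      exact hs.out.one_lt.ne hB
  refine ⟨X, hXA, hXc, hBX, hBXA, ?_⟩
  rcases centralizes_or_fpf hKp (hXc ▸ hs.out) with h | h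
  · exact h
  exfalso
  have hcommA : ∀ a ∈ A, ∀ b ∈ A, a * b = b * a := by
    intro a ha b hb
    have := mul_comm' (⟨a, ha⟩ : A) ⟨b, hb⟩
    exact congrArg Subtype.val this
  have hBcX : B ≤ Subgroup.centralizer (X : Set G) := by
    intro b hb
    rw [Subgroup.mem_centralizer_iff]
    intro x hx
    exact hcommA x (hXA hx) b (hBA hb)
  have hfA : ∀ k ∈ K, k ≠ 1 → ∀ a ∈ A, k * a = a * k → a = 1 := by
    intro k hk hk1 a ha
    rw [← hBXA] at ha
    exact fpf_sup hKB hKX hBX hBcX hfpf h k hk hk1 a ha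
  have hAH : A ≤ H := hAE.trans hE.1
  have hKH : K ≤ H := hKE.trans hE.1
  have hcop2 : (Nat.card ↥(sigmaCore H)).Coprime (Nat.card ↥(A ⊔ K : Subgroup G)) := by
    have h1 := Cfsg.Agent.Lib.Helper2.BG12.coprime_card_compl_sigmaCore hG hH hE
    exact (Nat.Coprime.coprime_dvd_left (Subgroup.card_dvd_of_le (sup_le hAE hKE)) h1).symm
  haveI : Group.IsSolvable ↥H := solvable_of_ne_top hG hH.1
  have hsolv : Group.IsSolvable ↥(sigmaCore H) :=
    solvable_of_ne_top hG (ne_top_of_le_ne_top hH.1 (sigmaCore_le H))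
  have h5 := frob_le_centralizer hKA hfA (hAH.trans (le_normalizer_sigmaCore H))
    (hKH.trans (le_normalizer_sigmaCore H)) hsolv hcop2 hfix
  have h6 := (Cfsg.Agent.S1417.result hG H hH s hsτ A ⟨hAH, hA, hAc⟩).2.2.2.1
  have h7 : sigmaCore H ≤ ⊥ := by
    rw [← h6]
    exact le_inf le_rfl h5
  exact Cfsg.Agent.Lib.Helper2.BG11.sigmaCore_ne_bot hG hH (eq_bot_iff.mpr h7)

namespace Ctx

variable {M K U Mstar : Subgroup G}

/-- **Lemma Z**: `A = B × X` elementary abelian of order `s²`, `K` acting without fixed points on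
`B` and centralizing `X`: then `s ∈ κ(M*)`, or `A ≤ M*` and `s ∈ τ₂(M*) ∪ σ(M*)` -/
theorem lemma_Z (c : Ctx M K U Mstar) (hG : IsMinSimpleOddOrder G) {s : ℕ} [hs : Fact s.Prime]
    {A B X : Subgroup G} (hA : IsElementaryAbelian s A) (hAc : Nat.card A = s ^ 2)
    (hBA : B ≤ A) (hXA : X ≤ A) (hXc : Nat.card X = s) (hBXA : B ⊔ X = A)
    (hB : Nat.card B = s)
    (hKB : K ≤ Subgroup.normalizer (B : Set G))
    (hfpf : ∀ k ∈ K, k ≠ 1 → ∀ b ∈ B, k * b = b * k → b = 1)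
    (hXK : X ≤ Subgroup.centralizer (K : Set G)) :
    s ∈ kappa Mstar ∨ (A ≤ Mstar ∧ (s ∈ tau2 Mstar ∨ s ∈ sigma Mstar)) := by
  have hXMs : X ≤ Mstar := hXK.trans (c.hCK hG).1
  have hsMs : s ∣ Nat.card Mstar := hXc ▸ Subgroup.card_dvd_of_le hXMs
  have hX1 : X ≠ ⊥ := by
    intro h
    rw [h, Subgroup.card_bot] at hXc
    exact hs.out.one_lt.ne hXc
  obtain ⟨⟨x, hx⟩, hx1'⟩ := (Subgroup.ne_bot_iff_exists_ne_one).mp hX1
  have hx1 : x ≠ 1 := fun h => hx1' (Subtype.ext h)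
  have hXz : Subgroup.zpowers x = X :=
    Cfsg.Agent.Lib.Helper3.zpowers_eq_of_card_prime hs.out X hXc hx hx1
  have hxo : orderOf x = s := by rw [← Nat.card_zpowers, hXz, hXc]
  obtain ⟨⟨k₀, hk₀⟩, hk₀1'⟩ := (Subgroup.ne_bot_iff_exists_ne_one).mp c.hK1
  have hk₀1 : k₀ ≠ 1 := fun h => hk₀1' (Subtype.ext h)
  have hxk : x * k₀ = k₀ * x := by
    have := Subgroup.mem_centralizer_iff.mp (hXK hx) k₀ hk₀
    exact this.symm
  have hcommA : ∀ a ∈ A, ∀ b ∈ A, a * b = b * a := by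
    intro a ha b hb
    haveI := hA.1
    have := mul_comm' (⟨a, ha⟩ : A) ⟨b, hb⟩
    exact congrArg Subtype.val this
  have hACx : A ≤ Subgroup.centralizer ({x} : Set G) := by
    intro a ha
    rw [Subgroup.mem_centralizer_singleton_iff]
    exact hcommA a ha x (hXA hx)
  rcases sigma_or_tau hG c.hMs hsMs with hσ | hτ1 | hτ2 | hτ3
  · -- `s ∈ σ(M*)`
    by_cases hC : Subgroup.centralizer ({x} : Set G) ≤ Mstar
    · exact Or.inr ⟨hACx.trans hC, Or.inr hσ⟩
    exfalso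
    have hXp : IsPGroup s ↥X := IsPGroup.of_card (n := 1) (by rw [hXc, pow_one])
    have hxσ : x ∈ sigmaCore Mstar := le_sigmaCore_of_isPGroup hG c.hMs hσ hXMs hXp hx
    obtain ⟨N, hN, hCN, -, -, hcompl, -, hτ, hne⟩ := exists_partner hG c.hMs hxσ hx1 hC
    have hsτ : s ∈ tau2 N := hτ s hs.out (hxo ▸ dvd_rfl)
    have hAN : A ≤ N := hACx.trans hCN
    have hKN : K ≤ N := by
      refine le_trans ?_ hCN
      intro k hk
      rw [Subgroup.mem_centralizer_singleton_iff]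
      have := Subgroup.mem_centralizer_iff.mp (hXK hx) k hk
      exact this
    have hfix : sigmaCore N ⊓ Subgroup.centralizer (K : Set G) = ⊥ := by
      rw [eq_bot_iff, ← hcompl.2.2.1]
      intro z hz
      exact ⟨⟨(c.hCK hG).1 hz.2, sigmaCore_le N hz.1⟩, hz.1⟩
    have hcop : (Nat.card ↥(sigmaCore N)).Coprime (Nat.card ↥(B ⊔ K : Subgroup G)) := by
      have h1 : Nat.card ↥(B ⊔ K : Subgroup G) ∣ s * Nat.card K := by
        have h2 := relIndex_sup_dvd_card hKB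
        have h3 := Subgroup.relIndex_mul_relIndex ⊥ B (B ⊔ K) bot_le le_sup_left
        rw [Subgroup.relIndex_bot_left, Subgroup.relIndex_bot_left, hB] at h3
        rw [← h3]
        exact Nat.mul_dvd_mul_left s h2
      refine Nat.Coprime.coprime_dvd_right h1 (Nat.Coprime.mul_right ?_ ?_)
      · rw [Nat.coprime_comm, Nat.Prime.coprime_iff_not_dvd hs.out]
        intro hd
        exact hsτ.2.1 ((sigmaCore_hall hG hN).1.2.1 s hs.out hd)
      · have h4 := Cfsg.Agent.Lib.Helper2.BG12.coprime_card_compl_sigmaCore hG hN hcompl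
        exact (Nat.Coprime.coprime_dvd_left
          (Subgroup.card_dvd_of_le (le_inf c.hKMs hKN)) h4).symm
    have hsolv : Group.IsSolvable ↥(sigmaCore N) :=
      solvable_of_ne_top hG (ne_top_of_le_ne_top hN.1 (sigmaCore_le N))
    have h5 := frob_le_centralizer hKB hfpf ((hBA.trans hAN).trans (le_normalizer_sigmaCore N))
      (hKN.trans (le_normalizer_sigmaCore N)) hsolv hcop hfix
    have h6 := (Cfsg.Agent.S1417.result hG N hN s hsτ A ⟨hAN, hA, hAc⟩).2.2.2.1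
    apply hne
    rw [eq_bot_iff, ← h6]
    intro z hz
    refine Subgroup.mem_inf.mpr ⟨hz.1, ?_⟩
    rw [← hBXA, ← hXz]
    rw [Subgroup.mem_centralizer_iff]
    intro a ha
    have hzB : z ∈ Subgroup.centralizer (B : Set G) := h5 hz.1
    have hzX : z ∈ Subgroup.centralizer ((Subgroup.zpowers x : Subgroup G) : Set G) := by
      rw [centralizer_zpowers]
      exact hz.2
    have : B ⊔ Subgroup.zpowers x ≤ Subgroup.centralizer ({z} : Set G) := by
      apply sup_le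
      · intro b hb
        rw [Subgroup.mem_centralizer_singleton_iff]
        exact Subgroup.mem_centralizer_iff.mp hzB b hb
      · intro b hb
        rw [Subgroup.mem_centralizer_singleton_iff]
        exact Subgroup.mem_centralizer_iff.mp hzX b hb
    have h7 := this ha
    rw [Subgroup.mem_centralizer_singleton_iff] at h7
    exact h7
  · exact Or.inl (mem_kappa_of_fixed hG c.hMs hτ1.2.1 hτ1.2.2.2.2 (hXMs hx) hxo (c.hKσ hk₀) hk₀1 hxk)
  · -- `s ∈ τ₂(M*)`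
    obtain ⟨E, hE, -⟩ := exists_complIn_ge hG c.hMs (A := ⊥) bot_le (by simp)
    have h1 := (Cfsg.Agent.S1420.result hG Mstar c.hMs E hE).2.2.2 x (hXMs hx) hx1
      (fun p hp hpd => by
        rw [hxo] at hpd
        rw [(Nat.prime_dvd_prime_iff_eq hp hs.out).mp hpd]
        exact hτ2)
      ⟨hXMs hx, k₀, c.hKσ hk₀, hk₀1, hxk⟩
    exact Or.inr ⟨hACx.trans h1.1, Or.inl hτ2⟩
  · exact Or.inl (mem_kappa_of_fixed hG c.hMs hτ3.2.1 hτ3.2.2.2 (hXMs hx) hxo (c.hKσ hk₀) hk₀1 hxk)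

end Ctx

end Cfsg.Agent.Lib.Lead.BG148
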