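import Mathlib
import Cfsg.Agent.Lib.Lead.BG14n5
import Cfsg.Agent.Lib.Helper5.BG143b
import Cfsg.Agent.Lib.Helper5.BG147k
import Cfsg.Agent.Lib.Helper2.BG14v1
import Cfsg.Agent.Lib.Lead.FF15
import Cfsg.Agent.Lib.Helper2.Maschke
import Cfsg.Agent.Lib.Helper2.BG12U4
import Cfsg.Agent.Lib.Helper4.FM12
import Cfsg.Agent.S1420
import Cfsg.Agent.S1429
import Cfsg.Agent.Lib.Lead.BG148c
import Cfsg.Agent.S1416
import Cfsg.Agent.S1422
import Cfsg.Agent.Lib.Helper3.PrimeOrder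
import Cfsg.Agent.S1417
import Cfsg.Agent.S1418
import Cfsg.Agent.Lib.Helper4.BG21a

set_option autoImplicit false
set_option linter.style.haveILetI false
set_option linter.unusedSectionVars false
set_option maxHeartbeats 800000

namespace Cfsg.Agent.Lib.Lead.BG148

open Cfsg Cfsg.Agent.Lib.Lead Cfsg.Agent.Lib.Lead.BG10 Cfsg.Agent.Lib.Helper7 Cfsg.Agent.Lib.Helper4
open Cfsg.Agent.Lib.Helper4.BG76 Cfsg.Agent.Lib.Helper4.BG8 Cfsg.Agent.Lib.Helper4.BG9
open Cfsg.Agent.Lib.Helper4.BG7 Cfsg.Agent.Lib.Helper4.BG12 Cfsg.Agent.Lib.Helper4.BGConj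
open Cfsg.Agent.Lib.Helper4.BG13 Cfsg.Agent.Lib.Lead.BG95 Cfsg.Agent.Lib.Lead.BG12q
open Cfsg.Agent.Lib.Lead.BG11 Cfsg.Agent.Lib.Lead.BG13q Cfsg.Agent.Lib.Helper4.BG18
open Cfsg.Agent.Lib.Helper2.BG12 Cfsg.Agent.Lib.Helper6 Cfsg.Agent.Lib.Helper2.BG13x
open Cfsg.Agent.Lib.Helper2.BG14y Cfsg.Agent.Lib.Helper5.BG139 Cfsg.Agent.Lib.Lead.BG14n
open Cfsg.Agent.Lib.Helper2.BG14z Cfsg.Agent.Lib.Helper5.BG143 Cfsg.Agent.Lib.Helper4.BG14
open scoped commutatorElement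

universe u

variable {G : Type u} [Group G] [Finite G]

namespace Cfg

variable {M K U Mstar R H : Subgroup G} {r : ℕ}

theorem exists_A_of_tau2 (f : Cfg M K U Mstar r R H) (hG : IsMinSimpleOddOrder G)
    (hτ : r ∈ tau2 M) :
    ∃ A : Subgroup G, A ≤ R ∧ IsElementaryAbelian r A ∧ Nat.card A = r ^ 2 := by
  haveI : Fact r.Prime := ⟨f.hr⟩
  obtain ⟨A₀, hA₀M, hA₀e, hA₀c⟩ := exists_elementary_sq hτ.2.2.2
  obtain ⟨c, -, hc⟩ := (f.hRM hG).exists_conj_le hA₀M (isPGroup_of_elementary hA₀e)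
  exact ⟨cj c A₀, hc, isElementaryAbelian_cj hA₀e c, by rw [card_cj, hA₀c]⟩

theorem R_comm (f : Cfg M K U Mstar r R H) (hG : IsMinSimpleOddOrder G) {a b : G} (ha : a ∈ R)
    (hb : b ∈ R) : a * b = b * a :=
  f.c.comm hG (f.hR.1 ha) (f.hR.1 hb)

/-- Step 2, case `r ∈ τ₂(M)` -/
theorem r_mem_sigma_of_tau2 (f : Cfg M K U Mstar r R H) (hG : IsMinSimpleOddOrder G)
    (hτ : r ∈ tau2 M) : r ∈ sigma H := by
  haveI : Fact r.Prime := ⟨f.hr⟩
  obtain ⟨A, hAR, hAe, hAc⟩ := f.exists_A_of_tau2 hG hτ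
  have hRM := f.hRM hG
  have hCA : Subgroup.centralizer (A : Set G) ≤ M :=
    (Cfsg.Agent.S1416.result hG M f.c.hM r A ⟨hAR.trans hRM.1, hAe, hAc⟩).1
  obtain ⟨S, hRS, hS⟩ := exists_sylIn_ge (le_top : R ≤ ⊤) hRM.2.1
  have hrH : r ∣ Nat.card H :=
    (dvd_card_of_ne_bot hRM.2.1 f.hR1).trans (Subgroup.card_dvd_of_le f.hRH)
  -- an `r`-subgroup of `M` containing `R` is `R`
  have hmax : ∀ T : Subgroup G, IsPGroup r T → T ≤ M → R ≤ T → T = R := by
    intro T hT hTM hRT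
    refine (Subgroup.eq_of_le_of_card_ge hRT ?_).symm
    rw [SylIn.card_eq_pow hRM]
    exact card_le_of_isPGroup_le hT hTM
  by_cases hSab : ∀ a ∈ S, ∀ b ∈ S, a * b = b * a
  · have hSM : S ≤ M := by
      refine le_trans ?_ hCA
      intro a ha
      rw [Subgroup.mem_centralizer_iff]
      intro b hb
      exact hSab b (hRS (hAR hb)) a ha
    have hSR : S = R := hmax S hS.2.1 hSM hRS
    rw [mem_sigma_iff_sylIn]
    refine ⟨hrH, R, ?_, f.hNH⟩
    rw [← hSR]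
    exact hS.mono (hSR ▸ f.hRH) le_top
  · -- `S` nonabelian
    have hCR : S ⊓ Subgroup.centralizer (R : Set G) = R := by
      apply hmax _ (hS.2.1.to_le inf_le_left)
      · refine le_trans ?_ hCA
        exact inf_le_right.trans (Subgroup.centralizer_le hAR)
      · refine le_inf hRS ?_
        intro a ha
        rw [Subgroup.mem_centralizer_iff]
        intro b hb
        exact f.R_comm hG hb ha
    have hlt : R < S := by
      refine lt_of_le_of_ne hRS ?_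
      intro h
      apply hSab
      intro a ha b hb
      rw [← h] at ha hb
      exact f.R_comm hG ha hb
    obtain ⟨n, hnS, hnR, hnN⟩ := exists_mem_normalizer_not_mem hlt hS.2.1
    set T : Subgroup G := S ⊓ Subgroup.normalizer (R : Set G) with hT
    have hTp : IsPGroup r ↥T := hS.2.1.to_le inf_le_left
    have hTna : ¬ IsMulCommutative ↥T := by
      intro hab
      apply hnR
      rw [← hCR]
      refine Subgroup.mem_inf.mpr ⟨hnS, ?_⟩
      rw [Subgroup.mem_centralizer_iff]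
      intro b hb
      have hbT : b ∈ T := ⟨hRS hb, Subgroup.le_normalizer hb⟩
      have hnT : n ∈ T := ⟨hnS, hnN⟩
      have := mul_comm' (⟨b, hbT⟩ : T) ⟨n, hnT⟩
      exact congrArg Subtype.val this
    obtain ⟨L₀, -, hL₀⟩ := Cfsg.Agent.S1422.result hG r T hTp hTna
    have hTH : T ≤ H := inf_le_right.trans f.hNH
    have huniq : ∀ L : Subgroup G, IsCoatom L → T ≤ L → L = H := by
      intro L hL hTL
      rw [hL₀ L ⟨hL, hTL⟩, hL₀ H ⟨f.hH, hTH⟩]
    have hTS : T ≤ S := inf_le_left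
    obtain ⟨L, hL, hSL⟩ := exists_coatom_ge (isPGroup_ne_top hG hS.2.1)
    have hSH : S ≤ H := huniq L hL (hTS.trans hSL) ▸ hSL
    have hS1 : S ≠ ⊥ := fun h => f.hR1 (eq_bot_iff.mpr (h ▸ hRS))
    obtain ⟨L', hL', hNL'⟩ := exists_coatom_ge
      (normalizer_ne_top hG hS1 (isPGroup_ne_top hG hS.2.1))
    have hNH : Subgroup.normalizer (S : Set G) ≤ H :=
      huniq L' hL' ((hTS.trans Subgroup.le_normalizer).trans hNL') ▸ hNL'
    rw [mem_sigma_iff_sylIn]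
    exact ⟨hrH, S, hS.mono hSH le_top, hNH⟩

end Cfg

end Cfsg.Agent.Lib.Lead.BG148
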