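import Mathlib
import Cfsg.Agent.Lib.Lead.BG14n5
import Cfsg.Agent.Lib.Helper5.BG143b
import Cfsg.Agent.Lib.Helper5.BG147k
import Cfsg.Agent.Lib.Helper2.BG14v1
import Cfsg.Agent.Lib.Lead.FF15
import Cfsg.Agent.Lib.Helper2.Maschke
import Cfsg.Agent.Lib.Helper2.BG12U4
import Cfsg.Agent.Lib.Helper4.FM12
import Cfsg.Agent.S1420
import Cfsg.Agent.S1429
import Cfsg.Agent.Lib.Lead.BG148d
import Cfsg.Agent.S1415
import Cfsg.Agent.S1416
import Cfsg.Agent.S1422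
import Cfsg.Agent.Lib.Helper3.PrimeOrder
import Cfsg.Agent.S1417
import Cfsg.Agent.S1418
import Cfsg.Agent.Lib.Helper4.BG21a

set_option autoImplicit false
set_option linter.style.haveILetI false
set_option linter.unusedSectionVars false
set_option maxHeartbeats 800000

namespace Cfsg.Agent.Lib.Lead.BG148

open Cfsg Cfsg.Agent.Lib.Lead Cfsg.Agent.Lib.Lead.BG10 Cfsg.Agent.Lib.Helper7 Cfsg.Agent.Lib.Helper4
open Cfsg.Agent.Lib.Helper4.BG76 Cfsg.Agent.Lib.Helper4.BG8 Cfsg.Agent.Lib.Helper4.BG9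
open Cfsg.Agent.Lib.Helper4.BG7 Cfsg.Agent.Lib.Helper4.BG12 Cfsg.Agent.Lib.Helper4.BGConj
open Cfsg.Agent.Lib.Helper4.BG13 Cfsg.Agent.Lib.Lead.BG95 Cfsg.Agent.Lib.Lead.BG12q
open Cfsg.Agent.Lib.Lead.BG11 Cfsg.Agent.Lib.Lead.BG13q Cfsg.Agent.Lib.Helper4.BG18
open Cfsg.Agent.Lib.Helper2.BG12 Cfsg.Agent.Lib.Helper6 Cfsg.Agent.Lib.Helper2.BG13x
open Cfsg.Agent.Lib.Helper2.BG14y Cfsg.Agent.Lib.Helper5.BG139 Cfsg.Agent.Lib.Lead.BG14n
open Cfsg.Agent.Lib.Helper2.BG14z Cfsg.Agent.Lib.Helper5.BG143 Cfsg.Agent.Lib.Helper4.BG14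
open scoped commutatorElement

universe u

variable {G : Type u} [Group G] [Finite G]

theorem prime_dvd_card_sup {A B : Subgroup G} (hB : B ≤ Subgroup.normalizer (A : Set G)) {q : ℕ}
    (hq : q.Prime) (hd : q ∣ Nat.card ↥(A ⊔ B : Subgroup G)) :
    q ∣ Nat.card A ∨ q ∣ Nat.card B := by
  have h2 := relIndex_sup_dvd_card hB
  have h3 := Subgroup.relIndex_mul_relIndex ⊥ A (A ⊔ B) bot_le le_sup_left
  rw [Subgroup.relIndex_bot_left, Subgroup.relIndex_bot_left] at h3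
  rw [← h3] at hd
  rcases (Nat.Prime.dvd_mul hq).mp hd with h | h
  · exact Or.inl h
  · exact Or.inr (h.trans h2)

theorem coprime_card_sigmaCore_of_primes (hG : IsMinSimpleOddOrder G) {X H : Subgroup G}
    (hH : IsCoatom H) (hX : ∀ q : ℕ, q.Prime → q ∣ Nat.card X → q ∉ sigma H) :
    (Nat.card X).Coprime (Nat.card (sigmaCore H)) := by
  apply Nat.coprime_of_dvd
  intro q hq h1 h2
  exact hX q hq h1 ((sigmaCore_hall hG hH).1.2.1 q hq h2)

namespace Cfg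

variable {M K U Mstar R H : Subgroup G} {r : ℕ}

theorem hKR (f : Cfg M K U Mstar r R H) (hG : IsMinSimpleOddOrder G) :
    K ≤ Subgroup.normalizer (R : Set G) := by
  haveI : Fact r.Prime := ⟨f.hr⟩
  exact le_sup_right.trans (f.c.sup_le_normalizer hG f.hR)

theorem hKH (f : Cfg M K U Mstar r R H) (hG : IsMinSimpleOddOrder G) : K ≤ H :=
  le_sup_right.trans (f.hUKH hG)

theorem hUH (f : Cfg M K U Mstar r R H) (hG : IsMinSimpleOddOrder G) : U ≤ H :=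
  le_sup_left.trans (f.hUKH hG)

theorem r_ne_p (f : Cfg M K U Mstar r R H) : Nat.card K ≠ r := by
  intro h
  apply sd_not_kappa f.c.hKU f.hr f.hrU
  have hK1 : Nat.card K ≠ 1 := f.c.hKp.one_lt.ne'
  exact f.c.hKU.hall.2.1 r f.hr (h ▸ dvd_rfl)

/-- `R K` lies in a complement of `H_σ` when `r ∉ σ(H)` -/
theorem exists_compl (f : Cfg M K U Mstar r R H) (hG : IsMinSimpleOddOrder G)
    (hrσ : r ∉ sigma H) : ∃ E : Subgroup G, IsComplIn E (sigmaCore H) H ∧ R ⊔ K ≤ E := by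
  haveI : Fact r.Prime := ⟨f.hr⟩
  apply exists_complIn_ge hG f.hH (sup_le f.hRH (f.hKH hG))
  apply coprime_card_sigmaCore_of_primes hG f.hH
  intro q hq hd
  rcases prime_dvd_card_sup (f.hKR hG) hq hd with h | h
  · obtain ⟨k, hk⟩ := IsPGroup.iff_card.mp f.hR.2.1
    rw [hk] at h
    rw [(Nat.prime_dvd_prime_iff_eq hq f.hr).mp (hq.dvd_of_dvd_pow h)]
    exact hrσ
  · rw [(Nat.prime_dvd_prime_iff_eq hq f.c.hKp).mp h]
    exact f.p_not_sigma hG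

/-- a subgroup `N ≥ K` normalized by `R` meets `R` nontrivially -/
theorem inf_ne_bot_of_normal (f : Cfg M K U Mstar r R H) (hG : IsMinSimpleOddOrder G)
    {N : Subgroup G} (hKN : K ≤ N) (hRN : R ≤ Subgroup.normalizer (N : Set G)) :
    R ⊓ N ≠ ⊥ := by
  intro h0
  obtain ⟨⟨k₀, hk₀⟩, hk₀1'⟩ := (Subgroup.ne_bot_iff_exists_ne_one).mp f.c.hK1
  have hk₀1 : k₀ ≠ 1 := fun h => hk₀1' (Subtype.ext h)
  obtain ⟨⟨a, ha⟩, ha1'⟩ := (Subgroup.ne_bot_iff_exists_ne_one).mp f.hR1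
  have ha1 : a ≠ 1 := fun h => ha1' (Subtype.ext h)
  apply ha1
  apply f.c.fpf hG k₀ hk₀ hk₀1 a (f.hR.1 ha)
  have h1 : a * k₀ * a⁻¹ * k₀⁻¹ ∈ R ⊓ N := by
    constructor
    · have := (Subgroup.mem_normalizer_iff.mp (f.hKR hG hk₀) a⁻¹).mp (R.inv_mem ha)
      have e : a * k₀ * a⁻¹ * k₀⁻¹ = a * (k₀ * a⁻¹ * k₀⁻¹) := by group
      rw [e]
      exact R.mul_mem ha this
    · have := (Subgroup.mem_normalizer_iff.mp (hRN ha) k₀).mp (hKN hk₀)
      exact N.mul_mem this (N.inv_mem (hKN hk₀))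
  rw [h0, Subgroup.mem_bot] at h1
  calc k₀ * a = (a * k₀ * a⁻¹ * k₀⁻¹)⁻¹ * a * k₀ := by group
    _ = a * k₀ := by rw [h1, inv_one, one_mul]

/-- `C_{H_σ}(K) = 1` when `H` has `p`-rank one -/
theorem fix_K (f : Cfg M K U Mstar r R H) (hG : IsMinSimpleOddOrder G)
    (hr1 : PRankLE (Nat.card K) 1 ↥H) :
    sigmaCore H ⊓ Subgroup.centralizer (K : Set G) = ⊥ := by
  haveI : Fact (Nat.card K).Prime := ⟨f.c.hKp⟩
  rw [eq_bot_iff]
  intro z hz
  rw [Subgroup.mem_bot]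
  by_contra hz1
  obtain ⟨⟨k₀, hk₀⟩, hk₀1'⟩ := (Subgroup.ne_bot_iff_exists_ne_one).mp f.c.hK1
  have hk₀1 : k₀ ≠ 1 := fun h => hk₀1' (Subtype.ext h)
  have hko : orderOf k₀ = Nat.card K := by
    rw [← Nat.card_zpowers,
      Cfsg.Agent.Lib.Helper3.zpowers_eq_of_card_prime f.c.hKp K rfl hk₀ hk₀1]
  have hκ := mem_kappa_of_fixed hG f.hH (f.p_not_sigma hG) hr1 (f.hKH hG hk₀) hko hz.1 hz1
    (Subgroup.mem_centralizer_iff.mp hz.2 k₀ hk₀)
  rw [f.kappa_empty hG] at hκ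
  exact hκ

end Cfg

/-- for `s ∈ τ₂(H)` a complement of `H_σ` contains an elementary abelian subgroup of order `s²` -/
theorem exists_A_in_compl (hG : IsMinSimpleOddOrder G) {H E : Subgroup G} (hH : IsCoatom H)
    (hE : IsComplIn E (sigmaCore H) H) {s : ℕ} [hs : Fact s.Prime] (hsτ : s ∈ tau2 H) :
    ∃ A : Subgroup G, A ≤ E ∧ IsElementaryAbelian s A ∧ Nat.card A = s ^ 2 := by
  obtain ⟨A₀, hA₀H, hA₀e, hA₀c⟩ := exists_elementary_sq hsτ.2.2.2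
  have hsolv : Group.IsSolvable ↥H := solvable_of_ne_top hG hH.1
  obtain ⟨k, -, hk⟩ := exists_cj_le_hall hsolv {q | q ∉ sigma H}
    (isPiHallOf_of_isComplIn hG hH hE) hA₀H (by
      intro q hq hd
      rw [hA₀c] at hd
      rw [(Nat.prime_dvd_prime_iff_eq hq hs.out).mp (hq.dvd_of_dvd_pow hd)]
      exact hsτ.2.1)
  exact ⟨cj k A₀, hk, isElementaryAbelian_cj hA₀e k, by rw [card_cj, hA₀c]⟩

namespace Cfg

variable {M K U Mstar R H : Subgroup G} {r : ℕ}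

/-- Step 2, case `r ∈ τ₁(M) ∪ τ₃(M)`: `r ∉ τ₂(H)` -/
theorem r_not_tau2 (f : Cfg M K U Mstar r R H) (hG : IsMinSimpleOddOrder G)
    (hτ : r ∈ tau1 M ∨ r ∈ tau3 M) : r ∉ tau2 H := by
  haveI : Fact r.Prime := ⟨f.hr⟩
  haveI : Fact (Nat.card K).Prime := ⟨f.c.hKp⟩
  intro hrτ
  obtain ⟨E, hE, hRKE⟩ := f.exists_compl hG hrτ.2.1
  have hRE : R ≤ E := le_sup_left.trans hRKE
  have hKE : K ≤ E := le_sup_right.trans hRKE
  have hsolvE : Group.IsSolvable ↥E :=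
    solvable_of_ne_top hG (ne_top_of_le_ne_top f.hH.1 hE.1)
  have hpH : Nat.card K ∣ Nat.card H := Subgroup.card_dvd_of_le (f.hKH hG)
  have hKpg : IsPGroup (Nat.card K) ↥K := f.c.isPGroup_K
  have hr1M : PRankLE r 1 ↥M := by
    rcases hτ with h | h
    · exact h.2.2.2.2
    · exact h.2.2.2
  -- the type of `p` in `H`
  have hp1 : PRankLE (Nat.card K) 1 ↥H := by
    rcases sigma_or_tau hG f.hH hpH with h | h | h | h
    · exact absurd h (f.p_not_sigma hG)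
    · exact h.2.2.2.2
    · -- `p ∈ τ₂(H)`
      exfalso
      obtain ⟨Ap, hApE, hApe, hApc⟩ := exists_A_in_compl hG f.hH hE h
      have h18 := (Cfsg.Agent.S1418.result hG H f.hH E hE _ h Ap ⟨hApE, hApe, hApc⟩).1
      apply f.inf_ne_bot_of_normal hG (h18.2 K hKE rfl) (hRE.trans h18.1)
      have hcop : (Nat.card R).Coprime (Nat.card Ap) := by
        rw [hApc]
        obtain ⟨k, hk⟩ := IsPGroup.iff_card.mp f.hR.2.1
        rw [hk]
        exact Nat.Coprime.pow _ _ ((Nat.coprime_primes f.hr f.c.hKp).mpr (Ne.symm f.r_ne_p))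
      exact (Subgroup.disjoint_of_coprime_natCard hcop).eq_bot
    · -- `p ∈ τ₃(H)`
      exfalso
      obtain ⟨E₃, hE₃, hKE₃⟩ := exists_piHallOf_ge hsolvE (tau3 H) hKE (by
        intro q hq hd
        rw [(Nat.prime_dvd_prime_iff_eq hq f.c.hKp).mp hd]
        exact h)
      have h15 := (Cfsg.Agent.S1415.result hG H f.hH E hE).2.2 E₃ hE₃
      apply f.inf_ne_bot_of_normal hG hKE₃ (hRE.trans h15.2.2)
      by_contra hne
      have hcard : Nat.card ↥(R ⊓ E₃ : Subgroup G) ≠ 1 := fun h0 =>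
        hne (Subgroup.card_eq_one.mp h0)
      obtain ⟨q, hq, hqd⟩ := Nat.exists_prime_and_dvd hcard
      have hqr : q = r := by
        have h1 : q ∣ Nat.card R := hqd.trans (Subgroup.card_dvd_of_le inf_le_left)
        obtain ⟨k, hk⟩ := IsPGroup.iff_card.mp f.hR.2.1
        rw [hk] at h1
        exact (Nat.prime_dvd_prime_iff_eq hq f.hr).mp (hq.dvd_of_dvd_pow h1)
      have h3 : q ∈ tau3 H := hE₃.2.1 q hq (hqd.trans (Subgroup.card_dvd_of_le inf_le_right))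
      rw [hqr] at h3
      exact hrτ.2.2.2 h3.2.2.2
  have hfix := f.fix_K hG hp1
  -- `A = E_{r²}` in `E`
  obtain ⟨A, hAE, hAe, hAc⟩ := exists_A_in_compl hG f.hH hE hrτ
  have h18 := (Cfsg.Agent.S1418.result hG H f.hH E hE r hrτ A ⟨hAE, hAe, hAc⟩).1
  set R₀ : Subgroup G := R ⊓ A with hR₀
  have hKR₀ : K ≤ Subgroup.normalizer (R₀ : Set G) := by
    intro k hk
    rw [Subgroup.mem_normalizer_iff]
    intro x
    have h1 := Subgroup.mem_normalizer_iff.mp (f.hKR hG hk) x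
    have h2 := Subgroup.mem_normalizer_iff.mp (h18.1 (hKE hk)) x
    constructor
    · rintro ⟨hx1, hx2⟩
      exact ⟨h1.mp hx1, h2.mp hx2⟩
    · rintro ⟨hx1, hx2⟩
      exact ⟨h1.mpr hx1, h2.mpr hx2⟩
  have hR₀e : IsElementaryAbelian r R₀ := by
    refine ⟨⟨⟨?_⟩⟩, fun a ha => hAe.2 a ha.2⟩
    rintro ⟨a, ha⟩ ⟨b, hb⟩
    exact Subtype.ext (f.R_comm hG ha.1 hb.1)
  have hR₀le : Nat.card R₀ ≤ r := by
    by_contra hlt
    push Not at hlt
    exact not_pRankLE_of_elementary (inf_le_left.trans (f.hRM hG).1) hR₀e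
      (by rw [pow_one]; exact hlt) hr1M
  have hR₀1 : R₀ ≠ ⊥ := by
    obtain ⟨x, hx⟩ := exists_prime_orderOf_dvd_card' r (dvd_card_of_ne_bot f.hR.2.1 f.hR1)
    have hzc : Nat.card (Subgroup.zpowers (x : G)) = r := by
      rw [Nat.card_zpowers, Subgroup.orderOf_coe, hx]
    have hzA : Subgroup.zpowers (x : G) ≤ A :=
      h18.2 _ (Subgroup.zpowers_le.mpr (hRE x.2)) hzc
    intro h0
    have hx0 : (x : G) ∈ R₀ := ⟨x.2, hzA (Subgroup.mem_zpowers _)⟩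
    rw [h0, Subgroup.mem_bot] at hx0
    rw [hx0, Subgroup.zpowers_one_eq_bot, Subgroup.card_bot] at hzc
    exact f.hr.one_lt.ne hzc
  have hR₀c : Nat.card R₀ = r := by
    have h1 : r ∣ Nat.card R₀ :=
      dvd_card_of_ne_bot (f.hR.2.1.to_le inf_le_left) hR₀1
    exact le_antisymm hR₀le (Nat.le_of_dvd Nat.card_pos h1)
  have hfpf : ∀ k ∈ K, k ≠ 1 → ∀ b ∈ R₀, k * b = b * k → b = 1 :=
    fun k hk hk1 b hb => f.c.fpf hG k hk hk1 b (f.hR.1 hb.1)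
  obtain ⟨X, hXA, hXc, hBX, hBXA, hXK⟩ := exists_fixed_compl hG f.hH hE hrτ hAE hAe hAc hKE
    f.c.hKp f.r_ne_p hfix inf_le_right hR₀c hKR₀ hfpf
  rcases f.c.lemma_Z hG hAe hAc inf_le_right hXA hXc hBXA hR₀c hKR₀ hfpf hXK with h | ⟨h, -⟩
  · -- `r ∈ κ(M*)`
    have h1 : r ∣ Nat.card ↥(sigmaCore M ⊓ Subgroup.centralizer (K : Set G) : Subgroup G) :=
      BG19.dvd_card_hall f.c.hKstH f.hr h h.2.1
    exact sd_not_sigma f.c.hKU hG f.c.hM f.hr f.hrU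
      ((sigmaCore_hall hG f.c.hM).1.2.1 r f.hr (h1.trans (Subgroup.card_dvd_of_le inf_le_left)))
  · -- `A ≤ M*`
    apply hR₀1
    rw [eq_bot_iff, ← f.c.U_inf_Mstar]
    exact le_inf (inf_le_left.trans f.hR.1) (inf_le_right.trans h)

/-- **Step 2**: `r ∈ σ(H)` -/
theorem r_mem_sigma (f : Cfg M K U Mstar r R H) (hG : IsMinSimpleOddOrder G) : r ∈ sigma H := by
  haveI : Fact r.Prime := ⟨f.hr⟩
  rcases f.c.type_cases hG f.hrU with h | h
  · exact f.r_mem_sigma_of_tau2 hG h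
  · rcases (corollary_13_2 hG f.c.hM f.hH h (f.hRM hG).1 f.hR.2.1 f.hR1 f.hNH).2.1 with h1 | h1
    · exact h1
    · exact absurd h1 (f.r_not_tau2 hG h)

end Cfg

end Cfsg.Agent.Lib.Lead.BG148
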