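import Mathlib
import Cfsg.Agent.Lib.Lead.BG14n5
import Cfsg.Agent.Lib.Helper5.BG143b
import Cfsg.Agent.Lib.Helper5.BG147k
import Cfsg.Agent.Lib.Helper2.BG14v1
import Cfsg.Agent.Lib.Lead.FF15
import Cfsg.Agent.Lib.Helper2.Maschke
import Cfsg.Agent.Lib.Helper2.BG12U4
import Cfsg.Agent.Lib.Helper4.FM12
import Cfsg.Agent.S1420
import Cfsg.Agent.S1429
import Cfsg.Agent.Lib.Lead.BG148e
import Cfsg.Agent.Lib.Helper2.BG12v
import Cfsg.Agent.S1432
import Cfsg.Agent.S1415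
import Cfsg.Agent.S1416
import Cfsg.Agent.S1422
import Cfsg.Agent.Lib.Helper3.PrimeOrder
import Cfsg.Agent.S1417
import Cfsg.Agent.S1418
import Cfsg.Agent.Lib.Helper4.BG21a

set_option autoImplicit false
set_option linter.style.haveILetI false
set_option linter.unusedSectionVars false
set_option maxHeartbeats 800000

namespace Cfsg.Agent.Lib.Lead.BG148

open Cfsg Cfsg.Agent.Lib.Lead Cfsg.Agent.Lib.Lead.BG10 Cfsg.Agent.Lib.Helper7 Cfsg.Agent.Lib.Helper4
open Cfsg.Agent.Lib.Helper4.BG76 Cfsg.Agent.Lib.Helper4.BG8 Cfsg.Agent.Lib.Helper4.BG9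
open Cfsg.Agent.Lib.Helper4.BG7 Cfsg.Agent.Lib.Helper4.BG12 Cfsg.Agent.Lib.Helper4.BGConj
open Cfsg.Agent.Lib.Helper4.BG13 Cfsg.Agent.Lib.Lead.BG95 Cfsg.Agent.Lib.Lead.BG12q
open Cfsg.Agent.Lib.Lead.BG11 Cfsg.Agent.Lib.Lead.BG13q Cfsg.Agent.Lib.Helper4.BG18
open Cfsg.Agent.Lib.Helper2.BG12 Cfsg.Agent.Lib.Helper6 Cfsg.Agent.Lib.Helper2.BG13x
open Cfsg.Agent.Lib.Helper2.BG14y Cfsg.Agent.Lib.Helper5.BG139 Cfsg.Agent.Lib.Lead.BG14n
open Cfsg.Agent.Lib.Helper2.BG14z Cfsg.Agent.Lib.Helper5.BG143 Cfsg.Agent.Lib.Helper4.BG14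
open scoped commutatorElement

universe u

variable {G : Type u} [Group G] [Finite G]

/-- normalizers grow in nilpotent subgroups -/
theorem exists_mem_normalizer_not_mem_of_nilpotent {T S : Subgroup G}
    (hlt : T < S) (hS : Group.IsNilpotent ↥S) :
    ∃ n ∈ S, n ∉ T ∧ n ∈ Subgroup.normalizer (T : Set G) := by
  have hnc := Group.normalizerCondition_of_isNilpotent (G := S)
  have h1 : T.subgroupOf S < ⊤ := by
    rw [lt_top_iff_ne_top]
    intro h
    rw [Subgroup.subgroupOf_eq_top] at h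
    exact (not_le_of_gt hlt) h
  have h2 := hnc _ h1
  obtain ⟨n, hn, hnT⟩ := SetLike.exists_of_lt h2
  refine ⟨n, n.2, ?_, ?_⟩
  · intro h
    apply hnT
    rw [Subgroup.mem_subgroupOf]; exact h
  · have key : ∀ (m : S), m ∈ Subgroup.normalizer ((T.subgroupOf S : Subgroup S) : Set S) →
        ∀ x ∈ T, (m : G) * x * (m : G)⁻¹ ∈ T := by
      intro m hm x hx
      have hxS : x ∈ S := hlt.le hx
      have := (Subgroup.mem_normalizer_iff.mp hm ⟨x, hxS⟩).mp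
        (by rw [Subgroup.mem_subgroupOf]; exact hx)
      rw [Subgroup.mem_subgroupOf] at this
      simpa using this
    rw [Subgroup.mem_normalizer_iff]
    intro x
    constructor
    · exact key n hn x
    · intro hx
      have := key n⁻¹ (Subgroup.inv_mem _ hn) _ hx
      simpa [mul_assoc] using this

namespace Ctx

variable {M K U Mstar : Subgroup G}

theorem exists_A_of_tau2 (c : Ctx M K U Mstar) (hG : IsMinSimpleOddOrder G) {s : ℕ}
    [hs : Fact s.Prime] {S : Subgroup G} (hS : SylIn s U S) (hsU : s ∣ Nat.card U)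
    (hτ : s ∈ tau2 M) :
    ∃ A : Subgroup G, A ≤ S ∧ IsElementaryAbelian s A ∧ Nat.card A = s ^ 2 := by
  obtain ⟨A₀, hA₀M, hA₀e, hA₀c⟩ := exists_elementary_sq hτ.2.2.2
  obtain ⟨g, -, hg⟩ := (c.sylIn_M hG hS hsU).exists_conj_le hA₀M (isPGroup_of_elementary hA₀e)
  exact ⟨cj g A₀, hg, isElementaryAbelian_cj hA₀e g, by rw [card_cj, hA₀c]⟩

end Ctx

namespace Cfg

variable {M K U Mstar R H : Subgroup G} {r : ℕ}

theorem R_le_sigmaCore (f : Cfg M K U Mstar r R H) (hG : IsMinSimpleOddOrder G) :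
    R ≤ sigmaCore H := by
  haveI : Fact r.Prime := ⟨f.hr⟩
  exact le_sigmaCore_of_isPGroup hG f.hH (f.r_mem_sigma hG) f.hRH f.hR.2.1

theorem not_conj_H (f : Cfg M K U Mstar r R H) (hG : IsMinSimpleOddOrder G) :
    ∀ g : G, M ≠ cj g H := by
  intro g h
  apply f.not_conj_M hG g⁻¹
  rw [h, cj_inv_cj]

/-- **Step 3**: `M_σ ∩ H = 1` -/
theorem sigmaCore_inf_H (f : Cfg M K U Mstar r R H) (hG : IsMinSimpleOddOrder G) :
    sigmaCore M ⊓ H = ⊥ := by
  haveI : Fact r.Prime := ⟨f.hr⟩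
  rcases f.c.type_cases hG f.hrU with hτ | hτ
  · -- `r ∈ τ₂(M)`
    obtain ⟨A, hAR, hAe, hAc⟩ := f.exists_A_of_tau2 hG hτ
    have h17 := (Cfsg.Agent.S1417.result hG M f.c.hM r hτ A
      ⟨hAR.trans (f.hRM hG).1, hAe, hAc⟩).2.2.2.1
    have h0 : sigmaCore M ⊓ sigmaCore H = ⊥ :=
      sigmaCore_inf_sigmaCore hG f.c.hM f.hH (f.not_conj_H hG) (f.c.nilpotent_sigmaCore hG)
    rw [eq_bot_iff, ← h17]
    intro z hz
    refine Subgroup.mem_inf.mpr ⟨hz.1, ?_⟩
    rw [Subgroup.mem_centralizer_iff]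
    intro a ha
    have haR : a ∈ R := hAR ha
    have h1 : z * a * z⁻¹ * a⁻¹ ∈ sigmaCore M ⊓ sigmaCore H := by
      constructor
      · have := (Subgroup.mem_normalizer_iff.mp
          (le_normalizer_sigmaCore M ((f.hRM hG).1 haR)) z⁻¹).mp (Subgroup.inv_mem _ hz.1)
        have e : z * a * z⁻¹ * a⁻¹ = z * (a * z⁻¹ * a⁻¹) := by group
        rw [e]
        exact Subgroup.mul_mem _ hz.1 this
      · have := (Subgroup.mem_normalizer_iff.mp
          (le_normalizer_sigmaCore H hz.2) a).mp (f.R_le_sigmaCore hG haR)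
        exact Subgroup.mul_mem _ this (Subgroup.inv_mem _ (f.R_le_sigmaCore hG haR))
    rw [h0, Subgroup.mem_bot] at h1
    calc a * z = (z * a * z⁻¹ * a⁻¹)⁻¹ * z * a := by group
      _ = z * a := by rw [h1, inv_one, one_mul]
  · -- `r ∈ τ₁(M) ∪ τ₃(M)`
    have h6 := (corollary_13_2 hG f.c.hM f.hH hτ (f.hRM hG).1 f.hR.2.1 f.hR1 f.hNH).2.2.2.2.2
    rw [h6, eq_bot_iff]
    intro z hz
    rw [Subgroup.mem_bot]
    obtain ⟨x, hx⟩ := exists_prime_orderOf_dvd_card' r (dvd_card_of_ne_bot f.hR.2.1 f.hR1)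
    have hxo : orderOf (x : G) = r := by rw [Subgroup.orderOf_coe, hx]
    exact f.c.fpf_of_tau13 hG f.hrU hτ ((f.hRM hG).1 x.2) hxo hz.1
      (Subgroup.mem_centralizer_iff.mp hz.2 x x.2)

/-- **Step 3**: `M ∩ H = U K` -/
theorem M_inf_H (f : Cfg M K U Mstar r R H) (hG : IsMinSimpleOddOrder G) : M ⊓ H = U ⊔ K := by
  apply le_antisymm _ (le_inf (sup_le f.c.hUM f.c.hKM) (f.hUKH hG))
  intro m hm
  obtain ⟨e, he, s, hs, rfl⟩ := f.c.hcompl.2.2.2 m hm.1
  have hsH : s ∈ H := by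
    have : s = e⁻¹ * (e * s) := by group
    rw [this]
    exact H.mul_mem (H.inv_mem (f.hUKH hG he)) hm.2
  have hs1 : s ∈ sigmaCore M ⊓ H := ⟨hs, hsH⟩
  rw [f.sigmaCore_inf_H hG, Subgroup.mem_bot] at hs1
  rw [hs1, mul_one]
  exact he

end Cfg

namespace Cfg

variable {M K U Mstar R H : Subgroup G} {r : ℕ}

/-- **Step 4**: every prime divisor of `|U|` lies in `σ(H)` -/
theorem mem_sigma_of_dvd (f : Cfg M K U Mstar r R H) (hG : IsMinSimpleOddOrder G) {s : ℕ}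
    (hs : s.Prime) (hsU : s ∣ Nat.card U) : s ∈ sigma H := by
  haveI : Fact r.Prime := ⟨f.hr⟩
  haveI : Fact s.Prime := ⟨hs⟩
  by_contra hsσ
  obtain ⟨S, -, hS⟩ := exists_sylIn_ge (bot_le : (⊥ : Subgroup G) ≤ U) (IsPGroup.of_bot (p := s))
  have hS1 : S ≠ ⊥ := Ctx.R_ne_bot hS hsU
  have hSM : SylIn s M S := f.c.sylIn_M hG hS hsU
  -- `x ∈ R`, `x' ∈ S`
  obtain ⟨⟨x, hx⟩, hx1'⟩ := (Subgroup.ne_bot_iff_exists_ne_one).mp f.hR1
  have hx1 : x ≠ 1 := fun h => hx1' (Subtype.ext h)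
  obtain ⟨x', hx'⟩ := exists_prime_orderOf_dvd_card' s (dvd_card_of_ne_bot hS.2.1 hS1)
  have hx'o : orderOf (x' : G) = s := by rw [Subgroup.orderOf_coe, hx']
  have hx'1 : (x' : G) ≠ 1 := by
    intro h
    rw [h, orderOf_one] at hx'o
    exact hs.one_lt.ne hx'o
  have hx'U : (x' : G) ∈ U := hS.1 x'.2
  have hx'H : (x' : G) ∈ H ⊓ Subgroup.centralizer ({x} : Set G) := by
    refine Subgroup.mem_inf.mpr ⟨f.hUH hG hx'U, ?_⟩
    rw [Subgroup.mem_centralizer_singleton_iff]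
    exact f.c.comm hG hx'U (f.hR.1 hx)
  have hprime : ∀ p : ℕ, p.Prime → p ∣ orderOf (x' : G) → p = s := by
    intro p hp hd
    rw [hx'o] at hd
    exact (Nat.prime_dvd_prime_iff_eq hp hs).mp hd
  rcases Cfsg.Agent.S1432.result hG H f.hH x (f.R_le_sigmaCore hG hx) hx1 (x' : G) hx'H hx'1
    (fun p hp hd => by rw [hprime p hp hd]; exact hsσ) with h | h
  · have := h.1 s hs (hx'o ▸ dvd_rfl)
    rw [f.kappa_empty hG] at this
    exact this
  obtain ⟨hτ, -, hCH, huniq⟩ := h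
  have hsτ : s ∈ tau2 H := hτ s hs (hx'o ▸ dvd_rfl)
  rcases f.c.type_cases hG hsU with hτM | hτM
  · -- `s ∈ τ₂(M)`
    obtain ⟨A, hAS, hAe, hAc⟩ := f.c.exists_A_of_tau2 hG hS hsU hτM
    have hAU : A ≤ U := hAS.trans hS.1
    have h17 := (Cfsg.Agent.S1417.result hG H f.hH s hsτ A
      ⟨hAU.trans (f.hUH hG), hAe, hAc⟩).2.2.2.1
    apply hx1
    have : x ∈ sigmaCore H ⊓ Subgroup.centralizer (A : Set G) := by
      refine Subgroup.mem_inf.mpr ⟨f.R_le_sigmaCore hG hx, ?_⟩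
      rw [Subgroup.mem_centralizer_iff]
      intro a ha
      exact f.c.comm hG (hAU ha) (f.hR.1 hx)
    rw [h17, Subgroup.mem_bot] at this
    exact this
  · -- `s ∈ τ₁(M) ∪ τ₃(M)`
    have hr1M : PRankLE s 1 ↥M := by
      rcases hτM with h | h
      · exact h.2.2.2.2
      · exact h.2.2.2
    have hScyc : IsCyclic ↥S := Cfsg.Agent.Lib.Helper2.BG12.isCyclic_of_sylIn_rank_one hG hSM hr1M
    set X' : Subgroup G := Subgroup.zpowers (x' : G) with hX'
    have hX'c : Nat.card X' = s := by rw [Nat.card_zpowers, hx'o]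
    have hX'S : X' ≤ S := Subgroup.zpowers_le.mpr x'.2
    have hNN : Subgroup.normalizer (S : Set G) ≤ Subgroup.normalizer (X' : Set G) := by
      intro g hg
      have h1 : cj g S = S := mem_normalizer_iff_cj.mp hg
      have h2 : cj g X' ≤ S := by rw [← h1]; exact cj_mono g hX'S
      have h3 : cj g X' = X' :=
        eq_of_card_eq_of_le_cyclic hScyc h2 hX'S (by rw [card_cj])
      exact mem_normalizer_iff_cj.mpr h3
    have hX'p : IsPGroup s ↥X' := IsPGroup.of_card (n := 1) (by rw [hX'c, pow_one])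
    have hX'1 : X' ≠ ⊥ := by
      intro h0
      rw [h0, Subgroup.card_bot] at hX'c
      exact hs.one_lt.ne hX'c
    obtain ⟨L, hL, hNL⟩ := exists_coatom_ge
      (normalizer_ne_top hG hX'1 (isPGroup_ne_top hG hX'p))
    have hCL : Subgroup.centralizer ({(x' : G)} : Set G) ≤ L := by
      rw [← centralizer_zpowers]
      exact (Subgroup.centralizer_le_normalizer _).trans hNL
    have hLH : L = H := huniq L hL hCL
    have f' : Cfg M K U Mstar s S H :=
      ⟨f.c, hs, hsU, hS, f.hH, hNN.trans (hLH ▸ hNL)⟩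
    exact hsσ (f'.r_mem_sigma hG)

/-- **Step 4**: `U ≤ H_σ` -/
theorem U_le_sigmaCore (f : Cfg M K U Mstar r R H) (hG : IsMinSimpleOddOrder G) :
    U ≤ sigmaCore H :=
  le_sigmaCore_of_piNum hG f.hH (f.hUH hG) (fun _ hs hd => f.mem_sigma_of_dvd hG hs hd)

/-- `K ∩ H_σ = 1` -/
theorem K_inf_sigmaCore (f : Cfg M K U Mstar r R H) (hG : IsMinSimpleOddOrder G) :
    K ⊓ sigmaCore H = ⊥ := by
  apply (Subgroup.disjoint_of_coprime_natCard _).eq_bot
  apply coprime_card_sigmaCore_of_primes hG f.hH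
  intro q hq hd
  rw [(Nat.prime_dvd_prime_iff_eq hq f.c.hKp).mp hd]
  exact f.p_not_sigma hG

/-- `M ∩ H_σ = U` -/
theorem M_inf_sigmaCore (f : Cfg M K U Mstar r R H) (hG : IsMinSimpleOddOrder G) :
    M ⊓ sigmaCore H = U := by
  apply le_antisymm _ (le_inf f.c.hUM (f.U_le_sigmaCore hG))
  intro z hz
  have hzMH : z ∈ M ⊓ H := ⟨hz.1, sigmaCore_le H hz.2⟩
  rw [f.M_inf_H hG] at hzMH
  obtain ⟨u, hu, k, hk, rfl⟩ :=
    Cfsg.Agent.Lib.Helper4.BG7.exists_mul_of_mem_sup f.c.hKU.normal hzMH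
  have hk' : k ∈ K ⊓ sigmaCore H := by
    refine ⟨hk, ?_⟩
    have : k = u⁻¹ * (u * k) := by group
    rw [this]
    exact Subgroup.mul_mem _ (Subgroup.inv_mem _ (f.U_le_sigmaCore hG hu)) hz.2
  rw [f.K_inf_sigmaCore hG, Subgroup.mem_bot] at hk'
  rw [hk', mul_one]
  exact hu

/-- `K` acts without fixed points on `H_σ` when `H` has `p`-rank one -/
theorem fpf_sigmaCore (f : Cfg M K U Mstar r R H) (hG : IsMinSimpleOddOrder G)
    (hr1 : PRankLE (Nat.card K) 1 ↥H) :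
    ∀ e ∈ K, e ≠ 1 → ∀ u ∈ sigmaCore H, e * u = u * e → u = 1 := by
  intro e he he1 u hu heu
  have hz : Subgroup.zpowers e = K :=
    Cfsg.Agent.Lib.Helper3.zpowers_eq_of_card_prime f.c.hKp K rfl he he1
  have h1 : u ∈ sigmaCore H ⊓ Subgroup.centralizer (K : Set G) := by
    refine Subgroup.mem_inf.mpr ⟨hu, ?_⟩
    rw [← hz, centralizer_zpowers, Subgroup.mem_centralizer_singleton_iff]
    exact heu.symm
  rw [f.fix_K hG hr1, Subgroup.mem_bot] at h1
  exact h1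

/-- `H_σ` is nilpotent -/
theorem nilpotent_sigmaCore (f : Cfg M K U Mstar r R H) (hG : IsMinSimpleOddOrder G) :
    Group.IsNilpotent ↥(sigmaCore H) := by
  haveI : Fact (Nat.card K).Prime := ⟨f.c.hKp⟩
  have hpH : Nat.card K ∣ Nat.card H := Subgroup.card_dvd_of_le (f.hKH hG)
  have key : PRankLE (Nat.card K) 1 ↥H → Group.IsNilpotent ↥(sigmaCore H) := by
    intro hr1
    exact Cfsg.Agent.Lib.Helper4.FM.nilpotent_of_fpf_action (sigmaCore H) K f.c.hK1
      (fun e he u hu => (Subgroup.mem_normalizer_iff.mp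
        (le_normalizer_sigmaCore H (f.hKH hG he)) u).mp hu) (f.fpf_sigmaCore hG hr1)
  rcases sigma_or_tau hG f.hH hpH with h | h | h | h
  · exact absurd h (f.p_not_sigma hG)
  · exact key h.2.2.2.2
  · obtain ⟨A, hAH, hAe, hAc⟩ := exists_elementary_sq h.2.2.2
    exact (Cfsg.Agent.S1417.result hG H f.hH _ h A ⟨hAH, hAe, hAc⟩).1
  · exact key h.2.2.2

/-- **Step 5**: `N_H(U) ≰ M` -/
theorem normalizer_not_le (f : Cfg M K U Mstar r R H) (hG : IsMinSimpleOddOrder G) :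
    ¬ H ⊓ Subgroup.normalizer (U : Set G) ≤ M := by
  intro hle
  by_cases hU : U = sigmaCore H
  · have h1 : H ≤ H ⊓ Subgroup.normalizer (U : Set G) := by
      rw [hU]
      exact le_inf le_rfl (le_normalizer_sigmaCore H)
    have h2 : H = M := (f.hH.le_iff_eq f.c.hM.1 |>.mp (h1.trans hle)).symm
    apply f.not_conj_M hG 1
    rw [cj_one]
    exact h2
  · have hlt : U < sigmaCore H := lt_of_le_of_ne (f.U_le_sigmaCore hG) hU
    obtain ⟨n, hn, hnU, hnN⟩ :=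
      exists_mem_normalizer_not_mem_of_nilpotent hlt (f.nilpotent_sigmaCore hG)
    apply hnU
    rw [← f.M_inf_sigmaCore hG]
    exact ⟨hle ⟨sigmaCore_le H hn, hnN⟩, hn⟩

end Cfg

end Cfsg.Agent.Lib.Lead.BG148
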