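import Mathlib
import Cfsg.Agent.Lib.Lead.BG14n5
import Cfsg.Agent.Lib.Helper5.BG143b
import Cfsg.Agent.Lib.Helper5.BG147k
import Cfsg.Agent.Lib.Helper2.BG14v1
import Cfsg.Agent.Lib.Lead.FF15
import Cfsg.Agent.Lib.Helper2.Maschke
import Cfsg.Agent.Lib.Helper2.BG12U4
import Cfsg.Agent.Lib.Helper4.FM12
import Cfsg.Agent.S1420
import Cfsg.Agent.S1429
import Cfsg.Agent.Lib.Lead.BG148f
import Cfsg.Agent.Lib.Helper2.BG15a4
import Cfsg.Agent.Lib.Lead.Coprime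
import Cfsg.Agent.S1426
import Cfsg.Agent.Lib.Helper2.BG12v
import Cfsg.Agent.S1432
import Cfsg.Agent.S1415
import Cfsg.Agent.S1416
import Cfsg.Agent.S1422
import Cfsg.Agent.Lib.Helper3.PrimeOrder
import Cfsg.Agent.S1417
import Cfsg.Agent.S1418
import Cfsg.Agent.Lib.Helper4.BG21a

set_option autoImplicit false
set_option linter.style.haveILetI false
set_option linter.unusedSectionVars false
set_option maxHeartbeats 800000

namespace Cfsg.Agent.Lib.Lead.BG148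

open Cfsg Cfsg.Agent.Lib.Lead Cfsg.Agent.Lib.Lead.BG10 Cfsg.Agent.Lib.Helper7 Cfsg.Agent.Lib.Helper4
open Cfsg.Agent.Lib.Helper4.BG76 Cfsg.Agent.Lib.Helper4.BG8 Cfsg.Agent.Lib.Helper4.BG9
open Cfsg.Agent.Lib.Helper4.BG7 Cfsg.Agent.Lib.Helper4.BG12 Cfsg.Agent.Lib.Helper4.BGConj
open Cfsg.Agent.Lib.Helper4.BG13 Cfsg.Agent.Lib.Lead.BG95 Cfsg.Agent.Lib.Lead.BG12q
open Cfsg.Agent.Lib.Lead.BG11 Cfsg.Agent.Lib.Lead.BG13q Cfsg.Agent.Lib.Helper4.BG18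
open Cfsg.Agent.Lib.Helper2.BG12 Cfsg.Agent.Lib.Helper6 Cfsg.Agent.Lib.Helper2.BG13x
open Cfsg.Agent.Lib.Helper2.BG14y Cfsg.Agent.Lib.Helper5.BG139 Cfsg.Agent.Lib.Lead.BG14n
open Cfsg.Agent.Lib.Helper2.BG14z Cfsg.Agent.Lib.Helper5.BG143 Cfsg.Agent.Lib.Helper4.BG14
open scoped commutatorElement

universe u

variable {G : Type u} [Group G] [Finite G]

namespace Cfg

variable {M K U Mstar R H : Subgroup G} {r : ℕ}

theorem exists_compl_K (f : Cfg M K U Mstar r R H) (hG : IsMinSimpleOddOrder G) :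
    ∃ E : Subgroup G, IsComplIn E (sigmaCore H) H ∧ K ≤ E :=
  exists_complIn_ge hG f.hH (f.hKH hG) (coprime_card_sigmaCore_of_primes hG f.hH
    (fun q hq hd => by
      rw [(Nat.prime_dvd_prime_iff_eq hq f.c.hKp).mp hd]
      exact f.p_not_sigma hG))

theorem Ms_ne_H (f : Cfg M K U Mstar r R H) (hG : IsMinSimpleOddOrder G) : Mstar ≠ H := by
  intro h
  apply f.not_conj_Ms hG 1
  rw [cj_one]
  exact h.symm

/-- the final assembly of Step 6 -/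
theorem step6_of (f : Cfg M K U Mstar r R H) {E : Subgroup G}
    (hE : IsComplIn E (sigmaCore H) H) (hEMs : E ≤ Mstar)
    (hfix : sigmaCore H ⊓ Mstar = ⊥) (hKF : K ≤ fittingOf E) :
    K ≤ fittingOf (H ⊓ Mstar) ∧ IsComplIn (H ⊓ Mstar) (sigmaCore H) H := by
  have h1 : H ⊓ Mstar = E := by
    apply le_antisymm _ (le_inf hE.1 hEMs)
    intro m hm
    obtain ⟨e, he, s, hs, rfl⟩ := hE.2.2.2 m hm.1
    have hsMs : s ∈ Mstar := by
      have : s = e⁻¹ * (e * s) := by group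
      rw [this]
      exact Mstar.mul_mem (Mstar.inv_mem (hEMs he)) hm.2
    have hs1 : s ∈ sigmaCore H ⊓ Mstar := ⟨hs, hsMs⟩
    rw [hfix, Subgroup.mem_bot] at hs1
    rw [hs1, mul_one]
    exact he
  rw [h1]
  exact ⟨hKF, hE⟩

/-- Step 6 when `E ≤ N_G(K)` and `H` has `p`-rank one -/
theorem step6_of_normal (f : Cfg M K U Mstar r R H) (hG : IsMinSimpleOddOrder G)
    (hpτ : Nat.card K ∈ tau1 H ∨ Nat.card K ∈ tau3 H) {E : Subgroup G}
    (hE : IsComplIn E (sigmaCore H) H) (hKE : K ≤ E)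
    (hEK : E ≤ Subgroup.normalizer (K : Set G)) :
    K ≤ fittingOf (H ⊓ Mstar) ∧ IsComplIn (H ⊓ Mstar) (sigmaCore H) H := by
  haveI : Fact (Nat.card K).Prime := ⟨f.c.hKp⟩
  have hr1 : PRankLE (Nat.card K) 1 ↥H := by
    rcases hpτ with h | h
    · exact h.2.2.2.2
    · exact h.2.2.2
  apply f.step6_of hE (hEK.trans (f.c.hNK hG))
  · have h6 := (corollary_13_2 hG f.hH f.c.hMs hpτ (f.hKH hG) f.c.isPGroup_K f.c.hK1
      (f.c.hNK hG)).2.2.2.2.2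
    rw [h6]
    exact f.fix_K hG hr1
  · exact le_fittingOf hKE hEK f.c.isPGroup_K.isNilpotent

/-- Step 6, case `p ∈ τ₂(H)` -/
theorem step6_tau2 (f : Cfg M K U Mstar r R H) (hG : IsMinSimpleOddOrder G)
    (hpτ : Nat.card K ∈ tau2 H) :
    K ≤ fittingOf (H ⊓ Mstar) ∧ IsComplIn (H ⊓ Mstar) (sigmaCore H) H := by
  haveI : Fact (Nat.card K).Prime := ⟨f.c.hKp⟩
  obtain ⟨E, hE, hKE⟩ := f.exists_compl_K hG
  obtain ⟨Ap, hApE, hApe, hApc⟩ := exists_A_in_compl hG f.hH hE hpτ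
  have h18 := (Cfsg.Agent.S1418.result hG H f.hH E hE _ hpτ Ap ⟨hApE, hApe, hApc⟩).1
  have hKAp : K ≤ Ap := h18.2 K hKE rfl
  have hApMs : Ap ≤ Mstar := by
    refine le_trans ?_ (f.c.hCK hG).1
    intro a ha
    rw [Subgroup.mem_centralizer_iff]
    intro k hk
    haveI := hApe.1
    have := mul_comm' (⟨k, hKAp hk⟩ : Ap) ⟨a, ha⟩
    exact congrArg Subtype.val this
  obtain ⟨Es, hEs, -⟩ := exists_complIn_ge hG f.c.hMs (A := ⊥) bot_le (by simp)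
  have hApp : IsPGroup (Nat.card K) ↥Ap := isPGroup_of_elementary hApe
  have hnc : ¬ IsCyclic ↥Ap := by
    apply not_isCyclic_of_elementary hApe
    rw [hApc]
    calc Nat.card K = Nat.card K ^ 1 := (pow_one _).symm
      _ < Nat.card K ^ 2 := Nat.pow_lt_pow_right f.c.hKp.one_lt (by norm_num)
  have hNAp : Subgroup.normalizer (Ap : Set G) ≤ Mstar :=
    (Cfsg.Agent.S1420.result hG Mstar f.c.hMs Es hEs).2.2.1 _ Ap (f.c.card_K_mem_sigma hG) hApp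
      hApMs hnc
  apply f.step6_of hE (h18.1.trans hNAp)
  · exact (Cfsg.Agent.S1417.result hG H f.hH _ hpτ Ap ⟨hApE.trans hE.1, hApe, hApc⟩).2.2.2.2.1
      Mstar f.c.hMs (f.Ms_ne_H hG) hApMs
  · exact hKAp.trans (le_fittingOf hApE h18.1 hApp.isNilpotent)

/-- Step 6, case `p ∈ τ₃(H)` -/
theorem step6_tau3 (f : Cfg M K U Mstar r R H) (hG : IsMinSimpleOddOrder G)
    (hpτ : Nat.card K ∈ tau3 H) :
    K ≤ fittingOf (H ⊓ Mstar) ∧ IsComplIn (H ⊓ Mstar) (sigmaCore H) H := by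
  obtain ⟨E, hE, hKE⟩ := f.exists_compl_K hG
  have hsolvE : Group.IsSolvable ↥E :=
    solvable_of_ne_top hG (ne_top_of_le_ne_top f.hH.1 hE.1)
  obtain ⟨E₃, hE₃, hKE₃⟩ := exists_piHallOf_ge hsolvE (tau3 H) hKE (by
    intro q hq hd
    rw [(Nat.prime_dvd_prime_iff_eq hq f.c.hKp).mp hd]
    exact hpτ)
  have h15 := (Cfsg.Agent.S1415.result hG H f.hH E hE).2.2 E₃ hE₃
  apply f.step6_of_normal hG (Or.inr hpτ) hE hKE
  intro e he
  have h1 : cj e E₃ = E₃ := mem_normalizer_iff_cj.mp (h15.2.2 he)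
  have h2 : cj e K ≤ E₃ := by rw [← h1]; exact cj_mono e hKE₃
  exact mem_normalizer_iff_cj.mpr
    (eq_of_card_eq_of_le_cyclic h15.1 h2 hKE₃ (by rw [card_cj]))

end Cfg

end Cfsg.Agent.Lib.Lead.BG148
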