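import Mathlib
import Cfsg.Agent.Lib.Lead.BG14n5
import Cfsg.Agent.Lib.Helper5.BG143b
import Cfsg.Agent.Lib.Helper5.BG147k
import Cfsg.Agent.Lib.Helper2.BG14v1
import Cfsg.Agent.Lib.Lead.FF15
import Cfsg.Agent.Lib.Helper2.Maschke
import Cfsg.Agent.Lib.Helper2.BG12U4
import Cfsg.Agent.Lib.Helper4.FM12
import Cfsg.Agent.S1420
import Cfsg.Agent.S1429
import Cfsg.Agent.Lib.Lead.BG148g
import Cfsg.Agent.Lib.Helper2.BG15a4
import Cfsg.Agent.Lib.Lead.Coprime
import Cfsg.Agent.S1426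
import Cfsg.Agent.Lib.Helper2.BG12v
import Cfsg.Agent.S1432
import Cfsg.Agent.S1415
import Cfsg.Agent.S1416
import Cfsg.Agent.S1422
import Cfsg.Agent.Lib.Helper3.PrimeOrder
import Cfsg.Agent.S1417
import Cfsg.Agent.S1418
import Cfsg.Agent.Lib.Helper4.BG21a

set_option autoImplicit false
set_option linter.style.haveILetI false
set_option linter.unusedSectionVars false
set_option maxHeartbeats 800000

namespace Cfsg.Agent.Lib.Lead.BG148

open Cfsg Cfsg.Agent.Lib.Lead Cfsg.Agent.Lib.Lead.BG10 Cfsg.Agent.Lib.Helper7 Cfsg.Agent.Lib.Helper4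
open Cfsg.Agent.Lib.Helper4.BG76 Cfsg.Agent.Lib.Helper4.BG8 Cfsg.Agent.Lib.Helper4.BG9
open Cfsg.Agent.Lib.Helper4.BG7 Cfsg.Agent.Lib.Helper4.BG12 Cfsg.Agent.Lib.Helper4.BGConj
open Cfsg.Agent.Lib.Helper4.BG13 Cfsg.Agent.Lib.Lead.BG95 Cfsg.Agent.Lib.Lead.BG12q
open Cfsg.Agent.Lib.Lead.BG11 Cfsg.Agent.Lib.Lead.BG13q Cfsg.Agent.Lib.Helper4.BG18
open Cfsg.Agent.Lib.Helper2.BG12 Cfsg.Agent.Lib.Helper6 Cfsg.Agent.Lib.Helper2.BG13x
open Cfsg.Agent.Lib.Helper2.BG14y Cfsg.Agent.Lib.Helper5.BG139 Cfsg.Agent.Lib.Lead.BG14n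
open Cfsg.Agent.Lib.Helper2.BG14z Cfsg.Agent.Lib.Helper5.BG143 Cfsg.Agent.Lib.Helper4.BG14
open scoped commutatorElement

universe u

variable {G : Type u} [Group G] [Finite G]

namespace Ctx

variable {M K U Mstar : Subgroup G}

/-- `𝓜(C_G(X)) = {M}` for `X ≤ K*` of prime order -/
theorem hCKs (c : Ctx M K U Mstar) (hG : IsMinSimpleOddOrder G) {X : Subgroup G}
    (hX : X ≤ sigmaCore M ⊓ Subgroup.centralizer (K : Set G)) (hXp : (Nat.card X).Prime) :
    Subgroup.centralizer (X : Set G) ≤ M :=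
  ((Cfsg.Agent.Lib.Helper2.BG14v.s1367_of_kdata hG (tkdata hG) c.hM c.hKU c.hK1 c.hMs c.hKst
    c.hKstH).1 X hX hXp).1

end Ctx

namespace Cfg

variable {M K U Mstar R H : Subgroup G} {r : ℕ}

/-- the final contradiction in Step 6, case `p ∈ τ₁(H)` -/
theorem false_of_B (f : Cfg M K U Mstar r R H) (hG : IsMinSimpleOddOrder G) {s : ℕ}
    [hs : Fact s.Prime] (hsτ : s ∈ tau2 H) {A B X : Subgroup G}
    (hA : IsElementaryAbelian s A) (hAc : Nat.card A = s ^ 2)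
    (hBA : B ≤ A) (hB : Nat.card B = s) (hKB : K ≤ Subgroup.normalizer (B : Set G))
    (hfpf : ∀ k ∈ K, k ≠ 1 → ∀ b ∈ B, k * b = b * k → b = 1)
    (hcentr : sigmaCore H ≤ Subgroup.centralizer (B : Set G))
    (hCb : ∀ b ∈ B, b ≠ 1 → Subgroup.centralizer ({b} : Set G) ≤ H)
    (hXA : X ≤ A) (hXc : Nat.card X = s) (hBXA : B ⊔ X = A)
    (hXK : X ≤ Subgroup.centralizer (K : Set G))
    (hfixMs : sigmaCore H ⊓ Mstar = ⊥) : False := by
  have hB1 : B ≠ ⊥ := by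
    intro h
    rw [h, Subgroup.card_bot] at hB
    exact hs.out.one_lt.ne hB
  obtain ⟨⟨b₀, hb₀⟩, hb₀1'⟩ := (Subgroup.ne_bot_iff_exists_ne_one).mp hB1
  have hb₀1 : b₀ ≠ 1 := fun h => hb₀1' (Subtype.ext h)
  have hBz : Subgroup.zpowers b₀ = B :=
    Cfsg.Agent.Lib.Helper3.zpowers_eq_of_card_prime hs.out B hB hb₀ hb₀1
  obtain ⟨⟨k₀, hk₀⟩, hk₀1'⟩ := (Subgroup.ne_bot_iff_exists_ne_one).mp f.c.hK1
  have hk₀1 : k₀ ≠ 1 := fun h => hk₀1' (Subtype.ext h)
  have hcommA : ∀ a ∈ A, ∀ b ∈ A, a * b = b * a := by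
    intro a ha b hb
    haveI := hA.1
    have := mul_comm' (⟨a, ha⟩ : A) ⟨b, hb⟩
    exact congrArg Subtype.val this
  have hBp : IsPGroup s ↥B := IsPGroup.of_card (n := 1) (by rw [hB, pow_one])
  -- `K` does not centralize `B`
  have hnc : ∀ N : Subgroup G, B ≤ N → K ≤ N →
      (∀ b ∈ B, ∀ k ∈ K, b * k * b⁻¹ * k⁻¹ ∈ B → b * k * b⁻¹ * k⁻¹ = 1) → False := by
    intro N _ _ h
    apply hb₀1
    apply hfpf k₀ hk₀ hk₀1 b₀ hb₀
    have h1 : b₀ * k₀ * b₀⁻¹ * k₀⁻¹ ∈ B := by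
      have := (Subgroup.mem_normalizer_iff.mp (hKB hk₀) b₀⁻¹).mp (B.inv_mem hb₀)
      have e : b₀ * k₀ * b₀⁻¹ * k₀⁻¹ = b₀ * (k₀ * b₀⁻¹ * k₀⁻¹) := by group
      rw [e]
      exact B.mul_mem hb₀ this
    have h2 := h b₀ hb₀ k₀ hk₀ h1
    calc k₀ * b₀ = (b₀ * k₀ * b₀⁻¹ * k₀⁻¹)⁻¹ * b₀ * k₀ := by group
      _ = b₀ * k₀ := by rw [h2, inv_one, one_mul]
  rcases f.c.lemma_Z hG hA hAc hBA hXA hXc hBXA hB hKB hfpf hXK with hκ | ⟨hAMs, hτ2 | hσ⟩
  · -- (b) `s ∈ κ(M*)`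
    have hXMs : X ≤ Mstar := hXK.trans (f.c.hCK hG).1
    have hsolv : Group.IsSolvable ↥Mstar := solvable_of_ne_top hG f.c.hMs.1
    obtain ⟨m, -, hm⟩ := exists_cj_le_hall hsolv (kappa Mstar) f.c.hKstH hXMs (by
      intro q hq hd
      rw [hXc] at hd
      rw [(Nat.prime_dvd_prime_iff_eq hq hs.out).mp hd]
      exact hκ)
    have hCX := f.c.hCKs hG hm (by rw [card_cj, hXc]; exact hs.out)
    -- `b' = m b₀ m⁻¹ ∈ M_σ`
    have hb' : m * b₀ * m⁻¹ ∈ M := by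
      apply hCX
      rw [Subgroup.mem_centralizer_iff]
      rintro _ ⟨x, hx, rfl⟩
      have e := hcommA x (hXA hx) b₀ (hBA hb₀)
      simp only [MulEquiv.toMonoidHom_eq_coe, MonoidHom.coe_coe, MulAut.conj_apply]
      calc m * x * m⁻¹ * (m * b₀ * m⁻¹) = m * (x * b₀) * m⁻¹ := by group
        _ = m * (b₀ * x) * m⁻¹ := by rw [e]
        _ = m * b₀ * m⁻¹ * (m * x * m⁻¹) := by group
    have hsKs : s ∣ Nat.card ↥(sigmaCore M ⊓ Subgroup.centralizer (K : Set G) : Subgroup G) :=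
      BG19.dvd_card_hall f.c.hKstH hs.out hκ hκ.2.1
    have hsMσ : s ∣ Nat.card (sigmaCore M) := hsKs.trans (Subgroup.card_dvd_of_le inf_le_left)
    have hsσM : s ∈ sigma M := (sigmaCore_hall hG f.c.hM).1.2.1 s hs.out hsMσ
    have hb'σ : m * b₀ * m⁻¹ ∈ sigmaCore M := by
      have h1 : cj m B ≤ sigmaCore M := by
        apply le_sigmaCore_of_isPGroup hG f.c.hM hsσM _ (isPGroup_cj m hBp)
        rw [← hBz]
        rintro _ ⟨y, hy, rfl⟩
        obtain ⟨i, rfl⟩ := Subgroup.mem_zpowers_iff.mp hy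
        simp only [MulEquiv.toMonoidHom_eq_coe, MonoidHom.coe_coe, MulAut.conj_apply]
        rw [← conj_zpow]
        exact M.zpow_mem hb' i
      apply h1
      exact ⟨b₀, hb₀, by simp [MulAut.conj_apply]⟩
    obtain ⟨V, -, hVe, hVc, -, hVb, -⟩ := Cfsg.Agent.Lib.Helper2.BG15a.exists_rank3 hG f.c.hM
      f.c.hKU f.c.hK1 f.c.hU1 hs.out hsMσ
    have hV'H : cj m⁻¹ V ≤ H := by
      refine le_trans ?_ (hCb b₀ hb₀ hb₀1)
      rintro _ ⟨v, hv, rfl⟩
      rw [Subgroup.mem_centralizer_singleton_iff]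
      have e := Subgroup.mem_centralizer_singleton_iff.mp (hVb _ hb'σ hv)
      simp only [MulEquiv.toMonoidHom_eq_coe, MonoidHom.coe_coe, MulAut.conj_apply, inv_inv]
      calc m⁻¹ * v * m * b₀ = m⁻¹ * (v * (m * b₀ * m⁻¹)) * m := by group
        _ = m⁻¹ * ((m * b₀ * m⁻¹) * v) * m := by rw [e]
        _ = b₀ * (m⁻¹ * v * m) := by group
    apply not_pRankLE_of_elementary hV'H (isElementaryAbelian_cj hVe m⁻¹) _ hsτ.2.2.1
    rw [card_cj]
    have h3 : s ^ 3 ≤ Nat.card V := Nat.le_of_dvd Nat.card_pos hVc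
    have h4 : s ^ 2 < s ^ 3 := Nat.pow_lt_pow_right hs.out.one_lt (by norm_num)
    omega
  · -- (a) `A ≤ M*`, `s ∈ τ₂(M*)`
    apply hnc Mstar (hBA.trans hAMs) f.c.hKMs
    intro b hb k hk hbk
    have h1 : b * k * b⁻¹ * k⁻¹ ∈ sigmaCore Mstar := by
      have := (Subgroup.mem_normalizer_iff.mp
        (le_normalizer_sigmaCore Mstar (hAMs (hBA hb))) k).mp (f.c.hKσ hk)
      exact Subgroup.mul_mem _ this (Subgroup.inv_mem _ (f.c.hKσ hk))
    have h2 : B ⊓ sigmaCore Mstar = ⊥ := by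
      apply (Subgroup.disjoint_of_coprime_natCard _).eq_bot
      apply coprime_card_sigmaCore_of_primes hG f.c.hMs
      intro q hq hd
      rw [hB] at hd
      rw [(Nat.prime_dvd_prime_iff_eq hq hs.out).mp hd]
      exact hτ2.2.1
    have h3 : b * k * b⁻¹ * k⁻¹ ∈ B ⊓ sigmaCore Mstar := ⟨hbk, h1⟩
    rw [h2, Subgroup.mem_bot] at h3
    exact h3
  · -- (c) `A ≤ M*`, `s ∈ σ(M*)`
    have hBσ : B ≤ sigmaCore Mstar :=
      le_sigmaCore_of_isPGroup hG f.c.hMs hσ (hBA.trans hAMs) hBp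
    obtain ⟨Es, hEs, -⟩ := exists_complIn_ge hG f.c.hMs (A := ⊥) bot_le (by simp)
    obtain ⟨⟨g, hg⟩, hg1'⟩ := (Subgroup.ne_bot_iff_exists_ne_one).mp
      (Cfsg.Agent.Lib.Helper2.BG11.sigmaCore_ne_bot hG f.hH)
    have hg1 : g ≠ 1 := fun h => hg1' (Subtype.ext h)
    have hgMs : g ∉ Mstar := by
      intro h
      have : g ∈ sigmaCore H ⊓ Mstar := ⟨hg, h⟩
      rw [hfixMs, Subgroup.mem_bot] at this
      exact hg1 this
    have h26 := ((Cfsg.Agent.S1426.result hG Mstar f.c.hMs Es hEs).2.2 g hgMs).2.2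
    apply hnc Mstar (hBA.trans hAMs) f.c.hKMs
    intro b hb k hk hbk
    have h1 : b * k * b⁻¹ * k⁻¹ ∈ ⁅sigmaCore Mstar, sigmaCore Mstar⁆ :=
      Subgroup.commutator_mem_commutator (hBσ hb) (f.c.hKσ hk)
    have h2 : b * k * b⁻¹ * k⁻¹ ∈ cj g Mstar := by
      refine ⟨b * k * b⁻¹ * k⁻¹, hAMs (hBA hbk), ?_⟩
      simp only [MulEquiv.toMonoidHom_eq_coe, MonoidHom.coe_coe, MulAut.conj_apply]
      have e := Subgroup.mem_centralizer_iff.mp (hcentr hg) _ hbk
      rw [← e, mul_inv_cancel_right]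
    have h3 : b * k * b⁻¹ * k⁻¹ ∈ sigmaCore Mstar ⊓ cj g Mstar ⊓
        ⁅sigmaCore Mstar, sigmaCore Mstar⁆ := ⟨⟨hBσ hbk, h2⟩, h1⟩
    rw [h26, Subgroup.mem_bot] at h3
    exact h3

end Cfg

namespace Cfg

variable {M K U Mstar R H : Subgroup G} {r : ℕ}

/-- Step 6, case `p ∈ τ₁(H)`: `K` is normal in the complement `E ⊇ K` -/
theorem normal_of_tau1 (f : Cfg M K U Mstar r R H) (hG : IsMinSimpleOddOrder G)
    (hpτ : Nat.card K ∈ tau1 H) {E : Subgroup G} (hE : IsComplIn E (sigmaCore H) H)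
    (hKE : K ≤ E) : E ≤ Subgroup.normalizer (K : Set G) := by
  haveI : Fact (Nat.card K).Prime := ⟨f.c.hKp⟩
  have hr1 : PRankLE (Nat.card K) 1 ↥H := hpτ.2.2.2.2
  set D : Subgroup G := ⁅E, E⁆ with hD
  have hDab : IsMulCommutative ↥D := (Cfsg.Agent.S1420.result hG H f.hH E hE).2.1
  have hDE : D ≤ E := Subgroup.commutator_le_self E
  have hEnD : E ≤ Subgroup.normalizer (D : Set G) := by
    intro e he
    apply mem_normalizer_iff_cj.mpr
    have h1 : cj e E = E := Cfsg.Agent.Lib.Lead.BG14n.cj_eq_self_of_mem he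
    show Subgroup.map _ ⁅E, E⁆ = ⁅E, E⁆
    rw [Subgroup.map_commutator]
    show ⁅cj e E, cj e E⁆ = ⁅E, E⁆
    rw [h1]
  have hKnD : K ≤ Subgroup.normalizer (D : Set G) := hKE.trans hEnD
  have hpD : ¬ Nat.card K ∣ Nat.card D := by
    intro hd
    exact hpτ.2.2.2.1 (hd.trans (Subgroup.card_dvd_of_le (Subgroup.commutator_mono hE.1 hE.1)))
  have hcop : (Nat.card K).Coprime (Nat.card D) :=
    (Nat.Prime.coprime_iff_not_dvd f.c.hKp).mpr hpD
  set Y : Subgroup G := ⁅D, K⁆ with hY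
  have hYD : Y ≤ D := Cfsg.Agent.Lib.Lead.commutator_le_of_le_normalizer K D hKnD
  by_cases hY1 : Y = ⊥
  · -- `K` centralizes `D`
    have hDK : ∀ d ∈ D, ∀ k ∈ K, d * k = k * d := by
      intro d hd k hk
      have h1 : ⁅d, k⁆ ∈ Y := Subgroup.commutator_mem_commutator hd hk
      rw [hY1, Subgroup.mem_bot, commutatorElement_def] at h1
      calc d * k = (d * k * d⁻¹ * k⁻¹) * k * d := by group
        _ = k * d := by rw [h1, one_mul]
    intro e he
    apply mem_normalizer_iff_cj.mpr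
    apply Subgroup.eq_of_le_of_card_ge _ (by rw [card_cj])
    rintro _ ⟨k, hk, rfl⟩
    simp only [MulEquiv.toMonoidHom_eq_coe, MonoidHom.coe_coe, MulAut.conj_apply]
    have hd : e * k * e⁻¹ * k⁻¹ ∈ D := Subgroup.commutator_mem_commutator he (hKE hk)
    have hcomm : Commute (e * k * e⁻¹ * k⁻¹) k := hDK _ hd k hk
    have hkp : k ^ Nat.card K = 1 := by
      have := pow_card_eq_one' (G := K) (x := ⟨k, hk⟩)
      exact congrArg Subtype.val this
    have hxp : (e * k * e⁻¹) ^ Nat.card K = 1 := by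
      rw [conj_pow, hkp, mul_one, mul_inv_cancel]
    have hdp : (e * k * e⁻¹ * k⁻¹) ^ Nat.card K = 1 := by
      have e1 : e * k * e⁻¹ = (e * k * e⁻¹ * k⁻¹) * k := by group
      rw [e1, hcomm.mul_pow, hkp, mul_one] at hxp
      exact hxp
    have hd1 : e * k * e⁻¹ * k⁻¹ = 1 := by
      have h1 : orderOf (e * k * e⁻¹ * k⁻¹) ∣ Nat.card K := orderOf_dvd_of_pow_eq_one hdp
      have h2 : orderOf (e * k * e⁻¹ * k⁻¹) ∣ Nat.card D := by
        have := orderOf_dvd_natCard (⟨_, hd⟩ : D)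
        rwa [Subgroup.orderOf_mk] at this
      have h3 := Nat.eq_one_of_dvd_coprimes hcop h1 h2
      exact orderOf_eq_one_iff.mp h3
    have : e * k * e⁻¹ = k := by
      calc e * k * e⁻¹ = (e * k * e⁻¹ * k⁻¹) * k := by group
        _ = k := by rw [hd1, one_mul]
    rw [this]
    exact hk
  · -- `Y ≠ 1`: contradiction
    exfalso
    have hKnY : K ≤ Subgroup.normalizer (Y : Set G) := by
      intro k hk
      apply mem_normalizer_iff_cj.mpr
      have h1 : cj k D = D := mem_normalizer_iff_cj.mp (hKnD hk)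
      have h2 : cj k K = K := Cfsg.Agent.Lib.Lead.BG14n.cj_eq_self_of_mem hk
      show Subgroup.map _ ⁅D, K⁆ = ⁅D, K⁆
      rw [Subgroup.map_commutator]
      show ⁅cj k D, cj k K⁆ = ⁅D, K⁆
      rw [h1, h2]
    have hdec := (Cfsg.Agent.Lib.Lead.coprime_abelian_decomp K D hKnD hcop).1
    have hfpfY : ∀ e ∈ K, e ≠ 1 → ∀ y ∈ Y, e * y = y * e → y = 1 := by
      intro e he he1 y hy hey
      have hz : Subgroup.zpowers e = K :=
        Cfsg.Agent.Lib.Helper3.zpowers_eq_of_card_prime f.c.hKp K rfl he he1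
      have h1 : y ∈ (D ⊓ Subgroup.centralizer (K : Set G)) ⊓ Y := by
        refine ⟨Subgroup.mem_inf.mpr ⟨hYD hy, ?_⟩, hy⟩
        rw [← hz, centralizer_zpowers, Subgroup.mem_centralizer_singleton_iff]
        exact hey.symm
      rw [hdec, Subgroup.mem_bot] at h1
      exact h1
    have hYE : Y ≤ E := hYD.trans hDE
    have hYH : Y ≤ H := hYE.trans hE.1
    have hfix := f.fix_K hG hr1
    have hcop2 : (Nat.card ↥(sigmaCore H)).Coprime (Nat.card ↥(Y ⊔ K : Subgroup G)) := by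
      have h1 := Cfsg.Agent.Lib.Helper2.BG12.coprime_card_compl_sigmaCore hG f.hH hE
      exact (Nat.Coprime.coprime_dvd_left (Subgroup.card_dvd_of_le (sup_le hYE hKE)) h1).symm
    have hsolv : Group.IsSolvable ↥(sigmaCore H) :=
      solvable_of_ne_top hG (ne_top_of_le_ne_top f.hH.1 (sigmaCore_le H))
    have hcentr := frob_le_centralizer hKnY hfpfY (hYH.trans (le_normalizer_sigmaCore H))
      ((f.hKH hG).trans (le_normalizer_sigmaCore H)) hsolv hcop2 hfix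
    -- a prime `s` dividing `|Y|`
    have hYcard : Nat.card Y ≠ 1 := fun h0 => hY1 (Subgroup.card_eq_one.mp h0)
    obtain ⟨s, hs, hsd⟩ := Nat.exists_prime_and_dvd hYcard
    haveI : Fact s.Prime := ⟨hs⟩
    obtain ⟨y, hy⟩ := exists_prime_orderOf_dvd_card' s hsd
    have hyo : orderOf (y : G) = s := by rw [Subgroup.orderOf_coe, hy]
    have hy1 : (y : G) ≠ 1 := by
      intro h
      rw [h, orderOf_one] at hyo
      exact hs.one_lt.ne hyo
    have hsp : Nat.card K ≠ s := by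
      intro h
      apply hpD
      rw [h]
      exact hsd.trans (Subgroup.card_dvd_of_le hYD)
    -- `s ∈ τ₂(H)`
    obtain ⟨⟨u, hu⟩, hu1'⟩ := (Subgroup.ne_bot_iff_exists_ne_one).mp f.c.hU1
    have hu1 : u ≠ 1 := fun h => hu1' (Subtype.ext h)
    have huσ : u ∈ sigmaCore H := f.U_le_sigmaCore hG hu
    have hsσ : s ∉ sigma H :=
      not_sigma_of_dvd_card_compl hG f.hH hE hs (hsd.trans (Subgroup.card_dvd_of_le hYE))
    have key : ∀ b ∈ Y, orderOf b = s → s ∈ tau2 H ∧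
        Subgroup.centralizer ({b} : Set G) ≤ H := by
      intro b hb hbo
      have hb1 : b ≠ 1 := by
        intro h
        rw [h, orderOf_one] at hbo
        exact hs.one_lt.ne hbo
      have hbH : b ∈ H ⊓ Subgroup.centralizer ({u} : Set G) := by
        refine Subgroup.mem_inf.mpr ⟨hYH hb, ?_⟩
        rw [Subgroup.mem_centralizer_singleton_iff]
        exact Subgroup.mem_centralizer_iff.mp (hcentr huσ) b hb
      rcases Cfsg.Agent.S1432.result hG H f.hH u huσ hu1 b hbH hb1 (fun p hp hd => by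
        rw [hbo] at hd
        rw [(Nat.prime_dvd_prime_iff_eq hp hs).mp hd]
        exact hsσ) with h | h
      · have := h.1 s hs (hbo ▸ dvd_rfl)
        rw [f.kappa_empty hG] at this
        exact absurd this (Set.notMem_empty s)
      · exact ⟨h.1 s hs (hbo ▸ dvd_rfl), h.2.2.1⟩
    have hsτ : s ∈ tau2 H := (key y y.2 hyo).1
    obtain ⟨A, hAE, hAe, hAc⟩ := exists_A_in_compl hG f.hH hE hsτ
    have h18 := (Cfsg.Agent.S1418.result hG H f.hH E hE s hsτ A ⟨hAE, hAe, hAc⟩).1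
    have h17 := (Cfsg.Agent.S1417.result hG H f.hH s hsτ A ⟨hAE.trans hE.1, hAe, hAc⟩).2.2.2.1
    set B : Subgroup G := Y ⊓ A with hBdef
    have hKB : K ≤ Subgroup.normalizer (B : Set G) := by
      intro k hk
      rw [Subgroup.mem_normalizer_iff]
      intro x
      have h1 := Subgroup.mem_normalizer_iff.mp (hKnY hk) x
      have h2 := Subgroup.mem_normalizer_iff.mp (h18.1 (hKE hk)) x
      constructor
      · rintro ⟨hx1, hx2⟩
        exact ⟨h1.mp hx1, h2.mp hx2⟩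
      · rintro ⟨hx1, hx2⟩
        exact ⟨h1.mpr hx1, h2.mpr hx2⟩
    have hyB : (y : G) ∈ B := by
      refine ⟨y.2, ?_⟩
      have hzc : Nat.card (Subgroup.zpowers (y : G)) = s := by rw [Nat.card_zpowers, hyo]
      exact h18.2 _ (Subgroup.zpowers_le.mpr (hYE y.2)) hzc (Subgroup.mem_zpowers _)
    have hB1 : B ≠ ⊥ := by
      intro h0
      rw [h0, Subgroup.mem_bot] at hyB
      exact hy1 hyB
    have hBc : Nat.card B = s := by
      have h2 : Nat.card B ∣ Nat.card A := Subgroup.card_dvd_of_le inf_le_right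
      rw [hAc] at h2
      obtain ⟨m, hm, hmc⟩ := (Nat.dvd_prime_pow hs).mp h2
      interval_cases m
      · exfalso
        rw [pow_zero] at hmc
        exact hB1 (Subgroup.card_eq_one.mp hmc)
      · rw [hmc, pow_one]
      · exfalso
        have h3 : B = A := Subgroup.eq_of_le_of_card_ge inf_le_right (by rw [hmc, hAc])
        have h4 : A ≤ Y := h3 ▸ inf_le_left
        have h5 : sigmaCore H ≤ ⊥ := by
          rw [← h17]
          refine le_inf le_rfl ?_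
          exact hcentr.trans (Subgroup.centralizer_le h4)
        exact Cfsg.Agent.Lib.Helper2.BG11.sigmaCore_ne_bot hG f.hH (eq_bot_iff.mpr h5)
    have hfpfB : ∀ k ∈ K, k ≠ 1 → ∀ b ∈ B, k * b = b * k → b = 1 :=
      fun k hk hk1 b hb => hfpfY k hk hk1 b hb.1
    obtain ⟨X, hXA, hXc, hBX, hBXA, hXK⟩ := exists_fixed_compl hG f.hH hE hsτ hAE hAe hAc hKE
      f.c.hKp hsp hfix inf_le_right hBc hKB hfpfB
    have hfixMs : sigmaCore H ⊓ Mstar = ⊥ := by
      have h6 := (corollary_13_2 hG f.hH f.c.hMs (Or.inl hpτ) (f.hKH hG) f.c.isPGroup_K f.c.hK1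
        (f.c.hNK hG)).2.2.2.2.2
      rw [h6]
      exact hfix
    have hCb : ∀ b ∈ B, b ≠ 1 → Subgroup.centralizer ({b} : Set G) ≤ H := by
      intro b hb hb1
      apply (key b hb.1 _).2
      have hbs : b ^ s = 1 := hAe.2 b hb.2
      exact orderOf_eq_prime hbs hb1
    exact f.false_of_B hG hsτ hAe hAc inf_le_right hBc hKB hfpfB
      (hcentr.trans (Subgroup.centralizer_le inf_le_left)) hCb hXA hXc hBXA hXK hfixMs

/-- **Step 6** -/
theorem step6 (f : Cfg M K U Mstar r R H) (hG : IsMinSimpleOddOrder G) :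
    K ≤ fittingOf (H ⊓ Mstar) ∧ IsComplIn (H ⊓ Mstar) (sigmaCore H) H := by
  haveI : Fact (Nat.card K).Prime := ⟨f.c.hKp⟩
  have hpH : Nat.card K ∣ Nat.card H := Subgroup.card_dvd_of_le (f.hKH hG)
  rcases sigma_or_tau hG f.hH hpH with h | h | h | h
  · exact absurd h (f.p_not_sigma hG)
  · obtain ⟨E, hE, hKE⟩ := f.exists_compl_K hG
    exact f.step6_of_normal hG (Or.inl h) hE hKE (f.normal_of_tau1 hG h hE hKE)
  · exact f.step6_tau2 hG h
  · exact f.step6_tau3 hG h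

end Cfg

end Cfsg.Agent.Lib.Lead.BG148
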