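import Mathlib
import Cfsg.Agent.Lib.Lead.BG14n5
import Cfsg.Agent.Lib.Helper5.BG143b
import Cfsg.Agent.Lib.Helper5.BG147k
import Cfsg.Agent.Lib.Helper2.BG14v1
import Cfsg.Agent.Lib.Lead.FF15
import Cfsg.Agent.Lib.Helper2.Maschke
import Cfsg.Agent.Lib.Helper2.BG12U4
import Cfsg.Agent.Lib.Helper4.FM12
import Cfsg.Agent.S1420
import Cfsg.Agent.S1429
import Cfsg.Agent.Lib.Lead.BG148h
import Cfsg.Agent.Lib.Helper2.BG15a4
import Cfsg.Agent.Lib.Lead.Coprime
import Cfsg.Agent.S1426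
import Cfsg.Agent.Lib.Helper2.BG12v
import Cfsg.Agent.S1432
import Cfsg.Agent.S1415
import Cfsg.Agent.S1416
import Cfsg.Agent.S1422
import Cfsg.Agent.Lib.Helper3.PrimeOrder
import Cfsg.Agent.S1417
import Cfsg.Agent.S1418
import Cfsg.Agent.Lib.Helper4.BG21a

set_option autoImplicit false
set_option linter.style.haveILetI false
set_option linter.unusedSectionVars false
set_option maxHeartbeats 800000

namespace Cfsg.Agent.Lib.Lead.BG148

open Cfsg Cfsg.Agent.Lib.Lead Cfsg.Agent.Lib.Lead.BG10 Cfsg.Agent.Lib.Helper7 Cfsg.Agent.Lib.Helper4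
open Cfsg.Agent.Lib.Helper4.BG76 Cfsg.Agent.Lib.Helper4.BG8 Cfsg.Agent.Lib.Helper4.BG9
open Cfsg.Agent.Lib.Helper4.BG7 Cfsg.Agent.Lib.Helper4.BG12 Cfsg.Agent.Lib.Helper4.BGConj
open Cfsg.Agent.Lib.Helper4.BG13 Cfsg.Agent.Lib.Lead.BG95 Cfsg.Agent.Lib.Lead.BG12q
open Cfsg.Agent.Lib.Lead.BG11 Cfsg.Agent.Lib.Lead.BG13q Cfsg.Agent.Lib.Helper4.BG18
open Cfsg.Agent.Lib.Helper2.BG12 Cfsg.Agent.Lib.Helper6 Cfsg.Agent.Lib.Helper2.BG13x
open Cfsg.Agent.Lib.Helper2.BG14y Cfsg.Agent.Lib.Helper5.BG139 Cfsg.Agent.Lib.Lead.BG14n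
open Cfsg.Agent.Lib.Helper2.BG14z Cfsg.Agent.Lib.Helper5.BG143 Cfsg.Agent.Lib.Helper4.BG14
open scoped commutatorElement

universe u

variable {G : Type u} [Group G] [Finite G]

/-- the context of Corollary 14.8 exists for every maximal subgroup of type `P₂` -/
theorem exists_ctx (hG : IsMinSimpleOddOrder G) {M K U : Subgroup G} (hM : IsCoatom M)
    (hKU : IsSigmaDecomposition M K U) (hK1 : K ≠ ⊥) (hU1 : U ≠ ⊥) :
    ∃ Mstar : Subgroup G, Ctx M K U Mstar := by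
  obtain ⟨Ms, t⟩ := Cfsg.Agent.Lib.Helper5.BG147.t147 hG hM hKU.hall hK1
  have hne : K ⊔ sigmaCore M ≠ M := by
    intro h
    have h1 := hKU.compl.2.2.1
    rw [h] at h1
    exact hU1 (by rw [← h1]; exact (inf_eq_left.mpr hKU.compl.1).symm)
  exact ⟨Ms, hM, hKU, hK1, hU1, t.hMs, t.hKeq, t.hKs, t.prime_left hne, t.inf_eq, t.conj⟩

/-- the configuration of Corollary 14.8 exists for every prime divisor of `|U|` -/
theorem exists_cfg (hG : IsMinSimpleOddOrder G) {M K U Mstar : Subgroup G}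
    (c : Ctx M K U Mstar) {r : ℕ} (hr : r.Prime) (hrU : r ∣ Nat.card U) :
    ∃ R H : Subgroup G, Cfg M K U Mstar r R H := by
  haveI : Fact r.Prime := ⟨hr⟩
  obtain ⟨R, -, hR⟩ := exists_sylIn_ge (bot_le : (⊥ : Subgroup G) ≤ U) (IsPGroup.of_bot (p := r))
  obtain ⟨H, hH, hNH⟩ := exists_coatom_ge
    (normalizer_ne_top hG (Ctx.R_ne_bot hR hrU) (isPGroup_ne_top hG hR.2.1))
  exact ⟨R, H, c, hr, hrU, hR, hH, hNH⟩

/-- **B and G, Theorem C(2)** (= S1363): `U` is abelian and `N_G(U) ≰ M` -/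
theorem s1363 (hG : IsMinSimpleOddOrder G) {M K U : Subgroup G} (hM : IsCoatom M)
    (hKU : IsSigmaDecomposition M K U) (hK1 : K ≠ ⊥) :
    IsMulCommutative ↥U ∧ ¬ Subgroup.normalizer (U : Set G) ≤ M := by
  by_cases hU1 : U = ⊥
  · subst hU1
    constructor
    · refine ⟨⟨?_⟩⟩
      rintro ⟨a, ha⟩ ⟨b, hb⟩
      rw [Subgroup.mem_bot] at ha hb
      subst ha hb
      rfl
    · intro h
      apply hM.1
      rw [eq_top_iff]
      intro g _
      apply h
      rw [Subgroup.mem_normalizer_iff]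
      intro x
      simp only [Subgroup.mem_bot]
      constructor
      · rintro rfl
        group
      · intro hx
        have : x = g⁻¹ * (g * x * g⁻¹) * g := by group
        rw [this, hx]
        group
  · obtain ⟨Ms, c⟩ := exists_ctx hG hM hKU hK1 hU1
    refine ⟨c.U_comm hG, ?_⟩
    have h1 : Nat.card ↥U ≠ 1 := fun h0 => hU1 (Subgroup.card_eq_one.mp h0)
    obtain ⟨r, hr, hrU⟩ := Nat.exists_prime_and_dvd h1
    obtain ⟨R, H, f⟩ := exists_cfg hG c hr hrU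
    intro h
    exact f.normalizer_not_le hG (inf_le_right.trans h)

end Cfsg.Agent.Lib.Lead.BG148
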