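import Mathlib

/-! Shared definitions for the S4607 (Brandt) packages. -/

set_option autoImplicit false

namespace Cfsg.Agent.Lib.Lead.Brandt

/-- the corner `e R e` as a `k`-subspace of `R` -/
noncomputable def corner (k : Type*) {R : Type*} [Field k] [Ring R] [Algebra k R] (e : R) :
    Submodule k R :=
  LinearMap.range ((LinearMap.mulLeft k e).comp (LinearMap.mulRight k e))

/-- coefficient of `1`, as a linear functional on the group algebra -/
noncomputable def tr1 (k G : Type*) [Field k] [Group G] : MonoidAlgebra k G →ₗ[k] k where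
  toFun x := x.coeff 1
  map_add' x y := by simp
  map_smul' c x := by simp

/-- value of a class function `χ` on an element of the complex group algebra -/
noncomputable def evalC {G : Type*} [Group G] [Fintype G] (χ : G → ℂ) (x : MonoidAlgebra ℂ G) : ℂ :=
  ∑ g, x.coeff g * χ g

theorem mem_corner {k : Type*} {R : Type*} [Field k] [Ring R] [Algebra k R] (e x : R) :
    x ∈ corner k e ↔ ∃ y, e * y * e = x := by
  unfold corner
  constructor
  · rintro ⟨y, rfl⟩
    exact ⟨y, by simp [mul_assoc]⟩
  · rintro ⟨y, rfl⟩
    exact ⟨y, by simp [mul_assoc]⟩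

theorem tr1_apply (k G : Type*) [Field k] [Group G] (x : MonoidAlgebra k G) :
    tr1 k G x = x.coeff 1 := rfl

end Cfsg.Agent.Lib.Lead.Brandt
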