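import Mathlib
import Cfsg.Prelude
import Cfsg.Agent.Lib.Helper2.Symp4
import Cfsg.Agent.Lib.Helper2.SpTorus

set_option autoImplicit false
set_option linter.unusedSectionVars false

namespace Cfsg.Agent.Lib.Lead.SpGen

open Matrix Cfsg.Agent.Lib.Helper2.Symp

variable {m : ℕ} {K : Type*} [Field K]

abbrev Idx (m : ℕ) := Fin m ⊕ Fin m

def eps (m : ℕ) (K : Type*) [Field K] : Idx m → K := Sum.elim (fun _ => -1) (fun _ => 1)

def yMat (k l : Idx m) (t : K) : Matrix (Idx m) (Idx m) K :=
  if k = l then 1 else if l = k.swap then 1 + t • Matrix.single k l (1:K) else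
    1 + t • (Matrix.single k l (1:K) - (eps m K k * eps m K l) • Matrix.single l.swap k.swap (1:K))

theorem swap_ne (k : Idx m) : k.swap ≠ k := by
  rcases k with i | i <;> simp

theorem yMat_mulVec_long (k : Idx m) (t : K) (w : Idx m → K) :
    yMat k k.swap t *ᵥ w = w + (t * w k.swap) • Pi.single k (1 : K) := by
  unfold yMat
  rw [if_neg (swap_ne k).symm, if_pos rfl, Matrix.add_mulVec, Matrix.one_mulVec,
    Matrix.smul_mulVec, Matrix.single_mulVec_eq, one_mul, smul_smul]

theorem yMat_mulVec_short {k l : Idx m} (hkl : k ≠ l) (hl : l ≠ k.swap) (t : K)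
    (w : Idx m → K) :
    yMat k l t *ᵥ w = w + (t * w l) • Pi.single k (1 : K) -
      (eps m K k * eps m K l * t * w k.swap) • Pi.single l.swap (1 : K) := by
  unfold yMat
  rw [if_neg hkl, if_neg hl, Matrix.add_mulVec, Matrix.one_mulVec, Matrix.smul_mulVec,
    Matrix.sub_mulVec, Matrix.smul_mulVec, Matrix.single_mulVec_eq, Matrix.single_mulVec_eq,
    one_mul, one_mul, smul_sub, smul_smul, smul_smul, smul_smul]
  rw [add_sub_assoc]
  congr 3
  ring

/-- `f(x, e_k) = - ε_k x_{k'}` -/
theorem sympForm_single (x : Idx m → K) (k : Idx m) :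
    Cfsg.sympForm m K x (Pi.single k 1) = - eps m K k * x k.swap := by
  rcases k with j | j
  · rw [sympForm_single_inl]; simp [eps]
  · rw [sympForm_single_inr]; simp [eps]

/-- the transvection along a basis vector is a long root element -/
theorem transv_single (k : Idx m) (c : K) :
    Cfsg.sympTransvection m (Pi.single k (1 : K)) c = yMat k k.swap (- eps m K k * c) := by
  rw [Matrix.ext_iff_mulVec]
  intro x
  rw [sympTransvection_mulVec, yMat_mulVec_long, sympForm_single]
  congr 2
  ring

theorem transv_smul (v : Idx m → K) (a c : K) :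
    Cfsg.sympTransvection m (a • v) c = Cfsg.sympTransvection m v (c * a * a) := by
  rw [Matrix.ext_iff_mulVec]
  intro x
  rw [sympTransvection_mulVec, sympTransvection_mulVec, sympForm_smul_right, smul_smul]
  congr 2
  ring

theorem transv_mul_comm (A : Matrix (Idx m) (Idx m) K)
    (hA : A ∈ Matrix.symplecticGroup (Fin m) K) (v : Idx m → K) (c : K) :
    Cfsg.sympTransvection m (A *ᵥ v) c * A = A * Cfsg.sympTransvection m v c := by
  rw [Matrix.ext_iff_mulVec]
  intro x
  rw [← Matrix.mulVec_mulVec, ← Matrix.mulVec_mulVec, sympTransvection_mulVec,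
    sympTransvection_mulVec, sympForm_mulVec A hA, Matrix.mulVec_add, Matrix.mulVec_smul]

section gen

variable (hmem : ∀ (k l : Idx m) (t : K), yMat k l t ∈ Matrix.symplecticGroup (Fin m) K)

/-- the subgroup generated by the root elements -/
def rootGroup (m : ℕ) (K : Type*) [Field K] : Subgroup (Matrix.symplecticGroup (Fin m) K) :=
  Subgroup.closure {A | ∃ (k l : Idx m) (t : K), (A : Matrix (Idx m) (Idx m) K) = yMat k l t}

include hmem

theorem root_mem (k l : Idx m) (t : K) :
    (⟨yMat k l t, hmem k l t⟩ : Matrix.symplecticGroup (Fin m) K) ∈ rootGroup m K :=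
  Subgroup.subset_closure ⟨k, l, t, rfl⟩

open Classical in
/-- phase 1: clear all coordinates outside `a`, `a'` -/
theorem clear_phase1 (a : Idx m) :
    ∀ (n : ℕ) (w : Idx m → K), w a ≠ 0 →
      (Finset.univ.filter (fun i => i ≠ a ∧ i ≠ a.swap ∧ w i ≠ 0)).card = n →
      ∃ g ∈ rootGroup m K, ((g : Matrix (Idx m) (Idx m) K) *ᵥ w) a = w a ∧
        ∀ i, i ≠ a → i ≠ a.swap → ((g : Matrix (Idx m) (Idx m) K) *ᵥ w) i = 0 := by
  intro n
  induction n using Nat.strong_induction_on with
  | _ n ih =>
    intro w hwa hcard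
    by_cases hS : (Finset.univ.filter (fun i => i ≠ a ∧ i ≠ a.swap ∧ w i ≠ 0)) = ∅
    · refine ⟨1, Subgroup.one_mem _, ?_, ?_⟩
      · show ((1 : Matrix (Idx m) (Idx m) K) *ᵥ w) a = w a
        rw [Matrix.one_mulVec]
      · intro i hia hia'
        show ((1 : Matrix (Idx m) (Idx m) K) *ᵥ w) i = 0
        rw [Matrix.one_mulVec]
        by_contra hwi
        have : i ∈ Finset.univ.filter (fun i => i ≠ a ∧ i ≠ a.swap ∧ w i ≠ 0) :=
          Finset.mem_filter.2 ⟨Finset.mem_univ _, hia, hia', hwi⟩
        rw [hS] at this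
        exact absurd this (Finset.notMem_empty _)
    · obtain ⟨i, hi⟩ := Finset.nonempty_iff_ne_empty.2 hS
      obtain ⟨-, hia, hia', hwi⟩ := Finset.mem_filter.1 hi
      -- the root element clearing coordinate `i`
      set t : K := - w i / w a with ht
      have hai' : a ≠ i.swap := by
        intro h
        apply hia'
        rw [h, Sum.swap_swap]
      set w' : Idx m → K := yMat i a t *ᵥ w with hw'
      have hw'eq : w' = w + (t * w a) • Pi.single i (1 : K) -
          (eps m K i * eps m K a * t * w i.swap) • Pi.single a.swap (1 : K) :=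
        yMat_mulVec_short hia hai' t w
      have hw'a : w' a = w a := by
        rw [hw'eq]
        simp [hia.symm, (swap_ne a).symm]
      have hw'i : w' i = 0 := by
        rw [hw'eq]
        have h1 : t * w a = - w i := by
          rw [ht]
          field_simp
        simp [hia', h1]
      have hw'j : ∀ j, j ≠ i → j ≠ a.swap → w' j = w j := by
        intro j hji hja'
        rw [hw'eq]
        simp [hji, hja']
      have hsub : (Finset.univ.filter (fun j => j ≠ a ∧ j ≠ a.swap ∧ w' j ≠ 0)) ⊆
          (Finset.univ.filter (fun j => j ≠ a ∧ j ≠ a.swap ∧ w j ≠ 0)).erase i := by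
        intro j hj
        obtain ⟨-, h1, h2, h3⟩ := Finset.mem_filter.1 hj
        have hji : j ≠ i := by
          rintro rfl
          exact h3 hw'i
        rw [Finset.mem_erase]
        refine ⟨hji, Finset.mem_filter.2 ⟨Finset.mem_univ _, h1, h2, ?_⟩⟩
        rwa [hw'j j hji h2] at h3
      have hlt : (Finset.univ.filter (fun j => j ≠ a ∧ j ≠ a.swap ∧ w' j ≠ 0)).card < n := by
        calc _ ≤ ((Finset.univ.filter (fun j => j ≠ a ∧ j ≠ a.swap ∧ w j ≠ 0)).erase i).card :=
              Finset.card_le_card hsub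
          _ < (Finset.univ.filter (fun j => j ≠ a ∧ j ≠ a.swap ∧ w j ≠ 0)).card :=
              Finset.card_erase_lt_of_mem hi
          _ = n := hcard
      obtain ⟨g, hg, hga, hgi⟩ := ih _ hlt w' (by rw [hw'a]; exact hwa) rfl
      refine ⟨g * ⟨yMat i a t, hmem i a t⟩, Subgroup.mul_mem _ hg (root_mem hmem i a t), ?_, ?_⟩
      · show (((g : Matrix (Idx m) (Idx m) K) * yMat i a t) *ᵥ w) a = w a
        rw [← Matrix.mulVec_mulVec, ← hw', hga, hw'a]
      · intro j hja hja'
        show (((g : Matrix (Idx m) (Idx m) K) * yMat i a t) *ᵥ w) j = 0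
        rw [← Matrix.mulVec_mulVec, ← hw']
        exact hgi j hja hja'

/-- the root group moves every nonzero vector to a multiple of a basis vector -/
theorem exists_move_to_single (w : Idx m → K) (hw : w ≠ 0) :
    ∃ g ∈ rootGroup m K, ∃ (a : Idx m) (c : K), c ≠ 0 ∧
      (g : Matrix (Idx m) (Idx m) K) *ᵥ w = c • Pi.single a (1 : K) := by
  classical
  obtain ⟨a, ha⟩ : ∃ a, w a ≠ 0 := by
    by_contra h
    push Not at h
    exact hw (funext h)
  obtain ⟨g, hg, hga, hgi⟩ := clear_phase1 hmem a _ w ha rfl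
  set w' : Idx m → K := (g : Matrix (Idx m) (Idx m) K) *ᵥ w with hw'
  set t : K := - w' a.swap / w a with ht
  refine ⟨⟨yMat a.swap a t, hmem _ _ _⟩ * g,
    Subgroup.mul_mem _ (root_mem hmem _ _ _) hg, a, w a, ha, ?_⟩
  show (yMat a.swap a t * (g : Matrix (Idx m) (Idx m) K)) *ᵥ w = w a • Pi.single a (1 : K)
  rw [← Matrix.mulVec_mulVec, ← hw']
  have h1 := yMat_mulVec_long a.swap t w'
  rw [Sum.swap_swap] at h1
  rw [h1]
  funext i
  by_cases hia : i = a
  · subst hia
    simp [(swap_ne i).symm, hga]
  · by_cases hia' : i = a.swap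
    · subst hia'
      have h2 : t * w' a = - w' a.swap := by
        rw [ht, hga]
        field_simp
      simp [hia, h2]
    · simp [hia, hia', hgi i hia hia']

theorem transv_zero (c : K) : Cfsg.sympTransvection m (0 : Idx m → K) c = 1 := by
  rw [Matrix.ext_iff_mulVec]
  intro x
  rw [sympTransvection_mulVec, smul_zero, add_zero, Matrix.one_mulVec]

/-- the root elements generate the symplectic group -/
theorem rootGroup_eq_top : rootGroup m K = ⊤ := by
  rw [eq_top_iff, ← transvGroup_eq_top]
  unfold transvGroup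
  rw [Subgroup.closure_le]
  rintro A ⟨w, c, hA⟩
  by_cases hw : w = 0
  · have : A = 1 := by
      apply Subtype.ext
      rw [hA, hw, transv_zero hmem]
      rfl
    rw [this]
    exact Subgroup.one_mem _
  · obtain ⟨g, hg, a, d, hd, hgw⟩ := exists_move_to_single hmem w hw
    have h1 := transv_mul_comm (g : Matrix (Idx m) (Idx m) K) g.2 w c
    rw [hgw, transv_smul, transv_single] at h1
    have h2 : A = g⁻¹ * ⟨yMat a a.swap (-eps m K a * (c * d * d)), hmem _ _ _⟩ * g := by
      rw [eq_comm, mul_assoc, inv_mul_eq_iff_eq_mul]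
      apply Subtype.ext
      show yMat a a.swap (-eps m K a * (c * d * d)) * (g : Matrix (Idx m) (Idx m) K) =
        (g : Matrix (Idx m) (Idx m) K) * (A : Matrix (Idx m) (Idx m) K)
      rw [hA]
      exact h1
    rw [h2]
    exact Subgroup.mul_mem _ (Subgroup.mul_mem _ (Subgroup.inv_mem _ hg) (root_mem hmem _ _ _)) hg

end gen

end Cfsg.Agent.Lib.Lead.SpGen
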