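import Cfsg.Agent.Lib.Helper1.CM1
import Cfsg.Agent.Lib.Lead.SpGen

/-!
# Carve-out T2 for helper2's S2092: the root elements generate `Sp_2m(K)`

Thin wrapper: `Cfsg.Agent.Lib.Lead.SpGen.rootGroup_eq_top` for helper1's matrix model `spData`.
-/

set_option autoImplicit false

namespace Cfsg.Agent.Lib.Helper2.CM

open Cfsg.Agent.Lib.Helper2.CN

variable {m : ℕ} {K : Type*} [Field K]

theorem yMat_eq_spGen (k l : Idx m) (t : K) :
    yMat k l t = Cfsg.Agent.Lib.Lead.SpGen.yMat k l t := rfl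

/-- (T2) the root elements `spY k l t` generate the symplectic group. -/
theorem spData_gen : (spData m K).Gen := by
  unfold CData.Gen
  have h := Cfsg.Agent.Lib.Lead.SpGen.rootGroup_eq_top (m := m) (K := K)
    (fun k l t => by rw [← yMat_eq_spGen]; exact yMat_mem k l t)
  unfold Cfsg.Agent.Lib.Lead.SpGen.rootGroup at h
  rw [← h]
  congr 1
  ext A
  constructor
  · rintro ⟨k, l, t, rfl⟩
    exact ⟨k, l, t, rfl⟩
  · rintro ⟨k, l, t, hA⟩
    exact ⟨k, l, t, Subtype.ext hA⟩

end Cfsg.Agent.Lib.Helper2.CM
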