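import Mathlib
import Cfsg.Agent.Lib.Helper9.CubeUDefs
import Cfsg.Agent.Lib.Helper5.SSOrderU2

/-!
# S2511, package U3a: a unitary matrix with prescribed conjugate-reciprocal separable
characteristic polynomial (Wall's theorem `Cfsg.Agent.S2588.result` + `GL`-conjugacy of semisimple
matrices `Cfsg.Agent.S2388.exists_gl_conj`).
-/

set_option autoImplicit false

namespace Cfsg.Agent.Lib.Carve

open Polynomial Cfsg.Agent.S0278 Cfsg.Agent.Lib.Helper5.Wall Cfsg.Agent.Lib.Helper5.SUConj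
  Cfsg.Agent.Lib.Helper5.SSOrder Cfsg.Agent.Lib.Helper9.CubeU Cfsg.Agent.Lib.Helper5.Pal

universe u

variable {F : Type u} [Field F] [Fintype F] {q : ℕ}

namespace U3

/-- (U3a) a unitary matrix with a prescribed conjugate-reciprocal separable characteristic
polynomial -/
theorem exists_unitary_of_charpoly (hF : Fintype.card F = q ^ 2) (p : ℕ) [Fact p.Prime]
    [CharP F p] {n : ℕ} (N : ℕ) (hN0 : 0 < N) (hNp : N.Coprime p) (f : F[X]) (hf : f.Monic)
    (hdeg : f.natDegree = n) (hfN : f ∣ X ^ N - 1) (hdag : dag hF f = f) :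
    ∃ B : Matrix (Fin n) (Fin n) F, ct hF B * B = 1 ∧ B.charpoly = f ∧ B ^ N = 1 := by
  classical
  have hc0 : (X ^ N - 1 : F[X]).coeff 0 = -1 := by
    rw [coeff_sub, coeff_X_pow, coeff_one_zero, if_neg (Ne.symm hN0.ne'), zero_sub]
  have h0 : f.coeff 0 ≠ 0 := by
    intro h
    have h1 : (X : F[X]) ∣ f := X_dvd_iff.2 h
    have h3 := X_dvd_iff.1 (dvd_trans h1 hfN)
    rw [hc0] at h3
    exact one_ne_zero (neg_eq_zero.1 h3)
  obtain ⟨A₀, k, -, -, -, hAf⟩ :=
    Cfsg.Agent.Lib.Helper5.exists_semisimple_of_charpoly p f hf hdeg h0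
  have hAN : A₀ ^ N = 1 := by
    have h1 : aeval A₀ (X ^ N - 1 : F[X]) = 0 := by
      obtain ⟨c, hc⟩ := hfN
      rw [hc, map_mul, ← hAf, Matrix.aeval_self_charpoly, zero_mul]
    rw [map_sub, map_pow, aeval_X, map_one] at h1
    exact sub_eq_zero.1 h1
  obtain ⟨N', rfl⟩ : ∃ N', N = N' + 1 := ⟨N - 1, by omega⟩
  set A : GL (Fin n) F := ⟨A₀, A₀ ^ N', by rw [← pow_succ', hAN], by rw [← pow_succ, hAN]⟩
    with hA
  have hAr : A ^ (N' + 1) = 1 := by
    apply Units.ext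
    rw [Units.val_pow_eq_pow_val, Units.val_one]
    exact hAN
  have hAf' : (A : Matrix (Fin n) (Fin n) F).charpoly = f := hAf
  -- the element `ct A⁻¹`
  have h1 : (A : Matrix (Fin n) (Fin n) F) * ((A⁻¹ : GL (Fin n) F) : Matrix (Fin n) (Fin n) F) = 1 :=
    Units.mul_inv A
  have h2 : ((A⁻¹ : GL (Fin n) F) : Matrix (Fin n) (Fin n) F) * (A : Matrix (Fin n) (Fin n) F) = 1 :=
    Units.inv_mul A
  set A' : GL (Fin n) F := ⟨ct hF ((A⁻¹ : GL (Fin n) F) : Matrix (Fin n) (Fin n) F),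
    ct hF (A : Matrix (Fin n) (Fin n) F), by rw [← ct_mul, h1, ct_one],
    by rw [← ct_mul, h2, ct_one]⟩ with hA'
  have hA'r : (A' : Matrix (Fin n) (Fin n) F) ^ (N' + 1) = 1 := by
    show ct hF ((A⁻¹ : GL (Fin n) F) : Matrix (Fin n) (Fin n) F) ^ (N' + 1) = 1
    rw [← ct_pow, ← Units.val_pow_eq_pow_val, inv_pow, hAr, inv_one, Units.val_one, ct_one]
  have hA'c : (A' : Matrix (Fin n) (Fin n) F).charpoly = f := by
    show (ct hF ((A⁻¹ : GL (Fin n) F) : Matrix (Fin n) (Fin n) F)).charpoly = f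
    rw [charpoly_ct, charpoly_inv_eq_rc_matrix _ _ h1, hAf', ← rc_map_powQ]
    exact hdag
  have hconj : IsConj A A' := by
    obtain ⟨P, hP, hPM⟩ := Cfsg.Agent.S2388.exists_gl_conj p (A : Matrix (Fin n) (Fin n) F)
      (A' : Matrix (Fin n) (Fin n) F) (N' + 1) hNp hAN hA'r (by rw [hAf', hA'c])
    have hPu : IsUnit P := (Matrix.isUnit_iff_isUnit_det P).2 hP
    obtain ⟨c, rfl⟩ := hPu
    rw [isConj_iff]
    refine ⟨c, ?_⟩
    have h3 : c * A = A' * c := Units.ext (by rw [Units.val_mul, Units.val_mul, hPM])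
    rw [h3]
    group
  have hconjM : IsConj (A : Matrix (Fin n) (Fin n) F)
      (((A : Matrix (Fin n) (Fin n) F).map (fun x : F => x ^ q)).transpose)⁻¹ := by
    have h3 : (((A : Matrix (Fin n) (Fin n) F).map (fun x : F => x ^ q)).transpose)⁻¹ =
        (A' : Matrix (Fin n) (Fin n) F) := by
      apply Matrix.inv_eq_right_inv
      show ct hF (A : Matrix (Fin n) (Fin n) F) *
        ct hF ((A⁻¹ : GL (Fin n) F) : Matrix (Fin n) (Fin n) F) = 1
      rw [← ct_mul, h2, ct_one]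
    rw [h3]
    exact (Units.coeHom (Matrix (Fin n) (Fin n) F)).map_isConj hconj
  obtain ⟨B, hB⟩ := (Cfsg.Agent.S2588.result hF A).2 hconjM
  rw [isConj_iff] at hB
  obtain ⟨c, hc⟩ := hB
  refine ⟨((B : GL (Fin n) F) : Matrix (Fin n) (Fin n) F), (mem_GU_iff hF _).1 B.2, ?_, ?_⟩
  · rw [← hc, Units.val_mul, Units.val_mul, Matrix.coe_units_inv, Matrix.charpoly_units_conj, hAf']
  · rw [← Units.val_pow_eq_pow_val, ← hc, conj_pow, hAr, mul_one, mul_inv_cancel, Units.val_one]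

end U3

end Cfsg.Agent.Lib.Carve
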