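import Mathlib
import Cfsg.Agent.Lib.Helper5.Stb.B2

/-!
# Steinberg's rank-one symbol argument (carve-out R1 for helper3's S2099)

Over a finite field, relation (C) `h(tu) = h(t)h(u)` follows from (A), (B') when the symbols
`h(tu) h(t)⁻¹ h(u)⁻¹` are central.
-/

set_option autoImplicit false
set_option linter.unusedSectionVars false
set_option maxHeartbeats 1600000

namespace Cfsg.Agent.Lib.Carve.R1

section basic

variable {k : Type*} [Field k] {G : Type*} [Group G]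
  (x y : k → G) (hx : ∀ a b, x (a + b) = x a * x b) (hy : ∀ a b, y (a + b) = y a * y b)
  (w h : k → G) (hw : ∀ t, w t = x t * y (-t⁻¹) * x t) (hh : ∀ t, h t = w t * (w 1)⁻¹)
  (hB : ∀ t u, t ≠ 0 → w t * x u * (w t)⁻¹ = y (-(t⁻¹) ^ 2 * u))

include hx in
theorem x_zero : x 0 = 1 := by
  have := hx 0 0
  rw [add_zero] at this
  exact (mul_eq_left.mp this.symm)

include hx in
theorem x_neg (a : k) : x (-a) = (x a)⁻¹ := by
  have := hx (-a) a
  rw [neg_add_cancel, x_zero x hx] at this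
  exact eq_inv_of_mul_eq_one_left this.symm

include hx hy hw in
theorem w_inv (t : k) : (w t)⁻¹ = w (-t) := by
  have e : -(-t)⁻¹ = t⁻¹ := by rw [inv_neg, neg_neg]
  rw [hw t, hw (-t), e, x_neg x hx, mul_inv_rev, mul_inv_rev, ← x_neg y hy, neg_neg, mul_assoc]

include hx hy hw hB in
theorem cj_w_y {t : k} (ht : t ≠ 0) (v : k) : w t * y v * (w t)⁻¹ = x (-t ^ 2 * v) := by
  have h1 := hB (-t) (-t ^ 2 * v) (neg_ne_zero.mpr ht)
  have e : -((-t)⁻¹) ^ 2 * (-t ^ 2 * v) = v := by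
    field_simp
  rw [e, ← w_inv x y hx hy w hw, inv_inv] at h1
  rw [← h1]
  group

include hx hy hw hB in
theorem w_eq_yxy {t : k} (ht : t ≠ 0) : w t = y (-t⁻¹) * x t * y (-t⁻¹) := by
  have h1 : w t = (w t * x t * (w t)⁻¹) * (w t * y (-t⁻¹) * (w t)⁻¹) * (w t * x t * (w t)⁻¹) := by
    conv_lhs => rw [show w t = w t * w t * (w t)⁻¹ by group]
    conv_lhs => rw [show w t * w t * (w t)⁻¹ = w t * (w t) * (w t)⁻¹ from rfl]
    conv_lhs => enter [1, 2]; rw [hw t]
    group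
  rw [hB t t ht, cj_w_y x y hx hy w hw hB ht] at h1
  have e1 : -(t⁻¹) ^ 2 * t = -t⁻¹ := by field_simp
  have e2 : -t ^ 2 * -t⁻¹ = t := by field_simp
  rw [e1, e2] at h1
  exact h1

include hx hy hw hB in
theorem cj_w_w {t u : k} (ht : t ≠ 0) (hu : u ≠ 0) :
    w t * w u * (w t)⁻¹ = w (t * u⁻¹ * t) := by
  have hs : t * u⁻¹ * t ≠ 0 := mul_ne_zero (mul_ne_zero ht (inv_ne_zero hu)) ht
  have h1 : w t * w u * (w t)⁻¹ =
      (w t * x u * (w t)⁻¹) * (w t * y (-u⁻¹) * (w t)⁻¹) * (w t * x u * (w t)⁻¹) := by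
    rw [hw u]; group
  rw [h1, hB t u ht, cj_w_y x y hx hy w hw hB ht, w_eq_yxy x y hx hy w hw hB hs]
  have e1 : -(t⁻¹) ^ 2 * u = -(t * u⁻¹ * t)⁻¹ := by field_simp
  have e2 : -t ^ 2 * -u⁻¹ = t * u⁻¹ * t := by field_simp
  rw [e1, e2]

include hh in
theorem h_one : h 1 = 1 := by rw [hh, mul_inv_cancel]

include hh in
theorem w_eq_h (t : k) : w t = h t * w 1 := by rw [hh]; group

include hx hy hw hh hB in
theorem cj_h_x {t : k} (ht : t ≠ 0) (u : k) : h t * x u * (h t)⁻¹ = x (t ^ 2 * u) := by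
  have h1 : (w 1)⁻¹ * x u * w 1 = y (-u) := by
    have := hB (-1) u (by simp)
    rw [← w_inv x y hx hy w hw, inv_inv] at this
    rw [this]; congr 1; simp
  have h2 : h t * x u * (h t)⁻¹ = w t * ((w 1)⁻¹ * x u * w 1) * (w t)⁻¹ := by
    rw [hh t]; group
  rw [h2, h1, cj_w_y x y hx hy w hw hB ht]
  congr 1; ring

include hx hy hw hh hB in
theorem cj_h_y {t : k} (ht : t ≠ 0) (u : k) : h t * y u * (h t)⁻¹ = y ((t⁻¹) ^ 2 * u) := by
  have h1 : (w 1)⁻¹ * y u * w 1 = x (-u) := by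
    have := cj_w_y x y hx hy w hw hB (t := -1) (by simp) u
    rw [← w_inv x y hx hy w hw, inv_inv] at this
    rw [this]; congr 1; ring
  have h2 : h t * y u * (h t)⁻¹ = w t * ((w 1)⁻¹ * y u * w 1) * (w t)⁻¹ := by
    rw [hh t]; group
  rw [h2, h1, hB t _ ht]
  congr 1; ring

include hx hy hw hh hB in
theorem cj_h_w {t u : k} (ht : t ≠ 0) (hu : u ≠ 0) : h t * w u * (h t)⁻¹ = w (t ^ 2 * u) := by
  have h1 : h t * w u * (h t)⁻¹ =
      (h t * x u * (h t)⁻¹) * (h t * y (-u⁻¹) * (h t)⁻¹) * (h t * x u * (h t)⁻¹) := by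
    rw [hw u]; group
  rw [h1, cj_h_x x y hx hy w h hw hh hB ht, cj_h_y x y hx hy w h hw hh hB ht, hw (t ^ 2 * u)]
  have e : (t⁻¹) ^ 2 * -u⁻¹ = -(t ^ 2 * u)⁻¹ := by field_simp
  rw [e]

include hx hy hw hh hB in
theorem cj_h_h {t u : k} (ht : t ≠ 0) (hu : u ≠ 0) :
    h t * h u * (h t)⁻¹ = h (t ^ 2 * u) * (h (t ^ 2))⁻¹ := by
  have h1 : h t * h u * (h t)⁻¹ = (h t * w u * (h t)⁻¹) * (h t * w 1 * (h t)⁻¹)⁻¹ := by
    rw [hh u]; group
  rw [h1, cj_h_w x y hx hy w h hw hh hB ht hu, cj_h_w x y hx hy w h hw hh hB ht one_ne_zero,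
    mul_one, hh (t ^ 2 * u), hh (t ^ 2)]
  group

include hx hy hw hh hB in
theorem cj_w1_h {v : k} (hv : v ≠ 0) : w 1 * h v * (w 1)⁻¹ = h v⁻¹ := by
  have h1 := cj_w_w x y hx hy w hw hB (t := 1) (u := v) one_ne_zero hv
  rw [one_mul, mul_one] at h1
  rw [hh v, hh v⁻¹, ← h1]; group

include hx hy hw hB in
theorem x_eq_ywy {a : k} (ha : a ≠ 0) : x a = y a⁻¹ * w a * y a⁻¹ := by
  rw [w_eq_yxy x y hx hy w hw hB ha, x_neg y hy]; group

include hx hy hw hB in
theorem w_mul_w_of_add_eq_one {u v : k} (hu : u ≠ 0) (hv : v ≠ 0) (huv : u + v = 1) :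
    w u * w v = w (u / v) * w 1 := by
  have e0 : x u * x v = x 1 := by rw [← hx, huv]
  rw [x_eq_ywy x y hx hy w hw hB hu, x_eq_ywy x y hx hy w hw hB hv,
    x_eq_ywy x y hx hy w hw hB one_ne_zero, inv_one] at e0
  have e1 : w u * y (u⁻¹ + v⁻¹) * w v = y (1 - u⁻¹) * w 1 * y (1 - v⁻¹) := by
    have : w u * y (u⁻¹ + v⁻¹) * w v =
        (y u⁻¹)⁻¹ * (y u⁻¹ * w u * y u⁻¹ * (y v⁻¹ * w v * y v⁻¹)) * (y v⁻¹)⁻¹ := by
      rw [hy]; group
    rw [this, e0, sub_eq_neg_add, sub_eq_add_neg, hy, hy, x_neg y hy, x_neg y hy]; group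
  have e2 : w u * y (u⁻¹ + v⁻¹) * w v = x (-(u / v)) * (w u * w v) := by
    have := cj_w_y x y hx hy w hw hB hu (u⁻¹ + v⁻¹)
    have e : -u ^ 2 * (u⁻¹ + v⁻¹) = -(u / v) := by
      have : u = 1 - v := by rw [← huv]; ring
      field_simp
      rw [this]; ring
    rw [e] at this
    rw [← this]; group
  have e3 : y (1 - u⁻¹) * w 1 * y (1 - v⁻¹) = y (-(v / u)) * x (u / v) * w 1 := by
    have := cj_w_y x y hx hy w hw hB (t := 1) one_ne_zero (1 - v⁻¹)
    have e : -(1:k) ^ 2 * (1 - v⁻¹) = u / v := by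
      have : u = 1 - v := by rw [← huv]; ring
      field_simp
      rw [this]; ring
    have e' : 1 - u⁻¹ = -(v / u) := by
      have : v = 1 - u := by rw [← huv]; ring
      field_simp
      rw [this]; ring
    rw [e] at this
    rw [← this, e']; group
  rw [e2, e3] at e1
  have e4 : w u * w v = x (u / v) * y (-(v / u)) * x (u / v) * w 1 := by
    have : w u * w v = (x (-(u / v)))⁻¹ * (x (-(u / v)) * (w u * w v)) := by group
    rw [this, e1, x_neg x hx, inv_inv]; group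
  rw [e4, hw (u / v), inv_div]

end basic

section symbols

variable {k : Type*} [Field k] {G : Type*} [Group G]
  (x y : k → G) (hx : ∀ a b, x (a + b) = x a * x b) (hy : ∀ a b, y (a + b) = y a * y b)
  (w h : k → G) (hw : ∀ t, w t = x t * y (-t⁻¹) * x t) (hh : ∀ t, h t = w t * (w 1)⁻¹)
  (hB : ∀ t u, t ≠ 0 → w t * x u * (w t)⁻¹ = y (-(t⁻¹) ^ 2 * u))
  (hcen : ∀ t u, t ≠ 0 → u ≠ 0 → ∀ g : G, Commute (h (t * u) * (h t)⁻¹ * (h u)⁻¹) g)

/-- the symbol -/
def sym (h : k → G) (t u : k) : G := h (t * u) * (h t)⁻¹ * (h u)⁻¹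

theorem h_mul (t u : k) : h (t * u) = sym h t u * h u * h t := by
  unfold sym; group

include hh in
theorem sym_one_left (u : k) : sym h 1 u = 1 := by
  unfold sym; rw [one_mul, h_one w h hh]; group

include hh in
theorem sym_one_right (t : k) : sym h t 1 = 1 := by
  unfold sym; rw [mul_one, h_one w h hh]; group

include hh hcen in
/-- the `h(t)` commute, because `k*` is cyclic and the symbols are central -/
theorem h_comm [Finite k] {t u : k} (ht : t ≠ 0) (hu : u ≠ 0) : h t * h u = h u * h t := by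
  classical
  have := Fintype.ofFinite k
  obtain ⟨g, hg⟩ := IsCyclic.exists_generator (α := kˣ)
  set γ : k := (g : k) with hγ
  have hγ0 : γ ≠ 0 := g.ne_zero
  have hpow : ∀ u : k, u ≠ 0 → ∃ a : ℕ, γ ^ a = u := by
    intro u hu
    have h1 : Units.mk0 u hu ∈ Submonoid.powers g := by
      rw [mem_powers_iff_mem_zpowers]; exact hg _
    obtain ⟨a, ha⟩ := h1
    refine ⟨a, ?_⟩
    have := congrArg (fun y : kˣ => (y : k)) ha
    simpa using this
  have key : ∀ n : ℕ, ∃ z : G, (∀ g', Commute z g') ∧ h (γ ^ n) = z * h γ ^ n := by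
    intro n
    induction n with
    | zero => exact ⟨1, fun g' => Commute.one_left g', by rw [pow_zero, h_one w h hh]; simp⟩
    | succ n ih =>
      obtain ⟨z, hz, e⟩ := ih
      refine ⟨sym h (γ ^ n) γ * z, fun g' => (hcen _ _ (pow_ne_zero _ hγ0) hγ0 g').mul_left (hz g'), ?_⟩
      rw [pow_succ, h_mul h (γ ^ n) γ, e, pow_succ']
      have := (hz (h γ)).eq
      calc sym h (γ ^ n) γ * h γ * (z * h γ ^ n) = sym h (γ ^ n) γ * (h γ * z) * h γ ^ n := by group
        _ = sym h (γ ^ n) γ * (z * h γ) * h γ ^ n := by rw [this]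
        _ = sym h (γ ^ n) γ * z * (h γ * h γ ^ n) := by group
  obtain ⟨a, rfl⟩ := hpow t ht
  obtain ⟨b, rfl⟩ := hpow u hu
  obtain ⟨z1, hz1, e1⟩ := key a
  obtain ⟨z2, hz2, e2⟩ := key b
  rw [e1, e2]
  have c1 := (hz2 (h γ ^ a)).eq
  have c2 := (hz1 (h γ ^ b)).eq
  have c3 := (hz1 z2).eq
  have c4 : h γ ^ a * h γ ^ b = h γ ^ b * h γ ^ a := by rw [← pow_add, ← pow_add, add_comm]
  calc z1 * h γ ^ a * (z2 * h γ ^ b) = z1 * (h γ ^ a * z2) * h γ ^ b := by group
    _ = z1 * (z2 * h γ ^ a) * h γ ^ b := by rw [c1]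
    _ = (z1 * z2) * (h γ ^ a * h γ ^ b) := by group
    _ = (z2 * z1) * (h γ ^ b * h γ ^ a) := by rw [c3, c4]
    _ = z2 * (z1 * h γ ^ b) * h γ ^ a := by group
    _ = z2 * (h γ ^ b * z1) * h γ ^ a := by rw [c2]
    _ = z2 * h γ ^ b * (z1 * h γ ^ a) := by group

include hx hy hw hh hB hcen in
theorem sym_sq_left [Finite k] {t u : k} (ht : t ≠ 0) (hu : u ≠ 0) : sym h (t ^ 2) u = 1 := by
  have h1 := cj_h_h x y hx hy w h hw hh hB ht hu
  rw [h_mul h (t ^ 2) u, h_comm w h hh hcen ht hu] at h1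
  have h2 : h u * h t * (h t)⁻¹ = h u := by group
  rw [h2] at h1
  have h3 : sym h (t ^ 2) u * h u * h (t ^ 2) * (h (t ^ 2))⁻¹ = sym h (t ^ 2) u * h u := by group
  rw [h3] at h1
  exact (mul_eq_right.mp h1.symm)

include hh hcen in
theorem sym_comm [Finite k] {t u : k} (ht : t ≠ 0) (hu : u ≠ 0) : sym h t u = sym h u t := by
  have h1 := h_mul h t u
  have h2 := h_mul h u t
  rw [mul_comm u t, h1, mul_assoc, mul_assoc, h_comm w h hh hcen hu ht] at h2
  exact mul_right_cancel h2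

include hcen in
theorem sym_cocycle {t u v : k} (ht : t ≠ 0) (hu : u ≠ 0) (hv : v ≠ 0) :
    sym h (t * u) v * sym h t u = sym h t (u * v) * sym h u v := by
  have h1 : h (t * u * v) = sym h (t * u) v * sym h t u * (h v * h u * h t) := by
    rw [h_mul h (t * u) v, h_mul h t u]
    have c := (hcen t u ht hu (h v)).eq
    have c' : sym h t u * h v = h v * sym h t u := c
    calc sym h (t * u) v * h v * (sym h t u * h u * h t)
        = sym h (t * u) v * (h v * sym h t u) * h u * h t := by group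
      _ = sym h (t * u) v * (sym h t u * h v) * h u * h t := by rw [c']
      _ = sym h (t * u) v * sym h t u * (h v * h u * h t) := by group
  have h2 : h (t * u * v) = sym h t (u * v) * sym h u v * (h v * h u * h t) := by
    rw [mul_assoc t u v, h_mul h t (u * v), h_mul h u v]; group
  rw [h1] at h2
  exact mul_right_cancel h2

include hx hy hw hh hB hcen in
theorem sym_sq_mul_left [Finite k] {s t u : k} (hs : s ≠ 0) (ht : t ≠ 0) (hu : u ≠ 0) :
    sym h (s ^ 2 * t) u = sym h t u := by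
  have h1 := sym_cocycle h hcen (pow_ne_zero 2 hs) ht hu
  rw [sym_sq_left x y hx hy w h hw hh hB hcen hs ht,
    sym_sq_left x y hx hy w h hw hh hB hcen hs (mul_ne_zero ht hu), mul_one, one_mul] at h1
  exact h1

include hx hy hw hh hB hcen in
theorem sym_sq_mul_right [Finite k] {s t u : k} (hs : s ≠ 0) (ht : t ≠ 0) (hu : u ≠ 0) :
    sym h t (s ^ 2 * u) = sym h t u := by
  rw [sym_comm w h hh hcen ht (mul_ne_zero (pow_ne_zero 2 hs) hu),
    sym_sq_mul_left x y hx hy w h hw hh hB hcen hs hu ht, sym_comm w h hh hcen hu ht]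

include hx hy hw hh hB hcen in
theorem sym_of_add_eq_one [Finite k] {u v : k} (hu : u ≠ 0) (hv : v ≠ 0) (huv : u + v = 1) :
    sym h u v = 1 := by
  have e0 := w_mul_w_of_add_eq_one x y hx hy w hw hB hu hv huv
  rw [w_eq_h w h hh u, w_eq_h w h hh v, w_eq_h w h hh (u / v)] at e0
  have e1 : w 1 * h v = h v⁻¹ * w 1 := by
    rw [← cj_w1_h x y hx hy w h hw hh hB hv]; group
  have e2 : h u * h v⁻¹ = h (u / v) := by
    have : h u * w 1 * (h v * w 1) = h u * (w 1 * h v) * w 1 := by group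
    rw [this, e1] at e0
    have e3 : h u * (h v⁻¹ * w 1) * w 1 = h u * h v⁻¹ * (w 1 * w 1) := by group
    have e4 : h (u / v) * w 1 * w 1 = h (u / v) * (w 1 * w 1) := by group
    rw [e3, e4] at e0
    exact mul_right_cancel e0
  have hv' : v⁻¹ ≠ 0 := inv_ne_zero hv
  rw [div_eq_mul_inv, h_mul h u v⁻¹, mul_assoc, h_comm w h hh hcen hv' hu] at e2
  have e5 : sym h u v⁻¹ = 1 := mul_eq_right.mp e2.symm
  have e6 : v = v ^ 2 * v⁻¹ := by field_simp
  rw [e6, sym_sq_mul_right x y hx hy w h hw hh hB hcen hv hu hv', e5]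

end symbols

/-- Steinberg's rank-one symbol argument: over a finite field, relation (C) `h(tu) = h(t)h(u)`
follows from (A), (B') when the symbols are central. -/
theorem rank_one_torus_mul {k : Type*} [Field k] [Finite k] {G : Type*} [Group G]
    (x y : k → G) (hx : ∀ a b, x (a + b) = x a * x b) (hy : ∀ a b, y (a + b) = y a * y b)
    (w h : k → G) (hw : ∀ t, w t = x t * y (-t⁻¹) * x t) (hh : ∀ t, h t = w t * (w 1)⁻¹)
    (hB : ∀ t u, t ≠ 0 → w t * x u * (w t)⁻¹ = y (-(t⁻¹) ^ 2 * u))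
    (hcen : ∀ t u, t ≠ 0 → u ≠ 0 → ∀ g : G, Commute (h (t * u) * (h t)⁻¹ * (h u)⁻¹) g) :
    ∀ t u, t ≠ 0 → u ≠ 0 → h (t * u) = h t * h u := by
  classical
  have := Fintype.ofFinite k
  have hcen' : ∀ t u, t ≠ 0 → u ≠ 0 → ∀ g : G, Commute (h (t * u) * (h t)⁻¹ * (h u)⁻¹) g := hcen
  obtain ⟨g, hg⟩ := IsCyclic.exists_generator (α := kˣ)
  set γ : k := (g : k) with hγ
  have hγ0 : γ ≠ 0 := g.ne_zero
  have hpow : ∀ u : k, u ≠ 0 → ∃ a : ℕ, γ ^ a = u := by
    intro u hu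
    have h1 : Units.mk0 u hu ∈ Submonoid.powers g := by
      rw [mem_powers_iff_mem_zpowers]; exact hg _
    obtain ⟨a, ha⟩ := h1
    refine ⟨a, ?_⟩
    have := congrArg (fun y : kˣ => (y : k)) ha
    simpa using this
  -- reduction modulo squares
  have hred : ∀ a b : ℕ, sym h (γ ^ a) (γ ^ b) = sym h (γ ^ (a % 2)) (γ ^ (b % 2)) := by
    intro a b
    have ea : γ ^ a = (γ ^ (a / 2)) ^ 2 * γ ^ (a % 2) := by
      rw [← pow_mul, ← pow_add]; congr 1; omega
    have eb : γ ^ b = (γ ^ (b / 2)) ^ 2 * γ ^ (b % 2) := by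
      rw [← pow_mul, ← pow_add]; congr 1; omega
    rw [ea, sym_sq_mul_left x y hx hy w h hw hh hB hcen (pow_ne_zero _ hγ0) (pow_ne_zero _ hγ0)
      (pow_ne_zero _ hγ0)]
    conv_lhs => rw [eb]
    rw [sym_sq_mul_right x y hx hy w h hw hh hB hcen (pow_ne_zero _ hγ0) (pow_ne_zero _ hγ0)
      (pow_ne_zero _ hγ0)]
  -- the only possibly nontrivial symbol
  have hγγ : sym h γ γ = 1 := by
    by_cases h2 : ringChar k = 2
    · have : CharP k 2 := ringChar.of_eq h2
      obtain ⟨s, hs⟩ := FiniteField.isSquare_of_char_two (F := k) (by exact h2 ▸ rfl) γ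
      have hs0 : s ≠ 0 := by rintro rfl; rw [mul_zero] at hs; exact hγ0 hs
      have e : γ = s ^ 2 * 1 := by rw [hs]; ring
      have e' : sym h γ γ = sym h (s ^ 2 * 1) γ := by rw [← e]
      rw [e', sym_sq_mul_left x y hx hy w h hw hh hB hcen hs0 one_ne_zero hγ0, sym_one_left w h hh]
    · obtain ⟨ν, hν1, hν2⟩ := Cfsg.Agent.Lib.Helper5.Stb.exists_nonsquare_pair (K := k) h2
      have hν0 : ν ≠ 0 := by rintro rfl; exact hν1 ⟨0, by simp⟩
      have hν0' : 1 - ν ≠ 0 := by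
        intro h'; exact hν2 ⟨0, by simp [h']⟩
      obtain ⟨a, ha⟩ := hpow ν hν0
      obtain ⟨b, hb⟩ := hpow (1 - ν) hν0'
      have h4' := sym_of_add_eq_one x y hx hy w h hw hh hB hcen hν0 hν0' (by ring)
      have h4 : sym h (γ ^ a) (γ ^ b) = 1 := by rw [ha, hb]; exact h4'
      rw [hred] at h4
      have hodd : ∀ (c : ℕ) (z : k), γ ^ c = z → ¬ IsSquare z → c % 2 = 1 := by
        intro c z hc hz
        rcases Nat.mod_two_eq_zero_or_one c with h0 | h1
        · exfalso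
          apply hz
          refine ⟨γ ^ (c / 2), ?_⟩
          rw [← hc, ← pow_add]; congr 1; omega
        · exact h1
      rw [hodd a ν ha hν1, hodd b (1 - ν) hb hν2, pow_one] at h4
      exact h4
  have hall : ∀ t u : k, t ≠ 0 → u ≠ 0 → sym h t u = 1 := by
    intro t u ht hu
    obtain ⟨a, rfl⟩ := hpow t ht
    obtain ⟨b, rfl⟩ := hpow u hu
    rw [hred]
    rcases Nat.mod_two_eq_zero_or_one a with h0 | h1
    · rw [h0, pow_zero, sym_one_left w h hh]
    · rcases Nat.mod_two_eq_zero_or_one b with h0' | h1'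
      · rw [h0', pow_zero, sym_one_right w h hh]
      · rw [h1, h1', pow_one, hγγ]
  intro t u ht hu
  rw [h_mul h t u, hall t u ht hu, one_mul, h_comm w h hh hcen hu ht]

end Cfsg.Agent.Lib.Carve.R1
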