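import Mathlib
import Cfsg.Prelude.Def_Local
import Cfsg.Agent.Lib.Helper4.HallHigman
import Cfsg.Agent.Lib.Helper4.SolvBalance
import Cfsg.Agent.Lib.Helper2.PConstrained
import Cfsg.Agent.Lib.Lead.CoprimeFrattini
import Cfsg.Agent.Lib.Helper9.ExtraTransport
import Cfsg.Agent.Lib.Helper4.FStarQuot2
import Cfsg.Agent.Lib.Lead.Core

set_option autoImplicit false

/-! `G/O_{p',p}(G)` acts faithfully on the Frattini quotient of `O_{p',p}(G)/O_{p'}(G)`. -/

namespace Cfsg.Agent.Lib.Lead.FrattFaith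

open Cfsg

variable {Q : Type*} [Group Q] [Finite Q] {p : ℕ} [Fact p.Prime]

/-- In a `p`-solvable group with `O_{p'} = 1`, an element acting trivially on `R/Φ(R)`, `R = O_p`,
lies in `R`. -/
theorem mem_pCore_of_trivial_on_frattini_quotient (hQ : Cfsg.IsPSolvable p Q)
    (hO : Cfsg.pPrimeCore p Q = ⊥) (g : Q)
    (hg : ∀ x ∈ Cfsg.pCore p Q, g * x * g⁻¹ * x⁻¹ ∈
      (frattini ↥(Cfsg.pCore p Q)).map (Cfsg.pCore p Q).subtype) :
    g ∈ Cfsg.pCore p Q := by
  classical
  set R := Cfsg.pCore p Q with hR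
  haveI hRn : R.Normal := Cfsg.Agent.Lib.Lead.pCore_normal p
  have hRp : IsPGroup p R := Cfsg.Agent.Lib.Lead.pCore_isPGroup p
  set Φ := (frattini ↥R).map R.subtype with hΦ
  haveI hΦn : Φ.Normal := Cfsg.Agent.Lib.Helper4.FStarQuot.frattini_map_subtype_normal R
  have hΦR : Φ ≤ R := by
    rw [hΦ]; intro x hx
    obtain ⟨y, _, rfl⟩ := Subgroup.mem_map.mp hx
    exact y.2
  -- the kernel of the action on R/Φ
  let K : Subgroup Q :=
    { carrier := {k | ∀ x ∈ R, k * x * k⁻¹ * x⁻¹ ∈ Φ}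
      one_mem' := by
        intro x _
        simp only [one_mul, inv_one, mul_one, mul_inv_cancel]
        exact Subgroup.one_mem _
      mul_mem' := by
        intro k l hk hl x hx
        have h1 : l * x * l⁻¹ * x⁻¹ ∈ Φ := hl x hx
        have h2 : k * (l * x * l⁻¹ * x⁻¹) * k⁻¹ ∈ Φ := hΦn.conj_mem _ h1 k
        have h3 : k * x * k⁻¹ * x⁻¹ ∈ Φ := hk x hx
        have : k * l * x * (k * l)⁻¹ * x⁻¹ = (k * (l * x * l⁻¹ * x⁻¹) * k⁻¹) * (k * x * k⁻¹ * x⁻¹) := by
          group
        rw [this]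
        exact Subgroup.mul_mem _ h2 h3
      inv_mem' := by
        intro k hk x hx
        have hy : k⁻¹ * x * k ∈ R := by
          have := hRn.conj_mem x hx k⁻¹
          simpa using this
        have h1 := hk _ hy
        have h2 : k * (k⁻¹ * x * k) * k⁻¹ * (k⁻¹ * x * k)⁻¹ = x * (k⁻¹ * x * k)⁻¹ := by group
        rw [h2] at h1
        have h3 := Subgroup.inv_mem _ h1
        have h4 : (x * (k⁻¹ * x * k)⁻¹)⁻¹ = k⁻¹ * x * k⁻¹⁻¹ * x⁻¹ := by group
        rw [h4] at h3
        exact h3 }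
  have hKmem : ∀ k, k ∈ K ↔ ∀ x ∈ R, k * x * k⁻¹ * x⁻¹ ∈ Φ := fun k => Iff.rfl
  have hKn : K.Normal := by
    constructor
    intro k hk h
    rw [hKmem] at hk ⊢
    intro x hx
    have hy : h⁻¹ * x * h ∈ R := by
      have := hRn.conj_mem x hx h⁻¹
      simpa using this
    have h1 := hk _ hy
    have h2 := hΦn.conj_mem _ h1 h
    have : h * k * h⁻¹ * x * (h * k * h⁻¹)⁻¹ * x⁻¹ =
        h * (k * (h⁻¹ * x * h) * k⁻¹ * (h⁻¹ * x * h)⁻¹) * h⁻¹ := by group
    rw [this]
    exact h2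
  have hcent : Subgroup.centralizer (R : Set Q) ≤ R :=
    Cfsg.Agent.Lib.Helper4.centralizer_pCore_le_of_isPSolvable hQ hO
  -- K is a p-group
  have hKp : IsPGroup p K := by
    rw [IsPGroup]
    rintro ⟨k, hk⟩
    have hk0 : orderOf k ≠ 0 := (orderOf_pos k).ne'
    obtain ⟨a, m, hm, hord⟩ := Nat.exists_eq_pow_mul_and_not_dvd hk0 p (Fact.out : p.Prime).ne_one
    set k' := k ^ (p ^ a) with hk'
    have hk'K : k' ∈ K := Subgroup.pow_mem _ hk _
    have hordk' : orderOf k' = m := by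
      rw [hk', orderOf_pow' k (pow_ne_zero a (Fact.out : p.Prime).ne_zero), hord,
        Nat.gcd_eq_right (Dvd.intro _ rfl)]
      exact Nat.mul_div_cancel_left m (pow_pos (Fact.out : p.Prime).pos a)
    have hcopm : m.Coprime p := by
      rw [Nat.coprime_comm]
      exact (Nat.Prime.coprime_iff_not_dvd Fact.out).mpr hm
    have hA : Subgroup.zpowers k' ≤ Subgroup.centralizer (R : Set Q) := by
      apply Cfsg.Agent.Lib.Lead.coprime_trivial_on_frattini_quotient (Subgroup.zpowers k') R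
      · rw [Subgroup.normalizer_eq_top_iff.mpr hRn]; exact le_top
      · rw [Nat.card_zpowers, hordk']
        have hfp : IsPGroup p (frattini ↥R) := hRp.to_subgroup _
        obtain ⟨n, hn⟩ := IsPGroup.iff_card.mp hfp
        rw [hn]
        exact Nat.Coprime.pow_right n hcopm
      · intro b hb x hx
        have hbK : b ∈ K := by
          have : Subgroup.zpowers k' ≤ K := by
            rw [Subgroup.zpowers_le]; exact hk'K
          exact this hb
        exact hbK x hx
    have hk'R : k' ∈ R := hcent (hA (Subgroup.mem_zpowers k'))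
    have hk'1 : k' = 1 := by
      obtain ⟨n, hn⟩ := hRp ⟨k', hk'R⟩
      have hn' : k' ^ (p ^ n) = 1 := by
        have := congrArg Subtype.val hn
        simpa using this
      have hdvd : orderOf k' ∣ p ^ n := orderOf_dvd_of_pow_eq_one hn'
      rw [hordk'] at hdvd
      have hm1 : m = 1 := by
        have := Nat.Coprime.eq_one_of_dvd (Nat.Coprime.pow_right n hcopm) hdvd
        exact this
      rw [← orderOf_eq_one_iff, hordk', hm1]
    refine ⟨a, ?_⟩
    apply Subtype.ext
    simpa using hk'1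
  have hKR : K ≤ R := Cfsg.Agent.Lib.Lead.le_pCore hKn hKp
  exact hKR ((hKmem g).mpr hg)

end Cfsg.Agent.Lib.Lead.FrattFaith
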