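import Mathlib
import Cfsg.Agent.Lib.Lead.MaxNilp1

set_option autoImplicit false

namespace Cfsg.Agent.Lib.Lead.MaxNilp

open scoped commutatorElement

section
variable {G : Type*} [Group G] [Finite G]

theorem exists_mul_of_sup_eq_top {Z K : Subgroup G} (hKn : K.Normal) (hsup : Z ⊔ K = ⊤) (g : G) :
    ∃ z ∈ Z, ∃ k ∈ K, g = z * k := by
  have hg : g ∈ Z ⊔ K := by rw [hsup]; trivial
  haveI := hKn
  rw [← SetLike.mem_coe, Subgroup.mul_normal] at hg
  obtain ⟨z, hz, k, hk, rfl⟩ := hg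
  exact ⟨z, hz, k, hk, rfl⟩

theorem isNilpotent_coatom_of_prod {p : ℕ} (hp : p.Prime) (Z K : Subgroup G) (hZn : Z.Normal)
    (hKn : K.Normal) (hZK : Z ⊓ K = ⊥) (hsup : Z ⊔ K = ⊤) (hZ : Nat.card Z = p)
    (hK : Cfsg.IsMinimalNonNilpotent K) (hpK : ¬ p ∣ Nat.card K)
    (M : Subgroup G) (hM : IsCoatom M) (hpM : p ∣ Nat.card M) : Group.IsNilpotent M := by
  classical
  haveI : Fact p.Prime := ⟨hp⟩
  have hcomm : ∀ z ∈ Z, ∀ k ∈ K, z * k = k * z := fun z hz k hk =>
    (Subgroup.commute_of_normal_of_disjoint Z K hZn hKn (disjoint_iff.mpr hZK) z k hz hk).eq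
  -- an element of order p in M
  obtain ⟨⟨x, hxM⟩, hx⟩ := exists_prime_orderOf_dvd_card' p hpM
  rw [Subgroup.orderOf_mk] at hx
  -- it lies in Z
  have hxZ : x ∈ Z := by
    obtain ⟨z, hz, k, hk, rfl⟩ := exists_mul_of_sup_eq_top hKn hsup x
    have h1 : (z * k) ^ p = 1 := by rw [← hx]; exact pow_orderOf_eq_one _
    rw [(show Commute z k from hcomm z hz k hk).mul_pow] at h1
    have h2 : k ^ p ∈ Z ⊓ K := by
      refine ⟨?_, K.pow_mem hk p⟩
      have : k ^ p = (z ^ p)⁻¹ := eq_inv_of_mul_eq_one_right h1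
      rw [this]; exact Z.inv_mem (Z.pow_mem hz p)
    rw [hZK, Subgroup.mem_bot] at h2
    have h3 : orderOf k ∣ p := orderOf_dvd_of_pow_eq_one h2
    have h4 : orderOf k ∣ Nat.card K := by
      have := orderOf_dvd_natCard (⟨k, hk⟩ : K)
      rwa [Subgroup.orderOf_mk] at this
    have h5 : orderOf k = 1 := by
      rcases (Nat.dvd_prime hp).mp h3 with h | h
      · exact h
      · exact absurd (h ▸ h4) hpK
    rw [orderOf_eq_one_iff] at h5
    rw [h5, mul_one]; exact hz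
  have hZM : Z ≤ M := by
    have h1 : Subgroup.zpowers x ≤ Z := Subgroup.zpowers_le.mpr hxZ
    have h2 : Subgroup.zpowers x = Z := by
      apply Subgroup.eq_of_le_of_card_ge h1
      rw [Nat.card_zpowers, hx, hZ]
    rw [← h2]; exact Subgroup.zpowers_le.mpr hxM
  have hKM : ¬ K ≤ M := by
    intro h
    apply hM.1
    rw [eq_top_iff, ← hsup]; exact sup_le hZM h
  -- M ⊓ K is nilpotent
  have hMKnil : Group.IsNilpotent ↥(M ⊓ K) := by
    have h1 : (M ⊓ K).subgroupOf K ≠ ⊤ := by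
      intro h
      apply hKM
      rw [Subgroup.subgroupOf_eq_top] at h
      exact h.trans inf_le_left
    have h2 := hK.2 _ h1
    exact (Group.isNilpotent_congr (Subgroup.subgroupOfEquivOfLe (inf_le_right : M ⊓ K ≤ K))).mp h2
  have hZnil : Group.IsNilpotent ↥Z := by
    have : IsPGroup p Z := IsPGroup.of_card (n := 1) (by rw [hZ, pow_one])
    exact this.isNilpotent
  let φ : ↥Z × ↥(M ⊓ K) →* ↥M :=
    MonoidHom.noncommCoprod (Subgroup.inclusion hZM) (Subgroup.inclusion inf_le_left) (by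
      intro z k
      apply Subtype.ext
      exact hcomm z z.2 k k.2.2)
  have hφ : Function.Surjective φ := by
    rintro ⟨m, hm⟩
    obtain ⟨z, hz, k, hk, rfl⟩ := exists_mul_of_sup_eq_top hKn hsup m
    have hkM : k ∈ M := by
      have : k = z⁻¹ * (z * k) := by group
      rw [this]; exact M.mul_mem (M.inv_mem (hZM hz)) hm
    refine ⟨(⟨z, hz⟩, ⟨k, hkM, hk⟩), ?_⟩
    apply Subtype.ext
    rfl
  exact Group.nilpotent_of_surjective φ hφ

end

end Cfsg.Agent.Lib.Lead.MaxNilp
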