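import Mathlib
import Cfsg.Prelude.Def_Local
import Cfsg.Agent.Lib.Helper6.PCore
import Cfsg.Agent.Lib.Helper6.PPrimeCore
import Cfsg.Agent.Lib.Lead.ExpSec1

set_option autoImplicit false

namespace Cfsg.Agent.Lib.Lead.PStabQuot

open scoped commutatorElement
open Cfsg.Agent.Lib.Helper6 Cfsg.Agent.Lib.Lead.ExpSec

section
variable {X : Type*} [Group X]

/-- the automizer condition of `IsPStable`, in terms of subgroups of the ambient group -/
def AutCond (p : ℕ) (A P : Subgroup X) : Prop :=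
  ∃ D : Subgroup X, Subgroup.centralizer (P : Set X) ≤ D ∧ D ≤ Subgroup.normalizer (P : Set X) ∧
    Subgroup.normalizer (P : Set X) ≤ Subgroup.normalizer (D : Set X) ∧
    (∀ d ∈ D, ∃ k : ℕ, d ^ p ^ k ∈ Subgroup.centralizer (P : Set X)) ∧ A ≤ D

theorem autCond_iff (p : ℕ) (A P : Subgroup X) (hAP : A ≤ Subgroup.normalizer (P : Set X)) :
    (A.subgroupOf (Subgroup.normalizer (P : Set X))).map
        (QuotientGroup.mk' ((Subgroup.centralizer (P : Set X)).subgroupOf
          (Subgroup.normalizer (P : Set X))))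
      ≤ Cfsg.pCore p (↥(Subgroup.normalizer (P : Set X)) ⧸
          (Subgroup.centralizer (P : Set X)).subgroupOf (Subgroup.normalizer (P : Set X))) ↔
    AutCond p A P := by
  set N := Subgroup.normalizer (P : Set X) with hN
  set C := Subgroup.centralizer (P : Set X) with hC
  have hCN : C ≤ N := Subgroup.centralizer_le_normalizer _
  set q := QuotientGroup.mk' (C.subgroupOf N) with hq
  constructor
  · intro h
    refine ⟨((Cfsg.pCore p (↥N ⧸ C.subgroupOf N)).comap q).map N.subtype, ?_, ?_, ?_, ?_, ?_⟩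
    · intro c hc
      refine ⟨⟨c, hCN hc⟩, ?_, rfl⟩
      apply Subgroup.mem_comap.mpr
      have : q ⟨c, hCN hc⟩ = 1 := by
        rw [hq, QuotientGroup.mk'_apply, QuotientGroup.eq_one_iff, Subgroup.mem_subgroupOf]
        exact hc
      rw [this]; exact Subgroup.one_mem _
    · exact Subgroup.map_subtype_le _
    · apply le_normalizer_of_conj_mem
      rintro n hn _ ⟨d, hd, rfl⟩
      refine ⟨⟨n, hn⟩ * d * ⟨n, hn⟩⁻¹, ?_, rfl⟩
      have hnorm : ((Cfsg.pCore p (↥N ⧸ C.subgroupOf N)).comap q).Normal :=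
        Subgroup.Normal.comap inferInstance q
      exact hnorm.conj_mem d hd ⟨n, hn⟩
    · rintro _ ⟨d, hd, rfl⟩
      replace hd := Subgroup.mem_comap.mp hd
      obtain ⟨k, hk⟩ := (pCore_isPGroup (G := ↥N ⧸ C.subgroupOf N) p) ⟨q d, hd⟩
      refine ⟨k, ?_⟩
      have h1 : (q d) ^ p ^ k = 1 := by
        have := congrArg Subtype.val hk
        simpa using this
      rw [← map_pow, hq, QuotientGroup.mk'_apply, QuotientGroup.eq_one_iff,
        Subgroup.mem_subgroupOf] at h1
      simpa using h1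
    · intro a ha
      refine ⟨⟨a, hAP ha⟩, ?_, rfl⟩
      apply Subgroup.mem_comap.mpr
      apply h
      exact ⟨⟨a, hAP ha⟩, Subgroup.mem_subgroupOf.mpr ha, rfl⟩
  · rintro ⟨D, hCD, hDN, hND, hpow, hAD⟩
    have hDn : (D.subgroupOf N).Normal := Subgroup.normal_subgroupOf_of_le_normalizer hND
    have hsurj : Function.Surjective q := QuotientGroup.mk'_surjective _
    have h1 : ((D.subgroupOf N).map q).Normal := Subgroup.Normal.map hDn q hsurj
    have h2 : IsPGroup p ((D.subgroupOf N).map q) := by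
      rintro ⟨_, d, hd, rfl⟩
      obtain ⟨k, hk⟩ := hpow d (Subgroup.mem_subgroupOf.mp hd)
      refine ⟨k, ?_⟩
      apply Subtype.ext
      simp only [Subgroup.coe_pow, Subgroup.coe_one]
      rw [← map_pow, hq, QuotientGroup.mk'_apply, QuotientGroup.eq_one_iff,
        Subgroup.mem_subgroupOf]
      simpa using hk
    refine le_trans ?_ (le_pCore h1 h2)
    apply Subgroup.map_mono
    intro a ha
    rw [Subgroup.mem_subgroupOf] at ha ⊢
    exact hAD ha

/-- an element normalising `P` that centralises the image of `P` modulo a normal subgroup meeting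
`P` trivially centralises `P` -/
theorem mem_centralizer_of_map (K P : Subgroup X) [K.Normal] (hPK : P ⊓ K = ⊥) {g : X}
    (hg : g ∈ Subgroup.normalizer (P : Set X))
    (hc : QuotientGroup.mk' K g ∈
      Subgroup.centralizer ((P.map (QuotientGroup.mk' K) : Subgroup (X ⧸ K)) : Set (X ⧸ K))) :
    g ∈ Subgroup.centralizer (P : Set X) := by
  rw [Subgroup.mem_centralizer_iff]
  intro u hu
  have h1 : g * u * g⁻¹ ∈ P := (Subgroup.mem_normalizer_iff.mp hg u).mp hu
  have h2 : g * u * g⁻¹ * u⁻¹ ∈ P := P.mul_mem h1 (P.inv_mem hu)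
  have h3 : g * u * g⁻¹ * u⁻¹ ∈ K := by
    rw [← QuotientGroup.eq_one_iff, ← QuotientGroup.mk'_apply]
    have := Subgroup.mem_centralizer_iff.mp hc (QuotientGroup.mk' K u) ⟨u, hu, rfl⟩
    simp only [map_mul, map_inv]
    rw [← this]; group
  have h4 : g * u * g⁻¹ * u⁻¹ ∈ P ⊓ K := ⟨h2, h3⟩
  rw [hPK, Subgroup.mem_bot] at h4
  calc u * g = (g * u * g⁻¹ * u⁻¹)⁻¹ * (g * u) := by group
    _ = g * u := by rw [h4, inv_one, one_mul]

/-- pulling the automizer condition back from a quotient -/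
theorem autCond_of_quotient (p : ℕ) (K A P : Subgroup X) [K.Normal] (hPK : P ⊓ K = ⊥)
    (hAP : A ≤ Subgroup.normalizer (P : Set X))
    (h : AutCond p (A.map (QuotientGroup.mk' K)) (P.map (QuotientGroup.mk' K))) :
    AutCond p A P := by
  obtain ⟨D, hCD, hDN, hND, hpow, hAD⟩ := h
  set π := QuotientGroup.mk' K with hπ
  refine ⟨Subgroup.normalizer (P : Set X) ⊓ D.comap π, ?_, inf_le_left, ?_, ?_, ?_⟩
  · intro c hc
    refine Subgroup.mem_inf.mpr ⟨Subgroup.centralizer_le_normalizer _ hc, ?_⟩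
    apply Subgroup.mem_comap.mpr
    apply hCD
    rw [Subgroup.mem_centralizer_iff]
    rintro _ ⟨u, hu, rfl⟩
    rw [← map_mul, ← map_mul, Subgroup.mem_centralizer_iff.mp hc u hu]
  · apply le_normalizer_of_conj_mem
    intro n hn d hd
    refine Subgroup.mem_inf.mpr ⟨?_, ?_⟩
    · exact Subgroup.mul_mem _ (Subgroup.mul_mem _ hn hd.1) (Subgroup.inv_mem _ hn)
    · apply Subgroup.mem_comap.mpr
      rw [map_mul, map_mul, map_inv]
      have h1 : π n ∈ Subgroup.normalizer ((P.map π : Subgroup (X ⧸ K)) : Set (X ⧸ K)) :=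
        Subgroup.le_normalizer_map π ⟨n, hn, rfl⟩
      exact (Subgroup.mem_normalizer_iff.mp (hND h1) (π d)).mp hd.2
  · intro d hd
    obtain ⟨k, hk⟩ := hpow (π d) hd.2
    refine ⟨k, ?_⟩
    apply mem_centralizer_of_map K P hPK (Subgroup.pow_mem _ hd.1 _)
    rw [map_pow]; exact hk
  · intro a ha
    exact Subgroup.mem_inf.mpr ⟨hAP ha, Subgroup.mem_comap.mpr (hAD ⟨a, ha, rfl⟩)⟩

end

end Cfsg.Agent.Lib.Lead.PStabQuot
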