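import Mathlib
import Cfsg.Agent.Lib.Lead.PStabQuot1
import Cfsg.Agent.Lib.Lead.CoprimeTools
import Cfsg.Agent.Lib.Lead.HallTools
import Cfsg.Agent.Lib.Lead.MaxNilp2

set_option autoImplicit false

namespace Cfsg.Agent.Lib.Lead.PStabQuot

open scoped commutatorElement
open Cfsg.Agent.Lib.Helper6 Cfsg.Agent.Lib.Lead.ExpSec Cfsg.Agent.Lib.Lead

section
variable {G : Type*} [Group G] [Finite G] {p : ℕ} [hp : Fact p.Prime]

/-- Frattini argument for a `p`-subgroup `P` with `K P` normal, `K` a normal `p'`-subgroup -/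
theorem exists_mul_of_sup_normal (K P : Subgroup G) [hKn : K.Normal] (hP : IsPGroup p P)
    (hK : (Nat.card K).Coprime p) (hn : (K ⊔ P).Normal) (g : G) :
    ∃ n ∈ Subgroup.normalizer (P : Set G), ∃ k ∈ K, g = n * k := by
  classical
  set M := K ⊔ P with hM
  have hPM : P ≤ M := le_sup_right
  have hPK : P ⊓ K = ⊥ := isPGroup_inf_coprime_eq_bot hK hP
  have hPnK : P ≤ Subgroup.normalizer (K : Set G) := by
    rw [Subgroup.normalizer_eq_top_iff.mpr hKn]; exact le_top
  have hcard : Nat.card M = Nat.card P * Nat.card K := by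
    have := card_sup_of_disjoint P K hPnK hPK
    rwa [sup_comm] at this
  have hrel : Nat.card (P.subgroupOf M) * (P.subgroupOf M).index = Nat.card M :=
    Subgroup.card_mul_index _
  rw [card_subgroupOf_of_le hPM, hcard] at hrel
  have hidx : (P.subgroupOf M).index = Nat.card K :=
    Nat.eq_of_mul_eq_mul_left Nat.card_pos hrel
  have hndvd : ¬ p ∣ (P.subgroupOf M).index := by
    rw [hidx]
    exact (Nat.Prime.coprime_iff_not_dvd hp.out).mp hK.symm
  let S : Sylow p M := (hP.comap_subtype (K := M)).toSylow hndvd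
  have hS : ((S : Subgroup M).map M.subtype) = P := Subgroup.map_subgroupOf_eq_of_le hPM
  haveI := hn
  have hfr := Sylow.normalizer_sup_eq_top S
  rw [hS] at hfr
  obtain ⟨n, hn', m, hm, rfl⟩ := MaxNilp.exists_mul_of_sup_eq_top hn hfr g
  have hm' : m ∈ P ⊔ K := by rw [sup_comm]; exact hm
  rw [← SetLike.mem_coe, Subgroup.mul_normal] at hm'
  obtain ⟨u, hu, k, hk, rfl⟩ := hm'
  refine ⟨n * u, Subgroup.mul_mem _ hn' (Subgroup.le_normalizer hu), k, hk, by group⟩

end

section
variable {G : Type*} [Group G]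

theorem pCore_le_pPrimePCore (p : ℕ) : Cfsg.pCore p G ≤ Cfsg.pPrimePCore p G := by
  unfold Cfsg.pPrimePCore
  intro x hx
  rw [Subgroup.mem_comap]
  have h1 : ((Cfsg.pCore p G).map (QuotientGroup.mk' (Cfsg.pPrimeCore p G))).Normal :=
    Subgroup.Normal.map inferInstance _ (QuotientGroup.mk'_surjective _)
  have h2 : IsPGroup p ((Cfsg.pCore p G).map (QuotientGroup.mk' (Cfsg.pPrimeCore p G))) :=
    (pCore_isPGroup p).map _
  exact le_pCore h1 h2 ⟨x, hx, rfl⟩

theorem pPrimePCore_le_pCore_of_pPrimeCore_eq_bot (p : ℕ) (h : Cfsg.pPrimeCore p G = ⊥) :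
    Cfsg.pPrimePCore p G ≤ Cfsg.pCore p G := by
  have hn : (Cfsg.pPrimePCore p G).Normal := by
    unfold Cfsg.pPrimePCore
    exact Subgroup.Normal.comap inferInstance _
  apply le_pCore hn
  intro ⟨x, hx⟩
  unfold Cfsg.pPrimePCore at hx
  rw [Subgroup.mem_comap] at hx
  obtain ⟨k, hk⟩ := (pCore_isPGroup (G := G ⧸ Cfsg.pPrimeCore p G) p) ⟨_, hx⟩
  refine ⟨k, ?_⟩
  have h1 : (QuotientGroup.mk' (Cfsg.pPrimeCore p G) x) ^ p ^ k = 1 := by
    have := congrArg Subtype.val hk
    simpa using this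
  rw [← map_pow, QuotientGroup.mk'_apply, QuotientGroup.eq_one_iff, h, Subgroup.mem_bot] at h1
  exact Subtype.ext h1

variable [Finite G]

/-- the `p'`-core of `G / O_{p'}(G)` is trivial -/
theorem pPrimeCore_quotient_eq_bot (p : ℕ) [Fact p.Prime] :
    Cfsg.pPrimeCore p (G ⧸ Cfsg.pPrimeCore p G) = ⊥ := by
  set K := Cfsg.pPrimeCore p G with hK
  set π := QuotientGroup.mk' K with hπ
  set L := (Cfsg.pPrimeCore p (G ⧸ K)).comap π with hL
  have hLn : L.Normal := Subgroup.Normal.comap inferInstance _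
  have hKL : K ≤ L := by
    intro x hx
    apply Subgroup.mem_comap.mpr
    have : π x = 1 := by
      rw [hπ, QuotientGroup.mk'_apply, QuotientGroup.eq_one_iff]; exact hx
    rw [this]; exact Subgroup.one_mem _
  have hmap : L.map π = Cfsg.pPrimeCore p (G ⧸ K) :=
    Subgroup.map_comap_eq_self_of_surjective (QuotientGroup.mk'_surjective K) _
  have hcard : Nat.card L = Nat.card (L.map π) * Nat.card K := by
    have h1 := card_map_mul_card_inf_ker π L
    rw [QuotientGroup.ker_mk', inf_eq_right.mpr hKL] at h1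
    exact h1.symm
  have hcop : (Nat.card L).Coprime p := by
    rw [hcard, hmap]
    exact Nat.Coprime.mul_left (pPrimeCore_coprime p) (pPrimeCore_coprime p)
  have hLK : L ≤ K := le_pPrimeCore hLn hcop
  rw [eq_bot_iff, ← hmap]
  rintro _ ⟨x, hx, rfl⟩
  rw [Subgroup.mem_bot, hπ, QuotientGroup.mk'_apply, QuotientGroup.eq_one_iff]
  exact hLK hx

end

end Cfsg.Agent.Lib.Lead.PStabQuot
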