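import Mathlib
import Cfsg.Agent.Lib.Helper2.G2LDefs
import Cfsg.Agent.Lib.Helper6.PCore
import Cfsg.Agent.Lib.Helper6.PPrimeCore

set_option autoImplicit false

/-!
# S3801 package A : group theory of `lowSub` (elementwise criterion)
-/

namespace Cfsg.Agent.Lib.Lead.G2LA

open Cfsg Cfsg.Agent.Lib.Helper2.G2L

universe u

section tools

variable {G : Type*} [Group G]

/-- an element whose order is both odd and a power of `2` is trivial -/
theorem eq_one_of_odd_of_two {x : G} (ho : Odd (orderOf x)) (h2 : ∃ k : ℕ, orderOf x = 2 ^ k) :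
    x = 1 := by
  obtain ⟨k, hk⟩ := h2
  rcases k with _ | k
  · exact orderOf_eq_one_iff.1 (by simpa using hk)
  · rw [hk] at ho
    exact absurd ho (by simp [pow_succ])

theorem two_pow_of_dvd {n k : ℕ} (h : n ∣ 2 ^ k) : ∃ j : ℕ, n = 2 ^ j := by
  obtain ⟨j, -, hj⟩ := (Nat.dvd_prime_pow Nat.prime_two).1 h
  exact ⟨j, hj⟩

/-- `2`-part / odd part decomposition -/
theorem two_odd_decomp [Finite G] (g : G) :
    ∃ u v : G, u ∈ Subgroup.zpowers g ∧ v ∈ Subgroup.zpowers g ∧ g = u * v ∧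
      (∃ k : ℕ, orderOf u = 2 ^ k) ∧ Odd (orderOf v) := by
  have hn : orderOf g ≠ 0 := (orderOf_pos g).ne'
  obtain ⟨k, m, hm, hkm⟩ := Nat.exists_eq_two_pow_mul_odd hn
  have hcop : Nat.Coprime (2 ^ k) m := Nat.Coprime.pow_left k (Nat.coprime_two_left.mpr hm)
  obtain ⟨a, b, hab⟩ := Nat.isCoprime_iff_coprime.mpr hcop
  refine ⟨g ^ (b * (m : ℤ)), g ^ (a * ((2 ^ k : ℕ) : ℤ)), ⟨_, rfl⟩, ⟨_, rfl⟩, ?_, ?_, ?_⟩
  · rw [← zpow_add, add_comm, hab, zpow_one]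
  · have h1 : (g ^ (b * (m : ℤ))) ^ (2 ^ k) = 1 := by
      rw [← zpow_natCast, ← zpow_mul]
      have : b * (m : ℤ) * ((2 ^ k : ℕ) : ℤ) = b * ((orderOf g : ℕ) : ℤ) := by
        rw [hkm]; push_cast; ring
      rw [this, zpow_mul', zpow_natCast, pow_orderOf_eq_one, one_zpow]
    exact two_pow_of_dvd (orderOf_dvd_of_pow_eq_one h1)
  · have h1 : (g ^ (a * ((2 ^ k : ℕ) : ℤ))) ^ m = 1 := by
      rw [← zpow_natCast, ← zpow_mul]
      have : a * ((2 ^ k : ℕ) : ℤ) * (m : ℤ) = a * ((orderOf g : ℕ) : ℤ) := by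
        rw [hkm]; push_cast; ring
      rw [this, zpow_mul', zpow_natCast, pow_orderOf_eq_one, one_zpow]
    exact Odd.of_dvd_nat hm (orderOf_dvd_of_pow_eq_one h1)

theorem orderOf_map_zpowers_dvd {G' : Type*} [Group G'] (f : G →* G') {y u : G}
    (hu : u ∈ Subgroup.zpowers y) : orderOf (f u) ∣ orderOf (f y) := by
  obtain ⟨z, rfl⟩ := hu
  rw [map_zpow]
  exact orderOf_dvd_of_pow_eq_one (by rw [← zpow_natCast, ← zpow_mul, mul_comm, zpow_mul,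
    zpow_natCast, pow_orderOf_eq_one, one_zpow])

/-- lifting elements of odd order -/
theorem exists_odd_lift [Finite G] {G' : Type*} [Group G'] (f : G →* G') (y : G)
    (h : Odd (orderOf (f y))) : ∃ y' ∈ Subgroup.zpowers y, f y' = f y ∧ Odd (orderOf y') := by
  obtain ⟨u, v, hu, hv, huv, ⟨k, hk⟩, hvo⟩ := two_odd_decomp y
  refine ⟨v, hv, ?_, hvo⟩
  have hfu : f u = 1 := by
    apply eq_one_of_odd_of_two
    · exact Odd.of_dvd_nat h (orderOf_map_zpowers_dvd f hu)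
    · exact two_pow_of_dvd (hk ▸ orderOf_map_dvd f u)
  conv_rhs => rw [huv, map_mul, hfu, one_mul]

/-- lifting `2`-elements -/
theorem exists_two_lift [Finite G] {G' : Type*} [Group G'] (f : G →* G') (y : G)
    (h : ∃ k : ℕ, orderOf (f y) = 2 ^ k) :
    ∃ y' ∈ Subgroup.zpowers y, f y' = f y ∧ ∃ k : ℕ, orderOf y' = 2 ^ k := by
  obtain ⟨u, v, hu, hv, huv, hk, hvo⟩ := two_odd_decomp y
  refine ⟨u, hu, ?_, hk⟩
  have hfv : f v = 1 := by
    apply eq_one_of_odd_of_two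
    · exact Odd.of_dvd_nat hvo (orderOf_map_dvd f v)
    · obtain ⟨k, hk'⟩ := h
      exact two_pow_of_dvd (hk' ▸ orderOf_map_zpowers_dvd f hv)
  conv_rhs => rw [huv, map_mul, hfv, mul_one]

theorem isPGroup_two_of_odd [Finite G] (Y : Subgroup G)
    (h : ∀ y ∈ Y, Odd (orderOf y) → y = 1) : IsPGroup 2 Y := by
  rintro ⟨y, hy⟩
  obtain ⟨u, v, hu, hv, huv, ⟨k, hk⟩, hvo⟩ := two_odd_decomp y
  have hvY : v ∈ Y := (Subgroup.zpowers_le.2 hy) hv
  have hv1 := h v hvY hvo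
  refine ⟨k, Subtype.ext ?_⟩
  have : y = u := by rw [huv, hv1, mul_one]
  simp only [Subgroup.coe_pow, Subgroup.coe_one]
  rw [this, ← hk, pow_orderOf_eq_one]

theorem coprime_two_of_two [Finite G] (Y : Subgroup G)
    (h : ∀ y ∈ Y, (∃ k : ℕ, orderOf y = 2 ^ k) → y = 1) : (Nat.card Y).Coprime 2 := by
  rw [Nat.coprime_two_right]
  by_contra hc
  have h2 : 2 ∣ Nat.card Y := (Nat.not_odd_iff_even.1 hc).two_dvd
  have : Fact (Nat.Prime 2) := ⟨Nat.prime_two⟩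
  obtain ⟨x, hx⟩ := exists_prime_orderOf_dvd_card' 2 h2
  have hx' : orderOf (x : G) = 2 := by rw [Subgroup.orderOf_coe]; exact hx
  have := h x x.2 ⟨1, by rw [hx', pow_one]⟩
  rw [this, orderOf_one] at hx'
  exact absurd hx' (by norm_num)

theorem le_pCore_two [Finite G] {Y : Subgroup G} (hY : Y.Normal)
    (h : ∀ y ∈ Y, Odd (orderOf y) → y = 1) : Y ≤ pCore 2 G :=
  Helper6.le_pCore hY (isPGroup_two_of_odd Y h)

theorem le_pPrimeCore_two [Finite G] {Y : Subgroup G} (hY : Y.Normal)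
    (h : ∀ y ∈ Y, (∃ k : ℕ, orderOf y = 2 ^ k) → y = 1) : Y ≤ pPrimeCore 2 G :=
  Helper6.le_pPrimeCore hY (coprime_two_of_two Y h)

theorem eq_one_of_mem_pCore_odd {y : G} (hy : y ∈ pCore 2 G) (ho : Odd (orderOf y)) : y = 1 := by
  obtain ⟨k, hk⟩ := Helper6.pCore_isPGroup (G := G) 2 ⟨y, hy⟩
  have hk' : y ^ 2 ^ k = 1 := by
    have := congrArg Subtype.val hk
    simpa using this
  exact eq_one_of_odd_of_two ho (two_pow_of_dvd (orderOf_dvd_of_pow_eq_one hk'))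

theorem eq_one_of_mem_pPrimeCore_two [Finite G] {b : G} (hb : b ∈ pPrimeCore 2 G)
    (h2 : ∃ k : ℕ, orderOf b = 2 ^ k) : b = 1 := by
  have hc : (Nat.card (pPrimeCore 2 G)).Coprime 2 := Helper6.pPrimeCore_coprime 2
  rw [Nat.coprime_two_right] at hc
  have hd : orderOf b ∣ Nat.card (pPrimeCore 2 G) := by
    have := orderOf_dvd_natCard (⟨b, hb⟩ : pPrimeCore 2 G)
    rwa [← Subgroup.orderOf_coe] at this
  exact eq_one_of_odd_of_two (Odd.of_dvd_nat hc hd) h2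

/-- the image of a normal subgroup lies in `O_2` when the odd-order elements die -/
theorem map_le_pCore_two [Finite G] {G' : Type*} [Group G'] [Finite G'] (f : G →* G')
    (hf : Function.Surjective f) {Y : Subgroup G} (hY : Y.Normal)
    (h : ∀ y ∈ Y, Odd (orderOf y) → f y = 1) : Y.map f ≤ pCore 2 G' := by
  apply le_pCore_two (hY.map f hf)
  rintro z ⟨y, hy, rfl⟩ ho
  obtain ⟨y', hy', he, ho'⟩ := exists_odd_lift f y ho
  rw [← he]
  exact h y' ((Subgroup.zpowers_le.2 hy) hy') ho'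

/-- the image of a normal subgroup lies in `O_{2'}` when the `2`-elements die -/
theorem map_le_pPrimeCore_two [Finite G] {G' : Type*} [Group G'] [Finite G'] (f : G →* G')
    (hf : Function.Surjective f) {Y : Subgroup G} (hY : Y.Normal)
    (h : ∀ y ∈ Y, (∃ k : ℕ, orderOf y = 2 ^ k) → f y = 1) : Y.map f ≤ pPrimeCore 2 G' := by
  apply le_pPrimeCore_two (hY.map f hf)
  rintro z ⟨y, hy, rfl⟩ ho
  obtain ⟨y', hy', he, ho'⟩ := exists_two_lift f y ho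
  rw [← he]
  exact h y' ((Subgroup.zpowers_le.2 hy) hy') ho'

end tools

section A

variable {H : Type u} [Group H] [Finite H]

/-- the three projections -/
noncomputable abbrev pr1 (N : Subgroup H) [N.Normal] : H →* H ⧸ N := QuotientGroup.mk' N

noncomputable abbrev pr2 (N : Subgroup H) [N.Normal] : H →* (H ⧸ N) ⧸ pCore 2 (H ⧸ N) :=
  (QuotientGroup.mk' (pCore 2 (H ⧸ N))).comp (pr1 N)

noncomputable abbrev pr3 (N : Subgroup H) [N.Normal] :
    H →* ((H ⧸ N) ⧸ pCore 2 (H ⧸ N)) ⧸ pPrimeCore 2 ((H ⧸ N) ⧸ pCore 2 (H ⧸ N)) :=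
  (QuotientGroup.mk' (pPrimeCore 2 ((H ⧸ N) ⧸ pCore 2 (H ⧸ N)))).comp (pr2 N)

theorem pr1_surjective (N : Subgroup H) [N.Normal] : Function.Surjective (pr1 N) :=
  QuotientGroup.mk'_surjective N

theorem pr2_surjective (N : Subgroup H) [N.Normal] : Function.Surjective (pr2 N) :=
  (QuotientGroup.mk'_surjective _).comp (pr1_surjective N)

theorem pr3_surjective (N : Subgroup H) [N.Normal] : Function.Surjective (pr3 N) :=
  (QuotientGroup.mk'_surjective _).comp (pr2_surjective N)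

theorem mem_lowSub_iff (N : Subgroup H) [N.Normal] (x : H) :
    x ∈ lowSub N ↔ pr3 N x ∈ pCore 2 _ := Iff.rfl

theorem pr1_eq_one_iff (N : Subgroup H) [N.Normal] (x : H) : pr1 N x = 1 ↔ x ∈ N :=
  QuotientGroup.eq_one_iff x

theorem pr2_eq_one_iff (N : Subgroup H) [N.Normal] (x : H) :
    pr2 N x = 1 ↔ pr1 N x ∈ pCore 2 (H ⧸ N) :=
  QuotientGroup.eq_one_iff _

theorem pr3_eq_one_iff (N : Subgroup H) [N.Normal] (x : H) :
    pr3 N x = 1 ↔ pr2 N x ∈ pPrimeCore 2 ((H ⧸ N) ⧸ pCore 2 (H ⧸ N)) :=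
  QuotientGroup.eq_one_iff _

/-- A1 -/
theorem le_lowSub_of_series (N : Subgroup H) [N.Normal] (A B X : Subgroup H)
    (hA : A.Normal) (hB : B.Normal) (hX : X.Normal) (hNA : N ≤ A) (hAB : A ≤ B) (hBX : B ≤ X)
    (h1 : ∀ a ∈ A, Odd (orderOf a) → a ∈ N)
    (h2 : ∀ b ∈ B, (∃ k : ℕ, orderOf b = 2 ^ k) → b ∈ A)
    (h3 : ∀ y ∈ X, Odd (orderOf y) → y ∈ B) : X ≤ lowSub N := by
  have s1 : A.map (pr1 N) ≤ pCore 2 (H ⧸ N) :=
    map_le_pCore_two (pr1 N) (pr1_surjective N) hA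
      (fun a ha ho => (pr1_eq_one_iff N a).2 (h1 a ha ho))
  have s2 : B.map (pr2 N) ≤ pPrimeCore 2 _ :=
    map_le_pPrimeCore_two (pr2 N) (pr2_surjective N) hB
      (fun b hb ho => (pr2_eq_one_iff N b).2 (s1 (Subgroup.mem_map_of_mem _ (h2 b hb ho))))
  have s3 : X.map (pr3 N) ≤ pCore 2 _ :=
    map_le_pCore_two (pr3 N) (pr3_surjective N) hX
      (fun x hx ho => (pr3_eq_one_iff N x).2 (s2 (Subgroup.mem_map_of_mem _ (h3 x hx ho))))
  intro x hx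
  exact (mem_lowSub_iff N x).2 (s3 (Subgroup.mem_map_of_mem _ hx))

/-- A2 -/
theorem lowSub_series (N : Subgroup H) [N.Normal] :
    ∃ A B : Subgroup H, A.Normal ∧ B.Normal ∧ (lowSub N).Normal ∧ N ≤ A ∧ A ≤ B ∧ B ≤ lowSub N ∧
      (∀ a ∈ A, Odd (orderOf a) → a ∈ N) ∧
      (∀ b ∈ B, (∃ k : ℕ, orderOf b = 2 ^ k) → b ∈ A) ∧
      (∀ y ∈ lowSub N, Odd (orderOf y) → y ∈ B) := by
  refine ⟨(pCore 2 (H ⧸ N)).comap (pr1 N), (pPrimeCore 2 _).comap (pr2 N), ?_, ?_, ?_, ?_, ?_, ?_,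
    ?_, ?_, ?_⟩
  · exact Subgroup.Normal.comap inferInstance _
  · exact Subgroup.Normal.comap inferInstance _
  · have : lowSub N = (pCore 2 _).comap (pr3 N) := rfl
    rw [this]
    exact Subgroup.Normal.comap inferInstance _
  · intro x hx
    rw [Subgroup.mem_comap, (pr1_eq_one_iff N x).2 hx]
    exact one_mem _
  · intro x hx
    rw [Subgroup.mem_comap] at hx ⊢
    rw [(pr2_eq_one_iff N x).2 hx]
    exact one_mem _
  · intro x hx
    rw [Subgroup.mem_comap] at hx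
    rw [mem_lowSub_iff, (pr3_eq_one_iff N x).2 hx]
    exact one_mem _
  · intro a ha ho
    rw [Subgroup.mem_comap] at ha
    exact (pr1_eq_one_iff N a).1
      (eq_one_of_mem_pCore_odd ha (Odd.of_dvd_nat ho (orderOf_map_dvd _ a)))
  · intro b hb ⟨k, hk⟩
    rw [Subgroup.mem_comap] at hb ⊢
    exact (pr2_eq_one_iff N b).1
      (eq_one_of_mem_pPrimeCore_two hb (two_pow_of_dvd (hk ▸ orderOf_map_dvd _ b)))
  · intro y hy ho
    rw [mem_lowSub_iff] at hy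
    rw [Subgroup.mem_comap]
    exact (pr3_eq_one_iff N y).1
      (eq_one_of_mem_pCore_odd hy (Odd.of_dvd_nat ho (orderOf_map_dvd _ y)))

instance lowSub_normal (N : Subgroup H) [N.Normal] : (lowSub N).Normal := by
  obtain ⟨A, B, -, -, h, -⟩ := lowSub_series N
  exact h

/-- A3 -/
theorem lowSub_inf_le (N N₁ N₂ : Subgroup H) [N.Normal] [N₁.Normal] [N₂.Normal]
    (h1 : N ≤ N₁) (h2 : N ≤ N₂) (hodd : ∀ a ∈ N₁ ⊓ N₂, Odd (orderOf a) → a ∈ N) :
    lowSub N₁ ⊓ lowSub N₂ ≤ lowSub N := by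
  obtain ⟨A₁, B₁, hA₁, hB₁, hX₁, hNA₁, hAB₁, hBX₁, ha₁, hb₁, hx₁⟩ := lowSub_series N₁
  obtain ⟨A₂, B₂, hA₂, hB₂, hX₂, hNA₂, hAB₂, hBX₂, ha₂, hb₂, hx₂⟩ := lowSub_series N₂
  refine le_lowSub_of_series N (A₁ ⊓ A₂) (B₁ ⊓ B₂) (lowSub N₁ ⊓ lowSub N₂) inferInstance
    inferInstance inferInstance (le_inf (h1.trans hNA₁) (h2.trans hNA₂))
    (inf_le_inf hAB₁ hAB₂) (inf_le_inf hBX₁ hBX₂) ?_ ?_ ?_
  · intro a ha ho
    exact hodd a ⟨ha₁ a ha.1 ho, ha₂ a ha.2 ho⟩ ho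
  · intro b hb ho
    exact ⟨hb₁ b hb.1 ho, hb₂ b hb.2 ho⟩
  · intro y hy ho
    exact ⟨hx₁ y hy.1 ho, hx₂ y hy.2 ho⟩

/-- the elements all of whose conjugates lie in a subgroup `Y₀` of `H₀` -/
def coreOf (H₀ : Subgroup H) (Y₀ : Subgroup H₀) : Subgroup H where
  carrier := {h | ∀ x : H, ∃ hx : x⁻¹ * h * x ∈ H₀, (⟨_, hx⟩ : H₀) ∈ Y₀}
  one_mem' := by
    intro x
    have h1 : x⁻¹ * 1 * x = 1 := by group
    have h0 : x⁻¹ * 1 * x ∈ H₀ := by rw [h1]; exact one_mem _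
    refine ⟨h0, ?_⟩
    have : (⟨x⁻¹ * 1 * x, h0⟩ : H₀) = 1 := Subtype.ext h1
    rw [this]; exact one_mem _
  mul_mem' := by
    intro a b ha hb x
    obtain ⟨hax, hay⟩ := ha x
    obtain ⟨hbx, hby⟩ := hb x
    have h1 : x⁻¹ * (a * b) * x = (x⁻¹ * a * x) * (x⁻¹ * b * x) := by group
    have h0 : x⁻¹ * (a * b) * x ∈ H₀ := by rw [h1]; exact mul_mem hax hbx
    refine ⟨h0, ?_⟩
    have : (⟨x⁻¹ * (a * b) * x, h0⟩ : H₀) = ⟨_, hax⟩ * ⟨_, hbx⟩ :=
      Subtype.ext h1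
    rw [this]; exact mul_mem hay hby
  inv_mem' := by
    intro a ha x
    obtain ⟨hax, hay⟩ := ha x
    have h1 : x⁻¹ * a⁻¹ * x = (x⁻¹ * a * x)⁻¹ := by group
    have h0 : x⁻¹ * a⁻¹ * x ∈ H₀ := by rw [h1]; exact inv_mem hax
    refine ⟨h0, ?_⟩
    have : (⟨x⁻¹ * a⁻¹ * x, h0⟩ : H₀) = (⟨_, hax⟩ : H₀)⁻¹ := Subtype.ext h1
    rw [this]; exact inv_mem hay

theorem mem_coreOf {H₀ : Subgroup H} {Y₀ : Subgroup H₀} {h : H} :
    h ∈ coreOf H₀ Y₀ ↔ ∀ x : H, ∃ hx : x⁻¹ * h * x ∈ H₀, (⟨_, hx⟩ : H₀) ∈ Y₀ := Iff.rfl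

theorem coreOf_normal (H₀ : Subgroup H) (Y₀ : Subgroup H₀) : (coreOf H₀ Y₀).Normal := by
  constructor
  intro n hn g x
  obtain ⟨h1, h2⟩ := hn (g⁻¹ * x)
  have e : x⁻¹ * (g * n * g⁻¹) * x = (g⁻¹ * x)⁻¹ * n * (g⁻¹ * x) := by group
  have h0 : x⁻¹ * (g * n * g⁻¹) * x ∈ H₀ := by rw [e]; exact h1
  refine ⟨h0, ?_⟩
  have : (⟨x⁻¹ * (g * n * g⁻¹) * x, h0⟩ : H₀) = ⟨_, h1⟩ := Subtype.ext e
  rw [this]; exact h2

theorem coreOf_mono (H₀ : Subgroup H) {Y₀ Z₀ : Subgroup H₀} (h : Y₀ ≤ Z₀) :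
    coreOf H₀ Y₀ ≤ coreOf H₀ Z₀ := by
  intro a ha x
  obtain ⟨h1, h2⟩ := ha x
  exact ⟨h1, h h2⟩

theorem orderOf_conj' (x a : H) : orderOf (x⁻¹ * a * x) = orderOf a := by
  have : x⁻¹ * a * x = MulAut.conj x⁻¹ a := by rw [MulAut.conj_apply, inv_inv]
  rw [this, MulEquiv.orderOf_eq]

/-- A4 -/
theorem mem_lowSub_of_conj (N : Subgroup H) [N.Normal] (H₀ : Subgroup H) (N₀ : Subgroup H₀)
    [N₀.Normal]
    (hN : ∀ h : H, (∀ x : H, ∃ hx : x⁻¹ * h * x ∈ H₀, (⟨_, hx⟩ : H₀) ∈ N₀) → h ∈ N)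
    (hN' : ∀ h ∈ N, ∀ x : H, ∃ hx : x⁻¹ * h * x ∈ H₀, (⟨_, hx⟩ : H₀) ∈ N₀)
    (t : H) (ht : ∀ x : H, ∃ hx : x⁻¹ * t * x ∈ H₀, (⟨_, hx⟩ : H₀) ∈ lowSub N₀) :
    t ∈ lowSub N := by
  obtain ⟨A₀, B₀, hA₀, hB₀, hX₀, hNA₀, hAB₀, hBX₀, ha₀, hb₀, hx₀⟩ := lowSub_series N₀
  have key : coreOf H₀ (lowSub N₀) ≤ lowSub N := by
    refine le_lowSub_of_series N (coreOf H₀ A₀) (coreOf H₀ B₀) (coreOf H₀ (lowSub N₀))
      (coreOf_normal _ _) (coreOf_normal _ _) (coreOf_normal _ _) ?_ (coreOf_mono _ hAB₀)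
      (coreOf_mono _ hBX₀) ?_ ?_ ?_
    · intro h hh x
      obtain ⟨h1, h2⟩ := hN' h hh x
      exact ⟨h1, hNA₀ h2⟩
    · intro a ha ho
      apply hN
      intro x
      obtain ⟨h1, h2⟩ := ha x
      refine ⟨h1, ha₀ _ h2 ?_⟩
      rw [← Subgroup.orderOf_coe]
      simpa [orderOf_conj'] using ho
    · intro b hb ho x
      obtain ⟨h1, h2⟩ := hb x
      refine ⟨h1, hb₀ _ h2 ?_⟩
      rw [← Subgroup.orderOf_coe]
      simpa [orderOf_conj'] using ho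
    · intro y hy ho x
      obtain ⟨h1, h2⟩ := hy x
      refine ⟨h1, hx₀ _ h2 ?_⟩
      rw [← Subgroup.orderOf_coe]
      simpa [orderOf_conj'] using ho
  exact key ht

/-- A7 -/
theorem pPrimePCore_series :
    (∀ y ∈ pPrimePCore 2 H, Odd (orderOf y) → y ∈ pPrimeCore 2 H) ∧
      (∀ b ∈ pPrimeCore 2 H, (∃ k : ℕ, orderOf b = 2 ^ k) → b = 1) := by
  refine ⟨?_, fun b hb h2 => eq_one_of_mem_pPrimeCore_two hb h2⟩
  intro y hy ho
  have hy' : QuotientGroup.mk' (pPrimeCore 2 H) y ∈ pCore 2 (H ⧸ pPrimeCore 2 H) := hy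
  exact (QuotientGroup.eq_one_iff y).1
    (eq_one_of_mem_pCore_odd hy'
      (Odd.of_dvd_nat ho (orderOf_map_dvd (QuotientGroup.mk' (pPrimeCore 2 H)) y)))

/-- A6 -/
theorem le_pPrimePCore_of_series (B X : Subgroup H) (hB : B.Normal) (hX : X.Normal)
    (hBX : B ≤ X) (h2 : ∀ b ∈ B, (∃ k : ℕ, orderOf b = 2 ^ k) → b = 1)
    (h3 : ∀ y ∈ X, Odd (orderOf y) → y ∈ B) : X ≤ pPrimePCore 2 H := by
  have s1 : B ≤ pPrimeCore 2 H := le_pPrimeCore_two hB h2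
  have s2 : X.map (QuotientGroup.mk' (pPrimeCore 2 H)) ≤ pCore 2 _ :=
    map_le_pCore_two _ (QuotientGroup.mk'_surjective _) hX
      (fun x hx ho => (QuotientGroup.eq_one_iff x).2 (s1 (h3 x hx ho)))
  intro x hx
  exact s2 (Subgroup.mem_map_of_mem _ hx)

/-- A5 -/
theorem lowSub_bot_le_pPrimePCore (h : pCore 2 H = ⊥) :
    lowSub (⊥ : Subgroup H) ≤ pPrimePCore 2 H := by
  obtain ⟨A, B, hA, hB, hX, hNA, hAB, hBX, ha, hb, hx⟩ := lowSub_series (⊥ : Subgroup H)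
  have hA1 : A = ⊥ := by
    rw [eq_bot_iff, ← h]
    exact le_pCore_two hA (fun a ha' ho => (Subgroup.mem_bot.1 (ha a ha' ho)))
  refine le_pPrimePCore_of_series B (lowSub ⊥) hB hX hBX ?_ hx
  intro b hb' ho
  have := hb b hb' ho
  rw [hA1] at this
  exact Subgroup.mem_bot.1 this

/-- A9 -/
theorem pPrimePCore_le_lowSub_bot : pPrimePCore 2 H ≤ lowSub (⊥ : Subgroup H) := by
  have hn : (pPrimePCore 2 H).Normal := by
    unfold pPrimePCore
    exact Subgroup.Normal.comap inferInstance _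
  have hle : pPrimeCore 2 H ≤ pPrimePCore 2 H := by
    intro x hx
    show QuotientGroup.mk' (pPrimeCore 2 H) x ∈ pCore 2 _
    have h1 : QuotientGroup.mk' (pPrimeCore 2 H) x = 1 := (QuotientGroup.eq_one_iff x).2 hx
    rw [h1]
    exact one_mem _
  refine le_lowSub_of_series ⊥ ⊥ (pPrimeCore 2 H) (pPrimePCore 2 H) inferInstance inferInstance hn
    le_rfl bot_le hle ?_ ?_ ?_
  · intro a ha _
    exact ha
  · intro b hb ho
    exact Subgroup.mem_bot.2 (pPrimePCore_series.2 b hb ho)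
  · intro y hy ho
    exact pPrimePCore_series.1 y hy ho

/-- A8 -/
theorem lowSub_comap_of_surjective {H' : Type u} [Group H'] (f : H →* H')
    (hf : Function.Surjective f) (N' : Subgroup H') [N'.Normal] :
    lowSub (N'.comap f) = (lowSub N').comap f := by
  have : Finite H' := Finite.of_surjective f hf
  apply le_antisymm
  · obtain ⟨A, B, hA, hB, hX, hNA, hAB, hBX, ha, hb, hx⟩ := lowSub_series (N'.comap f)
    have key : (lowSub (N'.comap f)).map f ≤ lowSub N' := by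
      refine le_lowSub_of_series N' (A.map f) (B.map f) ((lowSub (N'.comap f)).map f)
        (hA.map f hf) (hB.map f hf) (hX.map f hf) ?_ (Subgroup.map_mono hAB)
        (Subgroup.map_mono hBX) ?_ ?_ ?_
      · intro x hx'
        obtain ⟨y, rfl⟩ := hf x
        exact Subgroup.mem_map_of_mem f (hNA hx')
      · rintro z ⟨a, haA, rfl⟩ ho
        obtain ⟨a', ha', he, ho'⟩ := exists_odd_lift f a ho
        rw [← he]
        exact ha a' ((Subgroup.zpowers_le.2 haA) ha') ho'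
      · rintro z ⟨b, hbB, rfl⟩ ho
        obtain ⟨b', hb', he, ho'⟩ := exists_two_lift f b ho
        rw [← he]
        exact Subgroup.mem_map_of_mem f (hb b' ((Subgroup.zpowers_le.2 hbB) hb') ho')
      · rintro z ⟨y, hyX, rfl⟩ ho
        obtain ⟨y', hy', he, ho'⟩ := exists_odd_lift f y ho
        rw [← he]
        exact Subgroup.mem_map_of_mem f (hx y' ((Subgroup.zpowers_le.2 hyX) hy') ho')
    exact Subgroup.map_le_iff_le_comap.1 key
  · obtain ⟨A, B, hA, hB, hX, hNA, hAB, hBX, ha, hb, hx⟩ := lowSub_series N'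
    refine le_lowSub_of_series (N'.comap f) (A.comap f) (B.comap f) ((lowSub N').comap f)
      (hA.comap f) (hB.comap f) (hX.comap f) (Subgroup.comap_mono hNA) (Subgroup.comap_mono hAB)
      (Subgroup.comap_mono hBX) ?_ ?_ ?_
    · intro a haA ho
      exact ha (f a) haA (Odd.of_dvd_nat ho (orderOf_map_dvd f a))
    · intro b hbB ⟨k, hk⟩
      exact hb (f b) hbB (two_pow_of_dvd (hk ▸ orderOf_map_dvd f b))
    · intro y hyX ho
      exact hx (f y) hyX (Odd.of_dvd_nat ho (orderOf_map_dvd f y))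

end A

end Cfsg.Agent.Lib.Lead.G2LA
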