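import Mathlib
import Cfsg.Agent.Lib.Helper2.G2LDefs
import Cfsg.Agent.Lib.Lead.G2LA

set_option autoImplicit false

/-!
# S3801 package D1 : the reducible case (`step_reducible`)
-/

namespace Cfsg.Agent.Lib.Lead.G2LD1

open Cfsg Cfsg.Agent.Lib.Helper2.G2L

universe u v

section intertwine

variable {K : Type*} [Field K] {M M' : Type*} [AddCommGroup M] [Module K M] [AddCommGroup M']
  [Module K M']

theorem pow_intertwine (f : M →ₗ[K] M') (A : Module.End K M) (B : Module.End K M')
    (h : ∀ x, f (A x) = B (f x)) (k : ℕ) (x : M) : f ((A ^ k) x) = (B ^ k) (f x) := by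
  induction k generalizing x with
  | zero => simp
  | succ k ih => rw [pow_succ, pow_succ, Module.End.mul_apply, Module.End.mul_apply, ih, h]

theorem sub_one_intertwine (f : M →ₗ[K] M') (A : Module.End K M) (B : Module.End K M')
    (h : ∀ x, f (A x) = B (f x)) (x : M) : f ((A - 1) x) = (B - 1) (f x) := by
  simp [LinearMap.sub_apply, h]

theorem exc_of_injective (f : M →ₗ[K] M') (hf : Function.Injective f) (A : Module.End K M)
    (B : Module.End K M') (h : ∀ x, f (A x) = B (f x)) (n : ℕ) (hB : Exc B n) : Exc A n := by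
  refine ⟨?_, ?_⟩
  · ext x
    apply hf
    rw [pow_intertwine f A B h, hB.1]
    simp
  · ext x
    apply hf
    rw [pow_intertwine f (A - 1) (B - 1) (sub_one_intertwine f A B h), hB.2]
    simp

theorem exc_of_surjective (f : M →ₗ[K] M') (hf : Function.Surjective f) (A : Module.End K M)
    (B : Module.End K M') (h : ∀ x, f (A x) = B (f x)) (n : ℕ) (hA : Exc A n) : Exc B n := by
  refine ⟨?_, ?_⟩
  · ext y
    obtain ⟨x, rfl⟩ := hf y
    rw [← pow_intertwine f A B h, hA.1]
    simp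
  · ext y
    obtain ⟨x, rfl⟩ := hf y
    rw [← pow_intertwine f (A - 1) (B - 1) (sub_one_intertwine f A B h), hA.2]
    simp

end intertwine

section D

variable (K : Type*) [Field K] [CharP K 2]

/-- an element of odd order whose square lies in a subgroup lies in the subgroup -/
theorem mem_of_sq_mem_of_odd {H : Type*} [Group H] (N : Subgroup H) (a : H) (ho : Odd (orderOf a))
    (h2 : a ^ 2 ∈ N) : a ∈ N := by
  obtain ⟨m, hm⟩ := ho
  have : a = (a ^ 2) ^ (m + 1) := by
    rw [← pow_mul, show 2 * (m + 1) = orderOf a + 1 by omega, pow_succ, pow_orderOf_eq_one, one_mul]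
  rw [this]
  exact pow_mem h2 _

/-- D1 : reducible case -/
theorem step_reducible (d : ℕ) (ih : ∀ d' < d, RStmt.{u, v} K d')
    (H : Type u) [Group H] [Finite H] (V : Type v) [AddCommGroup V] [Module K V]
    [FiniteDimensional K V] (ρ : Representation K H V) (hd : Module.finrank K V = d)
    (hH : Group.IsSolvable H) (W : Submodule K V) (hW : ∀ h : H, ∀ w ∈ W, ρ h w ∈ W)
    (hW0 : W ≠ ⊥) (hW1 : W ≠ ⊤) (g : H) (n : ℕ) (hn : 1 ≤ n) (hg : Exc (ρ g) n) :
    g ^ 2 ^ (n - 1) ∈ lowSub (MonoidHom.ker ρ) := by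
  have hle : ∀ h : H, W ≤ W.comap (ρ h) := fun h w hw => hW h w hw
  set ρ₁ : Representation K H W := ρ.subrepresentation W hle with hρ₁
  set ρ₂ : Representation K H (V ⧸ W) := ρ.quotient W hle with hρ₂
  -- dimensions
  have hd1 : Module.finrank K W < d := by
    rw [← hd]; exact Submodule.finrank_lt hW1
  have hd2 : Module.finrank K (V ⧸ W) < d := by
    have h1 := Submodule.finrank_quotient_add_finrank W
    have h2 : 1 ≤ Module.finrank K W := Submodule.one_le_finrank_iff.2 hW0
    omega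
  -- `Exc` passes to both
  have he1 : Exc (ρ₁ g) n :=
    exc_of_injective W.subtype W.subtype_injective (ρ₁ g) (ρ g) (fun x => rfl) n hg
  have he2 : Exc (ρ₂ g) n :=
    exc_of_surjective W.mkQ W.mkQ_surjective (ρ g) (ρ₂ g) (fun x => rfl) n hg
  have m1 := ih _ hd1 H W ρ₁ rfl hH g n hn he1
  have m2 := ih _ hd2 H (V ⧸ W) ρ₂ rfl hH g n hn he2
  -- kernels
  have k1 : MonoidHom.ker ρ ≤ MonoidHom.ker ρ₁ := by
    intro a ha
    rw [MonoidHom.mem_ker] at ha ⊢
    ext w
    show ((ρ a) (w : V)) = (w : V)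
    rw [ha]; rfl
  have k2 : MonoidHom.ker ρ ≤ MonoidHom.ker ρ₂ := by
    intro a ha
    rw [MonoidHom.mem_ker] at ha ⊢
    ext v
    show W.mkQ ((ρ a) v) = W.mkQ v
    rw [ha]; rfl
  refine G2LA.lowSub_inf_le (MonoidHom.ker ρ) (MonoidHom.ker ρ₁) (MonoidHom.ker ρ₂) k1 k2 ?_
    ⟨m1, m2⟩
  intro a ha ho
  apply mem_of_sq_mem_of_odd _ a ho
  rw [MonoidHom.mem_ker, map_pow]
  have a1 : ∀ w ∈ W, ρ a w = w := by
    intro w hw
    have := (MonoidHom.mem_ker.1 ha.1)
    have h3 := congrArg (fun T : Module.End K W => ((T ⟨w, hw⟩ : W) : V)) this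
    exact h3
  have a2 : ∀ v : V, ρ a v - v ∈ W := by
    intro v
    have := (MonoidHom.mem_ker.1 ha.2)
    have h3 := congrArg (fun T : Module.End K (V ⧸ W) => T (W.mkQ v)) this
    have h4 : W.mkQ (ρ a v) = W.mkQ v := h3
    rw [← sub_eq_zero, ← map_sub] at h4
    exact (Submodule.Quotient.mk_eq_zero W).1 h4
  ext v
  have h5 : ρ a (ρ a v - v) = ρ a v - v := a1 _ (a2 v)
  rw [map_sub] at h5
  have h6 : (2 : K) • (ρ a v - v) = 0 := by
    rw [CharP.ofNat_eq_zero K 2, zero_smul]
  have h7 : ρ a (ρ a v) = ρ a v - v + ρ a v := by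
    rw [sub_eq_iff_eq_add] at h5; exact h5
  rw [pow_two, Module.End.mul_apply, h7, Module.End.one_apply]
  rw [two_smul] at h6
  have : ρ a v - v + ρ a v = (ρ a v - v + (ρ a v - v)) + v := by abel
  rw [this, h6, zero_add]

end D

end Cfsg.Agent.Lib.Lead.G2LD1
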