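import Mathlib
import Cfsg.Agent.Lib.Helper2.G2LDefs
import Cfsg.Agent.Lib.Helper7.WtOrbA

set_option autoImplicit false

/-!
# S3801 package B1 : a finite `2`-group in characteristic `2` fixes a nonzero vector
-/

namespace Cfsg.Agent.Lib.Lead.G2LB1

open Cfsg

universe u v

variable {K : Type*} [Field K] [CharP K 2] {H : Type u} [Group H] [Finite H]
  {V : Type v} [AddCommGroup V] [Module K V] [FiniteDimensional K V]

omit [FiniteDimensional K V] in
/-- B1 : a finite `2`-group acting on a nonzero space in characteristic `2` has a nonzero fixed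
vector -/
theorem exists_fixed_of_two_group [Nontrivial V] (ρ : Representation K H V) (hH : IsPGroup 2 H) :
    ∃ v : V, v ≠ 0 ∧ ∀ h : H, ρ h v = v := by
  have : Fact (Nat.Prime 2) := ⟨Nat.prime_two⟩
  have hT : IsPGroup 2 (⊤ : Subgroup H) := hH.to_subgroup ⊤
  have hN : (⊤ : Submodule K V) ≠ ⊥ := top_ne_bot
  obtain ⟨v, -, hv0, hv⟩ := Cfsg.Agent.Lib.Helper7.WtOrb.exists_fixed_ne_zero 2 ρ ⊤ hT ⊤ hN
    (fun _ _ _ _ => Submodule.mem_top)
  exact ⟨v, hv0, fun h => hv h (Subgroup.mem_top h)⟩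

end Cfsg.Agent.Lib.Lead.G2LB1
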