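import Mathlib
import Cfsg.Agent.Lib.Helper4.PPDefs
import Cfsg.Agent.Lib.Helper4.HH13
import Cfsg.Agent.Lib.Helper4.PPF1
import Cfsg.Agent.Lib.Lead.CoprimeAction

set_option autoImplicit false

/-! S3793 (Shult–Gross), package M-F2: from the minimal configuration over an algebraically closed
field (`pp_min_closed`, Helper4.PPF1) to the module theorem `MTStatement` (adaptation of
Helper4.HH11–HH13 to prime-power order with a fixed-point-free action on `Q`). -/
set_option linter.unusedVariables false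
set_option linter.unusedSectionVars false

namespace Cfsg.Agent.Lib.Lead.PPMF2

open Module Cfsg.Agent.Lib.Helper4.FM Cfsg.Agent.Lib.Helper4.HH Cfsg.Agent.Lib.Helper4.PP
  Cfsg.Agent.Lib.Helper4.PPF1

open scoped commutatorElement

universe u


section MF

variable {k : Type*} [Field k] {A : Type u} [Group A] [Finite A] {V : Type*} [AddCommGroup V]
  [Module k V] [FiniteDimensional k V]

theorem card_zpowers_cast_ne_zero (x : A) (p N : ℕ) (hp : p.Prime) (hx : x ^ (p ^ N) = 1)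
    (hpk : (p : k) ≠ 0) : (Nat.card (Subgroup.zpowers x) : k) ≠ 0 := by
  rw [Nat.card_zpowers]
  obtain ⟨j, _, hj⟩ := (Nat.dvd_prime_pow hp).1 (orderOf_dvd_of_pow_eq_one hx)
  rw [hj, Nat.cast_pow]
  exact pow_ne_zero _ hpk

theorem pp_min (ρ : Representation k A V) (hρ : Function.Injective ρ)
    (Q : Subgroup A) [hQn : Q.Normal] (x : A) (p q n : ℕ) (hp : p.Prime) (hp2 : p ≠ 2)
    (hq : q.Prime) (hqp : q ≠ p) (hQ : IsPGroup q Q) (hx : x ^ (p ^ (n + 1)) = 1)
    (hgen : ∀ S : Subgroup A, Q ≤ S → x ∈ S → S = ⊤)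
    (hqk : (q : k) ≠ 0) (hpk : (p : k) ≠ 0)
    (hfpf : ∀ m ∈ Q, x * m = m * x → m = 1)
    (hmin : ∀ P : Subgroup A, P ≤ Q → (∀ m ∈ P, x * m * x⁻¹ ∈ P) → P ≠ Q →
      ∀ m ∈ P, x ^ (p ^ n) * m = m * x ^ (p ^ n))
    (hnc : ∃ u ∈ Q, x ^ (p ^ n) * u ≠ u * x ^ (p ^ n))
    (H4 : inv ρ (Subgroup.zpowers x) = ⊥) : False := by
  have hqK : ((q : ℕ) : AlgebraicClosure k) ≠ 0 := cast_card_ne_zero_bc (AlgebraicClosure k) q hqk
  have hpK : ((p : ℕ) : AlgebraicClosure k) ≠ 0 := cast_card_ne_zero_bc (AlgebraicClosure k) p hpk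
  have hXk : (Nat.card (Subgroup.zpowers x) : k) ≠ 0 :=
    card_zpowers_cast_ne_zero x p (n + 1) hp hx hpk
  have H4σ : inv (bc (AlgebraicClosure k) ρ) (Subgroup.zpowers x) = ⊥ := by
    rw [inv_bc (AlgebraicClosure k) ρ _ hXk, H4, Submodule.baseChange_bot]
  have hσ : ∀ m : A, bc (AlgebraicClosure k) ρ m = 1 → m = 1 := by
    intro m hm
    have h1 : ρ m = 1 := by
      have h2 : (ρ m).baseChange (AlgebraicClosure k) =
          (1 : V →ₗ[k] V).baseChange (AlgebraicClosure k) :=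
        hm.trans (LinearMap.baseChange_one k V).symm
      exact LinearMap.baseChangeHom_injective k V (AlgebraicClosure k) h2
    exact hρ (by rw [h1, map_one])
  exact pp_min_closed (bc (AlgebraicClosure k) ρ) Q hσ x p q n hp hp2 hq hqp hQ hx hgen hqK hpK
    hfpf hmin hnc H4σ

theorem pp_faith (ρ : Representation k A V) (hρ : Function.Injective ρ) (x : A) (p q n : ℕ)
    (hp : p.Prime) (hp2 : p ≠ 2) (hq : q.Prime) (hqp : q ≠ p) (hx : x ^ (p ^ (n + 1)) = 1)
    (hqk : (q : k) ≠ 0) (hpk : (p : k) ≠ 0) (H4 : ∀ v : V, ρ x v = v → v = 0) :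
    ∀ (N : ℕ) (Q : Subgroup A), Nat.card Q = N → IsPGroup q Q → (∀ m ∈ Q, x * m * x⁻¹ ∈ Q) →
      (∀ m ∈ Q, x * m = m * x → m = 1) →
      ∀ m ∈ Q, x ^ (p ^ n) * m = m * x ^ (p ^ n) := by
  intro N
  induction N using Nat.strong_induction_on with
  | _ N ih =>
  intro Q hcard hQ hxQ hfpf
  by_contra hcon
  push Not at hcon
  obtain ⟨u, hu, hxu⟩ := hcon
  have hminA : ∀ P : Subgroup A, P ≤ Q → (∀ m ∈ P, x * m * x⁻¹ ∈ P) → P ≠ Q →
      ∀ m ∈ P, x ^ (p ^ n) * m = m * x ^ (p ^ n) := by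
    intro P hPQ hxP hne
    have hlt : Nat.card P < N := by
      rw [← hcard]
      by_contra hle
      push Not at hle
      exact hne (Subgroup.eq_of_le_of_card_ge hPQ hle)
    exact ih _ hlt P rfl (hQ.to_le hPQ) hxP (fun m hm => hfpf m (hPQ hm))
  -- pass to the subgroup generated by `Q` and `x`
  set L : Subgroup A := Q ⊔ Subgroup.zpowers x with hL
  have hxL : x ∈ L := Subgroup.mem_sup_right (Subgroup.mem_zpowers x)
  have hQL : Q ≤ L := le_sup_left
  have hr : 0 < p ^ (n + 1) := pow_pos hp.pos _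
  have hzn : ∀ e ∈ Subgroup.zpowers x, ∀ m ∈ Q, e * m * e⁻¹ ∈ Q := by
    have hnorm : x ∈ Subgroup.normalizer (Q : Set A) := by
      rw [Subgroup.mem_normalizer_iff]
      intro m
      constructor
      · exact hxQ m
      · intro hm
        have := conj_inv_mem Q x (p ^ (n + 1)) hr hx hxQ _ hm
        have e : x⁻¹ * (x * m * x⁻¹) * x = m := by group
        rwa [e] at this
    have hle : Subgroup.zpowers x ≤ Subgroup.normalizer (Q : Set A) :=
      (Subgroup.zpowers_le).2 hnorm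
    exact (le_norm_iff _ _).1 hle
  haveI hQn : (Q.subgroupOf L).Normal := normal_subgroupOf_sup Q (Subgroup.zpowers x) hzn
  let ρ₁ : Representation k ↥L V := ρ.comp L.subtype
  have hρ₁ : Function.Injective ρ₁ := by
    intro a b hab
    exact Subtype.ext (hρ hab)
  refine pp_min ρ₁ hρ₁ (Q.subgroupOf L) ⟨x, hxL⟩ p q n hp hp2 hq hqp hQ.comap_subtype
    (by apply Subtype.ext; rw [Subgroup.coe_pow]; exact hx)
    (by
      intro S hQS hxS
      rw [eq_top_iff]
      intro g _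
      have hle : L ≤ S.map L.subtype := by
        apply sup_le
        · intro m hm
          exact ⟨⟨m, hQL hm⟩, hQS (Subgroup.mem_subgroupOf.2 hm), rfl⟩
        · rw [Subgroup.zpowers_le]
          exact ⟨⟨x, hxL⟩, hxS, rfl⟩
      obtain ⟨g', hg', hgg'⟩ := hle g.2
      have : g' = g := Subtype.ext hgg'
      rwa [this] at hg')
    hqk hpk
    (by
      intro m hm hc
      have h1 := hfpf (m : A) (Subgroup.mem_subgroupOf.1 hm) (congrArg Subtype.val hc)
      exact Subtype.ext h1)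
    (by
      intro P₁ hP₁ hxP₁ hne m hm
      have hP : P₁.map L.subtype ≤ Q := by
        rintro _ ⟨p, hp, rfl⟩
        exact Subgroup.mem_subgroupOf.1 (hP₁ hp)
      have hxP : ∀ m ∈ P₁.map L.subtype, x * m * x⁻¹ ∈ P₁.map L.subtype := by
        rintro _ ⟨p, hp, rfl⟩
        exact ⟨_, hxP₁ p hp, rfl⟩
      have hne' : P₁.map L.subtype ≠ Q := by
        intro h
        apply hne
        rw [← Subgroup.comap_map_eq_self_of_injective L.subtype_injective P₁, h]
        rfl
      have := hminA _ hP hxP hne' (m : A) ⟨m, hm, rfl⟩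
      exact Subtype.ext this)
    ⟨⟨u, hQL hu⟩, Subgroup.mem_subgroupOf.2 hu, by
      intro h
      exact hxu (congrArg Subtype.val h)⟩
    (by
      rw [Submodule.eq_bot_iff]
      intro v hv
      exact H4 v (hv ⟨x, hxL⟩ (Subgroup.mem_zpowers _)))

end MF

section rep

variable {k : Type*} [Field k] {A : Type u} [Group A] [Finite A] {V : Type*} [AddCommGroup V]
  [Module k V] [FiniteDimensional k V]

theorem pp_rep (ρ : Representation k A V) (x : A) (p q n : ℕ)
    (hp : p.Prime) (hp2 : p ≠ 2) (hq : q.Prime) (hqp : q ≠ p)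
    (hxp : ∃ N : ℕ, x ^ (p ^ N) = 1) (hx : ρ (x ^ (p ^ (n + 1))) = 1)
    (hqk : (q : k) ≠ 0) (hpk : (p : k) ≠ 0) (H4 : ∀ v : V, ρ x v = v → v = 0)
    (Q : Subgroup A) (hQ : IsPGroup q Q) (hxQ : ∀ m ∈ Q, x * m * x⁻¹ ∈ Q)
    (hfpf : ∀ m ∈ Q, x * m = m * x → m = 1) :
    ∀ m ∈ Q, Commute (ρ (x ^ (p ^ n))) (ρ m) := by
  obtain ⟨N, hN⟩ := hxp
  let f : A →* ↥ρ.asGroupHom.range := ρ.asGroupHom.rangeRestrict
  haveI : Finite ↥ρ.asGroupHom.range :=
    Finite.of_surjective f ρ.asGroupHom.rangeRestrict_surjective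
  let ρ' : Representation k ↥ρ.asGroupHom.range V :=
    (Units.coeHom (Module.End k V)).comp ρ.asGroupHom.range.subtype
  have hρ'f : ∀ a : A, ρ' (f a) = ρ a := fun a => rfl
  have hρ' : Function.Injective ρ' := by
    intro a b hab
    apply Subtype.ext
    apply Units.ext
    exact hab
  have hf1 : ∀ a : A, f a = 1 ↔ ρ a = 1 := by
    intro a
    constructor
    · intro h
      rw [← hρ'f, h, map_one]
    · intro h
      apply hρ'
      rw [hρ'f, h, map_one]
  -- the coprime action of `⟨x⟩` on `Q`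
  have hzn : Subgroup.zpowers x ≤ Subgroup.normalizer (Q : Set A) := by
    rw [Subgroup.zpowers_le, Subgroup.mem_normalizer_iff]
    intro m
    constructor
    · exact hxQ m
    · intro hm
      have := conj_inv_mem Q x (p ^ N) (pow_pos hp.pos _) hN hxQ _ hm
      have e : x⁻¹ * (x * m * x⁻¹) * x = m := by group
      rwa [e] at this
  have hcop : (Nat.card (Subgroup.zpowers x)).Coprime (Nat.card Q) := by
    rw [Nat.card_zpowers]
    obtain ⟨j, _, hj⟩ := (Nat.dvd_prime_pow hp).1 (orderOf_dvd_of_pow_eq_one hN)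
    haveI : Fact q.Prime := ⟨hq⟩
    obtain ⟨i, hi⟩ := IsPGroup.iff_card.1 hQ
    rw [hj, hi]
    apply Nat.Coprime.pow
    exact (Nat.coprime_primes hp hq).2 (Ne.symm hqp)
  set Nk : Subgroup A := Q ⊓ f.ker with hNk
  have hNkn : ∀ g : A, ∀ y ∈ Nk, (g ∈ Subgroup.normalizer (Q : Set A)) → g * y * g⁻¹ ∈ Nk := by
    intro g y hy hg
    refine ⟨(Subgroup.mem_normalizer_iff.1 hg y).1 hy.1, ?_⟩
    show g * y * g⁻¹ ∈ f.ker
    rw [MonoidHom.mem_ker, map_mul, map_mul, (MonoidHom.mem_ker).1 hy.2, mul_one, map_inv,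
      mul_inv_cancel]
  have hfpf' : ∀ m ∈ Q.map f, f x * m = m * f x → m = 1 := by
    rintro _ ⟨m, hm, rfl⟩ hc
    -- every power of `x` commutes with `m` modulo the kernel
    have hpow : ∀ a ∈ Subgroup.zpowers x, a * m * a⁻¹ * m⁻¹ ∈ Nk := by
      intro a ha
      have haQ : a * m * a⁻¹ ∈ Q := (Subgroup.mem_normalizer_iff.1 (hzn ha) m).1 hm
      refine ⟨Q.mul_mem haQ (Q.inv_mem hm), ?_⟩
      show a * m * a⁻¹ * m⁻¹ ∈ f.ker
      obtain ⟨i, rfl⟩ := ha
      have hci : f (x ^ i) * f m = f m * f (x ^ i) := by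
        rw [map_zpow]
        exact ((Commute.zpow_left (show Commute (f x) (f m) from hc)) i).eq
      rw [MonoidHom.mem_ker, map_mul, map_mul, map_mul, hci, map_inv, map_inv]
      group
    obtain ⟨c, hc1, hc2⟩ := Cfsg.Agent.Lib.Lead.coprime_fixed_coset (Subgroup.zpowers x) Q hzn hcop
      (Or.inl inferInstance) Nk inf_le_left
      (by
        intro g hg
        rw [Subgroup.mem_normalizer_iff]
        intro y
        have hgn : g ∈ Subgroup.normalizer (Q : Set A) := Subgroup.le_normalizer hg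
        constructor
        · intro hy
          exact hNkn g y hy hgn
        · intro hy
          have := hNkn g⁻¹ _ hy (Subgroup.inv_mem _ hgn)
          have e : g⁻¹ * (g * y * g⁻¹) * g⁻¹⁻¹ = y := by group
          rwa [e] at this)
      (by
        intro g hg
        rw [Subgroup.mem_normalizer_iff]
        intro y
        have hgn : g ∈ Subgroup.normalizer (Q : Set A) := hzn hg
        constructor
        · intro hy
          exact hNkn g y hy hgn
        · intro hy
          have := hNkn g⁻¹ _ hy (Subgroup.inv_mem _ hgn)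
          have e : g⁻¹ * (g * y * g⁻¹) * g⁻¹⁻¹ = y := by group
          rwa [e] at this)
      m hm hpow
    have hc0 : c = 1 := hfpf c hc1.1 (by
      have := (Subgroup.mem_centralizer_iff.1 hc1.2) x (Subgroup.mem_zpowers x)
      exact this)
    rw [hc0, mul_one] at hc2
    have := (MonoidHom.mem_ker).1 hc2.2
    rw [map_inv, inv_eq_one] at this
    exact this
  have hmain := pp_faith ρ' hρ' (f x) p q n hp hp2 hq hqp
    (by rw [← map_pow, hf1]; exact hx) hqk hpk
    (fun v hv => H4 v hv) _ (Q.map f) rfl (hQ.map f)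
    (by
      rintro _ ⟨m, hm, rfl⟩
      exact ⟨_, hxQ m hm, by rw [map_mul, map_mul, map_inv]⟩)
    hfpf'
  intro m hm
  have h1 := hmain (f m) ⟨m, hm, rfl⟩
  have h2 := congrArg ρ' h1
  rw [map_mul, map_mul, ← map_pow, hρ'f, hρ'f] at h2
  exact h2

end rep

section modthm

variable {A : Type u} [Group A] {M : Type u} [AddCommGroup M] [DistribMulAction A M]
  (ℓ : ℕ) [Module (ZMod ℓ) M]

/-- the representation over `ZMod ℓ` coming from a distributive action on an `ℓ`-torsion module. -/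
noncomputable def addRepA : Representation (ZMod ℓ) A M where
  toFun a := AddMonoidHom.toZModLinearMap ℓ (DistribSMul.toAddMonoidHom M a)
  map_one' := by
    ext m
    show (1 : A) • m = m
    rw [one_smul]
  map_mul' := by
    intro a b
    ext m
    show (a * b) • m = a • b • m
    rw [mul_smul]

theorem addRepA_apply (a : A) (m : M) : addRepA (A := A) (M := M) ℓ a m = a • m := rfl

end modthm

theorem pp_mod_aux {A : Type u} [Group A] [Finite A] {M : Type u} [AddCommGroup M] [Finite M]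
    [DistribMulAction A M] (ℓ : ℕ) [hℓ : Fact ℓ.Prime] [Module (ZMod ℓ) M] (p q n : ℕ)
    (hp : p.Prime) (hp2 : p ≠ 2) (hq : q.Prime) (hqp : q ≠ p) (hqℓ : q ≠ ℓ) (hpℓ : p ≠ ℓ)
    (x : A) (hxp : ∃ N : ℕ, x ^ (p ^ N) = 1) (hx : ∀ m : M, x ^ (p ^ (n + 1)) • m = m)
    (H4 : ∀ m : M, x • m = m → m = 0)
    (Q : Subgroup A) (hQ : IsPGroup q Q) (hxQ : ∀ u ∈ Q, x * u * x⁻¹ ∈ Q)
    (hfpf : ∀ u ∈ Q, x * u = u * x → u = 1) :
    ∀ u ∈ Q, ∀ m : M, x ^ (p ^ n) • u • m = u • x ^ (p ^ n) • m := by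
  intro u hu m
  have hqd : ¬ ℓ ∣ q := fun h => hqℓ ((Nat.prime_dvd_prime_iff_eq hℓ.out hq).1 h).symm
  have hpd : ¬ ℓ ∣ p := fun h => hpℓ ((Nat.prime_dvd_prime_iff_eq hℓ.out hp).1 h).symm
  have hmain := pp_rep (addRepA (A := A) (M := M) ℓ) x p q n hp hp2 hq hqp hxp
    (by
      apply LinearMap.ext
      intro m
      rw [addRepA_apply]
      exact hx m)
    (cast_ne_zero_of_not_dvd ℓ q hqd) (cast_ne_zero_of_not_dvd ℓ p hpd)
    (by
      intro v hv
      rw [addRepA_apply] at hv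
      exact H4 v hv)
    Q hQ hxQ hfpf u hu
  have h2 := LinearMap.congr_fun hmain.eq m
  rw [Module.End.mul_apply, Module.End.mul_apply, addRepA_apply, addRepA_apply, addRepA_apply,
    addRepA_apply] at h2
  exact h2

theorem pp_mod : MTStatement.{u} := by
  intro A _ _ M _ _ _ ℓ p q n hℓ hp hp2 hq hqp hqℓ hpℓ htor x hxp hx H4 Q hQ hxQ hfpf
  haveI : Fact ℓ.Prime := ⟨hℓ⟩
  letI iM : Module (ZMod ℓ) M := AddCommGroup.zmodModule htor
  exact pp_mod_aux ℓ p q n hp hp2 hq hqp hqℓ hpℓ x hxp hx H4 Q hQ hxQ hfpf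

end Cfsg.Agent.Lib.Lead.PPMF2
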