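import Mathlib
import Cfsg.Agent.Lib.Helper8.CarveK2

set_option autoImplicit false

namespace Cfsg.Agent.Lib.Carve

open Module Polynomial

/-- in an extension `K / F` of finite fields, the solutions of `y ^ (q - 1) = 1` lie in `F` -/
theorem S1.mem_range_of_pow_eq_one {F K : Type*} [Field F] [Fintype F] [Field K] [Algebra F K]
    {y : K} (hy : y ^ (Fintype.card F - 1) = 1) : ∃ c : F, algebraMap F K c = y := by
  classical
  by_contra hcon
  push Not at hcon
  have hq : 1 < Fintype.card F := Fintype.one_lt_card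
  have hyq : y ^ Fintype.card F = y := by
    have : Fintype.card F = (Fintype.card F - 1) + 1 := by omega
    rw [this, pow_succ, hy, one_mul]
  set P : K[X] := X ^ Fintype.card F - X with hP
  have hdeg : P.natDegree = Fintype.card F := FiniteField.X_pow_card_sub_X_natDegree_eq K hq
  have hP0 : P ≠ 0 := FiniteField.X_pow_card_sub_X_ne_zero K hq
  let S : Finset K := insert y ((Finset.univ : Finset F).image (algebraMap F K))
  have hS : S ⊆ P.roots.toFinset := by
    intro z hz
    rw [Multiset.mem_toFinset, mem_roots hP0, IsRoot.def, hP, eval_sub, eval_pow, eval_X, sub_eq_zero]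
    rcases Finset.mem_insert.mp hz with rfl | hz
    · exact hyq
    · obtain ⟨c, -, rfl⟩ := Finset.mem_image.mp hz
      rw [← map_pow, FiniteField.pow_card]
  have hcardS : S.card = Fintype.card F + 1 := by
    rw [Finset.card_insert_of_notMem, Finset.card_image_of_injective _ (algebraMap F K).injective,
      Finset.card_univ]
    intro hmem
    obtain ⟨c, -, hc⟩ := Finset.mem_image.mp hmem
    exact hcon c hc
  have h1 := Finset.card_le_card hS
  have h2 : P.roots.toFinset.card ≤ Fintype.card F :=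
    le_trans (Multiset.toFinset_card_le _) (le_trans (card_roots' P) (le_of_eq hdeg))
  omega

/-- S1: an irreducibly acting map of determinant 1 over `F_q` on a space of dimension `n` becomes
scalar in the power `(q^n - 1) / ((q - 1) * gcd n (q - 1))`. -/
theorem S1.singer_pow {F : Type*} [Field F] [Fintype F] {V : Type*} [AddCommGroup V] [Module F V]
    [FiniteDimensional F V] [Nontrivial V] (T : Module.End F V)
    (hirr : ∀ S : Submodule F V, (∀ a ∈ S, T a ∈ S) → S = ⊥ ∨ S = ⊤)
    (hdet : LinearMap.det T = 1) :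
    ∃ c : F, T ^ ((Fintype.card F ^ finrank F V - 1) /
      ((Fintype.card F - 1) * Nat.gcd (finrank F V) (Fintype.card F - 1))) = c • 1 := by
  classical
  obtain ⟨hirrp, hdeg⟩ := K2.irr_minpoly T hirr
  set f := minpoly F T with hf
  obtain ⟨n, hn⟩ : ∃ n, n = finrank F V := ⟨_, rfl⟩
  obtain ⟨q, hq⟩ : ∃ q, q = Fintype.card F := ⟨_, rfl⟩
  rw [← hn, ← hq]
  rw [← hn] at hdeg
  have hq2 : 2 ≤ q := hq ▸ Fintype.one_lt_card
  have hTint : IsIntegral F T := Algebra.IsIntegral.isIntegral T
  have hmonic : f.Monic := minpoly.monic hTint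
  have hf0 : f ≠ 0 := hmonic.ne_zero
  have : Fact (Irreducible f) := ⟨hirrp⟩
  have hfin : FiniteDimensional F (AdjoinRoot f) := (AdjoinRoot.powerBasis hf0).finite
  have : Finite (AdjoinRoot f) := Module.finite_of_finite F
  have hfr : finrank F (AdjoinRoot f) = n := by
    rw [(AdjoinRoot.powerBasis hf0).finrank, AdjoinRoot.powerBasis_dim, hdeg]
  have hcardK : Nat.card (AdjoinRoot f) = q ^ n := by
    rw [Module.natCard_eq_pow_finrank (K := F), hfr, Nat.card_eq_fintype_card, hq]
  -- the norm of the root is the determinant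
  have hchar : T.charpoly = f := by
    apply Polynomial.eq_of_monic_of_dvd_of_natDegree_le hmonic (LinearMap.charpoly_monic T)
      (LinearMap.minpoly_dvd_charpoly T)
    rw [LinearMap.charpoly_natDegree, hdeg, hn]
  have hnorm : Algebra.norm F (AdjoinRoot.root f) = 1 := by
    have h1 := Algebra.PowerBasis.norm_gen_eq_coeff_zero_minpoly (AdjoinRoot.powerBasis hf0)
    rw [AdjoinRoot.minpoly_powerBasis_gen_of_monic hmonic hf0, AdjoinRoot.powerBasis_gen,
      AdjoinRoot.powerBasis_dim, hdeg] at h1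
    rw [h1]
    have h2 := LinearMap.det_eq_sign_charpoly_coeff T
    rw [hchar, hdet, ← hn] at h2
    exact h2.symm
  -- `α ^ M = 1`
  have hαM : (AdjoinRoot.root f) ^ ((q ^ n - 1) / (q - 1)) = 1 := by
    have := FiniteField.algebraMap_norm_eq_pow (K := F) (K' := AdjoinRoot f)
      (x := AdjoinRoot.root f)
    rw [hnorm, map_one, hcardK, Nat.card_eq_fintype_card, ← hq] at this
    exact this.symm
  -- arithmetic
  set M := (q ^ n - 1) / (q - 1) with hM
  set g := Nat.gcd n (q - 1) with hg
  have hgq : g ∣ q - 1 := Nat.gcd_dvd_right _ _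
  have hgM : g ∣ M := by
    have hmod : M ≡ n [MOD (q - 1)] := by
      rw [hM, ← Nat.geomSum_eq hq2]
      have : ∀ k : ℕ, q ^ k ≡ 1 [MOD (q - 1)] := by
        intro k
        have h1 : q ≡ 1 [MOD (q - 1)] :=
          ((Nat.modEq_iff_dvd' (by omega : 1 ≤ q)).mpr (dvd_refl _)).symm
        simpa using h1.pow k
      calc ∑ k ∈ Finset.range n, q ^ k ≡ ∑ _k ∈ Finset.range n, 1 [MOD (q - 1)] := by
            apply Nat.ModEq.sum
            intro k _
            exact this k
        _ = n := by simp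
    have h1 : g ∣ n := Nat.gcd_dvd_left _ _
    exact (Nat.ModEq.dvd_iff (hmod.of_dvd hgq) (dvd_refl g)).mpr h1
  have hE : (q ^ n - 1) / ((q - 1) * g) = M / g := by
    rw [hM, Nat.div_div_eq_div_mul]
  have hexp : (M / g) * (q - 1) = M * ((q - 1) / g) := by
    obtain ⟨a, ha⟩ := hgM
    obtain ⟨b, hb⟩ := hgq
    have hg0 : 0 < g := Nat.gcd_pos_of_pos_right _ (by omega)
    rw [ha, hb, Nat.mul_div_cancel_left _ hg0, Nat.mul_div_cancel_left _ hg0]
    ring
  have hx : ((AdjoinRoot.root f) ^ (M / g)) ^ (q - 1) = 1 := by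
    rw [← pow_mul, hexp, pow_mul, hαM, one_pow]
  rw [hq] at hx
  obtain ⟨c, hc⟩ := S1.mem_range_of_pow_eq_one (F := F) (K := AdjoinRoot f) hx
  refine ⟨c, ?_⟩
  rw [hE]
  have hmk : AdjoinRoot.mk f (X ^ (M / g) - C c) = 0 := by
    rw [map_sub, map_pow, AdjoinRoot.mk_X, AdjoinRoot.mk_C, ← AdjoinRoot.algebraMap_eq, hc,
      sub_self]
  have hdvd : f ∣ X ^ (M / g) - C c := AdjoinRoot.mk_eq_zero.mp hmk
  have hzero : aeval T (X ^ (M / g) - C c) = 0 := by
    obtain ⟨r, hr⟩ := hdvd
    rw [hr, map_mul, hf, minpoly.aeval, zero_mul]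
  rw [map_sub, map_pow, aeval_X, aeval_C, sub_eq_zero] at hzero
  rw [hzero, Algebra.algebraMap_eq_smul_one]

end Cfsg.Agent.Lib.Carve
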