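import Mathlib
import Cfsg.Agent.Lib.Helper9.CubeUDefs
import Cfsg.Agent.Lib.Lead.CarveS1

set_option autoImplicit false

namespace Cfsg.Agent.Lib.Carve

open Polynomial Cfsg.Agent.S0278 Cfsg.Agent.Lib.Helper5.Wall Cfsg.Agent.Lib.Helper5.SUConj
  Cfsg.Agent.Lib.Helper5.SSOrder Cfsg.Agent.Lib.Helper9.CubeU Cfsg.Agent.Lib.Helper5.Pal

universe u

variable {F : Type u} [Field F] [Fintype F] {q : ℕ}

namespace U7

/-- a root `x ≠ 0` of `f` gives the root `(x^q)⁻¹` of `dag f` -/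
theorem aeval_dag_inv (hF : Fintype.card F = q ^ 2) {L : Type*} [Field L] [Algebra F L]
    (f : F[X]) {x : L} (hx0 : x ≠ 0) (hx : aeval x f = 0) : aeval (x ^ q)⁻¹ (dag hF f) = 0 := by
  obtain ⟨p, hpc⟩ := CharP.exists F
  have hpp : Fact p.Prime := ⟨CharP.char_is_prime F p⟩
  have hz0 : x ^ q ≠ 0 := pow_ne_zero _ hx0
  let _ : Invertible (x ^ q) := invertibleOfNonzero hz0
  have h1 := Polynomial.eval₂_reverse_mul_pow (algebraMap F L) (x ^ q) (f.map (powQ hF))
  have h2 : eval₂ (algebraMap F L) (x ^ q) (f.map (powQ hF)) = 0 := by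
    have := frobQ hF p f x
    have hq0 : q ≠ 0 := by
      rintro rfl
      rw [zero_pow (by norm_num)] at hF
      exact Fintype.card_ne_zero hF
    rw [hx, zero_pow hq0] at this
    exact this
  rw [h2, invOf_eq_inv] at h1
  have h3 : eval₂ (algebraMap F L) (x ^ q)⁻¹ (f.map (powQ hF)).reverse = 0 := by
    rcases mul_eq_zero.mp h1 with h | h
    · exact h
    · exact absurd h (pow_ne_zero _ hz0)
  rw [dag, rc, map_mul, aeval_def (p := (f.map (powQ hF)).reverse), h3, mul_zero]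

/-- exponents of `q` only matter modulo `2n` on a field with `q^(2n)` elements -/
theorem pow_q_pow_congr {K : Type*} [Field K] [Fintype K] {n : ℕ}
    (hK : Fintype.card K = q ^ (2 * n)) (x : K) {a b : ℕ} (hab : a ≡ b [MOD (2 * n)]) :
    x ^ (q ^ a) = x ^ (q ^ b) := by
  have key : ∀ (k c : ℕ), x ^ (q ^ (c + 2 * n * k)) = x ^ (q ^ c) := by
    intro k
    induction k with
    | zero => intro c; simp
    | succ k ih =>
      intro c
      have : c + 2 * n * (k + 1) = (c + 2 * n * k) + 2 * n := by ring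
      rw [this, pow_add, mul_comm, pow_mul, ← hK, FiniteField.pow_card, ih]
  rcases le_total a b with h | h
  · obtain ⟨k, hk⟩ := (Nat.modEq_iff_dvd' h).mp hab
    have : b = a + 2 * n * k := by omega
    rw [this, key]
  · obtain ⟨k, hk⟩ := (Nat.modEq_iff_dvd' h).mp hab.symm
    have : a = b + 2 * n * k := by omega
    rw [this, key]

/-- the core fact: a root of a `dag`-invariant irreducible polynomial of degree `n` over `F_{q^2}`
satisfies `β^(q^n+1) = 1`, and `n` is odd -/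
theorem root_self (hF : Fintype.card F = q ^ 2) (f : F[X]) [hirr : Fact (Irreducible f)]
    (hf : f.Monic) (h0 : f.coeff 0 ≠ 0) (hdag : dag hF f = f) :
    Odd f.natDegree ∧ (AdjoinRoot.root f) ^ (q ^ f.natDegree + 1) = 1 := by
  classical
  have hf0 : f ≠ 0 := hf.ne_zero
  have hfin : FiniteDimensional F (AdjoinRoot f) := (AdjoinRoot.powerBasis hf0).finite
  have : Finite (AdjoinRoot f) := Module.finite_of_finite F
  have : Fintype (AdjoinRoot f) := Fintype.ofFinite _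
  have hfr : Module.finrank F (AdjoinRoot f) = f.natDegree := by
    rw [(AdjoinRoot.powerBasis hf0).finrank, AdjoinRoot.powerBasis_dim]
  have hcardK : Fintype.card (AdjoinRoot f) = q ^ (2 * f.natDegree) := by
    rw [Module.card_eq_pow_finrank (K := F), hfr, hF, pow_mul]
  have hn1 : 1 ≤ f.natDegree := (Polynomial.natDegree_pos_iff_degree_pos.mpr
    (Polynomial.degree_pos_of_irreducible hirr.out))
  have hβ : aeval (AdjoinRoot.root f) f = 0 := by rw [AdjoinRoot.aeval_eq, AdjoinRoot.mk_self]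
  have hβ0 : AdjoinRoot.root f ≠ 0 := by
    intro h
    rw [h, aeval_def, eval₂_at_zero] at hβ
    exact h0 ((algebraMap F (AdjoinRoot f)).injective (hβ.trans (map_zero _).symm))
  have hx₁ : aeval ((AdjoinRoot.root f) ^ q)⁻¹ f = 0 := by
    have := aeval_dag_inv hF f hβ0 hβ
    rwa [hdag] at this
  -- the endomorphism `ψ`
  let ψ : AdjoinRoot f →ₐ[F] AdjoinRoot f :=
    AdjoinRoot.liftAlgHom f (Algebra.ofId F (AdjoinRoot f)) ((AdjoinRoot.root f) ^ q)⁻¹ hx₁
  have hψβ : ψ (AdjoinRoot.root f) = ((AdjoinRoot.root f) ^ q)⁻¹ := AdjoinRoot.liftAlgHom_root _ _ _ _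
  obtain ⟨i, hi⟩ := (FiniteField.bijective_frobeniusAlgHom_pow F (AdjoinRoot f)).2 ψ
  replace hi : FiniteField.frobeniusAlgHom F (AdjoinRoot f) ^ (i : ℕ) = ψ := hi
  have hφapply : ∀ (k : ℕ) (x : AdjoinRoot f),
      (FiniteField.frobeniusAlgHom F (AdjoinRoot f) ^ k) x = x ^ (q ^ (2 * k)) := by
    intro k x
    rw [AlgHom.coe_pow, FiniteField.coe_frobeniusAlgHom, pow_iterate, hF, ← pow_mul]
  -- `ψ ∘ ψ = φ`
  have hψψ : ψ * ψ = FiniteField.frobeniusAlgHom F (AdjoinRoot f) := by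
    apply AdjoinRoot.algHom_ext
    rw [AlgHom.mul_apply, hψβ, map_inv₀, map_pow, hψβ, FiniteField.coe_frobeniusAlgHom, hF, inv_pow,
      inv_inv, ← pow_mul, sq]
  have hmod : 2 * (i : ℕ) ≡ 1 [MOD f.natDegree] := by
    have h1 : FiniteField.frobeniusAlgHom F (AdjoinRoot f) ^ (2 * (i : ℕ)) =
        FiniteField.frobeniusAlgHom F (AdjoinRoot f) := by
      rw [two_mul, pow_add, hi, hψψ]
    have hord := FiniteField.orderOf_frobeniusAlgHom F (AdjoinRoot f)
    rw [hfr] at hord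
    have h2 : FiniteField.frobeniusAlgHom F (AdjoinRoot f) ^ (2 * (i : ℕ) + (f.natDegree - 1)) = 1 := by
      rw [pow_add, h1, ← pow_succ', Nat.sub_add_cancel hn1, ← hord, pow_orderOf_eq_one]
    have h3 := orderOf_dvd_of_pow_eq_one h2
    rw [hord] at h3
    have h4 : 2 * (i : ℕ) + (f.natDegree - 1) ≡ 1 + (f.natDegree - 1) [MOD f.natDegree] := by
      rw [Nat.add_sub_cancel' hn1]
      exact ((Nat.modEq_zero_iff_dvd.mpr h3).trans (Nat.modEq_zero_iff_dvd.mpr (dvd_refl _)).symm)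
    exact Nat.ModEq.add_right_cancel' _ h4
  have hodd : Odd f.natDegree := by
    by_contra heven
    rw [Nat.not_odd_iff_even] at heven
    have h2 : 2 * (i : ℕ) ≡ 1 [MOD 2] := hmod.of_dvd heven.two_dvd
    have : (2 * (i : ℕ)) % 2 = 1 % 2 := h2
    omega
  refine ⟨hodd, ?_⟩
  -- `2 i ≡ n + 1 mod 2n`
  have hmod2 : 2 * (i : ℕ) ≡ f.natDegree + 1 [MOD (2 * f.natDegree)] := by
    obtain ⟨k, hk⟩ := hodd
    have h3 : (2 * (i : ℕ)) % f.natDegree = 1 % f.natDegree := hmod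
    have hlt : (i : ℕ) < f.natDegree := lt_of_lt_of_eq i.2 hfr
    -- `2 i < 2 n`, `2 i ≡ 1 mod n`, so `2 i = 1` (only if `n = 1`) or `2 i = n + 1`
    by_cases hn1' : f.natDegree = 1
    · rw [hn1'] at hlt ⊢
      have : (i : ℕ) = 0 := by omega
      rw [this]
      exact (Nat.modEq_iff_dvd' (by norm_num)).mpr (by norm_num)
    · have h4 : 1 % f.natDegree = 1 := Nat.mod_eq_of_lt (by omega)
      rw [h4] at h3
      have h5 : 2 * (i : ℕ) = f.natDegree * ((2 * (i : ℕ)) / f.natDegree) + 1 := by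
        have := Nat.div_add_mod (2 * (i : ℕ)) f.natDegree
        omega
      have h6 : (2 * (i : ℕ)) / f.natDegree < 2 := Nat.div_lt_of_lt_mul (by omega)
      have h7 : (2 * (i : ℕ)) / f.natDegree = 1 := by
        rcases Nat.lt_succ_iff.mp h6 with h
        interval_cases h8 : (2 * (i : ℕ)) / f.natDegree
        · omega
        · rfl
      rw [h7] at h5
      have : 2 * (i : ℕ) = f.natDegree + 1 := by omega
      rw [this]
  have h8 : (AdjoinRoot.root f) ^ (q ^ (2 * (i : ℕ))) = ((AdjoinRoot.root f) ^ q)⁻¹ := by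
    rw [← hφapply, hi, hψβ]
  rw [pow_q_pow_congr hcardK _ hmod2] at h8
  -- `(β^(q^n) β)^q = 1`
  have h9 : ((AdjoinRoot.root f) ^ (q ^ f.natDegree + 1)) ^ q = 1 := by
    rw [pow_succ, mul_pow, ← pow_mul, ← pow_succ, h8, inv_mul_cancel₀ (pow_ne_zero _ hβ0)]
  have hgen : ∀ x : AdjoinRoot f, x ^ q = 1 → x = 1 := by
    intro x hx
    have h10 := FiniteField.pow_card x
    rw [hcardK] at h10
    have h11 : q ^ (2 * f.natDegree) = q * q ^ (2 * f.natDegree - 1) := by
      rw [← pow_succ']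
      congr 1
      omega
    rw [h11, pow_mul, hx, one_pow] at h10
    exact h10.symm
  exact hgen _ h9

/-- arithmetic over `ℤ`: for odd `n = 2k+1`, `(q^n+1)/(q+1) ≡ n mod (q+1)` -/
theorem arith_odd (q k : ℕ) : ∃ a t : ℤ, ((q : ℤ) + 1) * a = (q : ℤ) ^ (2 * k + 1) + 1 ∧
    a = (2 * (k : ℤ) + 1) + ((q : ℤ) + 1) * t := by
  induction k with
  | zero => exact ⟨1, 0, by ring, by simp⟩
  | succ k ih =>
    obtain ⟨a, t, h1, h2⟩ := ih
    refine ⟨(q : ℤ) ^ 2 * a - ((q : ℤ) - 1),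
      ((q : ℤ) - 1) * (2 * (k : ℤ) + 1) + (q : ℤ) ^ 2 * t - 1, ?_, ?_⟩
    · have : (q : ℤ) ^ (2 * (k + 1) + 1) = (q : ℤ) ^ 2 * (q : ℤ) ^ (2 * k + 1) := by ring
      rw [this]
      linear_combination (q : ℤ) ^ 2 * h1
    · push_cast
      rw [h2]
      ring

theorem gcd_dvd_odd' (q : ℕ) {n : ℕ} (hn : Odd n) :
    Nat.gcd n (q + 1) ∣ (q ^ n + 1) / (q + 1) := by
  obtain ⟨A, hA⟩ : q + 1 ∣ q ^ n + 1 := by
    have := Odd.nat_add_dvd_pow_add_pow q 1 hn
    simpa using this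
  rw [hA, Nat.mul_div_cancel_left _ (Nat.succ_pos q)]
  obtain ⟨k, rfl⟩ := hn
  obtain ⟨a, t, h1, h2⟩ := arith_odd q k
  have h3 : ((q : ℤ) + 1) * (A : ℤ) = (q : ℤ) ^ (2 * k + 1) + 1 := by exact_mod_cast hA.symm
  have h4 : a = (A : ℤ) := by
    have hq0 : ((q : ℤ) + 1) ≠ 0 := by positivity
    exact mul_left_cancel₀ hq0 (h1.trans h3.symm)
  have h5 : ((Nat.gcd (2 * k + 1) (q + 1) : ℕ) : ℤ) ∣ (A : ℤ) := by
    rw [← h4, h2]
    apply dvd_add
    · have : ((Nat.gcd (2 * k + 1) (q + 1) : ℕ) : ℤ) ∣ ((2 * k + 1 : ℕ) : ℤ) :=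
        Int.natCast_dvd_natCast.mpr (Nat.gcd_dvd_left _ _)
      simpa using this
    · apply Dvd.dvd.mul_right
      have : ((Nat.gcd (2 * k + 1) (q + 1) : ℕ) : ℤ) ∣ ((q + 1 : ℕ) : ℤ) :=
        Int.natCast_dvd_natCast.mpr (Nat.gcd_dvd_right _ _)
      simpa using this
  exact Int.natCast_dvd_natCast.mp h5

theorem geom_odd (q k : ℕ) : ∃ t : ℕ, ∑ j ∈ Finset.range (2 * k + 1), q ^ j = 1 + (q + 1) * t := by
  induction k with
  | zero => exact ⟨0, by simp⟩
  | succ k ih =>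
    obtain ⟨t, ht⟩ := ih
    refine ⟨t + q ^ (2 * k + 1), ?_⟩
    have : 2 * (k + 1) + 1 = (2 * k + 1) + 1 + 1 := by ring
    rw [this, Finset.sum_range_succ, Finset.sum_range_succ, ht]
    ring

theorem torus_self (hF : Fintype.card F = q ^ 2) {n : ℕ} (hn : 1 ≤ n)
    (g : Matrix (Fin n) (Fin n) F) (hdet : g.det = 1) (f : F[X]) (hf : f.Monic)
    (hirr : Irreducible f) (h0 : f.coeff 0 ≠ 0) (hdag : dag hF f = f) (hμ : minpoly F g = f)
    (hdeg : f.natDegree = n) :
    ∃ c : F, g ^ ((q ^ n + 1) / ((q + 1) * Nat.gcd n (q + 1))) = c • 1 := by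
  classical
  have : Fact (Irreducible f) := ⟨hirr⟩
  obtain ⟨hodd, hβ1⟩ := root_self hF f hf h0 hdag
  rw [hdeg] at hodd hβ1
  have hq2 : 2 ≤ q := by
    by_contra h
    have hq : q = 0 ∨ q = 1 := by omega
    have h1 : 1 < Fintype.card F := Fintype.one_lt_card
    rcases hq with rfl | rfl <;> simp [hF] at h1
  have hf0 : f ≠ 0 := hf.ne_zero
  have hfin : FiniteDimensional F (AdjoinRoot f) := (AdjoinRoot.powerBasis hf0).finite
  have : Finite (AdjoinRoot f) := Module.finite_of_finite F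
  have hfr : Module.finrank F (AdjoinRoot f) = n := by
    rw [(AdjoinRoot.powerBasis hf0).finrank, AdjoinRoot.powerBasis_dim, hdeg]
  have hcardK : Nat.card (AdjoinRoot f) = (q ^ 2) ^ n := by
    rw [Module.natCard_eq_pow_finrank (K := F), hfr, Nat.card_eq_fintype_card, hF]
  -- the norm of the root is the determinant
  have hchar : g.charpoly = f := by
    apply Polynomial.eq_of_monic_of_dvd_of_natDegree_le hf (Matrix.charpoly_monic g)
    · rw [← hμ]
      exact Matrix.minpoly_dvd_charpoly g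
    · rw [Matrix.charpoly_natDegree_eq_dim, hdeg, Fintype.card_fin]
  have hnorm : Algebra.norm F (AdjoinRoot.root f) = 1 := by
    have h1 := Algebra.PowerBasis.norm_gen_eq_coeff_zero_minpoly (AdjoinRoot.powerBasis hf0)
    rw [AdjoinRoot.minpoly_powerBasis_gen_of_monic hf hf0, AdjoinRoot.powerBasis_gen,
      AdjoinRoot.powerBasis_dim, hdeg] at h1
    rw [h1]
    have h2 := Matrix.det_eq_sign_charpoly_coeff g
    rw [hchar, hdet, Fintype.card_fin] at h2
    exact h2.symm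
  have hβN : (AdjoinRoot.root f) ^ (((q ^ 2) ^ n - 1) / (q ^ 2 - 1)) = 1 := by
    have := FiniteField.algebraMap_norm_eq_pow (K := F) (K' := AdjoinRoot f)
      (x := AdjoinRoot.root f)
    rw [hnorm, map_one, hcardK, Nat.card_eq_fintype_card, hF] at this
    exact this.symm
  -- arithmetic
  set A := (q ^ n + 1) / (q + 1) with hA
  set M := (q ^ n - 1) / (q - 1) with hM
  set d := Nat.gcd n (q + 1) with hd
  have hdvdA : q + 1 ∣ q ^ n + 1 := by
    have := Odd.nat_add_dvd_pow_add_pow q 1 hodd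
    simpa using this
  have hdvdM : q - 1 ∣ q ^ n - 1 := by
    have := Nat.sub_dvd_pow_sub_pow q 1 n
    simpa using this
  have hqn1 : 1 ≤ q ^ n := Nat.one_le_pow _ _ (by omega)
  have hNMA : ((q ^ 2) ^ n - 1) / (q ^ 2 - 1) = M * A := by
    rw [hM, hA, Nat.div_mul_div_comm hdvdM hdvdA]
    congr 1
    · zify [hqn1, Nat.one_le_pow n (q ^ 2) (by positivity)]
      ring
    · zify [(by omega : 1 ≤ q), Nat.one_le_pow 2 q (by omega)]
      ring
  have hcop : Nat.Coprime M (q + 1) := by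
    obtain ⟨k, hk⟩ := hodd
    obtain ⟨t, ht⟩ := geom_odd q k
    rw [hM, ← Nat.geomSum_eq hq2, hk, ht]
    simp
  have hβA : (AdjoinRoot.root f) ^ A = 1 := by
    have h1 : ((AdjoinRoot.root f) ^ A) ^ M = 1 := by
      rw [← pow_mul, mul_comm, ← hNMA, hβN]
    have h2 : ((AdjoinRoot.root f) ^ A) ^ (q + 1) = 1 := by
      rw [← pow_mul, hA, Nat.div_mul_cancel hdvdA, hβ1]
    have h3 := pow_gcd_eq_one.mpr ⟨h1, h2⟩
    rwa [hcop.gcd_eq_one, pow_one] at h3
  have hdA : d ∣ A := gcd_dvd_odd' q hodd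
  have hdq : d ∣ q + 1 := Nat.gcd_dvd_right _ _
  have hE : (q ^ n + 1) / ((q + 1) * d) = A / d := by
    rw [hA, Nat.div_div_eq_div_mul]
  have hx : ((AdjoinRoot.root f) ^ (A / d)) ^ (Fintype.card F - 1) = 1 := by
    obtain ⟨b, hb⟩ := hdq
    have h1 : q ^ 2 - 1 = d * (b * (q - 1)) := by
      have : q ^ 2 - 1 = (q + 1) * (q - 1) := by
        zify [(by omega : 1 ≤ q), Nat.one_le_pow 2 q (by omega)]
        ring
      rw [this, hb]
      ring
    rw [hF, h1, ← pow_mul, ← mul_assoc, Nat.div_mul_cancel hdA, pow_mul, hβA, one_pow]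
  obtain ⟨c, hc⟩ := S1.mem_range_of_pow_eq_one (F := F) (K := AdjoinRoot f) hx
  refine ⟨c, ?_⟩
  rw [hE]
  have hmk : AdjoinRoot.mk f (X ^ (A / d) - C c) = 0 := by
    rw [map_sub, map_pow, AdjoinRoot.mk_X, AdjoinRoot.mk_C, ← AdjoinRoot.algebraMap_eq, hc,
      sub_self]
  have hdvd : f ∣ X ^ (A / d) - C c := AdjoinRoot.mk_eq_zero.mp hmk
  have hzero : aeval g (X ^ (A / d) - C c) = 0 := by
    obtain ⟨r, hr⟩ := hdvd
    rw [hr, map_mul, ← hμ, minpoly.aeval, zero_mul]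
  rw [map_sub, map_pow, aeval_X, aeval_C, sub_eq_zero] at hzero
  rw [hzero, Algebra.algebraMap_eq_smul_one]

theorem gcd_dvd_even' {q : ℕ} (hq : 2 ≤ q) (m : ℕ) :
    Nat.gcd (2 * m) (q + 1) ∣ (q ^ (2 * m) - 1) / (q + 1) := by
  set R := ∑ j ∈ Finset.range m, (q ^ 2) ^ j with hR
  have hq22 : 2 ≤ q ^ 2 := by nlinarith
  have h1 : (q ^ 2) ^ m - 1 = (q ^ 2 - 1) * R := by
    rw [hR, Nat.geomSum_eq hq22, Nat.mul_div_cancel']
    have := Nat.sub_dvd_pow_sub_pow (q ^ 2) 1 m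
    simpa using this
  have h2 : q ^ 2 - 1 = (q + 1) * (q - 1) := by
    zify [(by omega : 1 ≤ q), Nat.one_le_pow 2 q (by omega)]
    ring
  have h3 : (q ^ (2 * m) - 1) / (q + 1) = (q - 1) * R := by
    apply Nat.div_eq_of_eq_mul_right (Nat.succ_pos q)
    rw [pow_mul, h1, h2, mul_assoc]
  rw [h3]
  have hRm : R ≡ m [MOD (q + 1)] := by
    have h4 : q ^ 2 ≡ 1 [MOD (q + 1)] :=
      ((Nat.modEq_iff_dvd' (by omega : 1 ≤ q ^ 2)).mpr ⟨q - 1, h2⟩).symm
    calc R ≡ ∑ _k ∈ Finset.range m, 1 [MOD (q + 1)] := by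
          apply Nat.ModEq.sum
          intro k _
          simpa using h4.pow k
      _ = m := by simp
  have h5 : (q - 1) * R + 2 * m ≡ 0 [MOD (q + 1)] := by
    have h6 : (q - 1) * m + 2 * m = (q + 1) * m := by
      rw [← add_mul]
      congr 1
      omega
    calc (q - 1) * R + 2 * m ≡ (q - 1) * m + 2 * m [MOD (q + 1)] :=
          (hRm.mul_left (q - 1)).add_right (2 * m)
      _ = (q + 1) * m := h6
      _ ≡ 0 [MOD (q + 1)] := (Nat.modEq_zero_iff_dvd.mpr (Dvd.intro _ rfl))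
  have h7 : Nat.gcd (2 * m) (q + 1) ∣ (q - 1) * R + 2 * m :=
    (Nat.gcd_dvd_right _ _).trans (Nat.modEq_zero_iff_dvd.mp h5)
  have h8 : Nat.gcd (2 * m) (q + 1) ∣ 2 * m := Nat.gcd_dvd_left _ _
  rw [add_comm ((q - 1) * R)] at h7
  exact (Nat.dvd_add_right h8).mp h7

theorem dag_X_pow_sub_C (hF : Fintype.card F = q ^ 2) {E : ℕ} (hE : E ≠ 0) {c : F}
    (hc : c ^ (q + 1) = 1) : dag hF (X ^ E - C c) = X ^ E - C c := by
  have hc0 : c ≠ 0 := by
    rintro rfl
    simp at hc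
  have hcq : (c ^ q)⁻¹ = c := by
    rw [pow_succ] at hc
    exact (eq_inv_of_mul_eq_one_right hc).symm
  have hcoeff : (X ^ E - C (c ^ q) : F[X]).coeff 0 = -(c ^ q) := by
    rw [coeff_sub, coeff_X_pow, coeff_C_zero, if_neg hE.symm, zero_sub]
  have hrev : (X ^ E - C (c ^ q) : F[X]).reverse = 1 - C (c ^ q) * X ^ E := by
    rw [sub_eq_add_neg, ← C_neg, reverse_add_C, natDegree_X_pow]
    have : (X ^ E : F[X]).reverse = 1 := by
      have := reverse_mul_X_pow (1 : F[X]) E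
      rw [one_mul] at this
      rw [this, ← C_1, reverse_C]
    rw [this, C_neg]
    ring
  rw [dag, Polynomial.map_sub, Polynomial.map_pow, map_X, map_C, powQ_apply, rc, hcoeff, hrev,
    inv_neg, hcq]
  have h1 : (-c) * c ^ q = -1 := by rw [neg_mul, ← pow_succ', hc]
  calc C (-c) * (1 - C (c ^ q) * X ^ E) = C (-c) - C ((-c) * c ^ q) * X ^ E := by
        rw [C_mul]
        ring
    _ = X ^ E - C c := by
        rw [h1, C_neg, C_neg, C_1]
        ring

theorem torus_pair (hF : Fintype.card F = q ^ 2) {n : ℕ} (hn : 1 ≤ n)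
    (g : Matrix (Fin n) (Fin n) F) (hdet : g.det = 1) (f : F[X]) (hf : f.Monic)
    (hirr : Irreducible f) (h0 : f.coeff 0 ≠ 0) (hdag : dag hF f ≠ f)
    (hμ : minpoly F g = f * dag hF f) (hdeg : 2 * f.natDegree = n) :
    ∃ c : F, g ^ ((q ^ n - 1) / ((q + 1) * Nat.gcd n (q + 1))) = c • 1 := by
  classical
  have : Fact (Irreducible f) := ⟨hirr⟩
  have hq2 : 2 ≤ q := by
    by_contra h
    have hq : q = 0 ∨ q = 1 := by omega
    have h1 : 1 < Fintype.card F := Fintype.one_lt_card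
    rcases hq with rfl | rfl <;> simp [hF] at h1
  obtain ⟨m, hm⟩ : ∃ m, m = f.natDegree := ⟨_, rfl⟩
  rw [← hm] at hdeg
  have hf0 : f ≠ 0 := hf.ne_zero
  have hfin : FiniteDimensional F (AdjoinRoot f) := (AdjoinRoot.powerBasis hf0).finite
  have : Finite (AdjoinRoot f) := Module.finite_of_finite F
  have hfr : Module.finrank F (AdjoinRoot f) = m := by
    rw [(AdjoinRoot.powerBasis hf0).finrank, AdjoinRoot.powerBasis_dim, hm]
  have hcardK : Nat.card (AdjoinRoot f) = (q ^ 2) ^ m := by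
    rw [Module.natCard_eq_pow_finrank (K := F), hfr, Nat.card_eq_fintype_card, hF]
  have h0' : (f.map (powQ hF)).coeff 0 ≠ 0 := by
    rw [coeff_map, powQ_apply]
    exact pow_ne_zero _ h0
  have hdm : (dag hF f).Monic := rc_monic h0'
  have hdd : (dag hF f).natDegree = m := by
    rw [dag, rc_natDegree h0', natDegree_map, hm]
  have hchar : g.charpoly = f * dag hF f := by
    apply Polynomial.eq_of_monic_of_dvd_of_natDegree_le (hf.mul hdm) (Matrix.charpoly_monic g)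
    · rw [← hμ]
      exact Matrix.minpoly_dvd_charpoly g
    · rw [Matrix.charpoly_natDegree_eq_dim, Fintype.card_fin, hf.natDegree_mul hdm, hdd, ← hm,
        ← hdeg, two_mul]
  have haq : f.coeff 0 = (f.coeff 0) ^ q := by
    have h2 := Matrix.det_eq_sign_charpoly_coeff g
    rw [hchar, hdet, Fintype.card_fin, ← hdeg, pow_mul, neg_one_sq, one_pow, one_mul,
      mul_coeff_zero, dag, coeff_zero_rc (hf.map _), coeff_map, powQ_apply] at h2
    exact (mul_inv_eq_one₀ (pow_ne_zero _ h0)).mp h2.symm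
  have hneg : (-1 : F) ^ q = -1 := by
    have := map_neg (powQ hF) 1
    rw [map_one, powQ_apply] at this
    exact this
  have hnorm : Algebra.norm F (AdjoinRoot.root f) = (-1) ^ m * f.coeff 0 := by
    have h1 := Algebra.PowerBasis.norm_gen_eq_coeff_zero_minpoly (AdjoinRoot.powerBasis hf0)
    rw [AdjoinRoot.minpoly_powerBasis_gen_of_monic hf hf0, AdjoinRoot.powerBasis_gen,
      AdjoinRoot.powerBasis_dim, ← hm] at h1
    exact h1
  have hnormq : (Algebra.norm F (AdjoinRoot.root f)) ^ q = Algebra.norm F (AdjoinRoot.root f) := by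
    rw [hnorm, mul_pow, ← haq, ← pow_mul, mul_comm m q, pow_mul, hneg]
  have hβ : aeval (AdjoinRoot.root f) f = 0 := by rw [AdjoinRoot.aeval_eq, AdjoinRoot.mk_self]
  have hβ0 : AdjoinRoot.root f ≠ 0 := by
    intro h
    rw [h, aeval_def, eval₂_at_zero] at hβ
    exact h0 ((algebraMap F (AdjoinRoot f)).injective (hβ.trans (map_zero _).symm))
  set N := ((q ^ 2) ^ m - 1) / (q ^ 2 - 1) with hN
  have hβN : algebraMap F (AdjoinRoot f) (Algebra.norm F (AdjoinRoot.root f)) =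
      (AdjoinRoot.root f) ^ N := by
    have := FiniteField.algebraMap_norm_eq_pow (K := F) (K' := AdjoinRoot f)
      (x := AdjoinRoot.root f)
    rw [hcardK, Nat.card_eq_fintype_card, hF] at this
    exact this
  have hβNq : ((AdjoinRoot.root f) ^ N) ^ (q - 1) = 1 := by
    have h1 : ((AdjoinRoot.root f) ^ N) ^ q = (AdjoinRoot.root f) ^ N := by
      rw [← hβN, ← map_pow, hnormq]
    have h2 : (AdjoinRoot.root f) ^ N ≠ 0 := pow_ne_zero _ hβ0
    have h3 : q = (q - 1) + 1 := by omega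
    rw [h3, pow_succ] at h1
    exact mul_right_cancel₀ h2 (h1.trans (one_mul _).symm)
  -- arithmetic
  set B := (q ^ n - 1) / (q + 1) with hB
  set d := Nat.gcd n (q + 1) with hd
  have h2 : q ^ 2 - 1 = (q + 1) * (q - 1) := by
    zify [(by omega : 1 ≤ q), Nat.one_le_pow 2 q (by omega)]
    ring
  have hNB : N * (q - 1) = B := by
    rw [hB]
    symm
    apply Nat.div_eq_of_eq_mul_right (Nat.succ_pos q)
    rw [← hdeg, pow_mul, ← mul_assoc, mul_comm (q + 1), mul_assoc, ← h2, hN, Nat.div_mul_cancel]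
    have := Nat.sub_dvd_pow_sub_pow (q ^ 2) 1 m
    simpa using this
  have hβB : (AdjoinRoot.root f) ^ B = 1 := by
    rw [← hNB, pow_mul, hβNq]
  have hdB : d ∣ B := by
    rw [hd, hB, ← hdeg]
    exact gcd_dvd_even' hq2 m
  have hdq : d ∣ q + 1 := Nat.gcd_dvd_right _ _
  have hE : (q ^ n - 1) / ((q + 1) * d) = B / d := by
    rw [hB, Nat.div_div_eq_div_mul]
  obtain ⟨b, hb⟩ := hdq
  have hx : ((AdjoinRoot.root f) ^ (B / d)) ^ (Fintype.card F - 1) = 1 := by
    have h1 : q ^ 2 - 1 = d * (b * (q - 1)) := by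
      rw [h2, hb]
      ring
    rw [hF, h1, ← pow_mul, ← mul_assoc, Nat.div_mul_cancel hdB, pow_mul, hβB, one_pow]
  obtain ⟨c, hc⟩ := S1.mem_range_of_pow_eq_one (F := F) (K := AdjoinRoot f) hx
  rw [hE]
  by_cases hE0 : B / d = 0
  · exact ⟨1, by rw [hE0, pow_zero, one_smul]⟩
  refine ⟨c, ?_⟩
  have hcq1 : c ^ (q + 1) = 1 := by
    apply (algebraMap F (AdjoinRoot f)).injective
    rw [map_pow, hc, map_one, hb, ← pow_mul, ← mul_assoc, Nat.div_mul_cancel hdB, pow_mul, hβB,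
      one_pow]
  have hmk : AdjoinRoot.mk f (X ^ (B / d) - C c) = 0 := by
    rw [map_sub, map_pow, AdjoinRoot.mk_X, AdjoinRoot.mk_C, ← AdjoinRoot.algebraMap_eq, hc,
      sub_self]
  have hdvd : f ∣ X ^ (B / d) - C c := AdjoinRoot.mk_eq_zero.mp hmk
  have hdvd' : dag hF f ∣ X ^ (B / d) - C c := by
    obtain ⟨r, hr⟩ := hdvd
    have h3 := congrArg (dag hF) hr
    rw [dag_mul, dag_X_pow_sub_C hF hE0 hcq1] at h3
    exact ⟨dag hF r, h3⟩
  have hcop : IsCoprime f (dag hF f) := by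
    rw [hirr.coprime_iff_not_dvd]
    intro hd'
    exact hdag (Polynomial.eq_of_monic_of_dvd_of_natDegree_le hf hdm hd' (by rw [hdd, hm]))
  have hzero : aeval g (X ^ (B / d) - C c) = 0 := by
    obtain ⟨r, hr⟩ := hcop.mul_dvd hdvd hdvd'
    rw [hr, map_mul, ← hμ, minpoly.aeval, zero_mul]
  rw [map_sub, map_pow, aeval_X, aeval_C, sub_eq_zero] at hzero
  rw [hzero, Algebra.algebraMap_eq_smul_one]

end U7

end Cfsg.Agent.Lib.Carve

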