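import Mathlib

set_option autoImplicit false

/-!
# Commutator calculus in groups of class at most two

`C2 T` says that all commutators are central.  Mathlib convention `⁅a, b⁆ = a * b * a⁻¹ * b⁻¹`.
-/

namespace Cfsg.Agent.Lib.Lead.Hx3

open scoped commutatorElement

variable {T : Type*} [Group T]

/-- all commutators are central -/
def C2 (T : Type*) [Group T] : Prop := ∀ x y : T, ⁅x, y⁆ ∈ Subgroup.center T

namespace C2

theorem comm_comm (h : C2 T) (x y g : T) : ⁅x, y⁆ * g = g * ⁅x, y⁆ :=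
  ((Subgroup.mem_center_iff.mp (h x y)) g).symm

theorem mul_eq (x y : T) : x * y = ⁅x, y⁆ * (y * x) := by
  simp [commutatorElement_def, mul_assoc]

theorem comm_mul_left (h : C2 T) (a b c : T) : ⁅a * b, c⁆ = ⁅a, c⁆ * ⁅b, c⁆ := by
  have h1 : ⁅a * b, c⁆ = a * ⁅b, c⁆ * a⁻¹ * ⁅a, c⁆ := by
    simp [commutatorElement_def, mul_assoc]
  rw [h1, ← h.comm_comm b c a, mul_assoc ⁅b, c⁆ a, mul_inv_cancel, mul_one,
    h.comm_comm b c]

theorem comm_mul_right (h : C2 T) (a b c : T) : ⁅a, b * c⁆ = ⁅a, b⁆ * ⁅a, c⁆ := by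
  have h1 : ⁅a, b * c⁆ = ⁅a, b⁆ * (b * ⁅a, c⁆ * b⁻¹) := by
    simp [commutatorElement_def, mul_assoc]
  rw [h1, ← h.comm_comm a c b]
  simp [mul_assoc]

theorem comm_symm (x y : T) : ⁅y, x⁆ = ⁅x, y⁆⁻¹ := (commutatorElement_inv x y).symm

theorem comm_one_left (c : T) : ⁅(1 : T), c⁆ = 1 := commutatorElement_one_left c

theorem comm_one_right (c : T) : ⁅c, (1 : T)⁆ = 1 := commutatorElement_one_right c

theorem comm_inv_left (h : C2 T) (a c : T) : ⁅a⁻¹, c⁆ = ⁅a, c⁆⁻¹ := by
  have := h.comm_mul_left a a⁻¹ c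
  rw [mul_inv_cancel, comm_one_left] at this
  exact eq_inv_of_mul_eq_one_right this.symm

theorem comm_inv_right (h : C2 T) (a c : T) : ⁅a, c⁻¹⁆ = ⁅a, c⁆⁻¹ := by
  have := h.comm_mul_right a c c⁻¹
  rw [mul_inv_cancel, comm_one_right] at this
  exact eq_inv_of_mul_eq_one_right this.symm

theorem comm_pow_left (h : C2 T) (a c : T) (n : ℕ) : ⁅a ^ n, c⁆ = ⁅a, c⁆ ^ n := by
  induction n with
  | zero => simp
  | succ n ih => rw [pow_succ, h.comm_mul_left, ih, pow_succ]

theorem comm_pow_right (h : C2 T) (a c : T) (n : ℕ) : ⁅a, c ^ n⁆ = ⁅a, c⁆ ^ n := by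
  induction n with
  | zero => simp
  | succ n ih => rw [pow_succ, h.comm_mul_right, ih, pow_succ]

/-- `(a b)² = a² b² [b, a]` -/
theorem mul_sq (h : C2 T) (a b : T) : (a * b) ^ 2 = a ^ 2 * b ^ 2 * ⁅b, a⁆ := by
  have e : b * a = ⁅b, a⁆ * (a * b) := mul_eq b a
  calc (a * b) ^ 2 = a * (b * a) * b := by simp [pow_two, mul_assoc]
    _ = a * (⁅b, a⁆ * (a * b)) * b := by rw [e]
    _ = ⁅b, a⁆ * (a * a * (b * b)) := by
        rw [← mul_assoc a, ← h.comm_comm b a a]
        simp [mul_assoc]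
    _ = a ^ 2 * b ^ 2 * ⁅b, a⁆ := by
        rw [h.comm_comm b a]
        simp [pow_two, mul_assoc]

/-- an automorphism maps commutators to commutators -/
theorem map_comm (φ : MulAut T) (x y : T) : φ ⁅x, y⁆ = ⁅φ x, φ y⁆ := by
  simp [commutatorElement_def]

/-- a quotient of a group of class two has class two -/
theorem quot (h : C2 T) (N : Subgroup T) [N.Normal] : C2 (T ⧸ N) := by
  intro x y
  induction x using QuotientGroup.induction_on with
  | H x =>
    induction y using QuotientGroup.induction_on with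
    | H y =>
      rw [Subgroup.mem_center_iff]
      intro g
      induction g using QuotientGroup.induction_on with
      | H g =>
        have := (h.comm_comm x y g).symm
        have e : (⁅(QuotientGroup.mk x : T ⧸ N), (QuotientGroup.mk y : T ⧸ N)⁆) =
            (QuotientGroup.mk ⁅x, y⁆ : T ⧸ N) := by
          simp [commutatorElement_def]
        rw [e, ← QuotientGroup.mk_mul, ← QuotientGroup.mk_mul, this]

end C2

end Cfsg.Agent.Lib.Lead.Hx3
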