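import Mathlib
import Cfsg.Agent.Lib.Helper3.S64a

set_option autoImplicit false

/-!
# Two-groups with a fixed-point-free automorphism of order three: common definitions

Shared by the proofs of S2933 and S1237 (see `notes/S2933_S1237_paper_lead.md`).
-/

namespace Cfsg.Agent.Lib.Lead.Hx3

open Cfsg.Agent.Lib.Helper3.S64

variable {T : Type*} [Group T]

/-- a subgroup is invariant under an automorphism (forward direction only) -/
def Inv (φ : MulAut T) (N : Subgroup T) : Prop := ∀ n ∈ N, φ n ∈ N

/-- an invariant subgroup of a finite group is mapped onto itself -/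
theorem Inv.map_eq [Finite T] {φ : MulAut T} {N : Subgroup T} (h : Inv φ N) :
    N.map (φ : T →* T) = N := by
  classical
  have hle : N.map (φ : T →* T) ≤ N := by
    rintro _ ⟨n, hn, rfl⟩
    exact h n hn
  have hcard : Nat.card (N.map (φ : T →* T)) = Nat.card N :=
    Nat.card_congr (N.equivMapOfInjective (φ : T →* T) φ.injective).symm.toEquiv
  exact Subgroup.eq_of_le_of_card_ge hle (le_of_eq hcard.symm)

/-- the automorphism induced on the quotient by an invariant normal subgroup -/
noncomputable def quotAut [Finite T] (N : Subgroup T) [N.Normal] (φ : MulAut T) (h : Inv φ N) :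
    MulAut (T ⧸ N) :=
  QuotientGroup.congr N N φ h.map_eq

@[simp] theorem quotAut_mk [Finite T] (N : Subgroup T) [N.Normal] (φ : MulAut T) (h : Inv φ N)
    (x : T) : quotAut N φ h (QuotientGroup.mk x) = QuotientGroup.mk (φ x) := rfl

/-- a fixed-point-free automorphism of order three induces one on invariant quotients -/
theorem Fpf3.quot [Finite T] {ρ : MulAut T} (h : Fpf3 ρ) (N : Subgroup T) [N.Normal]
    (hN : Inv ρ N) : Fpf3 (quotAut N ρ hN) := by
  constructor
  · intro y
    induction y using QuotientGroup.induction_on with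
    | H y => simp only [quotAut_mk, h.cube]
  · intro y
    induction y using QuotientGroup.induction_on with
    | H y =>
      intro hy
      rw [quotAut_mk, QuotientGroup.eq] at hy
      rw [QuotientGroup.eq_one_iff]
      have h1 : (ρ y)⁻¹ * y ∈ N := hy
      have h2 : y⁻¹ * ρ y ∈ N := by
        have := N.inv_mem h1
        simpa [mul_inv_rev] using this
      exact h.mem_of_twist_mem N hN y h2

/-- hypothesis (H) of the note: a two-group with commuting automorphisms `ρ` (fixed-point-free of
order three) and `t` (an involution or the identity) whose fixed points form a central four-group -/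
structure HH (ρ t : MulAut T) (V : Subgroup T) : Prop where
  pg : IsPGroup 2 T
  fpf : Fpf3 ρ
  tsq : ∀ y : T, t (t y) = y
  comm : ∀ y : T, ρ (t y) = t (ρ y)
  Vcen : V ≤ Subgroup.center T
  Vcard : Nat.card V = 4
  Vsq : ∀ v ∈ V, v ^ 2 = 1
  Vrho : Inv ρ V
  fix : ∀ y : T, t y = y ↔ y ∈ V

/-- the subgroup of fixed points of an automorphism -/
def fixSub {X : Type*} [Group X] (φ : MulAut X) : Subgroup X where
  carrier := {x | φ x = x}
  mul_mem' := by
    intro a b ha hb
    show φ (a * b) = a * b
    rw [map_mul, ha, hb]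
  one_mem' := map_one φ
  inv_mem' := by
    intro a ha
    show φ a⁻¹ = a⁻¹
    rw [map_inv, ha]

@[simp] theorem mem_fixSub {X : Type*} [Group X] (φ : MulAut X) (x : X) :
    x ∈ fixSub φ ↔ φ x = x := Iff.rfl

/-- the automorphism induced on an invariant subgroup -/
noncomputable def subAut [Finite T] (S : Subgroup T) (φ : MulAut T) (h : Inv φ S) : MulAut S :=
  (MulEquiv.subgroupMap φ S).trans (MulEquiv.subgroupCongr h.map_eq)

@[simp] theorem subAut_coe [Finite T] (S : Subgroup T) (φ : MulAut T) (h : Inv φ S) (s : S) :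
    ((subAut S φ h s : S) : T) = φ (s : T) := rfl

theorem HH.Vt {ρ t : MulAut T} {V : Subgroup T} (h : HH ρ t V) : Inv t V := by
  intro v hv
  rw [(h.fix v).mpr hv]
  exact hv

theorem HH.Vnormal {ρ t : MulAut T} {V : Subgroup T} (h : HH ρ t V) : V.Normal :=
  ⟨fun n hn g => by
    have := (Subgroup.mem_center_iff.mp (h.Vcen hn)) g
    rw [this, mul_inv_cancel_right]
    exact hn⟩

/-- the three possible conclusions of Theorem A -/
def Concl (ρ : MulAut T) : Prop :=
  ((∀ a b : T, a * b = b * a) ∧ ∃ x : T, Subgroup.closure {x, ρ x} = ⊤) ∨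
  (Nat.card T = 16 ∧ ∀ x : T, x ^ 2 = 1) ∨
  (Nat.card T = 64 ∧ ∃ a b : T, a * b ≠ b * a)

end Cfsg.Agent.Lib.Lead.Hx3
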