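import Mathlib
import Cfsg.Agent.Lib.Helper7.TSO0
import Cfsg.Agent.Lib.Helper2.OrthCfB
import Cfsg.Agent.Lib.Helper2.OrthElI
import Cfsg.Agent.Lib.Helper1.TISp4

/-! S5973 board, PK-CNT: the number of totally singular `m`-spaces of a nondegenerate quadratic space
of dimension `2d` over a finite field (any characteristic), by type:
`N * ∏_{j<m} (q^(m-j) - 1) = ∏_{j<m} E(d-j)`, `E(e) = (q^e - 1)(q^(e-1) + 1)` (plus type),
`(q^e + 1)(q^(e-1) - 1)` (minus type); and the arithmetic consequences. -/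

set_option autoImplicit false

namespace Cfsg.Agent.Lib.Helper7.TSO

open Module QuadraticMap
open Cfsg.Agent.Lib.Helper5.OrthCls (IsPlus)
open Cfsg.Agent.Lib.Helper2.MaxTS2 Cfsg.Agent.Lib.Helper2.OrthEl Cfsg.Agent.Lib.Helper2.OrthNd
  Cfsg.Agent.Lib.Helper2.OrthCf

/-- the number of nonzero singular vectors of a nondegenerate space of dimension `2e`, by type -/
noncomputable def cntE (plus : Prop) (q e : ℕ) : ℕ := by
  classical
  exact if plus then (q ^ e - 1) * (q ^ (e - 1) + 1) else (q ^ e + 1) * (q ^ (e - 1) - 1)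

theorem cntE_pos {plus : Prop} (h : plus) (q e : ℕ) :
    cntE plus q e = (q ^ e - 1) * (q ^ (e - 1) + 1) := by
  unfold cntE
  rw [if_pos h]

theorem cntE_neg {plus : Prop} (h : ¬ plus) (q e : ℕ) :
    cntE plus q e = (q ^ e + 1) * (q ^ (e - 1) - 1) := by
  unfold cntE
  rw [if_neg h]

theorem cnt_sing_plus (q e : ℕ) (hq : 1 ≤ q) (he : 1 ≤ e) :
    q ^ (2 * e - 1) + q ^ e - q ^ (e - 1) - 1 = (q ^ e - 1) * (q ^ (e - 1) + 1) := by
  obtain ⟨e', rfl⟩ : ∃ e', e = e' + 1 := ⟨e - 1, by omega⟩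
  have h1 : 1 ≤ q ^ e' := Nat.one_le_pow _ _ hq
  have h3 : 1 ≤ q ^ (e' + 1) := Nat.one_le_pow _ _ hq
  obtain ⟨b, hb⟩ : ∃ b, q ^ (e' + 1) = b + 1 := ⟨q ^ (e' + 1) - 1, by omega⟩
  have h4 : q ^ (2 * (e' + 1) - 1) = q ^ (e' + 1) * q ^ e' := by
    rw [← pow_add]
    congr 1
    omega
  rw [h4, hb, Nat.add_sub_cancel, Nat.add_sub_cancel]
  have h5 : (b + 1) * q ^ e' = b * q ^ e' + q ^ e' := by ring
  have h6 : b * (q ^ e' + 1) = b * q ^ e' + b := by ring
  rw [h5, h6]
  omega

theorem cnt_sing_minus (q e : ℕ) (hq : 1 ≤ q) (he : 1 ≤ e) :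
    q ^ (2 * e - 1) + q ^ (e - 1) - q ^ e - 1 = (q ^ e + 1) * (q ^ (e - 1) - 1) := by
  obtain ⟨e', rfl⟩ : ∃ e', e = e' + 1 := ⟨e - 1, by omega⟩
  have h1 : 1 ≤ q ^ e' := Nat.one_le_pow _ _ hq
  obtain ⟨b, hb⟩ : ∃ b, q ^ e' = b + 1 := ⟨q ^ e' - 1, by omega⟩
  have h4 : q ^ (2 * (e' + 1) - 1) = q ^ (e' + 1) * q ^ e' := by
    rw [← pow_add]
    congr 1
    omega
  rw [h4, Nat.add_sub_cancel, hb, Nat.add_sub_cancel]
  have h5 : q ^ (e' + 1) * (b + 1) = q ^ (e' + 1) * b + q ^ (e' + 1) := by ring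
  have h6 : (q ^ (e' + 1) + 1) * b = q ^ (e' + 1) * b + b := by ring
  rw [h5, h6]
  omega

section cntgen

variable {F : Type*} [Field F] [Fintype F]
variable {V : Type*} [AddCommGroup V] [Module F V] [FiniteDimensional F V]
variable {Q : QuadraticForm F V}

omit [Fintype F] [FiniteDimensional F V] in
theorem cnt_isTSFrame_cons {m : ℕ} (s : Fin m → V) (v : V) :
    IsTSFrame Q (Fin.cons v s : Fin (m + 1) → V) ↔
      IsTSFrame Q s ∧ v ∈ perp Q (Submodule.span F (Set.range s)) ∧ Q v = 0 ∧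
        v ∉ Submodule.span F (Set.range s) := by
  unfold IsTSFrame
  rw [linearIndependent_finCons, mem_perp_span_iff]
  constructor
  · rintro ⟨⟨h1, h3⟩, h4, h5⟩
    refine ⟨⟨h1, fun j => ?_, fun j l => ?_⟩, fun j => ?_, ?_, h3⟩
    · have := h4 j.succ
      rwa [Fin.cons_succ] at this
    · have := h5 j.succ l.succ
      rwa [Fin.cons_succ, Fin.cons_succ] at this
    · have := h5 j.succ 0
      rwa [Fin.cons_succ, Fin.cons_zero] at this
    · have := h4 0
      rwa [Fin.cons_zero] at this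
  · rintro ⟨⟨h1, h4, h5⟩, h6, h7, h3⟩
    refine ⟨⟨h1, h3⟩, fun j => ?_, fun j l => ?_⟩
    · induction j using Fin.cases with
      | zero => rw [Fin.cons_zero]; exact h7
      | succ j => rw [Fin.cons_succ]; exact h4 j
    · induction j using Fin.cases with
      | zero =>
        induction l using Fin.cases with
        | zero => rw [Fin.cons_zero, polar_self, h7, smul_zero]
        | succ l => rw [Fin.cons_zero, Fin.cons_succ, polar_comm]; exact h6 l
      | succ j =>
        induction l using Fin.cases with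
        | zero => rw [Fin.cons_zero, Fin.cons_succ]; exact h6 j
        | succ l => rw [Fin.cons_succ, Fin.cons_succ]; exact h5 j l

omit [Fintype F] [FiniteDimensional F V] in
theorem cnt_plusS_top : PlusS Q (⊤ : Submodule F V) ↔ IsPlus Q := by
  constructor
  · rintro ⟨U, -, hU, hdim⟩
    exact ⟨U, hU, by rw [hdim, finrank_top]⟩
  · rintro ⟨U, hU, hdim⟩
    exact ⟨U, le_top, hU, by rw [hdim, finrank_top]⟩

/-- the type of a complement of a totally singular `Z` in `Z^⊥` -/
theorem cnt_type (hQ : (polarBilin Q).Nondegenerate) {Z N : Submodule F V} (hZ : IsTS Q Z)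
    (hN : NDeg Q N) (hNZ : N ≤ perp Q Z)
    (hdim : finrank F N + 2 * finrank F Z = finrank F V) (hev : Even (finrank F N)) :
    IsPlus (Q.comp N.subtype) ↔ IsPlus Q := by
  have hP : NDeg Q (perp Q N) := hN.perp hQ
  have hZP : Z ≤ perp Q N := le_perp_comm hNZ
  have hPdim : finrank F ↥(perp Q N) = 2 * finrank F Z := by
    have := finrank_perp_add hQ N
    omega
  have hPplus : PlusS Q (perp Q N) := ⟨Z, hZP, hZ, hPdim.symm⟩
  have horth : N ≤ perp Q (perp Q N) := by
    rw [perp_perp hQ]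
  have hsup := plusS_sup hN hP horth hev (by rw [hPdim]; exact even_two_mul _)
  rw [hN.isCompl.sup_eq_top, cnt_plusS_top] at hsup
  rw [← plusS_iff_isPlus, hsup.2.2]
  exact ⟨fun h => iff_of_true h hPplus, fun h => h.2 hPplus⟩

/-- the number of singular vectors outside `W'` in the orthogonal complement of a totally
singular subspace `W'` -/
theorem cnt_card_ext (hQ : (polarBilin Q).Nondegenerate) (d j : ℕ)
    (hdim : finrank F V = 2 * d) (hjd : j < d) (W' : Submodule F V) (hW' : IsTS Q W')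
    (hW'j : finrank F W' = j) :
    Nat.card {v : V // v ∈ perp Q W' ∧ Q v = 0 ∧ v ∉ W'} =
      Fintype.card F ^ j * cntE (IsPlus Q) (Fintype.card F) (d - j) := by
  have hfin : Finite V := Module.finite_of_finite F
  obtain ⟨C, hC⟩ := Submodule.exists_isCompl W'
  have hW'perp : W' ≤ perp Q W' := le_orthogonal_of_isTS hW'
  set N := C ⊓ perp Q W' with hN
  have hsup : W' ⊔ N = perp Q W' := by
    rw [hN, ← sup_inf_assoc_of_le C hW'perp, hC.sup_eq_top, top_inf_eq]
  have hdisj : Disjoint W' N := hC.disjoint.mono_right inf_le_left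
  have hfr : finrank F W' + finrank F N = finrank F ↥((⊤ : Submodule F V) ⊓ perp Q W') := by
    rw [top_inf_eq, ← hsup]
    have := Submodule.finrank_sup_add_finrank_inf_eq W' N
    rw [hdisj.eq_bot, finrank_bot, add_zero] at this
    exact this.symm
  obtain ⟨hNnd, hNdim⟩ := ndeg_of_compl hQ (ndeg_top hQ) le_top hW'
    (show N ≤ ⊤ ⊓ perp Q W' by rw [top_inf_eq]; exact inf_le_right) hdisj hfr
  rw [finrank_top, hdim, hW'j] at hNdim
  have hNd : finrank F N = 2 * (d - j) := by omega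
  have htype := cnt_type hQ hW' hNnd (show N ≤ perp Q W' from inf_le_right)
    (by rw [hW'j, hdim]; omega) (by rw [hNd]; exact even_two_mul _)
  have hq1 : 1 ≤ Fintype.card F := Fintype.card_pos
  have hNcard : Nat.card {n : N // (Q.comp N.subtype) n = 0} - 1 =
      cntE (IsPlus Q) (Fintype.card F) (d - j) := by
    by_cases hp : IsPlus Q
    · rw [card_singular_isPlus hNnd.restrict (d - j) (by omega) hNd (htype.2 hp), cntE_pos hp,
        cnt_sing_plus _ _ hq1 (by omega)]
    · rw [card_singular_not_isPlus hNnd.restrict (d - j) (by omega) hNd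
        (fun h => hp (htype.1 h)), cntE_neg hp, cnt_sing_minus _ _ hq1 (by omega)]
  -- the bijection
  let S := {n : N // (Q.comp N.subtype) n = 0}
  have hzero : (Q.comp N.subtype) (0 : N) = 0 := map_zero _
  let f : W' × {z : S // z ≠ ⟨0, hzero⟩} → {v : V // v ∈ perp Q W' ∧ Q v = 0 ∧ v ∉ W'} :=
    fun x => ⟨(x.1 : V) + ((x.2.1.1 : N) : V), by
      have hn : ((x.2.1.1 : N) : V) ∈ perp Q W' := (x.2.1.1).2.2
      have hQn : Q ((x.2.1.1 : N) : V) = 0 := x.2.1.2
      refine ⟨Submodule.add_mem _ (hW'perp x.1.2) hn, ?_, ?_⟩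
      · have h1 := QuadraticMap.map_add Q (x.1 : V) ((x.2.1.1 : N) : V)
        have h3 : polar (⇑Q) (x.1 : V) ((x.2.1.1 : N) : V) = 0 := hn _ x.1.2
        rw [h1, hW' _ x.1.2, hQn, h3]
        simp
      · intro hmem
        have h4 : ((x.2.1.1 : N) : V) ∈ W' := by
          have := Submodule.sub_mem _ hmem x.1.2
          rwa [add_sub_cancel_left] at this
        have h5 := (Submodule.disjoint_def.1 hdisj) _ h4 (x.2.1.1).2
        apply x.2.2
        apply Subtype.ext
        apply Subtype.ext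
        exact h5⟩
  have hf : Function.Bijective f := by
    constructor
    · intro x x' hxx'
      have h1 : (x.1 : V) + ((x.2.1.1 : N) : V) = (x'.1 : V) + ((x'.2.1.1 : N) : V) :=
        congrArg Subtype.val hxx'
      have h3 : (x.1 : V) - (x'.1 : V) = ((x'.2.1.1 : N) : V) - ((x.2.1.1 : N) : V) := by
        rw [sub_eq_sub_iff_add_eq_add]
        rw [h1]
        abel
      have h4 : (x.1 : V) - (x'.1 : V) ∈ W' := Submodule.sub_mem _ x.1.2 x'.1.2
      have h5 : (x.1 : V) - (x'.1 : V) ∈ N := by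
        rw [h3]
        exact Submodule.sub_mem _ (x'.2.1.1).2 (x.2.1.1).2
      have h6 := (Submodule.disjoint_def.1 hdisj) _ h4 h5
      have h7 : ((x'.2.1.1 : N) : V) - ((x.2.1.1 : N) : V) = 0 := by rw [← h3, h6]
      apply Prod.ext
      · apply Subtype.ext
        exact sub_eq_zero.1 h6
      · apply Subtype.ext
        apply Subtype.ext
        apply Subtype.ext
        exact (sub_eq_zero.1 h7).symm
    · rintro ⟨v, hv1, hv2, hv3⟩
      rw [← hsup] at hv1
      obtain ⟨w, hw, n, hn, rfl⟩ := Submodule.mem_sup.1 hv1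
      have hQn : Q n = 0 := by
        have h1 := QuadraticMap.map_add Q w n
        have h3 : polar (⇑Q) w n = 0 := hn.2 _ hw
        rw [h1, hW' _ hw, h3] at hv2
        simpa using hv2
      have hn0 : n ≠ 0 := by
        rintro rfl
        apply hv3
        rw [add_zero]
        exact hw
      refine ⟨⟨⟨w, hw⟩, ⟨⟨⟨n, hn⟩, hQn⟩, ?_⟩⟩, rfl⟩
      intro h
      apply hn0
      have := congrArg (fun z : S => ((z.1 : N) : V)) h
      exact this
  rw [← Nat.card_congr (Equiv.ofBijective f hf), Nat.card_prod, card_ne, hNcard,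
    Module.natCard_eq_pow_finrank (K := F) (V := W'), hW'j, Nat.card_eq_fintype_card]

/-- extending totally singular frames by one vector -/
theorem cnt_card_frame_succ (hQ : (polarBilin Q).Nondegenerate)
    (d m : ℕ) (hdim : finrank F V = 2 * d) (hmd : m < d) :
    Nat.card {s : Fin (m + 1) → V // IsTSFrame Q s} =
      Nat.card {s : Fin m → V // IsTSFrame Q s} *
        (Fintype.card F ^ m * cntE (IsPlus Q) (Fintype.card F) (d - m)) := by
  classical
  have hfin : Finite V := Module.finite_of_finite F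
  have : Fintype {s : Fin m → V // IsTSFrame Q s} := Fintype.ofFinite _
  let Φ : {s : Fin (m + 1) → V // IsTSFrame Q s} → {s : Fin m → V // IsTSFrame Q s} :=
    fun s => ⟨Fin.tail s.1, by
      have h := s.2
      rw [← Fin.cons_self_tail s.1, cnt_isTSFrame_cons] at h
      exact h.1⟩
  have e := Equiv.sigmaFiberEquiv Φ
  rw [← Nat.card_congr e, Nat.card_sigma]
  have hfib : ∀ s : {s : Fin m → V // IsTSFrame Q s},
      Nat.card {s' : {s : Fin (m + 1) → V // IsTSFrame Q s} // Φ s' = s} =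
        Fintype.card F ^ m * cntE (IsPlus Q) (Fintype.card F) (d - m) := by
    intro s
    rw [← cnt_card_ext hQ d m hdim hmd (Submodule.span F (Set.range s.1)) s.2.isTS s.2.finrank]
    apply Nat.card_congr
    refine ⟨fun s' => ⟨s'.1.1 0, ?_⟩, fun v => ⟨⟨Fin.cons v.1 s.1, ?_⟩, ?_⟩, ?_, ?_⟩
    · have h := s'.1.2
      rw [← Fin.cons_self_tail s'.1.1, cnt_isTSFrame_cons] at h
      have h3 : Fin.tail s'.1.1 = s.1 := congrArg Subtype.val s'.2
      rw [h3] at h
      exact h.2
    · rw [cnt_isTSFrame_cons]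
      exact ⟨s.2, v.2⟩
    · apply Subtype.ext
      show Fin.tail (Fin.cons v.1 s.1 : Fin (m + 1) → V) = s.1
      rw [Fin.tail_cons]
    · intro s'
      apply Subtype.ext
      apply Subtype.ext
      have h3 : Fin.tail s'.1.1 = s.1 := congrArg Subtype.val s'.2
      show (Fin.cons (s'.1.1 0) s.1 : Fin (m + 1) → V) = s'.1.1
      rw [← h3, Fin.cons_self_tail]
    · intro v
      apply Subtype.ext
      show (Fin.cons v.1 s.1 : Fin (m + 1) → V) 0 = v.1
      rw [Fin.cons_zero]
  rw [Finset.sum_congr rfl (fun s _ => hfib s), Finset.sum_const, Finset.card_univ,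
    smul_eq_mul, Nat.card_eq_fintype_card]

/-- the number of totally singular frames -/
theorem cnt_card_frame (hQ : (polarBilin Q).Nondegenerate)
    (d : ℕ) (hdim : finrank F V = 2 * d) (m : ℕ) (hmd : m ≤ d) :
    Nat.card {s : Fin m → V // IsTSFrame Q s} =
      ∏ j ∈ Finset.range m,
        (Fintype.card F ^ j * cntE (IsPlus Q) (Fintype.card F) (d - j)) := by
  induction m with
  | zero =>
    rw [Finset.range_zero, Finset.prod_empty]
    have : Unique {s : Fin 0 → V // IsTSFrame Q s} :=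
      { default := ⟨fun j => j.elim0, linearIndependent_empty_type, fun j => j.elim0,
          fun j => j.elim0⟩
        uniq := by
          intro s
          apply Subtype.ext
          funext j
          exact j.elim0 }
    exact Nat.card_unique
  | succ m ih =>
    rw [cnt_card_frame_succ hQ d m hdim (by omega), ih (by omega), Finset.prod_range_succ]

/-- the counting formula for totally singular `m`-spaces -/
theorem cnt_card_ts_mul (hQ : (polarBilin Q).Nondegenerate)
    (d : ℕ) (hdim : finrank F V = 2 * d) (m : ℕ) (hmd : m ≤ d) :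
    Nat.card {W : Submodule F V // finrank F W = m ∧ ∀ w ∈ W, Q w = 0} *
        ∏ j ∈ Finset.range m, (Fintype.card F ^ (m - j) - 1) =
      ∏ j ∈ Finset.range m, cntE (IsPlus Q) (Fintype.card F) (d - j) := by
  have h1 := card_frame_eq (Q := Q) m
  rw [cnt_card_frame hQ d hdim m hmd] at h1
  have h3 : ∏ j : Fin m, (Fintype.card F ^ m - Fintype.card F ^ j.val) =
      (∏ j ∈ Finset.range m, Fintype.card F ^ j) *
        ∏ j ∈ Finset.range m, (Fintype.card F ^ (m - j) - 1) := by
    rw [← Finset.prod_mul_distrib,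
      ← Fin.prod_univ_eq_prod_range (fun j => Fintype.card F ^ j * (Fintype.card F ^ (m - j) - 1))]
    apply Finset.prod_congr rfl
    intro j _
    exact Cfsg.Agent.Lib.Helper9.H9Elus.pow_sub_pow_eq _ _ _ j.2.le
  rw [h3, Finset.prod_mul_distrib] at h1
  have hpos : 0 < ∏ j ∈ Finset.range m, Fintype.card F ^ j := by
    apply Finset.prod_pos
    intro j _
    exact pow_pos Fintype.card_pos _
  apply Nat.eq_of_mul_eq_mul_left hpos
  rw [h1]
  ring

end cntgen

section cntarith

/-- `r ∣ q^a + 1` (odd `r`) forces `i` even and `a ≡ i/2 (mod i)` -/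
theorem cnt_dvd_pow_add_one (r : ℕ) [Fact r.Prime] (hr2 : r ≠ 2) (q a : ℕ)
    (h : r ∣ q ^ a + 1) :
    Even (orderOf ((q : ℕ) : ZMod r)) ∧
      a % orderOf ((q : ℕ) : ZMod r) = orderOf ((q : ℕ) : ZMod r) / 2 := by
  have hr : r.Prime := Fact.out
  set x : ZMod r := ((q : ℕ) : ZMod r) with hx
  set i := orderOf x with hi
  have hxa : x ^ a = -1 := by
    have := (ZMod.natCast_eq_zero_iff (q ^ a + 1) r).2 h
    push_cast at this
    linear_combination this
  have hne : (-1 : ZMod r) ≠ 1 := by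
    intro h1
    have h2 : ((2 : ℕ) : ZMod r) = 0 := by
      push_cast
      linear_combination -h1
    have h3 := (ZMod.natCast_eq_zero_iff 2 r).1 h2
    exact hr2 ((Nat.prime_dvd_prime_iff_eq hr Nat.prime_two).1 h3)
  have hd : i ∣ 2 * a := by
    apply orderOf_dvd_of_pow_eq_one
    rw [mul_comm, pow_mul, hxa]
    norm_num
  have hnd : ¬ i ∣ a := by
    intro h1
    have := orderOf_dvd_iff_pow_eq_one.1 h1
    rw [hxa] at this
    exact hne this
  have hev : Even i := by
    by_contra hodd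
    rw [Nat.not_even_iff_odd] at hodd
    exact hnd ((Nat.Coprime.dvd_of_dvd_mul_left (Nat.coprime_two_right.2 hodd)) hd)
  refine ⟨hev, ?_⟩
  obtain ⟨h', hh'⟩ := hev
  obtain ⟨k, hk⟩ := hd
  have hi0 : 0 < i := by
    rcases Nat.eq_zero_or_pos i with h0 | h0
    · exfalso
      rw [h0] at hnd hk
      apply hnd
      have : a = 0 := by omega
      rw [this]
    · exact h0
  have hak : a = h' * k := by
    have : 2 * a = 2 * (h' * k) := by rw [hk, hh']; ring
    omega
  rcases Nat.even_or_odd k with ⟨s, hs⟩ | ⟨s, hs⟩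
  · exfalso
    apply hnd
    refine ⟨s, ?_⟩
    rw [hak, hs, hh']
    ring
  · have h1 : a = h' + i * s := by
      rw [hak, hs, hh']
      ring
    have h2 : i / 2 = h' := by omega
    rw [h2, h1, Nat.add_mul_mod_self_left]
    apply Nat.mod_eq_of_lt
    omega

end cntarith

section cnt
variable {F : Type*} [Field F] [Fintype F] {p : ℕ} [Fact p.Prime] [CharP F p]
variable {V : Type*} [AddCommGroup V] [Module F V] [FiniteDimensional F V]

theorem cnt_char_dvd_card : p ∣ Fintype.card F := by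
  obtain ⟨e, hp, he⟩ := FiniteField.card F p
  rw [he]
  exact dvd_pow_self p e.ne_zero

theorem not_char_dvd_card_ts_even (Q : QuadraticForm F V) (hQ : (polarBilin Q).Nondegenerate)
    (d : ℕ) (hdim : finrank F V = 2 * d) (m : ℕ) (hmd : m < d) :
    ¬ p ∣ Nat.card {W : Submodule F V // finrank F W = m ∧ ∀ w ∈ W, Q w = 0} := by
  intro h
  have hp : p.Prime := Fact.out
  have hpq : p ∣ Fintype.card F := cnt_char_dvd_card
  have hq0 : 0 < Fintype.card F := Fintype.card_pos
  have hmain := cnt_card_ts_mul hQ d hdim m hmd.le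
  have hdvd : p ∣ ∏ j ∈ Finset.range m, cntE (IsPlus Q) (Fintype.card F) (d - j) := by
    rw [← hmain]
    exact Dvd.dvd.mul_right h _
  obtain ⟨j, hj, hrj⟩ := (Prime.dvd_finsetProd_iff hp.prime _).1 hdvd
  rw [Finset.mem_range] at hj
  have hpow : ∀ e, 1 ≤ e → p ∣ Fintype.card F ^ e :=
    fun e he => hpq.trans (dvd_pow_self _ (by omega))
  have hpos : ∀ e, 1 ≤ Fintype.card F ^ e := fun e => Nat.one_le_pow _ _ hq0
  have hsub : ∀ e, 1 ≤ e → ¬ p ∣ Fintype.card F ^ e - 1 := by
    intro e he h1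
    have h2 := (Nat.dvd_sub (hpow e he) h1)
    rw [Nat.sub_sub_self (hpos e)] at h2
    exact hp.one_lt.ne' (Nat.dvd_one.1 h2)
  have hadd : ∀ e, 1 ≤ e → ¬ p ∣ Fintype.card F ^ e + 1 := by
    intro e he h1
    have h2 := (Nat.dvd_add_right (hpow e he)).1 h1
    exact hp.one_lt.ne' (Nat.dvd_one.1 h2)
  by_cases hplus : IsPlus Q
  · rw [cntE_pos hplus] at hrj
    rcases (Nat.Prime.dvd_mul hp).1 hrj with h2 | h2
    · exact hsub _ (by omega) h2
    · exact hadd _ (by omega) h2
  · rw [cntE_neg hplus] at hrj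
    rcases (Nat.Prime.dvd_mul hp).1 hrj with h2 | h2
    · exact hadd _ (by omega) h2
    · exact hsub _ (by omega) h2

theorem cnt_plus (Q : QuadraticForm F V) (hQ : (polarBilin Q).Nondegenerate) (hplus : IsPlus Q)
    (d : ℕ) (hdim : finrank F V = 2 * d) (m : ℕ) (hmd : m < d) (r : ℕ) [Fact r.Prime]
    (hrp : r ≠ p) (hr2 : r ≠ 2)
    (h : r ∣ Nat.card {W : Submodule F V // finrank F W = m ∧ ∀ w ∈ W, Q w = 0}) :
    ∃ j, j < m ∧ (orderOf ((Fintype.card F : ℕ) : ZMod r) ∣ d - j ∨
      (Even (orderOf ((Fintype.card F : ℕ) : ZMod r)) ∧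
        (d - j - 1) % orderOf ((Fintype.card F : ℕ) : ZMod r) =
          orderOf ((Fintype.card F : ℕ) : ZMod r) / 2)) := by
  have hr : r.Prime := Fact.out
  have hq0 : 0 < Fintype.card F := Fintype.card_pos
  have hmain := cnt_card_ts_mul hQ d hdim m hmd.le
  have hdvd : r ∣ ∏ j ∈ Finset.range m, cntE (IsPlus Q) (Fintype.card F) (d - j) := by
    rw [← hmain]
    exact Dvd.dvd.mul_right h _
  obtain ⟨j, hj, hrj⟩ := (Prime.dvd_finsetProd_iff hr.prime _).1 hdvd
  rw [Finset.mem_range] at hj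
  refine ⟨j, hj, ?_⟩
  rw [cntE_pos hplus] at hrj
  rcases (Nat.Prime.dvd_mul hr).1 hrj with h2 | h2
  · left
    exact (Cfsg.Agent.Lib.Helper1.TISp.dvd_pow_sub_one_iff r _ _ hq0).1 h2
  · right
    exact cnt_dvd_pow_add_one r hr2 _ _ h2

theorem cnt_minus (Q : QuadraticForm F V) (hQ : (polarBilin Q).Nondegenerate) (hminus : ¬ IsPlus Q)
    (d : ℕ) (hdim : finrank F V = 2 * d) (m : ℕ) (hmd : m < d) (r : ℕ) [Fact r.Prime]
    (hrp : r ≠ p) (hr2 : r ≠ 2)
    (h : r ∣ Nat.card {W : Submodule F V // finrank F W = m ∧ ∀ w ∈ W, Q w = 0}) :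
    ∃ j, j < m ∧ ((Even (orderOf ((Fintype.card F : ℕ) : ZMod r)) ∧
        (d - j) % orderOf ((Fintype.card F : ℕ) : ZMod r) =
          orderOf ((Fintype.card F : ℕ) : ZMod r) / 2) ∨
      orderOf ((Fintype.card F : ℕ) : ZMod r) ∣ d - j - 1) := by
  have hr : r.Prime := Fact.out
  have hq0 : 0 < Fintype.card F := Fintype.card_pos
  have hmain := cnt_card_ts_mul hQ d hdim m hmd.le
  have hdvd : r ∣ ∏ j ∈ Finset.range m, cntE (IsPlus Q) (Fintype.card F) (d - j) := by
    rw [← hmain]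
    exact Dvd.dvd.mul_right h _
  obtain ⟨j, hj, hrj⟩ := (Prime.dvd_finsetProd_iff hr.prime _).1 hdvd
  rw [Finset.mem_range] at hj
  refine ⟨j, hj, ?_⟩
  rw [cntE_neg hminus] at hrj
  rcases (Nat.Prime.dvd_mul hr).1 hrj with h2 | h2
  · left
    exact cnt_dvd_pow_add_one r hr2 _ _ h2
  · right
    exact (Cfsg.Agent.Lib.Helper1.TISp.dvd_pow_sub_one_iff r _ _ hq0).1 h2

end cnt

end Cfsg.Agent.Lib.Helper7.TSO
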