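import Mathlib
import Cfsg.Prelude.Def_Classical

/-! S5988 board (leader helper5), package PK-SQM-D: explicit isometries with square `-1` of the
standard plus and minus forms. -/

set_option autoImplicit false

namespace Cfsg.Agent.Lib.Helper5.OPar

open Matrix

section sqmd
variable {F : Type*} [Field F]

theorem sqmd_J2_sq :
    (!![0, -1; 1, 0] : Matrix (Fin 2) (Fin 2) F) * !![0, -1; 1, 0] = -1 := by
  ext i j
  fin_cases i <;> fin_cases j <;> simp [Matrix.mul_apply, Fin.sum_univ_two]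

/-- a square matrix of even size with square `-1`. -/
theorem sqmd_exists_even (k : ℕ) : ∃ A : Matrix (Fin (k + k)) (Fin (k + k)) F, A * A = -1 := by
  let e : Fin 2 × Fin k ≃ Fin (k + k) := finProdFinEquiv.trans (finCongr (by ring))
  refine ⟨Matrix.reindex e e
    (blockDiagonal (fun _ : Fin k => (!![0, -1; 1, 0] : Matrix (Fin 2) (Fin 2) F))), ?_⟩
  rw [Matrix.reindex_apply, Matrix.submatrix_mul_equiv, ← blockDiagonal_mul]
  have : (fun _ : Fin k => (!![0, -1; 1, 0] : Matrix (Fin 2) (Fin 2) F) * !![0, -1; 1, 0]) =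
      -(1 : Fin k → Matrix (Fin 2) (Fin 2) F) := by
    funext _
    rw [sqmd_J2_sq]; rfl
  rw [this, blockDiagonal_neg, blockDiagonal_one]
  ext i j
  simp [Matrix.one_apply]

theorem sqmd_exists_sq (d : ℕ) (h : IsSquare ((-1 : F) ^ d)) :
    ∃ A : Matrix (Fin d) (Fin d) F, A * A = -1 := by
  by_cases hs : IsSquare (-1 : F)
  · obtain ⟨c, hc⟩ := hs
    refine ⟨c • 1, ?_⟩
    rw [smul_mul_smul_comm, one_mul, ← hc, neg_smul, one_smul]
  · rcases Nat.even_or_odd d with ⟨k, rfl⟩ | ho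
    · exact sqmd_exists_even k
    · rw [ho.neg_one_pow] at h
      exact absurd h hs

theorem sqmd_dot (d : ℕ) (A B : Matrix (Fin d) (Fin d) F) (hAB : Aᵀ * B = 1) (u w : Fin d → F) :
    ∑ i : Fin d, (A *ᵥ u) i * (B *ᵥ w) i = ∑ i : Fin d, u i * w i := by
  change (A *ᵥ u) ⬝ᵥ (B *ᵥ w) = u ⬝ᵥ w
  rw [← vecMul_transpose, ← dotProduct_mulVec, mulVec_mulVec, hAB, one_mulVec]

theorem sqmd_plus_iso (d : ℕ) (A B : Matrix (Fin d) (Fin d) F) (hAB : Aᵀ * B = 1)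
    (v : Fin d ⊕ Fin d → F) :
    Cfsg.quadFormPlus d F (fromBlocks A 0 0 B *ᵥ v) = Cfsg.quadFormPlus d F v := by
  unfold Cfsg.quadFormPlus
  rw [fromBlocks_mulVec]
  simp only [zero_mulVec, add_zero, zero_add, Sum.elim_inl, Sum.elim_inr]
  exact sqmd_dot d A B hAB _ _

theorem sqmd_neg_one_blocks {m n : Type*} [DecidableEq m] [DecidableEq n] :
    fromBlocks (-1 : Matrix m m F) 0 0 (-1 : Matrix n n F) = -1 := by
  rw [← fromBlocks_one, fromBlocks_neg, neg_zero, neg_zero]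

theorem sqmd_block_sq {m : Type*} [Fintype m] [DecidableEq m] (A : Matrix m m F)
    (hA : A * A = -1) :
    (fromBlocks A 0 0 (-Aᵀ)) * (fromBlocks A 0 0 (-Aᵀ)) = (-1 : Matrix (m ⊕ m) (m ⊕ m) F) := by
  rw [fromBlocks_multiply]
  simp only [Matrix.mul_zero, Matrix.zero_mul, add_zero, zero_add, neg_mul, mul_neg, neg_neg]
  rw [← transpose_mul, hA, transpose_neg, transpose_one]
  simp only [neg_zero]
  exact sqmd_neg_one_blocks (F := F) (m := m) (n := m)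

theorem sqmd_block_tr {m : Type*} [Fintype m] [DecidableEq m] (A : Matrix m m F)
    (hA : A * A = -1) : Aᵀ * (-Aᵀ) = 1 := by
  rw [mul_neg, ← transpose_mul, hA, transpose_neg, transpose_one, neg_neg]

/-- a matrix of square `-1` as an element of `GL`. -/
def sqmd_unit {n : Type*} [Fintype n] [DecidableEq n] (X : Matrix n n F) (hX : X * X = -1) :
    GL n F :=
  ⟨X, -X, by rw [mul_neg, hX, neg_neg], by rw [neg_mul, hX, neg_neg]⟩

end sqmd

section sqm2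
variable {F : Type*} [Field F] [Fintype F] [DecidableEq F]

theorem exists_sq_neg_one_plus (h2 : (2 : F) ≠ 0) (d : ℕ) (h : IsSquare ((-1 : F) ^ d)) :
    ∃ x : GL (Fin d ⊕ Fin d) F, x ∈ Cfsg.isometryGroup F (Cfsg.quadFormPlus d F) ∧
      (x : Matrix (Fin d ⊕ Fin d) (Fin d ⊕ Fin d) F) * (x : Matrix _ _ F) = -1 := by
  have _ := h2
  obtain ⟨A, hA⟩ := sqmd_exists_sq d h
  refine ⟨sqmd_unit _ (sqmd_block_sq A hA), ?_, sqmd_block_sq A hA⟩
  intro u v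
  exact sqmd_plus_iso d A (-Aᵀ) (sqmd_block_tr A hA) u

omit [Fintype F] [DecidableEq F] in
theorem sqmd_binary (a b δ : F) (hδ : δ * δ = 4 * b - a * a) (hδ0 : δ ≠ 0) (z : Fin 2 → F) :
    ((δ⁻¹ • !![a, 2 * b; -2, -a] : Matrix (Fin 2) (Fin 2) F) *ᵥ z) 0 ^ 2 +
      a * ((δ⁻¹ • !![a, 2 * b; -2, -a] : Matrix (Fin 2) (Fin 2) F) *ᵥ z) 0 *
        ((δ⁻¹ • !![a, 2 * b; -2, -a] : Matrix (Fin 2) (Fin 2) F) *ᵥ z) 1 +
      b * ((δ⁻¹ • !![a, 2 * b; -2, -a] : Matrix (Fin 2) (Fin 2) F) *ᵥ z) 1 ^ 2 =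
    z 0 ^ 2 + a * z 0 * z 1 + b * z 1 ^ 2 := by
  have e0 : ((δ⁻¹ • !![a, 2 * b; -2, -a] : Matrix (Fin 2) (Fin 2) F) *ᵥ z) 0 =
      δ⁻¹ * (a * z 0 + 2 * b * z 1) := by
    simp [Matrix.mulVec, dotProduct, Fin.sum_univ_two]
    ring
  have e1 : ((δ⁻¹ • !![a, 2 * b; -2, -a] : Matrix (Fin 2) (Fin 2) F) *ᵥ z) 1 =
      δ⁻¹ * (-2 * z 0 - a * z 1) := by
    simp [Matrix.mulVec, dotProduct, Fin.sum_univ_two]
    ring
  rw [e0, e1]
  have hδ2 : δ⁻¹ * δ⁻¹ * (4 * b - a * a) = 1 := by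
    rw [← hδ]; field_simp
  linear_combination (z 0 ^ 2 + a * z 0 * z 1 + b * z 1 ^ 2) * hδ2

omit [Fintype F] [DecidableEq F] in
theorem sqmd_binary_sq (a b δ : F) (hδ : δ * δ = 4 * b - a * a) (hδ0 : δ ≠ 0) :
    (δ⁻¹ • !![a, 2 * b; -2, -a] : Matrix (Fin 2) (Fin 2) F) *
      (δ⁻¹ • !![a, 2 * b; -2, -a]) = -1 := by
  have hδ2 : δ⁻¹ * δ⁻¹ * (4 * b - a * a) = 1 := by
    rw [← hδ]; field_simp
  have hK : (!![a, 2 * b; -2, -a] : Matrix (Fin 2) (Fin 2) F) * !![a, 2 * b; -2, -a] =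
      (a * a - 4 * b) • (1 : Matrix (Fin 2) (Fin 2) F) := by
    ext i j
    fin_cases i <;> fin_cases j <;> simp [Matrix.mul_apply, Fin.sum_univ_two] <;> ring
  rw [smul_mul_smul_comm, hK, smul_smul]
  have : δ⁻¹ * δ⁻¹ * (a * a - 4 * b) = -1 := by linear_combination (-1 : F) * hδ2
  rw [this, neg_smul, one_smul]

theorem sqmd_exists_delta (h2 : (2 : F) ≠ 0) (a b : F)
    (hab : ∀ x y : F, x ^ 2 + a * x * y + b * y ^ 2 = 0 → x = 0 ∧ y = 0)
    (hm1 : ¬ IsSquare (-1 : F)) : ∃ δ : F, δ * δ = 4 * b - a * a ∧ δ ≠ 0 := by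
  have hns : ¬ IsSquare (a * a - 4 * b) := by
    rintro ⟨s, hs⟩
    have := hab ((s - a) / 2) 1 (by
      field_simp
      linear_combination (-1 : F) * hs)
    exact one_ne_zero this.2
  have h1 := quadraticChar_neg_one_iff_not_isSquare.2 hm1
  have h3 := quadraticChar_neg_one_iff_not_isSquare.2 hns
  have hD0 : (4 * b - a * a : F) ≠ 0 := by
    intro h0
    apply hns
    refine ⟨0, ?_⟩
    linear_combination (-1 : F) * h0
  have h4 : quadraticChar F (4 * b - a * a) = 1 := by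
    have : (4 * b - a * a : F) = (-1) * (a * a - 4 * b) := by ring
    rw [this, map_mul, h1, h3]; norm_num
  obtain ⟨δ, hδ⟩ := (quadraticChar_one_iff_isSquare hD0).1 h4
  refine ⟨δ, hδ.symm, ?_⟩
  rintro rfl
  apply hD0
  rw [hδ]; ring

theorem exists_sq_neg_one_minus (h2 : (2 : F) ≠ 0) (d : ℕ) (hd : 1 ≤ d) (a b : F)
    (hab : ∀ x y : F, x ^ 2 + a * x * y + b * y ^ 2 = 0 → x = 0 ∧ y = 0)
    (h : ¬ IsSquare ((-1 : F) ^ d)) :
    ∃ x : GL ((Fin (d - 1) ⊕ Fin (d - 1)) ⊕ Fin 2) F,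
      x ∈ Cfsg.isometryGroup F (Cfsg.quadFormMinus (d - 1) F a b) ∧
      (x : Matrix ((Fin (d - 1) ⊕ Fin (d - 1)) ⊕ Fin 2) ((Fin (d - 1) ⊕ Fin (d - 1)) ⊕ Fin 2) F)
        * (x : Matrix _ _ F) = -1 := by
  have hdodd : Odd d := by
    rcases Nat.even_or_odd d with he | ho
    · exact absurd (by rw [he.neg_one_pow]; exact IsSquare.one) h
    · exact ho
  rw [hdodd.neg_one_pow] at h
  have hev : Even (d - 1) := by
    obtain ⟨k, hk⟩ := hdodd
    exact ⟨k, by omega⟩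
  obtain ⟨A, hA⟩ := sqmd_exists_sq (F := F) (d - 1)
    (by rw [hev.neg_one_pow]; exact IsSquare.one)
  obtain ⟨δ, hδ, hδ0⟩ := sqmd_exists_delta h2 a b hab h
  set P : Matrix (Fin (d - 1) ⊕ Fin (d - 1)) (Fin (d - 1) ⊕ Fin (d - 1)) F :=
    fromBlocks A 0 0 (-Aᵀ) with hP
  set Y : Matrix (Fin 2) (Fin 2) F := δ⁻¹ • !![a, 2 * b; -2, -a] with hY
  have hXX : (fromBlocks P 0 0 Y) * (fromBlocks P 0 0 Y) =
      (-1 : Matrix ((Fin (d - 1) ⊕ Fin (d - 1)) ⊕ Fin 2) ((Fin (d - 1) ⊕ Fin (d - 1)) ⊕ Fin 2) F) := by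
    rw [fromBlocks_multiply]
    simp only [Matrix.mul_zero, Matrix.zero_mul, add_zero, zero_add]
    rw [hP, sqmd_block_sq A hA, hY, sqmd_binary_sq a b δ hδ hδ0]
    exact sqmd_neg_one_blocks (F := F) (m := Fin (d - 1) ⊕ Fin (d - 1)) (n := Fin 2)
  refine ⟨sqmd_unit _ hXX, ?_, hXX⟩
  intro u v
  change Cfsg.quadFormMinus (d - 1) F a b (fromBlocks P 0 0 Y *ᵥ u) =
    Cfsg.quadFormMinus (d - 1) F a b u
  unfold Cfsg.quadFormMinus
  rw [fromBlocks_mulVec]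
  simp only [zero_mulVec, add_zero, zero_add, Sum.elim_inl, Sum.elim_inr]
  congr 1
  · have := sqmd_plus_iso (d - 1) A (-Aᵀ) (sqmd_block_tr A hA) (u ∘ Sum.inl)
    unfold Cfsg.quadFormPlus at this
    exact this
  · exact sqmd_binary a b δ hδ hδ0 (u ∘ Sum.inr)

end sqm2

end Cfsg.Agent.Lib.Helper5.OPar
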