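import Mathlib
import Cfsg.Prelude.Def_Characters
import Cfsg.Agent.Lib.Helper1.SUMin.Defs
import Cfsg.Agent.Lib.Helper1.SiegelW
import Cfsg.Agent.Lib.Lead.SUMinA3

set_option autoImplicit false
set_option linter.unusedSectionVars false
set_option linter.unusedVariables false

/-!
# S2346, package PK-ABS1: abstract Fourier lemmas for `isoAvg`
-/

namespace Cfsg.Agent.Lib.Helper2.OmMin

open Cfsg Cfsg.Agent.Lib.Helper1.SUMin
open scoped ComplexConjugate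

universe u

variable {G : Type u} [Group G] [Fintype G] {A : Type u} [AddCommGroup A] [Fintype A]

namespace PkABS1

theorem zeta0 (ζ : A → G) (hζ : ∀ a b, ζ (a + b) = ζ a * ζ b) : ζ 0 = 1 := by
  have h := hζ 0 0
  rw [add_zero] at h
  exact (mul_eq_left.mp h.symm)

theorem zetaNeg (ζ : A → G) (hζ : ∀ a b, ζ (a + b) = ζ a * ζ b) (a : A) : ζ (-a) = (ζ a)⁻¹ := by
  rw [eq_inv_iff_mul_eq_one, ← hζ, neg_add_cancel, zeta0 ζ hζ]

end PkABS1

open PkABS1

theorem isoAvg_sum_all (χ : G → ℂ) (ζ : A → G) (hζ : ∀ a b, ζ (a + b) = ζ a * ζ b) (g : G) :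
    ∑ ψ : AddChar A ℂ, isoAvg ζ ψ χ g = χ g := by
  have h := a3_fourier_inv (fun c : A => χ (ζ c * g)) 0
  simp only [AddChar.map_zero_eq_one, mul_one] at h
  rw [zeta0 ζ hζ, one_mul] at h
  rw [← h]
  rfl

/-- `isoAvg ζ ψ χ` vanishes at elements normalising `ζ A` but moving `ψ` -/
theorem isoAvg_eq_zero_of_moved {χ : G → ℂ} (hχ : IsClassFunction G χ) (ζ : A → G)
    (hζ : ∀ a b, ζ (a + b) = ζ a * ζ b) (ψ : AddChar A ℂ) (g : G) (τ : A ≃+ A)
    (hg : ∀ a, g * ζ a * g⁻¹ = ζ (τ a)) (b : A) (hb : ψ (τ b) ≠ ψ b) : isoAvg ζ ψ χ g = 0 := by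
  -- the function `c ↦ χ (ζ c * g)` is invariant under translation by `b - τ b`
  set d : A := b - τ b with hd
  have hinv : ∀ c : A, χ (ζ (c + d) * g) = χ (ζ c * g) := by
    intro c
    have h1 : ζ (c + d) * g = ζ b * (ζ c * g) * (ζ b)⁻¹ := by
      have h2 : g * (ζ b)⁻¹ = (ζ (τ b))⁻¹ * g := by
        have := hg b
        rw [← this]
        group
      have h3 : ζ (c + d) = ζ b * ζ c * (ζ (τ b))⁻¹ := by
        rw [hd, ← zetaNeg ζ hζ, ← hζ, ← hζ]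
        congr 1
        abel
      rw [h3, mul_assoc (ζ b) (ζ c * g), mul_assoc (ζ c) g, h2]
      group
    rw [h1, hχ]
  have hψd : ψ d ≠ 1 := by
    intro h1
    apply hb
    have : ψ b = ψ (τ b + d) := by rw [hd]; congr 1; abel
    rw [this, AddChar.map_add_eq_mul, h1, mul_one]
  rw [isoAvg_apply]
  have hsum : ∑ c : A, conj (ψ c) * χ (ζ c * g) =
      conj (ψ d) * ∑ c : A, conj (ψ c) * χ (ζ c * g) := by
    calc ∑ c : A, conj (ψ c) * χ (ζ c * g)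
        = ∑ c : A, conj (ψ (c + d)) * χ (ζ (c + d) * g) :=
          (Equiv.sum_comp (Equiv.addRight d) (fun c : A => conj (ψ c) * χ (ζ c * g))).symm
      _ = ∑ c : A, conj (ψ d) * (conj (ψ c) * χ (ζ c * g)) := by
          apply Finset.sum_congr rfl
          intro c _
          rw [hinv, AddChar.map_add_eq_mul, map_mul]
          ring
      _ = conj (ψ d) * ∑ c : A, conj (ψ c) * χ (ζ c * g) := by rw [Finset.mul_sum]
  have hcd : conj (ψ d) ≠ 1 := by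
    intro h
    apply hψd
    have := congrArg conj h
    rwa [Complex.conj_conj, map_one] at this
  have hz : ∑ c : A, conj (ψ c) * χ (ζ c * g) = 0 := by
    have : (1 - conj (ψ d)) * ∑ c : A, conj (ψ c) * χ (ζ c * g) = 0 := by
      rw [sub_mul, one_mul, ← hsum, sub_self]
    rcases mul_eq_zero.mp this with h | h
    · exact absurd (sub_eq_zero.mp h).symm hcd
    · exact h
  rw [hz, mul_zero]

/-- transport of `isoAvg` under conjugation -/
theorem isoAvg_conj_param {χ : G → ℂ} (hχ : IsClassFunction G χ) (ζ ζ' : A → G) (n : G)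
    (σ : A ≃+ A) (hn : ∀ a, n * ζ a * n⁻¹ = ζ' (σ a)) (ψ ψ' : AddChar A ℂ)
    (hψ : ∀ a, ψ' (σ a) = ψ a) (g : G) :
    isoAvg ζ' ψ' χ (n * g * n⁻¹) = isoAvg ζ ψ χ g := by
  rw [isoAvg_apply, isoAvg_apply]
  congr 1
  rw [← Equiv.sum_comp σ.toEquiv (fun c : A => conj (ψ' c) * χ (ζ' c * (n * g * n⁻¹)))]
  apply Finset.sum_congr rfl
  intro a _
  rw [AddEquiv.toEquiv_eq_coe, AddEquiv.coe_toEquiv, hψ, ← hn]
  have : n * ζ a * n⁻¹ * (n * g * n⁻¹) = n * (ζ a * g) * n⁻¹ := by group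
  rw [this, hχ]

theorem isoAvg_one_nat {χ : G → ℂ} (hχ : IsCharacter G χ) (ζ : A → G)
    (hζ : ∀ a b, ζ (a + b) = ζ a * ζ b) (ψ : AddChar A ℂ) : ∃ n : ℕ, isoAvg ζ ψ χ 1 = n :=
  sw_mult_nat hχ ζ hζ ψ

/-- `χ (ζ w) = ∑_ψ m_ψ ψ w` -/
theorem char_eq_sum_mult (χ : G → ℂ) (ζ : A → G) (hζ : ∀ a b, ζ (a + b) = ζ a * ζ b) (w : A) :
    ∑ ψ : AddChar A ℂ, isoAvg ζ ψ χ 1 * ψ w = χ (ζ w) := by
  have h := a3_fourier_inv (fun c : A => χ (ζ c * 1)) w
  simp only [mul_one] at h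
  rw [← h]
  apply Finset.sum_congr rfl
  intro ψ _
  rw [isoAvg_apply]
  simp only [mul_one]

end Cfsg.Agent.Lib.Helper2.OmMin
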