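/-
S2346 PK-SUB (lead): Maschke -- an invariant subspace on which `g₀` acts nontrivially contains an irreducible
invariant subspace on which `g₀` acts nontrivially, with a matrix model.
-/
import Mathlib
import Cfsg.Prelude.Def_Characters

set_option autoImplicit false

namespace Cfsg.Agent.Lib.Helper2.OmMin

open Matrix Cfsg

universe u

section SUB
variable {G : Type u} [Group G] [Fintype G] {k : ℕ} (ρ : Representation ℂ G (Fin k → ℂ))

namespace PkSUB

/-- a simple `ℂ[G]`-submodule inside `X₀` on which `g₀` acts nontrivially -/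
theorem exists_simple (X₀ : Submodule ℂ (Fin k → ℂ)) (hX₀ : ∀ g, ∀ x ∈ X₀, ρ g x ∈ X₀) (g₀ : G)
    (x₀ : Fin k → ℂ) (hx₀ : x₀ ∈ X₀) (hg₀ : ρ g₀ x₀ ≠ x₀) :
    ∃ S : Submodule (MonoidAlgebra ℂ G) ρ.asModule, IsSimpleModule (MonoidAlgebra ℂ G) S ∧
      (∀ y ∈ S, (y : Fin k → ℂ) ∈ X₀) ∧ ∃ y ∈ S, ρ g₀ (y : Fin k → ℂ) ≠ y := by
  classical
  have : NeZero (Nat.card G : ℂ) := ⟨by
    have : 0 < Nat.card G := Nat.card_pos
    exact_mod_cast this.ne'⟩
  let U₀ : Subrepresentation ρ := ⟨X₀, fun g x hx => hX₀ g x hx⟩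
  let N : Submodule (MonoidAlgebra ℂ G) ρ.asModule := Subrepresentation.asSubmodule U₀
  have hsup := IsSemisimpleModule.sSup_simples_le N
  by_contra hcon
  push Not at hcon
  have hx₀N : (x₀ : ρ.asModule) ∈ N := hx₀
  rw [← hsup, sSup_eq_iSup'] at hx₀N
  apply hg₀
  refine Submodule.iSup_induction (motive := fun y : ρ.asModule => ρ g₀ (y : Fin k → ℂ) = y)
    _ hx₀N ?_ ?_ ?_
  · rintro ⟨S, hS1, hS2⟩ y hy
    exact hcon S hS1 (fun z hz => hS2 hz) y hy
  · exact map_zero _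
  · intro x y hx hy
    exact (map_add (ρ g₀) _ _).trans (congrArg₂ (· + ·) hx hy)

end PkSUB

theorem exists_irr_sub (X₀ : Submodule ℂ (Fin k → ℂ)) (hX₀ : ∀ g, ∀ x ∈ X₀, ρ g x ∈ X₀) (g₀ : G)
    (x₀ : Fin k → ℂ) (hx₀ : x₀ ∈ X₀) (hg₀ : ρ g₀ x₀ ≠ x₀) :
    ∃ (Y : Submodule ℂ (Fin k → ℂ)), Y ≤ X₀ ∧ Y ≠ ⊥ ∧ (∀ g, ∀ y ∈ Y, ρ g y ∈ Y) ∧
      ∃ (k' : ℕ) (σ : Representation ℂ G (Fin k' → ℂ)) (φ : Y ≃ₗ[ℂ] (Fin k' → ℂ)),
        σ.IsIrreducible ∧ k' ≤ Module.finrank ℂ X₀ ∧ σ g₀ ≠ 1 ∧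
        ∀ (g : G) (y : Y), ((φ.symm (σ g (φ y)) : Y) : Fin k → ℂ) = ρ g (y : Fin k → ℂ) := by
  classical
  obtain ⟨S, hSs, hSX, y₀, hy₀S, hy₀⟩ := PkSUB.exists_simple ρ X₀ hX₀ g₀ x₀ hx₀ hg₀
  let U : Subrepresentation ρ := Subrepresentation.ofSubmodule' S
  let Y : Submodule ℂ (Fin k → ℂ) := U.toSubmodule
  have hYS : ∀ y : Fin k → ℂ, y ∈ Y ↔ (y : ρ.asModule) ∈ S := fun y => Iff.rfl
  have hYinv : ∀ g, ∀ y ∈ Y, ρ g y ∈ Y := fun g y hy => U.apply_mem_toSubmodule g hy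
  have hYX : Y ≤ X₀ := fun y hy => hSX y hy
  have hy₀Y : (y₀ : Fin k → ℂ) ∈ Y := hy₀S
  have hYne : Y ≠ ⊥ := by
    intro h
    have : (y₀ : Fin k → ℂ) = 0 := by
      have := hy₀Y
      rw [h] at this
      exact (Submodule.mem_bot ℂ).mp this
    apply hy₀
    rw [this]
    exact map_zero _
  refine ⟨Y, hYX, hYne, hYinv, Module.finrank ℂ Y, ?_⟩
  let φ : Y ≃ₗ[ℂ] (Fin (Module.finrank ℂ Y) → ℂ) := (Module.finBasis ℂ Y).equivFun
  let τ : Representation ℂ G Y := U.toRepresentation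
  have hτ : ∀ g (y : Y), ((τ g y : Y) : Fin k → ℂ) = ρ g (y : Fin k → ℂ) := fun g y => rfl
  let σ : Representation ℂ G (Fin (Module.finrank ℂ Y) → ℂ) :=
    { toFun := fun g => φ.conj (τ g)
      map_one' := by
        rw [map_one]
        refine LinearMap.ext fun v => ?_
        simp [LinearEquiv.conj_apply]
      map_mul' := fun a b => by
        rw [map_mul]
        refine LinearMap.ext fun v => ?_
        simp [LinearEquiv.conj_apply] }
  have hσ : ∀ g (v : Fin (Module.finrank ℂ Y) → ℂ), σ g v = φ (τ g (φ.symm v)) := fun g v => rfl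
  have hmodel : ∀ (g : G) (y : Y), ((φ.symm (σ g (φ y)) : Y) : Fin k → ℂ) = ρ g (y : Fin k → ℂ) := by
    intro g y
    rw [hσ, LinearEquiv.symm_apply_apply, LinearEquiv.symm_apply_apply, hτ]
  refine ⟨σ, φ, ?_, Submodule.finrank_mono hYX, ?_, hmodel⟩
  · -- irreducibility
    have hatom : IsAtom S := isSimpleModule_iff_isAtom.mp hSs
    have : Nontrivial (Subrepresentation σ) := by
      refine ⟨⊥, ⊤, ?_⟩
      intro h
      have h2 : φ ⟨_, hy₀Y⟩ ∈ (⊥ : Subrepresentation σ) := by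
        rw [h]; trivial
      have h3 : φ ⟨_, hy₀Y⟩ = 0 := h2
      have h4 : (⟨_, hy₀Y⟩ : Y) = 0 := by
        simpa using h3
      apply hy₀
      have h5 : (y₀ : Fin k → ℂ) = 0 := congrArg Subtype.val h4
      rw [h5]
      exact map_zero _
    refine ⟨fun W => ?_⟩
    -- pull back
    let Wρ : Subrepresentation ρ :=
      ⟨(W.toSubmodule.comap (φ : Y →ₗ[ℂ] _)).map Y.subtype, by
        rintro g v ⟨y, hy, rfl⟩
        refine ⟨τ g y, ?_, rfl⟩
        have : φ (τ g y) = σ g (φ y) := by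
          rw [hσ, LinearEquiv.symm_apply_apply]
        show φ (τ g y) ∈ W.toSubmodule
        rw [this]
        exact W.apply_mem_toSubmodule g hy⟩
    have hle : Subrepresentation.asSubmodule Wρ ≤ S := by
      rintro v ⟨y, hy, rfl⟩
      exact y.2
    rcases hatom.le_iff.mp hle with h | h
    · left
      apply Subrepresentation.toSubmodule_injective
      refine le_antisymm ?_ bot_le
      intro w hw
      have hmem : ((φ.symm w : Y) : Fin k → ℂ) ∈ Subrepresentation.asSubmodule Wρ :=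
        ⟨φ.symm w, by simpa using hw, rfl⟩
      rw [h] at hmem
      have h0 : ((φ.symm w : Y) : Fin k → ℂ) = 0 := hmem
      have h1 : (φ.symm w : Y) = 0 := Subtype.ext h0
      have h2 : w = 0 := by simpa using h1
      rw [h2]
      exact Submodule.zero_mem _
    · right
      apply Subrepresentation.toSubmodule_injective
      refine le_antisymm le_top ?_
      intro w _
      have hmem : (show ρ.asModule from ((φ.symm w : Y) : Fin k → ℂ)) ∈ S := (φ.symm w).2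
      rw [← h] at hmem
      obtain ⟨y, hy, hyw⟩ := hmem
      have : y = φ.symm w := Subtype.ext hyw
      have hy' : φ y ∈ W.toSubmodule := hy
      rw [this, LinearEquiv.apply_symm_apply] at hy'
      exact hy'
  · intro h1
    apply hy₀
    have := hmodel g₀ ⟨_, hy₀Y⟩
    rw [h1] at this
    simpa using this.symm

end SUB

end Cfsg.Agent.Lib.Helper2.OmMin
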