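/-
S2346 PK-ANISO (lead): the anisotropic binary form `A = QMn 0 a b`.
-/
import Mathlib
import Cfsg.Prelude.Def_Characters
import Cfsg.Agent.Lib.Helper2.OmMin.Defs
import Cfsg.Agent.Lib.Helper2.OrthCard1

set_option autoImplicit false
set_option linter.unusedSectionVars false

namespace Cfsg.Agent.Lib.Helper2.OmMin

open Matrix Cfsg Cfsg.Agent.Lib.Helper2.HypExt Cfsg.Agent.Lib.Helper2.Siegel
open Cfsg.Agent.Lib.Helper2.OrthCard

universe u

namespace PkANISO

variable {F : Type u} [Field F]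

/-- the vector `(z₁, z₂)` -/
def mkv (z₁ z₂ : F) : (Fin 0 ⊕ Fin 0) ⊕ Fin 2 → F := Sum.elim (fun _ => 0) ![z₁, z₂]

@[simp] theorem mkv_zero (z₁ z₂ : F) : mkv z₁ z₂ (Sum.inr 0) = z₁ := rfl
@[simp] theorem mkv_one (z₁ z₂ : F) : mkv z₁ z₂ (Sum.inr 1) = z₂ := rfl

theorem ext_v {v w : (Fin 0 ⊕ Fin 0) ⊕ Fin 2 → F} (h0 : v (Sum.inr 0) = w (Sum.inr 0))
    (h1 : v (Sum.inr 1) = w (Sum.inr 1)) : v = w := by
  funext i
  rcases i with (i | i) | i
  · exact i.elim0
  · exact i.elim0
  · fin_cases i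
    · exact h0
    · exact h1

theorem eq_mkv (v : (Fin 0 ⊕ Fin 0) ⊕ Fin 2 → F) : v = mkv (v (Sum.inr 0)) (v (Sum.inr 1)) :=
  ext_v rfl rfl

theorem Q_apply (a b : F) (v : (Fin 0 ⊕ Fin 0) ⊕ Fin 2 → F) :
    QMn 0 a b v = v (Sum.inr 0) ^ 2 + a * v (Sum.inr 0) * v (Sum.inr 1) + b * v (Sum.inr 1) ^ 2 := by
  rw [QMn_coe]
  simp [Cfsg.quadFormMinus]

theorem Q_mkv (a b z₁ z₂ : F) : QMn 0 a b (mkv z₁ z₂) = z₁ ^ 2 + a * z₁ * z₂ + b * z₂ ^ 2 := by
  rw [Q_apply]; rfl

theorem polar_apply (a b : F) (v w : (Fin 0 ⊕ Fin 0) ⊕ Fin 2 → F) :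
    QuadraticMap.polar (⇑(QMn 0 a b)) v w =
      2 * v (Sum.inr 0) * w (Sum.inr 0) + a * (v (Sum.inr 0) * w (Sum.inr 1) + v (Sum.inr 1) * w (Sum.inr 0))
        + 2 * b * v (Sum.inr 1) * w (Sum.inr 1) := by
  unfold QuadraticMap.polar
  rw [Q_apply, Q_apply, Q_apply, Pi.add_apply, Pi.add_apply]
  ring

theorem ne_zero_iff (v : (Fin 0 ⊕ Fin 0) ⊕ Fin 2 → F) :
    v ≠ 0 ↔ ¬ (v (Sum.inr 0) = 0 ∧ v (Sum.inr 1) = 0) := by
  constructor
  · intro h ⟨h0, h1⟩
    exact h (ext_v h0 h1)
  · rintro h rfl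
    exact h ⟨rfl, rfl⟩

end PkANISO

open PkANISO

section ANISO
variable {F : Type u} [Field F] [Fintype F] [DecidableEq F] (a b : F)
  (hab : ∀ z₁ z₂ : F, z₁ ^ 2 + a * z₁ * z₂ + b * z₂ ^ 2 = 0 → z₁ = 0 ∧ z₂ = 0)

include hab in
theorem aniso_nrm_zero : nrm (QMn 0 a b) (0 : F) = 0 := by
  unfold nrm
  rw [Nat.card_eq_zero]
  left
  refine ⟨fun ⟨v, hv0, hv⟩ => ?_⟩
  rw [Q_apply] at hv
  exact (ne_zero_iff v).mp hv0 (hab _ _ hv)

include hab in
/-- universality (Chevalley–Warning, or squares in char 2 / `FiniteField.exists_root_sum_quadratic`) -/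
theorem aniso_univ (c : F) : ∃ y : (Fin 0 ⊕ Fin 0) ⊕ Fin 2 → F, QMn 0 a b y = c := by
  by_cases h2 : (2 : F) = 0
  · have hchar : ringChar F = 2 := by
      have hdvd : ringChar F ∣ 2 := by
        apply (ringChar.spec F 2).mp
        exact_mod_cast h2
      have hp : (ringChar F).Prime := CharP.char_is_prime F (ringChar F)
      exact ((Nat.prime_dvd_prime_iff_eq hp Nat.prime_two).mp hdvd)
    obtain ⟨s, hs⟩ := FiniteField.isSquare_of_char_two hchar c
    refine ⟨mkv s 0, ?_⟩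
    rw [Q_mkv, hs]; ring
  · have hchar : ringChar F ≠ 2 := by
      intro h
      apply h2
      have := ringChar.Nat.cast_ringChar (R := F)
      rw [h] at this
      exact_mod_cast this
    have hodd : Fintype.card F % 2 = 1 := FiniteField.odd_card_of_char_ne_two hchar
    set d : F := b - a ^ 2 / 4 with hd
    have h4 : (4 : F) ≠ 0 := by
      have : (4 : F) = 2 * 2 := by norm_num
      rw [this]; exact mul_ne_zero h2 h2
    have hd0 : d ≠ 0 := by
      intro h
      have := hab (-a / 2) 1 (by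
        have : (-a / 2) ^ 2 + a * (-a / 2) * 1 + b * 1 ^ 2 = d := by
          rw [hd]; field_simp; ring
        rw [this, h])
      exact one_ne_zero this.2
    obtain ⟨x, y, hxy⟩ := FiniteField.exists_root_sum_quadratic (R := F)
      (f := Polynomial.X ^ 2) (g := Polynomial.C d * Polynomial.X ^ 2 + Polynomial.C 0 * Polynomial.X
        + Polynomial.C (-c)) (Polynomial.degree_X_pow 2) (Polynomial.degree_quadratic hd0) hodd
    simp only [Polynomial.eval_pow, Polynomial.eval_X, Polynomial.eval_add, Polynomial.eval_mul,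
      Polynomial.eval_C, zero_mul, add_zero] at hxy
    refine ⟨mkv (x - a * y / 2) y, ?_⟩
    rw [Q_mkv]
    have : (x - a * y / 2) ^ 2 + a * (x - a * y / 2) * y + b * y ^ 2 = x ^ 2 + d * y ^ 2 := by
      rw [hd]; field_simp; ring
    rw [this]
    linear_combination hxy

include hab in
/-- in characteristic 2 each nonzero value is taken exactly `q + 1` times -/
theorem aniso_nrm_char2 (h2 : (2 : F) = 0) (c : F) (hc : c ≠ 0) :
    nrm (QMn 0 a b) c = Fintype.card F + 1 := by
  classical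
  have hsqinj : Function.Injective (fun x : F => x ^ 2) := by
    intro x y hxy
    have hxy' : x ^ 2 = y ^ 2 := hxy
    have h : (x - y) ^ 2 = 0 := by
      have : (x - y) ^ 2 = (x ^ 2 - y ^ 2) + 2 * (y ^ 2 - x * y) := by ring
      rw [this, hxy', h2]; ring
    exact sub_eq_zero.mp ((pow_eq_zero_iff two_ne_zero).mp h)
  obtain ⟨sq, hsq1, hsq2⟩ :=
    Function.bijective_iff_has_inverse.mp (Finite.injective_iff_bijective.mp hsqinj)
  have hsq1' : ∀ x : F, sq (x ^ 2) = x := hsq1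
  have hsq2' : ∀ x : F, (sq x) ^ 2 = x := hsq2
  have hN : ∀ t : F, t ^ 2 + a * t + b ≠ 0 := by
    intro t h
    have := hab t 1 (by rw [← h]; ring)
    exact one_ne_zero this.2
  let s : F → F := fun t => sq (c / (t ^ 2 + a * t + b))
  have hs : ∀ t, (s t) ^ 2 * (t ^ 2 + a * t + b) = c := by
    intro t
    show (sq _) ^ 2 * _ = c
    rw [hsq2']
    exact div_mul_cancel₀ _ (hN t)
  have hs0 : ∀ t, s t ≠ 0 := by
    intro t h
    have := hs t
    rw [h] at this
    apply hc
    rw [← this]; ring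
  let g : Option F → ((Fin 0 ⊕ Fin 0) ⊕ Fin 2 → F) := fun o =>
    o.elim (mkv (sq c) 0) (fun t => mkv (t * s t) (s t))
  have hg : ∀ o, g o ≠ 0 ∧ QMn 0 a b (g o) = c := by
    intro o
    cases o with
    | none =>
      show mkv (sq c) 0 ≠ 0 ∧ QMn 0 a b (mkv (sq c) 0) = c
      constructor
      · rw [ne_zero_iff]
        rintro ⟨h0, -⟩
        rw [mkv_zero] at h0
        apply hc
        rw [← hsq2' c, h0]; ring
      · rw [Q_mkv]
        rw [mul_zero, zero_pow two_ne_zero, mul_zero, add_zero, add_zero, hsq2']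
    | some t =>
      show mkv (t * s t) (s t) ≠ 0 ∧ QMn 0 a b (mkv (t * s t) (s t)) = c
      constructor
      · rw [ne_zero_iff]
        rintro ⟨-, h1⟩
        rw [mkv_one] at h1
        exact hs0 t h1
      · rw [Q_mkv, ← hs t]; ring
  let f : Option F → {v : (Fin 0 ⊕ Fin 0) ⊕ Fin 2 → F // v ≠ 0 ∧ QMn 0 a b v = c} :=
    fun o => ⟨g o, hg o⟩
  have hf : Function.Bijective f := by
    constructor
    · intro o o' h
      have h' : g o = g o' := congrArg Subtype.val h
      have e0 := congrFun h' (Sum.inr 0)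
      have e1 := congrFun h' (Sum.inr 1)
      cases o with
      | none =>
        cases o' with
        | none => rfl
        | some t' =>
          exfalso
          have : (0 : F) = s t' := e1
          exact hs0 t' this.symm
      | some t =>
        cases o' with
        | none =>
          exfalso
          have : s t = (0 : F) := e1
          exact hs0 t this
        | some t' =>
          have h1 : s t = s t' := e1
          have h0 : t * s t = t' * s t' := e0
          rw [← h1] at h0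
          rw [mul_right_cancel₀ (hs0 t) h0]
    · rintro ⟨v, hv0, hv⟩
      rw [Q_apply] at hv
      by_cases hz : v (Sum.inr 1) = 0
      · refine ⟨none, Subtype.ext ?_⟩
        show mkv (sq c) 0 = v
        refine ext_v ?_ ?_
        · rw [mkv_zero, ← hv, hz]
          have : v (Sum.inr 0) ^ 2 + a * v (Sum.inr 0) * 0 + b * 0 ^ 2 = v (Sum.inr 0) ^ 2 := by ring
          rw [this, hsq1']
        · rw [mkv_one, hz]
      · set t := v (Sum.inr 0) / v (Sum.inr 1) with ht
        have hv0' : v (Sum.inr 0) = t * v (Sum.inr 1) := by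
          rw [ht]; field_simp
        have hs1 : s t = v (Sum.inr 1) := by
          show sq _ = _
          have : c / (t ^ 2 + a * t + b) = v (Sum.inr 1) ^ 2 := by
            rw [div_eq_iff (hN t), ← hv, hv0']; ring
          rw [this, hsq1']
        refine ⟨some t, Subtype.ext ?_⟩
        show mkv (t * s t) (s t) = v
        refine ext_v ?_ ?_
        · rw [mkv_zero, hs1, ← hv0']
        · rw [mkv_one, hs1]
  unfold nrm
  rw [← Nat.card_congr (Equiv.ofBijective f hf), Nat.card_eq_fintype_card, Fintype.card_option]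

include hab in
/-- in odd characteristic the orthogonal complement of any vector contains a pair with `f(y,y') = 1` -/
theorem aniso_perp_pair (h2 : (2 : F) ≠ 0) (u₄ : (Fin 0 ⊕ Fin 0) ⊕ Fin 2 → F) :
    ∃ y y' : (Fin 0 ⊕ Fin 0) ⊕ Fin 2 → F,
      QuadraticMap.polar (⇑(QMn 0 a b)) y u₄ = 0 ∧ QuadraticMap.polar (⇑(QMn 0 a b)) y' u₄ = 0 ∧
      QuadraticMap.polar (⇑(QMn 0 a b)) y y' = 1 := by
  -- a nonzero vector `w` orthogonal to `u₄`
  obtain ⟨w, hw0, hwu⟩ : ∃ w : (Fin 0 ⊕ Fin 0) ⊕ Fin 2 → F, w ≠ 0 ∧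
      QuadraticMap.polar (⇑(QMn 0 a b)) w u₄ = 0 := by
    set p := u₄ (Sum.inr 0) with hp
    set r := u₄ (Sum.inr 1) with hr
    by_cases h : a * p + 2 * b * r = 0 ∧ 2 * p + a * r = 0
    · refine ⟨mkv 1 0, ?_, ?_⟩
      · rw [ne_zero_iff]
        rintro ⟨h0, -⟩
        exact one_ne_zero h0
      · rw [polar_apply, mkv_zero, mkv_one, ← hp, ← hr]
        linear_combination h.2
    · refine ⟨mkv (a * p + 2 * b * r) (-(2 * p + a * r)), ?_, ?_⟩
      · rw [ne_zero_iff]
        rintro ⟨h0, h1⟩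
        rw [mkv_zero] at h0
        rw [mkv_one, neg_eq_zero] at h1
        exact h ⟨h0, h1⟩
      · rw [polar_apply, mkv_zero, mkv_one, ← hp, ← hr]
        ring
  have hQw : QMn 0 a b w ≠ 0 := by
    intro h
    rw [Q_apply] at h
    exact (ne_zero_iff w).mp hw0 (hab _ _ h)
  have hpw : QuadraticMap.polar (⇑(QMn 0 a b)) w w = 2 * QMn 0 a b w := by
    rw [polar_apply, Q_apply]; ring
  refine ⟨w, (2 * QMn 0 a b w)⁻¹ • w, hwu, ?_, ?_⟩
  · rw [QuadraticMap.polar_smul_left, hwu, smul_zero]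
  · rw [QuadraticMap.polar_smul_right, hpw, smul_eq_mul]
    exact inv_mul_cancel₀ (mul_ne_zero h2 hQw)

end ANISO

end Cfsg.Agent.Lib.Helper2.OmMin
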