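import Mathlib
import Cfsg.Prelude
import Cfsg.Agent.Lib.Helper2.PGUMeoDefs

/-!
# S2263 numerics, package NUM2: the l.c.m. bounds `lam_base`, `lam_step`
-/

set_option autoImplicit false

namespace Cfsg.Agent.Lib.PGUMeo

/-- `q + 1` divides `nn q D` (copy local to this file) -/
theorem num2_dvd_nn (q D : ℕ) : (q + 1) ∣ nn q D := by
  unfold nn
  split_ifs with h
  · obtain ⟨k, rfl⟩ := h
    have h2 : q ^ 2 - 1 ∣ (q ^ 2) ^ k - 1 := Nat.sub_one_dvd_pow_sub_one (q ^ 2) k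
    have h3 : (q + 1) ∣ q ^ 2 - 1 := by
      refine ⟨q - 1, ?_⟩
      have := Nat.sq_sub_sq q 1
      simpa using this
    have : q ^ (k + k) = (q ^ 2) ^ k := by rw [← pow_mul]; congr 1; ring
    rw [this]; exact h3.trans h2
  · have hodd : Odd D := Nat.not_even_iff_odd.mp h
    have := Odd.nat_add_dvd_pow_add_pow q 1 hodd
    simpa using this

theorem num2_le_pow (q D : ℕ) (hq : 2 ≤ q) (hD : 1 ≤ D) : q ≤ q ^ D := by
  calc q = q ^ 1 := (pow_one q).symm
    _ ≤ q ^ D := Nat.pow_le_pow_right (by omega) hD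

theorem num2_nn_pos (q D : ℕ) (hq : 2 ≤ q) (hD : 1 ≤ D) : 0 < nn q D := by
  unfold nn
  have := num2_le_pow q D hq hD
  split_ifs with h
  · omega
  · positivity

/-- lcm bound through a common divisor -/
theorem num2_lcm_mul_le (a b c : ℕ) (ha : 0 < a) (hca : c ∣ a) (hcb : c ∣ b) :
    Nat.lcm a b * c ≤ a * b := by
  have hg : c ∣ Nat.gcd a b := Nat.dvd_gcd hca hcb
  have hgpos : 0 < Nat.gcd a b := Nat.gcd_pos_of_pos_left b ha
  have hle : c ≤ Nat.gcd a b := Nat.le_of_dvd hgpos hg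
  calc Nat.lcm a b * c ≤ Nat.lcm a b * Nat.gcd a b := Nat.mul_le_mul_left _ hle
    _ = a * b := by rw [mul_comm]; exact Nat.gcd_mul_lcm a b

/-- abstract inequalities: `A = q^D₁`, `B = q^D₂`, `P = q^(D₁+D₂-1)` -/
theorem num2_ee (q A B P : ℕ) (hP : P * q = A * B) : (A - 1) * (B - 1) ≤ (P + 1) * (q + 1) := by
  have : (A - 1) * (B - 1) ≤ A * B := Nat.mul_le_mul (Nat.sub_le _ _) (Nat.sub_le _ _)
  nlinarith

theorem num2_eo (q A B P : ℕ) (hq : 2 ≤ q) (hA : q ≤ A) (hB : q ≤ B) (hP : P * q = A * B) :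
    (A - 1) * (B + 1) ≤ (P - 1) * (q + 1) := by
  have hA1 : 1 ≤ A := by omega
  have hPB : A ≤ P := by
    have : q * A ≤ q * P := by nlinarith
    exact Nat.le_of_mul_le_mul_left this (by omega)
  have hP1 : 1 ≤ P := by omega
  zify [hA1, hP1]
  have h1 : (P : ℤ) * q = A * B := by exact_mod_cast hP
  have h2 : (q : ℤ) ≤ A := by exact_mod_cast hA
  have h3 : (q : ℤ) ≤ B := by exact_mod_cast hB
  have h4 : (A : ℤ) ≤ P := by exact_mod_cast hPB
  have h5 : (2 : ℤ) ≤ q := by exact_mod_cast hq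
  nlinarith

theorem num2_oo (q A B P : ℕ) (hq : 2 ≤ q) (hA : q ≤ A) (hB : q ≤ B) (hP : P * q = A * B) :
    (A + 1) * (B + 1) ≤ (P + 1) * (q + 1) := by
  have key : A + B ≤ P + q := by
    have h1 : (A - q) * (B - q) + q * (A + B) = A * B + q * q := by
      obtain ⟨a, ha⟩ := Nat.exists_eq_add_of_le hA
      obtain ⟨b, hb⟩ := Nat.exists_eq_add_of_le hB
      rw [ha, hb]; simp only [Nat.add_sub_cancel_left]; ring
    have h2 : q * (A + B) ≤ q * (P + q) := by nlinarith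
    exact Nat.le_of_mul_le_mul_left h2 (by omega)
  nlinarith

theorem lam_base (q : ℕ) (hq : 2 ≤ q) (D₁ D₂ : ℕ) (h₁ : 1 ≤ D₁) (h₂ : 1 ≤ D₂) :
    Nat.lcm (nn q D₁) (nn q D₂) ≤ Lam q (D₁ + D₂) := by
  have hp1 := num2_nn_pos q D₁ hq h₁
  have hmul := num2_lcm_mul_le _ _ (q + 1) hp1 (num2_dvd_nn q D₁) (num2_dvd_nn q D₂)
  suffices h : nn q D₁ * nn q D₂ ≤ Lam q (D₁ + D₂) * (q + 1) by
    exact Nat.le_of_mul_le_mul_right (hmul.trans h) (by omega)
  have hAq := num2_le_pow q D₁ hq h₁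
  have hBq := num2_le_pow q D₂ hq h₂
  have hP : q ^ (D₁ + D₂ - 1) * q = q ^ D₁ * q ^ D₂ := by
    rw [← pow_add, ← pow_succ]; congr 1; omega
  unfold nn Lam
  by_cases e1 : Even D₁ <;> by_cases e2 : Even D₂
  · have es : Even (D₁ + D₂) := e1.add e2
    simp only [e1, e2, es, if_true]
    exact num2_ee q _ _ _ hP
  · have es : ¬ Even (D₁ + D₂) := by
      rw [Nat.even_add]; tauto
    simp only [e1, e2, es, if_true, if_false]
    exact num2_eo q _ _ _ hq hAq hBq hP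
  · have es : ¬ Even (D₁ + D₂) := by
      rw [Nat.even_add]; tauto
    simp only [e1, e2, es, if_true, if_false]
    rw [mul_comm (q ^ D₁ + 1)]
    exact num2_eo q _ _ _ hq hBq hAq (by rw [hP, mul_comm])
  · have es : Even (D₁ + D₂) := by
      rw [Nat.even_add]; tauto
    simp only [e1, e2, es, if_true, if_false]
    exact num2_oo q _ _ _ hq hAq hBq hP

/-- abstract inequalities for the step: `u = q^(S-1)`, `v = q^D` -/
theorem num2_s_ee (q u v : ℕ) (hq : 2 ≤ q) (hu : q ≤ u) (hv : q ≤ v) :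
    (u + 1) * (v - 1) ≤ (u * v + 1) * (q + 1) := by
  have hv1 : 1 ≤ v := by omega
  zify [hv1]
  have h2 : (q : ℤ) ≤ u := by exact_mod_cast hu
  have h3 : (q : ℤ) ≤ v := by exact_mod_cast hv
  have h5 : (2 : ℤ) ≤ q := by exact_mod_cast hq
  have h6 : (v : ℤ) ≤ u * v := by nlinarith
  nlinarith [mul_nonneg (by linarith : (0:ℤ) ≤ u) (by linarith : (0:ℤ) ≤ v)]

theorem num2_s_eo (q u v : ℕ) (hq : 2 ≤ q) (hu : q ≤ u) (hv : q ≤ v) :
    (u + 1) * (v + 1) ≤ (u * v - 1) * (q + 1) := by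
  have huv : 1 ≤ u * v := by nlinarith
  zify [huv]
  have h2 : (q : ℤ) ≤ u := by exact_mod_cast hu
  have h3 : (q : ℤ) ≤ v := by exact_mod_cast hv
  have h5 : (2 : ℤ) ≤ q := by exact_mod_cast hq
  have h6 : (u : ℤ) + v ≤ u * v := by nlinarith
  have h7 : (q : ℤ) + 2 ≤ u * v := by nlinarith
  nlinarith

theorem num2_s_oe (q u v : ℕ) (hq : 2 ≤ q) (hu : q ≤ u) (hv : q ≤ v) :
    (u - 1) * (v - 1) ≤ (u * v - 1) * (q + 1) := by
  have hu1 : 1 ≤ u := by omega
  have hv1 : 1 ≤ v := by omega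
  have huv : 1 ≤ u * v := by nlinarith
  zify [hu1, hv1, huv]
  have h2 : (q : ℤ) ≤ u := by exact_mod_cast hu
  have h3 : (q : ℤ) ≤ v := by exact_mod_cast hv
  have h5 : (2 : ℤ) ≤ q := by exact_mod_cast hq
  nlinarith [mul_nonneg (by linarith : (0:ℤ) ≤ u) (by linarith : (0:ℤ) ≤ v)]

theorem num2_s_oo (q u v : ℕ) (hq : 2 ≤ q) (hu : q ≤ u) (hv : q ≤ v) :
    (u - 1) * (v + 1) ≤ (u * v + 1) * (q + 1) := by
  have hu1 : 1 ≤ u := by omega
  zify [hu1]
  have h2 : (q : ℤ) ≤ u := by exact_mod_cast hu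
  have h3 : (q : ℤ) ≤ v := by exact_mod_cast hv
  have h5 : (2 : ℤ) ≤ q := by exact_mod_cast hq
  nlinarith [mul_nonneg (by linarith : (0:ℤ) ≤ u) (by linarith : (0:ℤ) ≤ v)]

theorem lam_step (q : ℕ) (hq : 2 ≤ q) (S D K₀ : ℕ) (hS : 2 ≤ S) (hD : 1 ≤ D) (hK0 : 0 < K₀)
    (hdv : (q + 1) ∣ K₀) (hK : K₀ ≤ Lam q S) : Nat.lcm K₀ (nn q D) ≤ Lam q (S + D) := by
  have hmul := num2_lcm_mul_le _ _ (q + 1) hK0 hdv (num2_dvd_nn q D)
  suffices h : Lam q S * nn q D ≤ Lam q (S + D) * (q + 1) by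
    refine Nat.le_of_mul_le_mul_right (hmul.trans ((Nat.mul_le_mul_right _ hK).trans h)) (by omega)
  have huq := num2_le_pow q (S - 1) hq (by omega)
  have hvq := num2_le_pow q D hq hD
  have hP : q ^ (S + D - 1) = q ^ (S - 1) * q ^ D := by
    rw [← pow_add]; congr 1; omega
  unfold nn Lam
  rw [hP]
  by_cases e1 : Even S <;> by_cases e2 : Even D
  · have es : Even (S + D) := e1.add e2
    simp only [e1, e2, es, if_true]
    exact num2_s_ee q _ _ hq huq hvq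
  · have es : ¬ Even (S + D) := by
      rw [Nat.even_add]; tauto
    simp only [e1, e2, es, if_true, if_false]
    exact num2_s_eo q _ _ hq huq hvq
  · have es : ¬ Even (S + D) := by
      rw [Nat.even_add]; tauto
    simp only [e1, e2, es, if_true, if_false]
    exact num2_s_oe q _ _ hq huq hvq
  · have es : Even (S + D) := by
      rw [Nat.even_add]; tauto
    simp only [e1, e2, es, if_true, if_false]
    exact num2_s_oo q _ _ hq huq hvq

end Cfsg.Agent.Lib.PGUMeo
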