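import Mathlib
import Cfsg.Prelude
import Cfsg.Agent.Lib.Helper2.PGUMeoDefs

/-!
# S2263 numerics, package NUM3: `num_two` (at least two blocks)
-/

set_option autoImplicit false

namespace Cfsg.Agent.Lib.PGUMeo

theorem num3_c_le (p m k : ℕ) (hp : 1 < p) (h : m ≤ p ^ k) : p ^ Nat.clog p m ≤ p ^ k :=
  Nat.pow_le_pow_right (by omega) ((Nat.clog_le_iff_le_pow hp).mpr h)

theorem num3_le_two_pow (m : ℕ) (hm : 4 ≤ m) : m ≤ 2 ^ (m - 2) := by
  obtain ⟨n, rfl⟩ := Nat.exists_eq_add_of_le hm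
  have h1 : n < 2 ^ n := Nat.lt_two_pow_self
  have : 4 + n - 2 = n + 2 := by omega
  rw [this, pow_succ, pow_succ]
  omega

theorem num3_le_pow (q D : ℕ) (hq : 2 ≤ q) (hD : 1 ≤ D) : q ≤ q ^ D := by
  calc q = q ^ 1 := (pow_one q).symm
    _ ≤ q ^ D := Nat.pow_le_pow_right (by omega) hD

/-- the abstract inequality. `x = q^(S-1)`, `w = q^(m-1)`, `t = q^k`, `y = x w t = q^(d-1)`,
`L = Lam q S`, `c = p^clog`; `M` is the bound.  -/
theorem num3_core (p q x c L y M t : ℕ) (hp2 : 2 ≤ p) (hpq : p ≤ q) (hxq : q ≤ x) (ht : 1 ≤ t)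
    (hL : L ≤ x + 1)
    (h : (c ≤ 1 ∧ y = x * t ∧
            ((y ≤ M + 1 ∧ (t = 1 → L + 1 = x) ∧ (t ≠ 1 → q ≤ t)) ∨ y + 1 ≤ M)) ∨
         (c ≤ p ∧ y = x * q * t ∧
            ((y ≤ M + 1 ∧ p * p ≤ q) ∨ (y + p ≤ M) ∨
             (y + 1 ≤ M ∧ (t = 1 → L + 1 = x) ∧ (t ≠ 1 → q ≤ t)) ∨ (y + 4 ≤ M ∧ p = 2))) ∨
         (c ≤ p ∧ 3 ≤ p ∧ y = x * q * q * t ∧ y ≤ M + 1) ∨
         (c ≤ 4 ∧ p = 2 ∧ y = x * q * q * t ∧
            ((y ≤ M + 1 ∧ 4 ≤ q) ∨ (y + 2 ≤ M ∧ (t = 1 → L + 1 = x) ∧ (t ≠ 1 → q ≤ t)) ∨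
              (y + 4 ≤ M))) ∨
         (∃ z, c ≤ z ∧ 4 ≤ z ∧ y = x * q * z * t ∧ y ≤ M + 1)) :
    L * c ≤ M := by
  have hq2 : 2 ≤ q := le_trans hp2 hpq
  rcases h with ⟨hc, hy, h⟩ | ⟨hc, hy, h⟩ | ⟨hc, hp3, hy, h⟩ | ⟨hc, hp, hy, h⟩ | ⟨z, hc, hz, hy, h⟩
  · -- m = 1
    have hLc : L * c ≤ L := by nlinarith
    rcases h with ⟨hM, h1, h2⟩ | hM
    · by_cases ht1 : t = 1
      · have := h1 ht1
        subst ht1
        nlinarith
      · have := h2 ht1
        have : x * 2 ≤ y := by rw [hy]; exact Nat.mul_le_mul_left _ (by omega)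
        nlinarith
    · have : x ≤ y := by rw [hy]; nlinarith
      nlinarith
  · -- m = 2
    have hLc : L * c ≤ L * p := Nat.mul_le_mul_left _ hc
    have hxqy : x * q ≤ y := by rw [hy]; nlinarith
    rcases h with ⟨hM, hpp⟩ | hM | ⟨hM, h1, h2⟩ | ⟨hM, hp⟩
    · -- (x+1) p + 1 ≤ x q
      have h3 : x * (p * p) ≤ x * q := Nat.mul_le_mul_left _ hpp
      have h9 : L * p ≤ (x + 1) * p := Nat.mul_le_mul_right _ hL
      have h6 : 4 ≤ x := by nlinarith
      have h7 : x * p * 2 ≤ x * p * p := Nat.mul_le_mul_left _ hp2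
      have h8 : 4 * p ≤ x * p := Nat.mul_le_mul_right _ h6
      have h5 : (x + 1) * p + 1 ≤ x * (p * p) := by nlinarith [h7, h8]
      linarith
    · nlinarith
    · by_cases ht1 : t = 1
      · have := h1 ht1
        subst ht1
        have : L * p ≤ x * p := by apply Nat.mul_le_mul_right; omega
        nlinarith
      · have := h2 ht1
        have h3 : x * q * q ≤ y := by rw [hy]; exact Nat.mul_le_mul_left _ this
        have h4 : L * p ≤ (x + 1) * q := Nat.mul_le_mul hL hpq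
        nlinarith
    · subst hp
      nlinarith
  · -- m = 3, p ≥ 3
    have hLc : L * c ≤ L * p := Nat.mul_le_mul_left _ hc
    have h3 : x * q * q ≤ y := by rw [hy]; nlinarith
    have h4 : L * p ≤ (x + 1) * q := Nat.mul_le_mul hL hpq
    have h5 : 3 ≤ q := le_trans hp3 hpq
    have h7 : x * q * 3 ≤ x * q * q := Nat.mul_le_mul_left _ h5
    have h8 : 3 * q ≤ x * q := Nat.mul_le_mul_right _ (le_trans h5 hxq)
    have h6 : (x + 1) * q + 1 ≤ x * q * q := by nlinarith [h7, h8]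
    linarith
  · -- m = 3, p = 2
    subst hp
    have hLc : L * c ≤ L * 4 := Nat.mul_le_mul_left _ hc
    have h3 : x * q * q ≤ y := by rw [hy]; nlinarith
    rcases h with ⟨hM, hq4⟩ | ⟨hM, h1, h2⟩ | hM
    · have : x * 4 * 4 ≤ x * q * q := by
        apply Nat.mul_le_mul (Nat.mul_le_mul_left _ hq4) hq4
      have h6 : 4 ≤ x := le_trans hq4 hxq
      nlinarith
    · by_cases ht1 : t = 1
      · have := h1 ht1
        subst ht1
        have : x * 2 * 2 ≤ x * q * q := Nat.mul_le_mul (Nat.mul_le_mul_left _ hq2) hq2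
        nlinarith
      · have := h2 ht1
        have h7 : x * q * q * 2 ≤ y := by rw [hy]; exact Nat.mul_le_mul_left _ (by omega)
        have : x * 2 * 2 ≤ x * q * q := Nat.mul_le_mul (Nat.mul_le_mul_left _ hq2) hq2
        nlinarith
    · have : x * 2 * 2 ≤ x * q * q := Nat.mul_le_mul (Nat.mul_le_mul_left _ hq2) hq2
      nlinarith
  · -- m ≥ 4
    have hLc : L * c ≤ (x + 1) * z := Nat.mul_le_mul hL hc
    have h3 : x * q * z ≤ y := by rw [hy]; nlinarith
    have h4 : x * 2 * z ≤ x * q * z := by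
      apply Nat.mul_le_mul_right; exact Nat.mul_le_mul_left _ hq2
    have h5 : 2 * z ≤ x * z := Nat.mul_le_mul_right _ (le_trans hq2 hxq)
    nlinarith

/-- the four values of `Mbound` in terms of `y = q^(d-1)` -/
theorem num3_Mbound (p f d : ℕ) (hp : p.Prime) (hf : 1 ≤ f) (hd : 3 ≤ d) :
    (Odd d ∧ 2 ≤ f ∧ Mbound p f d + 1 = (p ^ f) ^ (d - 1)) ∨
    (Odd d ∧ f = 1 ∧ Mbound p f d = (p ^ f) ^ (d - 1) + p) ∨
    (Even d ∧ 2 < p ^ f ∧ Mbound p f d = (p ^ f) ^ (d - 1) + 1) ∨
    (Even d ∧ p = 2 ∧ f = 1 ∧ Mbound p f d = (p ^ f) ^ (d - 1) + 4) := by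
  have hp2 : 2 ≤ p := hp.two_le
  have hpq : p ≤ p ^ f := num3_le_pow p f hp2 hf
  unfold Mbound
  by_cases hodd : Odd d
  · by_cases hf2 : 2 ≤ f
    · left
      refine ⟨hodd, hf2, ?_⟩
      simp only [hodd, hf2, if_true]
      have : 1 ≤ (p ^ f) ^ (d - 1) := Nat.one_le_pow _ _ (by omega)
      omega
    · right; left
      have hf1 : f = 1 := by omega
      refine ⟨hodd, hf1, ?_⟩
      simp only [hodd, hf2, if_true, if_false]
      subst hf1
      rw [pow_one]
      have : d - 1 = d - 2 + 1 := by omega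
      rw [this, pow_succ]; ring
  · have hev : Even d := Nat.not_odd_iff_even.mp hodd
    by_cases h2 : 2 < p ^ f
    · right; right; left
      refine ⟨hev, h2, ?_⟩
      simp only [hodd, h2, if_true, if_false]
    · right; right; right
      have hq : p ^ f = 2 := by omega
      have hpe : p = 2 := by omega
      subst hpe
      have hf1 : f = 1 := by
        have : (2:ℕ) ^ f = 2 ^ 1 := by simpa using hq
        exact Nat.pow_right_injective (le_refl 2) this
      subst hf1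
      refine ⟨hev, rfl, rfl, ?_⟩
      simp only [hodd, h2, if_false]
      have : d - 1 = d - 3 + 2 := by omega
      rw [this, pow_one, pow_add]; ring

theorem num_two (p f d : ℕ) (hp : p.Prime) (hf : 1 ≤ f) (hd : 3 ≤ d) (h32 : ¬ (d = 3 ∧ p ^ f = 2))
    (S m : ℕ) (hS : 2 ≤ S) (hm : 1 ≤ m) (hSm : S + m - 1 ≤ d) :
    Lam (p ^ f) S * p ^ Nat.clog p m ≤ Mbound p f d := by
  have hp2 : 2 ≤ p := hp.two_le
  have hp1 : 1 < p := hp.one_lt
  have hpq : p ≤ p ^ f := num3_le_pow p f hp2 hf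
  have hq2 : 2 ≤ p ^ f := le_trans hp2 hpq
  obtain ⟨k, hk⟩ := Nat.exists_eq_add_of_le hSm
  have hxq : p ^ f ≤ (p ^ f) ^ (S - 1) := num3_le_pow _ _ hq2 (by omega)
  have ht : 1 ≤ (p ^ f) ^ k := Nat.one_le_pow _ _ (by omega)
  have hL : Lam (p ^ f) S ≤ (p ^ f) ^ (S - 1) + 1 := by
    unfold Lam; split_ifs <;> omega
  have hLodd : Odd S → Lam (p ^ f) S + 1 = (p ^ f) ^ (S - 1) := by
    intro ho
    have hne : ¬ Even S := Nat.not_even_iff_odd.mpr ho
    unfold Lam
    simp only [hne, if_false]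
    have : 1 ≤ (p ^ f) ^ (S - 1) := Nat.one_le_pow _ _ (by omega)
    omega
  have ht1 : (p ^ f) ^ k = 1 → k = 0 := by
    intro h
    rcases (Nat.pow_eq_one).mp h with h | h
    · omega
    · exact h
  have htne : (p ^ f) ^ k ≠ 1 → p ^ f ≤ (p ^ f) ^ k := by
    intro h
    apply num3_le_pow _ _ hq2
    rcases Nat.eq_zero_or_pos k with h0 | h0
    · subst h0; simp at h
    · exact h0
  have hyM := num3_Mbound p f d hp hf hd
  refine num3_core p (p ^ f) ((p ^ f) ^ (S - 1)) (p ^ Nat.clog p m) (Lam (p ^ f) S)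
    ((p ^ f) ^ (d - 1)) (Mbound p f d) ((p ^ f) ^ k) hp2 hpq hxq ht hL ?_
  have hm_cases : m = 1 ∨ m = 2 ∨ m = 3 ∨ 4 ≤ m := by omega
  rcases hm_cases with rfl | rfl | rfl | hm4
  · -- m = 1
    left
    refine ⟨by simpa using num3_c_le p 1 0 hp1 (by simp), ?_, ?_⟩
    · rw [← pow_add]; congr 1; omega
    · rcases hyM with ⟨hod, _, hM⟩ | ⟨_, _, hM⟩ | ⟨_, _, hM⟩ | ⟨_, _, _, hM⟩
      · left
        refine ⟨by omega, ?_, htne⟩
        intro h1
        have hk0 := ht1 h1
        apply hLodd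
        have : S = d := by omega
        rw [this]; exact hod
      · right; omega
      · right; omega
      · right; omega
  · -- m = 2
    right; left
    refine ⟨by simpa using num3_c_le p 2 1 hp1 (by simpa using hp2), ?_, ?_⟩
    · have : d - 1 = (S - 1) + 1 + k := by omega
      rw [this, pow_add, pow_add, pow_one]
    · rcases hyM with ⟨_, hf2, hM⟩ | ⟨_, _, hM⟩ | ⟨hev, _, hM⟩ | ⟨_, hp2', _, hM⟩
      · left
        refine ⟨by omega, ?_⟩
        calc p * p = p ^ 2 := (sq p).symm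
          _ ≤ p ^ f := Nat.pow_le_pow_right (by omega) hf2
      · right; left; omega
      · right; right; left
        refine ⟨by omega, ?_, htne⟩
        intro h1
        have hk0 := ht1 h1
        apply hLodd
        have hd' : d = S + 1 := by omega
        rw [hd'] at hev
        rcases Nat.even_or_odd S with hS' | hS'
        · exact absurd hev (by
            rw [Nat.even_add_one]; simpa using hS')
        · exact hS'
      · right; right; right; exact ⟨by omega, hp2'⟩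
  · -- m = 3
    by_cases hp3 : 3 ≤ p
    · right; right; left
      refine ⟨by simpa using num3_c_le p 3 1 hp1 (by simpa using hp3), hp3, ?_, ?_⟩
      · have : d - 1 = (S - 1) + 1 + 1 + k := by omega
        rw [this, pow_add, pow_add, pow_add, pow_one]
      · rcases hyM with ⟨_, _, hM⟩ | ⟨_, _, hM⟩ | ⟨_, _, hM⟩ | ⟨_, _, _, hM⟩ <;> omega
    · have hpe : p = 2 := by omega
      subst hpe
      right; right; right; left
      refine ⟨by simpa using num3_c_le 2 3 2 hp1 (by norm_num), rfl, ?_, ?_⟩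
      · have : d - 1 = (S - 1) + 1 + 1 + k := by omega
        rw [this, pow_add, pow_add, pow_add, pow_one]
      · rcases hyM with ⟨_, hf2, hM⟩ | ⟨hod, hf1, hM⟩ | ⟨_, h2q, hM⟩ | ⟨_, _, _, hM⟩
        · left
          refine ⟨by omega, ?_⟩
          calc 4 = 2 ^ 2 := by norm_num
            _ ≤ 2 ^ f := Nat.pow_le_pow_right (by omega) hf2
        · right; left
          refine ⟨by omega, ?_, htne⟩
          intro h1
          have hk0 := ht1 h1
          apply hLodd
          have hd' : d = S + 2 := by omega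
          rw [hd'] at hod
          rcases Nat.even_or_odd S with hS' | hS'
          · exact absurd hod (by
              rw [Nat.not_odd_iff_even]; exact hS'.add (by decide))
          · exact hS'
        · left
          refine ⟨by omega, ?_⟩
          have hf2 : 2 ≤ f := by
            by_contra hcon
            have : f = 1 := by omega
            subst this
            simp at h2q
          calc 4 = 2 ^ 2 := by norm_num
            _ ≤ 2 ^ f := Nat.pow_le_pow_right (by omega) hf2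
        · right; right; omega
  · -- m ≥ 4
    right; right; right; right
    refine ⟨(p ^ f) ^ (m - 2), ?_, ?_, ?_, ?_⟩
    · have h1 : m ≤ p ^ (m - 2) :=
        le_trans (num3_le_two_pow m hm4) (Nat.pow_le_pow_left hp2 _)
      exact le_trans (num3_c_le p m (m - 2) hp1 h1) (Nat.pow_le_pow_left hpq _)
    · calc 4 = 2 ^ 2 := by norm_num
        _ ≤ (p ^ f) ^ 2 := Nat.pow_le_pow_left hq2 _
        _ ≤ (p ^ f) ^ (m - 2) := Nat.pow_le_pow_right (by omega) (by omega)
    · have : d - 1 = (S - 1) + 1 + (m - 2) + k := by omega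
      rw [this, pow_add, pow_add, pow_add, pow_one]
    · rcases hyM with ⟨_, _, hM⟩ | ⟨_, _, hM⟩ | ⟨_, _, hM⟩ | ⟨_, _, _, hM⟩ <;> omega

end Cfsg.Agent.Lib.PGUMeo
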