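import Mathlib
import Cfsg.Prelude
import Cfsg.Agent.Lib.Helper2.PGUMeoDefs
import Cfsg.Agent.S2588

/-!
# S2263, package E2: a cyclic torus of order `q^(2r) - 1` in `GU_{2r}(q)`

`S` a Singer cycle of `GL_r(q²)`; `A = diag(S, (S^σᵀ)⁻¹)` is conjugate to `(A^σᵀ)⁻¹`
(swap the blocks), so by Wall's criterion (S2588) it is conjugate into `GU_{2r}(q)`.
-/

set_option autoImplicit false

namespace Cfsg.Agent.Lib.PGUMeo

open Matrix Module Cfsg.Agent.S0278 Cfsg.Agent.Lib.Helper5.Wall

/-- a Singer cycle of `GL_d(F)` -/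
theorem e2_exists_singer {F : Type*} [Field F] [Fintype F] (d : ℕ) (hd : 1 ≤ d) :
    ∃ g : GL (Fin d) F, orderOf g = Fintype.card F ^ d - 1 := by
  classical
  obtain ⟨p, hp⟩ := CharP.exists F
  have hprime : p.Prime := CharP.char_is_prime F p
  have := Fact.mk hprime
  have : NeZero d := ⟨by omega⟩
  let E := FiniteField.Extension F p d
  have hfr : finrank F E = d := FiniteField.finrank_extension F p d
  have hcardE : Nat.card E = Fintype.card F ^ d := by
    rw [FiniteField.natCard_extension F p d, Nat.card_eq_fintype_card]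
  let b : Basis (Fin d) F E := Module.finBasisOfFinrankEq F E hfr
  let ρ : E →ₐ[F] Matrix (Fin d) (Fin d) F := Algebra.leftMulMatrix b
  have hρinj : Function.Injective ρ := Algebra.leftMulMatrix_injective b
  have : Fintype E := Fintype.ofFinite E
  obtain ⟨θ, hθ⟩ := IsCyclic.exists_generator (α := Eˣ)
  have hθord : orderOf θ = Fintype.card F ^ d - 1 := by
    rw [orderOf_eq_card_of_forall_mem_zpowers hθ, Nat.card_units, hcardE]
  refine ⟨Units.map ρ.toRingHom.toMonoidHom θ, ?_⟩
  rw [← hθord]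
  exact orderOf_injective (Units.map ρ.toRingHom.toMonoidHom) (Units.map_injective hρinj) θ

variable {K : Type*} [Field K] [Fintype K] {q : ℕ}

/-- `((g^σ)ᵀ)⁻¹` -/
noncomputable def e2_star (hK : Fintype.card K = q ^ 2) {r : ℕ} (g : Matrix (Fin r) (Fin r) K) :
    Matrix (Fin r) (Fin r) K := (ct hK g)⁻¹

theorem e2_ct_isUnit (hK : Fintype.card K = q ^ 2) {r : ℕ} (g : GL (Fin r) K) :
    ct hK (g⁻¹ : GL (Fin r) K).val * ct hK g.val = 1 := by
  rw [← ct_mul, Units.mul_inv, ct_one]

theorem e2_star_eq (hK : Fintype.card K = q ^ 2) {r : ℕ} (g : GL (Fin r) K) :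
    e2_star hK g.val = ct hK (g⁻¹ : GL (Fin r) K).val := by
  unfold e2_star
  exact Matrix.inv_eq_left_inv (e2_ct_isUnit hK g)

theorem e2_star_mul (hK : Fintype.card K = q ^ 2) {r : ℕ} (g h : GL (Fin r) K) :
    e2_star hK (g * h).val = e2_star hK g.val * e2_star hK h.val := by
  rw [e2_star_eq, e2_star_eq, e2_star_eq, _root_.mul_inv_rev, Units.val_mul, ct_mul]

/-- `ct` of the star is the inverse -/
theorem e2_ct_star (hK : Fintype.card K = q ^ 2) {r : ℕ} (g : GL (Fin r) K) :
    g.val * ct hK (e2_star hK g.val) = 1 := by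
  rw [e2_star_eq, ct_ct, Units.mul_inv]

theorem e2_star_mul_ct (hK : Fintype.card K = q ^ 2) {r : ℕ} (g : GL (Fin r) K) :
    e2_star hK g.val * ct hK g.val = 1 := by
  rw [e2_star_eq]; exact e2_ct_isUnit hK g

/-- the index equivalence -/
def e2_idx (r : ℕ) : Fin r ⊕ Fin r ≃ Fin (2 * r) :=
  finSumFinEquiv.trans (finCongr (two_mul r).symm)

/-- the block embedding as a monoid hom into matrices -/
noncomputable def e2_emb (hK : Fintype.card K = q ^ 2) (r : ℕ) :
    GL (Fin r) K →* Matrix (Fin (2 * r)) (Fin (2 * r)) K where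
  toFun g := (fromBlocks g.val 0 0 (e2_star hK g.val)).submatrix (e2_idx r).symm (e2_idx r).symm
  map_one' := by
    have : e2_star hK (1 : GL (Fin r) K).val = 1 := by
      rw [e2_star_eq, inv_one, Units.val_one, ct_one]
    rw [this, Units.val_one, fromBlocks_one, submatrix_one_equiv]
  map_mul' g h := by
    rw [submatrix_mul_equiv, fromBlocks_multiply, e2_star_mul, Units.val_mul]
    simp

theorem e2_emb_injective (hK : Fintype.card K = q ^ 2) (r : ℕ) :
    Function.Injective (e2_emb hK r) := by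
  intro g h hgh
  have h1 : fromBlocks g.val 0 0 (e2_star hK g.val) = fromBlocks h.val 0 0 (e2_star hK h.val) := by
    have := congrArg (fun M => M.submatrix (e2_idx r) (e2_idx r)) hgh
    simpa [e2_emb] using this
  exact Units.ext (fromBlocks_inj.mp h1).1

/-- the twisted inverse transpose of the block matrix: the blocks are swapped -/
theorem e2_twist (hK : Fintype.card K = q ^ 2) (r : ℕ) (g : GL (Fin r) K) :
    (((e2_emb hK r g).map (fun x : K => x ^ q)).transpose)⁻¹ =
      (fromBlocks (e2_star hK g.val) 0 0 g.val).submatrix (e2_idx r).symm (e2_idx r).symm := by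
  apply Matrix.inv_eq_left_inv
  show _ * ((e2_emb hK r g).map (powQ hK)).transpose = 1
  have h1 : ((e2_emb hK r g).map (powQ hK)).transpose =
      (fromBlocks (ct hK g.val) 0 0 (ct hK (e2_star hK g.val))).submatrix
        (e2_idx r).symm (e2_idx r).symm := by
    ext i j
    simp only [e2_emb, MonoidHom.coe_mk, OneHom.coe_mk, transpose_apply, map_apply,
      submatrix_apply, ct]
    rcases (e2_idx r).symm i with a | a <;> rcases (e2_idx r).symm j with b | b <;>
      simp [fromBlocks]
  rw [h1, submatrix_mul_equiv, fromBlocks_multiply]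
  simp only [Matrix.mul_zero, Matrix.zero_mul, add_zero, zero_add]
  rw [e2_star_mul_ct, e2_ct_star, fromBlocks_one, submatrix_one_equiv]

/-- the swap matrix -/
def e2_swap (K : Type*) [Field K] (r : ℕ) : Matrix (Fin (2 * r)) (Fin (2 * r)) K :=
  (fromBlocks (0 : Matrix (Fin r) (Fin r) K) 1 1 0).submatrix (e2_idx r).symm (e2_idx r).symm

omit [Fintype K] in
theorem e2_swap_sq (r : ℕ) : e2_swap K r * e2_swap K r = 1 := by
  unfold e2_swap
  rw [submatrix_mul_equiv, fromBlocks_multiply]
  simp [fromBlocks_one]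

theorem exists_torus_even (hK : Fintype.card K = q ^ 2)
    (r : ℕ) (hr : 1 ≤ r) : ∃ c : ↥(Cfsg.GU (2 * r) K q), orderOf c = q ^ (2 * r) - 1 := by
  classical
  obtain ⟨S, hS⟩ := e2_exists_singer (F := K) r hr
  let A : GL (Fin (2 * r)) K := (e2_emb hK r).toHomUnits S
  have hAord : orderOf A = q ^ (2 * r) - 1 := by
    have hinj : Function.Injective (e2_emb hK r).toHomUnits := by
      intro g h hgh
      apply e2_emb_injective hK r
      have := congrArg Units.val hgh
      simpa [MonoidHom.coe_toHomUnits] using this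
    rw [show orderOf A = orderOf S from orderOf_injective _ hinj S, hS, hK, ← pow_mul]
  have hconj : IsConj (A : Matrix (Fin (2 * r)) (Fin (2 * r)) K)
      (((A : Matrix (Fin (2 * r)) (Fin (2 * r)) K).map (fun x : K => x ^ q)).transpose)⁻¹ := by
    have hAval : (A : Matrix (Fin (2 * r)) (Fin (2 * r)) K) = e2_emb hK r S := rfl
    rw [hAval, e2_twist]
    refine ⟨⟨e2_swap K r, e2_swap K r, e2_swap_sq r, e2_swap_sq r⟩, ?_⟩
    show e2_swap K r * _ = _ * e2_swap K r
    simp only [e2_emb, MonoidHom.coe_mk, OneHom.coe_mk, e2_swap]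
    rw [submatrix_mul_equiv, submatrix_mul_equiv, fromBlocks_multiply, fromBlocks_multiply]
    simp
  obtain ⟨B, hB⟩ := (Cfsg.Agent.S2588.result hK A).mpr hconj
  refine ⟨B, ?_⟩
  rw [← hAord, ← Subgroup.orderOf_coe]
  obtain ⟨c, hc⟩ := hB
  exact (SemiconjBy.orderOf_eq (c : GL (Fin (2 * r)) K) hc).symm

end Cfsg.Agent.Lib.PGUMeo
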