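import Mathlib
import Cfsg.Agent.Lib.Helper8.SBS6

/-!
# S4305, package P-L (part 1): the projection lemma for hyperplanes

`T` acts on the finite abelian group `V`; `E` is a normal abelian subgroup of `T` with
`C_V(E) = 0`; `K` is a hyperplane of `E` (index `q`) with `C_V(K) ≠ 0`; `A ≤ T`.
If some non-zero `v ∈ C_V(K)` is fixed by `N_A(K)` then `C_V(A) ≠ 0`.
-/

set_option autoImplicit false
set_option linter.unusedSectionVars false
set_option linter.unusedVariables false

namespace Cfsg.Agent.Lib.Lead.S3F1

open Cfsg.Agent.Lib.Helper8.SBS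

universe u w

variable {V : Type u} [AddCommGroup V] [Finite V] {T : Type w} [Group T] [Finite T]
  [DistribMulAction T V]

/-- **(L-proj)**. -/
theorem fixedPts_ne_bot_of_hyp {q : ℕ} [hq : Fact q.Prime] {E A : Subgroup T} [hEn : E.Normal]
    (hEc : ∀ x ∈ E, ∀ y ∈ E, x * y = y * x) (hE0 : fixedPts (V := V) E = ⊥)
    (hcopE : (Nat.card V).Coprime (Nat.card E)) (hcopA : (Nat.card V).Coprime (Nat.card A))
    {K : Subgroup T} (hK : IsHyp (V := V) q E K)
    {v : V} (hv : v ∈ fixedPts (V := V) K) (hv0 : v ≠ 0)
    (hvA : ∀ a ∈ A, conjSub a K = K → a • v = v) :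
    fixedPts (V := V) A ≠ ⊥ := by
  classical
  intro hbot
  have : Fintype A := Fintype.ofFinite A
  have : Fintype K := Fintype.ofFinite K
  -- the `A`-trace of `v` is `A`-fixed, hence zero
  have hw : nu A v = 0 := by
    have := nu_mem_fixedPts (V := V) A v
    rw [hbot, AddSubgroup.mem_bot] at this
    exact this
  -- apply the trace of `K`
  have h1 : nu K (nu A v) = 0 := by rw [hw, nu_zero]
  have hsum : nu A v = ∑ a : A, (a : T) • v := by
    unfold nu
    rw [finsum_eq_sum_of_fintype]
  rw [hsum, nu_sum] at h1
  -- each summand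
  have hterm : ∀ a : A, nu K ((a : T) • v) =
      if conjSub (a : T) K = K then Nat.card K • v else 0 := by
    intro a
    split_ifs with h
    · rw [hvA a a.2 h]
      exact nu_of_mem_fixedPts hv
    · have h2 : (a : T) • v ∈ fixedPts (V := V) (conjSub (a : T) K) :=
        smul_mem_fixedPts_conjSub hv a
      exact nu_eq_zero_of_ne hEc hE0 hK (isHyp_conjSub hK a) (fun e => h e.symm) h2
  rw [Finset.sum_congr rfl fun a _ => hterm a] at h1
  rw [Finset.sum_ite, Finset.sum_const_zero, add_zero, Finset.sum_const, ← mul_smul] at h1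
  -- the stabilizer `S` of `K` in `A`
  set S : Finset A := Finset.univ.filter fun a : A => conjSub (a : T) K = K with hS
  have hScard : S.card ∣ Nat.card A := by
    -- `S` is the underlying set of the subgroup `A ⊓ N(K)`
    let N : Subgroup A :=
      { carrier := {a | conjSub (a : T) K = K}
        one_mem' := by simp [conjSub_one]
        mul_mem' := by
          intro a b ha hb
          change conjSub (a : T) K = K at ha; change conjSub (b : T) K = K at hb; change conjSub ((a * b : A) : T) K = K
          rw [Subgroup.coe_mul, conjSub_mul, hb, ha]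
        inv_mem' := by
          intro a ha
          change conjSub (a : T) K = K at ha; change conjSub ((a⁻¹ : A) : T) K = K
          have h3 : conjSub ((a : T)⁻¹ * (a : T)) K = conjSub (a : T)⁻¹ (conjSub (a : T) K) :=
            conjSub_mul _ _ _
          rw [inv_mul_cancel, conjSub_one, ha] at h3
          rw [Subgroup.coe_inv]
          exact h3.symm }
    have hNS : Nat.card N = S.card := by
      show Nat.card {a : A // conjSub (a : T) K = K} = S.card
      rw [Nat.card_eq_fintype_card, Fintype.card_subtype]
    rw [← hNS]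
    exact Subgroup.card_subgroup_dvd_card N
  have hKcard : Nat.card K ∣ Nat.card E := Subgroup.card_dvd_of_le hK.1
  have hcop : (Nat.card V).Coprime (S.card * Nat.card K) :=
    Nat.Coprime.mul_right (Nat.Coprime.coprime_dvd_right hScard hcopA)
      (Nat.Coprime.coprime_dvd_right hKcard hcopE)
  exact hv0 (eq_zero_of_nsmul_eq_zero hcop h1)

end Cfsg.Agent.Lib.Lead.S3F1
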