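import Mathlib
import Cfsg.Agent.Lib.Lead.S3F1

/-!
# S4305, package P-L (part 2): the Frobenius trace modulo a hyperplane, and (L-star)
-/

set_option autoImplicit false
set_option linter.unusedSectionVars false
set_option linter.unusedVariables false

namespace Cfsg.Agent.Lib.Lead.S3F2

open Cfsg.Agent.Lib.Helper8.SBS Cfsg.Agent.Lib.Lead.S3F1

universe u w

variable {V : Type u} [AddCommGroup V] [Finite V] {T : Type w} [Group T] [Finite T]
  [DistribMulAction T V]

/-- a subgroup strictly between a hyperplane and `E` is `E`. -/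
theorem eq_of_hyp_lt {q : ℕ} [hq : Fact q.Prime] {E K M : Subgroup T}
    (hidx : Nat.card K * q = Nat.card E) (hKM : K ≤ M) (hME : M ≤ E)
    {x : T} (hxM : x ∈ M) (hxK : x ∉ K) : M = E := by
  apply Subgroup.eq_of_le_of_card_ge hME
  obtain ⟨m, hm⟩ := Subgroup.card_dvd_of_le hKM
  have hKpos : 0 < Nat.card K := Nat.card_pos
  have hdvd : Nat.card M ∣ Nat.card E := Subgroup.card_dvd_of_le hME
  rw [hm, ← hidx] at hdvd
  have hmq : m ∣ q := Nat.dvd_of_mul_dvd_mul_left hKpos hdvd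
  rcases (Nat.dvd_prime hq.out).1 hmq with h1 | h1
  · exfalso
    rw [h1, mul_one] at hm
    have h2 : K = M := Subgroup.eq_of_le_of_card_ge hKM (by rw [hm])
    exact hxK (h2 ▸ hxM)
  · rw [hm, h1, hidx]

/-- **Lemma A**: the conjugates of `n` by `E` sum to zero on `C_V(K)` when `n` acts
non-trivially on `E/K`. -/
theorem sum_conj_smul_eq_zero {q : ℕ} [hq : Fact q.Prime] {E K : Subgroup T} [hEn : E.Normal]
    (hEc : ∀ x ∈ E, ∀ y ∈ E, x * y = y * x) (hE0 : fixedPts (V := V) E = ⊥)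
    (hKE : K ≤ E) (hidx : Nat.card K * q = Nat.card E)
    {n : T} (hnK : conjSub n K = K) {z : T} (hz : z ∈ E) (hzK : n * z * n⁻¹ * z⁻¹ ∉ K)
    {w : V} (hw : w ∈ fixedPts (V := V) K) [Fintype E] :
    ∑ e : E, ((e : T) * n * (e : T)⁻¹) • w = 0 := by
  classical
  set u : V := n • w with hu
  have huK : u ∈ fixedPts (V := V) K := by
    have := smul_mem_fixedPts_conjSub hw n
    rwa [hnK] at this
  -- the map `d`
  let d : T → T := fun e => e * n * e⁻¹ * n⁻¹
  have hdE : ∀ e ∈ E, d e ∈ E := by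
    intro e he
    have h1 : n * e⁻¹ * n⁻¹ ∈ E := hEn.conj_mem _ (E.inv_mem he) n
    have : d e = e * (n * e⁻¹ * n⁻¹) := by simp only [d]; group
    rw [this]
    exact E.mul_mem he h1
  have hdmul : ∀ e₀ ∈ E, ∀ e ∈ E, d (e₀ * e) = d e₀ * d e := by
    intro e₀ he₀ e he
    have h1 : n * e₀⁻¹ * n⁻¹ ∈ E := hEn.conj_mem _ (E.inv_mem he₀) n
    have h2 : d (e₀ * e) = e₀ * (d e * (n * e₀⁻¹ * n⁻¹)) := by simp only [d]; group
    have h3 : d e₀ = e₀ * (n * e₀⁻¹ * n⁻¹) := by simp only [d]; group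
    rw [h2, h3, hEc (d e) (hdE e he) _ h1]
    simp only [mul_assoc]
  have hterm : ∀ e : E, ((e : T) * n * (e : T)⁻¹) • w = d e • u := by
    intro e
    rw [hu, ← mul_smul]
    congr 1
    simp only [d]; group
  rw [Finset.sum_congr rfl fun e _ => hterm e]
  set X : V := ∑ e : E, d e • u with hX
  -- `X` is fixed by `K`
  have hXK : ∀ k ∈ K, k • X = X := by
    intro k hk
    rw [hX, Finset.smul_sum]
    refine Finset.sum_congr rfl fun e _ => ?_
    rw [← mul_smul, hEc k (hKE hk) _ (hdE e e.2), mul_smul, huK k hk]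
  -- `X` is fixed by the image of `d`
  have hXd : ∀ e₀ ∈ E, d e₀ • X = X := by
    intro e₀ he₀
    rw [hX, Finset.smul_sum]
    have h1 : ∀ e : E, d e₀ • d e • u = d ((⟨e₀, he₀⟩ * e : E) : T) • u := by
      intro e
      rw [← mul_smul, Subgroup.coe_mul, hdmul e₀ he₀ e e.2]
    rw [Finset.sum_congr rfl fun e _ => h1 e]
    exact Fintype.sum_equiv (Equiv.mulLeft (⟨e₀, he₀⟩ : E)) _ _ (fun e => rfl)
  -- the stabilizer of `X` in `E`
  let M : Subgroup T := E ⊓ MulAction.stabilizer T X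
  have hKM : K ≤ M := fun k hk => ⟨hKE hk, hXK k hk⟩
  have hME : M ≤ E := inf_le_left
  have hdz : d z ∈ M := ⟨hdE z hz, hXd z hz⟩
  have hdzK : d z ∉ K := by
    intro h
    apply hzK
    have : n * z * n⁻¹ * z⁻¹ = (d z)⁻¹ := by simp only [d]; group
    rw [this]
    exact K.inv_mem h
  have hMeq : M = E := eq_of_hyp_lt hidx hKM hME hdz hdzK
  have hXE : X ∈ fixedPts (V := V) E := by
    intro y hy
    have : y ∈ M := hMeq ▸ hy
    exact this.2
  rw [hE0, AddSubgroup.mem_bot] at hXE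
  exact hXE

/-- **Lemma B** (Frobenius trace modulo a hyperplane). -/
theorem card_nsmul_eq_zero_of_trace {q : ℕ} [hq : Fact q.Prime] {E K N : Subgroup T}
    [hEn : E.Normal]
    (hEc : ∀ x ∈ E, ∀ y ∈ E, x * y = y * x) (hE0 : fixedPts (V := V) E = ⊥)
    (hKE : K ≤ E) (hidx : Nat.card K * q = Nat.card E)
    (hNK : ∀ n ∈ N, conjSub n K = K)
    (hN : ∀ n ∈ N, n ≠ 1 → ∃ z ∈ E, n * z * n⁻¹ * z⁻¹ ∉ K)
    {w : V} (hw : w ∈ fixedPts (V := V) K)
    (h : ∀ e ∈ E, nu N (e⁻¹ • w) = 0) : Nat.card E • w = 0 := by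
  classical
  have : Fintype E := Fintype.ofFinite E
  have : Fintype N := Fintype.ofFinite N
  have h0 : ∑ e : E, (e : T) • nu N ((e : T)⁻¹ • w) = 0 := by
    apply Finset.sum_eq_zero
    intro e _
    rw [h e e.2, smul_zero]
  have h1 : ∀ e : E, (e : T) • nu N ((e : T)⁻¹ • w) =
      ∑ n : N, ((e : T) * n * (e : T)⁻¹) • w := by
    intro e
    unfold nu
    rw [finsum_eq_sum_of_fintype, Finset.smul_sum]
    refine Finset.sum_congr rfl fun n _ => ?_
    rw [← mul_smul, ← mul_smul, mul_assoc]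
  rw [Finset.sum_congr rfl fun e _ => h1 e, Finset.sum_comm] at h0
  have h2 : ∀ n : N, (∑ e : E, ((e : T) * n * (e : T)⁻¹) • w) =
      if n = 1 then Nat.card E • w else 0 := by
    intro n
    split_ifs with hn
    · subst hn
      simp only [OneMemClass.coe_one, mul_one, mul_inv_cancel, one_smul, Finset.sum_const,
        Finset.card_univ, Nat.card_eq_fintype_card]
    · have hn' : (n : T) ≠ 1 := fun e => hn (Subtype.ext e)
      obtain ⟨z, hz, hzK⟩ := hN n n.2 hn'
      exact sum_conj_smul_eq_zero hEc hE0 hKE hidx (hNK n n.2) hz hzK hw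
  rw [Finset.sum_congr rfl fun n _ => h2 n, Finset.sum_ite_eq' Finset.univ (1 : N)] at h0
  simpa using h0

/-- **(L-star)**: if `A` has no non-zero fixed vector, every hyperplane `K` of `E` with
`C_V(K) ≠ 0` is normalized by some `a ≠ 1` of `A` acting trivially on `E/K`. -/
theorem exists_trivial_mod_hyp {q : ℕ} [hq : Fact q.Prime] {E A : Subgroup T} [hEn : E.Normal]
    (hEc : ∀ x ∈ E, ∀ y ∈ E, x * y = y * x) (hE0 : fixedPts (V := V) E = ⊥)
    (hcopE : (Nat.card V).Coprime (Nat.card E)) (hcopA : (Nat.card V).Coprime (Nat.card A))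
    (hA0 : fixedPts (V := V) A = ⊥)
    {K : Subgroup T} (hK : IsHyp (V := V) q E K) :
    ∃ a ∈ A, a ≠ 1 ∧ conjSub a K = K ∧ ∀ z ∈ E, a * z * a⁻¹ * z⁻¹ ∈ K := by
  classical
  by_contra hcon
  push Not at hcon
  -- the stabilizer of `K` in `A`
  let N : Subgroup T :=
    { carrier := {a | a ∈ A ∧ conjSub a K = K}
      one_mem' := ⟨A.one_mem, conjSub_one K⟩
      mul_mem' := by
        intro a b ha hb
        refine ⟨A.mul_mem ha.1 hb.1, ?_⟩
        rw [conjSub_mul, hb.2, ha.2]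
      inv_mem' := by
        intro a ha
        refine ⟨A.inv_mem ha.1, ?_⟩
        have h3 : conjSub (a⁻¹ * a) K = conjSub a⁻¹ (conjSub a K) := conjSub_mul _ _ _
        rw [inv_mul_cancel, conjSub_one, ha.2] at h3
        exact h3.symm }
  have hNA : N ≤ A := fun a ha => ha.1
  have hNK : ∀ n ∈ N, conjSub n K = K := fun n hn => hn.2
  have hN : ∀ n ∈ N, n ≠ 1 → ∃ z ∈ E, n * z * n⁻¹ * z⁻¹ ∉ K :=
    fun n hn hn1 => hcon n hn.1 hn1 hn.2
  -- a non-zero vector of `C_V(K)`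
  obtain ⟨v, hv, hv0⟩ : ∃ v ∈ fixedPts (V := V) K, v ≠ 0 := by
    by_contra hno
    push Not at hno
    apply hK.2.2
    rw [eq_bot_iff]
    intro v hv
    rw [AddSubgroup.mem_bot]
    exact hno v hv
  -- some trace is non-zero
  have hex : ∃ e ∈ E, nu N (e⁻¹ • v) ≠ 0 := by
    by_contra hno
    push Not at hno
    have := card_nsmul_eq_zero_of_trace hEc hE0 hK.1 hK.2.1 hNK hN hv hno
    exact hv0 (eq_zero_of_nsmul_eq_zero hcopE this)
  obtain ⟨e, he, hu0⟩ := hex
  set u : V := nu N (e⁻¹ • v) with hu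
  -- `u ∈ C_V(K)`
  have hev : e⁻¹ • v ∈ fixedPts (V := V) K := by
    intro k hk
    rw [← mul_smul, hEc k (hK.1 hk) e⁻¹ (E.inv_mem he), mul_smul, hv k hk]
  have huK : u ∈ fixedPts (V := V) K := by
    intro k hk
    have : Fintype N := Fintype.ofFinite N
    rw [hu]
    unfold nu
    rw [finsum_eq_sum_of_fintype, Finset.smul_sum]
    refine Finset.sum_congr rfl fun n _ => ?_
    -- `k n = n (n⁻¹ k n)` and `n⁻¹ k n ∈ K`
    have hnK : conjSub (n : T)⁻¹ K = K := (N.inv_mem n.2).2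
    have hk' : (n : T)⁻¹ * k * n ∈ K := by
      have : k ∈ conjSub (n : T) K := by rw [hNK n n.2]; exact hk
      exact mem_conjSub.1 this
    have : k * (n : T) = n * ((n : T)⁻¹ * k * n) := by group
    rw [← mul_smul, this, mul_smul, hev _ hk']
  -- `u` is fixed by the stabilizer
  have huN : ∀ a ∈ A, conjSub a K = K → a • u = u := by
    intro a ha haK
    have haN : a ∈ N := ⟨ha, haK⟩
    rw [hu]
    exact smul_nu_of_mem haN _
  exact fixedPts_ne_bot_of_hyp hEc hE0 hcopE hcopA hK huK hu0 huN hA0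

end Cfsg.Agent.Lib.Lead.S3F2
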