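import Mathlib
import Cfsg.Agent.Lib.Helper4.PQDefs
import Cfsg.Agent.Lib.Lead.CoprimeAction2
import Cfsg.Agent.Lib.Lead.CoprimeAction3
import Cfsg.Agent.Lib.Lead.Coprime

/-!
# S4306, package T-struct, part 1: (T1)–(T3) of `notes/S4306_plan_helper4.md`

`Z = C_Q(S)` is the derived subgroup of `Q`, it is central in `Q`, `Q/Z` and `Z` have exponent `t`,
and `S` and `A` have no fixed points on `Q/Z`.
-/

set_option autoImplicit false
set_option linter.unusedSectionVars false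
set_option linter.unusedVariables false

namespace Cfsg.Agent.Lib.Lead.PQT

open Cfsg.Agent.Lib.Helper4.PQ
open scoped commutatorElement

universe u w

section general

variable {T : Type w} [Group T]

/-- a subgroup `B` all of whose elements conjugate `K` into itself normalizes `K`. -/
theorem le_normalizer_of_conj_mem {K B : Subgroup T} (h : ∀ b ∈ B, ∀ x ∈ K, b * x * b⁻¹ ∈ K) :
    B ≤ Subgroup.normalizer (K : Set T) := by
  intro b hb
  rw [Subgroup.mem_normalizer_iff]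
  intro x
  refine ⟨h b hb x, fun hx => ?_⟩
  have := h b⁻¹ (B.inv_mem hb) _ hx
  simpa [mul_assoc] using this

theorem commutator_ne_self_of_solvable (S : Subgroup T) (hS : S ≠ ⊥) (hsolv : Group.IsSolvable S) :
    ⁅S, S⁆ ≠ S := by
  intro heq
  have := hsolv
  have : Nontrivial S := (Subgroup.nontrivial_iff_ne_bot S).mpr hS
  have h1 := Group.IsSolvable.commutator_lt_top_of_nontrivial (G := S)
  have h2 : (commutator S).map S.subtype = ⁅S, S⁆ := by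
    rw [commutator_def, Subgroup.map_commutator, ← MonoidHom.range_eq_map, Subgroup.range_subtype]
  have h3 : (commutator S).map S.subtype = (⊤ : Subgroup S).map S.subtype := by
    rw [h2, heq, ← MonoidHom.range_eq_map, Subgroup.range_subtype]
  have h4 := Subgroup.map_injective S.subtype_injective h3
  exact (ne_of_lt h1) h4

/-- `[uⁿ, v] = [u, v]ⁿ` when `[uᵏ, v]` commutes with `u` for all `k`. -/
theorem comm_pow_left {u v : T} (hc : ∀ k : ℕ, u * (u ^ k * v * (u ^ k)⁻¹ * v⁻¹) = (u ^ k * v * (u ^ k)⁻¹ * v⁻¹) * u)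
    (n : ℕ) : u ^ n * v * (u ^ n)⁻¹ * v⁻¹ = (u * v * u⁻¹ * v⁻¹) ^ n := by
  induction n with
  | zero => simp
  | succ n ih =>
    have h1 : u ^ (n + 1) * v * (u ^ (n + 1))⁻¹ * v⁻¹ =
        u * (u ^ n * v * (u ^ n)⁻¹ * v⁻¹) * u⁻¹ * (u * v * u⁻¹ * v⁻¹) := by
      rw [pow_succ']; group
    rw [h1, hc n, mul_assoc ((u ^ n * v * (u ^ n)⁻¹ * v⁻¹)), mul_inv_cancel, mul_one, ih, pow_succ]

end general

section tower

variable {V : Type u} [AddCommGroup V] [Finite V] {T : Type w} [Group T] [Finite T]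
  [DistribMulAction T V] {r t s p q : ℕ} {Q S A F H₀ : Subgroup T}

theorem Tower.solvQ (h : Tower V r t s p q Q S A F H₀) : Group.IsSolvable Q := by
  have : Fact t.Prime := ⟨h.ht⟩
  have := h.hQ.isNilpotent
  infer_instance

theorem Tower.coprime_SQ (h : Tower V r t s p q Q S A F H₀) :
    (Nat.card S).Coprime (Nat.card Q) := by
  have : Fact t.Prime := ⟨h.ht⟩
  have : Fact s.Prime := ⟨h.hs⟩
  obtain ⟨a, ha⟩ := IsPGroup.iff_card.1 h.hS
  obtain ⟨b, hb⟩ := IsPGroup.iff_card.1 h.hQ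
  rw [ha, hb]
  exact Nat.Coprime.pow a b ((Nat.coprime_primes h.hs h.ht).2 (Ne.symm h.hts))

theorem Tower.coprime_AQ (h : Tower V r t s p q Q S A F H₀) :
    (Nat.card A).Coprime (Nat.card Q) := by
  have : Fact t.Prime := ⟨h.ht⟩
  obtain ⟨b, hb⟩ := IsPGroup.iff_card.1 h.hQ
  rw [hb, h.frob.hA]
  exact Nat.Coprime.pow_right b h.htA.symm

theorem Tower.S_le_normalizer_Q (h : Tower V r t s p q Q S A F H₀) :
    S ≤ Subgroup.normalizer (Q : Set T) := by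
  have := h.hQn
  rw [Subgroup.normalizer_eq_top]
  exact le_top

theorem Tower.A_le_normalizer_Q (h : Tower V r t s p q Q S A F H₀) :
    A ≤ Subgroup.normalizer (Q : Set T) := by
  have := h.hQn
  rw [Subgroup.normalizer_eq_top]
  exact le_top

theorem Tower.A_le_normalizer_S (h : Tower V r t s p q Q S A F H₀) :
    A ≤ Subgroup.normalizer (S : Set T) :=
  le_normalizer_of_conj_mem h.hAS

theorem Tower.Q_ne_bot (h : Tower V r t s p q Q S A F H₀) : Q ≠ ⊥ := by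
  obtain ⟨u, hu, c, hc, huc⟩ := h.hQS
  intro hQ
  rw [hQ, Subgroup.mem_bot] at hu
  apply huc
  rw [hu, one_mul, mul_one]

/-- `Z = C_Q(S)` is `A`-invariant. -/
theorem Tower.conj_mem_Zc (h : Tower V r t s p q Q S A F H₀) {a : T} (ha : a ∈ A) {z : T}
    (hz : z ∈ Zc Q S) : a * z * a⁻¹ ∈ Zc Q S := by
  refine mem_Zc.2 ⟨h.hQn.conj_mem z (mem_Zc.1 hz).1 a, ?_⟩
  intro c hc
  have hc' : a⁻¹ * c * a ∈ S := by
    have := h.hAS a⁻¹ (A.inv_mem ha) c hc
    simpa using this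
  have h1 : (a⁻¹ * c * a) * z = z * (a⁻¹ * c * a) := (mem_Zc.1 hz).2 _ hc'
  calc c * (a * z * a⁻¹) = a * ((a⁻¹ * c * a) * z) * a⁻¹ := by group
    _ = a * (z * (a⁻¹ * c * a)) * a⁻¹ := by rw [h1]
    _ = a * z * a⁻¹ * c := by group

theorem Tower.A_le_normalizer_Zc (h : Tower V r t s p q Q S A F H₀) :
    A ≤ Subgroup.normalizer (Zc Q S : Set T) :=
  le_normalizer_of_conj_mem (fun _ ha _ hz => (Tower.conj_mem_Zc h) ha hz)

theorem Tower.S_le_normalizer_Zc (h : Tower V r t s p q Q S A F H₀) :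
    S ≤ Subgroup.normalizer (Zc Q S : Set T) := by
  apply le_normalizer_of_conj_mem
  intro c hc z hz
  have h1 : c * z = z * c := (mem_Zc.1 hz).2 c hc
  have : c * z * c⁻¹ = z := by rw [h1]; group
  rw [this]
  exact hz

/-- (T1)+(T2): an `S`,`A`-invariant subgroup of `Q` containing all `[u,c]` is `Q`. -/
theorem Tower.eq_of_comm_le (h : Tower V r t s p q Q S A F H₀) (Q₁ : Subgroup T) (hQ₁ : Q₁ ≤ Q)
    (hA : ∀ a ∈ A, ∀ u ∈ Q₁, a * u * a⁻¹ ∈ Q₁) (hS : ∀ c ∈ S, ∀ u ∈ Q₁, c * u * c⁻¹ ∈ Q₁)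
    (hc : ∀ u ∈ Q, ∀ c ∈ S, u * c * u⁻¹ * c⁻¹ ∈ Q₁) : Q₁ = Q := by
  by_contra hne
  have hcent := h.hmin2 Q₁ hQ₁ hne hA hS
  have h1 : ⁅Q, S⁆ ≤ Q₁ := by
    rw [Subgroup.commutator_le]
    intro u hu c hc'
    exact hc u hu c hc'
  have h2 : ⁅⁅Q, S⁆, S⁆ = ⊥ := by
    rw [eq_bot_iff, Subgroup.commutator_le]
    intro x hx c hc'
    rw [Subgroup.mem_bot, commutatorElement_eq_one_iff_commute]
    exact hcent x (h1 hx) c hc'
  have h3 := Cfsg.Agent.Lib.Lead.coprime_commutator_stable S Q (Tower.S_le_normalizer_Q h) (Tower.coprime_SQ h)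
    (Or.inr (Tower.solvQ h))
  rw [h2] at h3
  obtain ⟨u, hu, c, hc', huc⟩ := h.hQS
  have h4 : ⁅u, c⁆ ∈ ⁅Q, S⁆ := Subgroup.commutator_mem_commutator hu hc'
  rw [← h3, Subgroup.mem_bot, commutatorElement_eq_one_iff_commute] at h4
  exact huc h4

/-- (T1) `[Q,S] = Q`. -/
theorem Tower.comm_QS (h : Tower V r t s p q Q S A F H₀) : ⁅Q, S⁆ = Q := by
  have := h.hQn
  apply (Tower.eq_of_comm_le h) ⁅Q, S⁆ (Subgroup.commutator_le_left Q S)
  · have hN : A ≤ Subgroup.normalizer ((⁅Q, S⁆ : Subgroup T) : Set T) :=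
      le_trans (le_inf (Tower.A_le_normalizer_Q h) (Tower.A_le_normalizer_S h))
        (Cfsg.Agent.Lib.Lead.normalizer_inf_le_normalizer_commutator Q S)
    intro a ha u hu
    exact (Subgroup.mem_normalizer_iff.1 (hN ha) u).1 hu
  · have hN : S ≤ Subgroup.normalizer ((⁅Q, S⁆ : Subgroup T) : Set T) :=
      le_trans (le_inf (Tower.S_le_normalizer_Q h) Subgroup.le_normalizer)
        (Cfsg.Agent.Lib.Lead.normalizer_inf_le_normalizer_commutator Q S)
    intro c hc u hu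
    exact (Subgroup.mem_normalizer_iff.1 (hN hc) u).1 hu
  · intro u hu c hc
    exact Subgroup.commutator_mem_commutator hu hc

/-- `S` centralizes `Q'`. -/
theorem Tower.comm_QQ_cent (h : Tower V r t s p q Q S A F H₀) :
    ∀ x ∈ ⁅Q, Q⁆, ∀ c ∈ S, x * c = c * x := by
  have := h.hQn
  have hn : (⁅Q, Q⁆ : Subgroup T).Normal := Subgroup.commutator_normal Q Q
  exact h.hmin2 ⁅Q, Q⁆ (Subgroup.commutator_le_left Q Q)
    (commutator_ne_self_of_solvable Q (Tower.Q_ne_bot h) (Tower.solvQ h))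
    (fun a _ u hu => hn.conj_mem u hu a) (fun c _ u hu => hn.conj_mem u hu c)

/-- (T3) `Q' ≤ Z`. -/
theorem Tower.comm_mem_Zc (h : Tower V r t s p q Q S A F H₀) :
    ∀ u ∈ Q, ∀ v ∈ Q, u * v * u⁻¹ * v⁻¹ ∈ Zc Q S := by
  intro u hu v hv
  have := h.hQn
  have h1 : ⁅u, v⁆ ∈ ⁅Q, Q⁆ := Subgroup.commutator_mem_commutator hu hv
  have e : u * v * u⁻¹ * v⁻¹ = ⁅u, v⁆ := (commutatorElement_def u v).symm
  rw [e]
  refine mem_Zc.2 ⟨Subgroup.commutator_le_left Q Q h1, ?_⟩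
  intro c hc
  exact ((Tower.comm_QQ_cent h) _ h1 c hc).symm

/-- (T3) `Z` is central in `Q`. -/
theorem Tower.Zc_central (h : Tower V r t s p q Q S A F H₀) :
    ∀ z ∈ Zc Q S, ∀ u ∈ Q, z * u = u * z := by
  have h1 : ⁅⁅S, Zc Q S⁆, Q⁆ = ⊥ := by
    have : ⁅S, Zc Q S⁆ = ⊥ := by
      rw [eq_bot_iff, Subgroup.commutator_le]
      intro c hc z hz
      rw [Subgroup.mem_bot, commutatorElement_eq_one_iff_commute]
      exact (mem_Zc.1 hz).2 c hc
    rw [this, Subgroup.commutator_bot_left]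
  have h2 : ⁅⁅Zc Q S, Q⁆, S⁆ = ⊥ := by
    rw [eq_bot_iff, Subgroup.commutator_le]
    intro x hx c hc
    rw [Subgroup.mem_bot, commutatorElement_eq_one_iff_commute]
    have hx' : x ∈ ⁅Q, Q⁆ := Subgroup.commutator_mono (fun _ hz => (mem_Zc.1 hz).1) le_rfl hx
    exact (Tower.comm_QQ_cent h) x hx' c hc
  have h3 := Subgroup.commutator_commutator_eq_bot_of_rotate h1 h2
  rw [(Tower.comm_QS h)] at h3
  intro z hz u hu
  have h4 : ⁅u, z⁆ ∈ ⁅Q, Zc Q S⁆ := Subgroup.commutator_mem_commutator hu hz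
  rw [h3, Subgroup.mem_bot, commutatorElement_eq_one_iff_commute] at h4
  exact h4.symm

/-- (T3) `Z ≤ Q'`. -/
theorem Tower.Zc_le_comm (h : Tower V r t s p q Q S A F H₀) : Zc Q S ≤ ⁅Q, Q⁆ := by
  classical
  have := h.hQn
  have hn : (⁅Q, Q⁆ : Subgroup T).Normal := Subgroup.commutator_normal Q Q
  -- work in `T ⧸ Q'`
  set π := QuotientGroup.mk' (⁅Q, Q⁆ : Subgroup T) with hπ
  set Qb : Subgroup (T ⧸ (⁅Q, Q⁆ : Subgroup T)) := Q.map π with hQb
  set Sb : Subgroup (T ⧸ (⁅Q, Q⁆ : Subgroup T)) := S.map π with hSb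
  have hQbn : Qb.Normal := Subgroup.Normal.map h.hQn π (QuotientGroup.mk'_surjective _)
  have hcomm : IsMulCommutative Qb := by
    refine ⟨⟨?_⟩⟩
    rintro ⟨_, x, hx, rfl⟩ ⟨_, y, hy, rfl⟩
    apply Subtype.ext
    show π x * π y = π y * π x
    rw [← map_mul, ← map_mul, hπ, QuotientGroup.mk'_apply, QuotientGroup.mk'_apply,
      QuotientGroup.eq]
    have : (x * y)⁻¹ * (y * x) = ⁅y⁻¹, x⁻¹⁆ := by
      rw [commutatorElement_def]; group
    rw [this]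
    exact Subgroup.commutator_mem_commutator (Q.inv_mem hy) (Q.inv_mem hx)
  have hSQb : Sb ≤ Subgroup.normalizer (Qb : Set (T ⧸ (⁅Q, Q⁆ : Subgroup T))) := by
    rw [Subgroup.normalizer_eq_top]; exact le_top
  have hcop : (Nat.card Sb).Coprime (Nat.card Qb) :=
    Nat.Coprime.coprime_dvd_left (Subgroup.card_map_dvd S π)
      (Nat.Coprime.coprime_dvd_right (Subgroup.card_map_dvd Q π) (Tower.coprime_SQ h))
  obtain ⟨hdec, -⟩ := Cfsg.Agent.Lib.Lead.coprime_abelian_decomp Sb Qb hSQb hcop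
  have hcommb : ⁅Qb, Sb⁆ = Qb := by
    rw [hQb, hSb, ← Subgroup.map_commutator, (Tower.comm_QS h)]
  intro z hz
  have h1 : π z ∈ (Qb ⊓ Subgroup.centralizer (Sb : Set (T ⧸ (⁅Q, Q⁆ : Subgroup T)))) ⊓ ⁅Qb, Sb⁆ := by
    refine ⟨⟨Subgroup.mem_map_of_mem π (mem_Zc.1 hz).1, ?_⟩, ?_⟩
    · refine Subgroup.mem_centralizer_iff.2 ?_
      rintro _ ⟨c, hc, rfl⟩
      rw [← map_mul, ← map_mul, (mem_Zc.1 hz).2 c hc]
    · rw [hcommb]
      exact Subgroup.mem_map_of_mem π (mem_Zc.1 hz).1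
  rw [hdec, Subgroup.mem_bot, hπ, QuotientGroup.mk'_apply, QuotientGroup.eq_one_iff] at h1
  exact h1

theorem Tower.Zc_le_closure_comm (h : Tower V r t s p q Q S A F H₀) :
    Zc Q S ≤ Subgroup.closure {x | ∃ u ∈ Q, ∃ v ∈ Q, x = u * v * u⁻¹ * v⁻¹} := by
  have h1 : (⁅Q, Q⁆ : Subgroup T) ≤ Subgroup.closure {x | ∃ u ∈ Q, ∃ v ∈ Q, x = u * v * u⁻¹ * v⁻¹} := by
    rw [Subgroup.commutator_le]
    intro u hu v hv
    exact Subgroup.subset_closure ⟨u, hu, v, hv, rfl⟩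
  exact le_trans (Tower.Zc_le_comm h) h1

/-- powers of a product, modulo the central subgroup `Z ⊇ Q'`. -/
theorem Tower.exists_mul_pow (h : Tower V r t s p q Q S A F H₀) {u v : T} (hu : u ∈ Q) (hv : v ∈ Q)
    (n : ℕ) : ∃ z ∈ Zc Q S, (u * v) ^ n = u ^ n * v ^ n * z := by
  induction n with
  | zero => exact ⟨1, Subgroup.one_mem _, by simp⟩
  | succ n ih =>
    obtain ⟨z, hz, hzn⟩ := ih
    -- `v^n u = u v^n c` with `c = [v^{-n}, u^{-1}] ∈ Z`
    set c : T := (v ^ n)⁻¹ * u⁻¹ * (v ^ n) * u with hc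
    have hcZ : c ∈ Zc Q S := by
      have := (Tower.comm_mem_Zc h) (v ^ n)⁻¹ (Q.inv_mem (Q.pow_mem hv n)) u⁻¹ (Q.inv_mem hu)
      simpa [hc, mul_assoc] using this
    have hzu : z * u = u * z := (Tower.Zc_central h) z hz u hu
    have hzv : z * v = v * z := (Tower.Zc_central h) z hz v hv
    have hcv : c * v = v * c := (Tower.Zc_central h) c hcZ v hv
    refine ⟨c * z, Subgroup.mul_mem _ hcZ hz, ?_⟩
    have h1 : v ^ n * u = u * v ^ n * c := by rw [hc]; group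
    calc (u * v) ^ (n + 1) = (u * v) ^ n * (u * v) := pow_succ _ _
      _ = u ^ n * v ^ n * z * (u * v) := by rw [hzn]
      _ = u ^ n * v ^ n * (z * u) * v := by group
      _ = u ^ n * v ^ n * (u * z) * v := by rw [hzu]
      _ = u ^ n * (v ^ n * u) * (z * v) := by group
      _ = u ^ n * (u * v ^ n * c) * (v * z) := by rw [h1, hzv]
      _ = u ^ n * u * v ^ n * (c * v) * z := by group
      _ = u ^ n * u * v ^ n * (v * c) * z := by rw [hcv]
      _ = u ^ (n + 1) * v ^ (n + 1) * (c * z) := by rw [pow_succ, pow_succ]; group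

/-- (T3) `Q/Z` has exponent `t`. -/
theorem Tower.pow_mem_Zc (h : Tower V r t s p q Q S A F H₀) : ∀ u ∈ Q, u ^ t ∈ Zc Q S := by
  classical
  -- the subgroup `M = {u ∈ Q | u^t ∈ Z}`
  let M : Subgroup T :=
    { carrier := {u | u ∈ Q ∧ u ^ t ∈ Zc Q S}
      one_mem' := ⟨Q.one_mem, by rw [one_pow]; exact Subgroup.one_mem _⟩
      mul_mem' := by
        rintro a b ⟨ha, ha'⟩ ⟨hb, hb'⟩
        refine ⟨Q.mul_mem ha hb, ?_⟩
        obtain ⟨z, hz, hzn⟩ := (Tower.exists_mul_pow h) ha hb t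
        rw [hzn]
        exact Subgroup.mul_mem _ (Subgroup.mul_mem _ ha' hb') hz
      inv_mem' := by
        rintro a ⟨ha, ha'⟩
        refine ⟨Q.inv_mem ha, ?_⟩
        rw [inv_pow]
        exact Subgroup.inv_mem _ ha' }
  have hMQ : M ≤ Q := fun _ hu => hu.1
  have hMA : ∀ a ∈ A, ∀ u ∈ M, a * u * a⁻¹ ∈ M := by
    rintro a ha u ⟨hu, hu'⟩
    refine ⟨h.hQn.conj_mem u hu a, ?_⟩
    rw [conj_pow]
    exact (Tower.conj_mem_Zc h) ha hu'
  have hMS : ∀ c ∈ S, ∀ u ∈ M, c * u * c⁻¹ ∈ M := by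
    rintro c hc u ⟨hu, hu'⟩
    refine ⟨h.hQn.conj_mem u hu c, ?_⟩
    rw [conj_pow]
    exact (Subgroup.mem_normalizer_iff.1 ((Tower.S_le_normalizer_Zc h) hc) _).1 hu'
  by_cases hM : M = Q
  · intro u hu
    have : u ∈ M := by rw [hM]; exact hu
    exact this.2
  · exfalso
    have hcent := h.hmin2 M hMQ hM hMA hMS
    have hMZ : M ≤ Zc Q S := by
      intro u hu
      refine mem_Zc.2 ⟨hu.1, ?_⟩
      intro c hc
      exact (hcent u hu c hc).symm
    -- an element of `Q` outside `Z`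
    obtain ⟨u₀, hu₀, c₀, hc₀, hne⟩ := h.hQS
    have hu₀Z : u₀ ∉ Zc Q S := by
      intro hz
      exact hne ((mem_Zc.1 hz).2 c₀ hc₀).symm
    have hex : ∃ k : ℕ, u₀ ^ (t ^ k) ∈ Zc Q S := by
      obtain ⟨k, hk⟩ := h.hQ ⟨u₀, hu₀⟩
      refine ⟨k, ?_⟩
      have : u₀ ^ (t ^ k) = 1 := by
        have := congrArg Subtype.val hk
        simpa using this
      rw [this]
      exact Subgroup.one_mem _
    have hk0 : Nat.find hex ≠ 0 := by
      intro h0
      have := Nat.find_spec hex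
      rw [h0, pow_zero, pow_one] at this
      exact hu₀Z this
    obtain ⟨k, hk⟩ : ∃ k, Nat.find hex = k + 1 := ⟨Nat.find hex - 1, by omega⟩
    have hw : u₀ ^ (t ^ k) ∉ Zc Q S := Nat.find_min hex (by omega)
    have hwM : u₀ ^ (t ^ k) ∈ M := by
      refine ⟨Q.pow_mem hu₀ _, ?_⟩
      rw [← pow_mul, ← pow_succ, ← hk]
      exact Nat.find_spec hex
    exact hw (hMZ hwM)

/-- (T3) `Z` has exponent `t`. -/
theorem Tower.Zc_pow (h : Tower V r t s p q Q S A F H₀) : ∀ z ∈ Zc Q S, z ^ t = 1 := by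
  -- commutators have order dividing `t`
  have hgen : ∀ u ∈ Q, ∀ v ∈ Q, (u * v * u⁻¹ * v⁻¹) ^ t = 1 := by
    intro u hu v hv
    have hc : ∀ k : ℕ, u * (u ^ k * v * (u ^ k)⁻¹ * v⁻¹) = (u ^ k * v * (u ^ k)⁻¹ * v⁻¹) * u := by
      intro k
      exact ((Tower.Zc_central h) _ ((Tower.comm_mem_Zc h) (u ^ k) (Q.pow_mem hu k) v hv) u hu).symm
    rw [← comm_pow_left hc t]
    have h1 : u ^ t * v = v * u ^ t := (Tower.Zc_central h) _ ((Tower.pow_mem_Zc h) u hu) v hv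
    rw [h1]; group
  intro z hz
  have hz' := (Tower.Zc_le_closure_comm h) hz
  have key : ∀ x ∈ Subgroup.closure {x | ∃ u ∈ Q, ∃ v ∈ Q, x = u * v * u⁻¹ * v⁻¹},
      x ∈ Zc Q S ∧ x ^ t = 1 := by
    intro x hx
    induction hx using Subgroup.closure_induction with
    | mem y hy =>
      obtain ⟨u, hu, v, hv, rfl⟩ := hy
      exact ⟨(Tower.comm_mem_Zc h) u hu v hv, hgen u hu v hv⟩
    | one => exact ⟨Subgroup.one_mem _, one_pow _⟩
    | mul a b _ _ iha ihb =>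
      refine ⟨Subgroup.mul_mem _ iha.1 ihb.1, ?_⟩
      have hab : Commute a b := (Tower.Zc_central h) a iha.1 b (mem_Zc.1 ihb.1).1
      rw [hab.mul_pow, iha.2, ihb.2, one_mul]
    | inv a _ iha =>
      refine ⟨Subgroup.inv_mem _ iha.1, ?_⟩
      rw [inv_pow, iha.2, inv_one]
  exact (key z hz').2

/-- `Q` normalizes `Z`. -/
theorem Tower.Q_le_normalizer_Zc (h : Tower V r t s p q Q S A F H₀) :
    Q ≤ Subgroup.normalizer (Zc Q S : Set T) := by
  apply le_normalizer_of_conj_mem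
  intro u hu z hz
  have h1 : z * u = u * z := (Tower.Zc_central h) z hz u hu
  have : u * z * u⁻¹ = z := by rw [← h1]; group
  rw [this]
  exact hz

/-- (T3) `C_{Q/Z}(S) = 1`. -/
theorem Tower.mem_Zc_of_comm (h : Tower V r t s p q Q S A F H₀) {u : T} (hu : u ∈ Q)
    (hc : ∀ c ∈ S, u * c * u⁻¹ * c⁻¹ ∈ Zc Q S) : u ∈ Zc Q S := by
  have hfix : ∀ a ∈ S, a * u * a⁻¹ * u⁻¹ ∈ Zc Q S := by
    intro a ha
    have := Subgroup.inv_mem _ (hc a ha)
    have e : (u * a * u⁻¹ * a⁻¹)⁻¹ = a * u * a⁻¹ * u⁻¹ := by group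
    rwa [e] at this
  obtain ⟨c, hcm, hcZ⟩ := Cfsg.Agent.Lib.Lead.coprime_fixed_coset S Q (Tower.S_le_normalizer_Q h)
    (Tower.coprime_SQ h) (Or.inr (Tower.solvQ h)) (Zc Q S) (fun _ hz => (mem_Zc.1 hz).1) (Tower.Q_le_normalizer_Zc h)
    (Tower.S_le_normalizer_Zc h) u hu hfix
  have hcZ' : c ∈ Zc Q S := hcm
  have : u = c * (u⁻¹ * c)⁻¹ := by group
  rw [this]
  exact Subgroup.mul_mem _ hcZ' (Subgroup.inv_mem _ hcZ)

/-- (T3) `C_{Q/Z}(A) = 1`. -/
theorem Tower.mem_Zc_of_comm_A (h : Tower V r t s p q Q S A F H₀) {u : T} (hu : u ∈ Q)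
    (hc : ∀ a ∈ A, a * u * a⁻¹ * u⁻¹ ∈ Zc Q S) : u ∈ Zc Q S := by
  obtain ⟨c, hcm, hcZ⟩ := Cfsg.Agent.Lib.Lead.coprime_fixed_coset A Q (Tower.A_le_normalizer_Q h)
    (Tower.coprime_AQ h) (Or.inr (Tower.solvQ h)) (Zc Q S) (fun _ hz => (mem_Zc.1 hz).1) (Tower.Q_le_normalizer_Zc h)
    (Tower.A_le_normalizer_Zc h) u hu hc
  have hc1 : c = 1 := by
    apply h.hfpfQ c hcm.1
    intro a ha
    exact (Subgroup.mem_centralizer_iff.1 hcm.2) a ha
  rw [hc1, mul_one] at hcZ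
  have := Subgroup.inv_mem _ hcZ
  rwa [inv_inv] at this

end tower

end Cfsg.Agent.Lib.Lead.PQT
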