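import Mathlib
import Cfsg.Prelude.Def_Perm

set_option autoImplicit false

namespace Cfsg.Agent.Lib.Lead.HeartPairs

section StepA

variable {G : Type*} [Group G] [Finite G] {Ω : Type*} [MulAction G Ω] [FaithfulSMul G Ω]

theorem three_trans_of_H (h2 : MulAction.IsMultiplyPretransitive G Ω 2)
    (heven : ∀ a : Ω, Even (Nat.card (MulAction.stabilizer G a)))
    (H : ∀ a b c z : Ω, a ≠ b → a ≠ c → b ≠ c → a ≠ z → b ≠ z →
      ∃ g : G, ((g • a = a ∧ g • b = b) ∨ (g • a = b ∧ g • b = a)) ∧ g • c = z) :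
    MulAction.IsMultiplyPretransitive G Ω 3 := by
  rw [MulAction.is_two_pretransitive_iff] at h2
  rw [MulAction.isMultiplyPretransitive_iff]
  intro x y
  -- an involution in the stabilizer of `x 0`
  set u := x 0 with hu
  obtain ⟨s, hs⟩ := exists_prime_orderOf_dvd_card' (G := MulAction.stabilizer G u) 2
    (even_iff_two_dvd.mp (heven u))
  have hs1 : (s : G) ≠ 1 := by
    intro h
    have : s = 1 := Subtype.ext h
    rw [this, orderOf_one] at hs
    norm_num at hs
  have hs2 : (s : G) * (s : G) = 1 := by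
    have : s ^ 2 = 1 := by rw [← hs]; exact pow_orderOf_eq_one s
    have h2' : ((s ^ 2 : MulAction.stabilizer G u) : G) = 1 := by rw [this]; rfl
    rw [← h2']; simp [pow_two]
  have hsu : (s : G) • u = u := s.2
  obtain ⟨v, hv⟩ : ∃ v : Ω, (s : G) • v ≠ v := by
    by_contra hcon
    push Not at hcon
    apply hs1
    apply FaithfulSMul.eq_of_smul_eq_smul (α := Ω)
    intro a
    rw [hcon a, one_smul]
  have huv : u ≠ v := by
    intro h; apply hv; rw [← h]; exact hsu
  obtain ⟨v', hv'⟩ : ∃ v' : Ω, v' = (s : G) • v := ⟨_, rfl⟩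
  rw [← hv'] at hv
  have hsv' : (s : G) • v' = v := by
    rw [hv', ← mul_smul, hs2, one_smul]
  have huv' : u ≠ v' := by
    intro h
    apply huv
    have : (s : G) • u = (s : G) • v := by rw [hsu, ← hv']; exact h
    exact MulAction.injective _ this
  have hvv' : v ≠ v' := fun h => hv h.symm
  -- the orbit predicate
  let Q : Ω → Ω → Ω → Prop := fun a b c => ∃ g : G, g • u = a ∧ g • v = b ∧ g • v' = c
  have hQ0 : Q u v v' := ⟨1, one_smul _ _, one_smul _ _, one_smul _ _⟩
  have hQ2 : ∀ a b c, Q a b c → Q a c b := by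
    rintro a b c ⟨g, h1, h2, h3⟩
    refine ⟨g * s, ?_, ?_, ?_⟩
    · rw [mul_smul, hsu, h1]
    · rw [mul_smul, ← hv', h3]
    · rw [mul_smul, hsv', h2]
  have hQi : ∀ a b c, a ≠ b → a ≠ c → b ≠ c → Q a b c ∨ Q b a c := by
    intro a b c hab hac hbc
    obtain ⟨g, hg1, hg2⟩ := h2 huv hab
    have h1 : a ≠ g • v' := by
      rw [← hg1]; intro h; exact huv' (MulAction.injective _ h)
    have h2' : b ≠ g • v' := by
      rw [← hg2]; intro h; exact hvv' (MulAction.injective _ h)
    obtain ⟨k, hk, hkc⟩ := H a b (g • v') c hab h1 h2' hac hbc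
    rcases hk with ⟨hka, hkb⟩ | ⟨hka, hkb⟩
    · left
      refine ⟨k * g, ?_, ?_, ?_⟩
      · rw [mul_smul, hg1, hka]
      · rw [mul_smul, hg2, hkb]
      · rw [mul_smul, hkc]
    · right
      refine ⟨k * g, ?_, ?_, ?_⟩
      · rw [mul_smul, hg1, hka]
      · rw [mul_smul, hg2, hkb]
      · rw [mul_smul, hkc]
  -- all distinct triples are in one orbit
  have hall : ∀ a b c, a ≠ b → a ≠ c → b ≠ c → Q a b c := by
    by_cases hswap : Q v u v'
    · intro a b c hab hac hbc
      rcases hQi a b c hab hac hbc with h | ⟨g, h1, h2, h3⟩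
      · exact h
      · obtain ⟨k, k1, k2, k3⟩ := hswap
        refine ⟨g * k, ?_, ?_, ?_⟩
        · rw [mul_smul, k1, h2]
        · rw [mul_smul, k2, h1]
        · rw [mul_smul, k3, h3]
    · exfalso
      have hQ1 : ∀ a b c, Q a b c → ¬ Q b a c := by
        rintro a b c ⟨g, h1, h2, h3⟩ ⟨k, k1, k2, k3⟩
        apply hswap
        refine ⟨g⁻¹ * k, ?_, ?_, ?_⟩
        · rw [mul_smul, k1, inv_smul_eq_iff, h2]
        · rw [mul_smul, k2, inv_smul_eq_iff, h1]
        · rw [mul_smul, k3, inv_smul_eq_iff, h3]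
      have a1 : Q u v' v := hQ2 _ _ _ hQ0
      have a2 : ¬ Q v' u v := hQ1 _ _ _ a1
      have a3 : ¬ Q v' v u := fun h => a2 (hQ2 _ _ _ h)
      have a4 : Q v v' u := by
        rcases hQi v' v u hvv'.symm huv'.symm huv.symm with h | h
        · exact absurd h a3
        · exact h
      exact hswap (hQ2 _ _ _ a4)
  have hx01 : x 0 ≠ x 1 := fun h => by
    have := x.injective h; exact absurd this (by decide)
  have hx02 : x 0 ≠ x 2 := fun h => by
    have := x.injective h; exact absurd this (by decide)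
  have hx12 : x 1 ≠ x 2 := fun h => by
    have := x.injective h; exact absurd this (by decide)
  have hy01 : y 0 ≠ y 1 := fun h => by
    have := y.injective h; exact absurd this (by decide)
  have hy02 : y 0 ≠ y 2 := fun h => by
    have := y.injective h; exact absurd this (by decide)
  have hy12 : y 1 ≠ y 2 := fun h => by
    have := y.injective h; exact absurd this (by decide)
  obtain ⟨g, g0, g1, g2⟩ := hall _ _ _ hx01 hx02 hx12
  obtain ⟨k, k0, k1, k2⟩ := hall _ _ _ hy01 hy02 hy12
  refine ⟨k * g⁻¹, ?_⟩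
  ext i
  rw [Function.Embedding.smul_apply, mul_smul]
  fin_cases i
  · change k • g⁻¹ • x 0 = y 0
    rw [← g0, inv_smul_smul, k0]
  · change k • g⁻¹ • x 1 = y 1
    rw [← g1, inv_smul_smul, k1]
  · change k • g⁻¹ • x 2 = y 2
    rw [← g2, inv_smul_smul, k2]

end StepA

section StepB

open Cfsg
open scoped Pointwise

variable {G : Type*} [Group G] {K : Type*} [Field K] {Ω : Type*} [Fintype Ω] [DecidableEq Ω]
  [MulAction G Ω]

/-- the linear map attached to a weight function -/
noncomputable def wMap (w : Finset Ω → Ω → K) :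
    (Ω → K) →ₗ[K] (Set.powersetCard Ω 2 → K) where
  toFun v := fun s => ∑ z, w (s : Finset Ω) z * v z
  map_add' := by
    intro v₁ v₂; funext s
    simp [mul_add, Finset.sum_add_distrib]
  map_smul' := by
    intro c v; funext s
    simp [Finset.mul_sum, mul_left_comm]

theorem wMap_apply (w : Finset Ω → Ω → K) (v : Ω → K) (s : Set.powersetCard Ω 2) :
    wMap w v s = ∑ z, w (s : Finset Ω) z * v z := rfl

theorem wMap_single_sub (w : Finset Ω → Ω → K) (x y : Ω) (s : Set.powersetCard Ω 2) :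
    wMap w (Pi.single x 1 - Pi.single y 1) s = w (s : Finset Ω) x - w (s : Finset Ω) y := by
  rw [wMap_apply]
  simp [mul_sub, Finset.sum_sub_distrib, Pi.single_apply]

theorem wMap_equivariant (w : Finset Ω → Ω → K)
    (hw : ∀ (g : G) (s : Finset Ω) (z : Ω), w (g • s) (g • z) = w s z) (g : G) (v : Ω → K) :
    wMap w (permRep K G Ω g v) = permRep K G (Set.powersetCard Ω 2) g (wMap w v) := by
  funext s
  change ∑ z, w (s : Finset Ω) z * v (g⁻¹ • z) =
    ∑ z, w ((g⁻¹ • s : Set.powersetCard Ω 2) : Finset Ω) z * v z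
  rw [Set.powersetCard.coe_smul]
  apply Fintype.sum_equiv (MulAction.toPerm g⁻¹)
  intro z
  change w (s : Finset Ω) z * v (g⁻¹ • z) = w (g⁻¹ • (s : Finset Ω)) (g⁻¹ • z) * v (g⁻¹ • z)
  rw [hw]

/-- the intertwining map on the sum-zero functions -/
noncomputable def wInter (w : Finset Ω → Ω → K)
    (hw : ∀ (g : G) (s : Finset Ω) (z : Ω), w (g • s) (g • z) = w s z) :
    Representation.IntertwiningMap (permSumZero K G Ω).toRepresentation
      (permRep K G (Set.powersetCard Ω 2)) :=
  LinearMap.intertwiningMap_of_isIntertwiningMap _ _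
    (wMap w ∘ₗ (permSumZero K G Ω).toSubmodule.subtype)
    (fun g v => wMap_equivariant w hw g (v : Ω → K))

theorem wInter_apply (w : Finset Ω → Ω → K)
    (hw : ∀ (g : G) (s : Finset Ω) (z : Ω), w (g • s) (g • z) = w s z)
    (v : (permSumZero K G Ω).toSubmodule) :
    wInter w hw v = wMap w (v : Ω → K) := rfl

theorem exists_inter_of_not_H (h2 : MulAction.IsMultiplyPretransitive G Ω 2)
    {a b c z : Ω} (hab : a ≠ b) (hac : a ≠ c) (hbc : b ≠ c) (haz : a ≠ z) (hbz : b ≠ z)
    (hno : ¬ ∃ g : G, ((g • a = a ∧ g • b = b) ∨ (g • a = b ∧ g • b = a)) ∧ g • c = z) :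
    ∃ f : Representation.IntertwiningMap (permSumZero K G Ω).toRepresentation
        (permRep K G (Set.powersetCard Ω 2)),
      (∀ v : (permSumZero K G Ω).toSubmodule,
        (v : Ω → K) ∈ (permConstants K G Ω).toSubmodule → f v = 0) ∧ f ≠ 0 := by
  classical
  rw [MulAction.is_two_pretransitive_iff] at h2
  let s0 : Finset Ω := {a, b}
  have hs0 : ∀ g : G, g • s0 = {g • a, g • b} := by
    intro g
    simp only [s0, Finset.smul_finset_insert, Finset.smul_finset_singleton]
  let R : Finset Ω → Ω → Prop := fun s x => ∃ g : G, g • s0 = s ∧ g • c = x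
  have hRinv : ∀ (g : G) (s : Finset Ω) (x : Ω), R (g • s) (g • x) ↔ R s x := by
    intro g s x
    constructor
    · rintro ⟨k, hk1, hk2⟩
      refine ⟨g⁻¹ * k, ?_, ?_⟩
      · rw [mul_smul, hk1, inv_smul_smul]
      · rw [mul_smul, hk2, inv_smul_smul]
    · rintro ⟨k, hk1, hk2⟩
      refine ⟨g * k, ?_, ?_⟩
      · rw [mul_smul, hk1]
      · rw [mul_smul, hk2]
  have hRc : R s0 c := ⟨1, one_smul _ _, one_smul _ _⟩
  have hRmem : ∀ s x, R s x → x ∉ s := by
    rintro s x ⟨g, rfl, rfl⟩ hmem
    rw [Finset.smul_mem_smul_finset_iff] at hmem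
    simp only [s0, Finset.mem_insert, Finset.mem_singleton] at hmem
    rcases hmem with h | h
    · exact hac h.symm
    · exact hbc h.symm
  have hRz : ¬ R s0 z := by
    rintro ⟨g, hg, hgc⟩
    apply hno
    refine ⟨g, ?_, hgc⟩
    rw [hs0] at hg
    have h1 : g • a ∈ s0 := by rw [← hg]; simp
    have h2' : g • b ∈ s0 := by rw [← hg]; simp
    simp only [s0, Finset.mem_insert, Finset.mem_singleton] at h1 h2'
    have hne : g • a ≠ g • b := fun h => hab (MulAction.injective g h)
    rcases h1 with h1 | h1 <;> rcases h2' with h2' | h2'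
    · exact absurd (h1.trans h2'.symm) hne
    · exact Or.inl ⟨h1, h2'⟩
    · exact Or.inr ⟨h1, h2'⟩
    · exact absurd (h1.trans h2'.symm) hne
  have has0 : a ∈ s0 := by simp [s0]
  have hzs0 : z ∉ s0 := by
    simp only [s0, Finset.mem_insert, Finset.mem_singleton, not_or]
    exact ⟨haz.symm, hbz.symm⟩
  obtain ⟨N1, hN1⟩ : ∃ N1 : K, N1 = ((Finset.univ.filter (fun x => R s0 x)).card : K) := ⟨_, rfl⟩
  obtain ⟨N2, hN2⟩ : ∃ N2 : K,
    N2 = (((Finset.univ.filter (fun x => ¬ R s0 x)).filter (fun x => x ∉ s0)).card : K) := ⟨_, rfl⟩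
  obtain ⟨α, β, hαβ, hne⟩ : ∃ α β : K, N1 * α + N2 * β = 0 ∧ (α ≠ 0 ∨ β ≠ 0) := by
    by_cases h1 : N1 = 0
    · exact ⟨1, 0, by rw [h1]; ring, Or.inl one_ne_zero⟩
    · exact ⟨N2, -N1, by ring, Or.inr (neg_ne_zero.mpr h1)⟩
  let w : Finset Ω → Ω → K := fun s x => if R s x then α else if x ∉ s then β else 0
  have hw : ∀ (g : G) (s : Finset Ω) (x : Ω), w (g • s) (g • x) = w s x := by
    intro g s x
    simp only [w]
    have h1 := hRinv g s x
    have h2' : g • x ∉ g • s ↔ x ∉ s := by rw [Finset.smul_mem_smul_finset_iff]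
    by_cases hR : R s x
    · rw [if_pos hR, if_pos (h1.mpr hR)]
    · rw [if_neg hR, if_neg (fun h => hR (h1.mp h))]
      by_cases hx : x ∉ s
      · rw [if_pos hx, if_pos (h2'.mpr hx)]
      · rw [if_neg hx, if_neg (fun h => hx (h2'.mp h))]
  have hrow0 : ∑ x, w s0 x = 0 := by
    simp only [w]
    rw [Finset.sum_ite, Finset.sum_ite]
    simp only [Finset.sum_const, nsmul_eq_mul]
    rw [← hN1, ← hN2, mul_zero, add_zero]
    exact hαβ
  have hrow : ∀ s : Set.powersetCard Ω 2, ∑ x, w (s : Finset Ω) x = 0 := by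
    intro s
    have hcard : (s : Finset Ω).card = 2 := s.2
    obtain ⟨x, y, hxy, hs⟩ := Finset.card_eq_two.mp hcard
    obtain ⟨g, hg1, hg2⟩ := h2 hab hxy
    have : (s : Finset Ω) = g • s0 := by rw [hs, hs0, hg1, hg2]
    rw [this, ← hrow0]
    symm
    apply Fintype.sum_equiv (MulAction.toPerm g)
    intro x
    exact (hw g s0 x).symm
  refine ⟨wInter w hw, ?_, ?_⟩
  · intro v hv
    obtain ⟨c', hc'⟩ := Submodule.mem_span_singleton.mp hv
    rw [wInter_apply]
    funext s
    rw [wMap_apply, ← hc']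
    simp only [Pi.smul_apply, smul_eq_mul, mul_one, Pi.zero_apply]
    rw [← Finset.sum_mul, hrow, zero_mul]
  · intro hf0
    have key : ∀ x y : Ω, w s0 x - w s0 y = 0 := by
      intro x y
      have hmem : (Pi.single x 1 - Pi.single y 1 : Ω → K) ∈ (permSumZero K G Ω).toSubmodule := by
        change ∑ t, (Pi.single x 1 - Pi.single y 1 : Ω → K) t = 0
        simp [Finset.sum_sub_distrib]
      have h1 : wInter w hw ⟨_, hmem⟩ = 0 := by rw [hf0]; rfl
      rw [wInter_apply] at h1
      have hs0card : s0 ∈ Set.powersetCard Ω 2 := by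
        change s0.card = 2
        exact Finset.card_pair hab
      have h2' := congrFun h1 ⟨s0, hs0card⟩
      rw [wMap_single_sub] at h2'
      exact h2'
    have hwa : w s0 a = 0 := by
      simp only [w]
      rw [if_neg (fun h => hRmem _ _ h has0), if_neg (fun h => h has0)]
    have hwc : w s0 c = α := by
      simp only [w]
      rw [if_pos hRc]
    have hwz : w s0 z = β := by
      simp only [w]
      rw [if_neg hRz, if_pos hzs0]
    rcases hne with hα | hβ
    · apply hα
      have := key c a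
      rw [hwa, hwc, sub_zero] at this
      exact this
    · apply hβ
      have := key z a
      rw [hwa, hwz, sub_zero] at this
      exact this

end StepB

end Cfsg.Agent.Lib.Lead.HeartPairs
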