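import Mathlib
import Cfsg.Agent.Lib.Helper5.GLClass.Defs
import Cfsg.Agent.Lib.Helper5.SemisimpleExists

set_option autoImplicit false

/-! Package PK-LOWER of S2478 (leader helper5): `|PolyD F n| ≤ k(GL_n(F))`. -/

namespace Cfsg.Agent.Lib.Helper5.GLClass

open Polynomial

/-- every `f ∈ PolyD F n` is the characteristic polynomial of an invertible matrix -/
theorem exists_gl_of_polyD {F : Type*} [Field F] [Fintype F] (n : ℕ) (f : F[X])
    (hf : f ∈ PolyD F n) :
    ∃ g : Matrix.GeneralLinearGroup (Fin n) F, (g : Matrix (Fin n) (Fin n) F).charpoly = f := by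
  obtain ⟨p, hp⟩ := CharP.exists F
  have : CharP F p := hp
  have : Fact p.Prime := ⟨CharP.char_is_prime F p⟩
  obtain ⟨hm, hd, h0⟩ := hf
  obtain ⟨A, k, hk, _, hAk, hA⟩ := Cfsg.Agent.Lib.Helper5.exists_semisimple_of_charpoly p f hm hd h0
  obtain ⟨j, rfl⟩ : ∃ j, k = j + 1 := ⟨k - 1, by omega⟩
  refine ⟨⟨A, A ^ j, ?_, ?_⟩, hA⟩
  · rw [← pow_succ', hAk]
  · rw [← pow_succ, hAk]

theorem card_PolyD_le_conjClasses {F : Type*} [Field F] [Fintype F] (n : ℕ) :
    Nat.card (PolyD F n) ≤ Nat.card (ConjClasses (Matrix.GeneralLinearGroup (Fin n) F)) := by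
  classical
  have : Finite (ConjClasses (Matrix.GeneralLinearGroup (Fin n) F)) := Quotient.finite _
  let Ψ : ↥(PolyD F n) → ConjClasses (Matrix.GeneralLinearGroup (Fin n) F) :=
    fun f => ConjClasses.mk (Classical.choose (exists_gl_of_polyD n f.1 f.2))
  have hΨ : ∀ f : ↥(PolyD F n),
      ((Classical.choose (exists_gl_of_polyD n f.1 f.2) : Matrix.GeneralLinearGroup (Fin n) F) :
        Matrix (Fin n) (Fin n) F).charpoly = f.1 :=
    fun f => Classical.choose_spec (exists_gl_of_polyD n f.1 f.2)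
  apply Nat.card_le_card_of_injective Ψ
  intro f f' h
  have hc : IsConj (Classical.choose (exists_gl_of_polyD n f.1 f.2))
      (Classical.choose (exists_gl_of_polyD n f'.1 f'.2)) := ConjClasses.mk_eq_mk_iff_isConj.mp h
  obtain ⟨c, hc⟩ := isConj_iff.mp hc
  apply Subtype.ext
  rw [← hΨ f, ← hΨ f', ← hc]
  have := Matrix.charpoly_units_conj c
    ((Classical.choose (exists_gl_of_polyD n f.1 f.2) : Matrix.GeneralLinearGroup (Fin n) F) :
      Matrix (Fin n) (Fin n) F)
  rw [← this]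
  simp [Units.val_mul]

end Cfsg.Agent.Lib.Helper5.GLClass
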