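import Cfsg.Agent.Lib.Lead.HallCount2

set_option autoImplicit false

/-!
# Counting Hall subgroups of solvable groups: the induction
-/

namespace Cfsg.Agent.Lib.Lead.HallCount

open scoped Pointwise

open Cfsg.Agent.Lib.Lead

universe u

variable {G : Type u} [Group G]

theorem case2 [Finite G] [Group.IsSolvable G] (K : Subgroup G) [hKn : K.Normal] {p : ℕ}
    (hp : p.Prime) (hKp : IsPGroup p K) (hK1 : K ≠ ⊥)
    (hKmin : ∀ M : Subgroup G, M.Normal → M ≤ K → M = ⊥ ∨ M = K)
    (m n' : ℕ) (hcard : Nat.card G = m * (Nat.card K * n')) (hcop : m.Coprime (Nat.card K * n'))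
    (ih : GoodL (G ⧸ K) m) : GoodL G m := by
  have hpf : Fact p.Prime := ⟨hp⟩
  have hKpos : 0 < Nat.card K := Nat.card_pos
  obtain ⟨a, ha⟩ := hKp.exists_card_eq
  have hcopK : m.Coprime (Nat.card K) := Nat.Coprime.coprime_dvd_right (Dvd.intro _ rfl) hcop
  have hcopn' : m.Coprime n' := Nat.Coprime.coprime_dvd_right (Dvd.intro_left _ rfl) hcop
  obtain ⟨hconj, -⟩ := hallProp_of_solvable G m _ hcard hcop
  obtain ⟨H, hH⟩ := exists_hall m _ hcard hcop
  have hcopHK : (Nat.card H).Coprime (Nat.card K) := by rw [hH]; exact hcopK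
  have hHK : H ⊓ K = ⊥ := Subgroup.inf_eq_bot_of_coprime hcopHK
  -- the quotient
  have hHbar : Nat.card (H.map (QuotientGroup.mk' K)) = m := by
    rw [card_map_mk_of_inf_eq_bot K H hHK, hH]
  have hqcard : Nat.card (G ⧸ K) = m * n' := by
    have := card_quotient_mul K
    rw [hcard] at this
    have h2 : Nat.card K * Nat.card (G ⧸ K) = Nat.card K * (m * n') := by
      rw [mul_comm, this]; ring
    exact Nat.eq_of_mul_eq_mul_left hKpos h2
  obtain ⟨hconj', -⟩ := hallProp_of_solvable (G ⧸ K) m n' hqcard hcopn'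
  -- the indices
  have h1 : hc G m = (Subgroup.normalizer (H : Set G)).index :=
    hc_eq_index_normalizer _ hconj H hH
  have h2 : hc (G ⧸ K) m = (Subgroup.normalizer (H : Set G) ⊔ K).index := by
    rw [hc_eq_index_normalizer _ hconj' _ hHbar, index_normalizer_map_mk,
      normalizer_sup_eq K H hcopHK]
  have h3 : (Subgroup.normalizer (H : Set G)).relIndex (Subgroup.normalizer (H : Set G) ⊔ K) *
      (Subgroup.normalizer (H : Set G) ⊔ K).index = (Subgroup.normalizer (H : Set G)).index :=
    Subgroup.relIndex_mul_index le_sup_left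
  -- the relative index
  have h4 : Nat.card (Subgroup.normalizer (H : Set G) ⊓ K : Subgroup G) *
      (Subgroup.normalizer (H : Set G)).relIndex (Subgroup.normalizer (H : Set G) ⊔ K) =
      Nat.card K := by
    have e1 := card_sup_mul_card_inf (Subgroup.normalizer (H : Set G)) K
      Subgroup.le_normalizer_of_normal
    have e2 : Nat.card ((Subgroup.normalizer (H : Set G)).subgroupOf
        (Subgroup.normalizer (H : Set G) ⊔ K)) *
        (Subgroup.normalizer (H : Set G)).relIndex (Subgroup.normalizer (H : Set G) ⊔ K) =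
        Nat.card (Subgroup.normalizer (H : Set G) ⊔ K : Subgroup G) :=
      Subgroup.card_mul_index _
    rw [card_subgroupOf_of_le le_sup_left] at e2
    have hNpos : 0 < Nat.card (Subgroup.normalizer (H : Set G)) := Nat.card_pos
    have e3 : Nat.card (Subgroup.normalizer (H : Set G)) *
        (Nat.card (Subgroup.normalizer (H : Set G) ⊓ K : Subgroup G) *
        (Subgroup.normalizer (H : Set G)).relIndex (Subgroup.normalizer (H : Set G) ⊔ K)) =
        Nat.card (Subgroup.normalizer (H : Set G)) * Nat.card K := by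
      rw [← e1, ← e2]; ring
    exact Nat.eq_of_mul_eq_mul_left hNpos e3
  -- the module lemma
  let φ : H →* MulAut K := (MulAut.conjNormal (H := K)).comp H.subtype
  have hφ : ∀ (h : H) (v : K), ((φ h) v : G) = h.1 * v.1 * h.1⁻¹ := fun h v =>
    MulAut.conjNormal_apply h.1 v
  have hsolA : Group.IsSolvable φ.range :=
    Group.isSolvable_of_surjective (f := φ.rangeRestrict) φ.rangeRestrict_surjective
  have hdvdA : Nat.card φ.range ∣ m := hH ▸ Subgroup.card_range_dvd φ
  have hcopA : (Nat.card φ.range).Coprime p := by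
    have h5 : m.Coprime p := by
      rcases Nat.eq_zero_or_pos a with h0 | h0
      · exfalso
        rw [h0, pow_zero] at ha
        exact hK1 (Subgroup.card_eq_one.mp ha)
      · rw [ha] at hcopK
        exact (Nat.coprime_pow_right_iff h0 m p).mp hcopK
    exact Nat.Coprime.coprime_dvd_left hdvdA h5
  obtain ⟨l, hl, hl2⟩ := module_lemma hp K φ.range hsolA hcopA hKp
  have hfix : Nat.card (fixedSub φ.range) =
      Nat.card (Subgroup.normalizer (H : Set G) ⊓ K : Subgroup G) := by
    apply Nat.card_congr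
    refine ⟨fun v => ⟨v.1.1, ?_, v.1.2⟩, fun w => ⟨⟨w.1, w.2.2⟩, ?_⟩, ?_, ?_⟩
    · apply Subgroup.centralizer_le_normalizer
      rw [Subgroup.mem_centralizer_iff]
      intro h hh
      have := v.2 (φ ⟨h, hh⟩) ⟨⟨h, hh⟩, rfl⟩
      have h6 := congrArg Subtype.val this
      rw [hφ] at h6
      calc h * v.1.1 = h * v.1.1 * h⁻¹ * h := by group
        _ = v.1.1 * h := by rw [h6]
    · rintro _ ⟨h, rfl⟩
      apply Subtype.ext
      rw [hφ]
      have hw : w.1 ∈ Subgroup.centralizer (H : Set G) := by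
        apply mem_centralizer_of_mem_normalizer H K Subgroup.le_normalizer_of_normal hHK w.1 w.2.2
        intro x hx
        exact (Subgroup.mem_normalizer_iff.mp w.2.1 x).mp hx
      have := Subgroup.mem_centralizer_iff.mp hw h.1 h.2
      show h.1 * w.1 * h.1⁻¹ = w.1
      rw [this]; group
    · intro v; rfl
    · intro w; rfl
  have hb : (Subgroup.normalizer (H : Set G)).relIndex (Subgroup.normalizer (H : Set G) ⊔ K) =
      l.prod := by
    have hfpos : 0 < Nat.card (Subgroup.normalizer (H : Set G) ⊓ K : Subgroup G) := Nat.card_pos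
    rw [hfix, ← h4] at hl
    exact Nat.eq_of_mul_eq_mul_left hfpos hl
  obtain ⟨l₀, hl₀, hl₀2⟩ := ih
  refine ⟨l ++ l₀, ?_, ?_⟩
  · rw [List.prod_append, h1, ← h3, hb, ← h2, hl₀]
  · intro x hx
    rw [List.mem_append] at hx
    rcases hx with hx | hx
    · obtain ⟨hxd, q, hq, hqA, hx1⟩ := hl2 x hx
      refine ⟨pp_of_dvd_prime_pow hp (ha ▸ hxd), ?_, q, hq, hqA.trans hdvdA, hx1⟩
      refine ⟨⊥, K, inferInstance, hKn, bot_lt_iff_ne_bot.mpr hK1, ?_, ?_⟩
      · intro M hM _ hMK
        exact hKmin M hM hMK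
      · rw [Subgroup.relIndex_bot_left]
        exact hxd
    · obtain ⟨h5, h6, h7⟩ := hl₀2 x hx
      exact ⟨h5, cf_of_quotient K h6, h7⟩

theorem exists_minimal_normal_le [Finite G] :
    ∀ (n : ℕ) (M : Subgroup G), Nat.card M = n → M.Normal → M ≠ ⊥ →
    ∃ K : Subgroup G, K.Normal ∧ K ≠ ⊥ ∧ K ≤ M ∧
      ∀ L : Subgroup G, L.Normal → L ≤ K → L = ⊥ ∨ L = K := by
  intro n
  induction n using Nat.strong_induction_on with
  | _ n ih =>
    intro M hn hMn hM
    by_cases hmin : ∀ L : Subgroup G, L.Normal → L ≤ M → L = ⊥ ∨ L = M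
    · exact ⟨M, hMn, hM, le_rfl, hmin⟩
    · push Not at hmin
      obtain ⟨L, hLn, hLM, hL1, hL2⟩ := hmin
      have hlt : Nat.card L < n := by
        rw [← hn]
        apply lt_of_le_of_ne (Subgroup.card_le_of_le hLM)
        intro heq
        exact hL2 (Subgroup.eq_of_le_of_card_ge hLM heq.ge)
      obtain ⟨K, hKn, hK1, hKL, hKmin⟩ := ih _ hlt L rfl hLn hL1
      exact ⟨K, hKn, hK1, hKL.trans hLM, hKmin⟩

theorem hc_one (G : Type u) [Group G] : hc G 1 = 1 := by
  unfold hc
  have : {H : Subgroup G // Nat.card H = 1} ≃ Unit :=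
    ⟨fun _ => (), fun _ => ⟨⊥, Subgroup.card_bot⟩, fun H => by
      apply Subtype.ext
      exact (Subgroup.card_eq_one.mp H.2).symm, fun _ => rfl⟩
  rw [Nat.card_congr this]
  simp

theorem main_aux : ∀ (k : ℕ) (G : Type u) [Group G] [Finite G] [Group.IsSolvable G],
    Nat.card G = k → ∀ m n : ℕ, Nat.card G = m * n → m.Coprime n → GoodL G m := by
  intro k
  induction k using Nat.strong_induction_on with
  | _ k ih =>
    intro G _ _ _ hk m n hcard hcop
    by_cases hm1 : m = 1
    · subst hm1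
      exact ⟨[], by rw [hc_one]; rfl, by simp⟩
    have hGpos : 0 < Nat.card G := Nat.card_pos
    have hmpos : 0 < m := by
      rcases Nat.eq_zero_or_pos m with h | h
      · rw [h, zero_mul] at hcard; omega
      · exact h
    have hnpos : 0 < n := by
      rcases Nat.eq_zero_or_pos n with h | h
      · rw [h, mul_zero] at hcard; omega
      · exact h
    haveI : Nontrivial G := by
      rw [← Finite.one_lt_card_iff_nontrivial, hcard]
      have : 2 ≤ m := by omega
      nlinarith
    obtain ⟨p, M, hp, hMn, _, hMp, hM1, _⟩ := exists_normal_abelian_pgroup (G := G)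
    obtain ⟨K, hKn, hK1, hKM, hKmin⟩ := exists_minimal_normal_le _ M rfl hMn hM1
    have hKp : IsPGroup p K := hMp.to_le hKM
    have hpf : Fact p.Prime := ⟨hp⟩
    obtain ⟨a, ha⟩ := hKp.exists_card_eq
    have hKpos : 0 < Nat.card K := Nat.card_pos
    have hK2 : 1 < Nat.card K := by
      have h2 : Nat.card K ≠ 1 := fun h => hK1 (Subgroup.card_eq_one.mp h)
      omega
    have hqlt : Nat.card (G ⧸ K) < k := by
      rw [← hk, ← card_quotient_mul K]
      exact lt_mul_of_one_lt_right Nat.card_pos hK2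
    have hKdvd : Nat.card K ∣ m * n := hcard ▸ Subgroup.card_subgroup_dvd_card K
    have hqcard : Nat.card (G ⧸ K) * Nat.card K = m * n := by
      rw [card_quotient_mul K, hcard]
    by_cases hpm : p ∣ m
    · -- `|K| ∣ m`
      have hpn : Nat.Coprime (Nat.card K) n := by
        rw [ha]
        apply Nat.Coprime.pow_left
        rw [Nat.Prime.coprime_iff_not_dvd hp]
        intro hpn
        have := Nat.dvd_gcd hpm hpn
        rw [hcop] at this
        exact hp.one_lt.ne' (Nat.dvd_one.mp this)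
      obtain ⟨m', hm'⟩ := hpn.dvd_of_dvd_mul_right hKdvd
      subst hm'
      have hq : Nat.card (G ⧸ K) = m' * n := by
        have : Nat.card K * Nat.card (G ⧸ K) = Nat.card K * (m' * n) := by
          rw [mul_comm, hqcard]; ring
        exact Nat.eq_of_mul_eq_mul_left hKpos this
      have hcop' : m'.Coprime n := Nat.Coprime.coprime_dvd_left (Dvd.intro_left _ rfl) hcop
      exact case1 K m' n hcard hcop (ih _ hqlt (G ⧸ K) rfl m' n hq hcop')
    · have hpmc : Nat.Coprime (Nat.card K) m := by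
        rw [ha]
        apply Nat.Coprime.pow_left
        exact (Nat.Prime.coprime_iff_not_dvd hp).mpr hpm
      obtain ⟨n', hn'⟩ := hpmc.dvd_of_dvd_mul_left hKdvd
      subst hn'
      have hq : Nat.card (G ⧸ K) = m * n' := by
        have : Nat.card K * Nat.card (G ⧸ K) = Nat.card K * (m * n') := by
          rw [mul_comm, hqcard]; ring
        exact Nat.eq_of_mul_eq_mul_left hKpos this
      have hcop' : m.Coprime n' := Nat.Coprime.coprime_dvd_right (Dvd.intro_left _ rfl) hcop
      exact case2 K hp hKp hK1 hKmin m n' hcard hcop (ih _ hqlt (G ⧸ K) rfl m n' hq hcop')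

theorem main {G : Type u} [Group G] [Finite G] [Group.IsSolvable G] (m n : ℕ)
    (hG : Nat.card G = m * n) (hmn : Nat.Coprime m n) :
    ∃ (k : ℕ) (f : Fin k → ℕ), Nat.card {H : Subgroup G // Nat.card H = m} = ∏ i, f i ∧
      ∀ i, (∃ q e : ℕ, q.Prime ∧ f i = q ^ e) ∧
        (∃ K L : Subgroup G, K.Normal ∧ L.Normal ∧ K < L ∧
          (∀ M : Subgroup G, M.Normal → K ≤ M → M ≤ L → M = K ∨ M = L) ∧ f i ∣ K.relIndex L) ∧
        (∃ q : ℕ, q.Prime ∧ q ∣ m ∧ f i ≡ 1 [MOD q]) := by
  obtain ⟨l, hl, hl2⟩ := main_aux _ G rfl m n hG hmn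
  refine ⟨l.length, fun i => l[i.1], ?_, ?_⟩
  · rw [Fin.prod_univ_getElem]
    exact hl
  · intro i
    exact hl2 _ (List.getElem_mem _)

end Cfsg.Agent.Lib.Lead.HallCount
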