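import Mathlib
import Cfsg.Prelude.Def_Characters
import Cfsg.Agent.Lib.Helper4.Characters
import Cfsg.Agent.Lib.Helper1.CharFound3
import Cfsg.Agent.Lib.Helper1.CharFound6
import Cfsg.Agent.Lib.Helper1.CharFound7
import Cfsg.Agent.S0146
import Cfsg.Agent.S0188

set_option autoImplicit false

namespace Cfsg.Agent.Lib.Lead

open Cfsg Cfsg.Agent.Lib.Helper1 Cfsg.Agent.Lib.Helper4
open scoped ComplexConjugate

/-- The pointwise product of two characters is a character. -/
theorem isCharacter_mul_pointwise {G : Type*} [Group G] {φ ψ : G → ℂ} (hφ : IsCharacter G φ)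
    (hψ : IsCharacter G ψ) : IsCharacter G (fun g => φ g * ψ g) := by
  have h1 := Cfsg.Agent.S0188.isCharacter_prod hφ hψ
  exact isCharacter_comp_hom h1 (MonoidHom.prod (MonoidHom.id G) (MonoidHom.id G))

/-- A sum `∑ c_i * m_i` with `c_i ∈ S` and `m_i` natural numbers lies in the additive subgroup
`S`. -/
theorem sum_mul_nat_mem {ι : Type*} (s : Finset ι) (S : AddSubgroup ℂ) (c : ι → ℂ) (m : ι → ℕ)
    (hc : ∀ i ∈ s, c i ∈ S) : ∑ i ∈ s, c i * (m i : ℂ) ∈ S := by
  refine S.sum_mem fun i hi => ?_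
  have : c i * (m i : ℂ) = m i • c i := by rw [nsmul_eq_mul, mul_comm]
  rw [this]
  exact S.nsmul_mem (hc i hi) _

/-- If all the multiplicities `⟨η', ξ⟩` lie in `S`, so does `⟨η' ψ, χ⟩` for characters `ψ, χ`. -/
theorem classInner_mul_char_mem {R : Type*} [Group R] [Fintype R] (S : AddSubgroup ℂ)
    (η' : R → ℂ) (hη' : IsClassFunction R η')
    (hS : ∀ ξ : IrrCharacter R, classInner η' (ξ : R → ℂ) ∈ S)
    (ψ : R → ℂ) (hψ : IsCharacter R ψ) (χ : R → ℂ) (hχ : IsCharacter R χ) :
    classInner (fun v => η' v * ψ v) χ ∈ S := by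
  classical
  have : Fintype (IrrCharacter R) := Fintype.ofFinite _
  have hexp := class_function_expansion η' hη'
  have h1 : (fun v => η' v * ψ v) =
      ∑ ξ : IrrCharacter R, classInner η' (ξ : R → ℂ) • (fun v => (ξ : R → ℂ) v * ψ v) := by
    funext v
    have h2 := congrFun hexp v
    rw [Finset.sum_apply] at h2
    rw [Finset.sum_apply]
    conv_lhs => rw [h2]
    rw [Finset.sum_mul]
    refine Finset.sum_congr rfl fun ξ _ => ?_
    simp only [Pi.smul_apply, smul_eq_mul, mul_assoc]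
  rw [h1, classInner_sum_left]
  choose m hm using fun ξ : IrrCharacter R =>
    classInner_char_nat (isCharacter_mul_pointwise (isCharacter_of_irr ξ.2) hψ) hχ
  have h3 : ∀ ξ : IrrCharacter R,
      classInner (classInner η' (ξ : R → ℂ) • (fun v => (ξ : R → ℂ) v * ψ v)) χ =
        classInner η' (ξ : R → ℂ) * (m ξ : ℂ) := by
    intro ξ
    rw [classInner_smul_left, hm ξ]
  rw [Finset.sum_congr rfl fun ξ _ => h3 ξ]
  exact sum_mul_nat_mem _ S _ _ fun ξ _ => hS ξ

/-- (K) -/
theorem classInner_indFun_mul_mem {Q : Type*} [Group Q] [Fintype Q] (R : Subgroup Q) [Fintype R]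
    (S : AddSubgroup ℂ) (η' : R → ℂ) (hη' : IsClassFunction R η')
    (hS : ∀ ξ : IrrCharacter R, classInner η' (ξ : R → ℂ) ∈ S)
    (ψ : R → ℂ) (hψ : IsCharacter R ψ) (lam : Q → ℂ) (hlam : IsCharacter Q lam) :
    classInner (indFun R (fun v => η' v * ψ v)) lam ∈ S := by
  rw [Cfsg.Agent.S0146.result R _ lam (isClassFunction_of_isCharacter hlam)]
  exact classInner_mul_char_mem S η' hη' hS ψ hψ _ (isCharacter_comp_hom hlam R.subtype)

end Cfsg.Agent.Lib.Lead
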