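import Mathlib
import Cfsg.Prelude.Def_Characters
import Cfsg.Agent.Lib.Helper2.WG.Defs3
import Cfsg.Agent.Lib.Helper6.WG_G1

set_option autoImplicit false

/-!
# S2524 PK-G5: a character of `J = N C` vanishing on `N ∖ Z` with `C` transitive on `N/Z ∖ 1`

Operator proof: with `P`, `e`, `G` the averaging idempotents of `C`, `N`, `J` one has `P e = G`,
`Q = P - G` is idempotent, `Q ρ(n) Q = -|Z|/(|N|-|Z|) Q` for `n ∈ N ∖ Z`, and
`R = ∑_{n ∈ N} ρ(n) Q ρ(n)⁻¹` satisfies `R² = κ R`, `e R = 0`; comparing traces gives the bound.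
-/

namespace Cfsg.Agent.Lib.Helper2.WG

open Cfsg

universe u

namespace PkG5

section ops

variable {Γ : Type*} [Group Γ] {V : Type*} [AddCommGroup V] [Module ℂ V]

/-- the averaging operator of a finite subgroup -/
noncomputable def avgOp (ρ : Representation ℂ Γ V) (H : Subgroup Γ) [Fintype H] :
    Module.End ℂ V :=
  (Fintype.card H : ℂ)⁻¹ • ∑ h : H, ρ (h : Γ)

theorem card_ne (H : Subgroup Γ) [Fintype H] : (Fintype.card H : ℂ) ≠ 0 :=
  Nat.cast_ne_zero.mpr Fintype.card_ne_zero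

theorem sum_rho (ρ : Representation ℂ Γ V) (H : Subgroup Γ) [Fintype H] :
    ∑ h : H, ρ (h : Γ) = (Fintype.card H : ℂ) • avgOp ρ H := by
  unfold avgOp
  rw [smul_smul, mul_inv_cancel₀ (card_ne H), one_smul]

theorem rho_mul_sum (ρ : Representation ℂ Γ V) (H : Subgroup Γ) [Fintype H] {g : Γ}
    (hg : g ∈ H) : ρ g * ∑ h : H, ρ (h : Γ) = ∑ h : H, ρ (h : Γ) := by
  rw [Finset.mul_sum]
  refine Fintype.sum_equiv (Equiv.mulLeft (⟨g, hg⟩ : H)) _ _ (fun h => ?_)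
  simp only [Equiv.coe_mulLeft, Subgroup.coe_mul, map_mul]

theorem sum_mul_rho (ρ : Representation ℂ Γ V) (H : Subgroup Γ) [Fintype H] {g : Γ}
    (hg : g ∈ H) : (∑ h : H, ρ (h : Γ)) * ρ g = ∑ h : H, ρ (h : Γ) := by
  rw [Finset.sum_mul]
  refine Fintype.sum_equiv (Equiv.mulRight (⟨g, hg⟩ : H)) _ _ (fun h => ?_)
  simp only [Equiv.coe_mulRight, Subgroup.coe_mul, map_mul]

theorem rho_mul_avgOp (ρ : Representation ℂ Γ V) (H : Subgroup Γ) [Fintype H] {g : Γ}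
    (hg : g ∈ H) : ρ g * avgOp ρ H = avgOp ρ H := by
  unfold avgOp
  rw [mul_smul_comm, rho_mul_sum ρ H hg]

theorem avgOp_mul_rho (ρ : Representation ℂ Γ V) (H : Subgroup Γ) [Fintype H] {g : Γ}
    (hg : g ∈ H) : avgOp ρ H * ρ g = avgOp ρ H := by
  unfold avgOp
  rw [smul_mul_assoc, sum_mul_rho ρ H hg]

theorem avgOp_mul_of_fixed (ρ : Representation ℂ Γ V) (H : Subgroup Γ) [Fintype H]
    (X : Module.End ℂ V) (hX : ∀ h ∈ H, ρ h * X = X) : avgOp ρ H * X = X := by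
  unfold avgOp
  rw [smul_mul_assoc, Finset.sum_mul, Finset.sum_congr rfl (fun (h : H) _ => hX h.1 h.2),
    Finset.sum_const, Finset.card_univ, ← Nat.cast_smul_eq_nsmul ℂ, smul_smul,
    inv_mul_cancel₀ (card_ne H), one_smul]

theorem mul_avgOp_of_fixed (ρ : Representation ℂ Γ V) (H : Subgroup Γ) [Fintype H]
    (X : Module.End ℂ V) (hX : ∀ h ∈ H, X * ρ h = X) : X * avgOp ρ H = X := by
  unfold avgOp
  rw [mul_smul_comm, Finset.mul_sum, Finset.sum_congr rfl (fun (h : H) _ => hX h.1 h.2),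
    Finset.sum_const, Finset.card_univ, ← Nat.cast_smul_eq_nsmul ℂ, smul_smul,
    inv_mul_cancel₀ (card_ne H), one_smul]

theorem avgOp_idem (ρ : Representation ℂ Γ V) (H : Subgroup Γ) [Fintype H] :
    avgOp ρ H * avgOp ρ H = avgOp ρ H :=
  avgOp_mul_of_fixed ρ H _ (fun _ hh => rho_mul_avgOp ρ H hh)

/-- conjugation by `γ` on a normal subgroup -/
def conjEquiv (N : Subgroup Γ) (hnorm : ∀ γ : Γ, ∀ n ∈ N, γ * n * γ⁻¹ ∈ N) (γ : Γ) : N ≃ N where
  toFun n := ⟨γ * n * γ⁻¹, hnorm γ n n.2⟩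
  invFun n := ⟨γ⁻¹ * n * γ, by simpa using hnorm γ⁻¹ n n.2⟩
  left_inv n := by
    apply Subtype.ext
    simp [mul_assoc]
  right_inv n := by
    apply Subtype.ext
    simp [mul_assoc]

theorem rho_mul_avgOp_comm (ρ : Representation ℂ Γ V) (N : Subgroup Γ) [Fintype N]
    (hnorm : ∀ γ : Γ, ∀ n ∈ N, γ * n * γ⁻¹ ∈ N) (γ : Γ) :
    ρ γ * avgOp ρ N = avgOp ρ N * ρ γ := by
  unfold avgOp
  rw [mul_smul_comm, smul_mul_assoc, Finset.mul_sum, Finset.sum_mul]
  congr 1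
  refine Fintype.sum_equiv (conjEquiv N hnorm γ) _ _ (fun n => ?_)
  show ρ γ * ρ (n : Γ) = ρ (γ * n * γ⁻¹) * ρ γ
  rw [← map_mul, ← map_mul]
  congr 1
  group

theorem trace_avgOp [FiniteDimensional ℂ V] (ρ : Representation ℂ Γ V) (H : Subgroup Γ)
    [Fintype H] : LinearMap.trace ℂ V (avgOp ρ H) = fixdim H ρ.character := by
  unfold avgOp fixdim
  rw [map_smul, map_sum, smul_eq_mul]
  rfl

/-- splitting a sum over `N` along `Z ≤ N` -/
theorem sum_split (N Z : Subgroup Γ) [Fintype N] [Fintype Z] (hZN : Z ≤ N) {M : Type*}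
    [AddCommGroup M] [Module ℂ M] (f : N → M) (X Y : M)
    (hX : ∀ n : N, (n : Γ) ∈ Z → f n = X) (hY : ∀ n : N, (n : Γ) ∉ Z → f n = Y) :
    ∑ n : N, f n = (Fintype.card Z : ℂ) • X +
      ((Fintype.card N : ℂ) - (Fintype.card Z : ℂ)) • Y := by
  classical
  have hc1 : (Finset.univ.filter (fun n : N => (n : Γ) ∈ Z)).card = Fintype.card Z := by
    rw [← Fintype.card_subtype]
    refine Fintype.card_congr
      { toFun := fun x => ⟨x.1.1, x.2⟩
        invFun := fun z => ⟨⟨z.1, hZN z.2⟩, z.2⟩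
        left_inv := fun x => rfl
        right_inv := fun z => rfl }
  have hc2 : ((Finset.univ.filter (fun n : N => ¬ (n : Γ) ∈ Z)).card : ℂ) =
      (Fintype.card N : ℂ) - (Fintype.card Z : ℂ) := by
    have h := Finset.card_filter_add_card_filter_not (s := (Finset.univ : Finset N))
      (fun n : N => (n : Γ) ∈ Z)
    rw [hc1, Finset.card_univ] at h
    rw [← h]
    push_cast
    ring
  rw [← Finset.sum_filter_add_sum_filter_not Finset.univ (fun n : N => (n : Γ) ∈ Z)]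
  congr 1
  · rw [Finset.sum_congr rfl (fun n hn => hX n (Finset.mem_filter.1 hn).2), Finset.sum_const,
      hc1, Nat.cast_smul_eq_nsmul ℂ]
  · rw [Finset.sum_congr rfl (fun n hn => hY n (Finset.mem_filter.1 hn).2), Finset.sum_const,
      ← Nat.cast_smul_eq_nsmul ℂ, hc2]

end ops

section main

variable {Γ : Type*} [Group Γ] {V : Type*} [AddCommGroup V] [Module ℂ V] [FiniteDimensional ℂ V]

open PkG1

theorem trace_idem {E : Module.End ℂ V} (hE : E * E = E) :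
    LinearMap.trace ℂ V E = (Module.finrank ℂ (LinearMap.range E) : ℂ) :=
  (LinearMap.IsIdempotentElem.isProj_range E hE).trace

theorem rho_eq_one_of_char (ρ : Representation ℂ Γ V) (Z : Subgroup Γ) [Fintype Z]
    (hχZ : ∀ z ∈ Z, ρ.character z = ρ.character 1) : ∀ z ∈ Z, ρ z = 1 := by
  have hidem := avgOp_idem ρ Z
  have htr : LinearMap.trace ℂ V (avgOp ρ Z) = (Module.finrank ℂ V : ℂ) := by
    rw [trace_avgOp]
    unfold fixdim
    rw [Finset.sum_congr rfl (fun (z : Z) _ => hχZ z.1 z.2), Finset.sum_const, Finset.card_univ,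
      nsmul_eq_mul, ← mul_assoc, inv_mul_cancel₀ (card_ne Z), one_mul, Representation.char_one]
  have hr : LinearMap.range (avgOp ρ Z) = ⊤ := by
    apply Submodule.eq_top_of_finrank_eq
    have h := trace_idem hidem
    rw [htr] at h
    exact_mod_cast h.symm
  have h1 : avgOp ρ Z = 1 := by
    ext v
    obtain ⟨w, hw⟩ : v ∈ LinearMap.range (avgOp ρ Z) := by rw [hr]; trivial
    rw [← hw, ← Module.End.mul_apply, hidem]
    rfl
  intro z hz
  have h := rho_mul_avgOp ρ Z hz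
  rw [h1, mul_one] at h
  exact h

theorem main_abs (ρ : Representation ℂ Γ V) (N Z C T : Subgroup Γ) [Fintype N] [Fintype Z]
    [Fintype C] [Fintype T] (hT : ∀ γ : Γ, γ ∈ T) (hZN : Z ≤ N)
    (hnorm : ∀ γ : Γ, ∀ n ∈ N, γ * n * γ⁻¹ ∈ N)
    (hNC : ∀ γ : Γ, ∃ n ∈ N, ∃ c ∈ C, γ = n * c)
    (htr : ∀ n ∈ N, n ∉ Z → ∀ n' ∈ N, n' ∉ Z → ∃ c ∈ C, ∃ z ∈ Z, c * n * c⁻¹ = n' * z)
    (hχZ : ∀ z ∈ Z, ρ.character z = ρ.character 1)
    (hχN : ∀ n ∈ N, n ∉ Z → ρ.character n = 0) (k idx : ℕ)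
    (hidx : Fintype.card N = idx * Fintype.card Z)
    (hk : Module.finrank ℂ V = k * idx) :
    Module.finrank ℂ (fixInv ρ C) ≤ Module.finrank ℂ (fixInv ρ T) + k := by
  classical
  have hZ1 := rho_eq_one_of_char ρ Z hχZ
  obtain ⟨P, hP⟩ : ∃ P, P = avgOp ρ C := ⟨_, rfl⟩
  obtain ⟨e, he⟩ : ∃ e, e = avgOp ρ N := ⟨_, rfl⟩
  obtain ⟨G, hG⟩ : ∃ G, G = avgOp ρ T := ⟨_, rfl⟩
  have hPP : P * P = P := by rw [hP]; exact avgOp_idem ρ C
  have hee : e * e = e := by rw [he]; exact avgOp_idem ρ N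
  have hGG : G * G = G := by rw [hG]; exact avgOp_idem ρ T
  have hcP : ∀ c ∈ C, ρ c * P = P := fun c hc => by rw [hP]; exact rho_mul_avgOp ρ C hc
  have hPc : ∀ c ∈ C, P * ρ c = P := fun c hc => by rw [hP]; exact avgOp_mul_rho ρ C hc
  have hne : ∀ n ∈ N, ρ n * e = e := fun n hn => by rw [he]; exact rho_mul_avgOp ρ N hn
  have hen : ∀ n ∈ N, e * ρ n = e := fun n hn => by rw [he]; exact avgOp_mul_rho ρ N hn
  have hGγ : ∀ γ, G * ρ γ = G := fun γ => by rw [hG]; exact avgOp_mul_rho ρ T (hT γ)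
  have hcomm : ∀ γ, ρ γ * e = e * ρ γ := fun γ => by
    rw [he]; exact rho_mul_avgOp_comm ρ N hnorm γ
  have hPe : P * e = e * P := by
    rw [hP, show avgOp ρ C = (Fintype.card C : ℂ)⁻¹ • ∑ c : C, ρ (c : Γ) from rfl,
      smul_mul_assoc, mul_smul_comm, Finset.sum_mul, Finset.mul_sum]
    congr 1
    exact Finset.sum_congr rfl (fun c _ => hcomm c)
  have hGP : G * P = G := by rw [hP]; exact mul_avgOp_of_fixed ρ C G (fun c _ => hGγ c)
  have hGe : G * e = G := by rw [he]; exact mul_avgOp_of_fixed ρ N G (fun n _ => hGγ n)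
  have hPeG : P * e = G := by
    have hfix : ∀ γ ∈ T, ρ γ * (P * e) = P * e := by
      intro γ _
      obtain ⟨n, hn, c, hc, rfl⟩ := hNC γ
      rw [map_mul, mul_assoc, ← mul_assoc (ρ c), hcP c hc, hPe, ← mul_assoc, hne n hn]
    have h1 : G * (P * e) = P * e := by rw [hG]; exact avgOp_mul_of_fixed ρ T _ hfix
    rw [← h1, ← mul_assoc, hGP, hGe]
  have heP : e * P = G := by rw [← hPe, hPeG]
  have hPG : P * G = G := by rw [← hPeG, ← mul_assoc, hPP]
  have heG : e * G = G := by rw [← heP, ← mul_assoc, hee]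
  obtain ⟨Q, hQ⟩ : ∃ Q, Q = P - G := ⟨_, rfl⟩
  have hQQ : Q * Q = Q := by
    rw [hQ, sub_mul, mul_sub, mul_sub, hPP, hPG, hGP, hGG]
    abel
  have heQ : e * Q = 0 := by rw [hQ, mul_sub, heP, heG, sub_self]
  have hQe : Q * e = 0 := by rw [hQ, sub_mul, hPeG, hGe, sub_self]
  have hQ1 : Q = (1 - e) * P := by rw [hQ, sub_mul, one_mul, heP]
  have hQ2 : Q = P * (1 - e) := by rw [hQ, mul_sub, mul_one, hPeG]
  obtain ⟨cN, hcN⟩ : ∃ cN : ℂ, cN = (Fintype.card N : ℂ) := ⟨_, rfl⟩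
  obtain ⟨cZ, hcZ⟩ : ∃ cZ : ℂ, cZ = (Fintype.card Z : ℂ) := ⟨_, rfl⟩
  have hsumN : ∑ n : N, ρ (n : Γ) = cN • e := by rw [he, hcN]; exact sum_rho ρ N
  have hsumNinv : ∑ u : N, ρ ((u : Γ)⁻¹) = cN • e := by
    rw [← hsumN]
    exact Fintype.sum_equiv (Equiv.inv N) _ _ (fun u => rfl)
  have hH1 : ∀ n0 ∈ N, n0 ∉ Z → (cN - cZ) • (Q * ρ n0 * Q) = -(cZ • Q) := by
    intro n0 hn0 hn0Z
    have hsplit := sum_split N Z hZN (fun n : N => P * ρ (n : Γ) * P) P (P * ρ n0 * P)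
      (fun n hn => by simp only [hZ1 _ hn, mul_one, hPP])
      (fun n hn => by
        obtain ⟨c, hc, z, hz, h⟩ := htr n0 hn0 hn0Z n n.2 hn
        have hn' : (n : Γ) = c * n0 * c⁻¹ * z⁻¹ := by rw [h]; group
        show P * ρ (n : Γ) * P = P * ρ n0 * P
        rw [hn', map_mul, map_mul, map_mul, hZ1 _ (Z.inv_mem hz), mul_one]
        rw [← mul_assoc, ← mul_assoc, hPc c hc, mul_assoc, hcP c⁻¹ (C.inv_mem hc)])
    have hL : ∑ n : N, P * ρ (n : Γ) * P = cN • G := by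
      rw [← Finset.sum_mul, ← Finset.mul_sum, hsumN, mul_smul_comm, smul_mul_assoc, hPeG, hGP]
    rw [hL, ← hcN, ← hcZ] at hsplit
    have hA : (cN - cZ) • (P * ρ n0 * P) = cN • G - cZ • P := by rw [hsplit]; abel
    have hQnQ : Q * ρ n0 * Q = (1 - e) * (P * ρ n0 * P) * (1 - e) := by
      calc Q * ρ n0 * Q = ((1 - e) * P) * ρ n0 * (P * (1 - e)) := by rw [← hQ1, ← hQ2]
        _ = _ := by simp only [mul_assoc]
    have h1 : (1 - e) * G = 0 := by rw [sub_mul, one_mul, heG, sub_self]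
    have h2 : (1 - e) * P * (1 - e) = Q := by rw [← hQ1, mul_sub, mul_one, hQe, sub_zero]
    have h3 : (1 - e) * (cN • G - cZ • P) = -(cZ • ((1 - e) * P)) := by
      rw [mul_sub, mul_smul_comm, mul_smul_comm, h1, smul_zero, zero_sub]
    rw [hQnQ, ← smul_mul_assoc, ← mul_smul_comm, hA, h3, neg_mul, smul_mul_assoc, h2]
  have hS : (cN - cZ) • (∑ u : N, Q * ρ (u : Γ) * Q * ρ ((u : Γ)⁻¹)) = (cZ * cN) • Q := by
    have hsplit := sum_split N Z hZN
      (fun u : N => (cN - cZ) • (Q * ρ (u : Γ) * Q * ρ ((u : Γ)⁻¹)) + cZ • (Q * ρ ((u : Γ)⁻¹)))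
      (cN • Q) 0
      (fun u hu => by
        simp only [hZ1 _ hu, hZ1 _ (Z.inv_mem hu), mul_one, hQQ]
        rw [← add_smul]
        congr 1
        ring)
      (fun u hu => by
        show (cN - cZ) • (Q * ρ (u : Γ) * Q * ρ ((u : Γ)⁻¹)) + cZ • (Q * ρ ((u : Γ)⁻¹)) = 0
        rw [← smul_mul_assoc, hH1 u u.2 hu, neg_mul, smul_mul_assoc, neg_add_cancel])
    rw [Finset.sum_add_distrib, ← Finset.smul_sum, ← Finset.smul_sum, ← Finset.mul_sum, hsumNinv,
      mul_smul_comm, hQe, smul_zero, smul_zero, add_zero, smul_zero, add_zero, ← hcZ,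
      smul_smul] at hsplit
    exact hsplit
  obtain ⟨R, hR⟩ : ∃ R, R = ∑ n : N, ρ (n : Γ) * Q * ρ ((n : Γ)⁻¹) := ⟨_, rfl⟩
  have hRR : (cN - cZ) • (R * R) = (cZ * cN) • R := by
    have h1 : R * R = ∑ n : N, ρ (n : Γ) *
        (∑ u : N, Q * ρ (u : Γ) * Q * ρ ((u : Γ)⁻¹)) * ρ ((n : Γ)⁻¹) := by
      rw [hR, Finset.sum_mul]
      refine Finset.sum_congr rfl (fun n _ => ?_)
      rw [Finset.mul_sum, Finset.mul_sum, Finset.sum_mul]
      refine (Fintype.sum_equiv (Equiv.mulLeft n) _ _ (fun u => ?_)).symm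
      simp only [Equiv.coe_mulLeft, Subgroup.coe_mul, mul_inv_rev, map_mul]
      have h : ρ ((n : Γ)⁻¹) * ρ (n : Γ) = 1 := by rw [← map_mul, inv_mul_cancel, map_one]
      simp only [mul_assoc]
      rw [← mul_assoc (ρ ((n : Γ)⁻¹)) (ρ (n : Γ)), h, one_mul]
    rw [h1, Finset.smul_sum, hR, Finset.smul_sum]
    refine Finset.sum_congr rfl (fun n _ => ?_)
    rw [← smul_mul_assoc, ← mul_smul_comm, hS, mul_smul_comm, smul_mul_assoc]
  have heR : e * R = 0 := by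
    rw [hR, Finset.mul_sum]
    refine Finset.sum_eq_zero (fun n _ => ?_)
    rw [← mul_assoc, ← mul_assoc, hen n n.2, heQ, zero_mul]
  have htrR : LinearMap.trace ℂ V R = cN * LinearMap.trace ℂ V Q := by
    rw [hR, map_sum]
    have h : ∀ n : N, LinearMap.trace ℂ V (ρ (n : Γ) * Q * ρ ((n : Γ)⁻¹)) =
        LinearMap.trace ℂ V Q := by
      intro n
      rw [mul_assoc, LinearMap.trace_mul_comm, mul_assoc, ← map_mul, inv_mul_cancel, map_one,
        mul_one]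
    rw [Finset.sum_congr rfl (fun n _ => h n), Finset.sum_const, Finset.card_univ, nsmul_eq_mul,
      hcN]
  have htrP : LinearMap.trace ℂ V P = (Module.finrank ℂ (fixInv ρ C) : ℂ) := by
    rw [hP, trace_avgOp, fixdim_eq]
  have htrG : LinearMap.trace ℂ V G = (Module.finrank ℂ (fixInv ρ T) : ℂ) := by
    rw [hG, trace_avgOp, fixdim_eq]
  have htrQ : LinearMap.trace ℂ V Q = (Module.finrank ℂ (fixInv ρ C) : ℂ) -
      (Module.finrank ℂ (fixInv ρ T) : ℂ) := by rw [hQ, map_sub, htrP, htrG]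
  have htre : LinearMap.trace ℂ V e = cN⁻¹ * (cZ * (Module.finrank ℂ V : ℂ)) := by
    rw [he, trace_avgOp, hcN, hcZ]
    unfold fixdim
    congr 1
    have h := sum_split N Z hZN (fun n : N => ρ.character (n : Γ)) (Module.finrank ℂ V : ℂ) 0
      (fun n hn => by rw [hχZ _ hn, Representation.char_one]) (fun n hn => hχN _ n.2 hn)
    rw [h, smul_zero, add_zero, smul_eq_mul]
  have hab : Module.finrank ℂ (fixInv ρ T) ≤ Module.finrank ℂ (fixInv ρ C) :=
    Submodule.finrank_mono (fixInv_anti ρ (fun c _ => hT c))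
  by_cases hidx1 : idx ≤ 1
  · have h1 : Module.finrank ℂ (fixInv ρ C) ≤ Module.finrank ℂ V := Submodule.finrank_le _
    rw [hk] at h1
    have h2 : k * idx ≤ k := by nlinarith
    omega
  · obtain ⟨t, rfl⟩ : ∃ t, idx = t + 2 := ⟨idx - 2, by omega⟩
    have hcNZ : cN = ((t : ℂ) + 2) * cZ := by rw [hcN, hcZ, hidx]; push_cast; ring
    have hcZ0 : cZ ≠ 0 := by rw [hcZ]; exact card_ne Z
    have ht1 : ((t : ℂ) + 1) ≠ 0 := by exact_mod_cast Nat.succ_ne_zero t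
    have ht2 : ((t : ℂ) + 2) ≠ 0 := by exact_mod_cast (by omega : t + 2 ≠ 0)
    have hd : cN - cZ = ((t : ℂ) + 1) * cZ := by rw [hcNZ]; ring
    have hd0 : cN - cZ ≠ 0 := by rw [hd]; exact mul_ne_zero ht1 hcZ0
    have hcN0 : cN ≠ 0 := by rw [hcNZ]; exact mul_ne_zero ht2 hcZ0
    obtain ⟨κ, hκ⟩ : ∃ κ : ℂ, κ = cZ * cN / (cN - cZ) := ⟨_, rfl⟩
    have hκ0 : κ ≠ 0 := by rw [hκ]; exact div_ne_zero (mul_ne_zero hcZ0 hcN0) hd0
    have hRR' : R * R = κ • R := by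
      have h := congrArg (fun X => (cN - cZ)⁻¹ • X) hRR
      simp only [smul_smul, inv_mul_cancel₀ hd0, one_smul] at h
      rw [h, hκ]
      congr 1
      field_simp
    obtain ⟨E, hE⟩ : ∃ E, E = κ⁻¹ • R := ⟨_, rfl⟩
    have hEE : E * E = E := by
      rw [hE, smul_mul_assoc, mul_smul_comm, hRR', smul_smul, smul_smul]
      congr 1
      field_simp
    have hEtr := trace_idem hEE
    have heE : e * E = 0 := by rw [hE, mul_smul_comm, heR, smul_zero]
    have hrange : LinearMap.range E ≤ LinearMap.ker e := by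
      rintro _ ⟨w, rfl⟩
      rw [LinearMap.mem_ker, ← Module.End.mul_apply, heE]
      rfl
    have hle := Submodule.finrank_mono hrange
    have hker := LinearMap.finrank_range_add_finrank_ker e
    have hetr := trace_idem hee
    -- numbers
    have hre : Module.finrank ℂ (LinearMap.range e) = k := by
      have h : ((Module.finrank ℂ (LinearMap.range e) : ℕ) : ℂ) = (k : ℂ) := by
        rw [← hetr, htre, hk, hcNZ]
        push_cast
        field_simp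
      exact_mod_cast h
    have hrE : ((t : ℂ) + 1) * ((Module.finrank ℂ (fixInv ρ C) : ℂ) -
        (Module.finrank ℂ (fixInv ρ T) : ℂ)) = (Module.finrank ℂ (LinearMap.range E) : ℂ) := by
      rw [← hEtr, hE, map_smul, htrR, htrQ, smul_eq_mul, hκ, hd, hcNZ]
      field_simp
    have hnat : (t + 1) * Module.finrank ℂ (fixInv ρ C) =
        Module.finrank ℂ (LinearMap.range E) + (t + 1) * Module.finrank ℂ (fixInv ρ T) := by
      have h : (((t + 1) * Module.finrank ℂ (fixInv ρ C) : ℕ) : ℂ) =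
          ((Module.finrank ℂ (LinearMap.range E) + (t + 1) * Module.finrank ℂ (fixInv ρ T) : ℕ) : ℂ) := by
        push_cast
        rw [← hrE]
        ring
      exact_mod_cast h
    have hkerv : Module.finrank ℂ (LinearMap.ker e) = k * (t + 1) := by
      rw [hre, hk] at hker
      have : k * (t + 2) = k + k * (t + 1) := by ring
      omega
    rw [hkerv] at hle
    have hfin : (t + 1) * Module.finrank ℂ (fixInv ρ C) ≤
        (t + 1) * (Module.finrank ℂ (fixInv ρ T) + k) := by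
      rw [hnat]
      nlinarith
    exact Nat.le_of_mul_le_mul_left hfin (Nat.succ_pos t)

end main

end PkG5

/-- PK-G5 -/
theorem fixdim_complement_le {𝔾 : Type u} [Group 𝔾] [Finite 𝔾] (J N Z C : Subgroup 𝔾)
    [Fintype C] [Fintype J]
    (hNJ : N ≤ J) (hCJ : C ≤ J) (hZN : Z ≤ N)
    (hnorm : ∀ j ∈ J, ∀ n ∈ N, j * n * j⁻¹ ∈ N)
    (hZc : ∀ z ∈ Z, ∀ j ∈ J, z * j = j * z)
    (hNC : ∀ j ∈ J, ∃ n ∈ N, ∃ c ∈ C, j = n * c)
    (hab : ∀ n ∈ N, ∀ n' ∈ N, n * n' * n⁻¹ * n'⁻¹ ∈ Z)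
    (htr : ∀ n ∈ N, n ∉ Z → ∀ n' ∈ N, n' ∉ Z → ∃ c ∈ C, ∃ z ∈ Z, c * n * c⁻¹ = n' * z)
    {Φ : 𝔾 → ℂ} (hΦ : IsCharacter J (fun j : J => Φ (j : 𝔾)))
    (hΦZ : ∀ z ∈ Z, ∀ j ∈ J, Φ (z * j) = Φ j)
    (hΦN : ∀ n ∈ N, n ∉ Z → Φ n = 0) (k : ℕ) (hk : Φ 1 = k * (Nat.card N / Nat.card Z : ℕ)) :
    (fixdim C Φ).re ≤ (fixdim J Φ).re + k := by
  classical
  obtain ⟨d, ρ, hρ⟩ := hΦ
  have hχ : ∀ j : J, ρ.character j = Φ (j : 𝔾) := fun j => congrFun hρ j
  have : Fintype ↥(N.subgroupOf J) := Fintype.ofFinite _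
  have : Fintype ↥(Z.subgroupOf J) := Fintype.ofFinite _
  have : Fintype ↥(C.subgroupOf J) := Fintype.ofFinite _
  have : Fintype ↥(J.subgroupOf J) := Fintype.ofFinite _
  have h1 := PkG1.fixdim_eq_amb J ρ hρ C hCJ
  have h2 := PkG1.fixdim_eq_amb J ρ hρ J le_rfl
  have hZJ : Z ≤ J := hZN.trans hNJ
  have hcardN : Fintype.card ↥(N.subgroupOf J) = Nat.card N := by
    rw [Fintype.card_eq_nat_card]
    exact Nat.card_congr (Subgroup.subgroupOfEquivOfLe hNJ).toEquiv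
  have hcardZ : Fintype.card ↥(Z.subgroupOf J) = Nat.card Z := by
    rw [Fintype.card_eq_nat_card]
    exact Nat.card_congr (Subgroup.subgroupOfEquivOfLe hZJ).toEquiv
  have hdvd : Nat.card Z ∣ Nat.card N := Subgroup.card_dvd_of_le hZN
  have hmain := PkG5.main_abs ρ (N.subgroupOf J) (Z.subgroupOf J) (C.subgroupOf J)
    (J.subgroupOf J) (fun γ => Subgroup.mem_subgroupOf.2 γ.2)
    (fun x hx => Subgroup.mem_subgroupOf.2 (hZN (Subgroup.mem_subgroupOf.1 hx)))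
    (fun γ n hn => Subgroup.mem_subgroupOf.2 (hnorm γ γ.2 n (Subgroup.mem_subgroupOf.1 hn)))
    (fun γ => by
      obtain ⟨n, hn, c, hc, h⟩ := hNC γ γ.2
      exact ⟨⟨n, hNJ hn⟩, Subgroup.mem_subgroupOf.2 hn, ⟨c, hCJ hc⟩, Subgroup.mem_subgroupOf.2 hc,
        Subtype.ext h⟩)
    (fun n hn hnZ n' hn' hnZ' => by
      obtain ⟨c, hc, z, hz, h⟩ := htr n (Subgroup.mem_subgroupOf.1 hn)
        (fun h => hnZ (Subgroup.mem_subgroupOf.2 h)) n' (Subgroup.mem_subgroupOf.1 hn')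
        (fun h => hnZ' (Subgroup.mem_subgroupOf.2 h))
      exact ⟨⟨c, hCJ hc⟩, Subgroup.mem_subgroupOf.2 hc, ⟨z, hZJ hz⟩, Subgroup.mem_subgroupOf.2 hz,
        Subtype.ext h⟩)
    (fun z hz => by
      rw [hχ, hχ]
      have h := hΦZ z (Subgroup.mem_subgroupOf.1 hz) 1 J.one_mem
      rw [mul_one] at h
      rw [h]
      rfl)
    (fun n hn hnZ => by
      rw [hχ]
      exact hΦN n (Subgroup.mem_subgroupOf.1 hn) (fun h => hnZ (Subgroup.mem_subgroupOf.2 h)))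
    k (Nat.card N / Nat.card Z)
    (by rw [hcardN, hcardZ, Nat.div_mul_cancel hdvd])
    (by
      have h : ((Module.finrank ℂ (Fin d → ℂ) : ℕ) : ℂ) = ((k * (Nat.card N / Nat.card Z) : ℕ) : ℂ) := by
        rw [← Representation.char_one ρ, hχ]
        push_cast
        exact hk
      exact_mod_cast h)
  rw [h1, h2]
  simp only [Complex.natCast_re]
  exact_mod_cast hmain

end Cfsg.Agent.Lib.Helper2.WG

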