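import Mathlib
import Cfsg.Agent.Lib.Helper2.WG.Defs4
import Cfsg.Agent.Lib.Helper9.WG_R1
import Cfsg.Agent.Lib.Helper5.WG_R4

set_option autoImplicit false

/-!
# S2524 PB-P: the sums over `P₁` and over `B₁ × Sp m` in coordinates
-/

namespace Cfsg.Agent.Lib.Helper2.WG

open Matrix Cfsg Cfsg.Agent.H9SpF Cfsg.Agent.Lib.Helper6.Siegel Cfsg.Agent.Lib.Helper1.SUMin
open scoped ComplexConjugate

universe u

variable {F : Type u} [Field F] [Fintype F] [DecidableEq F] {m : ℕ}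

section PBP

theorem sum_P1_eq (f : Sp (m + 1) F → ℂ) :
    ∑ p : P1 m F, f (p : Sp (m + 1) F) =
      ∑ x : Fin m → F, ∑ v : Fin m → F, ∑ t : F, ∑ u : Fˣ, ∑ g : Sp m F,
        f (ηE x v t * hT u * ιG g) := by
  have hmem : ∀ q : (Fin m → F) × (Fin m → F) × F × Fˣ × Sp m F,
      ηE q.1 q.2.1 q.2.2.1 * hT q.2.2.2.1 * ιG q.2.2.2.2 ∈ P1 m F := by
    intro q
    refine (P1 m F).mul_mem ((P1 m F).mul_mem ?_ (hT_mem_P1 _)) (ιG_mem_P1 _)
    exact (P1 m F).mul_mem ((P1 m F).mul_mem (xE_mem_P1 _) (qE_mem_P1 _ _ _)) (qE_mem_P1 _ _ _)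
  let φ : (Fin m → F) × (Fin m → F) × F × Fˣ × Sp m F → P1 m F := fun q => ⟨_, hmem q⟩
  have hφ : Function.Bijective φ := by
    constructor
    · intro q q' h
      have h' : ((φ q : P1 m F) : Sp (m + 1) F) = φ q' := congrArg Subtype.val h
      obtain ⟨q0, _, huniq⟩ := P1_factor (φ q).1 (φ q).2
      rw [huniq q rfl, huniq q' h']
    · intro p
      obtain ⟨q, hq, _⟩ := P1_factor p.1 p.2
      exact ⟨q, Subtype.ext hq.symm⟩
  rw [← Fintype.sum_bijective φ hφ (fun q => f (φ q : P1 m F)) (fun p => f (p : Sp (m + 1) F))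
    (fun _ => rfl)]
  simp only [Fintype.sum_prod_type]
  rfl

theorem sum_B1G_eq (f : Sp (m + 1) F → ℂ) :
    ∑ a : B1 F × Sp m F, f (ιK (jB a)) =
      ∑ t : F, ∑ u : Fˣ, ∑ g : Sp m F, f (zE t * hT u * ιG g) := by
  let φ : F × Fˣ × Sp m F → B1 F × Sp m F := fun q =>
    (⟨z1 q.1 * h1 q.2.1, (B1 F).mul_mem (z1_mem_B1 _) (h1_mem_B1 _)⟩, q.2.2)
  have hφ : Function.Bijective φ := by
    constructor
    · intro q q' h
      have h1' : z1 q.1 * h1 q.2.1 = z1 q'.1 * h1 q'.2.1 :=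
        congrArg (fun a : B1 F × Sp m F => (a.1 : Sp 1 F)) h
      have h2' : q.2.2 = q'.2.2 := congrArg (fun a : B1 F × Sp m F => a.2) h
      obtain ⟨q0, _, huniq⟩ := B1_factor (z1 q.1 * h1 q.2.1)
        ((B1 F).mul_mem (z1_mem_B1 _) (h1_mem_B1 _))
      have e1 := huniq (q.1, q.2.1) rfl
      have e2 := huniq (q'.1, q'.2.1) h1'
      have e3 : (q.1, q.2.1) = (q'.1, q'.2.1) := e1.trans e2.symm
      have e4 : q.1 = q'.1 := (Prod.mk.inj e3).1
      have e5 : q.2.1 = q'.2.1 := (Prod.mk.inj e3).2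
      exact Prod.ext e4 (Prod.ext e5 h2')
    · intro a
      obtain ⟨q, hq, _⟩ := B1_factor a.1.1 a.1.2
      refine ⟨(q.1, q.2, a.2), ?_⟩
      exact Prod.ext (Subtype.ext hq.symm) rfl
  rw [← Fintype.sum_bijective φ hφ (fun q => f (ιK (jB (φ q)))) (fun a => f (ιK (jB a)))
    (fun _ => rfl)]
  simp only [Fintype.sum_prod_type]
  refine Finset.sum_congr rfl (fun t _ => Finset.sum_congr rfl (fun u _ =>
    Finset.sum_congr rfl (fun g _ => ?_)))
  congr 1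
  show ιK ((z1 t * h1 u : Sp 1 F), g) = zE t * hT u * ιG g
  rw [ιK_eq_mul, map_mul, ιS_z1, ιS_h1]

end PBP

end Cfsg.Agent.Lib.Helper2.WG
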