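import Mathlib

/-!
# PK-W5 (S2347 existence half): a projective representation preserving `V = Vp ⊕ Vm`
with `dim Vp = dim Vm + 1` gives an honest representation on `Vm`.
-/

namespace Cfsg.Agent.Lib.Lead.Weil

open Module

section

variable {V : Type*} [AddCommGroup V] [Module ℂ V] [FiniteDimensional ℂ V] (Vp Vm : Submodule ℂ V)

/-- The normalised restriction `(det (T|Vm) / det (T|Vp)) • T|Vm`. -/
noncomputable def nrm (T : V →ₗ[ℂ] V) (a : ∀ x ∈ Vp, T x ∈ Vp) (b : ∀ x ∈ Vm, T x ∈ Vm) :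
    Vm →ₗ[ℂ] Vm :=
  (LinearMap.det (T.restrict b) * (LinearMap.det (T.restrict a))⁻¹) • T.restrict b

theorem restrict_comp' {W : Submodule ℂ V} (T T' : V →ₗ[ℂ] V) (a : ∀ x ∈ W, T x ∈ W)
    (a' : ∀ x ∈ W, T' x ∈ W) (a'' : ∀ x ∈ W, (T ∘ₗ T') x ∈ W) :
    (T ∘ₗ T').restrict a'' = T.restrict a * T'.restrict a' := by
  ext x
  simp [LinearMap.restrict_apply]

theorem restrict_smul' {W : Submodule ℂ V} (z : ℂ) (T : V →ₗ[ℂ] V) (a : ∀ x ∈ W, T x ∈ W)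
    (a'' : ∀ x ∈ W, (z • T) x ∈ W) :
    (z • T).restrict a'' = z • T.restrict a := by
  ext x
  simp [LinearMap.restrict_apply]

theorem nrm_comp (T T' : V →ₗ[ℂ] V) (a : ∀ x ∈ Vp, T x ∈ Vp) (b : ∀ x ∈ Vm, T x ∈ Vm)
    (a' : ∀ x ∈ Vp, T' x ∈ Vp) (b' : ∀ x ∈ Vm, T' x ∈ Vm)
    (a'' : ∀ x ∈ Vp, (T ∘ₗ T') x ∈ Vp) (b'' : ∀ x ∈ Vm, (T ∘ₗ T') x ∈ Vm) :
    nrm Vp Vm (T ∘ₗ T') a'' b'' = nrm Vp Vm T a b * nrm Vp Vm T' a' b' := by
  unfold nrm
  rw [restrict_comp' T T' a a' a'', restrict_comp' T T' b b' b'', map_mul, map_mul, mul_inv,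
    smul_mul_smul_comm]
  congr 1
  ring

theorem nrm_smul (hdim : finrank ℂ Vp = finrank ℂ Vm + 1) (z : ℂ) (hz : z ≠ 0) (T : V →ₗ[ℂ] V)
    (a : ∀ x ∈ Vp, T x ∈ Vp) (b : ∀ x ∈ Vm, T x ∈ Vm)
    (a'' : ∀ x ∈ Vp, (z • T) x ∈ Vp) (b'' : ∀ x ∈ Vm, (z • T) x ∈ Vm) :
    nrm Vp Vm (z • T) a'' b'' = nrm Vp Vm T a b := by
  unfold nrm
  rw [restrict_smul' z T a a'', restrict_smul' z T b b'', LinearMap.det_smul, LinearMap.det_smul,
    hdim, smul_smul]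
  congr 1
  have hzk : z ^ finrank ℂ Vm ≠ 0 := pow_ne_zero _ hz
  rw [pow_succ, mul_inv, mul_inv]
  field_simp

theorem nrm_id (a : ∀ x ∈ Vp, (LinearMap.id : V →ₗ[ℂ] V) x ∈ Vp)
    (b : ∀ x ∈ Vm, (LinearMap.id : V →ₗ[ℂ] V) x ∈ Vm) :
    nrm Vp Vm LinearMap.id a b = 1 := by
  unfold nrm
  have h1 : (LinearMap.id : V →ₗ[ℂ] V).restrict a = 1 := by
    ext x; simp [LinearMap.restrict_apply]
  have h2 : (LinearMap.id : V →ₗ[ℂ] V).restrict b = 1 := by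
    ext x; simp [LinearMap.restrict_apply]
  rw [h1, h2, map_one, map_one]
  simp

theorem det_restrict_ne_zero {W : Submodule ℂ V} (T : V →ₗ[ℂ] V) (hT : Function.Injective T)
    (a : ∀ x ∈ W, T x ∈ W) : LinearMap.det (T.restrict a) ≠ 0 := by
  have hinj : Function.Injective (T.restrict a) := by
    intro x y hxy
    apply Subtype.ext
    apply hT
    have := congrArg Subtype.val hxy
    simpa [LinearMap.restrict_apply] using this
  have hker : LinearMap.ker (T.restrict a) = ⊥ := LinearMap.ker_eq_bot.mpr hinj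
  intro h0
  have := (LinearMap.bot_lt_ker_of_det_eq_zero h0)
  rw [hker] at this
  exact lt_irrefl _ this

end

theorem exists_rep_of_projective {G : Type*} [Group G] {V : Type*} [AddCommGroup V] [Module ℂ V]
    [FiniteDimensional ℂ V] (Vp Vm : Submodule ℂ V)
    (hdim : Module.finrank ℂ Vp = Module.finrank ℂ Vm + 1)
    (I : G → (V →ₗ[ℂ] V) → Prop)
    (hex : ∀ g, ∃ T, I g T)
    (hbij : ∀ g T, I g T → Function.Bijective T)
    (hone : I 1 LinearMap.id)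
    (hmul : ∀ g h T T', I g T → I h T' → I (g * h) (T ∘ₗ T'))
    (huniq : ∀ g T T', I g T → I g T' → ∃ z : ℂ, z ≠ 0 ∧ T' = z • T)
    (hp : ∀ g T, I g T → ∀ x ∈ Vp, T x ∈ Vp) (hm : ∀ g T, I g T → ∀ x ∈ Vm, T x ∈ Vm) :
    ∃ ρ : Representation ℂ G Vm, ∀ g T, I g T → ∃ c : ℂ, c ≠ 0 ∧
      ∀ x : Vm, ((ρ g x : Vm) : V) = c • T x := by
  classical
  choose τ hτ using hex
  -- the normalised operator attached to any implementer
  have key : ∀ g T (hT : I g T),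
      nrm Vp Vm T (hp g T hT) (hm g T hT) = nrm Vp Vm (τ g) (hp g _ (hτ g)) (hm g _ (hτ g)) := by
    intro g T hT
    obtain ⟨z, hz, hzT⟩ := huniq g (τ g) T (hτ g) hT
    subst hzT
    exact nrm_smul Vp Vm hdim z hz (τ g) (hp g _ (hτ g)) (hm g _ (hτ g)) _ _
  let ρf : G → (Vm →ₗ[ℂ] Vm) := fun g => nrm Vp Vm (τ g) (hp g _ (hτ g)) (hm g _ (hτ g))
  have hρ1 : ρf 1 = 1 := by
    show nrm Vp Vm (τ 1) _ _ = 1
    rw [← key 1 LinearMap.id hone]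
    exact nrm_id Vp Vm _ _
  have hρmul : ∀ g h, ρf (g * h) = ρf g * ρf h := by
    intro g h
    show nrm Vp Vm (τ (g * h)) _ _ = nrm Vp Vm (τ g) _ _ * nrm Vp Vm (τ h) _ _
    have hgh : I (g * h) (τ g ∘ₗ τ h) := hmul g h _ _ (hτ g) (hτ h)
    rw [← key (g * h) _ hgh]
    exact nrm_comp Vp Vm (τ g) (τ h) _ _ _ _ _ _
  refine ⟨{ toFun := ρf, map_one' := hρ1, map_mul' := hρmul }, ?_⟩
  intro g T hT
  refine ⟨LinearMap.det (T.restrict (hm g T hT)) * (LinearMap.det (T.restrict (hp g T hT)))⁻¹,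
    ?_, ?_⟩
  · refine mul_ne_zero ?_ (inv_ne_zero ?_)
    · exact det_restrict_ne_zero T (hbij g T hT).1 _
    · exact det_restrict_ne_zero T (hbij g T hT).1 _
  · intro x
    show ((ρf g x : Vm) : V) = _
    have : ρf g = nrm Vp Vm T (hp g T hT) (hm g T hT) := (key g T hT).symm
    rw [this]
    unfold nrm
    simp [LinearMap.restrict_apply]

end Cfsg.Agent.Lib.Lead.Weil
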