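import Mathlib
import Cfsg.Agent.Lib.Lead.WeilDefs

/-!
# PK-W2 (S2347 existence half): matrix units out of Weyl operators, span, Schur.
-/

namespace Cfsg.Agent.Lib.Lead.Weil

open Matrix

variable {F : Type*} [Field F] [Fintype F] [DecidableEq F] {n : ℕ} (ψ : AddChar F ℂ)

/-- the additive character `y ↦ ψ (y ⬝ᵥ d)` of `F^n`. -/
noncomputable def dotChar (d : Fin n → F) : AddChar (Fin n → F) ℂ :=
  ψ.compAddMonoidHom
    { toFun := fun y => y ⬝ᵥ d, map_zero' := zero_dotProduct d, map_add' := fun a b => add_dotProduct a b d }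

theorem dotChar_apply (d y : Fin n → F) : dotChar ψ d y = ψ (y ⬝ᵥ d) := rfl

theorem dotChar_ne_zero (hψ : ψ ≠ 1) {d : Fin n → F} (hd : d ≠ 0) : dotChar ψ d ≠ 0 := by
  obtain ⟨s, hs⟩ := AddChar.ne_one_iff.mp hψ
  obtain ⟨i, hi⟩ : ∃ i, d i ≠ 0 := by
    by_contra h
    push_neg at h
    exact hd (funext h)
  intro h0
  have h1 : dotChar ψ d (Pi.single i (s / d i)) = 1 := by rw [h0]; rfl
  rw [dotChar_apply, single_dotProduct, div_mul_cancel₀ _ hi] at h1
  exact hs h1

theorem sum_dot (hψ : ψ ≠ 1) (d : Fin n → F) :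
    ∑ y : Fin n → F, ψ (y ⬝ᵥ d) = if d = 0 then (Fintype.card F : ℂ) ^ n else 0 := by
  classical
  have h := AddChar.sum_eq_ite (dotChar ψ d)
  simp only [dotChar_apply] at h
  rw [h]
  by_cases hd : d = 0
  · subst hd
    have : dotChar ψ (0 : Fin n → F) = 0 := by
      apply DFunLike.ext
      intro y
      rw [dotChar_apply]
      simp
    rw [if_pos this, if_pos rfl]
    simp [Fintype.card_pi_const]
  · rw [if_neg (dotChar_ne_zero ψ hψ hd), if_neg hd]

/-- explicit matrix units out of Weyl operators. -/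
theorem matrixUnit_eq (hψ : ψ ≠ 1) (b x : Fin n → F) (f : Hsp n F) (t : Fin n → F) :
    (∑ y : Fin n → F, ψ (-(y ⬝ᵥ b) - 2⁻¹ * (x ⬝ᵥ y)) • weyl ψ x y f) t
      = if t = b then (Fintype.card F : ℂ) ^ n * f (b + x) else 0 := by
  rw [Finset.sum_apply]
  have h1 : ∀ y : Fin n → F, (ψ (-(y ⬝ᵥ b) - 2⁻¹ * (x ⬝ᵥ y)) • weyl ψ x y f) t
      = ψ (y ⬝ᵥ (t - b)) * f (t + x) := by
    intro y
    rw [Pi.smul_apply, weyl_apply, smul_eq_mul, ← mul_assoc, ← AddChar.map_add_eq_mul]
    congr 2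
    rw [dotProduct_sub]
    ring
  rw [Finset.sum_congr rfl (fun y _ => h1 y), ← Finset.sum_mul, sum_dot ψ hψ]
  by_cases htb : t = b
  · subst htb
    simp
  · rw [if_neg htb, if_neg (sub_ne_zero.mpr htb), zero_mul]

/-- the matrix unit `E_{b,b'} f = f b' • δ_b`. -/
noncomputable def mUnit (b b' : Fin n → F) : Hsp n F →ₗ[ℂ] Hsp n F where
  toFun f := fun t => if t = b then f b' else 0
  map_add' f g := by funext t; by_cases h : t = b <;> simp [h]
  map_smul' c f := by funext t; by_cases h : t = b <;> simp [h]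

theorem mUnit_apply (b b' : Fin n → F) (f : Hsp n F) (t : Fin n → F) :
    mUnit b b' f t = if t = b then f b' else 0 := rfl

theorem mUnit_mem_span (hψ : ψ ≠ 1) (b b' : Fin n → F) :
    (mUnit b b' : Hsp n F →ₗ[ℂ] Hsp n F) ∈
      Submodule.span ℂ (Set.range fun v : Fin n ⊕ Fin n → F => W ψ v) := by
  have hq : (Fintype.card F : ℂ) ^ n ≠ 0 := pow_ne_zero _ (Nat.cast_ne_zero.mpr Fintype.card_ne_zero)
  have key : (mUnit b b' : Hsp n F →ₗ[ℂ] Hsp n F) = ((Fintype.card F : ℂ) ^ n)⁻¹ •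
      ∑ y : Fin n → F, ψ (-(y ⬝ᵥ b) - 2⁻¹ * ((b' - b) ⬝ᵥ y)) • weyl ψ (b' - b) y := by
    refine LinearMap.ext fun f => funext fun t => ?_
    rw [LinearMap.smul_apply, LinearMap.sum_apply, Pi.smul_apply]
    have := matrixUnit_eq ψ hψ b (b' - b) f t
    simp only [LinearMap.smul_apply] at this ⊢
    rw [this, mUnit_apply]
    by_cases htb : t = b
    · rw [if_pos htb, if_pos htb, smul_eq_mul, ← mul_assoc, inv_mul_cancel₀ hq, one_mul]
      congr 1
      abel
    · rw [if_neg htb, if_neg htb, smul_zero]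
  rw [key]
  refine Submodule.smul_mem _ _ (Submodule.sum_mem _ fun y _ => Submodule.smul_mem _ _ ?_)
  refine Submodule.subset_span ⟨Sum.elim (b' - b) y, ?_⟩
  show weyl ψ _ _ = _
  rfl

theorem eq_sum_mUnit (A : Hsp n F →ₗ[ℂ] Hsp n F) :
    A = ∑ b : Fin n → F, ∑ b' : Fin n → F, (A (Pi.single b' 1) b) • mUnit b b' := by
  classical
  refine LinearMap.ext fun f => funext fun t => ?_
  have hf : f = ∑ b' : Fin n → F, f b' • (Pi.single b' (1 : ℂ) : Hsp n F) := by
    funext s
    rw [Finset.sum_apply]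
    simp [Pi.single_apply]
  have hL : A f t = ∑ b' : Fin n → F, f b' * A (Pi.single b' 1) t := by
    conv_lhs => rw [hf]
    rw [map_sum, Finset.sum_apply]
    refine Finset.sum_congr rfl fun b' _ => ?_
    rw [map_smul, Pi.smul_apply, smul_eq_mul]
  have hR : (∑ b : Fin n → F, ∑ b' : Fin n → F, (A (Pi.single b' 1) b) • mUnit b b') f t
      = ∑ b' : Fin n → F, A (Pi.single b' 1) t * f b' := by
    rw [LinearMap.sum_apply, Finset.sum_apply, Finset.sum_eq_single t]
    · rw [LinearMap.sum_apply, Finset.sum_apply]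
      refine Finset.sum_congr rfl fun b' _ => ?_
      rw [LinearMap.smul_apply, Pi.smul_apply, mUnit_apply, if_pos rfl, smul_eq_mul]
    · intro b _ hbt
      rw [LinearMap.sum_apply, Finset.sum_apply]
      refine Finset.sum_eq_zero fun b' _ => ?_
      rw [LinearMap.smul_apply, Pi.smul_apply, mUnit_apply, if_neg (Ne.symm hbt), smul_zero]
    · intro h; exact absurd (Finset.mem_univ t) h
  rw [hL, hR]
  exact Finset.sum_congr rfl fun _ _ => mul_comm _ _

theorem span_W (hψ : ψ ≠ 1) :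
    Submodule.span ℂ (Set.range fun v : Fin n ⊕ Fin n → F => W ψ v) = ⊤ := by
  rw [eq_top_iff]
  intro A _
  rw [eq_sum_mUnit A]
  exact Submodule.sum_mem _ fun b _ => Submodule.sum_mem _ fun b' _ =>
    Submodule.smul_mem _ _ (mUnit_mem_span ψ hψ b b')

/-- Schur: the commutant of the Weyl operators is the scalars. -/
theorem scalar_of_commute_W (hψ : ψ ≠ 1) (A : Hsp n F →ₗ[ℂ] Hsp n F)
    (hA : ∀ v : Fin n ⊕ Fin n → F, A ∘ₗ W ψ v = W ψ v ∘ₗ A) : ∃ c : ℂ, A = c • LinearMap.id := by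
  classical
  -- `A` commutes with everything
  have hall : ∀ B : Hsp n F →ₗ[ℂ] Hsp n F, A ∘ₗ B = B ∘ₗ A := by
    intro B
    have hB : B ∈ Submodule.span ℂ (Set.range fun v : Fin n ⊕ Fin n → F => W ψ v) := by
      rw [span_W ψ hψ]; trivial
    induction hB using Submodule.span_induction with
    | mem x hx => obtain ⟨v, rfl⟩ := hx; exact hA v
    | zero => simp
    | add x y _ _ hx hy => rw [LinearMap.comp_add, LinearMap.add_comp, hx, hy]
    | smul c x _ hx => rw [LinearMap.comp_smul, LinearMap.smul_comp, hx]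
  refine ⟨A (Pi.single 0 1) 0, ?_⟩
  -- A δ_b = (A δ_0)(0) • δ_b
  have hδ : ∀ b : Fin n → F, A (Pi.single b 1) = (A (Pi.single 0 1) 0) • (Pi.single b (1 : ℂ) : Hsp n F) := by
    intro b
    have h1 := LinearMap.congr_fun (hall (mUnit b 0)) (Pi.single 0 1)
    simp only [LinearMap.comp_apply] at h1
    have h2 : (mUnit b 0 : Hsp n F →ₗ[ℂ] Hsp n F) (Pi.single 0 1) = Pi.single b 1 := by
      funext t
      rw [mUnit_apply]
      by_cases htb : t = b
      · subst htb; simp
      · rw [if_neg htb, Pi.single_apply, if_neg htb]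
    rw [h2] at h1
    rw [h1]
    funext t
    rw [mUnit_apply, Pi.smul_apply, Pi.single_apply]
    by_cases htb : t = b
    · rw [if_pos htb, if_pos htb, smul_eq_mul, mul_one]
    · rw [if_neg htb, if_neg htb, smul_zero]
  refine LinearMap.ext fun f => ?_
  have hf : f = ∑ b' : Fin n → F, f b' • (Pi.single b' (1 : ℂ) : Hsp n F) := by
    funext s
    rw [Finset.sum_apply]
    simp [Pi.single_apply]
  rw [LinearMap.smul_apply, LinearMap.id_apply]
  calc A f = A (∑ b' : Fin n → F, f b' • (Pi.single b' (1 : ℂ) : Hsp n F)) := by rw [← hf]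
    _ = ∑ b' : Fin n → F, f b' • A (Pi.single b' 1) := by
        rw [map_sum]; simp only [map_smul]
    _ = ∑ b' : Fin n → F, (A (Pi.single 0 1) 0) • (f b' • (Pi.single b' (1 : ℂ) : Hsp n F)) := by
        refine Finset.sum_congr rfl fun b' _ => ?_
        rw [hδ b', smul_comm]
    _ = (A (Pi.single 0 1) 0) • f := by rw [← Finset.smul_sum, ← hf]

/-- irreducibility of the Schroedinger representation. -/
theorem invariant_W_bot_or_top (hψ : ψ ≠ 1) (M : Submodule ℂ (Hsp n F))
    (hM : ∀ (v : Fin n ⊕ Fin n → F), ∀ f ∈ M, W ψ v f ∈ M) : M = ⊥ ∨ M = ⊤ := by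
  classical
  -- `M` is invariant under everything
  have hall : ∀ B : Hsp n F →ₗ[ℂ] Hsp n F, ∀ f ∈ M, B f ∈ M := by
    intro B
    have hB : B ∈ Submodule.span ℂ (Set.range fun v : Fin n ⊕ Fin n → F => W ψ v) := by
      rw [span_W ψ hψ]; trivial
    induction hB using Submodule.span_induction with
    | mem x hx => obtain ⟨v, rfl⟩ := hx; exact hM v
    | zero => intro f _; simp
    | add x y _ _ hx hy => intro f hf; rw [LinearMap.add_apply]; exact M.add_mem (hx f hf) (hy f hf)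
    | smul c x _ hx => intro f hf; rw [LinearMap.smul_apply]; exact M.smul_mem c (hx f hf)
  by_cases hbot : M = ⊥
  · left; exact hbot
  right
  obtain ⟨f, hfM, hf0⟩ := (Submodule.ne_bot_iff M).mp hbot
  obtain ⟨s, hs⟩ : ∃ s, f s ≠ 0 := by
    by_contra h
    push_neg at h
    exact hf0 (funext h)
  rw [eq_top_iff]
  intro g _
  have hg : g = ∑ b : Fin n → F, (g b * (f s)⁻¹) • (mUnit b s : Hsp n F →ₗ[ℂ] Hsp n F) f := by
    funext t
    rw [Finset.sum_apply, Finset.sum_eq_single t]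
    · rw [Pi.smul_apply, mUnit_apply, if_pos rfl, smul_eq_mul, mul_assoc, inv_mul_cancel₀ hs, mul_one]
    · intro b _ hbt
      rw [Pi.smul_apply, mUnit_apply, if_neg (Ne.symm hbt), smul_zero]
    · intro h; exact absurd (Finset.mem_univ t) h
  rw [hg]
  exact Submodule.sum_mem _ fun b _ => M.smul_mem _ (hall _ f hfM)

end Cfsg.Agent.Lib.Lead.Weil
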