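import Mathlib
import Cfsg.Agent.Lib.Lead.WeilDefs

/-!
# PK-W6 (S2347 existence half): the explicit operators of the lower-triangular Siegel parabolic.
-/

namespace Cfsg.Agent.Lib.Lead.Weil

open Matrix

variable {F : Type*} [Field F] [Fintype F] [DecidableEq F] {n : ℕ} (ψ : AddChar F ℂ)

theorem uC_mem (C : Matrix (Fin n) (Fin n) F) (hC : C.IsSymm) :
    fromBlocks (1 : Matrix (Fin n) (Fin n) F) 0 C 1 ∈ symplecticGroup (Fin n) F := by
  rw [SymplecticGroup.mem_iff]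
  simp only [Matrix.J, fromBlocks_multiply, fromBlocks_transpose, hC.eq]
  simp

theorem mA_mem (A : Matrix (Fin n) (Fin n) F) (hA : IsUnit A.det) :
    fromBlocks A 0 0 (A⁻¹)ᵀ ∈ symplecticGroup (Fin n) F := by
  rw [SymplecticGroup.mem_iff]
  simp only [Matrix.J, fromBlocks_multiply, fromBlocks_transpose]
  have h1 : A * A⁻¹ = 1 := Matrix.mul_nonsing_inv A hA
  have h2 : (A⁻¹)ᵀ * Aᵀ = 1 := by rw [← transpose_mul, h1, transpose_one]
  simp [h1, h2]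

theorem symm_dot (C : Matrix (Fin n) (Fin n) F) (hC : C.IsSymm) (x t : Fin n → F) :
    x ⬝ᵥ C *ᵥ t = t ⬝ᵥ C *ᵥ x := by
  rw [dotProduct_mulVec, ← hC.eq, vecMul_transpose, hC.eq, dotProduct_comm]

theorem mulQ_implements (h2 : (2 : F) ≠ 0) (C : Matrix (Fin n) (Fin n) F) (hC : C.IsSymm) :
    Implements ψ (fromBlocks (1 : Matrix (Fin n) (Fin n) F) 0 C 1) (mulQ ψ C) := by
  intro v
  refine LinearMap.ext fun f => funext fun t => ?_
  have hx : (fromBlocks (1 : Matrix (Fin n) (Fin n) F) 0 C 1 *ᵥ v) ∘ Sum.inl = v ∘ Sum.inl := by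
    rw [fromBlocks_mulVec]; funext i; simp
  have hy : (fromBlocks (1 : Matrix (Fin n) (Fin n) F) 0 C 1 *ᵥ v) ∘ Sum.inr
      = C *ᵥ (v ∘ Sum.inl) + v ∘ Sum.inr := by
    rw [fromBlocks_mulVec]; funext i; simp
  simp only [LinearMap.comp_apply, W, hx, hy, mulQ_apply, weyl_apply]
  set x := v ∘ Sum.inl with hxdef
  set y := v ∘ Sum.inr with hydef
  rw [← mul_assoc, ← mul_assoc, ← AddChar.map_add_eq_mul, ← AddChar.map_add_eq_mul]
  congr 2
  have h22 : (2 : F)⁻¹ * 2 = 1 := inv_mul_cancel₀ h2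
  simp only [add_dotProduct, dotProduct_add, mulVec_add]
  rw [symm_dot C hC x t, dotProduct_comm (C *ᵥ x) t]
  linear_combination (t ⬝ᵥ C *ᵥ x) * h22

theorem dilA_implements (A : Matrix (Fin n) (Fin n) F) (hA : IsUnit A.det) :
    Implements ψ (fromBlocks A 0 0 (A⁻¹)ᵀ) (dilA A) := by
  intro v
  refine LinearMap.ext fun f => funext fun t => ?_
  have hx : (fromBlocks A 0 0 (A⁻¹)ᵀ *ᵥ v) ∘ Sum.inl = A *ᵥ (v ∘ Sum.inl) := by
    rw [fromBlocks_mulVec]; funext i; simp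
  have hy : (fromBlocks A 0 0 (A⁻¹)ᵀ *ᵥ v) ∘ Sum.inr = (A⁻¹)ᵀ *ᵥ (v ∘ Sum.inr) := by
    rw [fromBlocks_mulVec]; funext i; simp
  simp only [LinearMap.comp_apply, W, hx, hy, dilA_apply, weyl_apply]
  set x := v ∘ Sum.inl with hxdef
  set y := v ∘ Sum.inr with hydef
  have hAinv : A⁻¹ * A = 1 := Matrix.nonsing_inv_mul A hA
  have e1 : ((A⁻¹)ᵀ *ᵥ y) ⬝ᵥ t = y ⬝ᵥ A⁻¹ *ᵥ t := by
    rw [mulVec_transpose, ← dotProduct_mulVec]
  have e2 : (A *ᵥ x) ⬝ᵥ ((A⁻¹)ᵀ *ᵥ y) = x ⬝ᵥ y := by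
    rw [dotProduct_comm, mulVec_transpose, ← dotProduct_mulVec, mulVec_mulVec, hAinv, one_mulVec,
      dotProduct_comm]
  have e3 : A⁻¹ *ᵥ (t + A *ᵥ x) = A⁻¹ *ᵥ t + x := by
    rw [mulVec_add, mulVec_mulVec, hAinv, one_mulVec]
  rw [e1, e2, e3]

theorem mulQ_bijective (C : Matrix (Fin n) (Fin n) F) : Function.Bijective (mulQ ψ C) := by
  rw [Function.bijective_iff_has_inverse]
  refine ⟨mulQ ψ (-C), ?_, ?_⟩
  · intro f
    funext t
    rw [mulQ_apply, mulQ_apply, ← mul_assoc, ← AddChar.map_add_eq_mul]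
    simp [neg_mulVec]
  · intro f
    funext t
    rw [mulQ_apply, mulQ_apply, ← mul_assoc, ← AddChar.map_add_eq_mul]
    simp [neg_mulVec]

theorem dilA_bijective (A : Matrix (Fin n) (Fin n) F) (hA : IsUnit A.det) :
    Function.Bijective (dilA A : Hsp n F →ₗ[ℂ] Hsp n F) := by
  rw [Function.bijective_iff_has_inverse]
  refine ⟨fun f t => f (A *ᵥ t), ?_, ?_⟩
  · intro f
    funext t
    show dilA A f (A *ᵥ t) = f t
    rw [dilA_apply, mulVec_mulVec, Matrix.nonsing_inv_mul A hA, one_mulVec]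
  · intro f
    funext t
    show f (A *ᵥ (A⁻¹ *ᵥ t)) = f t
    rw [mulVec_mulVec, Matrix.mul_nonsing_inv A hA, one_mulVec]

end Cfsg.Agent.Lib.Lead.Weil
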