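import Mathlib
import Cfsg.Agent.Lib.Lead.WeilDefs
import Cfsg.Agent.Lib.Lead.WeilW5
import Cfsg.Agent.Lib.Lead.WeilW2
import Cfsg.Agent.Lib.Lead.WeilW6
import Cfsg.Agent.Lib.Lead.WeilW7
import Cfsg.Agent.Lib.Helper3.WeilW1
import Cfsg.Agent.Lib.Helper3.WeilW3
import Cfsg.Agent.Lib.Helper3.WeilW4
import Cfsg.Agent.Lib.Helper3.WeilW8

/-!
# PK-W9 (S2347 existence half): assembly — the Weil representation of degree `(q^n - 1)/2`.
-/

namespace Cfsg.Agent.Lib.Lead.Weil

open Matrix Module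

/-- irreducibility criterion in terms of invariant submodules. -/
theorem isIrreducible_of_forall {G V : Type*} [Group G] [AddCommGroup V] [Module ℂ V]
    (ρ : Representation ℂ G V) (hV : Nontrivial V)
    (h : ∀ M : Submodule ℂ V, (∀ g, ∀ x ∈ M, ρ g x ∈ M) → M = ⊥ ∨ M = ⊤) : ρ.IsIrreducible := by
  refine { exists_pair_ne := ⟨⊥, ⊤, ?_⟩, eq_bot_or_eq_top := ?_ }
  · intro hbt
    have : (⊥ : Submodule ℂ V) = ⊤ := congrArg Subrepresentation.toSubmodule hbt
    exact bot_ne_top this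
  · intro σ
    rcases h σ.toSubmodule (fun g x hx => σ.apply_mem_toSubmodule g hx) with h0 | h1
    · left; exact Subrepresentation.toSubmodule_injective h0
    · right; exact Subrepresentation.toSubmodule_injective h1

variable {F : Type*} [Field F] [Fintype F] [DecidableEq F] {n : ℕ}

theorem two_ne_zero_of_odd (hodd : Odd (Fintype.card F)) : (2 : F) ≠ 0 := by
  apply Ring.two_ne_zero
  intro h
  have := (FiniteField.even_card_iff_char_two (F := F)).mp h
  rcases hodd with ⟨k, hk⟩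
  omega

theorem exists_addChar_ne_one : ∃ ψ : AddChar F ℂ, ψ ≠ 1 := by
  obtain ⟨ψ, hψ⟩ := (AddChar.exists_apply_ne_zero (α := F) (a := 1)).mpr one_ne_zero
  exact ⟨ψ, fun h => hψ (by rw [h]; rfl)⟩

theorem exists_weil (hodd : Odd (Fintype.card F)) (hn : 1 ≤ n) :
    ∃ ρ : Representation ℂ (symplecticGroup (Fin n) F) (Fin ((Fintype.card F ^ n - 1) / 2) → ℂ),
      ρ.IsIrreducible := by
  classical
  have h2 : (2 : F) ≠ 0 := two_ne_zero_of_odd hodd
  obtain ⟨ψ, hψ⟩ := exists_addChar_ne_one (F := F)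
  -- the projective representation
  let I : symplecticGroup (Fin n) F → (Hsp n F →ₗ[ℂ] Hsp n F) → Prop :=
    fun g T => Function.Bijective T ∧ Implements ψ (g : Matrix (Fin n ⊕ Fin n) (Fin n ⊕ Fin n) F) T
  obtain ⟨ρ, hρ⟩ := exists_rep_of_projective (G := symplecticGroup (Fin n) F) (evenS n F) (oddS n F)
    (finrank_evenS h2) I
    (fun g => exists_implements ψ hψ h2 g.2)
    (fun g T h => h.1)
    ⟨Function.bijective_id, implements_one ψ⟩
    (fun g h T T' hT hT' => ⟨hT.1.comp hT'.1, implements_mul ψ hT.2 hT'.2⟩)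
    (fun g T T' hT hT' => implements_unique ψ hψ hT.1 hT'.1 hT.2 hT'.2)
    (fun g T hT => implements_map_evenS ψ hψ h2 hT.1 hT.2)
    (fun g T hT => implements_map_oddS ψ hψ h2 hT.1 hT.2)
  -- dimension
  have hq : 1 ≤ Fintype.card F ^ n := Nat.one_le_pow _ _ Fintype.card_pos
  have hk : finrank ℂ (oddS n F) = (Fintype.card F ^ n - 1) / 2 := by
    have := finrank_oddS (n := n) (F := F) h2
    omega
  have hk' : finrank ℂ (oddS n F) = finrank ℂ (Fin ((Fintype.card F ^ n - 1) / 2) → ℂ) := by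
    rw [hk, Module.finrank_fin_fun]
  let e : oddS n F ≃ₗ[ℂ] (Fin ((Fintype.card F ^ n - 1) / 2) → ℂ) := LinearEquiv.ofFinrankEq _ _ hk'
  let ρ' : Representation ℂ (symplecticGroup (Fin n) F) (Fin ((Fintype.card F ^ n - 1) / 2) → ℂ) :=
    ((e.conjAlgEquiv ℂ : _ →* _)).comp ρ
  have hρ' : ∀ g x, ρ' g (e x) = e (ρ g x) := by
    intro g x
    show (e.conjAlgEquiv ℂ (ρ g)) (e x) = e (ρ g x)
    simp [LinearEquiv.conjAlgEquiv_apply_apply]
  refine ⟨ρ', isIrreducible_of_forall ρ' ?_ ?_⟩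
  · -- nontrivial: dimension ≥ 1
    have h3 : 3 ≤ Fintype.card F := by
      have h1 : 1 < Fintype.card F := Fintype.one_lt_card
      rcases hodd with ⟨k, hk⟩
      omega
    have h3n : 3 ≤ Fintype.card F ^ n :=
      le_trans h3 (Nat.le_self_pow (by omega) _)
    have hpos : 0 < (Fintype.card F ^ n - 1) / 2 := by omega
    have : Nonempty (Fin ((Fintype.card F ^ n - 1) / 2)) := ⟨⟨0, hpos⟩⟩
    infer_instance
  · intro M hM
    -- pull back to a submodule of `Hsp n F` inside `oddS`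
    let M₀ : Submodule ℂ (Hsp n F) := (M.comap e.toLinearMap).map (oddS n F).subtype
    have hM₀le : M₀ ≤ oddS n F := by
      rintro f ⟨x, -, rfl⟩
      exact x.2
    have hmem : ∀ x : oddS n F, (x : Hsp n F) ∈ M₀ ↔ e x ∈ M := by
      intro x
      constructor
      · rintro ⟨y, hy, hyx⟩
        have : y = x := Subtype.ext hyx
        subst this
        exact hy
      · intro hx
        exact ⟨x, hx, rfl⟩
    -- invariance under every implementer of a symplectic matrix
    have hinv : ∀ (g : Matrix (Fin n ⊕ Fin n) (Fin n ⊕ Fin n) F) (hg : g ∈ symplecticGroup (Fin n) F)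
        (T : Hsp n F →ₗ[ℂ] Hsp n F), Function.Bijective T → Implements ψ g T →
        ∀ f ∈ M₀, T f ∈ M₀ := by
      intro g hg T hb hT f hf
      obtain ⟨x, hx, rfl⟩ := hf
      obtain ⟨c, hc, hcx⟩ := hρ ⟨g, hg⟩ T ⟨hb, hT⟩
      have h1 : e (ρ ⟨g, hg⟩ x) ∈ M := by
        rw [← hρ']
        exact hM _ _ hx
      have h2' : ((ρ ⟨g, hg⟩ x : oddS n F) : Hsp n F) ∈ M₀ := (hmem _).mpr h1
      rw [hcx x] at h2'
      have := M₀.smul_mem c⁻¹ h2'
      rwa [smul_smul, inv_mul_cancel₀ hc, one_smul] at this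
    rcases odd_irreducible_core ψ hψ h2 M₀ hM₀le
      (fun C hC f hf => hinv _ (uC_mem C hC) _ (mulQ_bijective ψ C) (mulQ_implements ψ h2 C hC) f hf)
      (fun A hA f hf => hinv _ (mA_mem A hA) _ (dilA_bijective A hA) (dilA_implements ψ A hA) f hf)
      with h0 | h1
    · left
      rw [eq_bot_iff]
      intro y hy
      obtain ⟨x, rfl⟩ := e.surjective y
      have : (x : Hsp n F) ∈ M₀ := (hmem x).mpr hy
      rw [h0, Submodule.mem_bot] at this
      have hx0 : x = 0 := Subtype.ext this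
      rw [hx0, map_zero]
      exact Submodule.zero_mem _
    · right
      rw [eq_top_iff]
      intro y _
      obtain ⟨x, rfl⟩ := e.surjective y
      have : (x : Hsp n F) ∈ M₀ := by rw [h1]; exact x.2
      exact (hmem x).mp this

end Cfsg.Agent.Lib.Lead.Weil
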