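import Cfsg.Agent.Lib.Lead.WG_SL2
import Cfsg.Agent.Lib.Helper3.WG_C8

set_option autoImplicit false

/-!
# S2524 PK-SL2: `classif_one` (from `PkSL2.classif_one_core` and PK-C `exists_weilPair`)
-/

namespace Cfsg.Agent.Lib.Helper2.WG

open Matrix Cfsg Cfsg.Agent.H9SpF Cfsg.Agent.Lib.Helper6.Siegel Cfsg.Agent.Lib.Helper1.SUMin
open scoped ComplexConjugate

universe u

variable {F : Type u} [Field F] [Fintype F]

/-- PK-SL2 -/
theorem classif_one (hodd : Odd (Fintype.card F)) (ψ : AddChar F ℂ) (hψ : ψ ≠ 1) :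
    Classif (F := F) ψ 1 :=
  PkSL2.classif_one_core hodd ψ hψ (fun d hd => exists_weilPair hodd ψ hψ 1 le_rfl d hd)

end Cfsg.Agent.Lib.Helper2.WG
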