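import Mathlib
import Cfsg.Agent.Lib.Lead.OmegaAut
import Cfsg.Agent.Lib.Lead.CoprimeFrattini
import Cfsg.Agent.Lib.Lead.Nilpotent
import Cfsg.Agent.Lib.Lead.FrobNPC5
import Cfsg.Agent.Lib.Helper4.OmegaGen
import Cfsg.Agent.Lib.Helper9.PCore

set_option autoImplicit false

namespace Cfsg.Agent.Lib.Lead

open scoped Pointwise commutatorElement

universe u

section A
variable {G : Type*} [Group G] [Finite G] {p : ℕ} [hp : Fact p.Prime]

/-- a `p`-element with a conjugacy class of `p`-power size lies in every Sylow `p`-subgroup -/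
theorem mem_sylow_of_ppower_class (x : G) (hx : ∃ k : ℕ, x ^ p ^ k = 1) (a : ℕ)
    (ha : (Subgroup.centralizer ({x} : Set G)).index = p ^ a) (S : Sylow p G) : x ∈ S := by
  set C := Subgroup.centralizer ({x} : Set G) with hC
  set T : Subgroup G := (S : Subgroup G) ⊓ C with hT
  set X : Subgroup G := Subgroup.zpowers x with hX
  have hxC : x ∈ C := Subgroup.mem_centralizer_singleton_iff.mpr rfl
  have hXC : X ≤ C := by rw [hX, Subgroup.zpowers_le]; exact hxC
  have hXp : IsPGroup p X := by
    obtain ⟨k, hk⟩ := hx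
    rintro ⟨g, hg⟩
    obtain ⟨n, rfl⟩ := Subgroup.mem_zpowers_iff.mp hg
    refine ⟨k, Subtype.ext ?_⟩
    show (x ^ n) ^ p ^ k = 1
    rw [← zpow_natCast, ← zpow_mul, mul_comm, zpow_mul, zpow_natCast, hk, one_zpow]
  have hcomm : ∀ t ∈ C, ∀ y ∈ X, t * y * t⁻¹ = y := by
    intro t ht y hy
    obtain ⟨n, rfl⟩ := Subgroup.mem_zpowers_iff.mp hy
    have h1 : Commute t x := Subgroup.mem_centralizer_singleton_iff.mp ht
    have h2 : Commute t (x ^ n) := h1.zpow_right n
    rw [h2.eq, mul_inv_cancel_right]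
  have hTX : T ≤ Subgroup.normalizer (X : Set G) := by
    intro t ht
    rw [Subgroup.mem_normalizer_iff]
    intro y
    constructor
    · intro hy; rw [hcomm t ht.2 y hy]; exact hy
    · intro hy
      have := hcomm t⁻¹ (C.inv_mem ht.2) _ hy
      rw [inv_inv] at this
      have e : y = t⁻¹ * (t * y * t⁻¹) * t := by group
      rw [e, this]; exact hy
  have hTp : IsPGroup p T := S.isPGroup'.to_le inf_le_left
  have hT' : IsPGroup p (T ⊔ X : Subgroup G) := IsPGroup.to_sup_of_normal_right' hTp hXp hTX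
  have hT'C : T ⊔ X ≤ C := sup_le inf_le_right hXC
  have hG0 : Nat.card G ≠ 0 := Nat.card_pos.ne'
  obtain ⟨t', ht'⟩ := IsPGroup.iff_card.mp hT'
  obtain ⟨t, ht⟩ := IsPGroup.iff_card.mp hTp
  have hS : Nat.card S = p ^ (Nat.card G).factorization p := S.card_eq_multiplicity
  have hCi : Nat.card C * p ^ a = Nat.card G := by rw [← ha]; exact C.card_mul_index
  have h1 : t' + a ≤ (Nat.card G).factorization p := by
    rw [← Nat.Prime.pow_dvd_iff_le_factorization hp.out hG0, pow_add, ← ht', ← hCi]
    exact Nat.mul_dvd_mul_right (Subgroup.card_dvd_of_le hT'C) _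
  have h2 : Nat.card T * C.relIndex S = Nat.card S := by
    have := Subgroup.relIndex_mul_relIndex ⊥ T S bot_le inf_le_left
    rw [Subgroup.relIndex_bot_left, Subgroup.relIndex_bot_left, hT, Subgroup.inf_relIndex_left] at this
    exact this
  have h3 : C.relIndex S ≤ p ^ a := by
    rw [← ha, ← Subgroup.relIndex_top_right]
    refine Subgroup.relIndex_le_of_le_right le_top ?_
    rw [Subgroup.relIndex_top_right, ha]
    exact (pow_pos hp.out.pos a).ne'
  have h4 : (Nat.card G).factorization p ≤ t + a := by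
    have : p ^ (Nat.card G).factorization p ≤ p ^ (t + a) := by
      rw [← hS, ← h2, ht, pow_add]; exact Nat.mul_le_mul_left _ h3
    exact (Nat.pow_le_pow_iff_right hp.out.one_lt).mp this
  have h5 : Nat.card (T ⊔ X : Subgroup G) ≤ Nat.card T := by
    rw [ht, ht']; exact Nat.pow_le_pow_right hp.out.pos (by omega)
  have h6 : T = T ⊔ X := Subgroup.eq_of_le_of_card_ge le_sup_left h5
  have h7 : x ∈ T := by rw [h6]; exact (le_sup_right : X ≤ T ⊔ X) (Subgroup.mem_zpowers x)
  exact h7.1

/-- a `p`-element with a conjugacy class of `p`-power size lies in `O_p(G)` -/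
theorem mem_pCore_of_ppower_class (x : G) (hx : ∃ k : ℕ, x ^ p ^ k = 1) (a : ℕ)
    (ha : (Subgroup.centralizer ({x} : Set G)).index = p ^ a) : x ∈ Cfsg.pCore p G := by
  obtain ⟨S⟩ : Nonempty (Sylow p G) := inferInstance
  have h1 : Subgroup.normalClosure ({x} : Set G) ≤ S := by
    rw [Subgroup.normalClosure, Subgroup.closure_le]
    intro y hy
    rw [Group.mem_conjugatesOfSet_iff] at hy
    obtain ⟨b, hb, hby⟩ := hy
    rw [Set.mem_singleton_iff] at hb
    subst hb
    obtain ⟨c, rfl⟩ := isConj_iff.mp hby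
    have h2 : b ∈ ((c⁻¹ • S : Sylow p G) : Subgroup G) :=
      mem_sylow_of_ppower_class b hx a ha (c⁻¹ • S)
    rw [Sylow.coe_subgroup_smul, Subgroup.mem_pointwise_smul_iff_inv_smul_mem] at h2
    have h3 : c * b * c⁻¹ ∈ (S : Subgroup G) := by simpa [MulAut.smul_def] using h2
    exact h3
  have h2 : IsPGroup p (Subgroup.normalClosure ({x} : Set G)) := S.isPGroup'.to_le h1
  exact Cfsg.Agent.Lib.Helper9.le_pCore Subgroup.normalClosure_normal h2
    (Subgroup.subset_normalClosure (Set.mem_singleton x))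

end A

/-- a `p'`-element centralizes every normal `p`-subgroup all of whose elements have conjugacy
classes of `p`-power size -/
theorem coprime_centralizes_normal_ppower_class (p : ℕ) [hp : Fact p.Prime] (n : ℕ) :
    ∀ (G : Type u) [Group G] [Finite G], Nat.card G = n → ∀ (W : Subgroup G) [W.Normal],
    IsPGroup p W →
    (∀ x ∈ W, ∃ a : ℕ, (Subgroup.centralizer ({x} : Set G)).index = p ^ a) →
    ∀ g : G, (orderOf g).Coprime p → ∀ x ∈ W, g * x = x * g := by
  induction n using Nat.strong_induction_on with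
  | _ n ih =>
  intro G _ _ hn W hWn hW hcl g hg x hx
  by_cases hW1 : W = ⊥
  · rw [hW1, Subgroup.mem_bot] at hx; subst hx; simp
  obtain ⟨S⟩ : Nonempty (Sylow p G) := inferInstance
  have hWS : W ≤ S := hW.le_sylow_of_normal S
  have hNne : W ⊓ Subgroup.center G ≠ ⊥ := by
    haveI : Group.IsNilpotent S := S.isPGroup'.isNilpotent
    have hne : W.subgroupOf S ≠ ⊥ := by
      intro h
      apply hW1
      rw [Subgroup.subgroupOf_eq_bot] at h
      exact disjoint_self.mp (h.mono_right hWS)
    have h1 := inf_center_ne_bot (W.subgroupOf S) hne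
    obtain ⟨⟨z, hz⟩, hz1⟩ := Subgroup.ne_bot_iff_exists_ne_one.mp h1
    have hzW : (z : G) ∈ W := Subgroup.mem_subgroupOf.mp hz.1
    have hzc : ∀ s : S, s * z = z * s := fun s => Subgroup.mem_center_iff.mp hz.2 s
    have hSle : (S : Subgroup G) ≤ Subgroup.centralizer ({(z : G)} : Set G) := by
      intro s hs
      rw [Subgroup.mem_centralizer_singleton_iff]
      have := congrArg Subtype.val (hzc ⟨s, hs⟩)
      simpa using this
    obtain ⟨a, ha⟩ := hcl _ hzW
    have hdvd : (Subgroup.centralizer ({(z : G)} : Set G)).index ∣ (S : Subgroup G).index :=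
      Subgroup.index_dvd_of_le hSle
    have ha0 : a = 0 := by
      by_contra h0
      have : p ∣ (S : Subgroup G).index := by
        refine dvd_trans ?_ hdvd
        rw [ha]
        exact dvd_pow_self p h0
      exact S.not_dvd_index this
    rw [ha0, pow_zero, Subgroup.index_eq_one] at ha
    have hzcen : (z : G) ∈ Subgroup.center G := by
      rw [Subgroup.mem_center_iff]
      intro y
      have : y ∈ Subgroup.centralizer ({(z : G)} : Set G) := by rw [ha]; trivial
      exact Subgroup.mem_centralizer_singleton_iff.mp this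
    intro hbot
    have : (z : G) ∈ W ⊓ Subgroup.center G := ⟨hzW, hzcen⟩
    rw [hbot, Subgroup.mem_bot] at this
    apply hz1
    apply Subtype.ext
    apply Subtype.ext
    exact this
  set N : Subgroup G := W ⊓ Subgroup.center G with hN
  let f : G →* G ⧸ N := QuotientGroup.mk' N
  have hf : Function.Surjective f := QuotientGroup.mk'_surjective N
  have hlt : Nat.card (G ⧸ N) < n := by
    have h1 := Subgroup.card_eq_card_quotient_mul_card_subgroup N
    have h2 : 1 < Nat.card N := (Subgroup.one_lt_card_iff_ne_bot (H := N)).mpr hNne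
    have h3 : 0 < Nat.card (G ⧸ N) := Nat.card_pos
    rw [← hn]
    nlinarith
  haveI : (W.map f).Normal := Subgroup.Normal.map hWn f hf
  have hcl' : ∀ y ∈ W.map f, ∃ a : ℕ,
      (Subgroup.centralizer ({y} : Set (G ⧸ N))).index = p ^ a := by
    rintro _ ⟨x', hx', rfl⟩
    obtain ⟨a, ha⟩ := hcl x' hx'
    have hle : (Subgroup.centralizer ({x'} : Set G)).map f ≤
        Subgroup.centralizer ({f x'} : Set (G ⧸ N)) := by
      rintro _ ⟨c, hc, rfl⟩
      rw [SetLike.mem_coe] at hc
      rw [Subgroup.mem_centralizer_singleton_iff] at hc ⊢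
      rw [← map_mul, ← map_mul, hc]
    have h1 := Subgroup.index_dvd_of_le hle
    have h2 := Subgroup.index_map_dvd (Subgroup.centralizer ({x'} : Set G)) hf
    rw [ha] at h2
    obtain ⟨m, _, hm⟩ := (Nat.dvd_prime_pow hp.out).mp (dvd_trans h1 h2)
    exact ⟨m, hm⟩
  have hg' : (orderOf (f g)).Coprime p := Nat.Coprime.coprime_dvd_left (orderOf_map_dvd f g) hg
  have key := ih _ hlt (G ⧸ N) rfl (W.map f) (hW.map f) hcl' (f g) hg' (f x)
    (Subgroup.mem_map_of_mem f hx)
  set c : G := x⁻¹ * (g * x * g⁻¹) with hc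
  have hcW : c ∈ W := W.mul_mem (W.inv_mem hx) (hWn.conj_mem x hx g)
  have hcN : c ∈ N := by
    have : f c = 1 := by
      rw [hc, map_mul, map_mul, map_mul, map_inv, map_inv, key]
      group
    exact (QuotientGroup.eq_one_iff c).mp this
  have hccen : c ∈ Subgroup.center G := hcN.2
  have h1 : (MulAut.conj g) x = x * c := by rw [MulAut.conj_apply, hc]; group
  have h2 : (MulAut.conj g) c = c := by
    rw [MulAut.conj_apply, Subgroup.mem_center_iff.mp hccen g, mul_inv_cancel_right]
  have h3 : (MulAut.conj g) ^ orderOf g = 1 := by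
    rw [← map_pow, pow_orderOf_eq_one, map_one]
  have h4 : ∃ k : ℕ, c ^ p ^ k = 1 := by
    obtain ⟨k, hk⟩ := hW ⟨c, hcW⟩
    exact ⟨k, by simpa using congrArg Subtype.val hk⟩
  have h5 := eq_one_of_aut_pow (MulAut.conj g) (orderOf g) h3 hg x c h1 h2 h4
  rw [h5, mul_one, MulAut.conj_apply] at h1
  calc g * x = g * x * g⁻¹ * g := by group
    _ = x * g := by rw [h1]

end Cfsg.Agent.Lib.Lead
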