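import Mathlib
import Cfsg.Agent.Lib.Lead.PPowerClass

set_option autoImplicit false

namespace Cfsg.Agent.Lib.Lead

open scoped Pointwise commutatorElement
open Cfsg.Agent.Lib.Helper4

universe u

/-- the exponent used for `Ω`: `p` for odd `p`, and `4` for `p = 2` -/
def omegaExp (p : ℕ) : ℕ := if p = 2 then 4 else p

theorem pow_omegaExp_of {G : Type*} [Group G] {p : ℕ} (x : G)
    (h : x ^ p = 1 ∨ (p = 2 ∧ x ^ 4 = 1)) : x ^ omegaExp p = 1 := by
  unfold omegaExp
  split_ifs with h2
  · rcases h with h | h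
    · subst h2
      have : x ^ 4 = (x ^ 2) ^ 2 := by rw [← pow_mul]
      rw [this, h, one_pow]
    · exact h.2
  · rcases h with h | h
    · exact h
    · exact absurd h.1 h2

/-- a critical subgroup together with its `Ω` -/
theorem exists_omega_critical {P : Type*} [Group P] [Finite P] {p : ℕ} [hp : Fact p.Prime]
    (hP : IsPGroup p P) :
    ∃ H W : Subgroup P, H.Characteristic ∧ W.Characteristic ∧
      Subgroup.centralizer (H : Set P) ≤ H ∧
      (∀ x : P, x ∈ W ↔ x ∈ H ∧ x ^ omegaExp p = 1) := by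
  obtain ⟨H, hHc, h1, h2, h3⟩ := exists_critical hP
  haveI := hHc
  have hcomm : ∀ x ∈ H, ∀ y ∈ H, ⁅x, y⁆ ∈ Subgroup.centralizer (H : Set P) := fun x hx y _ =>
    (h2 (Subgroup.commutator_mem_commutator hx (Subgroup.mem_top y))).2
  have hpowc : ∀ x ∈ H, x ^ p ∈ Subgroup.centralizer (H : Set P) := by
    intro x hx
    have := pow_mem_frattini_of_isPGroup (G := H) (hP.to_subgroup H) ⟨x, hx⟩
    exact h1 ⟨_, this, rfl⟩
  have hcH : ∀ a b : H, ⁅a, b⁆ ∈ Subgroup.center H := by
    intro x y
    rw [Subgroup.mem_center_iff]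
    intro g
    apply Subtype.ext
    have := (Subgroup.mem_centralizer_iff.mp (hcomm x x.2 y y.2)) g g.2
    simpa [commutatorElement_def] using this
  have hpH : ∀ a : H, a ^ p ∈ Subgroup.center H := by
    intro x
    rw [Subgroup.mem_center_iff]
    intro g
    apply Subtype.ext
    have := (Subgroup.mem_centralizer_iff.mp (hpowc x x.2)) g g.2
    simpa using this
  have hmulpow : ∀ x ∈ H, ∀ y ∈ H, (x * y) ^ omegaExp p = x ^ omegaExp p * y ^ omegaExp p := by
    intro x hx y hy
    unfold omegaExp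
    split_ifs with hp2
    · subst hp2
      have := mul_pow_four_of_central hcH hpH ⟨x, hx⟩ ⟨y, hy⟩
      have := congrArg Subtype.val this
      simpa using this
    · have := mul_pow_prime_of_central hp2 hcH hpH ⟨x, hx⟩ ⟨y, hy⟩
      have := congrArg Subtype.val this
      simpa using this
  let W : Subgroup P :=
    { carrier := {x | x ∈ H ∧ x ^ omegaExp p = 1}
      one_mem' := ⟨H.one_mem, one_pow _⟩
      mul_mem' := by
        rintro x y ⟨hx, hx1⟩ ⟨hy, hy1⟩
        exact ⟨H.mul_mem hx hy, by rw [hmulpow x hx y hy, hx1, hy1, one_mul]⟩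
      inv_mem' := by
        rintro x ⟨hx, hx1⟩
        exact ⟨H.inv_mem hx, by rw [inv_pow, hx1, inv_one]⟩ }
  have hW : ∀ x : P, x ∈ W ↔ x ∈ H ∧ x ^ omegaExp p = 1 := fun x => Iff.rfl
  refine ⟨H, W, hHc, ?_, h3, hW⟩
  rw [Subgroup.characteristic_iff_map_le]
  intro ϕ
  rintro _ ⟨x, hx, rfl⟩
  have hx' := (hW x).mp hx
  rw [hW]
  refine ⟨?_, ?_⟩
  · exact (Subgroup.characteristic_iff_map_le.mp hHc) ϕ ⟨x, hx'.1, rfl⟩
  · show (ϕ x) ^ omegaExp p = 1
    rw [← map_pow, hx'.2, map_one]

section Main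
variable {G : Type u} [Group G] [Finite G] {p : ℕ} [hp : Fact p.Prime]

theorem conjEquiv_pow_coe (V : Subgroup G) (a : G) (ha : a ∈ Subgroup.normalizer (V : Set G))
    (m : ℕ) (v : V) : (((conjEquiv V a ha) ^ m) v : G) = a ^ m * v * (a ^ m)⁻¹ := by
  induction m generalizing v with
  | zero => simp
  | succ m ih =>
    rw [pow_succ, MulAut.mul_apply, ih]
    show a ^ m * (a * v * a⁻¹) * (a ^ m)⁻¹ = _
    rw [pow_succ]
    group

theorem ppower_class_of_pow_omegaExp
    (h : ∀ x : G, (orderOf x = p ∨ (p = 2 ∧ orderOf x = 4)) →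
      ∃ a : ℕ, (Subgroup.centralizer ({x} : Set G)).index = p ^ a)
    (x : G) (hx : x ^ omegaExp p = 1) :
    ∃ a : ℕ, (Subgroup.centralizer ({x} : Set G)).index = p ^ a := by
  have h1 : orderOf x ∣ omegaExp p := orderOf_dvd_of_pow_eq_one hx
  have hone : orderOf x = 1 → ∃ a : ℕ, (Subgroup.centralizer ({x} : Set G)).index = p ^ a := by
    intro h1
    rw [orderOf_eq_one_iff] at h1
    subst h1
    refine ⟨0, ?_⟩
    rw [pow_zero, Subgroup.index_eq_one, eq_top_iff]
    intro y _
    rw [Subgroup.mem_centralizer_singleton_iff]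
    simp
  unfold omegaExp at h1
  split_ifs at h1 with hp2
  · have h4 : (4 : ℕ) = 2 ^ 2 := by norm_num
    rw [h4] at h1
    obtain ⟨m, hm, hm'⟩ := (Nat.dvd_prime_pow Nat.prime_two).mp h1
    interval_cases m
    · exact hone (by simpa using hm')
    · exact h x (Or.inl (by rw [hm', hp2]; norm_num))
    · exact h x (Or.inr ⟨hp2, by rw [hm']; norm_num⟩)
  · rcases (Nat.dvd_prime hp.out).mp h1 with h5 | h5
    · exact hone h5
    · exact h x (Or.inl h5)

/-- under the hypothesis on minimal `p`-elements, every `p'`-element centralizes `O_p(G)` -/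
theorem coprime_centralizes_pCore_of_ppower_class
    (h : ∀ x : G, (orderOf x = p ∨ (p = 2 ∧ orderOf x = 4)) →
      ∃ a : ℕ, (Subgroup.centralizer ({x} : Set G)).index = p ^ a)
    (g : G) (hg : (orderOf g).Coprime p) : ∀ y ∈ Cfsg.pCore p G, g * y = y * g := by
  set Q : Subgroup G := Cfsg.pCore p G with hQdef
  have hQ : IsPGroup p Q := Cfsg.Agent.Lib.Helper9.pCore_isPGroup' p
  haveI hQn : Q.Normal := Cfsg.Agent.Lib.Helper9.pCore_normal' p
  obtain ⟨H, W, hHc, hWc, hCH, hW⟩ := exists_omega_critical hQ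
  haveI := hHc
  haveI := hWc
  have hnQ : ∀ t : G, t ∈ Subgroup.normalizer (Q : Set G) := by
    intro t
    rw [Subgroup.mem_normalizer_iff]
    intro y
    constructor
    · intro hy; exact hQn.conj_mem y hy t
    · intro hy
      have := hQn.conj_mem _ hy t⁻¹
      simpa [mul_assoc] using this
  set WG : Subgroup G := W.map Q.subtype with hWG
  set HG : Subgroup G := H.map Q.subtype with hHG
  haveI hWGn : WG.Normal := by
    constructor
    intro x hx t
    have := le_normalizer_map_characteristic Q W (hnQ t)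
    exact (Subgroup.mem_normalizer_iff.mp this x).mp hx
  have hHGn : ∀ t : G, t ∈ Subgroup.normalizer (HG : Set G) := fun t =>
    le_normalizer_map_characteristic Q H (hnQ t)
  have hWGp : IsPGroup p WG := hQ.to_le (Subgroup.map_subtype_le W)
  have hHGp : IsPGroup p HG := hQ.to_le (Subgroup.map_subtype_le H)
  have hWGcl : ∀ x ∈ WG, ∃ a : ℕ, (Subgroup.centralizer ({x} : Set G)).index = p ^ a := by
    rintro _ ⟨y, hy, rfl⟩
    apply ppower_class_of_pow_omegaExp h
    have := ((hW y).mp hy).2
    have := congrArg Subtype.val this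
    simpa using this
  have hgW : ∀ x ∈ WG, g * x = x * g :=
    coprime_centralizes_normal_ppower_class p _ G rfl WG hWGp hWGcl g hg
  have hgH : Subgroup.zpowers g ≤ Subgroup.centralizer (HG : Set G) := by
    apply coprime_centralizes_of_omega_gen (Subgroup.zpowers g) HG
      (by rwa [Nat.card_zpowers]) hHGp
    · intro t _; exact hHGn t
    · rintro _ ⟨y, hy, rfl⟩ hxe a ha
      have hxe' := pow_omegaExp_of _ hxe
      have hyW : y ∈ W := by
        rw [hW]
        refine ⟨hy, ?_⟩
        apply Subtype.ext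
        simpa using hxe'
      have h1 : g * (Q.subtype y) = (Q.subtype y) * g := hgW _ ⟨y, hyW, rfl⟩
      obtain ⟨n, rfl⟩ := Subgroup.mem_zpowers_iff.mp ha
      have h2 : Commute g (Q.subtype y) := h1
      exact (h2.zpow_left n).eq
  have hgH' : ∀ x ∈ H, conjEquiv Q g (hnQ g) x = x := by
    intro x hx
    apply Subtype.ext
    show g * x * g⁻¹ = x
    have h1 := hgH (Subgroup.mem_zpowers g)
    rw [Subgroup.mem_centralizer_iff] at h1
    have h2 := h1 (x : G) ⟨x, hx, rfl⟩
    rw [← h2, mul_inv_cancel_right]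
  have ham : (conjEquiv Q g (hnQ g)) ^ orderOf g = 1 := by
    apply MulEquiv.ext
    intro v
    apply Subtype.ext
    rw [conjEquiv_pow_coe, pow_orderOf_eq_one]
    simp
  have hall := aut_eq_one_of_trivial_on_self_centralizing hQ H hCH (conjEquiv Q g (hnQ g))
    (orderOf g) ham hg hgH'
  intro y hy
  have h1 := congrArg Subtype.val (hall ⟨y, hy⟩)
  have h2 : g * y * g⁻¹ = y := h1
  calc g * y = g * y * g⁻¹ * g := by group
    _ = y * g := by rw [h2]

/-- if every element of order `p` (and of order `4` when `p = 2`) has a conjugacy class of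
`p`-power size, then `G` has a normal `p`-complement -/
theorem hasNormalPComplement_of_ppower_class
    (h : ∀ x : G, (orderOf x = p ∨ (p = 2 ∧ orderOf x = 4)) →
      ∃ a : ℕ, (Subgroup.centralizer ({x} : Set G)).index = p ^ a) :
    Cfsg.HasNormalPComplement p G := by
  rw [hasNormalPComplement_iff_plocalCentral]
  intro D hD g hgN hg
  have hA : Subgroup.zpowers g ≤ Subgroup.centralizer (D : Set G) := by
    apply coprime_centralizes_of_omega_gen (Subgroup.zpowers g) D
      (by rwa [Nat.card_zpowers]) hD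
    · rw [Subgroup.zpowers_le]; exact hgN
    · intro x hx hxe a ha
      have hxe' := pow_omegaExp_of _ hxe
      obtain ⟨b, hb⟩ := ppower_class_of_pow_omegaExp h x hxe'
      have hxp : ∃ k : ℕ, x ^ p ^ k = 1 := by
        obtain ⟨k, hk⟩ := hD ⟨x, hx⟩
        exact ⟨k, by simpa using congrArg Subtype.val hk⟩
      have hxQ := mem_pCore_of_ppower_class x hxp b hb
      have h1 := coprime_centralizes_pCore_of_ppower_class h g hg x hxQ
      obtain ⟨n, rfl⟩ := Subgroup.mem_zpowers_iff.mp ha
      have h2 : Commute g x := h1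
      exact (h2.zpow_left n).eq
  exact hA (Subgroup.mem_zpowers g)

end Main

end Cfsg.Agent.Lib.Lead
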