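import Mathlib
import Cfsg.Agent.Lib.Lead.QuatRecog

set_option autoImplicit false

namespace Cfsg.Agent.Lib.Lead.SL23R

open Cfsg.Agent.Lib.Lead

section lift
variable {T : Type*} [Group T]

/-- the underlying function of the lift -/
noncomputable def quatLiftFun (m : ℕ) (a x : T) (ha : a ^ (2 * m) = 1) : QuaternionGroup m → T :=
  fun q =>
    match q with
    | QuaternionGroup.a i => (zmodPow (2 * m) a ha i).toMul
    | QuaternionGroup.xa i => x * (zmodPow (2 * m) a ha i).toMul

theorem quatLiftFun_mul (m : ℕ) (a x : T) (ha : a ^ (2 * m) = 1) (hx2 : x ^ 2 = a ^ m)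
    (hxa : x * a * x⁻¹ = a⁻¹) (q r : QuaternionGroup m) :
    quatLiftFun m a x ha (q * r) = quatLiftFun m a x ha q * quatLiftFun m a x ha r := by
  set E : ZMod (2 * m) → T := fun i => (zmodPow (2 * m) a ha i).toMul with hE
  have E_add : ∀ i j, E (i + j) = E i * E j := zmodPow_add _ a ha
  have E_neg : ∀ i, E (-i) = (E i)⁻¹ := zmodPow_neg _ a ha
  have E_sub : ∀ i j, E (j - i) = (E i)⁻¹ * E j := by
    intro i j
    rw [sub_eq_add_neg, add_comm, E_add, E_neg]
  have E_m : E (m : ZMod (2 * m)) = a ^ m := zmodPow_natCast _ a ha m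
  have E_conj : ∀ i, x * E i * x⁻¹ = (E i)⁻¹ := by
    intro i
    obtain ⟨k, rfl⟩ := ZMod.intCast_surjective i
    have hEk : E (k : ZMod (2 * m)) = a ^ k := zmodPow_intCast _ a ha k
    rw [hEk]
    have h1 : x * a ^ k * x⁻¹ = (x * a * x⁻¹) ^ k := by
      have := map_zpow (MulAut.conj x) a k
      simpa [MulAut.conj_apply] using this
    rw [h1, hxa, inv_zpow]
  have E_comm : ∀ i, E i * x = x * (E i)⁻¹ := by
    intro i
    have h1 := E_conj (-i)
    rw [E_neg, inv_inv] at h1
    calc E i * x = (x * (E i)⁻¹ * x⁻¹) * x := by rw [h1]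
      _ = x * (E i)⁻¹ := by group
  have f_a : ∀ i, quatLiftFun m a x ha (QuaternionGroup.a i) = E i := fun i => rfl
  have f_xa : ∀ i, quatLiftFun m a x ha (QuaternionGroup.xa i) = x * E i := fun i => rfl
  rcases q with i | i <;> rcases r with j | j
  · rw [QuaternionGroup.a_mul_a, f_a, f_a, f_a, E_add]
  · rw [QuaternionGroup.a_mul_xa, f_a, f_xa, f_xa, E_sub, ← mul_assoc (E i), E_comm]
    group
  · rw [QuaternionGroup.xa_mul_a, f_xa, f_xa, f_a, E_add, mul_assoc]
  · rw [QuaternionGroup.xa_mul_xa, f_xa, f_xa, f_a, add_sub_assoc, E_add, E_sub, E_m, ← hx2]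
    have h1 : x * E i * (x * E j) = x * (E i * x) * E j := by group
    rw [h1, E_comm, sq]
    group

/-- the homomorphism from the quaternion group determined by generators -/
noncomputable def quatLift (m : ℕ) (a x : T) (ha : a ^ (2 * m) = 1) (hx2 : x ^ 2 = a ^ m)
    (hxa : x * a * x⁻¹ = a⁻¹) : QuaternionGroup m →* T :=
  MonoidHom.mk' (quatLiftFun m a x ha) (quatLiftFun_mul m a x ha hx2 hxa)

theorem quatLift_a_one (m : ℕ) (a x : T) (ha : a ^ (2 * m) = 1) (hx2 : x ^ 2 = a ^ m)
    (hxa : x * a * x⁻¹ = a⁻¹) : quatLift m a x ha hx2 hxa (QuaternionGroup.a 1) = a := by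
  show (zmodPow (2 * m) a ha (1 : ZMod (2 * m))).toMul = a
  have := zmodPow_natCast (2 * m) a ha 1
  rw [Nat.cast_one, pow_one] at this
  exact this

theorem quatLift_xa_zero (m : ℕ) (a x : T) (ha : a ^ (2 * m) = 1) (hx2 : x ^ 2 = a ^ m)
    (hxa : x * a * x⁻¹ = a⁻¹) : quatLift m a x ha hx2 hxa (QuaternionGroup.xa 0) = x := by
  show x * (zmodPow (2 * m) a ha (0 : ZMod (2 * m))).toMul = x
  rw [map_zero]
  exact mul_one x

theorem quatLift_bijective [Finite T] (m : ℕ) [NeZero m] (a x : T) (ha : a ^ (2 * m) = 1)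
    (hx2 : x ^ 2 = a ^ m) (hxa : x * a * x⁻¹ = a⁻¹) (hord : orderOf a = 2 * m)
    (hxA : x ∉ Subgroup.zpowers a) (hcard : Nat.card T = 4 * m) :
    Function.Bijective (quatLift m a x ha hx2 hxa) := by
  classical
  have hinj : Function.Injective (quatLift m a x ha hx2 hxa) := by
    rw [injective_iff_map_eq_one]
    intro q hq
    rcases q with i | i
    · have hq' : (zmodPow (2 * m) a ha i).toMul = 1 := hq
      have := zmodPow_eq_one (2 * m) a ha hord i hq'
      rw [this, QuaternionGroup.a_zero]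
    · exfalso
      have hq' : x * (zmodPow (2 * m) a ha i).toMul = 1 := hq
      apply hxA
      have h1 : x = ((zmodPow (2 * m) a ha i).toMul)⁻¹ := eq_inv_of_mul_eq_one_left hq'
      rw [h1]
      exact Subgroup.inv_mem _ (zmodPow_mem_zpowers _ a ha i)
  rw [Nat.bijective_iff_injective_and_card]
  refine ⟨hinj, ?_⟩
  rw [hcard, Nat.card_eq_fintype_card, QuaternionGroup.card]

end lift

end Cfsg.Agent.Lib.Lead.SL23R
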