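import Mathlib
import Cfsg.Agent.Lib.Lead.SL23R1

set_option autoImplicit false

namespace Cfsg.Agent.Lib.Lead.SL23R

/-- the group `SL₂(3)` -/
abbrev SL23 : Type := Matrix.SpecialLinearGroup (Fin 2) (ZMod 3)

/-- an element of order four -/
def mi : SL23 := ⟨!![0, 2; 1, 0], by decide⟩

/-- a second element of order four -/
def mj : SL23 := ⟨!![1, 1; 1, 2], by decide⟩

/-- an element of order three -/
def mu : SL23 := ⟨!![1, 1; 0, 1], by decide⟩

theorem mi_pow_four : mi ^ (2 * 2) = 1 := by decide +kernel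

theorem mj_sq : mj ^ 2 = mi ^ 2 := by decide +kernel

theorem mj_conj_mi : mj * mi * mj⁻¹ = mi⁻¹ := by decide +kernel

theorem mu_pow_three : mu ^ 3 = 1 := by decide +kernel

theorem mu_conj_mi : mu * mi * mu⁻¹ = mj := by decide +kernel

theorem mu_conj_mj : mu * mj * mu⁻¹ = mi * mj := by decide +kernel

theorem sl23_words : ∀ m : SL23, ∃ a : Fin 4, ∃ b : Fin 2, ∃ c : Fin 3,
    m = mi ^ a.val * mj ^ b.val * mu ^ c.val := by decide +kernel

end Cfsg.Agent.Lib.Lead.SL23R
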