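import Mathlib
import Cfsg.Agent.Lib.Lead.SL23R2
import Cfsg.Agent.Lib.Helper3.QDLocal2

set_option autoImplicit false

namespace Cfsg.Agent.Lib.Lead.SL23R

open Cfsg.Agent.Lib.Lead

section general
variable {G S T : Type*} [Group G] [Group S] [Group T]

/-- a group mapping injectively into `G` and onto `T` exhibits `T` as a section of `G` -/
theorem section_of_hom (ι : S →* G) (hι : Function.Injective ι) (F : S →* T)
    (hF : Function.Surjective F) :
    ∃ (H K : Subgroup G) (_ : (K.subgroupOf H).Normal), Nonempty ((H ⧸ K.subgroupOf H) ≃* T) := by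
  let e : S ≃* ι.range := MonoidHom.ofInjective hι
  let ψ : ι.range →* T := F.comp e.symm.toMonoidHom
  have hψ : Function.Surjective ψ := hF.comp e.symm.surjective
  have hker : ψ.ker = ((F.ker).map ι).subgroupOf ι.range := by
    ext z
    rw [MonoidHom.mem_ker, Subgroup.mem_subgroupOf]
    constructor
    · intro h
      refine ⟨e.symm z, h, ?_⟩
      have : (e (e.symm z) : G) = z := by rw [e.apply_symm_apply]
      exact this
    · rintro ⟨s, hs, hsz⟩
      have : e s = z := Subtype.ext hsz
      show F (e.symm z) = 1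
      rw [← this, e.symm_apply_apply]
      exact hs
  haveI hn : (((F.ker).map ι).subgroupOf ι.range).Normal := by
    rw [← hker]; infer_instance
  exact ⟨ι.range, (F.ker).map ι, hn,
    ⟨(QuotientGroup.quotientMulEquivOfEq hker).symm.trans
      (QuotientGroup.quotientKerEquivOfSurjective ψ hψ)⟩⟩

end general

/-- two homomorphisms from `Q₈` agreeing on the generators are equal -/
theorem q8_hom_ext {T : Type*} [Group T] (h₁ h₂ : QuaternionGroup 2 →* T)
    (ha : h₁ (QuaternionGroup.a 1) = h₂ (QuaternionGroup.a 1))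
    (hx : h₁ (QuaternionGroup.xa 0) = h₂ (QuaternionGroup.xa 0)) : h₁ = h₂ := by
  ext q
  obtain ⟨i, j, rfl⟩ := Cfsg.Agent.Lib.Helper3.q8_words q
  rw [map_mul, map_mul, map_pow, map_pow, map_pow, map_pow, ha, hx]

end Cfsg.Agent.Lib.Lead.SL23R
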