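import Mathlib
import Cfsg.Agent.Lib.Lead.SL23R3

set_option autoImplicit false

namespace Cfsg.Agent.Lib.Lead.SL23R

open Cfsg.Agent.Lib.Lead

section construct
variable {G : Type*} [Group G] [Finite G]

/-- a quaternion group of order eight together with an element permuting three generators
cyclically gives a section isomorphic to `SL₂(3)` -/
theorem exists_section_of_relations (D : Subgroup G) (x y g : G) (hD : Nat.card D = 8)
    (hxD : x ∈ D) (hyD : y ∈ D) (hx : orderOf x = 4) (hy2 : y ^ 2 = x ^ 2)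
    (hyx : y * x * y⁻¹ = x⁻¹) (hyx' : y ∉ Subgroup.zpowers x)
    (hgD : g ∈ Subgroup.normalizer (D : Set G)) (hgx : g * x * g⁻¹ = y)
    (hgy : g * y * g⁻¹ = x * y) (h3 : 3 ∣ orderOf g) (hdisj : D ⊓ Subgroup.zpowers g = ⊥) :
    ∃ (H K : Subgroup G) (_ : (K.subgroupOf H).Normal),
      Nonempty ((H ⧸ K.subgroupOf H) ≃* Matrix.SpecialLinearGroup (Fin 2) (ZMod 3)) := by
  classical
  -- the isomorphism of `Q₈` with `D`
  have ha4 : (⟨x, hxD⟩ : ↥D) ^ (2 * 2) = 1 := by
    apply Subtype.ext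
    rw [Subgroup.coe_pow, Subgroup.coe_one]
    have : (2 * 2 : ℕ) = orderOf x := by rw [hx]
    rw [this]
    exact pow_orderOf_eq_one x
  have hb2 : (⟨y, hyD⟩ : ↥D) ^ 2 = (⟨x, hxD⟩ : ↥D) ^ 2 := Subtype.ext (by
    simpa using hy2)
  have hba : (⟨y, hyD⟩ : ↥D) * ⟨x, hxD⟩ * (⟨y, hyD⟩ : ↥D)⁻¹ = (⟨x, hxD⟩ : ↥D)⁻¹ :=
    Subtype.ext (by simpa using hyx)
  have hord : orderOf (⟨x, hxD⟩ : ↥D) = 2 * 2 := by
    rw [Subgroup.orderOf_mk, hx]
  have hbA : (⟨y, hyD⟩ : ↥D) ∉ Subgroup.zpowers (⟨x, hxD⟩ : ↥D) := by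
    intro h
    apply hyx'
    obtain ⟨k, hk⟩ := Subgroup.mem_zpowers_iff.mp h
    have := congrArg Subtype.val hk
    rw [Subgroup.coe_zpow] at this
    exact Subgroup.mem_zpowers_iff.mpr ⟨k, this⟩
  have hcard : Nat.card ↥D = 4 * 2 := by rw [hD]
  have hbij := quatLift_bijective 2 (⟨x, hxD⟩ : ↥D) ⟨y, hyD⟩ ha4 hb2 hba hord hbA hcard
  let eD : QuaternionGroup 2 ≃* ↥D :=
    MulEquiv.ofBijective (quatLift 2 (⟨x, hxD⟩ : ↥D) ⟨y, hyD⟩ ha4 hb2 hba) hbij
  have heDa : eD (QuaternionGroup.a 1) = ⟨x, hxD⟩ := quatLift_a_one 2 _ _ ha4 hb2 hba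
  have heDx : eD (QuaternionGroup.xa 0) = ⟨y, hyD⟩ := quatLift_xa_zero 2 _ _ ha4 hb2 hba
  -- the map to `SL₂(3)`
  let lam : QuaternionGroup 2 →* SL23 := quatLift 2 mi mj mi_pow_four mj_sq mj_conj_mi
  have hlama : lam (QuaternionGroup.a 1) = mi := quatLift_a_one 2 _ _ _ _ _
  have hlamx : lam (QuaternionGroup.xa 0) = mj := quatLift_xa_zero 2 _ _ _ _ _
  let f₁ : ↥D →* SL23 := lam.comp eD.symm.toMonoidHom
  have hf₁ : ∀ q : QuaternionGroup 2, f₁ (eD q) = lam q := by
    intro q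
    show lam (eD.symm (eD q)) = lam q
    rw [eD.symm_apply_apply]
  -- the cyclic part
  let γ : ↥(Subgroup.zpowers g) := ⟨g, Subgroup.mem_zpowers g⟩
  have hγ : ∀ k : ↥(Subgroup.zpowers g), k ∈ Subgroup.zpowers γ := by
    rintro ⟨k, hk⟩
    obtain ⟨n, rfl⟩ := Subgroup.mem_zpowers_iff.mp hk
    exact Subgroup.mem_zpowers_iff.mpr ⟨n, Subtype.ext (by rw [Subgroup.coe_zpow])⟩
  have hmu : orderOf mu ∣ orderOf γ := by
    rw [Subgroup.orderOf_mk]
    exact dvd_trans (orderOf_dvd_of_pow_eq_one mu_pow_three) h3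
  let f₂ : ↥(Subgroup.zpowers g) →* SL23 := monoidHomOfForallMemZpowers hγ hmu
  have hf₂ : f₂ γ = mu := monoidHomOfForallMemZpowers_apply_gen hγ hmu
  -- the action
  have hle : Subgroup.zpowers g ≤ Subgroup.normalizer (D : Set G) :=
    Subgroup.zpowers_le.mpr hgD
  let φ : ↥(Subgroup.zpowers g) →* MulAut ↥D :=
    (D.normalizerMonoidHom).comp (Subgroup.inclusion hle)
  have hφ : ∀ (k : ↥(Subgroup.zpowers g)) (d : ↥D),
      ((φ k d : ↥D) : G) = (k : G) * (d : G) * (k : G)⁻¹ := fun k d => rfl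
  -- compatibility
  have hP : ∀ k : ↥(Subgroup.zpowers g), ∀ d : ↥D, f₁ (φ k d) = f₂ k * f₁ d * (f₂ k)⁻¹ := by
    have hgen : ∀ d : ↥D, f₁ (φ γ d) = f₂ γ * f₁ d * (f₂ γ)⁻¹ := by
      have key : (f₁.comp (φ γ).toMonoidHom).comp eD.toMonoidHom =
          ((MulAut.conj (f₂ γ)).toMonoidHom.comp f₁).comp eD.toMonoidHom := by
        apply q8_hom_ext
        · show f₁ (φ γ (eD (QuaternionGroup.a 1))) =
            f₂ γ * f₁ (eD (QuaternionGroup.a 1)) * (f₂ γ)⁻¹
          have e1 : φ γ (eD (QuaternionGroup.a 1)) = eD (QuaternionGroup.xa 0) := by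
            rw [heDa, heDx]
            apply Subtype.ext
            rw [hφ]
            exact hgx
          rw [e1, hf₁, hf₁, hlama, hlamx, hf₂, mu_conj_mi]
        · show f₁ (φ γ (eD (QuaternionGroup.xa 0))) =
            f₂ γ * f₁ (eD (QuaternionGroup.xa 0)) * (f₂ γ)⁻¹
          have e1 : φ γ (eD (QuaternionGroup.xa 0)) =
              eD (QuaternionGroup.a 1 * QuaternionGroup.xa 0) := by
            rw [map_mul, heDa, heDx]
            apply Subtype.ext
            rw [hφ]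
            exact hgy
          rw [e1, hf₁, hf₁, map_mul, hlama, hlamx, hf₂, mu_conj_mj]
      intro d
      have := DFunLike.congr_fun key (eD.symm d)
      simp only [MonoidHom.comp_apply, MulEquiv.coe_toMonoidHom, MulEquiv.apply_symm_apply,
        MulAut.conj_apply] at this
      exact this
    intro k
    obtain ⟨n, rfl⟩ := Subgroup.mem_zpowers_iff.mp (hγ k)
    induction n using Int.induction_on with
    | zero =>
      intro d
      simp
    | succ n ih =>
      intro d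
      rw [zpow_add_one, map_mul, map_mul, MulAut.mul_apply, ih, hgen]
      group
    | pred n ih =>
      intro d
      have h1 := hgen (φ (γ ^ (-(n : ℤ) - 1)) d)
      have h2 : φ γ (φ (γ ^ (-(n : ℤ) - 1)) d) = φ (γ ^ (-(n : ℤ))) d := by
        rw [← MulAut.mul_apply, ← map_mul, ← zpow_one_add]
        congr 2
        ring_nf
      rw [h2, ih] at h1
      have h3 : f₂ (γ ^ (-(n : ℤ) - 1)) = (f₂ γ)⁻¹ * f₂ (γ ^ (-(n : ℤ))) := by
        rw [← map_inv, ← map_mul, ← zpow_neg_one, ← zpow_add]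
        congr 2
        ring
      rw [h3]
      calc f₁ (φ (γ ^ (-(n : ℤ) - 1)) d)
          = (f₂ γ)⁻¹ * (f₂ γ * f₁ (φ (γ ^ (-(n : ℤ) - 1)) d) * (f₂ γ)⁻¹) * f₂ γ := by group
        _ = _ := by rw [← h1]; group
  have hcompat : ∀ k : ↥(Subgroup.zpowers g),
      f₁.comp (φ k).toMonoidHom = (MulAut.conj (f₂ k)).toMonoidHom.comp f₁ := by
    intro k
    ext d
    simp only [MonoidHom.comp_apply, MulEquiv.coe_toMonoidHom, MulAut.conj_apply]
    exact congrArg (fun m : SL23 => (m : Matrix (Fin 2) (Fin 2) (ZMod 3)) _ _) (hP k d)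
  let F : ↥D ⋊[φ] ↥(Subgroup.zpowers g) →* SL23 := SemidirectProduct.lift f₁ f₂ hcompat
  have hF : Function.Surjective F := by
    intro m
    obtain ⟨a, b, c, rfl⟩ := sl23_words m
    refine ⟨SemidirectProduct.inl ((eD (QuaternionGroup.a 1)) ^ a.val *
      (eD (QuaternionGroup.xa 0)) ^ b.val) * SemidirectProduct.inr (γ ^ c.val), ?_⟩
    rw [map_mul, SemidirectProduct.lift_inl, SemidirectProduct.lift_inr, map_mul, map_pow,
      map_pow, map_pow, hf₁, hf₁, hlama, hlamx, hf₂]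
  let ι : ↥D ⋊[φ] ↥(Subgroup.zpowers g) →* G := SemidirectProduct.monoidHomSubgroup hle
  have hι : Function.Injective ι := by
    rw [injective_iff_map_eq_one]
    intro s hs
    have hs' : (s.left : G) * (s.right : G) = 1 := hs
    have h1 : (s.left : G) = ((s.right : G))⁻¹ := eq_inv_of_mul_eq_one_left hs'
    have h2 : (s.left : G) ∈ D ⊓ Subgroup.zpowers g := by
      refine ⟨s.left.2, ?_⟩
      rw [h1]
      exact Subgroup.inv_mem _ s.right.2
    rw [hdisj, Subgroup.mem_bot] at h2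
    have h3 : (s.right : G) = 1 := by
      rw [h2, one_mul] at hs'
      exact hs'
    ext
    · rw [SemidirectProduct.one_left]; exact h2
    · rw [SemidirectProduct.one_right]; exact h3
  exact section_of_hom ι hι F hF

end construct

end Cfsg.Agent.Lib.Lead.SL23R
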