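import Mathlib
import Cfsg.Agent.Lib.Lead.SL23R4

set_option autoImplicit false

namespace Cfsg.Agent.Lib.Lead.SL23R

/-- the quaternion group of order eight -/
abbrev Q8 : Type := QuaternionGroup 2

theorem q8_pow_four : ∀ x : Q8, x ^ 4 = 1 := by decide +kernel

theorem q8_pair : ∀ x y : Q8, x ^ 2 ≠ 1 → y ^ 2 ≠ 1 → y ≠ x → y ≠ x⁻¹ →
    (y ^ 2 = x ^ 2 ∧ y * x * y⁻¹ = x⁻¹ ∧ (x * y) ^ 2 ≠ 1 ∧ (x * y)⁻¹ = y * x ∧
      x * y ≠ x ∧ x * y ≠ x⁻¹ ∧ y * x ≠ x ∧ y * x ≠ x⁻¹ ∧
      ∀ z : Q8, z ^ 2 ≠ 1 → (z = x ∨ z = x⁻¹ ∨ z = y ∨ z = y⁻¹ ∨ z = x * y ∨ z = y * x)) := by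
  decide +kernel

theorem q8_sq : ∀ q : Q8, q ^ 2 ≠ 1 ∨ q = 1 ∨ ∃ x : Q8, x ^ 2 ≠ 1 ∧ q = x ^ 2 := by
  decide +kernel

section aut
variable (α : MulAut Q8) (n : ℕ) (hn : Odd n) (hαn : α ^ n = 1)
include hn hαn

/-- an automorphism of odd order mapping `x` into `{x, x⁻¹}` fixes `x` -/
theorem q8_fix_of_mem_pair {x : Q8} (h : α x = x ∨ α x = x⁻¹) : α x = x := by
  rcases h with h | h
  · exact h
  · have key : ∀ k : ℕ, (α ^ k) x = if Even k then x else x⁻¹ := by
      intro k
      induction k with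
      | zero => simp
      | succ k ih =>
        rw [pow_succ', MulAut.mul_apply, ih]
        by_cases hk : Even k
        · rw [if_pos hk, if_neg (by rw [Nat.even_add_one]; exact not_not.mpr hk), h]
        · rw [if_neg hk, if_pos (by rw [Nat.even_add_one]; exact hk), map_inv, h, inv_inv]
    have h1 := key n
    rw [hαn, if_neg (Nat.not_even_iff_odd.mpr hn), MulAut.one_apply] at h1
    rw [h, ← h1]

theorem q8_fix_of_sq_mem_pair {x : Q8} (h : (α ^ 2) x = x ∨ (α ^ 2) x = x⁻¹) : α x = x := by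
  have h2 : (α ^ 2) x = x := q8_fix_of_mem_pair (α ^ 2) n hn
    (by rw [← pow_mul, mul_comm, pow_mul, hαn, one_pow]) h
  obtain ⟨k, hk⟩ := hn
  have h3 : (α ^ 2) ^ (k + 1) = α := by
    rw [← pow_mul, show 2 * (k + 1) = n + 1 by omega, pow_succ, hαn, one_mul]
  have h4 : ∀ j : ℕ, ((α ^ 2) ^ j) x = x := by
    intro j
    induction j with
    | zero => rfl
    | succ j ih => rw [pow_succ, MulAut.mul_apply, h2, ih]
  have h5 := h4 (k + 1)
  rw [h3] at h5
  exact h5

theorem q8_aut_odd (hα : α ≠ 1) : ∃ x : Q8, x ^ 2 ≠ 1 ∧ α x ≠ x ∧ α x ≠ x⁻¹ ∧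
    α (α x) = x * α x ∧ α (x * α x) = x := by
  have hsq : ∀ w : Q8, w ^ 2 ≠ 1 → (α w) ^ 2 ≠ 1 := by
    intro w hw h
    apply hw
    apply α.injective
    rw [map_pow, h, map_one]
  have hex : ∃ x : Q8, x ^ 2 ≠ 1 ∧ ¬ (α x = x ∨ α x = x⁻¹) := by
    by_contra hall
    push Not at hall
    apply hα
    have hfix : ∀ x : Q8, x ^ 2 ≠ 1 → α x = x := fun x hx =>
      q8_fix_of_mem_pair α n hn hαn (hall x hx)
    apply MulEquiv.ext
    intro q
    rcases q8_sq q with h | h | ⟨x, hx, rfl⟩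
    · exact hfix q h
    · rw [h, map_one]; rfl
    · rw [map_pow, hfix x hx]; rfl
  obtain ⟨x, hx, hxα⟩ := hex
  rw [not_or] at hxα
  obtain ⟨y, hy⟩ : ∃ y, y = α x := ⟨_, rfl⟩
  have hyx1 : y ≠ x := hy ▸ hxα.1
  have hyx2 : y ≠ x⁻¹ := hy ▸ hxα.2
  have hy2 : y ^ 2 ≠ 1 := hy ▸ hsq x hx
  obtain ⟨e1, e2, e3, e4, e5, e6, e7, e8, hcover⟩ := q8_pair x y hx hy2 hyx1 hyx2
  have hx1 : x ≠ 1 := by
    rintro rfl
    exact hx (one_pow 2)
  -- z = α y
  have hz : α y = x * y ∨ α y = y * x := by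
    rcases hcover (α y) (hsq y hy2) with h | h | h | h | h | h
    · exfalso
      apply hxα.1
      apply q8_fix_of_sq_mem_pair α n hn hαn
      left
      rw [pow_two, MulAut.mul_apply, ← hy]; exact h
    · exfalso
      apply hxα.1
      apply q8_fix_of_sq_mem_pair α n hn hαn
      right
      rw [pow_two, MulAut.mul_apply, ← hy]; exact h
    · exfalso
      apply hyx1
      apply α.injective
      rw [h, hy]
    · exfalso
      apply hyx1
      apply α.injective
      rw [q8_fix_of_mem_pair α n hn hαn (Or.inr h), hy]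
    · exact Or.inl h
    · exact Or.inr h
  have hzcases : ∀ z : Q8, (z = x * y ∨ z = y * x) → α y = z → α z = x := by
    intro z hz' hyz
    have hz2 : z ^ 2 ≠ 1 := hyz ▸ hsq y hy2
    have hzinv : z = x * y ∨ z = y * x := hz'
    have hz_ne_x : z ≠ x ∧ z ≠ x⁻¹ := by
      rcases hz' with h | h
      · rw [h]; exact ⟨e5, e6⟩
      · rw [h]; exact ⟨e7, e8⟩
    have hz_ne_y : z ≠ y := by
      rcases hz' with h | h
      · rw [h]
        intro h'
        apply hx1
        calc x = x * y * y⁻¹ := by group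
          _ = 1 := by rw [h']; group
      · rw [h]
        intro h'
        apply hx1
        calc x = y⁻¹ * (y * x) := by group
          _ = 1 := by rw [h']; group
    have hthree : (α ^ 3) x = α z := by
      rw [pow_succ, pow_two, MulAut.mul_apply, MulAut.mul_apply, ← hy, hyz]
    have hα3 : (α ^ 3) ^ n = 1 := by rw [← pow_mul, mul_comm, pow_mul, hαn, one_pow]
    rcases hcover (α z) (hsq z hz2) with h | h | h | h | h | h
    · exact h
    · have := q8_fix_of_mem_pair (α ^ 3) n hn hα3 (x := x) (Or.inr (by rw [hthree]; exact h))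
      rw [hthree] at this
      exact this
    · exfalso
      apply hz_ne_x.1
      apply α.injective
      rw [h, hy]
    · exfalso
      apply hz_ne_x.2
      apply α.injective
      rw [h, map_inv, hy]
    · exfalso
      apply hz_ne_y
      apply α.injective
      have h' : α z = z ∨ α z = z⁻¹ := by
        rcases hz' with hh | hh
        · left; rw [h, hh]
        · right; rw [h, hh, ← e4, inv_inv]
      rw [q8_fix_of_mem_pair α n hn hαn h', hyz]
    · exfalso
      apply hz_ne_y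
      apply α.injective
      have h' : α z = z ∨ α z = z⁻¹ := by
        rcases hz' with hh | hh
        · right; rw [h, hh, e4]
        · left; rw [h, hh]
      rw [q8_fix_of_mem_pair α n hn hαn h', hyz]
  rcases hz with h | h
  · refine ⟨x, hx, hxα.1, hxα.2, ?_, ?_⟩
    · rw [← hy, h]
    · rw [← hy]
      exact hzcases (x * y) (Or.inl rfl) h
  · have hαz := hzcases (y * x) (Or.inr rfl) h
    refine ⟨x⁻¹, ?_, ?_, ?_, ?_, ?_⟩
    · intro h'
      apply hx
      rw [inv_pow, inv_eq_one] at h'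
      exact h'
    · rw [map_inv, ← hy]
      intro h'
      exact hyx1 (inv_injective h')
    · rw [map_inv, ← hy, inv_inv]
      intro h'
      apply hyx2
      rw [← h', inv_inv]
    · rw [map_inv, ← hy, map_inv, h, mul_inv_rev]
    · rw [map_inv, ← hy, ← mul_inv_rev, map_inv, hαz]

end aut

end Cfsg.Agent.Lib.Lead.SL23R
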