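import Mathlib
import Cfsg.Agent.Lib.Lead.SL23R5

set_option autoImplicit false

namespace Cfsg.Agent.Lib.Lead.SL23R

section q8section
variable {G : Type*} [Group G] [Finite G]

/-- an element of odd order acting nontrivially on a quaternion subgroup of order eight gives a
section isomorphic to `SL₂(3)` -/
theorem exists_section_of_q8 (D : Subgroup G) (θ : ↥D ≃* Q8) (g : G)
    (hg : g ∈ Subgroup.normalizer (D : Set G)) (hodd : Odd (orderOf g))
    (hgc : g ∉ Subgroup.centralizer (D : Set G)) :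
    ∃ (H K : Subgroup G) (_ : (K.subgroupOf H).Normal),
      Nonempty ((H ⧸ K.subgroupOf H) ≃* Matrix.SpecialLinearGroup (Fin 2) (ZMod 3)) := by
  classical
  set c : MulAut ↥D := D.normalizerMonoidHom ⟨g, hg⟩ with hc
  have hcapp : ∀ d : ↥D, ((c d : ↥D) : G) = g * d * g⁻¹ := fun d => rfl
  set α : MulAut Q8 := MulAut.congr θ c with hα
  have hαapp : ∀ q : Q8, α q = θ (c (θ.symm q)) := fun q => rfl
  have hαsymm : ∀ q : Q8, θ.symm (α q) = c (θ.symm q) := by
    intro q
    rw [hαapp, θ.symm_apply_apply]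
  set n := orderOf g with hn
  have hcn : c ^ n = 1 := by
    rw [hc, ← map_pow]
    have : (⟨g, hg⟩ : ↥(Subgroup.normalizer (D : Set G))) ^ n = 1 := by
      apply Subtype.ext
      rw [Subgroup.coe_pow, Subgroup.coe_one]
      exact pow_orderOf_eq_one g
    rw [this, map_one]
  have hαn : α ^ n = 1 := by
    rw [hα, ← map_pow, hcn, map_one]
  have hα1 : α ≠ 1 := by
    intro h
    apply hgc
    rw [Subgroup.mem_centralizer_iff]
    intro d hd
    have h1 := hαsymm (θ ⟨d, hd⟩)
    rw [h, MulAut.one_apply, θ.symm_apply_apply] at h1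
    have h2 := congrArg Subtype.val h1
    rw [hcapp] at h2
    simp only at h2
    calc d * g = g * d * g⁻¹ * g := by rw [← h2]
      _ = g * d := by group
  obtain ⟨x₀, hx₀, hy₁, hy₂, hz, hw⟩ := q8_aut_odd α n hodd hαn hα1
  obtain ⟨e1, e2, -, -, -, -, -, -, -⟩ := q8_pair x₀ (α x₀) hx₀ (by
    intro h
    apply hx₀
    apply α.injective
    rw [map_pow, h, map_one]) hy₁ hy₂
  -- the elements
  set x : G := ((θ.symm x₀ : ↥D) : G) with hx
  set y : G := ((θ.symm (α x₀) : ↥D) : G) with hy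
  have hxD : x ∈ D := (θ.symm x₀).2
  have hyD : y ∈ D := (θ.symm (α x₀)).2
  have hgx : g * x * g⁻¹ = y := by
    rw [hy, hαsymm, hcapp]
  have hgy : g * y * g⁻¹ = x * y := by
    have h1 := hαsymm (α x₀)
    rw [hz, map_mul] at h1
    have h2 := congrArg Subtype.val h1
    rw [hcapp, Subgroup.coe_mul] at h2
    exact h2.symm
  have hx4 : x ^ 4 = 1 := by
    rw [hx, ← Subgroup.coe_pow, ← map_pow, q8_pow_four, map_one, Subgroup.coe_one]
  have hx2 : x ^ 2 ≠ 1 := by
    rw [hx, ← Subgroup.coe_pow, ← map_pow]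
    intro h
    apply hx₀
    apply θ.symm.injective
    rw [map_one]
    exact Subtype.ext h
  have hxo : orderOf x = 4 := by
    have := orderOf_eq_prime_pow (p := 2) (n := 1) (x := x) (by simpa using hx2) (by simpa using hx4)
    simpa using this
  have hy2 : y ^ 2 = x ^ 2 := by
    calc y ^ 2 = ((θ.symm (α x₀ ^ 2) : ↥D) : G) := by rw [map_pow, Subgroup.coe_pow]
      _ = ((θ.symm (x₀ ^ 2) : ↥D) : G) := by rw [e1]
      _ = x ^ 2 := by rw [map_pow, Subgroup.coe_pow]
  have hyx : y * x * y⁻¹ = x⁻¹ := by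
    calc y * x * y⁻¹ = ((θ.symm (α x₀ * x₀ * (α x₀)⁻¹) : ↥D) : G) := by
          rw [map_mul, map_mul, map_inv, Subgroup.coe_mul, Subgroup.coe_mul, Subgroup.coe_inv]
      _ = ((θ.symm (x₀⁻¹) : ↥D) : G) := by rw [e2]
      _ = x⁻¹ := by rw [map_inv, Subgroup.coe_inv]
  have hyne : y ≠ x := by
    rw [hx, hy]
    intro h
    exact hy₁ (θ.symm.injective (Subtype.ext h))
  have hyne' : y ≠ x⁻¹ := by
    rw [hx, hy, ← Subgroup.coe_inv, ← map_inv]
    intro h
    exact hy₂ (θ.symm.injective (Subtype.ext h))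
  have hy2ne : y ^ 2 ≠ 1 := by rw [hy2]; exact hx2
  have hyx' : y ∉ Subgroup.zpowers x := by
    intro h
    obtain ⟨k, hk⟩ := Subgroup.mem_zpowers_iff.mp h
    have h4 : x ^ ((4 : ℕ) : ℤ) = 1 := by rw [zpow_natCast]; exact hx4
    have hk' : x ^ (k % 4) = y := by
      rw [← hk]
      exact (zpow_eq_zpow_emod k h4).symm
    have h0 : 0 ≤ k % 4 := Int.emod_nonneg k (by norm_num)
    have h1 : k % 4 < 4 := Int.emod_lt_of_pos k (by norm_num)
    obtain ⟨j, hj⟩ := Int.eq_ofNat_of_zero_le h0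
    rw [hj, zpow_natCast] at hk'
    have hj4 : j < 4 := by omega
    interval_cases j
    · apply hy2ne; rw [← hk']; simp
    · apply hyne; rw [← hk']; simp
    · apply hy2ne; rw [← hk', ← pow_mul]; exact hx4
    · apply hyne'
      rw [← hk']
      have : x ^ 3 * x = 1 := by rw [← pow_succ]; exact hx4
      exact eq_inv_of_mul_eq_one_left this
  -- 3 divides the order of g
  have hcube : α (α (α x₀)) = x₀ := by rw [hz]; exact hw
  have h3 : 3 ∣ n := by
    have key : ∀ k : ℕ, (α ^ (3 * k)) x₀ = x₀ := by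
      intro k
      induction k with
      | zero => rfl
      | succ k ih =>
        rw [mul_add, mul_one, pow_add, MulAut.mul_apply]
        have : (α ^ 3) x₀ = x₀ := by
          rw [pow_succ, pow_two, MulAut.mul_apply, MulAut.mul_apply]
          exact hcube
        rw [this, ih]
    have hcomm : ∀ (m : ℕ) (w : Q8), (α ^ m) (α w) = α ((α ^ m) w) := by
      intro m w
      rw [← MulAut.mul_apply, ← MulAut.mul_apply, ← pow_succ, ← pow_succ']
    by_contra hnd
    have hn1 : (α ^ n) x₀ = x₀ := by rw [hαn]; rfl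
    have hdecomp : n = 3 * (n / 3) + n % 3 := (Nat.div_add_mod n 3).symm
    have hr : n % 3 = 1 ∨ n % 3 = 2 := by
      have : n % 3 ≠ 0 := fun h => hnd (Nat.dvd_of_mod_eq_zero h)
      omega
    rw [hdecomp, pow_add, MulAut.mul_apply] at hn1
    rcases hr with hr | hr
    · rw [hr, pow_one] at hn1
      -- (α^(3k)) (α x₀) = x₀
      rw [hcomm, key] at hn1
      exact hy₁ hn1
    · rw [hr, pow_two, MulAut.mul_apply] at hn1
      rw [hcomm, hcomm, key, hz] at hn1
      have h6 : α x₀ = 1 := by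
        calc α x₀ = x₀⁻¹ * (x₀ * α x₀) := by group
          _ = 1 := by rw [hn1]; group
      apply hx₀
      have : x₀ = 1 := α.injective (by rw [h6, map_one])
      rw [this, one_pow]
  have hD8 : Nat.card D = 8 := by
    rw [Nat.card_congr θ.toEquiv, Nat.card_eq_fintype_card, QuaternionGroup.card]
  have hdisj : D ⊓ Subgroup.zpowers g = ⊥ := by
    apply Subgroup.inf_eq_bot_of_coprime
    rw [hD8, Nat.card_zpowers]
    have : Nat.Coprime 2 (orderOf g) := (Nat.coprime_two_left).mpr hodd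
    exact Nat.Coprime.pow_left 3 this
  exact exists_section_of_relations D x y g hD8 hxD hyD hxo hy2 hyx hyx' hg hgx hgy h3 hdisj

end q8section

end Cfsg.Agent.Lib.Lead.SL23R
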