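import Mathlib
import Cfsg.Agent.Lib.Lead.SL23R6
import Cfsg.Agent.Lib.Lead.UniqueOrderP5
import Cfsg.Agent.Lib.Lead.FrobNPC5
import Cfsg.Agent.Lib.Lead.KS93k
import Cfsg.Agent.Lib.Helper6.QuatAut
import Cfsg.Agent.Lib.Helper9.CyclicMax2

set_option autoImplicit false

namespace Cfsg.Agent.Lib.Lead.SL23R

open Cfsg.Agent.Lib.Lead

/-- the only involution of a generalized quaternion group -/
theorem quat_involution_unique (m : ℕ) [NeZero m] (q : QuaternionGroup m) (hq : q * q = 1)
    (hq1 : q ≠ 1) : q = QuaternionGroup.a m := by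
  have hm0 : 0 < m := Nat.pos_of_ne_zero (NeZero.ne m)
  haveI : NeZero (2 * m) := ⟨by omega⟩
  cases q with
  | a i =>
    rw [QuaternionGroup.a_mul_a, QuaternionGroup.one_def] at hq
    have hi : i + i = 0 := QuaternionGroup.a.inj hq
    have h1 : ((i.val + i.val : ℕ) : ZMod (2 * m)) = 0 := by
      rw [Nat.cast_add, ZMod.natCast_zmod_val]; exact hi
    have h2 : 2 * m ∣ i.val + i.val := (ZMod.natCast_eq_zero_iff _ _).mp h1
    have h3 : i.val < 2 * m := ZMod.val_lt i
    obtain ⟨t, ht⟩ := h2
    have h4 : t = 0 ∨ t = 1 := by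
      have : 2 * m * t < 2 * (2 * m) := by omega
      have : t < 2 := by
        by_contra hc
        have h5 : 2 ≤ t := by omega
        have : 2 * m * 2 ≤ 2 * m * t := Nat.mul_le_mul_left _ h5
        omega
      omega
    rcases h4 with rfl | rfl
    · exfalso
      apply hq1
      have h6 : i.val = 0 := by omega
      have h7 : i = 0 := by
        rw [← ZMod.natCast_zmod_val i, h6, Nat.cast_zero]
      rw [h7, QuaternionGroup.a_zero]
    · have h6 : i.val = m := by omega
      rw [← ZMod.natCast_zmod_val i, h6]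
  | xa i =>
    exfalso
    rw [QuaternionGroup.xa_mul_xa, QuaternionGroup.one_def] at hq
    have hi : (m : ZMod (2 * m)) + i - i = 0 := QuaternionGroup.a.inj hq
    rw [add_sub_cancel_right] at hi
    have h2 : 2 * m ∣ m := (ZMod.natCast_eq_zero_iff _ _).mp hi
    have := Nat.le_of_dvd hm0 h2
    omega

section main
variable {G : Type*} [Group G] [Finite G]

theorem mem_centralizer_of_hom_eq_one (D : Subgroup G) (g : G)
    (hg : g ∈ Subgroup.normalizer (D : Set G)) (h : D.normalizerMonoidHom ⟨g, hg⟩ = 1) :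
    g ∈ Subgroup.centralizer (D : Set G) := by
  rw [Subgroup.mem_centralizer_iff]
  intro d hd
  have h1 := congrArg (fun f : MulAut ↥D => ((f ⟨d, hd⟩ : ↥D) : G)) h
  have h2 : g * d * g⁻¹ = d := h1
  calc d * g = g * d * g⁻¹ * g := by rw [h2]
    _ = g * d := by group

/-- a group with generalized quaternion Sylow `2`-subgroups has a normal `2`-complement or a
section isomorphic to `SL₂(3)` -/
theorem quaternion_sylow (T : Sylow 2 G) (n : ℕ) (hn : 1 ≤ n)
    (hT : Nonempty ((T : Subgroup G) ≃* QuaternionGroup (2 ^ n))) :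
    Cfsg.HasNormalPComplement 2 G ∨ ∃ (H K : Subgroup G) (_ : (K.subgroupOf H).Normal),
      Nonempty ((H ⧸ K.subgroupOf H) ≃* Matrix.SpecialLinearGroup (Fin 2) (ZMod 3)) := by
  classical
  haveI : Fact (Nat.Prime 2) := ⟨Nat.prime_two⟩
  by_cases hNPC : Cfsg.HasNormalPComplement 2 G
  · exact Or.inl hNPC
  right
  rw [hasNormalPComplement_iff_plocalCentral] at hNPC
  unfold PLocalCentral at hNPC
  push Not at hNPC
  obtain ⟨D, hD2, g, hg, hgcop, hgc⟩ := hNPC
  have hodd : Odd (orderOf g) := Nat.coprime_two_left.mp hgcop.symm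
  obtain ⟨eT⟩ := hT
  obtain ⟨P, hDP⟩ := hD2.exists_le_sylow
  let eP : ↥(P : Subgroup G) ≃* QuaternionGroup (2 ^ n) := (Sylow.equiv P T).trans eT
  haveI : NeZero (2 ^ n) := ⟨by positivity⟩
  -- the embedding of D
  let ψ : ↥D →* QuaternionGroup (2 ^ n) := eP.toMonoidHom.comp (Subgroup.inclusion hDP)
  have hψ : Function.Injective ψ := eP.injective.comp (Subgroup.inclusion_injective hDP)
  have hinv : ∀ a : ↥D, a ≠ 1 → a ^ 2 = 1 → ψ a = QuaternionGroup.a ((2 ^ n : ℕ) : ZMod (2 * 2 ^ n)) := by
    intro a ha1 ha2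
    apply quat_involution_unique
    · rw [← map_mul, ← sq, ha2, map_one]
    · intro h
      apply ha1
      apply hψ
      rw [h, map_one]
  have hU : UniqueOrderP 2 ↥D := by
    intro H K hH hK
    obtain ⟨a, haH, ha1, hHa⟩ := KS93.exists_gen_of_card_prime (p := 2) hH
    obtain ⟨b, hbK, hb1, hKb⟩ := KS93.exists_gen_of_card_prime (p := 2) hK
    have ha2 : a ^ 2 = 1 := by
      have := pow_card_eq_one' (G := ↥H) (x := ⟨a, haH⟩)
      rw [hH] at this
      exact congrArg Subtype.val this
    have hb2 : b ^ 2 = 1 := by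
      have := pow_card_eq_one' (G := ↥K) (x := ⟨b, hbK⟩)
      rw [hK] at this
      exact congrArg Subtype.val this
    have : a = b := hψ (by rw [hinv a ha1 ha2, hinv b hb1 hb2])
    rw [hHa, hKb, this]
  -- the induced automorphism
  set c : MulAut ↥D := D.normalizerMonoidHom ⟨g, hg⟩ with hc
  have hc1 : c ≠ 1 := fun h => hgc (mem_centralizer_of_hom_eq_one D g hg h)
  have hcm : c ^ orderOf g = 1 := by
    rw [hc, ← map_pow]
    have : (⟨g, hg⟩ : ↥(Subgroup.normalizer (D : Set G))) ^ orderOf g = 1 := by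
      apply Subtype.ext
      rw [Subgroup.coe_pow, Subgroup.coe_one]
      exact pow_orderOf_eq_one g
    rw [this, map_one]
  have hD2' : IsPGroup 2 ↥D := hD2
  have hcyc : IsCyclic ↥D → False := by
    intro hcy
    have h2 := Cfsg.Agent.Lib.Helper6.isPGroup_mulAut_of_isCyclic hD2'
    obtain ⟨j, hj⟩ := h2 c
    apply hc1
    have h3 : orderOf c ∣ 2 ^ j := orderOf_dvd_of_pow_eq_one hj
    have h4 : orderOf c ∣ orderOf g := orderOf_dvd_of_pow_eq_one hcm
    have h5 : Nat.Coprime (2 ^ j) (orderOf g) := Nat.Coprime.pow_left j hgcop.symm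
    have h6 := Nat.dvd_gcd h3 h4
    rw [Nat.Coprime] at h5
    rw [h5, Nat.dvd_one] at h6
    exact orderOf_eq_one_iff.mp h6
  rcases UniqueOrderP.main hD2' hU with hcy | ⟨-, k, ⟨θ⟩⟩
  · exact (hcyc hcy).elim
  · rcases Nat.lt_or_ge k 1 with hk | hk
    · exfalso
      have hk0 : k = 0 := by omega
      subst hk0
      apply hcyc
      have θ' : ↥D ≃* QuaternionGroup 1 := by
        simpa using θ
      haveI := QuaternionGroup.quaternionGroup_one_isCyclic
      exact isCyclic_of_surjective θ'.symm θ'.symm.surjective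
    · rcases Nat.lt_or_ge k 2 with hk2 | hk2
      · have hk1 : k = 1 := by omega
        subst hk1
        have θ' : ↥D ≃* Q8 := by
          simpa using θ
        exact exists_section_of_q8 D θ' g hg hodd hgc
      · exfalso
        apply hc1
        have hα : (MulAut.congr θ c) ^ orderOf g = 1 := by
          rw [← map_pow, hcm, map_one]
        have h1 := Cfsg.Agent.Lib.Helper9.quaternion_odd_aut_trivial k hk2 (MulAut.congr θ c)
          (orderOf g) hodd hα
        apply MulEquiv.ext
        intro d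
        have h2 := h1 (θ d)
        have h3 : (MulAut.congr θ c) (θ d) = θ (c (θ.symm (θ d))) := rfl
        rw [h3, θ.symm_apply_apply] at h2
        exact θ.injective h2

end main

end Cfsg.Agent.Lib.Lead.SL23R
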