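import Mathlib
import Cfsg.Prelude.Def_Blocks
import Cfsg.Agent.Lib.Helper8.BlockLocal

/-! S4607 package B1: the residue field of the local ring at `M` is an algebraically closed field. -/

set_option autoImplicit false

open Cfsg Cfsg.Agent.Lib.Helper8 Polynomial

namespace Cfsg.Agent.Lib.Lead.Brandt

variable {M : Ideal AlgInt}

theorem localIdeal_isMaximal (hM : M.IsPrime) : (localIdeal M hM).IsMaximal := by
  rw [Ideal.isMaximal_iff]
  refine ⟨fun h => not_memLocalIdeal_one hM ((mem_localIdeal_iff hM 1).1 h), ?_⟩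
  intro J x _ hx hxJ
  have hx' : ¬ MemLocalIdeal M (x : ℂ) := fun h => hx ((mem_localIdeal_iff hM x).2 h)
  have hx0 : (x : ℂ) ≠ 0 := by
    intro h0
    apply hx'
    rw [h0]
    exact memLocalIdeal_zero hM.ne_top
  have hinv : MemLocalRing M ((x : ℂ)⁻¹) := memLocalRing_inv x.2 hx'
  have h1 : (⟨(x : ℂ)⁻¹, hinv⟩ : localRing M hM) * x = 1 := by
    apply Subtype.ext
    simp [inv_mul_cancel₀ hx0]
  rw [← h1]
  exact J.mul_mem_left _ hxJ

/-- common denominator outside `M` for finitely many elements of the local ring -/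
theorem exists_common_denom (hM : M.IsPrime) (s : Finset ℂ) (hs : ∀ c ∈ s, MemLocalRing M c) :
    ∃ b : AlgInt, b ∉ M ∧ ∀ c ∈ s, ∃ a : AlgInt, c * (b : ℂ) = (a : ℂ) := by
  classical
  induction s using Finset.induction_on with
  | empty => exact ⟨1, fun h => hM.ne_top ((Ideal.eq_top_iff_one _).2 h), by simp⟩
  | insert c s hc ih =>
    obtain ⟨b, hb, hbs⟩ := ih (fun c' hc' => hs c' (Finset.mem_insert_of_mem hc'))
    obtain ⟨a, b', hb', hab⟩ := hs c (Finset.mem_insert_self c s)
    refine ⟨b' * b, fun h => (hM.mem_or_mem h).elim hb' hb, ?_⟩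
    intro c' hc'
    rcases Finset.mem_insert.1 hc' with rfl | hc'
    · refine ⟨a * b, ?_⟩
      have hb'0 : (b' : ℂ) ≠ 0 := algInt_coe_ne_zero_of_not_mem hb'
      rw [← hab]
      push_cast
      field_simp
    · obtain ⟨a', ha'⟩ := hbs c' hc'
      refine ⟨b' * a', ?_⟩
      push_cast
      rw [← ha']
      ring

/-- the local ring is integrally closed in `ℂ` -/
theorem memLocalRing_of_isIntegral_localRing (hM : M.IsPrime) {z : ℂ}
    (hz : IsIntegral (localRing M hM) z) : MemLocalRing M z := by
  classical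
  obtain ⟨F, hF, hFz⟩ := hz
  set F' : ℂ[X] := F.map (localRing M hM).subtype with hF'
  have hF'm : F'.Monic := hF.map _
  have hF'z : F'.eval z = 0 := by
    rw [hF', eval_map]
    exact hFz
  set n := F'.natDegree with hn
  obtain ⟨b, hb, hbs⟩ := exists_common_denom hM (Finset.image F'.coeff (Finset.range n)) (by
    intro c hc
    obtain ⟨i, _, rfl⟩ := Finset.mem_image.1 hc
    rw [hF', coeff_map]
    exact (F.coeff i).2)
  have hb0 : (b : ℂ) ≠ 0 := algInt_coe_ne_zero_of_not_mem hb
  -- the scaled polynomial has algebraic-integer coefficients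
  set H' : ℂ[X] := scaleRoots F' (b : ℂ) with hH'
  have hH'm : H'.Monic := (monic_scaleRoots_iff _).2 hF'm
  have hlift : H' ∈ lifts (algebraMap AlgInt ℂ) := by
    rw [lifts_iff_coeff_lifts]
    intro i
    rw [hH', coeff_scaleRoots]
    by_cases hi : i < n
    · obtain ⟨a, ha⟩ := hbs (F'.coeff i) (Finset.mem_image.2 ⟨i, Finset.mem_range.2 hi, rfl⟩)
      have hpos : n - i = (n - i - 1) + 1 := by omega
      refine ⟨a * b ^ (n - i - 1), ?_⟩
      rw [← hn, hpos, pow_succ]
      simp only [map_mul, map_pow]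
      change (a : ℂ) * (b : ℂ) ^ (n - i - 1) = _
      rw [← ha]
      ring
    · rcases Nat.lt_or_ge n i with h | h
      · refine ⟨0, ?_⟩
        rw [coeff_eq_zero_of_natDegree_lt (by rw [← hn]; exact h)]
        simp
      · have : i = n := by omega
        subst this
        refine ⟨1, ?_⟩
        rw [hn, hF'm.coeff_natDegree]
        simp
  obtain ⟨H, hHmap, _, hHm⟩ := lifts_and_natDegree_eq_and_monic hlift hH'm
  have hw : IsIntegral AlgInt ((b : ℂ) * z) := by
    refine ⟨H, hHm, ?_⟩
    rw [← eval_map, hHmap, hH']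
    have := scaleRoots_eval₂_mul (p := F') (f := RingHom.id ℂ) (r := z) (s := (b : ℂ))
    simp only [eval₂_id, RingHom.id_apply] at this
    rw [mul_comm] at this
    rw [mul_comm, this, hF'z, mul_zero]
  have hw' : IsIntegral ℤ ((b : ℂ) * z) := isIntegral_trans _ hw
  have hmem : MemLocalRing M ((b : ℂ) * z) := memLocalRing_of_isIntegral hM.ne_top hw'
  have hbinv : MemLocalRing M ((b : ℂ)⁻¹) :=
    memLocalRing_inv (memLocalRing_algInt hM.ne_top b)
      (fun h => hb ((memLocalIdeal_algInt_iff hM b).1 h))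
  have := memLocalRing_mul hM hbinv hmem
  rwa [← mul_assoc, inv_mul_cancel₀ hb0, one_mul] at this

/-- **B1**: the residue field exists and is algebraically closed. -/
theorem exists_resField {p : ℕ} (hM : IsPModular p M) :
    ∃ (k : Type) (_ : Field k) (_ : IsAlgClosed k)
      (res : ↥(localRing M (isPModular_isPrime hM)) →+* k),
      Function.Surjective res ∧ ∀ z, res z = 0 ↔ MemLocalIdeal M (z : ℂ) := by
  classical
  have hMp := isPModular_isPrime hM
  have : (localIdeal M hMp).IsMaximal := localIdeal_isMaximal hMp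
  let _ : Field (↥(localRing M hMp) ⧸ localIdeal M hMp) := Ideal.Quotient.field _
  have hsurj : Function.Surjective (Ideal.Quotient.mk (localIdeal M hMp)) :=
    Ideal.Quotient.mk_surjective
  refine ⟨↥(localRing M hMp) ⧸ localIdeal M hMp, inferInstance, ?_,
    Ideal.Quotient.mk (localIdeal M hMp), hsurj, ?_⟩
  · apply IsAlgClosed.of_exists_root
    intro q hq hqirr
    obtain ⟨F, hFmap, hFdeg, hFm⟩ := lifts_and_degree_eq_and_monic
      ((mem_lifts _).2 (map_surjective _ hsurj q)) hq
    set F' : ℂ[X] := F.map (localRing M hMp).subtype with hF'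
    have hdeg : F'.degree ≠ 0 := by
      rw [hF', degree_map_eq_of_injective (Subtype.val_injective), hFdeg]
      exact (degree_pos_of_irreducible hqirr).ne'
    obtain ⟨z, hz⟩ := IsAlgClosed.exists_root F' hdeg
    have hzint : IsIntegral (localRing M hMp) z := by
      refine ⟨F, hFm, ?_⟩
      rw [← eval_map]
      exact hz
    have hzO : MemLocalRing M z := memLocalRing_of_isIntegral_localRing hMp hzint
    refine ⟨Ideal.Quotient.mk (localIdeal M hMp) ⟨z, hzO⟩, ?_⟩
    rw [← hFmap, eval_map, eval₂_hom]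
    have : F.eval (⟨z, hzO⟩ : localRing M hMp) = 0 := by
      apply Subtype.val_injective
      have h2 := hz
      rw [IsRoot, hF', eval_map] at h2
      have h3 := (hom_eval₂ F (RingHom.id _) (localRing M hMp).subtype ⟨z, hzO⟩)
      simp only [RingHom.comp_id, eval₂_id] at h3
      change (localRing M hMp).subtype (eval ⟨z, hzO⟩ F) = 0
      rw [h3]
      exact h2
    rw [this, map_zero]
  · intro z
    rw [Ideal.Quotient.eq_zero_iff_mem, mem_localIdeal_iff]

end Cfsg.Agent.Lib.Lead.Brandt
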