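import Mathlib

/-! S5976 package PK-E (leader helper3): `index_arith`, pure arithmetic. -/

namespace Cfsg.Agent.Lib.Helper3.GUSp

theorem pkE_not_dvd_minus {q r h j : ℕ} [Fact r.Prime] (hq : 1 < q)
    (hi : orderOf (q : ZMod r) = 2 * h) (hj : Odd j) : ¬ r ∣ q ^ j - 1 := by
  intro hd
  have hq1 : 1 ≤ q ^ j := Nat.one_le_pow _ _ (by omega)
  have h0 : ((q ^ j - 1 : ℕ) : ZMod r) = 0 := (ZMod.natCast_eq_zero_iff _ _).2 hd
  rw [Nat.cast_sub hq1, Nat.cast_pow, Nat.cast_one, sub_eq_zero] at h0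
  have h1 := orderOf_dvd_of_pow_eq_one h0
  rw [hi] at h1
  obtain ⟨k, hk⟩ := h1
  have : Even j := ⟨h * k, by rw [hk]; ring⟩
  exact (Nat.not_even_iff_odd.2 hj) this

theorem pkE_not_dvd_plus {q r h j : ℕ} [Fact r.Prime] (hr2 : r ≠ 2) (hh : Odd h)
    (hi : orderOf (q : ZMod r) = 2 * h) (hj : Even j) : ¬ r ∣ q ^ j + 1 := by
  intro hd
  have hr : r.Prime := Fact.out
  have h0 : ((q ^ j + 1 : ℕ) : ZMod r) = 0 := (ZMod.natCast_eq_zero_iff _ _).2 hd
  rw [Nat.cast_add, Nat.cast_pow, Nat.cast_one] at h0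
  have hm1 : (q : ZMod r) ^ j = -1 := eq_neg_of_add_eq_zero_left h0
  have h2 : (q : ZMod r) ^ (2 * j) = 1 := by
    rw [mul_comm, pow_mul, hm1]; norm_num
  have h1 := orderOf_dvd_of_pow_eq_one h2
  rw [hi] at h1
  have hhj : h ∣ j := by
    have h2pos : 0 < 2 := by norm_num
    exact Nat.dvd_of_mul_dvd_mul_left h2pos h1
  obtain ⟨m, hm⟩ := hhj
  rcases Nat.even_or_odd m with hme | hmo
  · obtain ⟨m', hm'⟩ := hme
    have : (q : ZMod r) ^ j = 1 := by
      have : j = (2 * h) * m' := by rw [hm, hm']; ring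
      rw [this, pow_mul, ← hi, pow_orderOf_eq_one, one_pow]
    rw [hm1] at this
    have h20 : ((2 : ℕ) : ZMod r) = 0 := by
      have : (1 : ZMod r) + 1 = 0 := by
        nth_rewrite 1 [← this]; simp
      push_cast; rw [← this]; norm_num
    have := (ZMod.natCast_eq_zero_iff _ _).1 h20
    exact hr2 ((Nat.prime_dvd_prime_iff_eq hr Nat.prime_two).1 this)
  · have : Odd j := by rw [hm]; exact hh.mul hmo
    exact (Nat.not_even_iff_odd.2 this) hj

theorem pkE_split {q d : ℕ} :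
    q ^ (d ^ 2) * ∏ i ∈ Finset.range d, (q ^ (2 * (i + 1)) - 1) =
    (q ^ (d * (d - 1) / 2) * ∏ i ∈ Finset.range d,
      (if Even i then q ^ (i + 1) + 1 else q ^ (i + 1) - 1)) *
    (q ^ (d ^ 2 - d * (d - 1) / 2) * ∏ i ∈ Finset.range d,
      (if Even i then q ^ (i + 1) - 1 else q ^ (i + 1) + 1)) := by
  have hle : d * (d - 1) / 2 ≤ d ^ 2 := by
    calc d * (d - 1) / 2 ≤ d * (d - 1) := Nat.div_le_self _ _
      _ ≤ d * d := Nat.mul_le_mul_left _ (Nat.sub_le _ _)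
      _ = d ^ 2 := (sq d).symm
  have hprod : ∏ i ∈ Finset.range d, (q ^ (2 * (i + 1)) - 1) =
      (∏ i ∈ Finset.range d, (if Even i then q ^ (i + 1) + 1 else q ^ (i + 1) - 1)) *
      (∏ i ∈ Finset.range d, (if Even i then q ^ (i + 1) - 1 else q ^ (i + 1) + 1)) := by
    rw [← Finset.prod_mul_distrib]
    refine Finset.prod_congr rfl (fun i _ => ?_)
    have hsq : q ^ (2 * (i + 1)) - 1 = (q ^ (i + 1) + 1) * (q ^ (i + 1) - 1) := by
      have := Nat.sq_sub_sq (q ^ (i + 1)) 1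
      rw [one_pow, ← pow_mul, mul_comm (i + 1) 2] at this
      exact this
    split_ifs
    · exact hsq
    · rw [hsq, mul_comm]
  have hpow : q ^ (d ^ 2) = q ^ (d * (d - 1) / 2) * q ^ (d ^ 2 - d * (d - 1) / 2) := by
    rw [← pow_add, Nat.add_sub_cancel' hle]
  rw [hprod, hpow]; ring

theorem index_arith {q r d h n : ℕ} [Fact r.Prime] (hq : 1 < q) (hr2 : r ≠ 2) (hrq : ¬ r ∣ q)
    (hh : Odd h) (hi : orderOf (q : ZMod r) = 2 * h)
    (hGU : (q ^ (d * (d - 1) / 2) * ∏ i ∈ Finset.range d,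
      (if Even i then q ^ (i + 1) + 1 else q ^ (i + 1) - 1)) ∣ n)
    (hn : r * n ∣ q ^ (d ^ 2) * ∏ i ∈ Finset.range d, (q ^ (2 * (i + 1)) - 1)) : False := by
  have hr : r.Prime := Fact.out
  rw [pkE_split] at hn
  set G := q ^ (d * (d - 1) / 2) * ∏ i ∈ Finset.range d,
      (if Even i then q ^ (i + 1) + 1 else q ^ (i + 1) - 1) with hG
  have hGpos : 0 < G := by
    rw [hG]
    refine Nat.mul_pos (Nat.pow_pos (by omega)) (Finset.prod_pos (fun i _ => ?_))
    have : 2 ≤ q ^ (i + 1) := by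
      calc 2 ≤ q := hq
        _ = q ^ 1 := (pow_one q).symm
        _ ≤ q ^ (i + 1) := Nat.pow_le_pow_right (by omega) (by omega)
    split_ifs <;> omega
  obtain ⟨t, ht⟩ := hGU
  have h1 : G * (r * t) ∣ G * (q ^ (d ^ 2 - d * (d - 1) / 2) * ∏ i ∈ Finset.range d,
      (if Even i then q ^ (i + 1) - 1 else q ^ (i + 1) + 1)) := by
    have : G * (r * t) = r * n := by rw [ht]; ring
    rw [this]; exact hn
  have h2 := Nat.dvd_of_mul_dvd_mul_left hGpos h1
  have h3 : r ∣ q ^ (d ^ 2 - d * (d - 1) / 2) * ∏ i ∈ Finset.range d,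
      (if Even i then q ^ (i + 1) - 1 else q ^ (i + 1) + 1) := (Dvd.intro _ rfl).trans h2
  rcases (Nat.Prime.dvd_mul hr).1 h3 with h4 | h4
  · exact hrq (hr.dvd_of_dvd_pow h4)
  · obtain ⟨i, _, hi'⟩ := (Prime.dvd_finsetProd_iff (Nat.prime_iff.1 hr) _).1 h4
    split_ifs at hi' with he
    · exact pkE_not_dvd_minus hq hi (Even.add_one he) hi'
    · have : Even (i + 1) := by
        rcases Nat.even_or_odd i with h5 | h5
        · exact absurd h5 he
        · exact h5.add_one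
      exact pkE_not_dvd_plus hr2 hh hi this hi'

end Cfsg.Agent.Lib.Helper3.GUSp
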