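import Mathlib
import Cfsg.Prelude
import Cfsg.Agent.Lib.Helper2.Spinor5
import Cfsg.Agent.Lib.Helper2.OrthElB

/-! S5977/S5978 board, FO-G: an odd prime dividing `[Ω : N ∩ Ω]` divides `[O : N ∩ O]`, because
`O / Ω` is an elementary abelian 2-group. -/

set_option autoImplicit false

namespace Cfsg.Agent.Lib.Helper3.FEO

open QuadraticMap

/-- in a finite group all of whose elements have square one, the order is a power of two -/
theorem foG_card_pow_two {A : Type*} [Group A] [Finite A] (h : ∀ x : A, x * x = 1) :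
    ∃ n, Nat.card A = 2 ^ n := by
  haveI : Fact (Nat.Prime 2) := ⟨Nat.prime_two⟩
  have hp : IsPGroup 2 A := by
    intro g
    exact ⟨1, by rw [pow_one, pow_two]; exact h g⟩
  exact IsPGroup.iff_card.1 hp

theorem foG_card_mul_relIndex {G : Type*} [Group G] (N S : Subgroup G) :
    Nat.card ↥(N ⊓ S) * N.relIndex S = Nat.card ↥S := by
  have h := Subgroup.relIndex_mul_relIndex (⊥ : Subgroup G) (N ⊓ S) S bot_le inf_le_right
  rw [Subgroup.relIndex_bot_left, Subgroup.relIndex_bot_left, Subgroup.inf_relIndex_right] at h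
  exact h

/-- abstract form: `Ω₀` normal in `O` with `O/Ω₀` of exponent two -/
theorem foG_abstract {G : Type*} [Group G] (O N : Subgroup G) [Finite O] (Ω₀ : Subgroup ↥O)
    [Ω₀.Normal] (hexp : ∀ x : ↥O ⧸ Ω₀, x * x = 1) (r : ℕ) [Fact r.Prime] (hr2 : r ≠ 2)
    (hΩ : r ∣ N.relIndex (Ω₀.map O.subtype)) (N1 : ℕ) (hN1 : N1 ∣ Nat.card ↥(N ⊓ O)) :
    r * N1 ∣ Nat.card ↥O := by
  have hr : r.Prime := Fact.out
  set Ω' : Subgroup G := Ω₀.map O.subtype with hΩ'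
  have hΩO : Ω' ≤ O := Subgroup.map_subtype_le _
  have hsub : Ω'.subgroupOf O = Ω₀ := by
    rw [hΩ']
    exact Subgroup.comap_map_eq_self_of_injective (Subgroup.subtype_injective _) _
  obtain ⟨n, hn⟩ := foG_card_pow_two hexp
  have hidx : Ω₀.index = 2 ^ n := by
    rw [Subgroup.index_eq_card]
    exact hn
  have hAB : N ⊓ Ω' ≤ N ⊓ O := inf_le_inf_left N hΩO
  have hBO : N ⊓ O ≤ O := inf_le_right
  have hAΩ : N ⊓ Ω' ≤ Ω' := inf_le_right
  have h1 := Subgroup.relIndex_mul_relIndex (N ⊓ Ω') (N ⊓ O) O hAB hBO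
  have h2 := Subgroup.relIndex_mul_relIndex (N ⊓ Ω') Ω' O hAΩ hΩO
  rw [Subgroup.inf_relIndex_right] at h1 h2
  -- `[N⊓O : N⊓Ω]` divides `[O : Ω]`
  have h3 : (N ⊓ Ω').relIndex (N ⊓ O) ∣ 2 ^ n := by
    have e1 : N ⊓ Ω' = Ω' ⊓ (N ⊓ O) := by
      apply le_antisymm
      · exact le_inf inf_le_right hAB
      · exact le_inf (inf_le_right.trans inf_le_left) inf_le_left
    rw [e1, Subgroup.inf_relIndex_right, ← Subgroup.relIndex_subgroupOf hBO, hsub, ← hidx]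
    exact Subgroup.relIndex_dvd_index_of_normal _ _
  have h4 : r ∣ (N ⊓ Ω').relIndex (N ⊓ O) * N.relIndex O := by
    rw [h1, ← h2]
    exact Dvd.dvd.mul_right hΩ _
  have h5 : r ∣ N.relIndex O := by
    rcases (Nat.Prime.dvd_mul hr).1 h4 with h6 | h6
    · exfalso
      have h7 : r ∣ 2 ^ n := h6.trans h3
      have h8 := hr.dvd_of_dvd_pow h7
      exact hr2 ((Nat.prime_dvd_prime_iff_eq hr Nat.prime_two).1 h8)
    · exact h6
  rw [← foG_card_mul_relIndex N O, mul_comm r N1]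
  exact Nat.mul_dvd_mul hN1 h5

theorem dvd_card_of_relIndex {F : Type*} [Field F] [Fintype F] (hodd : Odd (Fintype.card F))
    {ι : Type} [Fintype ι] [DecidableEq ι] (Q : QuadraticForm F (ι → F))
    (hQ : (polarBilin Q).Nondegenerate) (hn : 2 ≤ Fintype.card ι)
    (K : Subalgebra F (Matrix ι ι F)) (r : ℕ) [Fact r.Prime] (hr2 : r ≠ 2)
    (hΩ : r ∣ (Cfsg.Geo.subalgebraNormalizer K).relIndex (Cfsg.Geo.omegaGL ⇑Q)) (N1 : ℕ)
    (hN1 : N1 ∣ Nat.card ↥(Cfsg.Geo.subalgebraNormalizer K ⊓ Cfsg.isometryGroup F ⇑Q)) :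
    r * N1 ∣ Nat.card ↥(Cfsg.isometryGroup F ⇑Q) := by
  classical
  have h2 : (2 : F) ≠ 0 := Cfsg.Agent.Lib.Helper2.OrthEl.two_ne_zero_of_odd_card hodd
  obtain ⟨f, hf, -, hsq⟩ := Cfsg.Agent.Lib.Helper2.Spinor.exists_ab_structure h2 hQ hn
  have hexp : ∀ x : ↥(Cfsg.isometryGroup F ⇑Q) ⧸ commutator ↥(Cfsg.isometryGroup F ⇑Q),
      x * x = 1 := by
    intro x
    obtain ⟨p, rfl⟩ := hf x
    exact hsq p
  exact foG_abstract (Cfsg.isometryGroup F ⇑Q) (Cfsg.Geo.subalgebraNormalizer K)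
    (commutator ↥(Cfsg.isometryGroup F ⇑Q)) hexp r hr2 hΩ N1 hN1

end Cfsg.Agent.Lib.Helper3.FEO
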