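import Mathlib

/-! S5975 package FE-E (leader helper3): `index_arith'`, pure arithmetic. -/

namespace Cfsg.Agent.Lib.Helper3.FESp

/-- splitting off the factors with `k ∣ j` -/
theorem feE_split (g : ℕ → ℕ) (k m : ℕ) (hk : 0 < k) :
    ∏ i ∈ Finset.range (k * m), g (i + 1) =
      (∏ i ∈ Finset.range m, g (k * (i + 1))) *
        ∏ i ∈ (Finset.range (k * m)).filter (fun i => ¬ k ∣ i + 1), g (i + 1) := by
  rw [← Finset.prod_filter_mul_prod_filter_not (Finset.range (k * m)) (fun i => k ∣ i + 1)]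
  congr 1
  refine Finset.prod_nbij' (fun x => (x + 1) / k - 1) (fun i => k * (i + 1) - 1) ?_ ?_ ?_ ?_ ?_
  · intro x hx
    rw [Finset.mem_filter, Finset.mem_range] at hx
    obtain ⟨hx1, c, hc⟩ := hx
    rw [Finset.mem_range]
    rw [hc, Nat.mul_div_cancel_left _ hk]
    have hc1 : 1 ≤ c := by
      rcases Nat.eq_zero_or_pos c with h0 | h0
      · rw [h0, mul_zero] at hc; omega
      · exact h0
    have hcm : c ≤ m := by
      by_contra hcon
      push Not at hcon
      have : k * (m + 1) ≤ k * c := Nat.mul_le_mul_left k hcon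
      have h2 : k * (m + 1) = k * m + k := by ring
      omega
    omega
  · intro i hi
    rw [Finset.mem_range] at hi
    rw [Finset.mem_filter, Finset.mem_range]
    have h1 : 1 ≤ k * (i + 1) := Nat.mul_pos hk (by omega)
    have h2 : k * (i + 1) ≤ k * m := Nat.mul_le_mul_left k (by omega)
    refine ⟨by omega, ?_⟩
    rw [Nat.sub_add_cancel h1]
    exact Dvd.intro _ rfl
  · intro x hx
    rw [Finset.mem_filter, Finset.mem_range] at hx
    obtain ⟨_, c, hc⟩ := hx
    have hc1 : 1 ≤ c := by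
      rcases Nat.eq_zero_or_pos c with h0 | h0
      · rw [h0, mul_zero] at hc; omega
      · exact h0
    rw [hc, Nat.mul_div_cancel_left _ hk, Nat.sub_add_cancel hc1, ← hc]
    omega
  · intro i _
    have h1 : 1 ≤ k * (i + 1) := Nat.mul_pos hk (by omega)
    rw [Nat.sub_add_cancel h1, Nat.mul_div_cancel_left _ hk]
    omega
  · intro x hx
    rw [Finset.mem_filter, Finset.mem_range] at hx
    obtain ⟨_, c, hc⟩ := hx
    have hc1 : 1 ≤ c := by
      rcases Nat.eq_zero_or_pos c with h0 | h0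
      · rw [h0, mul_zero] at hc; omega
      · exact h0
    rw [hc, Nat.mul_div_cancel_left _ hk, Nat.sub_add_cancel hc1]

theorem index_arith' {q r k m d n : ℕ} [Fact r.Prime] (hk : k.Prime) (hq : 1 < q)
    (hrq : ¬ r ∣ q) (hd : d = k * m)
    (hSp : ((q ^ k) ^ (m ^ 2) * ∏ i ∈ Finset.range m, ((q ^ k) ^ (2 * (i + 1)) - 1)) ∣ n)
    (hn : r * n ∣ q ^ (d ^ 2) * ∏ i ∈ Finset.range d, (q ^ (2 * (i + 1)) - 1)) :
    ∃ j, 1 ≤ j ∧ j ≤ d ∧ ¬ k ∣ j ∧ r ∣ q ^ (2 * j) - 1 := by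
  have hr : r.Prime := Fact.out
  subst hd
  have hsplit := feE_split (fun j => q ^ (2 * j) - 1) k m hk.pos
  beta_reduce at hsplit
  rw [hsplit] at hn
  have hA : ∏ i ∈ Finset.range m, ((q ^ k) ^ (2 * (i + 1)) - 1) =
      ∏ i ∈ Finset.range m, (q ^ (2 * (k * (i + 1))) - 1) := by
    refine Finset.prod_congr rfl (fun i _ => ?_)
    rw [← pow_mul]
    congr 2
    ring
  rw [hA] at hSp
  set A := ∏ i ∈ Finset.range m, (q ^ (2 * (k * (i + 1))) - 1) with hAdef
  set R := ∏ i ∈ (Finset.range (k * m)).filter (fun i => ¬ k ∣ i + 1), (q ^ (2 * (i + 1)) - 1)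
    with hRdef
  have hApos : 0 < A := by
    refine Finset.prod_pos (fun i _ => ?_)
    have : 2 ≤ q ^ (2 * (k * (i + 1))) := by
      calc 2 ≤ q := hq
        _ = q ^ 1 := (pow_one q).symm
        _ ≤ q ^ (2 * (k * (i + 1))) :=
          Nat.pow_le_pow_right (by omega) (by
            have h5 : 0 < k * (i + 1) := Nat.mul_pos hk.pos (Nat.succ_pos i)
            omega)
    omega
  obtain ⟨t, rfl⟩ := hSp
  have h1 : A * (r * ((q ^ k) ^ (m ^ 2) * t)) ∣ A * (q ^ ((k * m) ^ 2) * R) := by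
    have e1 : r * ((q ^ k) ^ (m ^ 2) * A * t) = A * (r * ((q ^ k) ^ (m ^ 2) * t)) := by ring
    have e2 : q ^ ((k * m) ^ 2) * (A * R) = A * (q ^ ((k * m) ^ 2) * R) := by ring
    rwa [e1, e2] at hn
  have h2 := Nat.dvd_of_mul_dvd_mul_left hApos h1
  have h3 : r ∣ q ^ ((k * m) ^ 2) * R := (Dvd.intro _ rfl).trans h2
  rcases (Nat.Prime.dvd_mul hr).1 h3 with h4 | h4
  · exact absurd (hr.dvd_of_dvd_pow h4) hrq
  · obtain ⟨i, hi, hri⟩ := (Prime.dvd_finsetProd_iff (Nat.prime_iff.1 hr) _).1 h4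
    rw [Finset.mem_filter, Finset.mem_range] at hi
    exact ⟨i + 1, by omega, by omega, hi.2, hri⟩

end Cfsg.Agent.Lib.Helper3.FESp
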