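import Mathlib
import Cfsg.Agent.Lib.Lead.FESp_E
import Cfsg.Agent.Lib.Helper1.TISp4

/-! S5977/S5978 board, FO-I: the prime divisors of `|O^±_{2d}(q)| / |O^±_d(q²)|` (pure arithmetic). -/

set_option autoImplicit false

namespace Cfsg.Agent.Lib.Helper3.FEO

open Cfsg.Agent.Lib.Helper3.FESp

/-- `r ∣ q^(2j) - 1`, `j` odd: `ord_r(q)` is odd `≤ j` or twice an odd `h ≤ j` with `r ∣ q^h + 1` -/
theorem foI_of_dvd_odd {q r j : ℕ} [Fact r.Prime] (hq : 1 < q) (hj : Odd j)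
    (h : r ∣ q ^ (2 * j) - 1) :
    (Odd (orderOf ((q : ℕ) : ZMod r)) ∧ orderOf ((q : ℕ) : ZMod r) ≤ j ∧
      orderOf ((q : ℕ) : ZMod r) ∣ j) ∨
    (∃ h', orderOf ((q : ℕ) : ZMod r) = 2 * h' ∧ Odd h' ∧ h' ≤ j ∧ r ∣ q ^ h' + 1) := by
  have hr : r.Prime := Fact.out
  have hc := (Cfsg.Agent.Lib.Helper1.TISp.dvd_pow_sub_one_iff r q (2 * j) (by omega)).1 h
  set x : ZMod r := ((q : ℕ) : ZMod r) with hx
  set c := orderOf x with hcdef
  have hj0 : 0 < j := hj.pos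
  have hc0 : 0 < c := Nat.pos_of_dvd_of_pos hc (by omega)
  rcases Nat.even_or_odd c with he | ho
  · right
    obtain ⟨h', hh'⟩ := he
    have hh2 : c = 2 * h' := by omega
    have hdj : h' ∣ j := by
      rw [hh2] at hc
      exact Nat.dvd_of_mul_dvd_mul_left (by norm_num) hc
    have hh'odd : Odd h' := by
      obtain ⟨t, ht⟩ := hdj
      rw [ht] at hj
      exact (Nat.odd_mul.1 hj).1
    refine ⟨h', hh2, hh'odd, Nat.le_of_dvd hj0 hdj, ?_⟩
    have hy2 : (x ^ h') ^ 2 = 1 := by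
      rw [← pow_mul, mul_comm, ← hh2, hcdef]
      exact pow_orderOf_eq_one x
    have hy1 : x ^ h' ≠ 1 := by
      apply pow_ne_one_of_lt_orderOf (by omega)
      rw [← hcdef]
      omega
    have hy : x ^ h' = -1 := by
      rcases sq_eq_one_iff.1 hy2 with h1 | h1
      · exact absurd h1 hy1
      · exact h1
    rw [← ZMod.natCast_eq_zero_iff]
    push_cast
    rw [← hx, hy]
    ring
  · left
    have hcj : c ∣ j := (Nat.Coprime.dvd_of_dvd_mul_left (Nat.coprime_two_right.2 ho)) hc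
    exact ⟨ho, Nat.le_of_dvd hj0 hcj, hcj⟩

theorem foI_pow_pos {q : ℕ} (hq : 1 < q) (e : ℕ) (he : 1 ≤ e) : 0 < q ^ e - 1 := by
  have : q ^ 1 ≤ q ^ e := Nat.pow_le_pow_right (by omega) he
  rw [pow_one] at this
  omega

/-- the final case analysis once `r` divides one of the remaining factors -/
theorem foI_cases {q r d : ℕ} [Fact r.Prime] (hr2 : r ≠ 2) (hq : 1 < q) (hrq : ¬ r ∣ q)
    (plus : Bool) (e : ℕ) (R : ℕ)
    (hR : r ∣ q ^ e * R)
    (hRcases : r ∣ R → (∃ j, Odd j ∧ j < d ∧ r ∣ q ^ (2 * j) - 1) ∨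
      (Odd d ∧ r ∣ (if plus then q ^ d - 1 else q ^ d + 1))) :
    (Odd (orderOf ((q : ℕ) : ZMod r)) ∧ orderOf ((q : ℕ) : ZMod r) ≤ d ∧
      (orderOf ((q : ℕ) : ZMod r) = d → plus = true)) ∨
    (∃ h, orderOf ((q : ℕ) : ZMod r) = 2 * h ∧ Odd h ∧ h ≤ d ∧ (h = d → plus = false) ∧
      r ∣ q ^ h + 1) := by
  have hr : r.Prime := Fact.out
  have hRr : r ∣ R := by
    rcases (Nat.Prime.dvd_mul hr).1 hR with h4 | h4
    · exact absurd (hr.dvd_of_dvd_pow h4) hrq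
    · exact h4
  rcases hRcases hRr with ⟨j, hj, hjd, hrj⟩ | ⟨hd, hE⟩
  · rcases foI_of_dvd_odd hq hj hrj with ⟨h1, h2, -⟩ | ⟨h', h1, h2, h3, h4⟩
    · exact Or.inl ⟨h1, by omega, fun h => by omega⟩
    · exact Or.inr ⟨h', h1, h2, by omega, fun h => by omega, h4⟩
  · have hpos : 1 ≤ q ^ d := Nat.one_le_pow _ _ (by omega)
    have hfac : q ^ (2 * d) - 1 = (q ^ d - 1) * (q ^ d + 1) := by
      obtain ⟨b, hb⟩ : ∃ b, q ^ d = b + 1 := ⟨q ^ d - 1, by omega⟩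
      rw [mul_comm 2 d, pow_mul, hb, Nat.add_sub_cancel]
      have : (b + 1) ^ 2 = b * (b + 1 + 1) + 1 := by ring
      rw [this, Nat.add_sub_cancel]
    cases plus with
    | true =>
      simp only [if_true] at hE
      have h2d : r ∣ q ^ (2 * d) - 1 := by
        rw [hfac]
        exact Dvd.dvd.mul_right hE _
      rcases foI_of_dvd_odd hq hd h2d with ⟨h1, h2, -⟩ | ⟨h', h1, h2, h3, h4⟩
      · exact Or.inl ⟨h1, h2, fun _ => rfl⟩
      · exfalso
        have hcd := (Cfsg.Agent.Lib.Helper1.TISp.dvd_pow_sub_one_iff r q d (by omega)).1 hE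
        rw [h1] at hcd
        have h2d' : 2 ∣ d := (Dvd.intro _ rfl).trans hcd
        obtain ⟨t, ht⟩ := h2d'
        obtain ⟨s, hs⟩ := hd
        omega
    | false =>
      simp only [Bool.false_eq_true, if_false] at hE
      have h2d : r ∣ q ^ (2 * d) - 1 := by
        rw [hfac]
        exact Dvd.dvd.mul_left hE _
      rcases foI_of_dvd_odd hq hd h2d with ⟨h1, h2, h3⟩ | ⟨h', h1, h2, h3, h4⟩
      · exfalso
        have h5 : r ∣ q ^ d - 1 :=
          (Cfsg.Agent.Lib.Helper1.TISp.dvd_pow_sub_one_iff r q d (by omega)).2 h3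
        have h6 : r ∣ (q ^ d + 1) - (q ^ d - 1) := Nat.dvd_sub hE h5
        rw [show (q ^ d + 1) - (q ^ d - 1) = 2 by omega] at h6
        exact hr2 ((Nat.prime_dvd_prime_iff_eq hr Nat.prime_two).1 h6)
      · exact Or.inr ⟨h', h1, h2, h3, fun _ => rfl, h4⟩

theorem order_cases_O {q r d : ℕ} [Fact r.Prime] (hr2 : r ≠ 2) (hq : 1 < q) (hrq : ¬ r ∣ q)
    (hd : 1 ≤ d) (plus : Bool) (N1 : ℕ)
    (hN1odd : ∀ m, d = 2 * m + 1 →
      N1 = 2 * (q ^ 2) ^ (m ^ 2) * ∏ i ∈ Finset.range m, ((q ^ 2) ^ (2 * (i + 1)) - 1))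
    (hN1even : ∀ m, d = 2 * m →
      N1 = 2 * (q ^ 2) ^ (m * (m - 1)) * (if plus then (q ^ 2) ^ m - 1 else (q ^ 2) ^ m + 1) *
        ∏ i ∈ Finset.range (m - 1), ((q ^ 2) ^ (2 * (i + 1)) - 1))
    (h : r * N1 ∣ 2 * q ^ (d * (d - 1)) * (if plus then q ^ d - 1 else q ^ d + 1) *
      ∏ i ∈ Finset.range (d - 1), (q ^ (2 * (i + 1)) - 1)) :
    (Odd (orderOf ((q : ℕ) : ZMod r)) ∧ orderOf ((q : ℕ) : ZMod r) ≤ d ∧
      (orderOf ((q : ℕ) : ZMod r) = d → plus = true)) ∨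
    (∃ h, orderOf ((q : ℕ) : ZMod r) = 2 * h ∧ Odd h ∧ h ≤ d ∧ (h = d → plus = false) ∧
      r ∣ q ^ h + 1) := by
  have hr : r.Prime := Fact.out
  have hgpos : ∀ j, 1 ≤ j → 0 < q ^ (2 * j) - 1 := fun j hj => foI_pow_pos hq _ (by omega)
  have hA : ∀ m, ∏ i ∈ Finset.range m, ((q ^ 2) ^ (2 * (i + 1)) - 1) =
      ∏ i ∈ Finset.range m, (q ^ (2 * (2 * (i + 1))) - 1) := by
    intro m
    refine Finset.prod_congr rfl (fun i _ => ?_)
    rw [← pow_mul]
  have hPe_pos : ∀ m, 0 < ∏ i ∈ Finset.range m, (q ^ (2 * (2 * (i + 1))) - 1) := by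
    intro m
    exact Finset.prod_pos (fun i _ => hgpos _ (by omega))
  rcases Nat.even_or_odd' d with ⟨m, hm | hm⟩
  · -- `d = 2 m`
    have hm1 : 1 ≤ m := by omega
    have hN1 := hN1even m hm
    rw [hA] at hN1
    have hd1 : d - 1 = 2 * (m - 1) + 1 := by omega
    rw [hd1, Finset.prod_range_succ] at h
    have hsplit := feE_split (fun j => q ^ (2 * j) - 1) 2 (m - 1) (by norm_num)
    beta_reduce at hsplit
    rw [hsplit] at h
    have hE : (if plus then (q ^ 2) ^ m - 1 else (q ^ 2) ^ m + 1) =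
        (if plus then q ^ d - 1 else q ^ d + 1) := by
      rw [← pow_mul, ← hm]
    rw [hE] at hN1
    set E := (if plus then q ^ d - 1 else q ^ d + 1) with hEdef
    have hEpos : 0 < E := by
      rw [hEdef]
      split_ifs
      · exact foI_pow_pos hq d hd
      · omega
    set Pe := ∏ i ∈ Finset.range (m - 1), (q ^ (2 * (2 * (i + 1))) - 1) with hPe
    set Po := ∏ i ∈ (Finset.range (2 * (m - 1))).filter (fun i => ¬ 2 ∣ i + 1),
      (q ^ (2 * (i + 1)) - 1) with hPo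
    obtain ⟨t, ht⟩ := h
    have hCpos : 0 < 2 * E * Pe := Nat.mul_pos (Nat.mul_pos (by norm_num) hEpos) (hPe_pos _)
    have h1 : 2 * E * Pe * (q ^ (d * (2 * (m - 1) + 1)) *
          (Po * (q ^ (2 * (2 * (m - 1) + 1)) - 1))) =
        2 * E * Pe * (r * ((q ^ 2) ^ (m * (m - 1)) * t)) := by
      rw [hN1] at ht
      calc 2 * E * Pe * (q ^ (d * (2 * (m - 1) + 1)) * (Po * (q ^ (2 * (2 * (m - 1) + 1)) - 1)))
          = 2 * q ^ (d * (2 * (m - 1) + 1)) * E *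
              (Pe * Po * (q ^ (2 * (2 * (m - 1) + 1)) - 1)) := by ring
        _ = r * (2 * (q ^ 2) ^ (m * (m - 1)) * E * Pe) * t := ht
        _ = 2 * E * Pe * (r * ((q ^ 2) ^ (m * (m - 1)) * t)) := by ring
    have h2 := Nat.eq_of_mul_eq_mul_left hCpos h1
    apply foI_cases hr2 hq hrq plus (d * (2 * (m - 1) + 1)) (Po * (q ^ (2 * (2 * (m - 1) + 1)) - 1))
      ⟨_, h2⟩
    intro hR
    left
    rcases (Nat.Prime.dvd_mul hr).1 hR with h4 | h4
    · obtain ⟨i, hi, hri⟩ := (Prime.dvd_finsetProd_iff (Nat.prime_iff.1 hr) _).1 h4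
      rw [Finset.mem_filter, Finset.mem_range] at hi
      refine ⟨i + 1, ?_, by omega, hri⟩
      rw [← Nat.not_even_iff_odd]
      intro hev
      exact hi.2 hev.two_dvd
    · exact ⟨2 * (m - 1) + 1, ⟨m - 1, rfl⟩, by omega, h4⟩
  · -- `d = 2 m + 1`
    have hN1 := hN1odd m hm
    rw [hA] at hN1
    have hd1 : d - 1 = 2 * m := by omega
    rw [hd1] at h
    have hsplit := feE_split (fun j => q ^ (2 * j) - 1) 2 m (by norm_num)
    beta_reduce at hsplit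
    rw [hsplit] at h
    set E := (if plus then q ^ d - 1 else q ^ d + 1) with hEdef
    set Pe := ∏ i ∈ Finset.range m, (q ^ (2 * (2 * (i + 1))) - 1) with hPe
    set Po := ∏ i ∈ (Finset.range (2 * m)).filter (fun i => ¬ 2 ∣ i + 1),
      (q ^ (2 * (i + 1)) - 1) with hPo
    obtain ⟨t, ht⟩ := h
    have hCpos : 0 < 2 * Pe := Nat.mul_pos (by norm_num) (hPe_pos _)
    have h1 : 2 * Pe * (q ^ (d * (2 * m)) * (E * Po)) =
        2 * Pe * (r * ((q ^ 2) ^ (m ^ 2) * t)) := by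
      rw [hN1] at ht
      calc 2 * Pe * (q ^ (d * (2 * m)) * (E * Po))
          = 2 * q ^ (d * (2 * m)) * E * (Pe * Po) := by ring
        _ = r * (2 * (q ^ 2) ^ (m ^ 2) * Pe) * t := ht
        _ = 2 * Pe * (r * ((q ^ 2) ^ (m ^ 2) * t)) := by ring
    have h2 := Nat.eq_of_mul_eq_mul_left hCpos h1
    apply foI_cases hr2 hq hrq plus (d * (2 * m)) (E * Po) ⟨_, h2⟩
    intro hR
    rcases (Nat.Prime.dvd_mul hr).1 hR with h4 | h4
    · right
      exact ⟨⟨m, hm⟩, h4⟩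
    · left
      obtain ⟨i, hi, hri⟩ := (Prime.dvd_finsetProd_iff (Nat.prime_iff.1 hr) _).1 h4
      rw [Finset.mem_filter, Finset.mem_range] at hi
      refine ⟨i + 1, ?_, by omega, hri⟩
      rw [← Nat.not_even_iff_odd]
      intro hev
      exact hi.2 hev.two_dvd

end Cfsg.Agent.Lib.Helper3.FEO
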