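import Mathlib
import Cfsg.Prelude

/-! S5977/S5978 board, FO-K: a quadratic field subalgebra `K` of a matrix algebra (`char ≠ 2`) is
`F ⊕ F·Jm` with `Jm² = ε` a nonsquare. -/

set_option autoImplicit false

namespace Cfsg.Agent.Lib.Helper3.FEO

open Module Matrix

theorem exists_gen {F : Type*} [Field F] (h2 : (2 : F) ≠ 0) {ι : Type} [Fintype ι] [DecidableEq ι]
    (K : Subalgebra F (Matrix ι ι F)) (hK : Cfsg.Geo.IsFieldSubalgebra 2 K) :
    ∃ (Jm : Matrix ι ι F) (ε : F), ¬ IsSquare ε ∧ Jm ∈ K ∧ Jm * Jm = ε • (1 : Matrix ι ι F) ∧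
      ∀ a ∈ K, ∃ α β : F, a = α • (1 : Matrix ι ι F) + β • Jm := by
  classical
  -- a generator
  have h1K : (1 : K) ≠ 0 := by
    intro h
    haveI : Subsingleton K :=
      ⟨fun a b => by rw [← mul_one a, ← mul_one b, h, mul_zero, mul_zero]⟩
    have h3 := Module.finrank_zero_of_subsingleton (R := F) (M := K)
    rw [hK.finrank_eq] at h3
    omega
  obtain ⟨θ, hθ⟩ := exists_linearIndependent_pair_of_one_lt_finrank
    (by rw [hK.finrank_eq]; norm_num) h1K
  have hθ' := LinearIndependent.pair_iff.1 hθ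
  set b : Basis (Fin 2) F K := basisOfLinearIndependentOfCardEqFinrank hθ
    (by rw [Fintype.card_fin, hK.finrank_eq]) with hb
  have hb0 : b 0 = 1 := by rw [hb, coe_basisOfLinearIndependentOfCardEqFinrank]; rfl
  have hb1 : b 1 = θ := by rw [hb, coe_basisOfLinearIndependentOfCardEqFinrank]; rfl
  have hdec : ∀ a ∈ K, ∃ α β : F, a = α • (1 : Matrix ι ι F) +
      β • (θ : Matrix ι ι F) := by
    intro a ha
    refine ⟨b.repr ⟨a, ha⟩ 0, b.repr ⟨a, ha⟩ 1, ?_⟩
    have h3 := b.sum_repr ⟨a, ha⟩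
    rw [Fin.sum_univ_two, hb0, hb1] at h3
    have h4 := congrArg Subtype.val h3
    simpa using h4.symm
  obtain ⟨t, s', hts'⟩ := hdec _ (K.mul_mem θ.2 θ.2)
  obtain ⟨s, hs⟩ : ∃ s : F, s' = s + s := ⟨s' / 2, by field_simp; ring⟩
  have hts : (θ : Matrix ι ι F) * θ =
      t • (1 : Matrix ι ι F) + (s + s) • θ := by rw [hts', hs]
  set j : Matrix ι ι F := (θ : Matrix ι ι F) - s • 1 with hj
  set ε : F := t + s ^ 2 with hε
  have hjK : j ∈ K := K.sub_mem θ.2 (K.smul_mem K.one_mem _)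
  have hjj : j * j = ε • (1 : Matrix ι ι F) := by
    rw [hj, sub_mul, mul_sub, mul_sub, hts]
    simp only [Matrix.smul_mul, Matrix.mul_smul, Matrix.one_mul, Matrix.mul_one]
    rw [hε]
    module
  have hjdec : ∀ a ∈ K, ∃ α β : F, a = α • (1 : Matrix ι ι F) + β • j := by
    intro a ha
    obtain ⟨α, β, hab⟩ := hdec a ha
    refine ⟨α + β * s, β, ?_⟩
    rw [hab, hj]
    module
  -- `K` has no zero divisors
  have hnzd : ∀ x ∈ K, ∀ z : Matrix ι ι F, x * z = 0 → x ≠ 0 → z = 0 := by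
    intro x hx z hxz hx0
    obtain ⟨y, hy, hxy⟩ := hK.inv x hx hx0
    have hyx : y * x = 1 := by rw [hK.comm y hy x hx]; exact hxy
    calc z = (y * x) * z := by rw [hyx, Matrix.one_mul]
      _ = y * (x * z) := Matrix.mul_assoc _ _ _
      _ = 0 := by rw [hxz, Matrix.mul_zero]
  have hjns : ∀ c : F, j ≠ c • (1 : Matrix ι ι F) := by
    intro c hc
    have h3 := hθ' (c + s) (-1) (by
      apply Subtype.ext
      have : (θ : Matrix ι ι F) = j + s • 1 := by
        rw [hj]; abel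
      show (c + s) • (1 : Matrix ι ι F) + (-1 : F) • (θ : Matrix ι ι F) = 0
      rw [this, hc]
      module)
    exact one_ne_zero (neg_eq_zero.1 h3.2)
  have hnonsq : ∀ c : F, c * c ≠ ε := by
    intro c hc
    have h3 : (j - c • 1) * (j + c • (1 : Matrix ι ι F)) = 0 := by
      rw [sub_mul, mul_add, mul_add, hjj, Matrix.mul_smul, Matrix.smul_mul, Matrix.smul_mul,
        Matrix.mul_one, Matrix.one_mul, Matrix.one_mul, ← hc]
      module
    have h4 := hnzd _ (K.sub_mem hjK (K.smul_mem K.one_mem _)) _ h3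
      (fun h => hjns c (sub_eq_zero.1 h))
    apply hjns (-c)
    rw [neg_smul]
    exact eq_neg_of_add_eq_zero_left h4
  refine ⟨j, ε, ?_, hjK, hjj, hjdec⟩
  rintro ⟨c, hc⟩
  exact hnonsq c hc.symm

end Cfsg.Agent.Lib.Helper3.FEO
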