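import Mathlib
import Cfsg.Prelude
import Cfsg.Agent.Lib.Helper3.FESp0

/-! S5975 package FE-H (leader helper3): explicit `4 × 4` computations with `stdJ ε`. -/

set_option autoImplicit false

namespace Cfsg.Agent.Lib.Helper3.FESp

open Module Matrix

theorem stdJ_anti_diag {F : Type*} [Field F] (ε : F) (s : Fin 2 → F) (hs : s 0 = - s 1) :
    Matrix.fromBlocks (Matrix.diagonal s) 0 0 (Matrix.diagonal s) * stdJ ε =
      -(stdJ ε * Matrix.fromBlocks (Matrix.diagonal s) 0 0 (Matrix.diagonal s)) := by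
  unfold stdJ
  rw [fromBlocks_multiply, fromBlocks_multiply, fromBlocks_neg]
  simp only [Matrix.mul_zero, Matrix.zero_mul, add_zero, zero_add, neg_zero]
  congr 1
  · ext i j
    fin_cases i <;> fin_cases j <;> simp [Matrix.vecMul_diagonal, hs, mul_comm]
  · ext i j
    fin_cases i <;> fin_cases j <;> simp [Matrix.vecMul_diagonal, hs, mul_comm]

/-- the model: `x' = [[0, P], [Q, 0]]`, `Q = diag(ε, 1)`, `P = -diag(ε⁻¹, 1)` -/
def feH_X (F : Type*) [Field F] (ε : F) : Matrix (Fin 2 ⊕ Fin 2) (Fin 2 ⊕ Fin 2) F :=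
  Matrix.fromBlocks 0 (-Matrix.diagonal ![ε⁻¹, 1]) (Matrix.diagonal ![ε, 1]) 0

theorem feH_PQ {F : Type*} [Field F] (ε : F) (hε : ε ≠ 0) :
    (-Matrix.diagonal ![ε⁻¹, 1] : Matrix (Fin 2) (Fin 2) F) * Matrix.diagonal ![ε, 1] = -1 := by
  ext i j
  fin_cases i <;> fin_cases j <;> simp [hε]

theorem feH_QP {F : Type*} [Field F] (ε : F) (hε : ε ≠ 0) :
    (Matrix.diagonal ![ε, 1] : Matrix (Fin 2) (Fin 2) F) * (-Matrix.diagonal ![ε⁻¹, 1]) = -1 := by
  ext i j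
  fin_cases i <;> fin_cases j <;> simp [hε]

theorem feH_sq {F : Type*} [Field F] (ε : F) (hε : ε ≠ 0) : feH_X F ε * feH_X F ε = -1 := by
  unfold feH_X
  rw [fromBlocks_multiply]
  simp only [Matrix.mul_zero, Matrix.zero_mul, add_zero, zero_add]
  rw [feH_PQ ε hε, feH_QP ε hε, ← fromBlocks_one, fromBlocks_neg]
  simp only [neg_zero]

theorem feH_comm {F : Type*} [Field F] (ε : F) (hε : ε ≠ 0) :
    feH_X F ε * stdJ ε = stdJ ε * feH_X F ε := by
  unfold feH_X stdJ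
  rw [fromBlocks_multiply, fromBlocks_multiply]
  simp only [Matrix.mul_zero, Matrix.zero_mul, add_zero, zero_add]
  congr 1
  · ext i j
    fin_cases i <;> fin_cases j <;> simp [hε]
  · ext i j
    fin_cases i <;> fin_cases j <;> simp

theorem feH_symp {F : Type*} [Field F] (ε : F) (hε : ε ≠ 0) :
    (feH_X F ε)ᵀ * Matrix.J (Fin 2) F * feH_X F ε = Matrix.J (Fin 2) F := by
  unfold feH_X Matrix.J
  rw [fromBlocks_transpose, fromBlocks_multiply, fromBlocks_multiply]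
  simp only [Matrix.mul_zero, Matrix.zero_mul, add_zero, zero_add, transpose_zero,
    transpose_neg, diagonal_transpose, Matrix.mul_one, Matrix.mul_neg, Matrix.neg_mul, neg_neg]
  simp only [neg_zero]
  congr 1
  · ext i j
    fin_cases i <;> fin_cases j <;> simp [hε]
  · ext i j
    fin_cases i <;> fin_cases j <;> simp [hε]

theorem exists_comm_model {F : Type*} [Field F] (ε : F) (hε : ε ≠ 0) :
    ∃ x' ∈ Cfsg.spGL 2 F,
      (x' : Matrix (Fin 2 ⊕ Fin 2) (Fin 2 ⊕ Fin 2) F) *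
        (x' : Matrix (Fin 2 ⊕ Fin 2) (Fin 2 ⊕ Fin 2) F) = -1 ∧
      (x' : Matrix (Fin 2 ⊕ Fin 2) (Fin 2 ⊕ Fin 2) F) * stdJ ε =
        stdJ ε * (x' : Matrix (Fin 2 ⊕ Fin 2) (Fin 2 ⊕ Fin 2) F) := by
  have hsq := feH_sq ε hε
  refine ⟨⟨feH_X F ε, -feH_X F ε, by rw [mul_neg, hsq, neg_neg], by rw [neg_mul, hsq, neg_neg]⟩,
    ?_, hsq, feH_comm ε hε⟩
  intro u v
  change Cfsg.sympForm 2 F (feH_X F ε *ᵥ u) (feH_X F ε *ᵥ v) = Cfsg.sympForm 2 F u v
  unfold Cfsg.sympForm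
  rw [Matrix.mulVec_mulVec, ← Matrix.vecMul_transpose (feH_X F ε) u, ← Matrix.dotProduct_mulVec,
    Matrix.mulVec_mulVec, ← Matrix.mul_assoc, feH_symp ε hε]

end Cfsg.Agent.Lib.Helper3.FESp
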