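import Mathlib
import Cfsg.Prelude
import Cfsg.Agent.Lib.Helper3.FESp0

/-! S5975 package FE-S (leader helper3): `semilinear_bound`. -/

set_option autoImplicit false

namespace Cfsg.Agent.Lib.Helper3.FESp

open Module Matrix

theorem feS_injective {F : Type*} [Field F] {ι : Type} [Fintype ι] [DecidableEq ι]
    (a ai : Matrix ι ι F) (h : ai * a = 1) : Function.Injective (Matrix.toLin' a) := by
  apply Function.LeftInverse.injective (g := Matrix.toLin' ai)
  intro w
  rw [Matrix.toLin'_apply, Matrix.toLin'_apply, mulVec_mulVec, h, one_mulVec]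

theorem semilinear_bound {F : Type*} [Field F] {ι : Type} [Fintype ι] [DecidableEq ι]
    {k : ℕ} {K : Subalgebra F (Matrix ι ι F)} (hK : Cfsg.Geo.IsFieldSubalgebra k K)
    (y : GL ι F) (hy : y ∈ Cfsg.Geo.subalgebraNormalizer K)
    (hnl : ¬ KLin K (y : Matrix ι ι F)) (c : F) :
    2 * finrank F (LinearMap.ker (Matrix.toLin' (y : Matrix ι ι F) -
      c • (1 : (ι → F) →ₗ[F] (ι → F)))) ≤ Fintype.card ι := by
  classical
  unfold KLin at hnl
  push Not at hnl
  obtain ⟨a, haK, hne⟩ := hnl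
  have hYY : ((y⁻¹ : GL ι F) : Matrix ι ι F) * (y : Matrix ι ι F) = 1 := by
    rw [← Units.val_mul, inv_mul_cancel, Units.val_one]
  by_cases hc : c = 0
  · subst hc
    have hker : LinearMap.ker (Matrix.toLin' (y : Matrix ι ι F) -
        (0 : F) • (1 : (ι → F) →ₗ[F] (ι → F))) = ⊥ := by
      rw [zero_smul, sub_zero, LinearMap.ker_eq_bot]
      exact feS_injective _ _ hYY
    rw [hker, finrank_bot]
    exact Nat.zero_le _
  · set Y : Matrix ι ι F := (y : Matrix ι ι F) with hY
    set Yi : Matrix ι ι F := ((y⁻¹ : GL ι F) : Matrix ι ι F) with hYi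
    have ha'K : Y * a * Yi ∈ K := (hy a).1 haK
    have ha'Y : Y * a * Yi * Y = Y * a := by
      rw [mul_assoc, hYY, mul_one]
    have hbK : Y * a * Yi - a ∈ K := K.sub_mem ha'K haK
    have hb0 : Y * a * Yi - a ≠ 0 := by
      intro h0
      apply hne
      rw [← ha'Y, sub_eq_zero.1 h0]
    obtain ⟨b', hb'K, hbb'⟩ := hK.inv _ hbK hb0
    have hb'b : b' * (Y * a * Yi - a) = 1 := by
      rw [hK.comm b' hb'K _ hbK]; exact hbb'
    have ha0 : a ≠ 0 := by
      intro h0
      apply hne
      rw [h0, mul_zero, zero_mul]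
    obtain ⟨ai, haiK, haai⟩ := hK.inv a haK ha0
    have haia : ai * a = 1 := by
      rw [hK.comm ai haiK a haK]; exact haai
    set W := LinearMap.ker (Matrix.toLin' Y - c • (1 : (ι → F) →ₗ[F] (ι → F))) with hWdef
    have hW : ∀ w, w ∈ W ↔ Y *ᵥ w = c • w := by
      intro w
      rw [hWdef, LinearMap.mem_ker, LinearMap.sub_apply, sub_eq_zero, Matrix.toLin'_apply,
        LinearMap.smul_apply, Module.End.one_apply]
    have hdisj : W ⊓ W.map (Matrix.toLin' a) = ⊥ := by
      rw [eq_bot_iff]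
      rintro u ⟨hu1, hu2⟩
      obtain ⟨w, hw, rfl⟩ := (Submodule.mem_map).1 hu2
      rw [Submodule.mem_bot]
      rw [SetLike.mem_coe, hW, Matrix.toLin'_apply] at hu1
      have h2 : Y *ᵥ w = c • w := (hW w).1 hw
      have h3 : Y *ᵥ (a *ᵥ w) = c • ((Y * a * Yi) *ᵥ w) := by
        calc Y *ᵥ (a *ᵥ w) = (Y * a) *ᵥ w := by rw [mulVec_mulVec]
          _ = (Y * a * Yi * Y) *ᵥ w := by rw [ha'Y]
          _ = (Y * a * Yi) *ᵥ (Y *ᵥ w) := by rw [mulVec_mulVec]
          _ = c • ((Y * a * Yi) *ᵥ w) := by rw [h2, mulVec_smul]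
      have h4 : c • ((Y * a * Yi - a) *ᵥ w) = 0 := by
        rw [sub_mulVec, smul_sub, ← h3, hu1, sub_self]
      have h5 : (Y * a * Yi - a) *ᵥ w = 0 := (smul_eq_zero.1 h4).resolve_left hc
      have h6 : w = 0 := by
        have := congrArg (fun v => b' *ᵥ v) h5
        simp only [mulVec_mulVec, hb'b, one_mulVec, mulVec_zero] at this
        exact this
      rw [h6, map_zero]
    have hmap : finrank F (W.map (Matrix.toLin' a)) = finrank F W :=
      (LinearEquiv.finrank_eq
        (Submodule.equivMapOfInjective (Matrix.toLin' a) (feS_injective a ai haia) W)).symm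
    have hsum := Submodule.finrank_sup_add_finrank_inf_eq W (W.map (Matrix.toLin' a))
    rw [hdisj, finrank_bot, add_zero, hmap] at hsum
    have hle := Submodule.finrank_le (W ⊔ W.map (Matrix.toLin' a))
    rw [Module.finrank_fintype_fun_eq_card] at hle
    omega

end Cfsg.Agent.Lib.Helper3.FESp
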