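import Mathlib
import Cfsg.Prelude
import Cfsg.Agent.Lib.Helper2.SpIsom
import Cfsg.Agent.Lib.Helper3.FESp0

/-! S5975 package FE-T2 (leader helper3): `invol_klin_false`. -/

set_option autoImplicit false

namespace Cfsg.Agent.Lib.Helper3.FESp

open Module Matrix Cfsg.Agent.Lib.Helper2.SpIsom

theorem invol_klin_false {F : Type*} [Field F] {d : ℕ} (h2 : (2 : F) ≠ 0)
    {K : Subalgebra F (Matrix (Fin d ⊕ Fin d) (Fin d ⊕ Fin d) F)}
    (hK : Cfsg.Geo.IsFieldSubalgebra 2 K)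
    (hKf : Cfsg.Geo.IsSelfAdjointFor (Cfsg.sympForm d F) K)
    (hKalt : ∀ a ∈ K, ∀ v : Fin d ⊕ Fin d → F, Cfsg.sympForm d F (a *ᵥ v) v = 0)
    (y : GL (Fin d ⊕ Fin d) F) (hy : y ∈ Cfsg.spGL d F)
    (hyy : (y : Matrix (Fin d ⊕ Fin d) (Fin d ⊕ Fin d) F) *
      (y : Matrix (Fin d ⊕ Fin d) (Fin d ⊕ Fin d) F) = 1)
    (hl : KLin K (y : Matrix (Fin d ⊕ Fin d) (Fin d ⊕ Fin d) F)) :
    finrank F (LinearMap.ker (Matrix.toLin' (y : Matrix (Fin d ⊕ Fin d) (Fin d ⊕ Fin d) F) -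
      (-1 : F) • (1 : (Fin d ⊕ Fin d → F) →ₗ[F] (Fin d ⊕ Fin d → F)))) ≠ 2 := by
  classical
  intro hfin
  set Y : Matrix (Fin d ⊕ Fin d) (Fin d ⊕ Fin d) F :=
    (y : Matrix (Fin d ⊕ Fin d) (Fin d ⊕ Fin d) F) with hY
  set W := LinearMap.ker (Matrix.toLin' Y -
      (-1 : F) • (1 : (Fin d ⊕ Fin d → F) →ₗ[F] (Fin d ⊕ Fin d → F))) with hWdef
  have hW : ∀ w, w ∈ W ↔ Y *ᵥ w = -w := by
    intro w
    rw [hWdef, LinearMap.mem_ker, LinearMap.sub_apply, sub_eq_zero, Matrix.toLin'_apply,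
      LinearMap.smul_apply, Module.End.one_apply, neg_smul, one_smul]
  have hiso : ∀ u v, sympBilin d F (Y *ᵥ u) (Y *ᵥ v) = sympBilin d F u v := by
    intro u v
    rw [sympBilin_apply, sympBilin_apply]
    exact hy u v
  -- a nonzero vector of `W`
  have hpos : 0 < finrank F W := by rw [hfin]; norm_num
  obtain ⟨w', hw'⟩ := Module.finrank_pos_iff_exists_ne_zero.1 hpos
  set w : Fin d ⊕ Fin d → F := (w' : Fin d ⊕ Fin d → F) with hw
  have hwW : w ∈ W := w'.2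
  have hw0 : w ≠ 0 := fun h0 => hw' (Subtype.ext h0)
  have hYw : Y *ᵥ w = -w := (hW w).1 hwW
  -- the map `a ↦ a w` from `K` to `W`
  have hmem : ∀ a : K, (a : Matrix (Fin d ⊕ Fin d) (Fin d ⊕ Fin d) F) *ᵥ w ∈ W := by
    intro a
    rw [hW, mulVec_mulVec, hl a.1 a.2, ← mulVec_mulVec, hYw, mulVec_neg]
  let ψ : ↥K →ₗ[F] (Fin d ⊕ Fin d → F) :=
    { toFun := fun a => (a : Matrix (Fin d ⊕ Fin d) (Fin d ⊕ Fin d) F) *ᵥ w
      map_add' := fun a b => by
        simp only [Subalgebra.coe_add, add_mulVec]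
      map_smul' := fun c a => by
        simp only [Subalgebra.coe_smul, smul_mulVec, RingHom.id_apply] }
  let φ : ↥K →ₗ[F] ↥W := ψ.codRestrict W hmem
  have hinj : Function.Injective φ := by
    rw [← LinearMap.ker_eq_bot, LinearMap.ker_eq_bot']
    intro a ha
    have ha0 : (a : Matrix (Fin d ⊕ Fin d) (Fin d ⊕ Fin d) F) *ᵥ w = 0 := congrArg Subtype.val ha
    by_contra hne
    have hne' : (a : Matrix (Fin d ⊕ Fin d) (Fin d ⊕ Fin d) F) ≠ 0 := fun h0 => hne (Subtype.ext h0)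
    obtain ⟨a', ha'K, haa'⟩ := hK.inv a.1 a.2 hne'
    have ha'a : a' * (a : Matrix (Fin d ⊕ Fin d) (Fin d ⊕ Fin d) F) = 1 := by
      rw [hK.comm a' ha'K a.1 a.2]; exact haa'
    apply hw0
    have := congrArg (fun v => a' *ᵥ v) ha0
    simp only [mulVec_mulVec, ha'a, one_mulVec, mulVec_zero] at this
    exact this
  have : FiniteDimensional F ↥K :=
    Module.finite_of_finrank_pos (by rw [hK.finrank_eq]; norm_num)
  have hsurj : Function.Surjective φ :=
    (LinearMap.injective_iff_surjective_of_finrank_eq_finrank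
      (by rw [hK.finrank_eq, hfin])).1 hinj
  -- `w` is orthogonal to `W`
  have hperpW : ∀ u ∈ W, sympBilin d F w u = 0 := by
    intro u hu
    obtain ⟨a, ha⟩ := hsurj ⟨u, hu⟩
    have hau : (a : Matrix (Fin d ⊕ Fin d) (Fin d ⊕ Fin d) F) *ᵥ w = u := congrArg Subtype.val ha
    rw [← hau, sympBilin_apply, ← hKf a.1 a.2 w w]
    exact hKalt a.1 a.2 w
  -- `w` is orthogonal to the fixed vectors
  have hperpFix : ∀ u, Y *ᵥ u = u → sympBilin d F w u = 0 := by
    intro u hu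
    have h1 := hiso w u
    rw [hYw, hu, map_neg, LinearMap.neg_apply] at h1
    have h3 : (2 : F) * sympBilin d F w u = 0 := by linear_combination (-1 : F) * h1
    exact (mul_eq_zero.1 h3).resolve_left h2
  -- conclusion
  apply hw0
  apply sympForm_nondeg w
  intro v
  rw [← sympBilin_apply]
  have hYY : ∀ v, Y *ᵥ (Y *ᵥ v) = v := by
    intro v
    rw [mulVec_mulVec, hyy, one_mulVec]
  have hp : sympBilin d F w (v + Y *ᵥ v) = 0 :=
    hperpFix _ (by rw [mulVec_add, hYY, add_comm])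
  have hm : sympBilin d F w (v - Y *ᵥ v) = 0 :=
    hperpW _ (by rw [hW, mulVec_sub, hYY, neg_sub])
  rw [map_add] at hp
  rw [map_sub] at hm
  have h3 : (2 : F) * sympBilin d F w v = 0 := by linear_combination hp + hm
  exact (mul_eq_zero.1 h3).resolve_left h2

end Cfsg.Agent.Lib.Helper3.FESp
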