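import Mathlib

/-!
# Package PK-CYC for S2413 (helper5): signed cycles and diagonal matrices in `SL_m`
-/

set_option autoImplicit false

namespace Cfsg.Agent.Lib.Helper5.OrthGen

open Matrix

variable {m : ℕ} {F : Type*} [Field F]

/-- the sign attached to column `b` -/
def cycSgn (F : Type*) [Field F] {m : ℕ} (i b : Fin m) : F := if b = i then (-1) ^ (i : ℕ) else 1

/-- the matrix of the signed cycle -/
def cycMat (F : Type*) [Field F] {m : ℕ} (i : Fin m) : Matrix (Fin m) (Fin m) F :=
  Matrix.of fun a b => if a = Fin.cycleRange i b then cycSgn F i b else 0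

theorem cycSgn_mul_self (i b : Fin m) : cycSgn F i b * cycSgn F i b = 1 := by
  unfold cycSgn
  split_ifs
  · rw [← mul_pow]; simp
  · simp

theorem cycMat_eq (i : Fin m) :
    cycMat F i = ((Fin.cycleRange i)⁻¹ : Equiv.Perm (Fin m)).toPEquiv.toMatrix *
      Matrix.diagonal (cycSgn F i) := by
  ext a b
  rw [Matrix.mul_diagonal]
  simp only [cycMat, Matrix.of_apply, PEquiv.toMatrix_apply, Equiv.toPEquiv_apply,
    Option.mem_def, Option.some.injEq]
  by_cases h : a = Fin.cycleRange i b
  · have : ((Fin.cycleRange i)⁻¹ : Equiv.Perm (Fin m)) a = b := by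
      rw [h]; simp
    simp [h]
  · have : ¬ (Equiv.symm (Fin.cycleRange i)) a = b := by
      intro h'
      apply h
      rw [← h']; simp
    simp [h, this]

theorem cycMat_det (i : Fin m) : (cycMat F i).det = 1 := by
  rw [cycMat_eq, Matrix.det_mul, Matrix.det_permutation, Matrix.det_diagonal,
    Equiv.Perm.sign_inv, Fin.sign_cycleRange]
  have : ∏ b : Fin m, cycSgn F i b = (-1) ^ (i : ℕ) := by
    unfold cycSgn
    rw [Finset.prod_ite_eq']
    simp
  rw [this]
  push_cast
  rw [← mul_pow]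
  simp

/-- the signed cycle `e_k ↦ e_{k+1}` (`k < i`), `e_i ↦ (-1)^i e_0`, `e_k ↦ e_k` (`k > i`),
of determinant one -/
noncomputable def cycSL (F : Type*) [Field F] {m : ℕ} (i : Fin m) :
    Matrix.SpecialLinearGroup (Fin m) F := ⟨cycMat F i, cycMat_det i⟩

theorem cycSL_apply (i a b : Fin m) :
    (cycSL F i : Matrix (Fin m) (Fin m) F) a b =
      if a = Fin.cycleRange i b then (if b = i then (-1) ^ (i : ℕ) else 1) else 0 := rfl

theorem cycMat_transpose_mul (i : Fin m) : (cycMat F i)ᵀ * cycMat F i = 1 := by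
  ext b b'
  rw [Matrix.mul_apply]
  simp only [Matrix.transpose_apply, cycMat, Matrix.of_apply]
  by_cases h : b = b'
  · subst h
    rw [Finset.sum_eq_single (Fin.cycleRange i b)]
    · simp [cycSgn_mul_self]
    · intro a _ ha; simp [ha]
    · intro h; exact absurd (Finset.mem_univ _) h
  · rw [Matrix.one_apply_ne h]
    apply Finset.sum_eq_zero
    intro a _
    by_cases h1 : a = Fin.cycleRange i b
    · have h2 : a ≠ Fin.cycleRange i b' := by
        intro h2
        apply h
        exact (Fin.cycleRange i).injective (h1.symm.trans h2)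
      simp [h2]
    · simp [h1]

/-- the inverse is the transpose -/
theorem cycSL_inv_apply (i a b : Fin m) :
    ((cycSL F i)⁻¹ : Matrix.SpecialLinearGroup (Fin m) F).1 b a =
      (cycSL F i : Matrix (Fin m) (Fin m) F) a b := by
  let T : Matrix.SpecialLinearGroup (Fin m) F :=
    ⟨(cycMat F i)ᵀ, by rw [Matrix.det_transpose]; exact cycMat_det i⟩
  have hT : T * cycSL F i = 1 := by
    apply Subtype.ext
    exact cycMat_transpose_mul i
  have : (cycSL F i)⁻¹ = T := (eq_inv_of_mul_eq_one_left hT).symm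
  rw [this]
  rfl

/-- diagonal matrices of determinant one -/
noncomputable def diagSL (μ : Fin m → Fˣ) (h : ∏ i, μ i = 1) :
    Matrix.SpecialLinearGroup (Fin m) F :=
  ⟨Matrix.diagonal (fun i => (μ i : F)), by
    rw [Matrix.det_diagonal]
    have := congrArg (fun u : Fˣ => (u : F)) h
    simpa [Units.coe_prod] using this⟩

theorem diagSL_apply (μ : Fin m → Fˣ) (h : ∏ i, μ i = 1) (a b : Fin m) :
    (diagSL μ h : Matrix (Fin m) (Fin m) F) a b = if a = b then (μ a : F) else 0 := by
  show Matrix.diagonal (fun i => (μ i : F)) a b = _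
  rw [Matrix.diagonal_apply]

theorem diagSL_inv_eq (μ : Fin m → Fˣ) (h : ∏ i, μ i = 1) :
    (diagSL μ h)⁻¹ = diagSL (fun i => (μ i)⁻¹) (by rw [Finset.prod_inv_distrib, h, inv_one]) := by
  symm
  apply eq_inv_of_mul_eq_one_left
  apply Subtype.ext
  show Matrix.diagonal (fun i => (((μ i)⁻¹ : Fˣ) : F)) * Matrix.diagonal (fun i => (μ i : F)) = 1
  rw [Matrix.diagonal_mul_diagonal]
  simp

theorem diagSL_inv_apply (μ : Fin m → Fˣ) (h : ∏ i, μ i = 1) (a b : Fin m) :
    ((diagSL μ h)⁻¹ : Matrix.SpecialLinearGroup (Fin m) F).1 a b =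
      if a = b then ((μ a)⁻¹ : Fˣ).1 else 0 := by
  rw [diagSL_inv_eq]
  exact diagSL_apply _ _ a b

theorem diagSL_pow (μ : Fin m → Fˣ) (h : ∏ i, μ i = 1) (k : ℕ) (hk : ∀ i, μ i ^ k = 1) :
    diagSL μ h ^ k = 1 := by
  apply Subtype.ext
  rw [Matrix.SpecialLinearGroup.coe_pow]
  show Matrix.diagonal (fun i => (μ i : F)) ^ k = 1
  rw [Matrix.diagonal_pow]
  have : (fun i => (μ i : F)) ^ k = fun _ => (1 : F) := by
    funext i
    have := congrArg (fun u : Fˣ => (u : F)) (hk i)
    simpa using this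
  rw [this]
  exact Matrix.diagonal_one

end Cfsg.Agent.Lib.Helper5.OrthGen
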