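import Mathlib
import Cfsg.Prelude
import Cfsg.Agent.Lib.Helper7.OmTwoB

/-! S2415 (helper7) package PK-B4: `chase_full`. -/

set_option autoImplicit false

namespace Cfsg.Agent.Lib.Helper7.OmTwo

open Matrix Cfsg.Agent.H9Orth Cfsg.Agent.Lib.Helper2.CDG

variable {F : Type*} [Field F] {ι : Type} [Fintype ι] [DecidableEq ι]
variable {Q : QuadraticForm F (ι → F)}
variable {hQ : (QuadraticMap.polarBilin Q).Nondegenerate}
  {K : Subgroup ↥(Cfsg.isometryGroup F ⇑Q)}
  {l : ℕ} {e f : ℕ → ι → F} {z₁ z₂ : ι → F} {N₀ g t : F} {y : ↥(Cfsg.isometryGroup F ⇑Q)}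

theorem b4_sum {u : ι → F} (hu : Q u = 0) (s : Finset ℕ) (w : ℕ → ι → F)
    (h : ∀ k ∈ s, EK hQ K u (w k)) : EK hQ K u (∑ k ∈ s, w k) := by
  classical
  induction s using Finset.induction_on with
  | empty => rw [Finset.sum_empty]; exact ek_zero u hu
  | insert a s ha ih =>
    rw [Finset.sum_insert ha]
    exact ek_add (h a (Finset.mem_insert_self a s))
      (ih (fun k hk => h k (Finset.mem_insert_of_mem hk)))

/-- the polar form of `e 0` with a vector written in the frame picks the `f 0`-coordinate -/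
theorem b4_polar (fr : Fr Q l e f z₁ z₂ N₀) (a b : ℕ → F) (α β : F) :
    QuadraticMap.polar (⇑Q) (e 0)
      (∑ k ∈ Finset.range (l + 1), (a k • e k + b k • f k) + α • z₁ + β • z₂) = b 0 := by
  have hlin : ∀ v, QuadraticMap.polar (⇑Q) (e 0) v = QuadraticMap.polarBilin Q (e 0) v := by
    intro v; rfl
  rw [hlin, map_add, map_add, map_sum, map_smul, map_smul, ← hlin, ← hlin,
    fr.ez₁ 0 (by omega), fr.ez₂ 0 (by omega), smul_zero, smul_zero, add_zero, add_zero]
  rw [Finset.sum_eq_single 0]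
  · rw [map_add, map_smul, map_smul, ← hlin, ← hlin, fr.ee 0 0 (by omega) (by omega),
      fr.ef 0 0 (by omega) (by omega), if_pos rfl]
    simp
  · intro k hk hk0
    have hkl : k ≤ l := by
      have := Finset.mem_range.mp hk; omega
    rw [map_add, map_smul, map_smul, ← hlin, ← hlin, fr.ee 0 k (by omega) hkl,
      fr.ef 0 k (by omega) hkl, if_neg (Ne.symm hk0)]
    simp
  · intro h
    exact absurd (Finset.mem_range.mpr (by omega)) h

theorem chase_full (hl : 2 ≤ l) (fr : Fr Q l e f z₁ z₂ N₀)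
    (hspan : ∀ v : ι → F, ∃ (a b : ℕ → F) (α β : F),
      v = ∑ k ∈ Finset.range (l + 1), (a k • e k + b k • f k) + α • z₁ + β • z₂)
    (hu : Upper hQ K l e f) (hp : Pos hQ K l e f z₁ z₂) :
    Full hQ (K.map (Cfsg.isometryGroup F ⇑Q).subtype) (e 0) := by
  have _ := hl
  apply full_of_ek
  intro v hv
  obtain ⟨a, b, α, β, rfl⟩ := hspan v
  rw [b4_polar fr] at hv
  have he0 : Q (e 0) = 0 := fr.qe 0 (by omega)
  refine ek_add (ek_add (b4_sum he0 _ _ ?_) (hp.2.1 α)) (hp.2.2.1 β)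
  intro k hk
  have hkl : k ≤ l := by
    have := Finset.mem_range.mp hk; omega
  rcases Nat.eq_zero_or_pos k with h0 | h0
  · subst h0
    rw [hv, zero_smul, add_zero]
    exact ek_self (e 0) he0 (a 0)
  · refine ek_add (hp.1 k h0 hkl (a k)) ?_
    rcases Nat.lt_or_ge k 2 with h2 | h2
    · have : k = 1 := by omega
      subst this
      exact hp.2.2.2 (b 1)
    · exact hu.2 0 k h0 hkl h2 (b k)

end Cfsg.Agent.Lib.Helper7.OmTwo
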