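import Mathlib
import Cfsg.Prelude
import Cfsg.Agent.Lib.Helper7.OmTwoA
import Cfsg.Agent.Lib.Helper9.Siegel1
import Cfsg.Agent.Lib.Lead.OmTwoB4
import Cfsg.Agent.Lib.Helper3.OPlusDefs

set_option autoImplicit false

/-! The root-group chase for the two-generation of `Ω⁺_{2m}(q)`, `m = p + 2 ≥ 4` (abstract form).
Package PK-CHASE of S2414 (leader helper3). -/

namespace Cfsg.Agent.Lib.Helper3.OPlus

open Matrix Cfsg.Agent.H9Orth Cfsg.Agent.H9Sieg Cfsg.Agent.Lib.Helper7.OmTwo

variable {F : Type*} [Field F] {ι : Type} [Fintype ι] [DecidableEq ι]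
variable {Q : QuadraticForm F (ι → F)}

section tools

variable {hQ : (QuadraticMap.polarBilin Q).Nondegenerate}
  {K : Subgroup ↥(Cfsg.isometryGroup F ⇑Q)} {p : ℕ} {e f : ℕ → ι → F}

omit [Fintype ι] [DecidableEq ι] in
theorem FrP.ef0 (fr : FrP Q p e f) (i j : ℕ) (hi : i ≤ p + 1) (hj : j ≤ p + 1) (hij : i ≠ j) :
    QuadraticMap.polar (⇑Q) (e i) (f j) = 0 := by rw [fr.ef i j hi hj, if_neg hij]

omit [Fintype ι] [DecidableEq ι] in
theorem FrP.ef1 (fr : FrP Q p e f) (i : ℕ) (hi : i ≤ p + 1) :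
    QuadraticMap.polar (⇑Q) (e i) (f i) = 1 := by rw [fr.ef i i hi hi, if_pos rfl]

omit [Fintype ι] [DecidableEq ι] in
theorem FrP.fe0 (fr : FrP Q p e f) (i j : ℕ) (hi : i ≤ p + 1) (hj : j ≤ p + 1) (hij : i ≠ j) :
    QuadraticMap.polar (⇑Q) (f i) (e j) = 0 := by
  rw [QuadraticMap.polar_comm, fr.ef0 j i hj hi (Ne.symm hij)]

omit [Fintype ι] [DecidableEq ι] in
theorem FrP.fe1 (fr : FrP Q p e f) (i : ℕ) (hi : i ≤ p + 1) :
    QuadraticMap.polar (⇑Q) (f i) (e i) = 1 := by
  rw [QuadraticMap.polar_comm, fr.ef1 i hi]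

/-- the commutator rule with scalars, for "frame-like" data -/
theorem cmS {u w u' w' : ι → F} {c d : F} (h' : EK hQ K u' (d • w')) (h : EK hQ K u (c • w))
    (h1 : QuadraticMap.polar (⇑Q) u' u = 0) (h2 : QuadraticMap.polar (⇑Q) w' u = 0)
    (h3 : QuadraticMap.polar (⇑Q) w' w = 0) (h4 : Q w' = 0)
    (h5 : QuadraticMap.polar (⇑Q) u' w = 1) : EK hQ K u ((c * d) • w') := by
  have hc := ek_comm h' h h1 (by rw [QuadraticMap.polar_smul_left, h2, smul_zero])
  refine ek_congr hc rfl ?_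
  rw [QuadraticMap.polar_smul_right, h5, QuadraticMap.polar_smul_left,
    QuadraticMap.polar_smul_right, h3, QuadraticMap.map_smul, h4]
  simp [smul_smul]

theorem ek_one {u v : ι → F} (h : EK hQ K u v) : EK hQ K u ((1 : F) • v) := by rwa [one_smul]

theorem ek_of_one {u v : ι → F} (h : EK hQ K u ((1 : F) • v)) : EK hQ K u v := by
  rwa [one_smul] at h

theorem ek_negone {u v : ι → F} (h : EK hQ K u (-v)) : EK hQ K u ((-1 : F) • v) := by
  rwa [neg_smul, one_smul]

theorem sgn_drop {ε : F} (hε : ε = 1 ∨ ε = -1) {u v : ι → F} (h : EK hQ K u (ε • v)) :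
    EK hQ K u v := by
  rcases hε with rfl | rfl
  · rwa [one_smul] at h
  · have := ek_neg h
    rwa [neg_smul, one_smul, neg_neg] at this

theorem sgn_sq {ε : F} (hε : ε = 1 ∨ ε = -1) : ε * ε = 1 := by
  rcases hε with rfl | rfl <;> simp

theorem sgn_ne {ε : F} (hε : ε = 1 ∨ ε = -1) : ε ≠ 0 := by
  rcases hε with rfl | rfl <;> simp

theorem all_of_mul {a : F} (ha : a * a = 1) {u v : ι → F}
    (h : ∀ c : F, EK hQ K u ((c * a) • v)) : ∀ c : F, EK hQ K u (c • v) := by
  intro c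
  have := h (c * a)
  rwa [mul_assoc, ha, mul_one] at this

theorem all_of_neg {u v : ι → F}
    (h : ∀ c : F, EK hQ K u ((-c) • v)) : ∀ c : F, EK hQ K u (c • v) := by
  intro c
  have := h (-c)
  rwa [neg_neg] at this

/-- `P u`: the full root group at `u` lies in `K` -/
def PF (hQ : (QuadraticMap.polarBilin Q).Nondegenerate)
    (K : Subgroup ↥(Cfsg.isometryGroup F ⇑Q)) (u : ι → F) : Prop :=
  ∀ v : ι → F, QuadraticMap.polar (⇑Q) u v = 0 → EK hQ K u v

theorem PF_conj {u : ι → F} (g : ↥(Cfsg.isometryGroup F ⇑Q)) (hg : g ∈ K) (h : PF hQ K u) :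
    PF hQ K (mat g *ᵥ u) := by
  intro v hv
  have h1 : QuadraticMap.polar (⇑Q) u (mat g⁻¹ *ᵥ v) = 0 := by
    have := bp_mulVec g u (mat g⁻¹ *ᵥ v)
    rw [mulVec_inv_mulVec] at this
    show bp Q u (mat g⁻¹ *ᵥ v) = 0
    rw [← this]
    exact hv
  have h2 := ek_conj g hg (h _ h1)
  rwa [mulVec_inv_mulVec] at h2

end tools

/-- **the chase**: a subgroup containing `s`, `t = E(e_0, f_1)` and `y = n E(e_0, e_l)` contains `Ω` -/
theorem omega_le_of_chase [Fintype F] (hQ : (QuadraticMap.polarBilin Q).Nondegenerate)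
    (hcard : 7 ≤ Fintype.card ι) {p : ℕ} (hp : 2 ≤ p) {e f : ℕ → ι → F} (fr : FrP Q p e f)
    {ε μ : F} {n s : ↥(Cfsg.isometryGroup F ⇑Q)} (hn : NAct p e f ε n) (hs : SAct e f μ s)
    (K : Subgroup ↥(Cfsg.isometryGroup F ⇑Q)) (hsK : s ∈ K) (htK : EK hQ K (e 0) (f 1))
    (hyK : ∀ (hu : Q (e 0) = 0) (huv : QuadraticMap.polar (⇑Q) (e 0) (e (p + 1)) = 0),
      n * eich hQ (e 0) (e (p + 1)) hu huv ∈ K) :
    commutator ↥(Cfsg.isometryGroup F ⇑Q) ≤ K := by
  have hε := hn.hε
  have hεsq := sgn_sq hε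
  have hεne := sgn_ne hε
  -- the element `r` and `y = n r`
  have hqe0 : Q (e 0) = 0 := fr.qe 0 (by omega)
  have hee0l : QuadraticMap.polar (⇑Q) (e 0) (e (p + 1)) = 0 := fr.ee 0 (p + 1) (by omega) (by omega)
  set r : ↥(Cfsg.isometryGroup F ⇑Q) := eich hQ (e 0) (e (p + 1)) hqe0 hee0l with hr
  set y : ↥(Cfsg.isometryGroup F ⇑Q) := n * r with hy
  have hyK' : y ∈ K := hyK hqe0 hee0l
  have hyiK : y⁻¹ ∈ K := K.inv_mem hyK'
  have hr_apply : ∀ x : ι → F, mat r *ᵥ x = x + QuadraticMap.polar (⇑Q) (e 0) x • e (p + 1)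
      - QuadraticMap.polar (⇑Q) (e (p + 1)) x • e 0 := by
    intro x
    have := eich_mulVec hQ (e 0) (e (p + 1)) hqe0 hee0l x
    rw [fr.qe (p + 1) (by omega), zero_mul, zero_smul, sub_zero] at this
    exact this
  have hy_apply : ∀ x : ι → F, mat y *ᵥ x = mat n *ᵥ (mat r *ᵥ x) := fun x => coe_mul_mulVec n r x
  have hr_e : ∀ k, k ≤ p + 1 → mat r *ᵥ e k = e k := by
    intro k hk
    rw [hr_apply, fr.ee 0 k (by omega) hk, fr.ee (p + 1) k (by omega) hk]; simp
  have hr_f : ∀ k, k ≤ p + 1 → k ≠ 0 → k ≠ p + 1 → mat r *ᵥ f k = f k := by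
    intro k hk h0 hl
    rw [hr_apply, fr.ef0 0 k (by omega) hk (Ne.symm h0), fr.ef0 (p + 1) k (by omega) hk (Ne.symm hl)]
    simp
  have hr_f0 : mat r *ᵥ f 0 = f 0 + e (p + 1) := by
    rw [hr_apply, fr.ef1 0 (by omega), fr.ef0 (p + 1) 0 (by omega) (by omega) (by omega)]; simp
  have y_e : ∀ k, k < p → mat y *ᵥ e k = e (k + 1) := by
    intro k hk; rw [hy_apply, hr_e k (by omega), hn.ne k hk]
  have y_f : ∀ k, 1 ≤ k → k < p → mat y *ᵥ f k = f (k + 1) := by
    intro k h1 hk; rw [hy_apply, hr_f k (by omega) (by omega) (by omega), hn.nf k hk]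
  have y_ep : mat y *ᵥ e p = ε • f 0 := by rw [hy_apply, hr_e p (by omega), hn.nep]
  have y_fp : mat y *ᵥ f p = ε • e 0 := by
    rw [hy_apply, hr_f p (by omega) (by omega) (by omega), hn.nfp]
  have y_el : mat y *ᵥ e (p + 1) = f (p + 1) := by rw [hy_apply, hr_e (p + 1) (by omega), hn.nel]
  have y_f0 : mat y *ᵥ f 0 = f 1 + f (p + 1) := by
    rw [hy_apply, hr_f0, Matrix.mulVec_add, hn.nf 0 (by omega), hn.nel]
  -- inverses
  have yi_e0 : mat y⁻¹ *ᵥ e 0 = ε • f p := by
    have h1 : mat y *ᵥ (ε • f p) = e 0 := by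
      rw [Matrix.mulVec_smul, y_fp, smul_smul, hεsq, one_smul]
    rw [← h1, Cfsg.Agent.H9Sieg.inv_mulVec_mulVec]
  have yi_f2 : mat y⁻¹ *ᵥ f 2 = f 1 := by
    rw [← y_f 1 (by omega) (by omega), Cfsg.Agent.H9Sieg.inv_mulVec_mulVec]
  have yi_f1 : mat y⁻¹ *ᵥ f 1 = f 0 - e (p + 1) := by
    have h1 : mat y *ᵥ (f 0 - e (p + 1)) = f 1 := by
      rw [Matrix.mulVec_sub, y_f0, y_el]; abel
    rw [← h1, Cfsg.Agent.H9Sieg.inv_mulVec_mulVec]
  -- STAGE 1 (a)
  have a1 : ∀ k, k < p → EK hQ K (e k) (f (k + 1)) := by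
    intro k
    induction k with
    | zero => intro _; exact htK
    | succ k ih =>
      intro hk
      have h1 := ek_conj y hyK' (ih (by omega))
      rw [y_e k (by omega), y_f (k + 1) (by omega) (by omega)] at h1
      exact h1
  have a2 : EK hQ K (e p) (ε • e 0) := by
    have h1 := ek_conj y hyK' (a1 (p - 1) (by omega))
    rw [y_e (p - 1) (by omega), show p - 1 + 1 = p by omega, y_fp] at h1
    exact h1
  have a3 : EK hQ K (f 0) (e 1) := by
    have h1 := ek_conj y hyK' a2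
    rw [y_ep, Matrix.mulVec_smul, y_e 0 (by omega)] at h1
    have h2 := ek_smul_left hεne h1
    rwa [smul_smul, hεsq, one_smul] at h2
  -- (b)
  have b1 : EK hQ K (e 0) (f 2) := by
    have h := cmS (ek_one (a1 1 (by omega))) (ek_one htK)
      (fr.ee 1 0 (by omega) (by omega)) (fr.fe0 2 0 (by omega) (by omega) (by omega))
      (fr.ff 2 1 (by omega) (by omega)) (fr.qf 2 (by omega)) (fr.ef1 1 (by omega))
    rwa [one_mul, one_smul] at h
  -- (c)
  have c1 : EK hQ K (f p) (ε • f 1) := by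
    have h1 := ek_conj y⁻¹ hyiK b1
    rw [yi_e0, yi_f2] at h1
    exact ek_smul_left hεne h1
  -- (d)
  have d0 : EK hQ K (e 1) (-(f 0)) := ek_swap a3 (fr.qe 1 (by omega))
  have d1 : EK hQ K (f p) ((-ε) • f 0) := by
    have h := cmS (ek_negone d0) c1
      (fr.ef0 1 p (by omega) (by omega) (by omega)) (fr.ff 0 p (by omega) (by omega))
      (fr.ff 0 1 (by omega) (by omega)) (fr.qf 0 (by omega)) (fr.ef1 1 (by omega))
    rwa [mul_neg, mul_one] at h
  -- (e)
  have e1 : EK hQ K (f p) (e (p + 1)) := by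
    have h1 := ek_conj y⁻¹ hyiK htK
    rw [yi_e0, yi_f1] at h1
    have h2 := ek_smul_left hεne h1
    have h3 := ek_add h2 d1
    have h4 : ε • (f 0 - e (p + 1)) + (-ε) • f 0 = (-ε) • e (p + 1) := by module
    rw [h4] at h3
    have hε' : -ε = 1 ∨ -ε = -1 := by
      rcases hε with h | h
      · right; rw [h]
      · left; rw [h, neg_neg]
    exact sgn_drop hε' h3
  -- (f)
  have f0 : EK hQ K (e 0) (e p) := by
    have h1 := ek_swap_smul a2 (fr.qe 0 (by omega)) (fr.ee p 0 (by omega) (by omega))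
    have hε' : -ε = 1 ∨ -ε = -1 := by
      rcases hε with h | h
      · right; rw [h]
      · left; rw [h, neg_neg]
    exact sgn_drop hε' h1
  have f1 : EK hQ K (e 0) (e (p + 1)) := by
    have h := cmS (ek_one e1) (ek_one f0)
      (fr.fe0 p 0 (by omega) (by omega) (by omega)) (fr.ee (p + 1) 0 (by omega) (by omega))
      (fr.ee (p + 1) p (by omega) (by omega)) (fr.qe (p + 1) (by omega)) (fr.fe1 p (by omega))
    rwa [one_mul, one_smul] at h
  have hrK : r ∈ K := ek_mem f1 hqe0 hee0l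
  have hnK : n ∈ K := by
    have h1 : n = y * r⁻¹ := by rw [hy, mul_inv_cancel_right]
    rw [h1]
    exact K.mul_mem hyK' (K.inv_mem hrK)
  -- STAGE 2
  have n_smul : ∀ (c : F) (x : ι → F), mat n *ᵥ (c • x) = c • (mat n *ᵥ x) :=
    fun c x => Matrix.mulVec_smul _ c x
  -- (g)
  have g0 : ∀ k : ℕ, EK hQ K (e 1) ((μ ^ k) • f 2) := by
    intro k
    induction k with
    | zero => rw [pow_zero, one_smul]; exact a1 1 (by omega)
    | succ k ih =>
      have h1 := ek_conj s hsK ih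
      rw [hs.se, Matrix.mulVec_smul, hs.sf, smul_smul, ← pow_succ] at h1
      exact h1
  have g1 : ∀ c : F, EK hQ K (e 1) (c • f 2) := by
    intro c
    by_cases hc : c = 0
    · rw [hc, zero_smul]; exact ek_zero (e 1) (fr.qe 1 (by omega))
    · obtain ⟨k, rfl⟩ := hs.gen c hc
      exact g0 k
  -- (h)
  have h0 : ∀ c : F, EK hQ K (e 0) (c • f 2) := by
    intro c
    have h := cmS (g1 c) (ek_one htK)
      (fr.ee 1 0 (by omega) (by omega)) (fr.fe0 2 0 (by omega) (by omega) (by omega))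
      (fr.ff 2 1 (by omega) (by omega)) (fr.qf 2 (by omega)) (fr.ef1 1 (by omega))
    rwa [one_mul] at h
  -- (i)
  have i0 : EK hQ K (f 1) (e 2) := by
    have h1 := ek_conj n hnK a3
    rwa [hn.nf 0 (by omega), hn.ne 1 (by omega)] at h1
  have i1 : EK hQ K (e 2) (-(f 1)) := ek_swap i0 (fr.qe 2 (by omega))
  -- (j)
  have j0 : ∀ c : F, EK hQ K (e 0) (c • f 1) := by
    apply all_of_mul (a := (-1 : F)) (by ring)
    intro c
    exact cmS (ek_negone i1) (h0 c)
      (fr.ee 2 0 (by omega) (by omega)) (fr.fe0 1 0 (by omega) (by omega) (by omega))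
      (fr.ff 1 2 (by omega) (by omega)) (fr.qf 1 (by omega)) (fr.ef1 2 (by omega))
  -- (k)
  have k1 : ∀ k, k < p → ∀ c : F, EK hQ K (e k) (c • f (k + 1)) := by
    intro k
    induction k with
    | zero => intro _ c; exact j0 c
    | succ k ih =>
      intro hk c
      have h1 := ek_conj n hnK (ih (by omega) c)
      rwa [hn.ne k (by omega), n_smul, hn.nf (k + 1) (by omega)] at h1
  have k2 : ∀ c : F, EK hQ K (e p) (c • e 0) := by
    apply all_of_mul hεsq
    intro c
    have h1 := ek_conj n hnK (k1 (p - 1) (by omega) c)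
    rwa [hn.ne (p - 1) (by omega), show p - 1 + 1 = p by omega, n_smul, hn.nfp, smul_smul] at h1
  have k3 : ∀ c : F, EK hQ K (f 0) (c • e 1) := by
    apply all_of_mul hεsq
    intro c
    have h1 := ek_conj n hnK (k2 c)
    rw [hn.nep, n_smul, hn.ne 0 (by omega)] at h1
    have h2 := ek_smul_left hεne h1
    rwa [smul_smul, mul_comm] at h2
  -- (l)
  have l0 : ∀ c : F, EK hQ K (e 0) (c • e p) := by
    apply all_of_neg
    intro c
    exact ek_swap_smul (k2 c) (fr.qe 0 (by omega)) (fr.ee p 0 (by omega) (by omega))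
  have l1 : ∀ c : F, EK hQ K (e 0) (c • e (p + 1)) := by
    intro c
    have h := cmS (ek_one e1) (l0 c)
      (fr.fe0 p 0 (by omega) (by omega) (by omega)) (fr.ee (p + 1) 0 (by omega) (by omega))
      (fr.ee (p + 1) p (by omega) (by omega)) (fr.qe (p + 1) (by omega)) (fr.fe1 p (by omega))
    rwa [mul_one] at h
  have l2 : ∀ c : F, EK hQ K (e 1) (c • f (p + 1)) := by
    intro c
    have h1 := ek_conj n hnK (l1 c)
    rwa [hn.ne 0 (by omega), n_smul, hn.nel] at h1
  -- (m)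
  have m1 : ∀ j, 1 ≤ j → j ≤ p → ∀ c : F, EK hQ K (e 0) (c • f j) := by
    intro j
    induction j with
    | zero => intro h; omega
    | succ j ih =>
      intro _ hj c
      by_cases hj0 : j = 0
      · subst hj0; exact j0 c
      · have h := cmS (k1 j (by omega) 1) (ih (by omega) (by omega) c)
          (fr.ee j 0 (by omega) (by omega)) (fr.fe0 (j + 1) 0 (by omega) (by omega) (by omega))
          (fr.ff (j + 1) j (by omega) (by omega)) (fr.qf (j + 1) (by omega)) (fr.ef1 j (by omega))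
        rwa [mul_one] at h
  have m2 : ∀ d, d ≤ p - 1 → ∀ c : F, EK hQ K (e 0) (c • e (p - d)) := by
    intro d
    induction d with
    | zero => intro _ c; exact l0 c
    | succ d ih =>
      intro hd
      apply all_of_mul (a := (-1 : F)) (by ring)
      intro c
      have hsw : EK hQ K (f (p - d)) (-(e (p - (d + 1)))) := by
        have h1 := k1 (p - (d + 1)) (by omega) 1
        rw [one_smul, show p - (d + 1) + 1 = p - d by omega] at h1
        exact ek_swap h1 (fr.qf (p - d) (by omega))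
      exact cmS (ek_negone hsw) (ih (by omega) c)
        (fr.fe0 (p - d) 0 (by omega) (by omega) (by omega))
        (fr.ee (p - (d + 1)) 0 (by omega) (by omega))
        (fr.ee (p - (d + 1)) (p - d) (by omega) (by omega)) (fr.qe (p - (d + 1)) (by omega))
        (fr.fe1 (p - d) (by omega))
  have m2' : ∀ j, 1 ≤ j → j ≤ p → ∀ c : F, EK hQ K (e 0) (c • e j) := by
    intro j h1 hj c
    have := m2 (p - j) (by omega) c
    rwa [show p - (p - j) = j by omega] at this
  have m4 : ∀ c : F, EK hQ K (e 0) (c • f (p + 1)) := by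
    intro c
    have h := cmS (l2 c) (ek_one htK)
      (fr.ee 1 0 (by omega) (by omega)) (fr.fe0 (p + 1) 0 (by omega) (by omega) (by omega))
      (fr.ff (p + 1) 1 (by omega) (by omega)) (fr.qf (p + 1) (by omega)) (fr.ef1 1 (by omega))
    rwa [one_mul] at h
  have hlin : ∀ v, QuadraticMap.polar (⇑Q) (e 0) v = QuadraticMap.polarBilin Q (e 0) v := by
    intro v; rfl
  have hpol : ∀ a b : ℕ → F, QuadraticMap.polar (⇑Q) (e 0)
      (∑ k ∈ Finset.range (p + 2), (a k • e k + b k • f k)) = b 0 := by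
    intro a b
    rw [hlin, map_sum, Finset.sum_eq_single 0]
    · rw [map_add, map_smul, map_smul, ← hlin, ← hlin, fr.ee 0 0 (by omega) (by omega),
        fr.ef1 0 (by omega)]
      simp
    · intro k hk hk0
      have hkl : k ≤ p + 1 := by
        have := Finset.mem_range.mp hk; omega
      rw [map_add, map_smul, map_smul, ← hlin, ← hlin, fr.ee 0 k (by omega) hkl,
        fr.ef0 0 k (by omega) hkl (Ne.symm hk0)]
      simp
    · intro h
      exact absurd (Finset.mem_range.mpr (by omega)) h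
  have P0 : PF hQ K (e 0) := by
    intro v hv
    obtain ⟨a, b, rfl⟩ := fr.span v
    rw [hpol] at hv
    apply b4_sum hqe0
    intro k hk
    have hkl : k ≤ p + 1 := by
      have := Finset.mem_range.mp hk; omega
    by_cases hk0 : k = 0
    · subst hk0
      rw [hv, zero_smul, add_zero]
      exact ek_self (e 0) hqe0 (a 0)
    · by_cases hkp : k = p + 1
      · subst hkp
        exact ek_add (l1 (a (p + 1))) (m4 (b (p + 1)))
      · exact ek_add (m2' k (by omega) (by omega) (a k)) (m1 k (by omega) (by omega) (b k))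
  -- (n)
  have Pe : ∀ k, k ≤ p → PF hQ K (e k) := by
    intro k
    induction k with
    | zero => intro _; exact P0
    | succ k ih =>
      intro hk
      have h1 := PF_conj n hnK (ih (by omega))
      rwa [hn.ne k (by omega)] at h1
  have Pf0' : PF hQ K (ε • f 0) := by
    have h1 := PF_conj n hnK (Pe p le_rfl)
    rwa [hn.nep] at h1
  have Pf0 : PF hQ K (f 0) := by
    intro v hv
    have h1 : QuadraticMap.polar (⇑Q) (ε • f 0) (ε • v) = 0 := by
      rw [QuadraticMap.polar_smul_left, QuadraticMap.polar_smul_right, hv]; simp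
    have h2 := ek_smul_left hεne (Pf0' _ h1)
    rwa [smul_smul, hεsq, one_smul] at h2
  -- (o)
  have hqf0 : Q (f 0) = 0 := fr.qf 0 (by omega)
  have F1 := full_of_ek P0
  have F2 := full_of_ek Pf0
  have huz : bp Q (e 0) (f 0) ≠ 0 := by
    show QuadraticMap.polar (⇑Q) (e 0) (f 0) ≠ 0
    rw [fr.ef1 0 (by omega)]; exact one_ne_zero
  have hall : ∀ y : ι → F, Q y = 0 →
      Cfsg.Agent.H9Orth.Full hQ (K.map (Cfsg.isometryGroup F ⇑Q).subtype) y :=
    fun y hy => Cfsg.Agent.H9Orth.full_all hQ F1 F2 hqe0 hqf0 huz y hy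
  have hle := Cfsg.Agent.H9Orth.omegaGL_le_of_full hQ hcard hall
  intro g hg
  have hg' : (g : Matrix.GeneralLinearGroup ι F) ∈ Cfsg.Geo.omegaGL ⇑Q :=
    Subgroup.mem_map_of_mem _ hg
  obtain ⟨k, hk, hkg⟩ := Subgroup.mem_map.1 (hle hg')
  have : k = g := Subtype.ext hkg
  rw [← this]
  exact hk

end Cfsg.Agent.Lib.Helper3.OPlus
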