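import Mathlib

/-!
# S4305 (the symmetric group of degree 3 acting without fixed points): common vocabulary

* `Crit V p H s t` : the critical configuration (`T` acts on the `𝔽_p`-module `V`, `H ⊴ T`,
  `T = H⟨s,t⟩`, `⟨s,t⟩ ≅ S_3`, `H` faithful on `V`, `V` irreducible for `T`,
  `C_H(⟨s,t⟩) = 1`, `C_V(⟨s,t⟩) = 0`);
* `Setting G s t` : the internal setting (`G ⊴ Γ = G⟨s,t⟩` solvable of order prime to 6,
  `C_G(⟨s,t⟩) = 1`);
* a few facts on the subgroup `⟨s,t⟩`.
-/

set_option autoImplicit false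
set_option linter.unusedSectionVars false
set_option linter.unusedVariables false

namespace Cfsg.Agent.Lib.Lead.S3

universe u w

section crit

variable (V : Type u) [AddCommGroup V] {T : Type w} [Group T] [DistribMulAction T V]

/-- the critical configuration. -/
structure Crit (p : ℕ) (H : Subgroup T) (s t : T) : Prop where
  hp : p.Prime
  hp2 : p ≠ 2
  hp3 : p ≠ 3
  hVp : ∀ v : V, p • v = 0
  hV : ∃ v : V, v ≠ 0
  hs3 : s ^ 3 = 1
  ht2 : t ^ 2 = 1
  hts : t * s * t⁻¹ = s⁻¹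
  hs1 : s ≠ 1
  ht1 : t ≠ 1
  hHn : H.Normal
  hgen : ∀ x : T, ∃ h ∈ H, ∃ a ∈ Subgroup.closure ({s, t} : Set T), x = h * a
  hcop : (Nat.card H).Coprime 6
  hsolv : Group.IsSolvable H
  hfaith : ∀ x ∈ H, (∀ v : V, x • v = v) → x = 1
  hfpfH : ∀ x ∈ H, s * x = x * s → t * x = x * t → x = 1
  hfpfV : ∀ v : V, s • v = v → t • v = v → v = 0
  hirr : ∀ W : AddSubgroup V, (∀ x : T, ∀ w ∈ W, x • w ∈ W) → W = ⊥ ∨ W = ⊤

/-- every proper `⟨s,t⟩`-invariant subgroup of `H` is abelian. -/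
def MinNonab (H : Subgroup T) (s t : T) : Prop :=
  ∀ K : Subgroup T, K ≤ H → K ≠ H → (∀ x ∈ K, s * x * s⁻¹ ∈ K) → (∀ x ∈ K, t * x * t⁻¹ ∈ K) →
    ∀ x ∈ K, ∀ y ∈ K, x * y = y * x

end crit

section setting

variable {Γ : Type w} [Group Γ]

/-- the internal setting. -/
structure Setting (G : Subgroup Γ) (s t : Γ) : Prop where
  hGn : G.Normal
  hsolv : Group.IsSolvable G
  hcop : (Nat.card G).Coprime 6
  hs3 : s ^ 3 = 1
  ht2 : t ^ 2 = 1
  hts : t * s * t⁻¹ = s⁻¹
  hs1 : s ≠ 1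
  ht1 : t ≠ 1
  hgen : ∀ x : Γ, ∃ g ∈ G, ∃ a ∈ Subgroup.closure ({s, t} : Set Γ), x = g * a
  hfpf : ∀ g ∈ G, s * g = g * s → t * g = g * t → g = 1

end setting

section S3facts

variable {T : Type w} [Group T] {s t : T}

theorem t_inv (ht2 : t ^ 2 = 1) : t⁻¹ = t := by
  rw [inv_eq_iff_mul_eq_one, ← pow_two, ht2]

theorem s_inv (hs3 : s ^ 3 = 1) : s⁻¹ = s ^ 2 := by
  rw [inv_eq_iff_mul_eq_one, ← pow_succ', hs3]

theorem t_mul_s (hts : t * s * t⁻¹ = s⁻¹) : t * s = s⁻¹ * t := by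
  have h : t * s = (t * s * t⁻¹) * t := by group
  rw [h, hts]

theorem t_mul_s_zpow (hts : t * s * t⁻¹ = s⁻¹) (n : ℤ) : t * s ^ n = s ^ (-n) * t := by
  have h1 : t * s ^ n * t⁻¹ = (t * s * t⁻¹) ^ n := by
    have := map_zpow (MulAut.conj t) s n
    simp only [MulAut.conj_apply] at this
    exact this
  have h2 : t * s ^ n = (t * s ^ n * t⁻¹) * t := by group
  rw [h2, h1, hts, inv_zpow, zpow_neg]

/-- the elements of `⟨s,t⟩`, first form. -/
theorem exists_zpow_of_mem_closure (ht2 : t ^ 2 = 1) (hts : t * s * t⁻¹ = s⁻¹) {x : T}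
    (hx : x ∈ Subgroup.closure ({s, t} : Set T)) : ∃ i : ℤ, x = s ^ i ∨ x = s ^ i * t := by
  have htt : t * t = 1 := by rw [← pow_two, ht2]
  induction hx using Subgroup.closure_induction with
  | mem y hy =>
    rcases hy with rfl | rfl
    · exact ⟨1, Or.inl (zpow_one _).symm⟩
    · exact ⟨0, Or.inr (by simp)⟩
  | one => exact ⟨0, Or.inl (zpow_zero _).symm⟩
  | mul a b _ _ iha ihb =>
    obtain ⟨i, rfl | rfl⟩ := iha <;> obtain ⟨k, rfl | rfl⟩ := ihb
    · exact ⟨i + k, Or.inl (zpow_add _ _ _).symm⟩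
    · exact ⟨i + k, Or.inr (by rw [zpow_add, mul_assoc])⟩
    · exact ⟨i + -k, Or.inr (by rw [mul_assoc, t_mul_s_zpow hts, ← mul_assoc, ← zpow_add])⟩
    · refine ⟨i + -k, Or.inl ?_⟩
      rw [mul_assoc, ← mul_assoc t, t_mul_s_zpow hts, mul_assoc, htt, mul_one, ← zpow_add]
  | inv a _ iha =>
    obtain ⟨i, rfl | rfl⟩ := iha
    · exact ⟨-i, Or.inl (zpow_neg _ _).symm⟩
    · refine ⟨i, Or.inr ?_⟩
      rw [mul_inv_rev, t_inv ht2, ← zpow_neg, t_mul_s_zpow hts, neg_neg]

theorem s_zpow_cases (hs3 : s ^ 3 = 1) (i : ℤ) : s ^ i = 1 ∨ s ^ i = s ∨ s ^ i = s ^ 2 := by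
  rw [zpow_eq_zpow_emod' i hs3]
  have h0 : 0 ≤ i % (3 : ℕ) := Int.emod_nonneg _ (by norm_num)
  have h3 : i % (3 : ℕ) < 3 := Int.emod_lt_of_pos _ (by norm_num)
  obtain ⟨k, hk⟩ : ∃ k : ℕ, i % (3 : ℕ) = k := ⟨(i % (3 : ℕ)).toNat, (Int.toNat_of_nonneg h0).symm⟩
  rw [hk, zpow_natCast]
  have hk3 : k < 3 := by omega
  interval_cases k
  · left; simp
  · right; left; simp
  · right; right; rfl

/-- the elements of `⟨s,t⟩`. -/
theorem mem_closure_iff (hs3 : s ^ 3 = 1) (ht2 : t ^ 2 = 1) (hts : t * s * t⁻¹ = s⁻¹) {x : T} :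
    x ∈ Subgroup.closure ({s, t} : Set T) ↔
      x = 1 ∨ x = s ∨ x = s ^ 2 ∨ x = t ∨ x = s * t ∨ x = s ^ 2 * t := by
  constructor
  · intro hx
    obtain ⟨i, rfl | rfl⟩ := exists_zpow_of_mem_closure ht2 hts hx
    · rcases s_zpow_cases hs3 i with h | h | h <;> rw [h] <;> simp
    · rcases s_zpow_cases hs3 i with h | h | h <;> rw [h] <;> simp
  · have hs : s ∈ Subgroup.closure ({s, t} : Set T) := Subgroup.subset_closure (by simp)
    have ht : t ∈ Subgroup.closure ({s, t} : Set T) := Subgroup.subset_closure (by simp)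
    rintro (rfl | rfl | rfl | rfl | rfl | rfl)
    · exact Subgroup.one_mem _
    · exact hs
    · exact Subgroup.pow_mem _ hs 2
    · exact ht
    · exact Subgroup.mul_mem _ hs ht
    · exact Subgroup.mul_mem _ (Subgroup.pow_mem _ hs 2) ht

/-- a subgroup stable under conjugation by `s` and `t` is normalized by `⟨s,t⟩`. -/
theorem closure_le_normalizer [Finite T] {K : Subgroup T} (hs : ∀ x ∈ K, s * x * s⁻¹ ∈ K)
    (ht : ∀ x ∈ K, t * x * t⁻¹ ∈ K) :
    Subgroup.closure ({s, t} : Set T) ≤ Subgroup.normalizer (K : Set T) := by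
  have key : ∀ a : T, (∀ x ∈ K, a * x * a⁻¹ ∈ K) → a ∈ Subgroup.normalizer (K : Set T) := by
    intro a ha
    rw [Subgroup.mem_normalizer_iff]
    intro x
    refine ⟨ha x, ?_⟩
    intro hx
    -- conjugation by `a` is an injective self-map of the finite set `K`
    let f : K → K := fun y => ⟨a * y * a⁻¹, ha y y.2⟩
    have hf : Function.Injective f := by
      intro y z hyz
      have : a * (y : T) * a⁻¹ = a * (z : T) * a⁻¹ := congrArg Subtype.val hyz
      exact Subtype.ext (by simpa using this)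
    obtain ⟨y, hy⟩ := (Finite.injective_iff_surjective.1 hf) ⟨a * x * a⁻¹, hx⟩
    have h1 : a * (y : T) * a⁻¹ = a * x * a⁻¹ := congrArg Subtype.val hy
    have h2 : (y : T) = x := by simpa using h1
    rw [← h2]
    exact y.2
  rw [Subgroup.closure_le]
  rintro a (rfl | rfl)
  · exact key _ hs
  · exact key _ ht

/-- `⟨s,t⟩`-invariance, elementwise. -/
theorem conj_mem_of_mem_closure {K : Subgroup T} (hs3 : s ^ 3 = 1) (ht2 : t ^ 2 = 1)
    (hts : t * s * t⁻¹ = s⁻¹) (hs : ∀ x ∈ K, s * x * s⁻¹ ∈ K)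
    (ht : ∀ x ∈ K, t * x * t⁻¹ ∈ K) {a : T} (ha : a ∈ Subgroup.closure ({s, t} : Set T))
    {x : T} (hx : x ∈ K) : a * x * a⁻¹ ∈ K := by
  have hmul : ∀ a b : T, (∀ x ∈ K, a * x * a⁻¹ ∈ K) → (∀ x ∈ K, b * x * b⁻¹ ∈ K) →
      ∀ x ∈ K, (a * b) * x * (a * b)⁻¹ ∈ K := by
    intro a b ha hb x hx
    have := ha _ (hb x hx)
    simpa [mul_assoc] using this
  have hs2 : ∀ x ∈ K, s ^ 2 * x * (s ^ 2)⁻¹ ∈ K := by
    rw [pow_two]; exact hmul s s hs hs
  rcases (mem_closure_iff hs3 ht2 hts).1 ha with rfl | rfl | rfl | rfl | rfl | rfl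
  · simpa using hx
  · exact hs x hx
  · exact hs2 x hx
  · exact ht x hx
  · exact hmul s t hs ht x hx
  · exact hmul _ t hs2 ht x hx

/-- `|⟨s,t⟩|` divides `6`. -/
theorem card_closure_dvd [Finite T] (hs3 : s ^ 3 = 1) (ht2 : t ^ 2 = 1) (hts : t * s * t⁻¹ = s⁻¹) :
    Nat.card (Subgroup.closure ({s, t} : Set T)) ∣ 6 := by
  classical
  -- `⟨s⟩` has index at most 2 in `⟨s,t⟩`
  set A : Subgroup T := Subgroup.closure ({s, t} : Set T) with hA
  have hsA : s ∈ A := Subgroup.subset_closure (by simp)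
  have htA : t ∈ A := Subgroup.subset_closure (by simp)
  set S : Subgroup T := Subgroup.zpowers s with hS
  have hSA : S ≤ A := by
    rw [hS, Subgroup.zpowers_le]; exact hsA
  have hScard : Nat.card S ∣ 3 := by
    rw [hS, Nat.card_zpowers]; exact orderOf_dvd_of_pow_eq_one hs3
  -- the index of `S` in `A` divides 2
  have hidx : (S.subgroupOf A).index ∣ 2 := by
    have hnorm : (S.subgroupOf A).Normal := by
      constructor
      intro n hn g
      rw [Subgroup.mem_subgroupOf] at hn ⊢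
      obtain ⟨k, hk⟩ := hn
      have hg := g.2
      obtain ⟨i, h | h⟩ := exists_zpow_of_mem_closure ht2 hts hg
      · refine ⟨k, ?_⟩
        show s ^ k = (g : T) * (n : T) * (g : T)⁻¹
        rw [h, ← hk]
        simp only []
        rw [← zpow_add, ← zpow_neg, ← zpow_add]
        congr 1; ring
      · refine ⟨-k, ?_⟩
        show s ^ (-k) = (g : T) * (n : T) * (g : T)⁻¹
        rw [h, ← hk]
        simp only []
        have e1 : t * s ^ k * (t * (s ^ i)⁻¹) = s ^ (-k) * (s ^ i)⁻¹ := by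
          rw [t_mul_s_zpow hts, mul_assoc, ← mul_assoc t, ← pow_two, ht2, one_mul]
        rw [mul_inv_rev, t_inv ht2, mul_assoc, mul_assoc, ← mul_assoc t, e1, ← zpow_neg,
          ← zpow_add, ← zpow_add]
        congr 1; ring
    -- the quotient is generated by the image of `t`, of order dividing 2
    have hq : ∀ x : A ⧸ S.subgroupOf A, x ^ 2 = 1 := by
      intro x
      induction x using QuotientGroup.induction_on with
      | H g =>
        obtain ⟨i, h | h⟩ := exists_zpow_of_mem_closure ht2 hts g.2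
        · have : (QuotientGroup.mk g : A ⧸ S.subgroupOf A) = 1 := by
            rw [QuotientGroup.eq_one_iff, Subgroup.mem_subgroupOf]
            exact ⟨i, h.symm⟩
          rw [this, one_pow]
        · rw [← QuotientGroup.mk_pow, QuotientGroup.eq_one_iff, Subgroup.mem_subgroupOf]
          refine ⟨0, ?_⟩
          show s ^ (0 : ℤ) = ((g ^ 2 : A) : T)
          rw [Subgroup.coe_pow, h, pow_two, mul_assoc, ← mul_assoc t, t_mul_s_zpow hts,
            mul_assoc, ← pow_two, ht2, mul_one, ← zpow_add]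
          simp
    have hcyc : ∀ x y : A ⧸ S.subgroupOf A, x = 1 ∨ y = 1 ∨ x = y := by
      intro x y
      induction x using QuotientGroup.induction_on with
      | H g =>
      induction y using QuotientGroup.induction_on with
      | H g' =>
        obtain ⟨i, h | h⟩ := exists_zpow_of_mem_closure ht2 hts g.2
        · left
          rw [QuotientGroup.eq_one_iff, Subgroup.mem_subgroupOf]
          exact ⟨i, h.symm⟩
        · obtain ⟨k, h' | h'⟩ := exists_zpow_of_mem_closure ht2 hts g'.2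
          · right; left
            rw [QuotientGroup.eq_one_iff, Subgroup.mem_subgroupOf]
            exact ⟨k, h'.symm⟩
          · right; right
            rw [QuotientGroup.eq, Subgroup.mem_subgroupOf]
            refine ⟨i + -k, ?_⟩
            show s ^ (i + -k) = ((g⁻¹ * g' : A) : T)
            rw [Subgroup.coe_mul, Subgroup.coe_inv, h, h', mul_inv_rev, t_inv ht2,
              mul_assoc, ← mul_assoc (s ^ i)⁻¹, ← zpow_neg, ← zpow_add, ← mul_assoc,
              t_mul_s_zpow hts, mul_assoc, ← pow_two, ht2, mul_one]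
            congr 1; ring
    have hcard2 : Nat.card (A ⧸ S.subgroupOf A) ≤ 2 := by
      by_contra hgt
      rw [not_le] at hgt
      have : Fintype (A ⧸ S.subgroupOf A) := Fintype.ofFinite _
      rw [Nat.card_eq_fintype_card] at hgt
      obtain ⟨x, y, z, hxy, hxz, hyz⟩ := Fintype.two_lt_card_iff.1 hgt
      rcases hcyc x y with h | h | h
      · rcases hcyc y z with h' | h' | h'
        · exact hxy (h.trans h'.symm)
        · exact hxz (h.trans h'.symm)
        · exact hyz h'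
      · rcases hcyc x z with h' | h' | h'
        · exact hxy (h'.trans h.symm)
        · exact hyz (h.trans h'.symm)
        · exact hxz h'
      · exact hxy h
    have hpos : 0 < Nat.card (A ⧸ S.subgroupOf A) := Nat.card_pos
    rw [Subgroup.index_eq_card]
    have : Nat.card (A ⧸ S.subgroupOf A) = 1 ∨ Nat.card (A ⧸ S.subgroupOf A) = 2 := by omega
    rcases this with h | h <;> rw [h]
    norm_num
  have hmul := (S.subgroupOf A).card_mul_index
  have hcardS : Nat.card (S.subgroupOf A) = Nat.card S :=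
    Nat.card_congr (Subgroup.subgroupOfEquivOfLe hSA).toEquiv
  rw [hcardS] at hmul
  rw [← hmul]
  exact Nat.mul_dvd_mul hScard hidx

end S3facts

end Cfsg.Agent.Lib.Lead.S3
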