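import Mathlib
import Cfsg.Agent.Lib.Helper3.RUDefs

set_option autoImplicit false
set_option linter.unusedSectionVars false
set_option linter.unusedVariables false

/-! # S2522 PK-R12: a regular unipotent map of `K^n` is conjugate to the Jordan block (leader: helper3) -/

namespace Cfsg.Agent.Lib.Helper3.RUProd

open Module

universe u v

variable {K : Type u} [Field K] {V : Type v} [AddCommGroup V] [Module K V]

/-- the nilpotent chain `N^(n-1-j) v`, `j < n`, is linearly independent when `N^n = 0`, `N^(n-1) v ≠ 0`. -/
theorem chain_linearIndependent {n : ℕ} (N : Module.End K V) (hN : N ^ n = 0) (v : V)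
    (hv : (N ^ (n - 1)) v ≠ 0) :
    LinearIndependent K (fun j : Fin n => (N ^ (n - 1 - j.val)) v) := by
  rw [Fintype.linearIndependent_iff]
  intro g hg
  -- strong induction on the exponent `a = n - 1 - j`
  have key : ∀ a : ℕ, ∀ j : Fin n, n - 1 - j.val = a → g j = 0 := by
    intro a
    induction a using Nat.strong_induction_on with
    | _ a ih =>
      intro j hja
      have happ := congrArg (fun w => (N ^ (n - 1 - a)) w) hg
      simp only [map_sum, map_smul, map_zero] at happ
      rw [Finset.sum_eq_single j] at happ
      · have hexp : (N ^ (n - 1 - a)) ((N ^ (n - 1 - j.val)) v) = (N ^ (n - 1)) v := by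
          rw [← Module.End.mul_apply, ← pow_add]
          congr 2
          have := j.isLt
          omega
        rw [hexp] at happ
        rcases smul_eq_zero.mp happ with h | h
        · exact h
        · exact absurd h hv
      · intro i _ hij
        by_cases hlt : n - 1 - i.val < a
        · rw [ih _ hlt i rfl, zero_smul]
        · -- exponent of `i` is bigger than `a`
          have hne : n - 1 - i.val ≠ a := by
            intro h
            apply hij
            apply Fin.ext
            have := i.isLt
            have := j.isLt
            omega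
          have hgt : a < n - 1 - i.val := by omega
          have : (N ^ (n - 1 - a)) ((N ^ (n - 1 - i.val)) v) = 0 := by
            rw [← Module.End.mul_apply, ← pow_add]
            have hge : n ≤ n - 1 - a + (n - 1 - i.val) := by
              have := i.isLt
              have := j.isLt
              omega
            obtain ⟨d, hd⟩ := Nat.exists_eq_add_of_le hge
            rw [hd, pow_add, hN, zero_mul, LinearMap.zero_apply]
          rw [this, smul_zero]
      · intro h; exact absurd (Finset.mem_univ j) h
  intro j
  exact key _ j rfl

theorem exists_gl_conj_of_RU {n : ℕ} (hn : 1 ≤ n) (J : GL (Fin n) K)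
    (hJ : ∀ i j : Fin n, (J : Matrix (Fin n) (Fin n) K) i j =
      if i = j then 1 else if j.val = i.val + 1 then 1 else 0)
    (L : Module.End K (Fin n → K)) (hL : RU n L) :
    ∃ x : GL (Fin n) K, L = Matrix.toLin' ((x * J * x⁻¹ : GL (Fin n) K) : Matrix (Fin n) (Fin n) K) := by
  classical
  obtain ⟨hN, hN1⟩ := hL
  set N : Module.End K (Fin n → K) := L - 1 with hNdef
  obtain ⟨v, hv⟩ : ∃ v, (N ^ (n - 1)) v ≠ 0 := by
    by_contra h
    push_neg at h
    exact hN1 (LinearMap.ext fun w => by simpa using h w)
  have hli := chain_linearIndependent N hN v hv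
  haveI : Nonempty (Fin n) := ⟨⟨0, by omega⟩⟩
  -- the basis
  let b : Basis (Fin n) K (Fin n → K) :=
    basisOfLinearIndependentOfCardEqFinrank hli (by simp)
  have hb : ∀ j, b j = (N ^ (n - 1 - j.val)) v := fun j => by
    simp [b]
  -- the linear equivalence e_j ↦ b j
  let e : (Fin n → K) ≃ₗ[K] (Fin n → K) := b.equivFun.symm
  have he : ∀ j : Fin n, e (Pi.single j 1) = b j := by
    intro j
    simp [e, Basis.equivFun_symm_apply, Pi.single_apply]
  -- L e = e J on the standard basis
  have hcomm : L ∘ₗ e.toLinearMap = e.toLinearMap ∘ₗ Matrix.toLin' (J : Matrix (Fin n) (Fin n) K) := by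
    apply (Pi.basisFun K (Fin n)).ext
    intro j
    simp only [Pi.basisFun_apply, LinearMap.comp_apply, LinearEquiv.coe_coe]
    rw [he j, Matrix.toLin'_apply, Matrix.mulVec_single_one]
    -- column j of J
    have hcol : (fun i => (J : Matrix (Fin n) (Fin n) K) i j) =
        Pi.single j 1 + (if h : 0 < j.val then Pi.single (⟨j.val - 1, by omega⟩ : Fin n) 1 else 0) := by
      funext i
      rw [hJ i j]
      by_cases hij : i = j
      · subst hij
        simp only [if_true, Pi.add_apply, Pi.single_eq_same]
        split_ifs with h
        · rw [Pi.single_apply, if_neg]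
          · simp
          · intro h'; have := congrArg Fin.val h'; simp at this; omega
        · simp
      · rw [if_neg hij, Pi.add_apply, Pi.single_apply, if_neg hij, zero_add]
        by_cases hj1 : j.val = i.val + 1
        · rw [if_pos hj1, dif_pos (by omega), Pi.single_apply, if_pos]
          apply Fin.ext; simp; omega
        · rw [if_neg hj1]
          split_ifs with h
          · rw [Pi.single_apply, if_neg]
            intro h'; have := congrArg Fin.val h'; simp at this; omega
          · rfl
    have hcol' : (J : Matrix (Fin n) (Fin n) K).col j = fun i => (J : Matrix (Fin n) (Fin n) K) i j := rfl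
    rw [hcol', hcol, map_add, he j]
    have hLb : L (b j) = b j + N (b j) := by
      rw [hNdef]; simp
    rw [hLb]
    congr 1
    split_ifs with h
    · rw [he, hb, hb, ← Module.End.mul_apply, ← pow_succ']
      congr 2
      simp only
      have := j.isLt
      omega
    · rw [map_zero, hb, ← Module.End.mul_apply, ← pow_succ']
      have : n - 1 - j.val + 1 = n := by
        have := j.isLt
        omega
      rw [this, hN, LinearMap.zero_apply]
  -- the matrix
  let X : GL (Fin n) K :=
    ⟨LinearMap.toMatrix' e.toLinearMap, LinearMap.toMatrix' e.symm.toLinearMap,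
      by rw [← LinearMap.toMatrix'_comp]; simp,
      by rw [← LinearMap.toMatrix'_comp]; simp⟩
  refine ⟨X, ?_⟩
  have hX : ((X * J * X⁻¹ : GL (Fin n) K) : Matrix (Fin n) (Fin n) K)
      = LinearMap.toMatrix' e.toLinearMap * (J : Matrix (Fin n) (Fin n) K) *
        LinearMap.toMatrix' e.symm.toLinearMap := rfl
  rw [hX, Matrix.toLin'_mul, Matrix.toLin'_mul, Matrix.toLin'_toMatrix', Matrix.toLin'_toMatrix']
  have : L = (L ∘ₗ e.toLinearMap) ∘ₗ e.symm.toLinearMap := by
    ext w; simp
  rw [this, hcomm]

end Cfsg.Agent.Lib.Helper3.RUProd
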