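import Mathlib
import Cfsg.Agent.Lib.Helper3.RUDefs

set_option autoImplicit false
set_option linter.unusedSectionVars false
set_option linter.unusedVariables false

/-! # S2522 PK-R13: the rank-one case `A = 1 + X^(n-1)` (leader: helper3) -/

namespace Cfsg.Agent.Lib.Helper3.RUProd

open Module

universe u v

variable {K : Type u} [Field K] {V : Type v} [AddCommGroup V] [Module K V]

/-- the shift operator along a basis indexed by `Fin n`: `b j ↦ b (j+1)`, last `↦ 0`. -/
noncomputable def shiftOp {n : ℕ} (b : Basis (Fin n) K V) : Module.End K V :=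
  b.constr K (fun j : Fin n => if h : j.val + 1 < n then b ⟨j.val + 1, h⟩ else 0)

theorem shiftOp_pow_apply {n : ℕ} (b : Basis (Fin n) K V) (k : ℕ) (j : Fin n) :
    ((shiftOp b) ^ k) (b j) = if h : j.val + k < n then b ⟨j.val + k, h⟩ else 0 := by
  induction k generalizing j with
  | zero => simp
  | succ k ih =>
    rw [pow_succ, Module.End.mul_apply]
    have h1 : shiftOp b (b j) = if h : j.val + 1 < n then b ⟨j.val + 1, h⟩ else 0 := by
      unfold shiftOp
      rw [Basis.constr_basis]
    rw [h1]
    by_cases hj : j.val + 1 < n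
    · rw [dif_pos hj, ih]
      simp only
      by_cases hjk : j.val + 1 + k < n
      · rw [dif_pos hjk, dif_pos (by omega)]
        congr 2
        omega
      · rw [dif_neg hjk, dif_neg (by omega)]
    · rw [dif_neg hj, map_zero, dif_neg (by omega)]

theorem shiftOp_pow_n {n : ℕ} (b : Basis (Fin n) K V) : (shiftOp b) ^ n = 0 := by
  apply b.ext
  intro j
  rw [shiftOp_pow_apply, dif_neg (by omega), LinearMap.zero_apply]

open Polynomial in
theorem eval_zero_geom (k : ℕ) (hk : 1 ≤ k) :
    Polynomial.eval (0 : K) (∑ i ∈ Finset.range k, (-Polynomial.X : Polynomial K) ^ i) = 1 := by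
  obtain ⟨k', rfl⟩ := Nat.exists_eq_add_of_le hk
  rw [add_comm, Finset.sum_range_succ', Polynomial.eval_add, Polynomial.eval_finsetSum]
  simp

open Polynomial in
/-- `1 + X^(n-1)` is a product of two regular unipotents, `X` regular nilpotent, `n ≥ 3`. -/
theorem ru_factor_of_nilpotent {n : ℕ} (hn : 3 ≤ n) (Xo : Module.End K V) (hX : Xo ^ n = 0)
    (hX1 : Xo ^ (n - 1) ≠ 0) :
    ∃ L U : Module.End K V, 1 + Xo ^ (n - 1) = L * U ∧ RU n L ∧ RU n U := by
  -- polynomials
  set t : Polynomial K := Polynomial.X with ht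
  set linv : Polynomial K := ∑ i ∈ Finset.range n, (-t) ^ i with hlinv
  set g : Polynomial K := ∑ i ∈ Finset.range (n - 1), (-t) ^ i with hg
  have h1 : (1 + t) * linv = 1 - (-t) ^ n := by
    have := mul_neg_geom_sum (-t) n
    rw [sub_neg_eq_add] at this
    exact this
  have hlinv_g : linv = 1 - t * g := by
    rw [hlinv, hg]
    obtain ⟨m, rfl⟩ := Nat.exists_eq_add_of_le (show 1 ≤ n by omega)
    rw [add_comm 1 m, Finset.sum_range_succ', Nat.add_sub_cancel, Finset.mul_sum]
    simp only [pow_succ, pow_zero]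
    rw [add_comm]
    congr 1
    rw [← Finset.sum_neg_distrib]
    refine Finset.sum_congr rfl fun i _ => ?_
    ring
  set r : Polynomial K := -g + linv * t ^ (n - 2) with hr
  have hq : linv * (1 + t ^ (n - 1)) - 1 = t * r := by
    have e : t ^ (n - 1) = t * t ^ (n - 2) := by
      rw [← pow_succ']; congr 1; omega
    rw [hr, e]
    conv_lhs => rw [hlinv_g]
    rw [hlinv_g]
    ring
  have hr0 : Polynomial.eval 0 r = -1 := by
    rw [hr, Polynomial.eval_add, Polynomial.eval_neg, Polynomial.eval_mul, Polynomial.eval_pow, ht,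
      Polynomial.eval_X, zero_pow (by omega), mul_zero, add_zero, hg, eval_zero_geom _ (by omega)]
  -- operators
  set a : Polynomial K →ₐ[K] Module.End K V := Polynomial.aeval Xo with ha
  have hat : a t = Xo := by rw [ha, ht, Polynomial.aeval_X]
  have hatn : a (t ^ n) = 0 := by rw [map_pow, hat, hX]
  refine ⟨a (1 + t), a (linv * (1 + t ^ (n - 1))), ?_, ?_, ?_⟩
  · -- product
    rw [← map_mul, ← mul_assoc, h1]
    have : (1 - (-t) ^ n) * (1 + t ^ (n - 1)) = (1 + t ^ (n - 1)) - (-1) ^ n * (1 + t ^ (n - 1)) * t ^ n := by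
      rw [neg_pow]; ring
    rw [this, map_sub, map_mul, hatn, mul_zero, sub_zero, map_add, map_one, map_pow, hat]
  · -- L = 1 + X regular unipotent
    have hL : a (1 + t) - 1 = Xo := by rw [map_add, map_one, hat]; abel
    unfold RU
    rw [hL]
    exact ⟨hX, hX1⟩
  · -- U regular unipotent
    have hU : a (linv * (1 + t ^ (n - 1))) - 1 = a (t * r) := by
      rw [← hq, map_sub, map_one]
    unfold RU
    rw [hU]
    constructor
    · rw [← map_pow, mul_pow, map_mul, hatn, zero_mul]
    · rw [← map_pow, mul_pow]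
      -- r^(n-1) = C((-1)^(n-1)) + t * r₂
      have hdvd : t ∣ r ^ (n - 1) - Polynomial.C (Polynomial.eval 0 (r ^ (n - 1))) := by
        rw [ht, Polynomial.X_dvd_iff, Polynomial.coeff_sub, Polynomial.coeff_C_zero,
          Polynomial.coeff_zero_eq_eval_zero, sub_self]
      obtain ⟨r₂, hr₂⟩ := hdvd
      have hrr : r ^ (n - 1) = Polynomial.C ((-1 : K) ^ (n - 1)) + t * r₂ := by
        rw [← hr₂, Polynomial.eval_pow, hr0]; ring
      rw [hrr, mul_add]
      have e2 : t ^ (n - 1) * (t * r₂) = t ^ n * r₂ := by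
        rw [← mul_assoc, ← pow_succ]; congr 2; omega
      have haC : a (Polynomial.C ((-1 : K) ^ (n - 1)))
          = algebraMap K (Module.End K V) ((-1) ^ (n - 1)) := by rw [ha, Polynomial.aeval_C]
      rw [e2, map_add, map_mul a (t ^ n) r₂, hatn, zero_mul, add_zero, map_mul, map_pow, hat, haC]
      intro h0
      apply hX1
      have hne : ((-1 : K) ^ (n - 1)) ≠ 0 := pow_ne_zero _ (neg_ne_zero.mpr one_ne_zero)
      have : Xo ^ (n - 1) * (algebraMap K (Module.End K V)) ((-1) ^ (n - 1))
          = ((-1 : K) ^ (n - 1)) • Xo ^ (n - 1) := by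
        rw [Algebra.algebraMap_eq_smul_one, mul_smul_comm, mul_one]
      rw [this] at h0
      exact (smul_eq_zero.mp h0).resolve_left hne

theorem exists_RU_factor_of_rank_one [FiniteDimensional K V] {n : ℕ} (hn : 3 ≤ n)
    (hV : finrank K V = n) (A : Module.End K V) (hdet : LinearMap.det A = 1)
    (hrank : finrank K (LinearMap.range (A - 1)) = 1) :
    ∃ L U : Module.End K V, A = L * U ∧ RU n L ∧ RU n U := by
  classical
  set N : Module.End K V := A - 1 with hN
  -- the vector `a` and the functional `f`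
  let bR : Basis (Fin 1) K (LinearMap.range N) := Module.finBasisOfFinrankEq K _ hrank
  set a : V := (bR 0 : V) with ha
  let f : Module.Dual K V := (bR.coord 0) ∘ₗ N.rangeRestrict
  have hNf : ∀ v, N v = f v • a := by
    intro v
    have h1 : (N.rangeRestrict v : LinearMap.range N) = ∑ i, bR.repr (N.rangeRestrict v) i • bR i :=
      (bR.sum_repr _).symm
    have h2 := congrArg (Subtype.val) h1
    simp only [Fin.sum_univ_one, Fin.isValue] at h2
    simpa [f] using h2
  have ha0 : a ≠ 0 := by
    intro h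
    exact bR.ne_zero 0 (Subtype.ext h)
  -- `f a = 0` from the determinant
  have hAt : A = LinearMap.transvection f a := by
    apply LinearMap.ext
    intro x
    rw [LinearMap.transvection.apply, ← hNf x, hN]
    simp
  have hfa : f a = 0 := by
    have := LinearMap.transvection.det f a
    rw [← hAt, hdet] at this
    have h2 : (1 : K) + 0 = 1 + f a := by rw [add_zero]; exact this
    exact (add_left_cancel h2).symm
  -- `c` with `f c = 1`
  obtain ⟨c, hc⟩ : ∃ c, f c = 1 := by
    obtain ⟨v₀, hv₀⟩ : ∃ v₀, N v₀ = a := (bR 0).2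
    refine ⟨v₀, ?_⟩
    have := hNf v₀
    rw [hv₀] at this
    have h3 : (f v₀ - 1) • a = 0 := by rw [sub_smul, one_smul, ← this, sub_self]
    rcases smul_eq_zero.mp h3 with h | h
    · exact sub_eq_zero.mp h
    · exact absurd h ha0
  -- `g` with `g a = 1`
  obtain ⟨g, hga⟩ : ∃ g : Module.Dual K V, g a = 1 := by
    obtain ⟨g₀, hg₀⟩ : ∃ g₀ : Module.Dual K V, g₀ a ≠ 0 := by
      by_contra h
      push_neg at h
      exact ha0 ((Module.forall_dual_apply_eq_zero_iff K a).mp h)
    exact ⟨(g₀ a)⁻¹ • g₀, by simp [hg₀]⟩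
  -- bases
  set N₀ : Submodule K V := LinearMap.ker f ⊓ LinearMap.ker g with hN₀
  let b₀ : Basis (Fin (finrank K N₀)) K N₀ := Module.finBasis K N₀
  set m := finrank K N₀ with hm
  have haker : a ∈ LinearMap.ker f := hfa
  let b₁ : Basis (Fin (m + 1)) K (LinearMap.ker f) :=
    Basis.mkFinSnocOfLE b₀ inf_le_left a haker
      (by
        intro c' x hx hcx
        have := congrArg g hcx
        rw [map_add, map_smul, hga, LinearMap.mem_ker.mp hx.2, map_zero] at this
        simpa using this)
      (by
        intro z hz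
        refine ⟨-(g z), ?_, ?_⟩
        · show z + -g z • a ∈ LinearMap.ker f
          rw [LinearMap.mem_ker, map_add, map_smul, hfa, LinearMap.mem_ker.mp hz]; simp
        · show z + -g z • a ∈ LinearMap.ker g
          rw [LinearMap.mem_ker, map_add, map_smul, hga]; simp)
  let b : Basis (Fin (m + 1 + 1)) K V :=
    Basis.mkFinCons c b₁
      (by
        intro c' x hx hcx
        have := congrArg f hcx
        rw [map_add, map_smul, hc, LinearMap.mem_ker.mp hx, map_zero] at this
        simpa using this)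
      (by
        intro z
        refine ⟨-(f z), ?_⟩
        rw [LinearMap.mem_ker, map_add, map_smul, hc]; simp)
  have hb : (b : Fin (m + 1 + 1) → V) = Fin.cons c ((↑) ∘ b₁) := Basis.coe_mkFinCons _ _ _ _
  have hb₁ : (b₁ : Fin (m + 1) → LinearMap.ker f) =
      Fin.snoc (Submodule.inclusion inf_le_left ∘ b₀) ⟨a, haker⟩ := Basis.coe_mkFinSnocOfLE _ _ _ _ _ _
  have hnm : n = m + 1 + 1 := by
    rw [← hV, Module.finrank_eq_card_basis b, Fintype.card_fin]
  subst hnm
  have hb0 : b 0 = c := by rw [hb]; rfl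
  have hbsucc : ∀ j : Fin (m + 1), b j.succ = (b₁ j : V) := by
    intro j; rw [hb]; simp
  have hblast : b ⟨m + 1, by omega⟩ = a := by
    have : (⟨m + 1, by omega⟩ : Fin (m + 1 + 1)) = (Fin.last m).succ := by
      apply Fin.ext; simp
    rw [this, hbsucc, hb₁]
    simp
  have hfb : ∀ j : Fin (m + 1 + 1), j ≠ 0 → f (b j) = 0 := by
    intro j hj
    obtain ⟨i, rfl⟩ := Fin.exists_succ_eq.mpr hj
    rw [hbsucc]
    exact (b₁ i).2
  -- the shift operator
  set Xo := shiftOp b with hXo
  have hNX : N = Xo ^ (m + 1 + 1 - 1) := by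
    apply b.ext
    intro j
    rw [hNf, shiftOp_pow_apply]
    by_cases hj : j = 0
    · subst hj
      rw [hb0, hc, one_smul, dif_pos (by simp)]
      simp only [Fin.val_zero, zero_add]
      exact hblast.symm
    · rw [hfb j hj, zero_smul, dif_neg]
      have : 0 < j.val := Nat.pos_of_ne_zero (fun h => hj (Fin.ext h))
      omega
  have hX1 : Xo ^ (m + 1 + 1 - 1) ≠ 0 := by
    rw [← hNX]
    intro h0
    have := hNf c
    rw [h0, hc, one_smul, LinearMap.zero_apply] at this
    exact ha0 this.symm
  obtain ⟨L, U, hLU, hL, hU⟩ := ru_factor_of_nilpotent hn Xo (shiftOp_pow_n b) hX1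
  refine ⟨L, U, ?_, hL, hU⟩
  rw [← hLU, ← hNX, hN]
  abel

end Cfsg.Agent.Lib.Helper3.RUProd
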