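import Mathlib

set_option autoImplicit false

/-! A bound for the index of the centralizer of an element: if all commutators `g w g⁻¹ w⁻¹`
lie in a finite subgroup `D`, the centralizer of `w` has index at most `|D|`. -/

namespace Cfsg.Agent.Lib.Lead

variable {X : Type*} [Group X]

theorem index_centralizer_le_card [Finite X] (w : X) (D : Subgroup X)
    (h : ∀ g : X, g * w * g⁻¹ * w⁻¹ ∈ D) :
    (Subgroup.centralizer ({w} : Set X)).index ≤ Nat.card ↥D := by
  classical
  let C := Subgroup.centralizer ({w} : Set X)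
  let f : X → ↥D := fun g => ⟨g * w * g⁻¹ * w⁻¹, h g⟩
  have hf : ∀ a b : X, (QuotientGroup.leftRel C) a b → f a = f b := by
    intro a b hab
    rw [QuotientGroup.leftRel_apply] at hab
    have hc : (a⁻¹ * b) * w = w * (a⁻¹ * b) :=
      ((Subgroup.mem_centralizer_iff.mp hab) w (Set.mem_singleton w)).symm
    apply Subtype.ext
    show a * w * a⁻¹ * w⁻¹ = b * w * b⁻¹ * w⁻¹
    have : b * w * b⁻¹ = a * w * a⁻¹ := by
      calc b * w * b⁻¹ = a * ((a⁻¹ * b) * w) * b⁻¹ := by group
        _ = a * (w * (a⁻¹ * b)) * b⁻¹ := by rw [hc]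
        _ = a * w * a⁻¹ := by group
    rw [this]
  let F : X ⧸ C → ↥D := Quotient.lift f hf
  have hinj : Function.Injective F := by
    intro q₁ q₂
    induction q₁ using Quotient.inductionOn with | _ a => ?_
    induction q₂ using Quotient.inductionOn with | _ b => ?_
    intro hq
    have hq' : a * w * a⁻¹ * w⁻¹ = b * w * b⁻¹ * w⁻¹ := congrArg Subtype.val hq
    have hq'' : a * w * a⁻¹ = b * w * b⁻¹ := mul_right_cancel hq'
    apply Quotient.sound
    show (QuotientGroup.leftRel C) a b
    rw [QuotientGroup.leftRel_apply, Subgroup.mem_centralizer_iff]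
    intro x hx
    rw [Set.mem_singleton_iff] at hx
    subst hx
    calc x * (a⁻¹ * b) = a⁻¹ * (a * x * a⁻¹) * b := by group
      _ = a⁻¹ * (b * x * b⁻¹) * b := by rw [hq'']
      _ = a⁻¹ * b * x := by group
  rw [Subgroup.index_eq_card]
  exact Nat.card_le_card_of_injective F hinj

end Cfsg.Agent.Lib.Lead
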