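import Mathlib
import Cfsg.Agent.Lib.Helper3.Ru2Defs
import Cfsg.Agent.Lib.Lead.ClassBound

set_option autoImplicit false

/-! S3174/S3175 swarm, package CEN0: the Frattini subgroup is central. -/

namespace Cfsg.Agent.Lib.Helper3.Ru2

open scoped commutatorElement

/-- CEN0: the Frattini subgroup is central -/
theorem frattini_le_center {X : Type*} [Group X] [Finite X] (hX : IsPGroup 2 X)
    (hc : Nat.card ↥(frattini X) ≤ 8) (hd : ∀ U : Subgroup X, U.index ≤ 16 → frattini X ≤ U) :
    frattini X ≤ Subgroup.center X := by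
  have : Fact (Nat.Prime 2) := ⟨Nat.prime_two⟩
  intro f hf
  rw [Subgroup.mem_center_iff]
  intro w
  have hidx : (Subgroup.centralizer ({w} : Set X)).index ≤ 16 := by
    have h1 := Cfsg.Agent.Lib.Lead.index_centralizer_le_card w (frattini X) (fun g => by
      apply Cfsg.Agent.Lib.Lead.commutator_le_frattini_of_isPGroup hX
      have : g * w * g⁻¹ * w⁻¹ = ⁅g, w⁆ := (commutatorElement_def g w).symm
      rw [this]
      exact Subgroup.commutator_mem_commutator (Subgroup.mem_top _) (Subgroup.mem_top _))
    omega
  have := hd _ hidx hf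
  exact (Subgroup.mem_centralizer_iff.mp this) w (Set.mem_singleton w)

end Cfsg.Agent.Lib.Helper3.Ru2
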