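import Mathlib
import Cfsg.Agent.Lib.Helper3.Ru2Defs

set_option autoImplicit false

/-! S3174/S3175 swarm, package DER: `W' = Phi(W)`, elementary abelian. -/

namespace Cfsg.Agent.Lib.Helper3.Ru2

open scoped commutatorElement

variable {T : Type*} [Group T] {W : Subgroup T}

/-- in a finite `p`-group a proper subgroup lies in a subgroup of index `p` -/
theorem der_exists_index_p {G : Type*} [Group G] [Finite G] {p : ℕ} [Fact p.Prime]
    (hG : IsPGroup p G) (C : Subgroup G) (hC : C ≠ ⊤) :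
    ∃ K : Subgroup G, C ≤ K ∧ K.index = p := by
  have hfin : {K : Subgroup G | C ≤ K ∧ K ≠ ⊤}.Finite := Set.toFinite _
  obtain ⟨M, hM⟩ := hfin.exists_maximal ⟨C, le_refl C, hC⟩
  obtain ⟨⟨hCM, hMtop⟩, hmax⟩ := hM
  have hco : IsCoatom M := by
    refine ⟨hMtop, fun K hK => ?_⟩
    by_contra hKtop
    have := hmax ⟨hCM.trans hK.le, hKtop⟩ hK.le
    exact absurd (le_antisymm hK.le this) hK.ne
  exact ⟨M, hCM, (Cfsg.Agent.Lib.Lead.coatom_normal_index_of_isPGroup hG hco).2⟩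

/-- DER -/
theorem der_of_u1 (h : Hyp W) (hs : Str W) (hu : U1Prop W) :
    commutator ↥W = frattini ↥W ∧ ∀ f ∈ Phi W, f ^ 2 = 1 := by
  have : Fact (Nat.Prime 2) := ⟨Nat.prime_two⟩
  have hfin : Finite T := h.finite
  have hT := h.pgroup
  have hWp : IsPGroup 2 ↥W := hT.to_subgroup W
  have hle : commutator ↥W ≤ frattini ↥W :=
    Cfsg.Agent.Lib.Lead.commutator_le_frattini_of_isPGroup hWp
  -- (5)
  have heq : commutator ↥W = frattini ↥W := by
    by_contra hne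
    -- `C`: the commutator subgroup inside the group `frattini W`
    let C : Subgroup ↥(frattini ↥W) := (commutator ↥W).subgroupOf (frattini ↥W)
    have hCtop : C ≠ ⊤ := by
      intro htop
      apply hne
      apply le_antisymm hle
      intro x hx
      have : (⟨x, hx⟩ : ↥(frattini ↥W)) ∈ C := by rw [htop]; trivial
      exact this
    obtain ⟨K', hCK', hK'idx⟩ := der_exists_index_p (hWp.to_subgroup (frattini ↥W)) C hCtop
    -- transport to `T`
    let K : Subgroup T := (K'.map (frattini ↥W).subtype).map W.subtype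
    have hKPhi : K ≤ Phi W := by
      rintro _ ⟨y, ⟨k, -, rfl⟩, rfl⟩
      exact ⟨k.1, k.2, rfl⟩
    have hmemK : ∀ (x : T) (hxW : x ∈ W) (hxF : (⟨x, hxW⟩ : ↥W) ∈ frattini ↥W),
        (⟨⟨x, hxW⟩, hxF⟩ : ↥(frattini ↥W)) ∈ K' → x ∈ K := by
      intro x hxW hxF hk
      exact Subgroup.mem_map.mpr ⟨⟨x, hxW⟩, Subgroup.mem_map.mpr ⟨⟨⟨x, hxW⟩, hxF⟩, hk, rfl⟩, rfl⟩
    have hrel : K.relIndex (Phi W) = 2 := by
      have e1 : K = (K'.map (frattini ↥W).subtype).map W.subtype := rfl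
      have e2 : Phi W = (frattini ↥W).map W.subtype := rfl
      rw [e1, e2, Subgroup.relIndex_map_map_of_injective _ _ W.subtype_injective]
      have e3 : (K'.map (frattini ↥W).subtype).subgroupOf (frattini ↥W) = K' :=
        Subgroup.comap_map_eq_self_of_injective (frattini ↥W).subtype_injective K'
      rw [Subgroup.relIndex, e3, hK'idx]
    have hcomm : ∀ a ∈ W, ∀ b ∈ W, ⁅a, b⁆ ∈ K := by
      intro a ha b hb
      have h1 : ⁅(⟨a, ha⟩ : ↥W), (⟨b, hb⟩ : ↥W)⁆ ∈ commutator ↥W :=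
        Subgroup.commutator_mem_commutator (Subgroup.mem_top _) (Subgroup.mem_top _)
      have h2 := hle h1
      have h3 : (⟨⁅(⟨a, ha⟩ : ↥W), (⟨b, hb⟩ : ↥W)⁆, h2⟩ : ↥(frattini ↥W)) ∈ C := h1
      exact hmemK ⁅a, b⁆ (⁅(⟨a, ha⟩ : ↥W), (⟨b, hb⟩ : ↥W)⁆).2 h2 (hCK' h3)
    have := hu W K (Phi_le W) (le_refl W) hKPhi hrel hcomm
    rw [Subgroup.relIndex_self] at this
    omega
  refine ⟨heq, ?_⟩
  -- (6)
  intro f hf
  obtain ⟨hfW, hfF⟩ := (mem_Phi_iff W f).mp hf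
  rw [← heq, commutator_def, Subgroup.commutator_def] at hfF
  -- the elements of `W` whose image in `T` has square one and is central in `W`
  have key : ∀ x : ↥W, x ∈ Subgroup.closure {g | ∃ g₁ ∈ (⊤ : Subgroup ↥W), ∃ g₂ ∈ (⊤ : Subgroup ↥W), ⁅g₁, g₂⁆ = g} →
      (x : T) ^ 2 = 1 ∧ (x : T) ∈ Phi W := by
    intro x hx
    induction hx using Subgroup.closure_induction with
    | mem y hy =>
      obtain ⟨a, -, b, -, rfl⟩ := hy
      have hc : ⁅(a : T), (b : T)⁆ ∈ Phi W := comm_mem_Phi hT W a.2 b.2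
      refine ⟨?_, hc⟩
      -- `⁅a,b⁆² = ⁅a², b⁆ = 1`
      have hcen_a : ⁅(a : T), (b : T)⁆ * (b : T) = (b : T) * ⁅(a : T), (b : T)⁆ :=
        hs.phi_central _ hc _ b.2
      have ha2 : (a : T) ^ 2 ∈ Phi W := sq_mem_Phi hT W a.2
      have hcen2 : (a : T) ^ 2 * (b : T) = (b : T) * (a : T) ^ 2 := hs.phi_central _ ha2 _ b.2
      show (⁅(a : T), (b : T)⁆) ^ 2 = 1
      have e1 : ⁅(a : T), (b : T)⁆ ^ 2 = ⁅(a : T), (b : T)⁆ * ((a : T) * (b : T) * (a : T)⁻¹ * (b : T)⁻¹) := by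
        rw [pow_two, commutatorElement_def]
      -- `a * (c * b) * a⁻¹ * b⁻¹ = ...`
      have e2 : (a : T) * (⁅(a : T), (b : T)⁆ * (b : T)) * (a : T)⁻¹ * (b : T)⁻¹
          = (a : T) ^ 2 * (b : T) * ((a : T) ^ 2)⁻¹ * (b : T)⁻¹ := by
        rw [commutatorElement_def, pow_two]; group
      have hcen_a' : ⁅(a : T), (b : T)⁆ * (a : T) = (a : T) * ⁅(a : T), (b : T)⁆ :=
        hs.phi_central _ hc _ a.2
      have e3 : (a : T) * (⁅(a : T), (b : T)⁆ * (b : T)) * (a : T)⁻¹ * (b : T)⁻¹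
          = ⁅(a : T), (b : T)⁆ * ((a : T) * (b : T) * (a : T)⁻¹ * (b : T)⁻¹) := by
        calc (a : T) * (⁅(a : T), (b : T)⁆ * (b : T)) * (a : T)⁻¹ * (b : T)⁻¹
            = ((a : T) * ⁅(a : T), (b : T)⁆) * (b : T) * (a : T)⁻¹ * (b : T)⁻¹ := by group
          _ = (⁅(a : T), (b : T)⁆ * (a : T)) * (b : T) * (a : T)⁻¹ * (b : T)⁻¹ := by rw [hcen_a']
          _ = _ := by group
      rw [e1, ← e3, e2, hcen2]
      group
    | one => exact ⟨by simp, Subgroup.one_mem _⟩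
    | mul x y _ _ hx hy =>
      obtain ⟨hx2, hxP⟩ := hx
      obtain ⟨hy2, hyP⟩ := hy
      refine ⟨?_, Subgroup.mul_mem _ hxP hyP⟩
      have hxy : (x : T) * (y : T) = (y : T) * (x : T) := hs.phi_central _ hxP _ y.2
      show ((x : T) * (y : T)) ^ 2 = 1
      rw [pow_two]
      calc (x : T) * (y : T) * ((x : T) * (y : T)) = (x : T) * ((y : T) * (x : T)) * (y : T) := by group
        _ = (x : T) * ((x : T) * (y : T)) * (y : T) := by rw [hxy]
        _ = (x : T) ^ 2 * (y : T) ^ 2 := by rw [pow_two, pow_two]; group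
        _ = 1 := by rw [hx2, hy2, one_mul]
    | inv x _ hx =>
      obtain ⟨hx2, hxP⟩ := hx
      refine ⟨?_, Subgroup.inv_mem _ hxP⟩
      show ((x : T)⁻¹) ^ 2 = 1
      rw [inv_pow, hx2, inv_one]
  exact (key ⟨f, hfW⟩ hfF).1

end Cfsg.Agent.Lib.Helper3.Ru2
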