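import Mathlib
import Cfsg.Agent.Lib.Helper3.Ru2Defs
import Cfsg.Agent.Lib.Lead.ClassBound

set_option autoImplicit false

/-! S3174/S3175 swarm, package IDX: `W = C_T(Z_3)` is normal of index at most eight. -/

namespace Cfsg.Agent.Lib.Helper3.Ru2

open scoped commutatorElement

variable {T : Type*} [Group T] {W : Subgroup T}

/-- a subgroup strictly above a subgroup of order `2 ^ i` inside a subgroup of order `2 ^ (i+1)`
is everything -/
theorem idx_squeeze [Finite T] {A B C : Subgroup T} (i : ℕ) (hAB : A < B) (hBC : B ≤ C)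
    (hA : Nat.card ↥A = 2 ^ i) (hC : Nat.card ↥C = 2 ^ (i + 1)) : B = C := by
  apply Subgroup.eq_of_le_of_card_ge hBC
  have h1 : Nat.card ↥A < Nat.card ↥B := by
    rcases lt_or_eq_of_le (Subgroup.card_le_of_le hAB.le) with h | h
    · exact h
    · exact absurd (Subgroup.eq_of_le_of_card_ge hAB.le (le_of_eq h.symm)) hAB.ne
  have h2 : Nat.card ↥A ∣ Nat.card ↥B := Subgroup.card_dvd_of_le hAB.le
  obtain ⟨k, hk⟩ := h2
  have hk2 : 2 ≤ k := by
    by_contra hcon
    have : k = 0 ∨ k = 1 := by omega
    rcases this with rfl | rfl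
    · rw [mul_zero] at hk; rw [hk] at h1; omega
    · rw [mul_one] at hk; omega
  rw [hC, hk, hA, pow_succ]
  exact Nat.mul_le_mul_left _ hk2

/-- IDX: `W` is normal of index at most `8` -/
theorem index_le (h : Hyp W)
    (hucs : ∀ i : ℕ, i ≤ 4 → Nat.card ↥(Subgroup.upperCentralSeries T i) = 2 ^ i) :
    W.Normal ∧ W.index ≤ 8 := by
  have hfin : Finite T := h.finite
  have hW := h.hW
  refine ⟨?_, ?_⟩
  · rw [hW]; infer_instance
  · have c1 := hucs 1 (by omega)
    have c2 := hucs 2 (by omega)
    have c3 := hucs 3 (by omega)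
    have m12 : Subgroup.upperCentralSeries T 1 ≤ Subgroup.upperCentralSeries T 2 :=
      Subgroup.upperCentralSeries_mono T (by omega)
    have m23 : Subgroup.upperCentralSeries T 2 ≤ Subgroup.upperCentralSeries T 3 :=
      Subgroup.upperCentralSeries_mono T (by omega)
    have l12 : Subgroup.upperCentralSeries T 1 < Subgroup.upperCentralSeries T 2 := by
      refine lt_of_le_of_ne m12 (fun e => ?_)
      rw [e, c2] at c1; omega
    have l23 : Subgroup.upperCentralSeries T 2 < Subgroup.upperCentralSeries T 3 := by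
      refine lt_of_le_of_ne m23 (fun e => ?_)
      rw [e, c3] at c2; omega
    obtain ⟨y, hy2, hy1⟩ := SetLike.exists_of_lt l12
    obtain ⟨z, hz3, hz2⟩ := SetLike.exists_of_lt l23
    -- commutators with `y` lie in `Z_1`, with `z` in `Z_2`
    have hyc : ∀ g : T, g * y * g⁻¹ * y⁻¹ ∈ Subgroup.upperCentralSeries T 1 := by
      intro g
      have := (Subgroup.mem_upperCentralSeries_succ_iff).mp hy2 g
      have e : g * y * g⁻¹ * y⁻¹ = (y * g * y⁻¹ * g⁻¹)⁻¹ := by group
      rw [e]; exact Subgroup.inv_mem _ this
    have hzc : ∀ g : T, g * z * g⁻¹ * z⁻¹ ∈ Subgroup.upperCentralSeries T 2 := by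
      intro g
      have := (Subgroup.mem_upperCentralSeries_succ_iff).mp hz3 g
      have e : g * z * g⁻¹ * z⁻¹ = (z * g * z⁻¹ * g⁻¹)⁻¹ := by group
      rw [e]; exact Subgroup.inv_mem _ this
    have iy := Cfsg.Agent.Lib.Lead.index_centralizer_le_card y _ hyc
    have iz := Cfsg.Agent.Lib.Lead.index_centralizer_le_card z _ hzc
    rw [c1] at iy
    rw [c2] at iz
    -- the intersection of the two centralizers lies in `W`
    have hle : Subgroup.centralizer ({y} : Set T) ⊓ Subgroup.centralizer ({z} : Set T) ≤ W := by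
      intro t ht
      have hty : y * t = t * y := (Subgroup.mem_centralizer_iff.mp ht.1) y (Set.mem_singleton y)
      have htz : z * t = t * z := (Subgroup.mem_centralizer_iff.mp ht.2) z (Set.mem_singleton z)
      -- `K`: the elements of `Z_3` commuting with `t`
      let K : Subgroup T := Subgroup.upperCentralSeries T 3 ⊓ Subgroup.centralizer ({t} : Set T)
      have hyK : y ∈ Subgroup.centralizer ({t} : Set T) := by
        rw [Subgroup.mem_centralizer_iff]; intro x hx
        rw [Set.mem_singleton_iff] at hx; rw [hx]; exact hty.symm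
      have hzK : z ∈ Subgroup.centralizer ({t} : Set T) := by
        rw [Subgroup.mem_centralizer_iff]; intro x hx
        rw [Set.mem_singleton_iff] at hx; rw [hx]; exact htz.symm
      have hZ1 : Subgroup.upperCentralSeries T 1 ≤ Subgroup.centralizer ({t} : Set T) := by
        intro x hx
        rw [Subgroup.upperCentralSeries_one] at hx
        rw [Subgroup.mem_centralizer_iff]; intro u hu
        rw [Set.mem_singleton_iff] at hu; rw [hu]
        exact (Subgroup.mem_center_iff.mp hx t)
      -- step 1: `Z_2 ≤ centralizer {t}`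
      have s1 : Subgroup.upperCentralSeries T 2 ⊓ Subgroup.centralizer ({t} : Set T)
          = Subgroup.upperCentralSeries T 2 := by
        apply idx_squeeze 1 (A := Subgroup.upperCentralSeries T 1) _ inf_le_left (by rw [c1]) (by rw [c2])
        refine lt_of_le_of_ne (le_inf m12 hZ1) (fun e => hy1 ?_)
        rw [e]; exact ⟨hy2, hyK⟩
      have hZ2 : Subgroup.upperCentralSeries T 2 ≤ Subgroup.centralizer ({t} : Set T) := by
        rw [← s1]; exact inf_le_right
      have s2 : K = Subgroup.upperCentralSeries T 3 := by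
        apply idx_squeeze 2 (A := Subgroup.upperCentralSeries T 2) _ inf_le_left (by rw [c2]) (by rw [c3])
        refine lt_of_le_of_ne (le_inf m23 hZ2) (fun e => hz2 ?_)
        rw [e]; exact ⟨hz3, hzK⟩
      rw [hW, Subgroup.mem_centralizer_iff]
      intro x hx
      have hxK : x ∈ K := by rw [s2]; exact hx
      exact ((Subgroup.mem_centralizer_iff.mp hxK.2) t (Set.mem_singleton t)).symm
    have hdvd := Subgroup.index_dvd_of_le hle
    have hpos : (Subgroup.centralizer ({y} : Set T) ⊓ Subgroup.centralizer ({z} : Set T)).index ≠ 0 :=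
      Subgroup.index_ne_zero_of_finite
    have hinf := Subgroup.index_inf_le (H := Subgroup.centralizer ({y} : Set T))
      (K := Subgroup.centralizer ({z} : Set T))
    have h1 : W.index ≤ (Subgroup.centralizer ({y} : Set T) ⊓
        Subgroup.centralizer ({z} : Set T)).index := Nat.le_of_dvd (Nat.pos_of_ne_zero hpos) hdvd
    calc W.index ≤ _ := h1
      _ ≤ (Subgroup.centralizer ({y} : Set T)).index * (Subgroup.centralizer ({z} : Set T)).index := hinf
      _ ≤ 2 ^ 1 * 2 ^ 2 := Nat.mul_le_mul iy iz
      _ = 8 := by norm_num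

end Cfsg.Agent.Lib.Helper3.Ru2
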