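import Mathlib
import Cfsg.Agent.Lib.Helper3.Ru2Defs

set_option autoImplicit false

/-! S3174/S3175 swarm, package NUM: the numerical part of the structure theorem. -/

namespace Cfsg.Agent.Lib.Helper3.Ru2

open scoped commutatorElement

variable {T : Type*} [Group T] {W : Subgroup T}

/-- NUM: the numerical part of the structure theorem -/
theorem str_of_hyp (h : Hyp W)
    (hucs : ∀ i : ℕ, i ≤ 4 → Nat.card ↥(Subgroup.upperCentralSeries T i) = 2 ^ i)
    (hidx : W.Normal ∧ W.index ≤ 8)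
    (hcen : ∀ f ∈ Phi W, ∀ w ∈ W, f * w = w * f)
    (hfix : Nat.card ↥W * Nat.card ↥(Phi W) ^ (W.index - 1) ≤ Nat.card ↥(fixMod W ⊤) ^ W.index)
    (hle : ∀ a : ℕ, Nat.card ↥(Phi W) ≤ 2 ^ a → Phi W ≤ Subgroup.upperCentralSeries T a) :
    Str W := by
  have : Fact (Nat.Prime 2) := ⟨Nat.prime_two⟩
  have hfin : Finite T := h.finite
  have hT := h.pgroup
  obtain ⟨hWn, hk8⟩ := hidx
  -- exponents
  obtain ⟨n, hn⟩ := hT.index W
  obtain ⟨a, ha⟩ := (hT.to_subgroup (Phi W)).exists_card_eq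
  obtain ⟨w, hw⟩ := (hT.to_subgroup W).exists_card_eq
  obtain ⟨t, ht⟩ := hT.exists_card_eq
  obtain ⟨x, hx⟩ := (hT.to_subgroup (fixMod W ⊤)).exists_card_eq
  have ha3 : a ≤ 3 := by
    have h1 := h.card_frat
    rw [← card_Phi, ha] at h1
    have : (2 : ℕ) ^ a ≤ 2 ^ 3 := h1
    exact (Nat.pow_le_pow_iff_right (by norm_num)).mp this
  have hn3 : n ≤ 3 := by
    rw [hn] at hk8
    have : (2 : ℕ) ^ n ≤ 2 ^ 3 := hk8
    exact (Nat.pow_le_pow_iff_right (by norm_num)).mp this
  have ht14 : 14 ≤ t := by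
    have := h.card_ge
    rw [ht] at this
    exact (Nat.pow_le_pow_iff_right (by norm_num)).mp this
  have htw : t = w + n := by
    have := Subgroup.card_mul_index W
    rw [hw, hn, ht, ← pow_add] at this
    exact (Nat.pow_right_injective (le_refl 2) this).symm
  -- `Phi W ≤ Z_a`, so `fixMod W ⊤ ≤ Z_(a+1)`
  have hPhiZ : Phi W ≤ Subgroup.upperCentralSeries T a := hle a (le_of_eq ha)
  have hXZ : fixMod W ⊤ ≤ Subgroup.upperCentralSeries T (a + 1) := by
    intro u hu
    rw [Subgroup.mem_upperCentralSeries_succ_iff]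
    intro s
    have := hu.2 s (Subgroup.mem_top s)
    rw [commutatorElement_def] at this
    exact hPhiZ this
  have hx1 : x ≤ a + 1 := by
    have h1 := Subgroup.card_le_of_le hXZ
    rw [hx, hucs (a + 1) (by omega)] at h1
    exact (Nat.pow_le_pow_iff_right (by norm_num)).mp h1
  -- the fixed point inequality in exponents
  rw [hw, ha, hx, hn, ← pow_mul, ← pow_mul, ← pow_add] at hfix
  have hexp : w + a * (2 ^ n - 1) ≤ x * 2 ^ n := (Nat.pow_le_pow_iff_right (by norm_num)).mp hfix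
  have hn' : n = 3 ∧ a = 3 ∧ w = 11 ∧ x = 4 := by
    interval_cases n <;> interval_cases a <;> simp at hexp <;> omega
  obtain ⟨rfl, rfl, rfl, rfl⟩ := hn'
  have hXeq : fixMod W ⊤ = Subgroup.upperCentralSeries T 4 := by
    apply Subgroup.eq_of_le_of_card_ge hXZ
    rw [hx, hucs 4 (by omega)]
  have hPhieq : Phi W = Subgroup.upperCentralSeries T 3 := by
    apply Subgroup.eq_of_le_of_card_ge hPhiZ
    rw [ha, hucs 3 (by omega)]
  exact
    { normal := hWn
      card_T := by rw [ht, htw]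
      index_W := by rw [hn]; norm_num
      card_ucs := hucs
      phi_eq := hPhieq
      phi_central := hcen
      z4_le := by rw [← hXeq]; exact fixMod_le W ⊤
      fix_top := hXeq }

/-- FIX: the fixed point estimate in its final form -/
theorem fixProp_of_str (h : Hyp W) (hs : Str W)
    (hchain : ∀ S : Subgroup T, W ≤ S →
      Nat.card ↥(fixMod W S) * Nat.card ↥(Phi W) ^ (S.index - 1) ≤
        Nat.card ↥(fixMod W ⊤) ^ S.index) : FixProp W := by
  have : Fact (Nat.Prime 2) := ⟨Nat.prime_two⟩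
  have hfin : Finite T := h.finite
  have hT := h.pgroup
  intro S hWS
  have hc := hchain S hWS
  have hPhi : Nat.card ↥(Phi W) = 8 := by rw [hs.phi_eq, hs.card_ucs 3 (by omega)]; norm_num
  have hX : Nat.card ↥(fixMod W ⊤) = 16 := by rw [hs.fix_top, hs.card_ucs 4 (by omega)]; norm_num
  rw [hPhi, hX] at hc
  have hpos : 0 < S.index := Nat.pos_of_ne_zero Subgroup.index_ne_zero_of_finite
  -- `c * 8^(k-1) ≤ 16^k = 8 * 2^k * 8^(k-1)`
  have h16 : (16 : ℕ) ^ S.index = 8 * 2 ^ S.index * 8 ^ (S.index - 1) := by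
    obtain ⟨k, hk⟩ : ∃ k, S.index = k + 1 := ⟨S.index - 1, by omega⟩
    rw [hk, Nat.add_sub_cancel]
    have : (16 : ℕ) ^ (k + 1) = 2 ^ (k + 1) * 8 ^ (k + 1) := by
      rw [← Nat.mul_pow]
    rw [this, pow_succ 8 k]
    ring
  rw [h16] at hc
  exact Nat.le_of_mul_le_mul_right hc (by positivity)

end Cfsg.Agent.Lib.Helper3.Ru2
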