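import Mathlib
import Cfsg.Agent.Lib.Helper3.Ru2Defs
import Cfsg.Agent.Lib.Lead.Nilpotent

set_option autoImplicit false

/-! S3174/S3175 swarm, package UCS: small normal subgroups lie in the upper central series; the
orders of the first four terms. -/

namespace Cfsg.Agent.Lib.Helper3.Ru2

open scoped commutatorElement

variable {T : Type*} [Group T] {W : Subgroup T}

/-- UCS-a (general): a normal subgroup of order at most `p ^ a` of a finite `p`-group lies in the
`a`-th term of the upper central series -/
theorem normal_le_ucs {G : Type*} [Group G] [Finite G] {p : ℕ} [Fact p.Prime] (hG : IsPGroup p G)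
    (N : Subgroup G) (hN : N.Normal) (a : ℕ) (hcard : Nat.card ↥N ≤ p ^ a) :
    N ≤ Subgroup.upperCentralSeries G a := by
  have hp : p.Prime := Fact.out
  induction a generalizing G with
  | zero =>
    rw [pow_zero] at hcard
    have : N = ⊥ := by
      have h1 : Nat.card ↥N = 1 := le_antisymm hcard Nat.card_pos
      exact Subgroup.card_eq_one.mp h1
    rw [this]; exact bot_le
  | succ a ih =>
    by_cases hbot : N = ⊥
    · rw [hbot]; exact bot_le
    have hnil : Group.IsNilpotent G := hG.isNilpotent
    have hne := Cfsg.Agent.Lib.Lead.inf_center_ne_bot N hbot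
    -- the map `N → G / Z(G)`
    let φ : ↥N →* G ⧸ Subgroup.center G := (QuotientGroup.mk' (Subgroup.center G)).comp N.subtype
    have hmap : N.map (QuotientGroup.mk' (Subgroup.center G)) = φ.range := by
      rw [MonoidHom.range_comp, Subgroup.range_subtype]
    -- the kernel is a nontrivial `p`-group
    have hker_ne : φ.ker ≠ ⊥ := by
      intro hk
      apply hne
      rw [eq_bot_iff]
      intro x hx
      have hxN : x ∈ N := hx.1
      have hxZ : x ∈ Subgroup.center G := hx.2
      have : (⟨x, hxN⟩ : ↥N) ∈ φ.ker := by
        rw [MonoidHom.mem_ker]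
        show (QuotientGroup.mk' (Subgroup.center G)) x = 1
        rw [QuotientGroup.mk'_apply, QuotientGroup.eq_one_iff]
        exact hxZ
      rw [hk, Subgroup.mem_bot] at this
      rw [Subgroup.mem_bot]
      exact congrArg Subtype.val this
    have hkp : IsPGroup p ↥φ.ker := (hG.to_subgroup N).to_subgroup _
    have hpd : p ∣ Nat.card ↥φ.ker := by
      obtain ⟨n, hn⟩ := hkp.exists_card_eq
      rcases n with _ | n
      · rw [pow_zero] at hn
        exact absurd (Subgroup.card_eq_one.mp hn) hker_ne
      · rw [hn, pow_succ]; exact dvd_mul_left _ _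
    have hmul : Nat.card ↥N = Nat.card ↥φ.range * Nat.card ↥φ.ker := by
      rw [Subgroup.card_eq_card_quotient_mul_card_subgroup φ.ker]
      congr 1
      exact Nat.card_congr (QuotientGroup.quotientKerEquivRange φ).toEquiv
    have hrange : Nat.card ↥φ.range ≤ p ^ a := by
      obtain ⟨k, hk⟩ := hpd
      have hkpos : 0 < k := by
        rcases Nat.eq_zero_or_pos k with h | h
        · rw [h, mul_zero] at hk
          have := Nat.card_pos (α := ↥φ.ker)
          omega
        · exact h
      have hcard' : Nat.card ↥N ≤ p ^ a * p := by rw [← pow_succ]; exact hcard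
      have : Nat.card ↥φ.range * p ≤ p ^ a * p := by
        calc Nat.card ↥φ.range * p ≤ Nat.card ↥φ.range * (p * k) :=
              Nat.mul_le_mul_left _ (Nat.le_mul_of_pos_right p hkpos)
          _ = Nat.card ↥N := by rw [hmul, hk]
          _ ≤ p ^ a * p := hcard'
      exact Nat.le_of_mul_le_mul_right this hp.pos
    have hGq : IsPGroup p (G ⧸ Subgroup.center G) := hG.to_quotient _
    have hNq : (N.map (QuotientGroup.mk' (Subgroup.center G))).Normal :=
      hN.map _ (QuotientGroup.mk'_surjective _)
    have := ih hGq (N.map (QuotientGroup.mk' (Subgroup.center G))) hNq (by rw [hmap]; exact hrange)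
    rw [← Subgroup.comap_upperCentralSeries_quotient_center]
    rw [← Subgroup.map_le_iff_le_comap]
    exact this

/-- the upper central series is stationary once two consecutive terms agree -/
theorem ucs_stationary {G : Type*} [Group G] (i : ℕ)
    (h : Subgroup.upperCentralSeries G (i + 1) = Subgroup.upperCentralSeries G i) (j : ℕ) :
    Subgroup.upperCentralSeries G (i + j) = Subgroup.upperCentralSeries G i := by
  induction j with
  | zero => rfl
  | succ j ih =>
    rw [← h]
    ext x
    rw [← add_assoc, Subgroup.mem_upperCentralSeries_succ_iff, Subgroup.mem_upperCentralSeries_succ_iff,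
      ih]

/-- UCS-b: `|Z_i(T)| = 2 ^ i` for `i ≤ 4` -/
theorem ucs_card (h : Hyp W) (i : ℕ) (hi : i ≤ 4) :
    Nat.card ↥(Subgroup.upperCentralSeries T i) = 2 ^ i := by
  have : Fact (Nat.Prime 2) := ⟨Nat.prime_two⟩
  have hfin : Finite T := h.finite
  have hnil : Group.IsNilpotent T := h.pgroup.isNilpotent
  -- every term is a power of two
  have hpow : ∀ j : ℕ, ∃ e : ℕ, Nat.card ↥(Subgroup.upperCentralSeries T j) = 2 ^ e := fun j =>
    (h.pgroup.to_subgroup _).exists_card_eq
  -- strictness below four
  have hstrict : ∀ j : ℕ, j < 4 →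
      Nat.card ↥(Subgroup.upperCentralSeries T j) < Nat.card ↥(Subgroup.upperCentralSeries T (j + 1)) := by
    intro j hj
    have hle : Subgroup.upperCentralSeries T j ≤ Subgroup.upperCentralSeries T (j + 1) :=
      Subgroup.upperCentralSeries_mono T (Nat.le_succ j)
    rcases lt_or_eq_of_le (Subgroup.card_le_of_le hle) with hlt | heq
    · exact hlt
    · exfalso
      have heq' : Subgroup.upperCentralSeries T (j + 1) = Subgroup.upperCentralSeries T j :=
        (Subgroup.eq_of_le_of_card_ge hle (le_of_eq heq.symm)).symm
      obtain ⟨n, hn⟩ := (Group.isNilpotent_iff (G := T)).mp hnil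
      have hst := ucs_stationary j heq'
      have htop : Subgroup.upperCentralSeries T j = ⊤ := by
        have h1 := hst n
        have h2 : Subgroup.upperCentralSeries T n ≤ Subgroup.upperCentralSeries T (j + n) :=
          Subgroup.upperCentralSeries_mono T (Nat.le_add_left n j)
        rw [hn, h1] at h2
        exact top_le_iff.mp h2
      have h4 : Subgroup.upperCentralSeries T j ≤ Subgroup.upperCentralSeries T 4 :=
        Subgroup.upperCentralSeries_mono T (by omega)
      rw [htop] at h4
      have h5 : Subgroup.upperCentralSeries T 4 = ⊤ := top_le_iff.mp h4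
      have h6 := h.card_Z4
      rw [h5, Subgroup.card_top] at h6
      have := h.card_ge
      omega
  have h0 : Nat.card ↥(Subgroup.upperCentralSeries T 0) = 1 := by
    rw [Subgroup.upperCentralSeries_zero, Subgroup.card_bot]
  obtain ⟨e1, he1⟩ := hpow 1
  obtain ⟨e2, he2⟩ := hpow 2
  obtain ⟨e3, he3⟩ := hpow 3
  have s0 := hstrict 0 (by omega)
  have s1 := hstrict 1 (by omega)
  have s2 := hstrict 2 (by omega)
  have s3 := hstrict 3 (by omega)
  have h4 := h.card_Z4
  simp only [zero_add, Nat.reduceAdd] at s0 s1 s2 s3
  rw [h0, he1] at s0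
  rw [he1, he2] at s1
  rw [he2, he3] at s2
  rw [he3, h4] at s3
  have a1 : 0 < e1 := by
    rcases Nat.eq_zero_or_pos e1 with h | h
    · rw [h] at s0; simp at s0
    · exact h
  have a2 : e1 < e2 := (Nat.pow_lt_pow_iff_right (by norm_num)).mp s1
  have a3 : e2 < e3 := (Nat.pow_lt_pow_iff_right (by norm_num)).mp s2
  have a4 : e3 < 4 := (Nat.pow_lt_pow_iff_right (a := 2) (by norm_num)).mp (by simpa using s3)
  have b1 : e1 = 1 := by omega
  have b2 : e2 = 2 := by omega
  have b3 : e3 = 3 := by omega
  interval_cases i
  · rw [h0]; rfl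
  · rw [he1, b1]
  · rw [he2, b2]
  · rw [he3, b3]
  · rw [h4]; rfl

end Cfsg.Agent.Lib.Helper3.Ru2
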