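import Mathlib
import Cfsg.Agent.Lib.Lead.S3Defs
import Cfsg.Agent.Lib.Helper8.SBS3

/-!
# S4305: first consequences of the critical configuration `Crit`
-/

set_option autoImplicit false
set_option linter.unusedSectionVars false
set_option linter.unusedVariables false

namespace Cfsg.Agent.Lib.Lead.S3

open Cfsg.Agent.Lib.Helper8.SBS

universe u w

variable {V : Type u} [AddCommGroup V] [Finite V] {T : Type w} [Group T] [Finite T]
  [DistribMulAction T V] {p : ℕ} {H : Subgroup T} {s t : T}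

theorem Crit.five_le (h : Crit V p H s t) : 5 ≤ p := by
  have h2 := h.hp.two_le
  have h4 : p ≠ 4 := by
    rintro rfl
    exact absurd h.hp (by decide)
  have := h.hp2
  have := h.hp3
  omega

theorem Crit.coprime_six (h : Crit V p H s t) : p.Coprime 6 := by
  have h2 : p.Coprime 2 := (Nat.coprime_primes h.hp Nat.prime_two).2 h.hp2
  have h3 : p.Coprime 3 := (Nat.coprime_primes h.hp Nat.prime_three).2 h.hp3
  have : p.Coprime (2 * 3) := Nat.Coprime.mul_right h2 h3
  exact this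

/-- `|V|` is a power of `p`. -/
theorem Crit.card_V (h : Crit V p H s t) : ∃ n, Nat.card V = p ^ n := by
  have : Fact p.Prime := ⟨h.hp⟩
  have hpg : IsPGroup p (Multiplicative V) := by
    intro g
    refine ⟨1, ?_⟩
    rw [pow_one]
    have := h.hVp (Multiplicative.toAdd g)
    exact congrArg Multiplicative.ofAdd this
  obtain ⟨n, hn⟩ := IsPGroup.iff_card.1 hpg
  exact ⟨n, hn⟩

theorem Crit.coprime_V (h : Crit V p H s t) {n : ℕ} (hn : p.Coprime n) :
    (Nat.card V).Coprime n := by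
  obtain ⟨k, hk⟩ := h.card_V
  rw [hk]
  exact Nat.Coprime.pow_left k hn

theorem Crit.coprime_V_closure (h : Crit V p H s t) :
    (Nat.card V).Coprime (Nat.card (Subgroup.closure ({s, t} : Set T))) :=
  Nat.Coprime.coprime_dvd_right (card_closure_dvd h.hs3 h.ht2 h.hts) (h.coprime_V h.coprime_six)

theorem Crit.coprime_V_of_isPGroup (h : Crit V p H s t) {q : ℕ} (hq : q.Prime) (hqp : q ≠ p)
    {Q : Subgroup T} (hQ : IsPGroup q Q) : (Nat.card V).Coprime (Nat.card Q) := by
  have : Fact q.Prime := ⟨hq⟩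
  obtain ⟨m, hm⟩ := IsPGroup.iff_card.1 hQ
  rw [hm]
  exact h.coprime_V (Nat.Coprime.pow_right m ((Nat.coprime_primes h.hp hq).2 (Ne.symm hqp)))

theorem Crit.coprime_closure_H (h : Crit V p H s t) :
    (Nat.card (Subgroup.closure ({s, t} : Set T))).Coprime (Nat.card H) :=
  Nat.Coprime.coprime_dvd_left (card_closure_dvd h.hs3 h.ht2 h.hts) h.hcop.symm

theorem Crit.conj_s_mem (h : Crit V p H s t) {x : T} (hx : x ∈ H) : s * x * s⁻¹ ∈ H :=
  h.hHn.conj_mem x hx s

theorem Crit.conj_t_mem (h : Crit V p H s t) {x : T} (hx : x ∈ H) : t * x * t⁻¹ ∈ H :=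
  h.hHn.conj_mem x hx t

theorem Crit.orderOf_s (h : Crit V p H s t) : orderOf s = 3 := by
  have : Fact (Nat.Prime 3) := ⟨Nat.prime_three⟩
  exact orderOf_eq_prime h.hs3 h.hs1

theorem Crit.orderOf_t (h : Crit V p H s t) : orderOf t = 2 := by
  have : Fact (Nat.Prime 2) := ⟨Nat.prime_two⟩
  exact orderOf_eq_prime h.ht2 h.ht1

/-- an element of `H` of order dividing `6` is trivial. -/
theorem Crit.eq_one_of_pow_six (h : Crit V p H s t) {x : T} (hx : x ∈ H) (h6 : x ^ 6 = 1) :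
    x = 1 := by
  have h1 : orderOf x ∣ 6 := orderOf_dvd_of_pow_eq_one h6
  have h2 : orderOf x ∣ Nat.card H := by
    have := orderOf_dvd_natCard (⟨x, hx⟩ : H)
    rwa [Subgroup.orderOf_mk] at this
  have h3 : orderOf x ∣ 1 := by
    have := Nat.dvd_gcd h2 h1
    rwa [h.hcop] at this
  exact orderOf_eq_one_iff.1 (Nat.dvd_one.1 h3)

theorem Crit.s_not_mem (h : Crit V p H s t) : s ∉ H := fun hs =>
  h.hs1 (h.eq_one_of_pow_six hs (by rw [show 6 = 3 * 2 by rfl, pow_mul, h.hs3, one_pow]))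

theorem Crit.t_not_mem (h : Crit V p H s t) : t ∉ H := fun ht =>
  h.ht1 (h.eq_one_of_pow_six ht (by rw [show 6 = 2 * 3 by rfl, pow_mul, h.ht2, one_pow]))

/-- `C_V(⟨s,t⟩) = 0`. -/
theorem Crit.fixedPts_closure (h : Crit V p H s t) :
    fixedPts (V := V) (Subgroup.closure ({s, t} : Set T)) = ⊥ := by
  rw [eq_bot_iff]
  intro v hv
  rw [AddSubgroup.mem_bot]
  exact h.hfpfV v (hv s (Subgroup.subset_closure (by simp)))
    (hv t (Subgroup.subset_closure (by simp)))

/-- invariance under `H`, `s`, `t` is invariance under `T`. -/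
theorem Crit.smul_mem_of_gens (h : Crit V p H s t) {W : AddSubgroup V}
    (hH : ∀ x ∈ H, ∀ w ∈ W, x • w ∈ W) (hs : ∀ w ∈ W, s • w ∈ W) (ht : ∀ w ∈ W, t • w ∈ W)
    (x : T) {w : V} (hw : w ∈ W) : x • w ∈ W := by
  obtain ⟨y, hy, a, ha, rfl⟩ := h.hgen x
  rw [mul_smul]
  apply hH y hy
  have hs2 : ∀ w ∈ W, s ^ 2 • w ∈ W := by
    intro w hw
    rw [pow_two, mul_smul]
    exact hs _ (hs _ hw)
  rcases (mem_closure_iff h.hs3 h.ht2 h.hts).1 ha with rfl | rfl | rfl | rfl | rfl | rfl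
  · rwa [one_smul]
  · exact hs _ hw
  · exact hs2 _ hw
  · exact ht _ hw
  · rw [mul_smul]; exact hs _ (ht _ hw)
  · rw [mul_smul]; exact hs2 _ (ht _ hw)

/-- irreducibility, in terms of the generators. -/
theorem Crit.irr_gens (h : Crit V p H s t) (W : AddSubgroup V)
    (hH : ∀ x ∈ H, ∀ w ∈ W, x • w ∈ W) (hs : ∀ w ∈ W, s • w ∈ W) (ht : ∀ w ∈ W, t • w ∈ W) :
    W = ⊥ ∨ W = ⊤ :=
  h.hirr W (fun x _ hw => h.smul_mem_of_gens hH hs ht x hw)

/-- the fixed points of a normal subgroup form a `T`-submodule. -/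
theorem smul_mem_fixedPts_of_normal {N : Subgroup T} (hN : N.Normal) (x : T) {v : V}
    (hv : v ∈ fixedPts (V := V) N) : x • v ∈ fixedPts (V := V) N := by
  intro n hn
  have h1 : x⁻¹ * n * x ∈ N := by
    have := hN.conj_mem n hn x⁻¹
    simpa using this
  have h2 : n • x • v = x • ((x⁻¹ * n * x) • v) := by
    rw [← mul_smul, ← mul_smul]
    congr 1
    group
  rw [h2, hv _ h1]

/-- a non-trivial normal subgroup of `T` inside `H` has no fixed points on `V`. -/
theorem Crit.fixedPts_eq_bot_of_normal (h : Crit V p H s t) {N : Subgroup T} (hN : N.Normal)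
    (hNH : N ≤ H) (hN1 : N ≠ ⊥) : fixedPts (V := V) N = ⊥ := by
  rcases h.hirr (fixedPts (V := V) N) (fun x _ hv => smul_mem_fixedPts_of_normal hN x hv) with h0 | h0
  · exact h0
  · exfalso
    apply hN1
    rw [eq_bot_iff]
    intro n hn
    rw [Subgroup.mem_bot]
    apply h.hfaith n (hNH hn)
    intro v
    have : v ∈ fixedPts (V := V) N := by rw [h0]; exact AddSubgroup.mem_top v
    exact this n hn

/-- `O_p(H) = 1`: a normal `p`-subgroup of `T` inside `H` is trivial. -/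
theorem Crit.normal_pgroup_eq_bot (h : Crit V p H s t) {N : Subgroup T} (hN : N.Normal)
    (hNH : N ≤ H) (hNp : IsPGroup p N) : N = ⊥ := by
  classical
  by_contra hN1
  have h0 := h.fixedPts_eq_bot_of_normal hN hNH hN1
  have : Fact p.Prime := ⟨h.hp⟩
  have : Fintype V := Fintype.ofFinite V
  have : Fintype (MulAction.fixedPoints N V) := Fintype.ofFinite _
  have hmod := hNp.card_modEq_card_fixedPoints (α := V)
  have hfix : Nat.card (MulAction.fixedPoints N V) = 1 := by
    rw [Nat.card_eq_one_iff_unique]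
    refine ⟨⟨?_⟩, ⟨⟨0, fun n => smul_zero n⟩⟩⟩
    intro a b
    have ha : (a : V) ∈ fixedPts (V := V) N := fun n hn => a.2 ⟨n, hn⟩
    have hb : (b : V) ∈ fixedPts (V := V) N := fun n hn => b.2 ⟨n, hn⟩
    rw [h0, AddSubgroup.mem_bot] at ha hb
    exact Subtype.ext (ha.trans hb.symm)
  obtain ⟨k, hk⟩ := h.card_V
  have hk0 : k ≠ 0 := by
    rintro rfl
    rw [pow_zero, Nat.card_eq_one_iff_unique] at hk
    obtain ⟨v, hv⟩ := h.hV
    exact hv (hk.1.elim v 0)
  rw [hfix, hk] at hmod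
  have h1 : p ∣ p ^ k := dvd_pow_self p hk0
  have h2 : p ^ k % p = 0 := Nat.mod_eq_zero_of_dvd h1
  have h3 : 1 % p = 1 := Nat.mod_eq_of_lt h.hp.one_lt
  have : p ^ k % p = 1 % p := hmod
  omega

end Cfsg.Agent.Lib.Lead.S3
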