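import Cfsg.Agent.Lib.Lead.SchDefs

/-!
# S4395, package QUOT: the module `V = P/C` of a Schmidt datum
-/

set_option autoImplicit false
universe u

namespace Cfsg.Agent.Lib.Lead.Sch

variable {X : Type u} [Group X] {p q : ℕ}

/-- `C` as a subgroup of `P`. -/
def SD.CP (sd : SD p q X) : Subgroup ↥sd.P := sd.C.subgroupOf sd.P

theorem SD.mem_CP (sd : SD p q X) (u : ↥sd.P) : u ∈ sd.CP ↔ (u : X) ∈ sd.C := Subgroup.mem_subgroupOf

instance SD.CP_normal (sd : SD p q X) : sd.CP.Normal := by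
  constructor
  intro n hn g
  rw [SD.mem_CP] at hn ⊢
  have hc : (n : X) ∈ Subgroup.center X := sd.C_central hn
  have : ((g * n * g⁻¹ : ↥sd.P) : X) = (n : X) := by
    push_cast
    rw [Subgroup.mem_center_iff] at hc
    rw [hc (g : X)]; group
  rw [this]; exact hn

/-- the quotient `P/C` is commutative. -/
noncomputable instance SD.quotCommGroup (sd : SD p q X) : CommGroup (↥sd.P ⧸ sd.CP) :=
  { (inferInstance : Group (↥sd.P ⧸ sd.CP)) with
    mul_comm := by
      intro a b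
      induction a using QuotientGroup.induction_on with | _ u => ?_
      induction b using QuotientGroup.induction_on with | _ v => ?_
      rw [← QuotientGroup.mk_mul, ← QuotientGroup.mk_mul, QuotientGroup.eq]
      rw [SD.mem_CP]
      have := sd.quot_comm (v⁻¹ : ↥sd.P) (Subgroup.inv_mem _ v.2) (u⁻¹ : ↥sd.P) (Subgroup.inv_mem _ u.2)
      have e : (((u * v)⁻¹ * (v * u) : ↥sd.P) : X) = (v : X)⁻¹ * (u : X)⁻¹ * ((v : X)⁻¹)⁻¹ * ((u : X)⁻¹)⁻¹ := by
        push_cast; group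
      rw [e]; simpa using this }

/-- `V := P/C`, written additively. -/
abbrev SD.V (sd : SD p q X) : Type u := Additive (↥sd.P ⧸ sd.CP)

/-- the projection `P → V`. -/
def SD.mkV (sd : SD p q X) (u : ↥sd.P) : sd.V := Additive.ofMul (QuotientGroup.mk u)

theorem SD.mkV_mul (sd : SD p q X) (u v : ↥sd.P) : sd.mkV (u * v) = sd.mkV u + sd.mkV v := rfl

theorem SD.mkV_one (sd : SD p q X) : sd.mkV 1 = 0 := rfl

theorem SD.mkV_inv (sd : SD p q X) (u : ↥sd.P) : sd.mkV u⁻¹ = - sd.mkV u := rfl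

theorem SD.mkV_surjective (sd : SD p q X) : Function.Surjective sd.mkV := by
  intro v
  obtain ⟨u, hu⟩ := QuotientGroup.mk_surjective (Additive.toMul v)
  exact ⟨u, by simp [SD.mkV, hu]⟩

theorem SD.mkV_eq_zero_iff (sd : SD p q X) (u : ↥sd.P) : sd.mkV u = 0 ↔ (u : X) ∈ sd.C := by
  rw [← SD.mem_CP]
  change Additive.ofMul (QuotientGroup.mk u : ↥sd.P ⧸ sd.CP) = Additive.ofMul 1 ↔ _
  rw [Additive.ofMul.injective.eq_iff, QuotientGroup.eq_one_iff]

theorem SD.mkV_eq_iff (sd : SD p q X) (u v : ↥sd.P) : sd.mkV u = sd.mkV v ↔ ((u : X)⁻¹ * (v : X)) ∈ sd.C := by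
  rw [← sub_eq_zero, ← neg_sub, neg_eq_zero, sub_eq_add_neg, add_comm, ← SD.mkV_inv, ← SD.mkV_mul, SD.mkV_eq_zero_iff]
  simp


/-- conjugation by `y` on `P`. -/
noncomputable def SD.conjP (sd : SD p q X) : ↥sd.P ≃* ↥sd.P :=
  haveI := sd.P_normal
  MulAut.conjNormal sd.y

theorem SD.conjP_coe (sd : SD p q X) (u : ↥sd.P) : ((sd.conjP u : ↥sd.P) : X) = sd.y * u * sd.y⁻¹ := by
  have := sd.P_normal
  exact MulAut.conjNormal_apply sd.y u

theorem SD.conjP_iterate_coe (sd : SD p q X) (n : ℕ) (u : ↥sd.P) :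
    (((⇑sd.conjP)^[n] u : ↥sd.P) : X) = sd.y ^ n * u * (sd.y ^ n)⁻¹ := by
  induction n generalizing u with
  | zero => simp
  | succ n ih =>
    rw [Function.iterate_succ_apply', SD.conjP_coe, ih, pow_succ']
    group

theorem SD.conjP_map_CP (sd : SD p q X) : sd.CP.map (sd.conjP : ↥sd.P →* ↥sd.P) = sd.CP := by
  have hfix : ∀ c : ↥sd.P, c ∈ sd.CP → sd.conjP c = c := by
    intro c hc
    rw [SD.mem_CP] at hc
    have hz := sd.C_central hc
    apply Subtype.ext
    rw [SD.conjP_coe]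
    rw [Subgroup.mem_center_iff] at hz
    rw [hz sd.y]; group
  ext c
  constructor
  · rintro ⟨c', hc', rfl⟩
    change sd.conjP c' ∈ sd.CP
    rw [hfix c' hc']; exact hc'
  · intro hc
    exact ⟨c, hc, hfix c hc⟩

/-- the automorphism `T` of `V` induced by conjugation with `y`. -/
noncomputable def SD.T (sd : SD p q X) : sd.V ≃+ sd.V :=
  MulEquiv.toAdditive (QuotientGroup.congr sd.CP sd.CP sd.conjP sd.conjP_map_CP)

theorem SD.T_mkV (sd : SD p q X) (u : ↥sd.P) : sd.T (sd.mkV u) = sd.mkV (sd.conjP u) := rfl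

theorem SD.T_iterate_mkV (sd : SD p q X) (n : ℕ) (u : ↥sd.P) :
    (⇑sd.T)^[n] (sd.mkV u) = sd.mkV ((⇑sd.conjP)^[n] u) := by
  induction n generalizing u with
  | zero => rfl
  | succ n ih => rw [Function.iterate_succ_apply', Function.iterate_succ_apply', ih, SD.T_mkV]

theorem SD.nsmul_mkV (sd : SD p q X) (n : ℕ) (u : ↥sd.P) : n • sd.mkV u = sd.mkV (u ^ n) := rfl

instance SD.finiteV [Finite X] (sd : SD p q X) : Finite sd.V :=
  inferInstanceAs (Finite (↥sd.P ⧸ sd.CP))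

theorem SD.card_P [Finite X] (sd : SD p q X) : Nat.card sd.P = Nat.card sd.V * Nat.card sd.C := by
  have h1 : Nat.card sd.P = Nat.card (↥sd.P ⧸ sd.CP) * Nat.card sd.CP :=
    Subgroup.card_eq_card_quotient_mul_card_subgroup sd.CP
  have h2 : Nat.card sd.CP = Nat.card sd.C :=
    Nat.card_congr (Subgroup.subgroupOfEquivOfLe sd.C_le).toEquiv
  rw [h1, h2]; rfl

/-- the subgroup of `X` lying over an additive subgroup of `V`. -/
def SD.over (sd : SD p q X) (W : AddSubgroup sd.V) : Subgroup X where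
  carrier := {x | ∃ h : x ∈ sd.P, sd.mkV ⟨x, h⟩ ∈ W}
  one_mem' := ⟨sd.P.one_mem, by
    have : sd.mkV ⟨1, sd.P.one_mem⟩ = 0 := rfl
    rw [this]; exact W.zero_mem⟩
  mul_mem' := by
    rintro a b ⟨ha, ha'⟩ ⟨hb, hb'⟩
    refine ⟨sd.P.mul_mem ha hb, ?_⟩
    have : sd.mkV ⟨a * b, sd.P.mul_mem ha hb⟩ = sd.mkV ⟨a, ha⟩ + sd.mkV ⟨b, hb⟩ := rfl
    rw [this]; exact W.add_mem ha' hb'
  inv_mem' := by
    rintro a ⟨ha, ha'⟩
    refine ⟨sd.P.inv_mem ha, ?_⟩
    have : sd.mkV ⟨a⁻¹, sd.P.inv_mem ha⟩ = - sd.mkV ⟨a, ha⟩ := rfl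
    rw [this]; exact W.neg_mem ha'

theorem SD.mem_over (sd : SD p q X) (W : AddSubgroup sd.V) (u : ↥sd.P) : (u : X) ∈ sd.over W ↔ sd.mkV u ∈ W :=
  ⟨fun ⟨_, h⟩ => h, fun h => ⟨u.2, h⟩⟩

theorem SD.irrMod [Finite X] [Fact p.Prime] [Fact q.Prime] (hpq : p ≠ q) (sd : SD p q X) :
    IrrMod p q sd.V sd.T := by
  refine ⟨?_, ?_, ?_, ?_⟩
  · intro v
    obtain ⟨u, rfl⟩ := sd.mkV_surjective v
    rw [SD.nsmul_mkV, SD.mkV_eq_zero_iff]
    exact sd.quot_exp u u.2
  · intro v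
    obtain ⟨u, rfl⟩ := sd.mkV_surjective v
    rw [SD.T_iterate_mkV]
    congr 1
    apply Subtype.ext
    rw [SD.conjP_iterate_coe]
    have hz := sd.yq_central
    rw [Subgroup.mem_center_iff] at hz
    rw [← hz (u : X)]; group
  · by_contra hall
    push Not at hall
    obtain ⟨u, hu, hmv⟩ := sd.moved
    obtain ⟨k, hk⟩ := sd.y_order
    apply hmv
    -- c := y u y⁻¹ u⁻¹ ∈ C
    have hc : sd.y * u * sd.y⁻¹ * u⁻¹ ∈ sd.C := by
      have h1 := hall (sd.mkV ⟨u, hu⟩)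
      rw [SD.T_mkV, SD.mkV_eq_iff, SD.conjP_coe] at h1
      have h2 := sd.C.inv_mem h1
      have e : ((sd.y * u * sd.y⁻¹)⁻¹ * u)⁻¹ = u⁻¹ * (sd.y * u * sd.y⁻¹) := by group
      rw [e] at h2
      have hz := sd.C_central h2
      rw [Subgroup.mem_center_iff] at hz
      have e2 : sd.y * u * sd.y⁻¹ * u⁻¹ = u * (u⁻¹ * (sd.y * u * sd.y⁻¹)) * u⁻¹ := by group
      rw [e2, hz u, mul_inv_cancel_right]; exact h2
    set c := sd.y * u * sd.y⁻¹ * u⁻¹ with hcdef
    have hcz := sd.C_central hc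
    rw [Subgroup.mem_center_iff] at hcz
    have hyu : sd.y * u * sd.y⁻¹ = c * u := by rw [hcdef]; group
    have hpow : ∀ n : ℕ, sd.y ^ n * u * (sd.y ^ n)⁻¹ = c ^ n * u := by
      intro n
      induction n with
      | zero => simp
      | succ n ih =>
        have : sd.y ^ (n + 1) * u * (sd.y ^ (n + 1))⁻¹ = sd.y * (sd.y ^ n * u * (sd.y ^ n)⁻¹) * sd.y⁻¹ := by
          rw [pow_succ']; group
        rw [this, ih]
        have : sd.y * (c ^ n * u) * sd.y⁻¹ = (sd.y * c ^ n * sd.y⁻¹) * (sd.y * u * sd.y⁻¹) := by group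
        rw [this, hyu]
        have hcn : sd.y * c ^ n * sd.y⁻¹ = c ^ n := by
          have : c ^ n * sd.y = sd.y * c ^ n := by
            have := (Commute.pow_left (show Commute c sd.y from (hcz sd.y).symm) n)
            exact this.eq
          rw [← this]; group
        rw [hcn, pow_succ]; group
    have h1 : c ^ (q ^ k) = 1 := by
      have hy1 : sd.y ^ (q ^ k) = 1 := by rw [← hk]; exact pow_orderOf_eq_one _
      have h := hpow (q ^ k)
      rw [hy1, one_mul, inv_one, mul_one] at h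
      have h' := h.symm
      simpa using h'
    -- c is a p-element
    have hcP : c ∈ sd.P := sd.C_le hc
    obtain ⟨j, hj⟩ := sd.P_pgroup ⟨c, hcP⟩
    have hj' : c ^ (p ^ j) = 1 := by
      have := congrArg Subtype.val hj
      simpa using this
    have hcop : Nat.Coprime (q ^ k) (p ^ j) := by
      apply Nat.Coprime.pow
      exact (Nat.coprime_primes (Fact.out) (Fact.out)).mpr (Ne.symm hpq)
    have hc1 : c = 1 := by
      have hd1 : orderOf c ∣ q ^ k := orderOf_dvd_of_pow_eq_one h1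
      have hd2 : orderOf c ∣ p ^ j := orderOf_dvd_of_pow_eq_one hj'
      have := Nat.eq_one_of_dvd_coprimes hcop hd1 hd2
      exact orderOf_eq_one_iff.mp this
    rw [hyu, hc1, one_mul]
  · intro W hW
    have hD := sd.irr (sd.over W) ?_ ?_ ?_
    · rcases hD with h | h
      · left
        rw [eq_bot_iff]
        intro v hv
        obtain ⟨u, rfl⟩ := sd.mkV_surjective v
        have : (u : X) ∈ sd.over W := (sd.mem_over W u).2 hv
        rw [h] at this
        exact (AddSubgroup.mem_bot).2 ((sd.mkV_eq_zero_iff u).2 this)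
      · right
        rw [eq_top_iff]
        intro v _
        obtain ⟨u, rfl⟩ := sd.mkV_surjective v
        have : (u : X) ∈ sd.over W := by rw [h]; exact u.2
        exact (sd.mem_over W u).1 this
    · intro c hc
      have hcP := sd.C_le hc
      refine ⟨hcP, ?_⟩
      have : sd.mkV ⟨c, hcP⟩ = 0 := (sd.mkV_eq_zero_iff ⟨c, hcP⟩).2 hc
      rw [this]; exact W.zero_mem
    · rintro x ⟨hx, _⟩; exact hx
    · rintro d ⟨hd, hd'⟩
      have := hW _ hd'
      rw [SD.T_mkV] at this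
      have e : sd.y * d * sd.y⁻¹ = ((sd.conjP ⟨d, hd⟩ : ↥sd.P) : X) := (sd.conjP_coe ⟨d, hd⟩).symm
      rw [e]
      exact (sd.mem_over W _).2 this

end Cfsg.Agent.Lib.Lead.Sch
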