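import Mathlib
import Cfsg.Agent.Lib.Lead.SchQuot

/-!
# S4395, package FIBA: the fibre product `P₀ ×_θ P_X` and the element `m = (y₀, y_X^j)`
-/

set_option autoImplicit false
universe u

namespace Cfsg.Agent.Lib.Lead.Sch

variable {G₀ X : Type u} [Group G₀] [Group X] {p q : ℕ}

/-- the fibre product of `P₀` and `P_X` over `θ : V₀ ≃+ V_X`. -/
def fibPY (sd₀ : SD p q G₀) (sdX : SD p q X) (θ : sd₀.V ≃+ sdX.V) : Subgroup (G₀ × X) where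
  carrier := {gx | ∃ (hg : gx.1 ∈ sd₀.P) (hx : gx.2 ∈ sdX.P),
    θ (sd₀.mkV ⟨gx.1, hg⟩) = sdX.mkV ⟨gx.2, hx⟩}
  mul_mem' := by
    rintro ⟨g, x⟩ ⟨g', x'⟩ ⟨hg, hx, h⟩ ⟨hg', hx', h'⟩
    refine ⟨sd₀.P.mul_mem hg hg', sdX.P.mul_mem hx hx', ?_⟩
    have e1 : sd₀.mkV ⟨g * g', sd₀.P.mul_mem hg hg'⟩ = sd₀.mkV ⟨g, hg⟩ + sd₀.mkV ⟨g', hg'⟩ :=
      sd₀.mkV_mul ⟨g, hg⟩ ⟨g', hg'⟩
    have e2 : sdX.mkV ⟨x * x', sdX.P.mul_mem hx hx'⟩ = sdX.mkV ⟨x, hx⟩ + sdX.mkV ⟨x', hx'⟩ :=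
      sdX.mkV_mul ⟨x, hx⟩ ⟨x', hx'⟩
    show θ (sd₀.mkV ⟨g * g', _⟩) = sdX.mkV ⟨x * x', _⟩
    rw [e1, e2, map_add]
    exact congrArg₂ (· + ·) h h'
  one_mem' := by
    refine ⟨sd₀.P.one_mem, sdX.P.one_mem, ?_⟩
    have e1 : sd₀.mkV ⟨1, sd₀.P.one_mem⟩ = 0 := sd₀.mkV_one
    have e2 : sdX.mkV ⟨1, sdX.P.one_mem⟩ = 0 := sdX.mkV_one
    show θ (sd₀.mkV ⟨1, _⟩) = sdX.mkV ⟨1, _⟩
    rw [e1, e2, map_zero]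
  inv_mem' := by
    rintro ⟨g, x⟩ ⟨hg, hx, h⟩
    refine ⟨sd₀.P.inv_mem hg, sdX.P.inv_mem hx, ?_⟩
    have e1 : sd₀.mkV ⟨g⁻¹, sd₀.P.inv_mem hg⟩ = - sd₀.mkV ⟨g, hg⟩ := sd₀.mkV_inv ⟨g, hg⟩
    have e2 : sdX.mkV ⟨x⁻¹, sdX.P.inv_mem hx⟩ = - sdX.mkV ⟨x, hx⟩ := sdX.mkV_inv ⟨x, hx⟩
    show θ (sd₀.mkV ⟨g⁻¹, _⟩) = sdX.mkV ⟨x⁻¹, _⟩
    rw [e1, e2, map_neg, h]

theorem mem_fibPY (sd₀ : SD p q G₀) (sdX : SD p q X) (θ : sd₀.V ≃+ sdX.V) (g : G₀) (x : X) :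
    (g, x) ∈ fibPY sd₀ sdX θ ↔
      ∃ (hg : g ∈ sd₀.P) (hx : x ∈ sdX.P), θ (sd₀.mkV ⟨g, hg⟩) = sdX.mkV ⟨x, hx⟩ := Iff.rfl

theorem fibPY_fst_mem (sd₀ : SD p q G₀) (sdX : SD p q X) (θ : sd₀.V ≃+ sdX.V) {n : G₀ × X}
    (hn : n ∈ fibPY sd₀ sdX θ) : n.1 ∈ sd₀.P := hn.1

theorem fibPY_snd_mem (sd₀ : SD p q G₀) (sdX : SD p q X) (θ : sd₀.V ≃+ sdX.V) {n : G₀ × X}
    (hn : n ∈ fibPY sd₀ sdX θ) : n.2 ∈ sdX.P := hn.2.1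

/-- `pr₁ : PY → P₀` is onto. -/
theorem fibPY_fst_surj (sd₀ : SD p q G₀) (sdX : SD p q X) (θ : sd₀.V ≃+ sdX.V) (g : G₀)
    (hg : g ∈ sd₀.P) : ∃ x : X, (g, x) ∈ fibPY sd₀ sdX θ := by
  obtain ⟨u, hu⟩ := sdX.mkV_surjective (θ (sd₀.mkV ⟨g, hg⟩))
  exact ⟨(u : X), hg, u.2, hu.symm⟩

/-- `pr₂ : PY → P_X` is onto. -/
theorem fibPY_snd_surj (sd₀ : SD p q G₀) (sdX : SD p q X) (θ : sd₀.V ≃+ sdX.V) (x : X)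
    (hx : x ∈ sdX.P) : ∃ g : G₀, (g, x) ∈ fibPY sd₀ sdX θ := by
  obtain ⟨u, hu⟩ := sd₀.mkV_surjective (θ.symm (sdX.mkV ⟨x, hx⟩))
  refine ⟨(u : G₀), u.2, hx, ?_⟩
  show θ (sd₀.mkV ⟨(u : G₀), u.2⟩) = _
  have : (⟨(u : G₀), u.2⟩ : ↥sd₀.P) = u := rfl
  rw [this, hu, AddEquiv.apply_symm_apply]

theorem fibPY_left (sd₀ : SD p q G₀) (sdX : SD p q X) (θ : sd₀.V ≃+ sdX.V) (g : G₀)
    (h : (g, (1 : X)) ∈ fibPY sd₀ sdX θ) : g ∈ sd₀.C := by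
  obtain ⟨hg, hx, h⟩ := h
  have e2 : sdX.mkV ⟨1, hx⟩ = 0 := sdX.mkV_one
  have h' : θ (sd₀.mkV ⟨g, hg⟩) = 0 := h.trans e2
  have h0 : sd₀.mkV ⟨g, hg⟩ = 0 := by
    have := congrArg θ.symm h'
    simpa using this
  exact (sd₀.mkV_eq_zero_iff ⟨g, hg⟩).1 h0

theorem fibPY_right (sd₀ : SD p q G₀) (sdX : SD p q X) (θ : sd₀.V ≃+ sdX.V) (x : X)
    (h : ((1 : G₀), x) ∈ fibPY sd₀ sdX θ) : x ∈ sdX.C := by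
  obtain ⟨hg, hx, h⟩ := h
  have e1 : sd₀.mkV ⟨1, hg⟩ = 0 := sd₀.mkV_one
  have h' : sdX.mkV ⟨x, hx⟩ = 0 := by
    have h2 : θ (sd₀.mkV ⟨1, hg⟩) = sdX.mkV ⟨x, hx⟩ := h
    rw [← h2, e1, map_zero]
  exact (sdX.mkV_eq_zero_iff ⟨x, hx⟩).1 h'

theorem fibPY_C (sd₀ : SD p q G₀) (sdX : SD p q X) (θ : sd₀.V ≃+ sdX.V) (g : G₀) (x : X)
    (hg : g ∈ sd₀.C) (hx : x ∈ sdX.C) : (g, x) ∈ fibPY sd₀ sdX θ := by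
  refine ⟨sd₀.C_le hg, sdX.C_le hx, ?_⟩
  have e1 : sd₀.mkV ⟨g, sd₀.C_le hg⟩ = 0 := (sd₀.mkV_eq_zero_iff ⟨g, sd₀.C_le hg⟩).2 hg
  have e2 : sdX.mkV ⟨x, sdX.C_le hx⟩ = 0 := (sdX.mkV_eq_zero_iff ⟨x, sdX.C_le hx⟩).2 hx
  show θ (sd₀.mkV ⟨g, _⟩) = sdX.mkV ⟨x, _⟩
  rw [e1, e2, map_zero]

theorem fibPY_prodC_le (sd₀ : SD p q G₀) (sdX : SD p q X) (θ : sd₀.V ≃+ sdX.V) :
    sd₀.C.prod sdX.C ≤ fibPY sd₀ sdX θ := by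
  rintro ⟨g, x⟩ h
  rw [Subgroup.mem_prod] at h
  exact fibPY_C sd₀ sdX θ g x h.1 h.2

/-- `C₀ × C_X` is central in `G₀ × X`. -/
theorem prodC_central (sd₀ : SD p q G₀) (sdX : SD p q X) :
    sd₀.C.prod sdX.C ≤ Subgroup.center (G₀ × X) := by
  rintro ⟨g, x⟩ h
  rw [Subgroup.mem_prod] at h
  rw [Subgroup.mem_center_iff]
  rintro ⟨a, b⟩
  have h1 := Subgroup.mem_center_iff.1 (sd₀.C_central h.1) a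
  have h2 := Subgroup.mem_center_iff.1 (sdX.C_central h.2) b
  exact Prod.ext h1 h2

/-- conjugation by `y^j` on `P`, as an iterate of `conjP`. -/
theorem SD.conjP_iterate_eq (sd : SD p q X) (j : ℕ) (u : ↥sd.P) :
    (((⇑sd.conjP)^[j] u : ↥sd.P) : X) = sd.y ^ j * u * (sd.y ^ j)⁻¹ := by
  rw [sd.conjP_iterate_coe]

/-- `m = (y₀, y_X^j)` normalizes `PY`. -/
theorem fibPY_conj (sd₀ : SD p q G₀) (sdX : SD p q X) (θ : sd₀.V ≃+ sdX.V) (j : ℕ)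
    (hθ : ∀ v, θ (sd₀.T v) = (⇑sdX.T)^[j] (θ v)) (n : G₀ × X) (hn : n ∈ fibPY sd₀ sdX θ) :
    (sd₀.y, sdX.y ^ j) * n * (sd₀.y, sdX.y ^ j)⁻¹ ∈ fibPY sd₀ sdX θ := by
  obtain ⟨g, x⟩ := n
  obtain ⟨hg, hx, h⟩ := hn
  have hg' : sd₀.y * g * sd₀.y⁻¹ ∈ sd₀.P := sd₀.P_normal.conj_mem g hg sd₀.y
  have hx' : sdX.y ^ j * x * (sdX.y ^ j)⁻¹ ∈ sdX.P := sdX.P_normal.conj_mem x hx (sdX.y ^ j)
  refine ⟨hg', hx', ?_⟩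
  have e1 : (⟨sd₀.y * g * sd₀.y⁻¹, hg'⟩ : ↥sd₀.P) = sd₀.conjP ⟨g, hg⟩ :=
    Subtype.ext (sd₀.conjP_coe ⟨g, hg⟩).symm
  have e2 : (⟨sdX.y ^ j * x * (sdX.y ^ j)⁻¹, hx'⟩ : ↥sdX.P) = (⇑sdX.conjP)^[j] ⟨x, hx⟩ :=
    Subtype.ext (sdX.conjP_iterate_eq j ⟨x, hx⟩).symm
  show θ (sd₀.mkV ⟨sd₀.y * g * sd₀.y⁻¹, hg'⟩) = sdX.mkV ⟨sdX.y ^ j * x * (sdX.y ^ j)⁻¹, hx'⟩
  rw [e1, e2, ← sd₀.T_mkV, hθ, ← sdX.T_iterate_mkV]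
  exact congrArg _ h

/-- `PY` is a `p`-group. -/
theorem fibPY_pgroup (sd₀ : SD p q G₀) (sdX : SD p q X) (θ : sd₀.V ≃+ sdX.V) :
    IsPGroup p (fibPY sd₀ sdX θ) := by
  rintro ⟨⟨g, x⟩, hn⟩
  obtain ⟨k₁, hk₁⟩ := sd₀.P_pgroup ⟨g, hn.1⟩
  obtain ⟨k₂, hk₂⟩ := sdX.P_pgroup ⟨x, hn.2.1⟩
  have h1 : g ^ p ^ k₁ = 1 := by simpa using congrArg Subtype.val hk₁
  have h2 : x ^ p ^ k₂ = 1 := by simpa using congrArg Subtype.val hk₂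
  refine ⟨k₁ + k₂, Subtype.ext ?_⟩
  show (g, x) ^ p ^ (k₁ + k₂) = 1
  rw [Prod.pow_mk]
  refine Prod.ext ?_ ?_
  · show g ^ p ^ (k₁ + k₂) = 1
    rw [pow_add, pow_mul, h1, one_pow]
  · show x ^ p ^ (k₁ + k₂) = 1
    rw [pow_add, mul_comm, pow_mul, h2, one_pow]

/-- `m ^ q` is central. -/
theorem fibm_pow_central (sd₀ : SD p q G₀) (sdX : SD p q X) (j : ℕ) :
    (sd₀.y, sdX.y ^ j) ^ q ∈ Subgroup.center (G₀ × X) := by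
  rw [Subgroup.mem_center_iff]
  rintro ⟨a, b⟩
  have h1 := Subgroup.mem_center_iff.1 sd₀.yq_central a
  have h2 : (sdX.y ^ j) ^ q ∈ Subgroup.center X := by
    rw [← pow_mul, mul_comm, pow_mul]
    exact (Subgroup.center X).pow_mem sdX.yq_central j
  have h2' := Subgroup.mem_center_iff.1 h2 b
  rw [Prod.pow_mk]
  exact Prod.ext h1 h2'

/-- the order of `m`. -/
theorem fibm_order (sd₀ : SD p q G₀) (sdX : SD p q X) (j r : ℕ) [Fact q.Prime] (hj : j.Coprime q)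
    (h0 : orderOf sd₀.y = q ^ r) (hX : orderOf sdX.y = q ^ r) :
    orderOf ((sd₀.y, sdX.y ^ j) : G₀ × X) = q ^ r := by
  have h2 : orderOf (sdX.y ^ j) = q ^ r := by
    rw [Nat.Coprime.orderOf_pow, hX]
    rw [hX]
    exact (Nat.Coprime.pow_left r hj.symm)
  rw [Prod.orderOf_mk, h0, h2, Nat.lcm_self]

end Cfsg.Agent.Lib.Lead.Sch
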