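import Mathlib
import Cfsg.Agent.Lib.Lead.Frattini

set_option autoImplicit false

namespace Cfsg.Agent.Lib.Lead.SmallExp

open Cfsg.Agent.Lib.Lead
open scoped commutatorElement

universe u

section basic

variable {X : Type*} [Group X]

/-- if `d = x⁻¹ χ(x)` is fixed by `χ`, `χ ^ q = 1` and `d` is a `p`-element with `p ≠ q` prime, then `χ x = x`. -/
theorem fixed_of_comm_fixed (χ : MulAut X) (p q : ℕ) (hp : p.Prime) (hq : q.Prime) (hqp : q ≠ p)
    (hχ : χ ^ q = 1) (x : X) (hd : χ (x⁻¹ * χ x) = x⁻¹ * χ x) (k : ℕ) (hk : (x⁻¹ * χ x) ^ (p ^ k) = 1) :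
    χ x = x := by
  set d := x⁻¹ * χ x with hdd
  have hiter : ∀ j : ℕ, (χ ^ j) x = x * d ^ j := by
    intro j
    induction j with
    | zero => simp
    | succ j ih =>
      rw [pow_succ', MulAut.mul_apply, ih, map_mul, map_pow, hd]
      have : χ x = x * d := by rw [hdd]; group
      rw [this, mul_assoc, ← pow_succ']
  have h1 := hiter q
  rw [hχ, MulAut.one_apply] at h1
  have hdq : d ^ q = 1 := by
    have : x * d ^ q = x * 1 := by rw [mul_one]; exact h1.symm
    exact mul_left_cancel this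
  have h2 : orderOf d ∣ q := orderOf_dvd_of_pow_eq_one hdq
  have h3 : orderOf d ∣ p ^ k := orderOf_dvd_of_pow_eq_one hk
  have hcop : Nat.Coprime q (p ^ k) := Nat.Coprime.pow_right k ((Nat.coprime_primes hq hp).mpr hqp)
  have h4 : orderOf d = 1 := Nat.eq_one_of_dvd_coprimes hcop h2 h3
  have hd1 : d = 1 := orderOf_eq_one_iff.mp h4
  have : χ x = x * d := by rw [hdd]; group
  rw [this, hd1, mul_one]

/-- power formula in class two: if `c = ⁅y, x⁆` commutes with `x` and `y` then
`(x * y) ^ n = x ^ n * y ^ n * c ^ (n * (n - 1) / 2)`. -/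
theorem mul_pow_class_two (x y : X) (hcx : Commute ⁅y, x⁆ x) (hcy : Commute ⁅y, x⁆ y) (n : ℕ) :
    (x * y) ^ n = x ^ n * y ^ n * ⁅y, x⁆ ^ (n * (n - 1) / 2) := by
  set c := ⁅y, x⁆ with hc
  have hyx : y * x = c * x * y := by rw [hc, commutatorElement_def]; group
  -- y^n * x = c^n * x * y^n
  have hynx : ∀ n : ℕ, y ^ n * x = c ^ n * x * y ^ n := by
    intro n
    induction n with
    | zero => simp
    | succ n ih =>
      calc y ^ (n + 1) * x = y ^ n * (y * x) := by rw [pow_succ]; group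
        _ = y ^ n * (c * x * y) := by rw [hyx]
        _ = c * (y ^ n * x) * y := by
            have := (hcy.pow_right n).eq
            calc y ^ n * (c * x * y) = (y ^ n * c) * x * y := by group
              _ = (c * y ^ n) * x * y := by rw [← this]
              _ = c * (y ^ n * x) * y := by group
        _ = c * (c ^ n * x * y ^ n) * y := by rw [ih]
        _ = c ^ (n + 1) * x * y ^ (n + 1) := by rw [pow_succ' c, pow_succ y]; group
  induction n with
  | zero => simp
  | succ n ih =>
    have hT : (n + 1) * (n + 1 - 1) / 2 = n * (n - 1) / 2 + n := by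
      have : (n + 1) * (n + 1 - 1) = n * (n - 1) + 2 * n := by
        cases n with
        | zero => simp
        | succ m => simp only [Nat.add_sub_cancel]; ring
      rw [this, Nat.add_mul_div_left _ _ (by norm_num : 0 < 2)]
    have hcxn : ∀ m k : ℕ, c ^ m * x ^ k = x ^ k * c ^ m := fun m k => ((hcx.pow_left m).pow_right k).eq
    have hcyn : ∀ m k : ℕ, c ^ m * y ^ k = y ^ k * c ^ m := fun m k => ((hcy.pow_left m).pow_right k).eq
    calc (x * y) ^ (n + 1) = (x * y) ^ n * (x * y) := pow_succ _ _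
      _ = x ^ n * y ^ n * c ^ (n * (n - 1) / 2) * (x * y) := by rw [ih]
      _ = x ^ n * (y ^ n * x) * y * c ^ (n * (n - 1) / 2) := by
          have h1 := hcxn (n * (n - 1) / 2) 1
          have h2 := hcyn (n * (n - 1) / 2) 1
          rw [pow_one] at h1 h2
          calc x ^ n * y ^ n * c ^ (n * (n - 1) / 2) * (x * y)
              = x ^ n * y ^ n * (c ^ (n * (n - 1) / 2) * x) * y := by group
            _ = x ^ n * y ^ n * (x * c ^ (n * (n - 1) / 2)) * y := by rw [h1]
            _ = x ^ n * y ^ n * x * (c ^ (n * (n - 1) / 2) * y) := by group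
            _ = x ^ n * y ^ n * x * (y * c ^ (n * (n - 1) / 2)) := by rw [h2]
            _ = x ^ n * (y ^ n * x) * y * c ^ (n * (n - 1) / 2) := by group
      _ = x ^ n * (c ^ n * x * y ^ n) * y * c ^ (n * (n - 1) / 2) := by rw [hynx n]
      _ = x ^ (n + 1) * y ^ (n + 1) * c ^ ((n + 1) * (n + 1 - 1) / 2) := by
          rw [hT, pow_add c]
          have h3 := hcxn n n
          have h4 := hcyn n (n + 1)
          calc x ^ n * (c ^ n * x * y ^ n) * y * c ^ (n * (n - 1) / 2)
              = (x ^ n * c ^ n) * x * (y ^ n * y) * c ^ (n * (n - 1) / 2) := by group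
            _ = (c ^ n * x ^ n) * x * (y ^ n * y) * c ^ (n * (n - 1) / 2) := by rw [h3]
            _ = c ^ n * (x ^ (n + 1)) * y ^ (n + 1) * c ^ (n * (n - 1) / 2) := by
                rw [pow_succ x, pow_succ y]; group
            _ = x ^ (n + 1) * (c ^ n * y ^ (n + 1)) * c ^ (n * (n - 1) / 2) := by
                rw [hcxn n (n + 1)]; group
            _ = x ^ (n + 1) * (y ^ (n + 1) * c ^ n) * c ^ (n * (n - 1) / 2) := by rw [h4]
            _ = x ^ (n + 1) * y ^ (n + 1) * (c ^ (n * (n - 1) / 2) * c ^ n) := by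
                rw [mul_assoc, mul_assoc, mul_assoc, ← pow_add, ← pow_add, add_comm n (n * (n - 1) / 2)]


/-- `y ^ n * x = c ^ n * x * y ^ n` for `c = ⁅y, x⁆` commuting with `y`. -/
theorem pow_mul_class_two (x y : X) (hcy : Commute ⁅y, x⁆ y) (n : ℕ) :
    y ^ n * x = ⁅y, x⁆ ^ n * x * y ^ n := by
  set c := ⁅y, x⁆ with hc
  have hyx : y * x = c * x * y := by rw [hc, commutatorElement_def]; group
  induction n with
  | zero => simp
  | succ n ih =>
    calc y ^ (n + 1) * x = y ^ n * (y * x) := by rw [pow_succ]; group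
      _ = y ^ n * (c * x * y) := by rw [hyx]
      _ = c * (y ^ n * x) * y := by
          have := (hcy.pow_right n).eq
          calc y ^ n * (c * x * y) = (y ^ n * c) * x * y := by group
            _ = (c * y ^ n) * x * y := by rw [← this]
            _ = c * (y ^ n * x) * y := by group
      _ = c * (c ^ n * x * y ^ n) * y := by rw [ih]
      _ = c ^ (n + 1) * x * y ^ (n + 1) := by rw [pow_succ' c, pow_succ y]; group

/-- An automorphism `χ` of order dividing a prime `q ≠ p` of a finite `p`-group fixes pointwise each invariant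
subgroup `Y ≤ Y₀`, provided it fixes pointwise each invariant subgroup of `Y₀` of exponent `p` (or `4` when `p = 2`). -/
theorem smallexp_fix [Finite X] (p q : ℕ) (hp : p.Prime) (hq : q.Prime) (hqp : q ≠ p)
    (hX : IsPGroup p X) (χ : MulAut X) (hχ : χ ^ q = 1) (Y₀ : Subgroup X)
    (hyp : ∀ U : Subgroup X, U ≤ Y₀ → (∀ u ∈ U, χ u ∈ U) →
      (∀ u ∈ U, u ^ p = 1 ∨ (p = 2 ∧ u ^ 4 = 1)) → ∀ u ∈ U, χ u = u) :
    ∀ Y : Subgroup X, Y ≤ Y₀ → (∀ y ∈ Y, χ y ∈ Y) → ∀ y ∈ Y, χ y = y := by
  intro Y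
  induction' hn : Nat.card Y using Nat.strong_induction_on with n ih generalizing Y
  intro hY0 hinv
  have : Fact p.Prime := ⟨hp⟩
  set D : Subgroup X := Subgroup.closure {d : X | ∃ y ∈ Y, d = y⁻¹ * χ y} with hDdef
  have hDY : D ≤ Y := by
    rw [hDdef, Subgroup.closure_le]
    rintro d ⟨y, hy, rfl⟩
    exact Y.mul_mem (Y.inv_mem hy) (hinv y hy)
  have hDinv : ∀ d ∈ D, χ d ∈ D := by
    have : D.map χ.toMonoidHom ≤ D := by
      rw [hDdef, MonoidHom.map_closure, Subgroup.closure_le]
      rintro _ ⟨d, ⟨y, hy, rfl⟩, rfl⟩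
      apply Subgroup.subset_closure
      refine ⟨χ y, hinv y hy, ?_⟩
      simp
    intro d hd
    exact this ⟨d, hd, rfl⟩
  have hfin : ∀ (y : X), χ (y⁻¹ * χ y) = y⁻¹ * χ y → χ y = y := by
    intro y hfix
    obtain ⟨k, hk⟩ := hX (y⁻¹ * χ y)
    exact fixed_of_comm_fixed χ p q hp hq hqp hχ y hfix k hk
  by_cases hD : D = Y
  swap
  · have hlt : Nat.card D < Nat.card Y :=
      lt_of_le_of_ne (Subgroup.card_le_of_le hDY)
        (fun h => hD (Subgroup.eq_of_le_of_card_ge hDY h.ge))
    rw [hn] at hlt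
    have hfix := ih _ hlt D rfl (hDY.trans hY0) hDinv
    intro y hy
    exact hfin y (hfix _ (Subgroup.subset_closure ⟨y, hy, rfl⟩))
  · by_cases hbot : Y = ⊥
    · intro y hy
      rw [hbot, Subgroup.mem_bot] at hy
      rw [hy, map_one]
    have : Nontrivial Y := (Subgroup.nontrivial_iff_ne_bot Y).mpr hbot
    have hYp : IsPGroup p Y := hX.to_subgroup Y
    -- restricted automorphism
    let f : Y →* Y := (χ.toMonoidHom.comp Y.subtype).codRestrict Y (fun y => hinv y y.2)
    have hfinj : Function.Injective f := by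
      intro a b hab
      apply Subtype.ext
      have := congrArg Subtype.val hab
      exact χ.injective this
    let χY : Y ≃* Y := MulEquiv.ofBijective f (Finite.injective_iff_bijective.mp hfinj)
    have hχY : ∀ y : Y, ((χY y : Y) : X) = χ y := fun y => rfl
    have hΦchar : ∀ m ∈ frattini Y, χY m ∈ frattini Y := by
      intro m hm
      have h1 : (frattini Y).map χY.toMonoidHom = frattini Y :=
        Subgroup.characteristic_iff_map_eq.mp frattini_characteristic χY
      rw [← h1]
      exact ⟨m, hm, rfl⟩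
    set M : Subgroup X := (frattini Y).map Y.subtype with hM
    have hMY : M ≤ Y := by rw [hM]; exact Subgroup.map_subtype_le _
    have hMinv : ∀ m ∈ M, χ m ∈ M := by
      rintro _ ⟨m, hm, rfl⟩
      exact ⟨χY m, hΦchar m hm, rfl⟩
    have hΦtop : frattini Y ≠ ⊤ := by
      intro htop
      have : (⊥ : Subgroup Y) = ⊤ := frattini_nongenerating (by rw [htop, bot_sup_eq])
      exact bot_ne_top this
    have hMlt : Nat.card M < n := by
      rw [← hn, hM, Subgroup.card_map_of_injective Y.subtype_injective]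
      exact lt_of_le_of_ne (Subgroup.card_le_card_group _)
        (fun h => hΦtop (Subgroup.eq_top_of_card_eq _ h))
    have hMfix : ∀ m ∈ M, χ m = m := ih _ hMlt M rfl (hMY.trans hY0) hMinv
    have hMnorm : ∀ y ∈ Y, ∀ m ∈ M, y * m * y⁻¹ ∈ M := by
      rintro y hy _ ⟨m, hm, rfl⟩
      have hN : (frattini Y).Normal := inferInstance
      exact ⟨⟨y, hy⟩ * m * ⟨y, hy⟩⁻¹, hN.conj_mem m hm ⟨y, hy⟩, rfl⟩
    have hMcent : ∀ m ∈ M, ∀ y ∈ Y, m * y = y * m := by
      intro m hm y hy
      rw [← hD] at hy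
      induction hy using Subgroup.closure_induction with
      | mem d hd =>
        obtain ⟨z, hz, rfl⟩ := hd
        have h1 := hMfix _ (hMnorm z hz m hm)
        rw [map_mul, map_mul, map_inv, hMfix m hm] at h1
        calc m * (z⁻¹ * χ z) = z⁻¹ * (z * m * z⁻¹) * χ z := by group
          _ = z⁻¹ * (χ z * m * (χ z)⁻¹) * χ z := by rw [h1]
          _ = z⁻¹ * χ z * m := by group
      | one => simp
      | mul a b _ _ ha hb => rw [← mul_assoc, ha, mul_assoc, hb, mul_assoc]
      | inv a _ ha =>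
        calc m * a⁻¹ = a⁻¹ * (a * m) * a⁻¹ := by group
          _ = a⁻¹ * (m * a) * a⁻¹ := by rw [ha]
          _ = a⁻¹ * m := by group
    have hcommM : ∀ a ∈ Y, ∀ b ∈ Y, ⁅a, b⁆ ∈ M := by
      intro a ha b hb
      have h1 : ⁅(⟨a, ha⟩ : Y), ⟨b, hb⟩⁆ ∈ frattini Y :=
        commutator_le_frattini_of_isPGroup hYp (by
          rw [commutator_def]
          exact Subgroup.commutator_mem_commutator (Subgroup.mem_top _) (Subgroup.mem_top _))
      exact ⟨_, h1, by simp [commutatorElement_def]⟩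
    have hpowM : ∀ a ∈ Y, a ^ p ∈ M := by
      intro a ha
      exact ⟨⟨a, ha⟩ ^ p, pow_mem_frattini_of_isPGroup hYp ⟨a, ha⟩, by simp⟩
    -- commutators have order dividing p
    have hcp : ∀ a ∈ Y, ∀ b ∈ Y, ⁅b, a⁆ ^ p = 1 := by
      intro a ha b hb
      have hc := hcommM b hb a ha
      have h1 := pow_mul_class_two a b (hMcent _ hc b hb) p
      have h2 := hMcent _ (hpowM b hb) a ha
      rw [h2] at h1
      -- a * b^p = c^p * a * b^p
      have : 1 * (a * b ^ p) = ⁅b, a⁆ ^ p * (a * b ^ p) := by rw [one_mul, ← mul_assoc]; exact h1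
      exact (mul_right_cancel this).symm
    -- the exponent
    obtain ⟨e, hE1, hE2, hE3⟩ : ∃ e : ℕ, (∀ a ∈ Y, a ^ e ∈ M) ∧
        (∀ c : X, c ^ p = 1 → c ^ (e * (e - 1) / 2) = 1) ∧
        (∀ u : X, u ^ e = 1 → u ^ p = 1 ∨ (p = 2 ∧ u ^ 4 = 1)) := by
      by_cases h2 : p = 2
      · refine ⟨4, ?_, ?_, ?_⟩
        · intro a ha
          have := M.pow_mem (hpowM a ha) 2
          rw [← pow_mul, h2] at this
          exact this
        · intro c hc
          rw [h2] at hc
          have : (4 * (4 - 1) / 2 : ℕ) = 2 * 3 := by norm_num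
          rw [this, pow_mul, hc, one_pow]
        · intro u hu
          exact Or.inr ⟨h2, hu⟩
      · refine ⟨p, hpowM, ?_, fun u hu => Or.inl hu⟩
        intro c hc
        obtain ⟨k, hk⟩ := hp.eq_two_or_odd'.resolve_left h2
        have : p * (p - 1) / 2 = p * k := by
          have h3 : p - 1 = 2 * k := by omega
          rw [h3, ← mul_assoc, mul_comm p 2, mul_assoc, Nat.mul_div_cancel_left _ (by norm_num : 0 < 2)]
        rw [this, pow_mul, hc, one_pow]
    have hmulpow : ∀ a ∈ Y, ∀ b ∈ Y, (a * b) ^ e = a ^ e * b ^ e := by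
      intro a ha b hb
      have hc := hcommM b hb a ha
      rw [mul_pow_class_two a b (hMcent _ hc a ha) (hMcent _ hc b hb) e, hE2 _ (hcp a ha b hb), mul_one]
    let U : Subgroup X :=
      { carrier := {y | y ∈ Y ∧ y ^ e = 1}
        mul_mem' := by
          rintro a b ⟨ha, ha'⟩ ⟨hb, hb'⟩
          exact ⟨Y.mul_mem ha hb, by rw [hmulpow a ha b hb, ha', hb', mul_one]⟩
        one_mem' := ⟨Y.one_mem, one_pow _⟩
        inv_mem' := by
          rintro a ⟨ha, ha'⟩
          exact ⟨Y.inv_mem ha, by rw [inv_pow, ha', inv_one]⟩ }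
    have hUY : U ≤ Y := fun u hu => hu.1
    have hUfix : ∀ u ∈ U, χ u = u := by
      apply hyp U (hUY.trans hY0)
      · rintro u ⟨hu, hu'⟩
        exact ⟨hinv u hu, by rw [← map_pow, hu', map_one]⟩
      · rintro u ⟨_, hu'⟩
        exact hE3 u hu'
    intro y hy
    apply hfin y
    apply hUfix
    refine ⟨Y.mul_mem (Y.inv_mem hy) (hinv y hy), ?_⟩
    rw [hmulpow _ (Y.inv_mem hy) _ (hinv y hy), inv_pow, ← map_pow, hMfix _ (hE1 y hy), inv_mul_cancel]

end basic

end Cfsg.Agent.Lib.Lead.SmallExp
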