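import Mathlib
import Cfsg.Prelude
import Cfsg.Agent.Lib.Helper5.SpRU.Act

set_option autoImplicit false

/-! # S2281, package REG: `uMat` is a regular unipotent element -/

namespace Cfsg.Agent.Lib.Helper5.SpRU

open Matrix

section general

variable {ι : Type*} [Fintype ι] [DecidableEq ι] {R : Type*} [CommRing R]

/-- powers of a matrix that is strictly upper triangular for a rank function -/
theorem pow_apply_eq_zero_of_rank (A : Matrix ι ι R) (r : ι → ℕ)
    (hA : ∀ x y, A x y ≠ 0 → r x < r y) (k : ℕ) (x y : ι) (h : r y < r x + k) :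
    (A ^ k) x y = 0 := by
  induction k generalizing y with
  | zero =>
    rw [pow_zero, Matrix.one_apply, if_neg]
    rintro rfl
    omega
  | succ k ih =>
    rw [pow_succ, Matrix.mul_apply]
    apply Finset.sum_eq_zero
    intro z _
    by_cases hz : A z y = 0
    · rw [hz, mul_zero]
    · have := hA z y hz
      rw [ih z (by omega), zero_mul]

theorem pow_eq_zero_of_rank (A : Matrix ι ι R) (r : ι → ℕ)
    (hA : ∀ x y, A x y ≠ 0 → r x < r y) (B : ℕ) (hB : ∀ x, r x ≤ B) : A ^ (B + 1) = 0 := by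
  ext x y
  rw [pow_apply_eq_zero_of_rank A r hA (B + 1) x y (by have := hB y; omega)]
  rfl

theorem pow_apply_chain (A : Matrix ι ι R) (r : ι → ℕ)
    (hA : ∀ x y, A x y ≠ 0 → r x < r y) (c : ℕ → ι) (K : ℕ) (hc : ∀ k ≤ K, r (c k) = k)
    (huniq : ∀ k ≤ K, ∀ z, r z = k → z = c k) (k : ℕ) (hk : k ≤ K) :
    (A ^ k) (c 0) (c k) = ∏ t ∈ Finset.range k, A (c t) (c (t + 1)) := by
  induction k with
  | zero => simp
  | succ k ih =>
    rw [pow_succ, Matrix.mul_apply, Finset.prod_range_succ, ← ih (by omega)]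
    apply Finset.sum_eq_single (c k)
    · intro z _ hz
      by_cases h1 : A z (c (k + 1)) = 0
      · rw [h1, mul_zero]
      · have h2 := hA _ _ h1
        rw [hc (k + 1) hk] at h2
        have h3 : r z < k := by
          rcases Nat.lt_or_ge (r z) k with h | h
          · exact h
          · exact absurd (huniq k (by omega) z (by omega)) hz
        rw [pow_apply_eq_zero_of_rank A r hA k (c 0) z (by rw [hc 0 (by omega)]; omega), zero_mul]
    · intro h
      exact absurd (Finset.mem_univ _) h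

end general

variable {F : Type*} [Field F] {m : ℕ}

/-- the rank function: `e_0 < ... < e_m < f_m < ... < f_0` -/
def rk (m : ℕ) : Fin (m + 1) ⊕ Fin (m + 1) → ℕ :=
  Sum.elim (fun i => i.val) (fun i => 2 * m + 1 - i.val)

theorem rk_le (x : Fin (m + 1) ⊕ Fin (m + 1)) : rk m x ≤ 2 * m + 1 := by
  rcases x with i | i
  · have := i.2
    show i.val ≤ 2 * m + 1
    omega
  · show 2 * m + 1 - i.val ≤ 2 * m + 1
    omega

theorem uMat_sub_one_inl_inl (i j : Fin (m + 1)) :
    (uMat m F - 1) (Sum.inl i) (Sum.inl j) = if i.val + 1 = j.val then 1 else 0 := by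
  rw [Matrix.sub_apply, uMat_blocks, Matrix.fromBlocks_apply₁₁, Ublk_apply, Matrix.one_apply]
  by_cases h : i = j
  · subst h
    simp
  · have h' : (Sum.inl i : Fin (m + 1) ⊕ Fin (m + 1)) ≠ Sum.inl j := fun e => h (Sum.inl.inj e)
    rw [if_neg h, if_neg h', sub_zero]

theorem uMat_sub_one_inr_inl (i j : Fin (m + 1)) :
    (uMat m F - 1) (Sum.inr i) (Sum.inl j) = 0 := by
  rw [Matrix.sub_apply, uMat_blocks, Matrix.fromBlocks_apply₂₁, Matrix.one_apply]
  simp

theorem uMat_sub_one_inr_inr (i j : Fin (m + 1)) :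
    (uMat m F - 1) (Sum.inr i) (Sum.inr j)
      = if j.val < i.val then (-1) ^ (i.val - j.val) else 0 := by
  rw [Matrix.sub_apply, uMat_blocks, Matrix.fromBlocks_apply₂₂, Matrix.transpose_apply,
    Vblk_apply, Matrix.one_apply]
  by_cases h : i = j
  · subst h
    simp
  · have h' : (Sum.inr i : Fin (m + 1) ⊕ Fin (m + 1)) ≠ Sum.inr j := fun e => h (Sum.inr.inj e)
    have hv : i.val ≠ j.val := fun e => h (Fin.ext e)
    rw [if_neg h', sub_zero]
    by_cases h2 : j.val ≤ i.val
    · rw [if_pos h2, if_pos (by omega)]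
    · rw [if_neg h2, if_neg (by omega)]

theorem uMat_sub_one_inl_inr_last :
    (uMat m F - 1) (Sum.inl (Fin.last m)) (Sum.inr (Fin.last m)) = 1 := by
  rw [Matrix.sub_apply, uMat_blocks, Matrix.fromBlocks_apply₁₂, Matrix.one_apply]
  unfold Ell
  rw [Matrix.mul_single_apply_same, Ublk_apply]
  simp

theorem uMat_sub_one_rank (x y : Fin (m + 1) ⊕ Fin (m + 1))
    (h : (uMat m F - 1) x y ≠ 0) : rk m x < rk m y := by
  rcases x with i | i <;> rcases y with j | j
  · rw [uMat_sub_one_inl_inl] at h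
    show i.val < j.val
    by_cases h1 : i.val + 1 = j.val
    · omega
    · rw [if_neg h1] at h
      exact absurd rfl h
  · show i.val < 2 * m + 1 - j.val
    have := i.2
    have := j.2
    omega
  · rw [uMat_sub_one_inr_inl] at h
    exact absurd rfl h
  · rw [uMat_sub_one_inr_inr] at h
    show 2 * m + 1 - i.val < 2 * m + 1 - j.val
    by_cases h1 : j.val < i.val
    · have := i.2
      omega
    · rw [if_neg h1] at h
      exact absurd rfl h

theorem uMat_isNilpotent : IsNilpotent (uMat m F - 1) :=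
  ⟨2 * m + 1 + 1, pow_eq_zero_of_rank _ (rk m) uMat_sub_one_rank (2 * m + 1) rk_le⟩

/-- the chain `e_0, ..., e_m, f_m, ..., f_0` -/
def chain (m : ℕ) (k : ℕ) : Fin (m + 1) ⊕ Fin (m + 1) :=
  if k ≤ m then Sum.inl ⟨k % (m + 1), Nat.mod_lt _ (Nat.succ_pos _)⟩
  else Sum.inr ⟨(2 * m + 1 - k) % (m + 1), Nat.mod_lt _ (Nat.succ_pos _)⟩

theorem chain_le {k : ℕ} (h : k ≤ m) :
    chain m k = Sum.inl ⟨k, by omega⟩ := by
  unfold chain
  rw [if_pos h]
  congr 1
  apply Fin.ext
  exact Nat.mod_eq_of_lt (by omega)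

theorem chain_gt {k : ℕ} (h : m < k) (h2 : k ≤ 2 * m + 1) :
    chain m k = Sum.inr ⟨2 * m + 1 - k, by omega⟩ := by
  unfold chain
  rw [if_neg (by omega)]
  congr 1
  apply Fin.ext
  exact Nat.mod_eq_of_lt (by omega)

theorem rk_chain (k : ℕ) (hk : k ≤ 2 * m + 1) : rk m (chain m k) = k := by
  rcases Nat.lt_or_ge m k with h | h
  · rw [chain_gt h hk]
    show 2 * m + 1 - (2 * m + 1 - k) = k
    omega
  · rw [chain_le h]
    rfl

theorem chain_uniq (k : ℕ) (hk : k ≤ 2 * m + 1) (z : Fin (m + 1) ⊕ Fin (m + 1))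
    (hz : rk m z = k) : z = chain m k := by
  rcases z with i | i
  · have h1 : i.val = k := hz
    have := i.2
    rw [chain_le (by omega)]
    congr 1
    apply Fin.ext
    exact h1
  · have h1 : 2 * m + 1 - i.val = k := hz
    have := i.2
    rw [chain_gt (by omega) hk]
    congr 1
    apply Fin.ext
    show i.val = 2 * m + 1 - k
    omega

theorem chain_step_ne_zero (t : ℕ) (ht : t < 2 * m + 1) :
    (uMat m F - 1) (chain m t) (chain m (t + 1)) ≠ 0 := by
  rcases Nat.lt_or_ge t m with h | h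
  · rw [chain_le (by omega), chain_le (by omega), uMat_sub_one_inl_inl, if_pos rfl]
    exact one_ne_zero
  · rcases Nat.eq_or_lt_of_le h with h1 | h1
    · subst h1
      rw [chain_le (le_refl _), chain_gt (by omega) (by omega)]
      have e1 : (⟨m, by omega⟩ : Fin (m + 1)) = Fin.last m := rfl
      have e2 : (⟨2 * m + 1 - (m + 1), by omega⟩ : Fin (m + 1)) = Fin.last m := by
        apply Fin.ext
        show 2 * m + 1 - (m + 1) = m
        omega
      rw [e1, e2, uMat_sub_one_inl_inr_last]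
      exact one_ne_zero
    · rw [chain_gt h1 (by omega), chain_gt (by omega) (by omega), uMat_sub_one_inr_inr]
      have hlt : 2 * m + 1 - (t + 1) < 2 * m + 1 - t := by omega
      rw [if_pos hlt]
      exact pow_ne_zero _ (neg_ne_zero.2 one_ne_zero)

theorem uMat_pow_ne_zero : (uMat m F - 1) ^ (2 * (m + 1) - 1) ≠ 0 := by
  have e : 2 * (m + 1) - 1 = 2 * m + 1 := by omega
  rw [e]
  intro h0
  have hch := pow_apply_chain (uMat m F - 1) (rk m) uMat_sub_one_rank (chain m) (2 * m + 1)
    (fun k hk => rk_chain k hk) (fun k hk z hz => chain_uniq k hk z hz) (2 * m + 1) (le_refl _)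
  rw [h0] at hch
  have hprod : ∏ t ∈ Finset.range (2 * m + 1), (uMat m F - 1) (chain m t) (chain m (t + 1)) ≠ 0 := by
    rw [Finset.prod_ne_zero_iff]
    intro t ht
    exact chain_step_ne_zero t (Finset.mem_range.1 ht)
  exact hprod hch.symm

end Cfsg.Agent.Lib.Helper5.SpRU
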