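import Mathlib
import Cfsg.Prelude
import Cfsg.Agent.Lib.Helper5.SpRU.Act
import Cfsg.Agent.Lib.Lead.SpRUReg

set_option autoImplicit false

/-! # S2411, package PK-ORD: `D(U)` has `p`-power order in characteristic `p` -/

namespace Cfsg.Agent.Lib.Helper5.SpRU

open Matrix

variable {F : Type*} [Field F] {m : ℕ}

theorem DD_sub_one_rank (x y : Fin (m + 1) ⊕ Fin (m + 1))
    (h : (DD (Ublk m F) (Vblk m F) - 1) x y ≠ 0) : rk m x < rk m y := by
  rcases x with i | i <;> rcases y with j | j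
  · apply uMat_sub_one_rank (F := F)
    rw [Matrix.sub_apply, uMat_blocks, Matrix.fromBlocks_apply₁₁]
    rwa [Matrix.sub_apply, DD, Matrix.fromBlocks_apply₁₁] at h
  · exfalso
    apply h
    rw [Matrix.sub_apply, DD, Matrix.fromBlocks_apply₁₂, Matrix.one_apply]
    simp
  · exfalso
    apply h
    rw [Matrix.sub_apply, DD, Matrix.fromBlocks_apply₂₁, Matrix.one_apply]
    simp
  · apply uMat_sub_one_rank (F := F)
    rw [Matrix.sub_apply, uMat_blocks, Matrix.fromBlocks_apply₂₂]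
    rwa [Matrix.sub_apply, DD, Matrix.fromBlocks_apply₂₂] at h

theorem DD_sub_one_pow : (DD (Ublk m F) (Vblk m F) - 1) ^ (2 * m + 1 + 1) = 0 :=
  pow_eq_zero_of_rank _ (rk m) DD_sub_one_rank (2 * m + 1) rk_le

theorem DD_Ublk_pow (p : ℕ) [Fact p.Prime] [CharP F p] :
    (DD (Ublk m F) (Vblk m F)) ^ (p ^ (2 * m + 1 + 1)) = 1 := by
  have hp : 2 ≤ p := (Fact.out : p.Prime).two_le
  set N := DD (Ublk m F) (Vblk m F) - 1 with hN
  have hA : DD (Ublk m F) (Vblk m F) = N + 1 := by rw [hN, sub_add_cancel]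
  have hle : 2 * m + 1 + 1 ≤ p ^ (2 * m + 1 + 1) :=
    (Nat.lt_pow_self (by omega : 1 < p)).le
  have hN0 : N ^ (p ^ (2 * m + 1 + 1)) = 0 := by
    obtain ⟨t, ht⟩ := Nat.exists_eq_add_of_le hle
    rw [ht, pow_add, DD_sub_one_pow, zero_mul]
  rw [hA, add_pow_char_pow_of_commute _ _ (Commute.one_right N), hN0, one_pow, zero_add]

theorem DS_Ublk_pow (p : ℕ) [Fact p.Prime] [CharP F p] :
    ∃ k : ℕ, (DS (Ublk m F) (Vblk m F) Ublk_mul_Vblk) ^ (p ^ k) = 1 := by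
  refine ⟨2 * m + 1 + 1, ?_⟩
  apply Subtype.ext
  rw [SubmonoidClass.coe_pow]
  exact DD_Ublk_pow p

end Cfsg.Agent.Lib.Helper5.SpRU
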