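import Mathlib
import Cfsg.Agent.Lib.Helper3.SylAbGen
import Cfsg.Agent.Lib.Helper5.OBN.UnipGen
import Cfsg.Agent.Lib.Helper5.OBN.PGroup

set_option autoImplicit false

/-!
S4625 swarm, generic part of PK-OP / PK-OM: in characteristic two the block unitriangular subgroup
`unip m Q₀` of the orthogonal group `OG m Q₀` is generated by involutions (Eichler transformations),
hence, as soon as it has odd index in the commutator subgroup, the Sylow `2`-subgroups of the
commutator subgroup have elementary abelian abelianisation.
-/

namespace Cfsg.Agent.Lib.Helper3.SylAb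

open Matrix Cfsg.Agent.H9Sieg Cfsg.Agent.Lib.Helper5.OBN

section
variable {m : ℕ} {κ : Type} [Fintype κ] [DecidableEq κ] {F : Type*} [Field F]
variable {Q₀ : QuadraticForm F (κ → F)}

/-- the Eichler transformations lying in the block unitriangular subgroup -/
def eichSet (m : ℕ) (Q₀ : QuadraticForm F (κ → F)) : Set (OG m Q₀) :=
  {g | g ∈ unip m Q₀ ∧ ∃ (i : Fin m) (v : Idx m κ → F), EPair (Qg m Q₀) (ev (iE i)) v ∧
    g = eich (Qg m Q₀) (ev (iE i)) v}

/-- the block unitriangular subgroup is generated by the Eichler transformations it contains -/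
theorem unip_eq_closure_eichSet : unip m Q₀ = Subgroup.closure (eichSet m Q₀) := by
  apply le_antisymm
  · set K := Subgroup.closure (eichSet m Q₀) with hK
    have key : ∀ d j : ℕ, j + d = m → ∀ u ∈ unip m Q₀, Ufix j u → u ∈ K := by
      intro d
      induction d with
      | zero =>
        intro j hj u hu h
        have hj' : j = m := by omega
        rw [hj'] at h
        rw [eq_one_of_ufix hu h]
        exact K.one_mem
      | succ d ih =>
        intro j hj u hu h
        obtain ⟨v, hE, hEu, hfix⟩ := exists_eich_ufix hu h ⟨j, by omega⟩ rfl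
        have h1 := ih (j + 1) (by omega) _
          ((unip m Q₀).mul_mem ((unip m Q₀).inv_mem hEu) hu) hfix
        have e : u = eich (Qg m Q₀) (ev (iE ⟨j, by omega⟩)) v
            * ((eich (Qg m Q₀) (ev (iE ⟨j, by omega⟩)) v)⁻¹ * u) := by group
        rw [e]
        exact K.mul_mem (Subgroup.subset_closure ⟨hEu, _, v, hE, rfl⟩) h1
    intro u hu
    exact key m 0 (by omega) u hu (fun i hi => absurd hi (Nat.not_lt_zero _))
  · rw [Subgroup.closure_le]
    intro g hg
    exact hg.1

/-- in characteristic two the Eichler transformations are involutions -/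
theorem eichSet_sq [CharP F 2] {g : OG m Q₀} (hg : g ∈ eichSet m Q₀) : g ^ 2 = 1 := by
  obtain ⟨_, i, v, hE, rfl⟩ := hg
  have hv : v + v = 0 := by
    funext c
    exact CharTwo.add_self_eq_zero (v c)
  rw [pow_two, eich_mul hE hE, hv, eich_zero hE.hu]

/-- in characteristic two the block unitriangular subgroup is generated by involutions -/
theorem genSq_unip [CharP F 2] : GenSq (unip m Q₀) :=
  genSq_of_involutions (unip m Q₀) (eichSet m Q₀) unip_eq_closure_eichSet
    (fun _ hs => eichSet_sq hs)

/-- the commutator subgroup of `OG m Q₀` in characteristic two, once the block unitriangular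
subgroup lies in it with odd index -/
theorem sqComm_commutator_OG [Finite F] [CharP F 2]
    (hU : unip m Q₀ ≤ commutator (OG m Q₀))
    (hidx : ¬ 2 ∣ ((unip m Q₀).subgroupOf (commutator (OG m Q₀))).index) :
    SqComm ↥(commutator (OG m Q₀)) := by
  have : Fact (Nat.Prime 2) := ⟨Nat.prime_two⟩
  have hp : IsPGroup 2 ((unip m Q₀).subgroupOf (commutator (OG m Q₀))) :=
    (isPGroup_unip (m := m) (Q₀ := Q₀) 2).comap_subtype
  apply sqComm_of_subgroup _ hp hidx
  apply GenSq.of_map (commutator (OG m Q₀)).subtype (Subgroup.subtype_injective _)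
  have : ((unip m Q₀).subgroupOf (commutator (OG m Q₀))).map (commutator (OG m Q₀)).subtype
      = unip m Q₀ := by
    rw [Subgroup.subgroupOf_map_subtype]
    exact inf_eq_left.2 hU
  rw [this]
  exact genSq_unip

end

end Cfsg.Agent.Lib.Helper3.SylAb
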