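import Mathlib
import Cfsg.Agent.Lib.Lead.SylAb_OG
import Cfsg.Agent.Lib.Helper5.OBN.FinalPlus

set_option autoImplicit false

/-!
S4625 swarm, package PK-OP: the Sylow `2`-subgroups of `PΩ⁺_{2m}(q)`, `q` even, have elementary
abelian abelianisation.
-/

namespace Cfsg.Agent.Lib.Helper3.SylAb

open Matrix Cfsg.Agent.H9Sieg Cfsg.Agent.Lib.Helper5.OBN Cfsg.Agent.Lib.Helper5.SpBN

/-- transport from the commutator subgroup of an isomorphic isometry group to `PΩ` -/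
theorem sqComm_POmega_of_iso {F : Type*} [Field F] [Fintype F] {ι₁ ι₂ : Type} [Fintype ι₁]
    [DecidableEq ι₁] [Fintype ι₂] [DecidableEq ι₂]
    (Q₁ : (ι₁ → F) → F) (Q₂ : (ι₂ → F) → F)
    (e : ↥(Cfsg.isometryGroup F Q₁) ≃* ↥(Cfsg.isometryGroup F Q₂))
    (h : SqComm ↥(commutator ↥(Cfsg.isometryGroup F Q₂))) : SqComm (Cfsg.POmega F Q₁) := by
  let ε : ↥(commutator ↥(Cfsg.isometryGroup F Q₂)) ≃* ↥(Cfsg.Omega F Q₁) :=
    (Cfsg.Agent.Lib.Helper5.ChevCongr.commutatorCongr e).symm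
  exact (h.of_mulEquiv ε).quotient _

theorem sqComm_POmegaPlus {F : Type*} [Field F] [Fintype F] [CharP F 2] (m : ℕ) (hm : 4 ≤ m) :
    SqComm (Cfsg.POmega F (Cfsg.quadFormPlus m F)) := by
  have : Fact (Nat.Prime 2) := ⟨Nat.prime_two⟩
  have hU : unip m (0 : QuadraticForm F (Fin 0 → F)) ≤
      commutator (OG m (0 : QuadraticForm F (Fin 0 → F))) :=
    unip_le_commutator_plus (Or.inl (by omega))
  apply sqComm_POmega_of_iso (Cfsg.quadFormPlus m F)
    (⇑(Qg m (0 : QuadraticForm F (Fin 0 → F)))) (isoPlus m F)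
  apply sqComm_commutator_OG hU
  exact (subD_two m (0 : QuadraticForm F (Fin 0 → F)) (by omega) hU).not_dvd_index_UH 2
    (isPGroup_unip 2) (fun _ ht _ h => torus_eq_one_of_pow_of_isEmpty 2 ht h)

end Cfsg.Agent.Lib.Helper3.SylAb
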