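import Mathlib
import Cfsg.Agent.Lib.Lead.SylAb_OP
import Cfsg.Agent.Lib.Helper5.OBN.FinalMinus

set_option autoImplicit false

/-!
S4625 swarm, package PK-OM: the Sylow `2`-subgroups of `PΩ⁻_{2m}(q)`, `q` even, have elementary
abelian abelianisation.
-/

namespace Cfsg.Agent.Lib.Helper3.SylAb

open Matrix Cfsg.Agent.H9Sieg Cfsg.Agent.Lib.Helper5.OBN Cfsg.Agent.Lib.Helper5.SpBN
  Cfsg.Agent.Lib.Helper2.OrthSum

/-- the minus type form with `k` hyperbolic pairs, `k ≥ 1` -/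
theorem sqComm_POmegaMinus_aux {F : Type*} [Field F] [Fintype F] [CharP F 2] (k : ℕ) (hk : 1 ≤ k)
    (a b : F)
    (hab : ∀ z₁ z₂ : F, z₁ ^ 2 + a * z₁ * z₂ + b * z₂ ^ 2 = 0 → z₁ = 0 ∧ z₂ = 0) :
    SqComm (Cfsg.POmega F (Cfsg.quadFormMinus k F a b)) := by
  have : Fact (Nat.Prime 2) := ⟨Nat.prime_two⟩
  have h2 : (2 : F) = 0 := CharTwo.two_eq_zero
  have hQ₀ := bin_aniso a b hab
  have hU := unip_le_commutator_minus k a b hab
  have hcard : Fintype.card (Idx k (Fin 2)) = 2 * k + 2 := by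
    rw [Fintype.card_sum, Fintype.card_sum, Fintype.card_fin, Fintype.card_fin]
    omega
  apply sqComm_POmega_of_iso (Cfsg.quadFormMinus k F a b) (⇑(Qg k (bin a b))) (isoMinus k a b)
  apply sqComm_commutator_OG hU
  by_cases hex : Fintype.card F ≠ 2 ∨ Fintype.card (Idx k (Fin 2)) ≠ 4
  · exact (subBC k (bin a b) hQ₀ 0 hU).not_dvd_index_UH 2 (isPGroup_unip 2)
      (fun t ht htΩ hsq =>
        torus_eq_one_of_sq h2 (by simp) (Qg_bin_nondeg k a b hab) hex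
          (by rw [hcard]; omega) ht htΩ hsq)
  · push Not at hex
    have hm : k = 1 := by
      have := hex.2
      rw [hcard] at this
      omega
    subst hm
    exact not_dvd_index_four hex.1 a b hab

theorem sqComm_POmegaMinus {F : Type*} [Field F] [Fintype F] [CharP F 2] (m : ℕ) (hm : 4 ≤ m) (a b : F)
    (hab : ∀ z₁ z₂ : F, z₁ ^ 2 + a * z₁ * z₂ + b * z₂ ^ 2 = 0 → z₁ = 0 ∧ z₂ = 0) :
    SqComm (Cfsg.POmega F (Cfsg.quadFormMinus (m - 1) F a b)) :=
  sqComm_POmegaMinus_aux (m - 1) (by omega) a b hab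

end Cfsg.Agent.Lib.Helper3.SylAb
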