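import Mathlib
import Cfsg.Agent.Lib.Lead.HallSymp4
import Cfsg.Agent.Lib.Lead.GenCentralizers

set_option autoImplicit false

namespace Cfsg.Agent.Lib.Lead

namespace HallSymp

open scoped commutatorElement

section
variable {G : Type*} [Group G]

/-- the elements whose commutator with `x` lies in a central subgroup form a subgroup -/
def commInto (Z : Subgroup G) (hZ : Z ≤ Subgroup.center G) (x : G) : Subgroup G where
  carrier := {g | ⁅x, g⁆ ∈ Z}
  mul_mem' := by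
    intro g h hg hh
    have hg' : ⁅x, g⁆ ∈ Z := hg
    have hh' : ⁅x, h⁆ ∈ Z := hh
    show ⁅x, g * h⁆ ∈ Z
    have h1 : ⁅x, g * h⁆ = ⁅x, g⁆ * (g * ⁅x, h⁆ * g⁻¹) := by
      simp only [commutatorElement_def]; group
    have h2 : g * ⁅x, h⁆ * g⁻¹ = ⁅x, h⁆ := by
      have := Subgroup.mem_center_iff.mp (hZ hh') g
      rw [this, mul_assoc, mul_inv_cancel, mul_one]
    rw [h1, h2]
    exact Z.mul_mem hg' hh'
  one_mem' := by
    show ⁅x, (1 : G)⁆ ∈ Z
    rw [commutatorElement_one_right]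
    exact Z.one_mem
  inv_mem' := by
    intro g hg
    have hg' : ⁅x, g⁆ ∈ Z := hg
    show ⁅x, g⁻¹⁆ ∈ Z
    have h1 : ⁅x, g⁻¹⁆ = g⁻¹ * ⁅x, g⁆⁻¹ * g := by
      simp only [commutatorElement_def]; group
    have h2 : g⁻¹ * ⁅x, g⁆⁻¹ * g = ⁅x, g⁆⁻¹ := by
      have := Subgroup.mem_center_iff.mp (hZ (Z.inv_mem hg')) g⁻¹
      rw [this, mul_assoc, inv_mul_cancel, mul_one]
    rw [h1, h2]
    exact Z.inv_mem hg'

theorem mem_commInto {Z : Subgroup G} {hZ : Z ≤ Subgroup.center G} {x g : G} :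
    g ∈ commInto Z hZ x ↔ ⁅x, g⁆ ∈ Z := Iff.rfl

end

section
variable {G : Type*} [Group G] [Finite G] {p : ℕ} [hp : Fact p.Prime]
  (hG : IsPGroup p G)
  (hsymp : ∀ A : Subgroup G, A.Characteristic → IsMulCommutative A → IsCyclic A)

include hG hsymp in
/-- normal abelian subgroups inside `R` are cyclic -/
theorem isCyclic_of_normal_abelian_le [Nontrivial G] (R : Subgroup G)
    (hR : R ⊓ AA p G ≤ ZA p G) (F : Subgroup G) (hFR : F ≤ R) [hFn : F.Normal]
    (hFc : ∀ x ∈ F, ∀ y ∈ F, x * y = y * x) : IsCyclic F := by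
  classical
  by_contra hnc
  have hpp : p.Prime := hp.out
  letI : CommGroup F :=
    { (inferInstance : Group F) with
      mul_comm := fun a b => Subtype.ext (hFc a.1 a.2 b.1 b.2) }
  obtain ⟨q, hq, W, hWcard, hWexp⟩ := exists_elementary_abelian_sq (A := F) hnc
  -- `q = p`
  have hqp : q = p := by
    obtain ⟨k, hk⟩ := IsPGroup.iff_card.mp ((hG.to_subgroup F).to_subgroup W)
    have h1 : q ∣ p ^ k := by
      rw [← hk, hWcard]
      exact dvd_pow_self q (by norm_num)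
    exact (Nat.prime_dvd_prime_iff_eq hq hpp).mp (hq.dvd_of_dvd_pow h1)
  subst hqp
  -- the subgroup `Ω` of elements of order dividing `q` in `F`
  let Ω : Subgroup G :=
    { carrier := {x | x ∈ F ∧ x ^ q = 1}
      mul_mem' := by
        rintro x y ⟨hx, hxq⟩ ⟨hy, hyq⟩
        refine ⟨F.mul_mem hx hy, ?_⟩
        have hc : Commute x y := hFc x hx y hy
        rw [hc.mul_pow, hxq, hyq, one_mul]
      one_mem' := ⟨F.one_mem, one_pow q⟩
      inv_mem' := by
        rintro x ⟨hx, hxq⟩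
        exact ⟨F.inv_mem hx, by rw [inv_pow, hxq, inv_one]⟩ }
  have hΩmem : ∀ x : G, x ∈ Ω ↔ x ∈ F ∧ x ^ q = 1 := fun x => Iff.rfl
  haveI hΩn : Ω.Normal := by
    constructor
    intro x hx g
    rw [hΩmem] at hx ⊢
    refine ⟨hFn.conj_mem x hx.1 g, ?_⟩
    rw [conj_pow, hx.2, mul_one, mul_inv_cancel]
  -- `Ω` has order at least `q ^ 2`
  have hΩcard : q ^ 2 ≤ Nat.card Ω := by
    rw [← hWcard]
    apply Nat.card_le_card_of_injective (fun w : W => (⟨((w : F) : G), by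
      rw [hΩmem]
      refine ⟨(w : F).2, ?_⟩
      have := hWexp w.1 w.2
      have h2 := congrArg Subtype.val this
      rwa [Subgroup.coe_pow] at h2⟩ : Ω))
    intro a b hab
    have h1 : ((a : F) : G) = ((b : F) : G) := congrArg (fun z : Ω => (z : G)) hab
    exact Subtype.ext (Subtype.ext h1)
  have hZcard : Nat.card (Zp q G) = q := card_Zp_eq hG hsymp
  -- the image of `Ω` in `G / Z₀`
  set N : Subgroup (G ⧸ Zp q G) := Ω.map (QuotientGroup.mk' (Zp q G)) with hN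
  haveI hNn : N.Normal := hΩn.map _ (QuotientGroup.mk'_surjective _)
  have hNne : N ≠ ⊥ := by
    intro h
    rw [hN, Subgroup.map_eq_bot_iff, QuotientGroup.ker_mk'] at h
    have h1 := Subgroup.card_le_of_le h
    rw [hZcard] at h1
    have h2 : 2 ≤ q := hpp.two_le
    nlinarith
  haveI : Group.IsNilpotent (G ⧸ Zp q G) :=
    (hG.to_quotient (Zp q G)).isNilpotent
  obtain ⟨⟨xbar, hx⟩, hx1⟩ :=
    (Subgroup.ne_bot_iff_exists_ne_one).mp (inf_center_ne_bot N hNne)
  obtain ⟨⟨x, hxΩ', rfl⟩, hxc⟩ := hx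
  have hxΩ : x ∈ F ∧ x ^ q = 1 := hxΩ'
  have hxZ : x ∉ Zp q G := by
    intro h
    apply hx1
    apply Subtype.ext
    show (QuotientGroup.mk' (Zp q G)) x = 1
    rw [QuotientGroup.mk'_apply, QuotientGroup.eq_one_iff]
    exact h
  have hxA : x ∈ AA q G := by
    show (QuotientGroup.mk' (Zp q G)) x ∈ Zp q (G ⧸ Zp q G)
    refine ⟨hxc, ?_⟩
    rw [← map_pow, hxΩ.2, map_one]
  have hxZA : x ∈ ZA q G := hR ⟨hFR hxΩ.1, hxA⟩
  exact hxZ (mem_Zp_of_mem_ZA hG hsymp hxZA hxΩ.2)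

end

end HallSymp

end Cfsg.Agent.Lib.Lead
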