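import Mathlib
import Cfsg.Agent.Lib.Lead.HallSymp5

set_option autoImplicit false

namespace Cfsg.Agent.Lib.Lead

namespace HallSymp

open scoped commutatorElement

section
variable {G : Type*} [Group G]

/-- in a central product `E ∗ R`, subgroups of `R` normalized by `R` are normal -/
theorem normal_of_central_product (E R : Subgroup G)
    (hcomm : ∀ e ∈ E, ∀ r ∈ R, e * r = r * e) (hsup : E ⊔ R = ⊤)
    (F : Subgroup G) (hFR : F ≤ R) (hF : ∀ r ∈ R, ∀ f ∈ F, r * f * r⁻¹ ∈ F) : F.Normal := by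
  rw [← Subgroup.normalizer_eq_top_iff, eq_top_iff, ← hsup, sup_le_iff]
  constructor
  · intro e he
    rw [Subgroup.mem_normalizer_iff]
    intro f
    constructor
    · intro hf
      have h1 : e * f * e⁻¹ = f := by
        rw [hcomm e he f (hFR hf), mul_assoc, mul_inv_cancel, mul_one]
      rw [h1]; exact hf
    · intro hf
      have h1 : e⁻¹ * (e * f * e⁻¹) * e = e * f * e⁻¹ := by
        have h2 := hcomm e⁻¹ (E.inv_mem he) (e * f * e⁻¹) (hFR hf)
        rw [h2, mul_assoc, inv_mul_cancel, mul_one]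
      have h3 : e⁻¹ * (e * f * e⁻¹) * e = f := by group
      rw [← h3, h1]; exact hf
  · intro r hr
    rw [Subgroup.mem_normalizer_iff]
    intro f
    constructor
    · intro hf
      exact hF r hr f hf
    · intro hf
      have h1 := hF r⁻¹ (R.inv_mem hr) _ hf
      have h2 : r⁻¹ * (r * f * r⁻¹) * r⁻¹⁻¹ = f := by group
      rwa [h2] at h1

end

section
variable {G : Type*} [Group G] [Finite G] {p : ℕ} [hp : Fact p.Prime]
  (hG : IsPGroup p G)
  (hsymp : ∀ A : Subgroup G, A.Characteristic → IsMulCommutative A → IsCyclic A)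

include hG hsymp in
/-- the structure of the factor `R` -/
theorem R_structure [Nontrivial G] (E R : Subgroup G)
    (hcomm : ∀ e ∈ E, ∀ r ∈ R, e * r = r * e) (hsup : E ⊔ R = ⊤)
    (hR : R ⊓ AA p G ≤ ZA p G) :
    IsCyclic R ∨ (p = 2 ∧ 16 ≤ Nat.card R ∧
      ((∃ m : ℕ, Nonempty (↥R ≃* DihedralGroup m)) ∨ (∃ m : ℕ, Nonempty (↥R ≃* QuaternionGroup m)) ∨
        Cfsg.IsQuasiDihedral ↥R)) := by
  classical
  by_cases hcyc : IsCyclic R
  · exact Or.inl hcyc
  right
  haveI hRn : R.Normal :=
    normal_of_central_product E R hcomm hsup R le_rfl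
      (fun r hr f hf => R.mul_mem (R.mul_mem hr hf) (R.inv_mem hr))
  have hRp : IsPGroup p R := hG.to_subgroup R
  -- normal abelian subgroups of `R` are cyclic
  have hN : ∀ F : Subgroup R, F.Normal → IsMulCommutative F → IsCyclic F := by
    intro F hFn hFc
    set F' : Subgroup G := F.map R.subtype with hF'
    have hF'R : F' ≤ R := by
      rintro _ ⟨x, _, rfl⟩
      exact x.2
    haveI hF'n : F'.Normal := by
      apply normal_of_central_product E R hcomm hsup F' hF'R
      rintro r hr _ ⟨f, hf, rfl⟩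
      refine ⟨⟨r, hr⟩ * f * ⟨r, hr⟩⁻¹, hFn.conj_mem f hf ⟨r, hr⟩, ?_⟩
      simp
    have hF'c : ∀ x ∈ F', ∀ y ∈ F', x * y = y * x := by
      rintro _ ⟨x, hx, rfl⟩ _ ⟨y, hy, rfl⟩
      have := hFc.is_comm.comm (⟨x, hx⟩ : F) ⟨y, hy⟩
      have h2 := congrArg (fun z : F => ((z : R) : G)) this
      exact h2
    have h1 : IsCyclic F' := isCyclic_of_normal_abelian_le hG hsymp R hR F' hF'R hF'c
    exact (MulEquiv.isCyclic
      (F.equivMapOfInjective R.subtype (Subgroup.subtype_injective R))).mpr h1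
  obtain ⟨hp2, n, hn2, hcard, htypes⟩ := lemmaN hRp hN hcyc
  refine ⟨hp2, ?_, htypes⟩
  subst hp2
  -- exclude order `8`
  by_contra hlt
  have hn : n = 2 := by
    by_contra hne
    have h3 : 3 ≤ n := by omega
    apply hlt
    rw [hcard]
    calc 16 = 2 ^ (3 + 1) := by norm_num
      _ ≤ 2 ^ (n + 1) := Nat.pow_le_pow_right (by norm_num) (by omega)
  subst hn
  have hcard8 : Nat.card R = 8 := by rw [hcard]; norm_num
  -- the Frattini subgroup of `R`, inside `G`
  set Φ : Subgroup G := (frattini R).map R.subtype with hΦ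
  haveI hΦn : Φ.Normal := ConjAct.normal_of_characteristic_of_normal
  have hΦcard : Nat.card Φ = Nat.card (frattini R) :=
    Subgroup.card_map_of_injective (Subgroup.subtype_injective R)
  obtain ⟨k, hk⟩ : ∃ k, (frattini R).index = 2 ^ k := by
    have h1 : (frattini R).index ∣ 2 ^ 3 := by
      have := Subgroup.index_dvd_card (frattini R)
      rw [hcard8] at this
      exact this
    obtain ⟨k, -, hk⟩ := (Nat.dvd_prime_pow Nat.prime_two).mp h1
    exact ⟨k, hk⟩
  have hk2 : 2 ≤ k := by
    by_contra h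
    exact hcyc (isCyclic_of_frattini_index_le hRp k hk (by omega))
  have hΦle : Nat.card Φ ≤ 2 := by
    have h1 := (frattini R).card_mul_index
    rw [hcard8, hk, ← hΦcard] at h1
    have h2 : 2 ^ 2 ≤ 2 ^ k := Nat.pow_le_pow_right (by norm_num) hk2
    have h3 : Nat.card Φ * 2 ^ 2 ≤ 8 := by
      calc Nat.card Φ * 2 ^ 2 ≤ Nat.card Φ * 2 ^ k := Nat.mul_le_mul_left _ h2
        _ = 8 := h1
    omega
  have hΦZ : Φ ≤ Zp 2 G := by
    have hpos : 0 < Nat.card Φ := Nat.card_pos
    have h12 : Nat.card Φ = 1 ∨ Nat.card Φ = 2 := by omega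
    rcases h12 with h1 | h2
    · rw [Subgroup.card_eq_one.mp h1]; exact bot_le
    · intro x hx
      refine ⟨le_center_of_normal_of_card_prime hG Φ h2 hx, ?_⟩
      have h3 : (⟨x, hx⟩ : Φ) ^ Nat.card Φ = 1 := pow_card_eq_one'
      rw [h2] at h3
      have h4 := congrArg Subtype.val h3
      rwa [Subgroup.coe_pow] at h4
  -- `R ≤ AA`
  have hRA : R ≤ AA 2 G := by
    intro x hx
    rw [mem_AA]
    constructor
    · intro g
      have hK : E ⊔ R ≤ commInto (Zp 2 G) Zp_le_center x := by
        rw [sup_le_iff]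
        constructor
        · intro e he
          rw [mem_commInto]
          have h1 : ⁅x, e⁆ = 1 := by
            rw [commutatorElement_eq_one_iff_commute]
            exact (hcomm e he x hx).symm
          rw [h1]; exact Subgroup.one_mem _
        · intro r hr
          rw [mem_commInto]
          apply hΦZ
          refine ⟨⁅(⟨x, hx⟩ : R), ⟨r, hr⟩⁆, ?_, ?_⟩
          · apply commutator_le_frattini_of_isPGroup hRp
            rw [commutator_def]
            exact Subgroup.commutator_mem_commutator (Subgroup.mem_top _) (Subgroup.mem_top _)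
          · simp [commutatorElement_def]
      have hg : g ∈ E ⊔ R := by rw [hsup]; exact Subgroup.mem_top _
      exact mem_commInto.mp (hK hg)
    · apply hΦZ
      refine ⟨(⟨x, hx⟩ : R) ^ 2, pow_mem_frattini_of_isPGroup hRp _, ?_⟩
      simp
  -- hence `R` is abelian
  apply hcyc
  have htop : IsCyclic (⊤ : Subgroup R) := by
    apply hN ⊤ inferInstance
    refine ⟨⟨fun a b => ?_⟩⟩
    apply Subtype.ext
    apply Subtype.ext
    have ha : ((a : R) : G) ∈ ZA 2 G := hR ⟨(a : R).2, hRA (a : R).2⟩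
    have hb : ((b : R) : G) ∈ ZA 2 G := hR ⟨(b : R).2, hRA (b : R).2⟩
    exact Subgroup.mem_centralizer_iff.mp hb.2 _ ha.1
  exact (MulEquiv.isCyclic Subgroup.topEquiv).mp htop
end

end HallSymp

end Cfsg.Agent.Lib.Lead
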