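import Mathlib
import Cfsg.Agent.Lib.Lead.HallSymp6

set_option autoImplicit false

namespace Cfsg.Agent.Lib.Lead

namespace HallSymp

open scoped commutatorElement

section
variable {G : Type*} [Group G] [Finite G] {p : ℕ} [hp : Fact p.Prime]
  (hG : IsPGroup p G)
  (hsymp : ∀ A : Subgroup G, A.Characteristic → IsMulCommutative A → IsCyclic A)

include hG hsymp in
theorem hall_symplectic_nontrivial [Nontrivial G] :
    ∃ E R : Subgroup G, (∀ e ∈ E, ∀ r ∈ R, e * r = r * e) ∧ E ⊔ R = ⊤ ∧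
      (E = ⊥ ∨ Cfsg.IsExtraspecial p ↥E) ∧
      (IsCyclic R ∨ (p = 2 ∧ 16 ≤ Nat.card R ∧
        ((∃ m : ℕ, Nonempty (↥R ≃* DihedralGroup m)) ∨
          (∃ m : ℕ, Nonempty (↥R ≃* QuaternionGroup m)) ∨ Cfsg.IsQuasiDihedral ↥R))) := by
  classical
  obtain ⟨E, hE1, hE2, hmin⟩ := exists_min_supplement (G := G) (p := p)
  by_cases hab : ∀ x ∈ E, ∀ y ∈ E, x * y = y * x
  · have hEbot : E = ⊥ := min_supplement_abelian E hE1 hE2 hmin hab
    have hZA : ZA p G = AA p G := by rw [← hE2, hEbot, bot_sup_eq]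
    have hcomm : ∀ e ∈ E, ∀ r ∈ (⊤ : Subgroup G), e * r = r * e := by
      intro e he r _
      rw [hEbot, Subgroup.mem_bot] at he
      rw [he, one_mul, mul_one]
    have hsup : E ⊔ (⊤ : Subgroup G) = ⊤ := sup_top_eq _
    refine ⟨E, ⊤, hcomm, hsup, Or.inl hEbot, ?_⟩
    apply R_structure hG hsymp E ⊤ hcomm hsup
    rw [hZA]
    exact inf_le_right
  · push_neg at hab
    obtain ⟨x, hx, y, hy, hxy⟩ := hab
    obtain ⟨hES, hZE, hEC⟩ := min_supplement_extraspecial hG hsymp E hE1 hE2 hmin x y hx hy hxy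
    set R : Subgroup G := Subgroup.centralizer (E : Set G) with hR
    have hcomm : ∀ e ∈ E, ∀ r ∈ R, e * r = r * e := by
      intro e he r hr
      exact Subgroup.mem_centralizer_iff.mp hr e he
    have hsup : E ⊔ R = ⊤ := by
      apply extraspecial_central_product hG E hES
      rw [hEC, Subgroup.commutator_le]
      intro g _ e he
      exact comm_mem_Zp' (hE1 he) g
    refine ⟨E, R, hcomm, hsup, Or.inr hES, ?_⟩
    apply R_structure hG hsymp E R hcomm hsup
    -- `R ⊓ AA ≤ ZA`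
    intro r hr
    refine ⟨hr.2, ?_⟩
    show r ∈ Subgroup.centralizer (AA p G : Set G)
    have hcent : E ⊔ ZA p G ≤ Subgroup.centralizer {r} := by
      rw [sup_le_iff]
      constructor
      · intro e he
        rw [Subgroup.mem_centralizer_singleton_iff]
        exact hcomm e he r hr.1
      · intro z hz
        rw [Subgroup.mem_centralizer_singleton_iff]
        exact (Subgroup.mem_centralizer_iff.mp hz.2 r hr.2).symm
    rw [Subgroup.mem_centralizer_iff]
    intro a ha
    have ha' : a ∈ E ⊔ ZA p G := by rw [hE2]; exact ha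
    have := hcent ha'
    rw [Subgroup.mem_centralizer_singleton_iff] at this
    exact this

include hG hsymp in
/-- **P. Hall**: the structure of `p`-groups of symplectic type. -/
theorem hall_symplectic :
    ∃ E R : Subgroup G, (∀ e ∈ E, ∀ r ∈ R, e * r = r * e) ∧ E ⊔ R = ⊤ ∧
      (E = ⊥ ∨ Cfsg.IsExtraspecial p ↥E) ∧
      (IsCyclic R ∨ (p = 2 ∧ 16 ≤ Nat.card R ∧
        ((∃ m : ℕ, Nonempty (↥R ≃* DihedralGroup m)) ∨
          (∃ m : ℕ, Nonempty (↥R ≃* QuaternionGroup m)) ∨ Cfsg.IsQuasiDihedral ↥R))) := by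
  rcases subsingleton_or_nontrivial G with h | h
  · refine ⟨⊥, ⊤, ?_, sup_top_eq _, Or.inl rfl, Or.inl ?_⟩
    · intro e _ r _
      exact Subsingleton.elim _ _
    · infer_instance
  · exact hall_symplectic_nontrivial hG hsymp
end

end HallSymp

end Cfsg.Agent.Lib.Lead
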