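import Mathlib
import Cfsg.Prelude.Def_Characters

set_option autoImplicit false

namespace Cfsg.Agent.Lib.Lead

/-- The multiplication map `Q × A → E` is injective when `Q ⊓ A = ⊥`. -/
theorem injective_mul_of_disjoint {E : Type*} [Group E] (Q A : Subgroup E) (hdisj : Q ⊓ A = ⊥) :
    Function.Injective (fun x : Q × A => (x.1 : E) * (x.2 : E)) := by
  rintro ⟨u, a⟩ ⟨u', a'⟩ h
  have h' : (u : E) * a = u' * a' := h
  have h1 : (u' : E)⁻¹ * u = a' * (a : E)⁻¹ := by
    rw [inv_mul_eq_iff_eq_mul, ← mul_assoc, eq_mul_inv_iff_mul_eq]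
    exact h'
  have hQ : (u' : E)⁻¹ * u ∈ Q := Q.mul_mem (Q.inv_mem u'.2) u.2
  have hA : (u' : E)⁻¹ * u ∈ A := by
    rw [h1]
    exact A.mul_mem a'.2 (A.inv_mem a.2)
  have h2 : (u' : E)⁻¹ * u ∈ Q ⊓ A := ⟨hQ, hA⟩
  rw [hdisj, Subgroup.mem_bot, inv_mul_eq_one] at h2
  have h3 : (a' : E) * (a : E)⁻¹ = 1 := by
    rw [← h1, h2, inv_mul_cancel]
  rw [mul_inv_eq_one] at h3
  exact Prod.ext (Subtype.ext h2.symm) (Subtype.ext h3.symm)

/-- The multiplication map `Q × A → E` is bijective when `Q ⊓ A = ⊥` and `|Q| |A| = |E|`. -/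
theorem bijective_mul_of_card {E : Type*} [Group E] [Finite E] (Q A : Subgroup E)
    (hdisj : Q ⊓ A = ⊥) (hcard : Nat.card Q * Nat.card A = Nat.card E) :
    Function.Bijective (fun x : Q × A => (x.1 : E) * (x.2 : E)) := by
  refine (injective_mul_of_disjoint Q A hdisj).bijective_of_nat_card_le ?_
  rw [Nat.card_prod, hcard]

/-- In an elementary group with central element `x` as in the definition, a Sylow `q`-subgroup has
order `q ^ k`. -/
theorem card_sylow_of_elementary {E : Type*} [Group E] [Finite E] {q : ℕ} [hq : Fact q.Prime]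
    {x : E} (hcop : Nat.Coprime (orderOf x) q) {k : ℕ}
    (hk : (Subgroup.zpowers x).index = q ^ k) (S : Sylow q E) :
    Nat.card S = q ^ k := by
  have hcardE : Nat.card E = orderOf x * q ^ k := by
    rw [← hk, ← Nat.card_zpowers, Subgroup.card_mul_index]
  have hc0 : orderOf x ≠ 0 := (orderOf_pos x).ne'
  have hqc : ¬ q ∣ orderOf x := fun h =>
    hq.out.one_lt.ne' (Nat.eq_one_of_dvd_coprimes hcop h (dvd_refl q))
  rw [Sylow.card_eq_multiplicity, hcardE, Nat.factorization_mul hc0 (pow_ne_zero _ hq.out.ne_zero),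
    Finsupp.add_apply, Nat.factorization_eq_zero_of_not_dvd hqc, zero_add,
    Nat.Prime.factorization_pow hq.out, Finsupp.single_eq_same]

/-- `E = S · ⟨x⟩` for a Sylow `q`-subgroup `S`. -/
theorem bijective_sylow_mul_zpowers {E : Type*} [Group E] [Finite E] {q : ℕ} [hq : Fact q.Prime]
    {x : E} (hcop : Nat.Coprime (orderOf x) q) {k : ℕ}
    (hk : (Subgroup.zpowers x).index = q ^ k) (S : Sylow q E) :
    Function.Bijective
      (fun z : ↥(S : Subgroup E) × ↥(Subgroup.zpowers x) => (z.1 : E) * (z.2 : E)) := by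
  have hS : Nat.card ↥(S : Subgroup E) = q ^ k := card_sylow_of_elementary hcop hk S
  refine bijective_mul_of_card (S : Subgroup E) (Subgroup.zpowers x) ?_ ?_
  · apply Disjoint.eq_bot
    apply Subgroup.disjoint_of_coprime_natCard
    rw [hS, Nat.card_zpowers]
    exact Nat.Coprime.pow_left k hcop.symm
  · rw [hS, Nat.card_zpowers, mul_comm, ← hk, ← Nat.card_zpowers, Subgroup.card_mul_index]

/-- (N) An elementary group is the internal direct product of a `p`-subgroup and a subgroup all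
of whose elements have order prime to `p`, for every prime `p`. -/
theorem exists_pPart_decomp_of_isElementary {E : Type*} [Group E] [Fintype E] {q : ℕ}
    (hq : q.Prime) (hE : Cfsg.IsElementary q E) (p : ℕ) [hp : Fact p.Prime] :
    ∃ Q A : Subgroup E, IsPGroup p Q ∧ (∀ a ∈ A, ¬ p ∣ orderOf a) ∧
      (∀ u ∈ Q, ∀ a ∈ A, u * a = a * u) ∧
      Function.Bijective (fun x : Q × A => (x.1 : E) * (x.2 : E)) := by
  classical
  have : Fact q.Prime := ⟨hq⟩
  obtain ⟨x, hx, hcop, k, hk⟩ := hE
  have hcen : ∀ y ∈ Subgroup.zpowers x, ∀ g : E, g * y = y * g := by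
    intro y hy g
    obtain ⟨n, rfl⟩ := Subgroup.mem_zpowers_iff.1 hy
    have hc : Commute g x := (Subgroup.mem_center_iff.1 hx g)
    exact (hc.zpow_right n).eq
  by_cases hpq : p = q
  · -- the case `p = q`
    subst hpq
    let S : Sylow p E := default
    refine ⟨(S : Subgroup E), Subgroup.zpowers x, S.isPGroup', ?_, ?_, ?_⟩
    · intro a ha hpa
      have h1 : orderOf a ∣ orderOf x := by
        rw [← Nat.card_zpowers x]
        exact Subgroup.orderOf_dvd_natCard _ ha
      exact hp.out.one_lt.ne' (Nat.eq_one_of_dvd_coprimes hcop (hpa.trans h1) (dvd_refl p))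
    · intro u _ a ha
      exact hcen a ha u
    · exact bijective_sylow_mul_zpowers hcop hk S
  · -- the case `p ≠ q`
    have hpq' : Nat.Coprime p q := (Nat.coprime_primes hp.out hq).2 hpq
    set c := orderOf x with hc
    have hc0 : c ≠ 0 := (orderOf_pos x).ne'
    set a := c.factorization p with ha
    set c' := c / p ^ a with hc'
    have hcc : p ^ a * c' = c := Nat.ordProj_mul_ordCompl_eq_self c p
    have hpc' : Nat.Coprime p c' := Nat.coprime_ordCompl hp.out hc0
    have hc'0 : c' ≠ 0 := by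
      intro h
      rw [h, mul_zero] at hcc
      exact hc0 hcc.symm
    have hpa0 : p ^ a ≠ 0 := pow_ne_zero _ hp.out.ne_zero
    -- the `p`-part and the `p'`-part of the cyclic group
    have ho1 : orderOf (x ^ c') = p ^ a := by
      rw [orderOf_pow_of_dvd hc'0 (Dvd.intro_left _ hcc), ← hc, ← hcc, Nat.mul_div_cancel _
        (Nat.pos_of_ne_zero hc'0)]
    have ho2 : orderOf (x ^ (p ^ a)) = c' := by
      rw [orderOf_pow_of_dvd hpa0 (Dvd.intro _ hcc), ← hc, ← hcc, Nat.mul_div_cancel_left _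
        (Nat.pos_of_ne_zero hpa0)]
    let S : Sylow q E := default
    have hS : Nat.card S = q ^ k := card_sylow_of_elementary hcop hk S
    have hC'cen : ∀ y ∈ Subgroup.zpowers (x ^ (p ^ a)), ∀ g : E, g * y = y * g := by
      intro y hy g
      refine hcen y ?_ g
      exact (Subgroup.zpowers_le.2 (Subgroup.pow_mem _ (Subgroup.mem_zpowers x) _)) hy
    have hC'n : (Subgroup.zpowers (x ^ (p ^ a))).Normal := by
      refine ⟨fun y hy g => ?_⟩
      rw [hC'cen y hy g, mul_inv_cancel_right]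
      exact hy
    -- elements of `A := S ⊔ ⟨x ^ (p ^ a)⟩` have order dividing `q ^ k * c'`
    have hAord : ∀ g ∈ (S : Subgroup E) ⊔ Subgroup.zpowers (x ^ (p ^ a)),
        orderOf g ∣ q ^ k * c' := by
      intro g hg
      obtain ⟨s, hs, y, hy, rfl⟩ := Subgroup.mem_sup_of_normal_right.1 hg
      apply orderOf_dvd_of_pow_eq_one
      have hcomm : Commute s y := hC'cen y hy s
      rw [hcomm.mul_pow]
      have h1 : s ^ (q ^ k * c') = 1 := by
        rw [pow_mul, ← hS]
        have : s ^ Nat.card (S : Subgroup E) = 1 := by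
          have h := pow_card_eq_one' (G := ↥(S : Subgroup E)) (x := ⟨s, hs⟩)
          exact congrArg Subtype.val h
        rw [this, one_pow]
      have h2 : y ^ (q ^ k * c') = 1 := by
        rw [mul_comm, pow_mul]
        have : y ^ c' = 1 := by
          rw [← ho2, ← Nat.card_zpowers]
          have h := pow_card_eq_one' (G := ↥(Subgroup.zpowers (x ^ (p ^ a)))) (x := ⟨y, hy⟩)
          exact congrArg Subtype.val h
        rw [this, one_pow]
      rw [h1, h2, one_mul]
    have hcopA : Nat.Coprime p (q ^ k * c') :=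
      Nat.Coprime.mul_right (Nat.Coprime.pow_right k hpq') hpc'
    refine ⟨Subgroup.zpowers (x ^ c'), (S : Subgroup E) ⊔ Subgroup.zpowers (x ^ (p ^ a)),
      ?_, ?_, ?_, ?_, ?_⟩
    · apply IsPGroup.of_card (n := a)
      rw [Nat.card_zpowers, ho1]
    · intro g hg hpg
      exact hp.out.one_lt.ne' (Nat.eq_one_of_dvd_coprimes hcopA (dvd_refl p) (hpg.trans (hAord g hg)))
    · intro u hu g _
      have hu' : u ∈ Subgroup.zpowers x :=
        (Subgroup.zpowers_le.2 (Subgroup.pow_mem _ (Subgroup.mem_zpowers x) _)) hu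
      exact (hcen u hu' g).symm
    · -- injectivity
      apply injective_mul_of_disjoint
      rw [eq_bot_iff]
      rintro g ⟨hg1, hg2⟩
      have h1 : orderOf g ∣ p ^ a :=
        (Subgroup.orderOf_dvd_natCard _ hg1).trans (by rw [Nat.card_zpowers, ho1])
      have h2 := hAord g hg2
      have h3 : orderOf g = 1 :=
        Nat.eq_one_of_dvd_coprimes (Nat.Coprime.pow_left a hcopA) h1 h2
      rw [Subgroup.mem_bot]
      exact orderOf_eq_one_iff.1 h3
    · -- surjectivity
      intro g
      obtain ⟨⟨s, y⟩, hsy⟩ := (bijective_sylow_mul_zpowers hcop hk S).2 g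
      have hsy' : (s : E) * (y : E) = g := hsy
      obtain ⟨n, hn⟩ := Subgroup.mem_zpowers_iff.1 y.2
      -- Bezout
      have hcop2 : IsCoprime (c' : ℤ) ((p ^ a : ℕ) : ℤ) := by
        rw [Nat.isCoprime_iff_coprime]
        exact (Nat.Coprime.pow_left a hpc').symm
      obtain ⟨α, β, hαβ⟩ := hcop2
      have hy : (y : E) = (x ^ c') ^ (n * α) * (x ^ (p ^ a)) ^ (n * β) := by
        rw [← hn, ← zpow_natCast x c', ← zpow_natCast x (p ^ a), ← zpow_mul, ← zpow_mul,
          ← zpow_add]
        congr 1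
        have : (c' : ℤ) * (n * α) + ((p ^ a : ℕ) : ℤ) * (n * β) =
            n * (α * c' + β * ((p ^ a : ℕ) : ℤ)) := by ring
        rw [this, hαβ, mul_one]
      have hu : (x ^ c') ^ (n * α) ∈ Subgroup.zpowers (x ^ c') :=
        Subgroup.zpow_mem _ (Subgroup.mem_zpowers _) _
      have hy' : (x ^ (p ^ a)) ^ (n * β) ∈ Subgroup.zpowers (x ^ (p ^ a)) :=
        Subgroup.zpow_mem _ (Subgroup.mem_zpowers _) _
      refine ⟨(⟨(x ^ c') ^ (n * α), hu⟩, ⟨(s : E) * (x ^ (p ^ a)) ^ (n * β),
        Subgroup.mul_mem_sup s.2 hy'⟩), ?_⟩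
      show (x ^ c') ^ (n * α) * ((s : E) * (x ^ (p ^ a)) ^ (n * β)) = g
      have hu' : (x ^ c') ^ (n * α) ∈ Subgroup.zpowers x :=
        (Subgroup.zpowers_le.2 (Subgroup.pow_mem _ (Subgroup.mem_zpowers x) _)) hu
      rw [← mul_assoc, ← hcen _ hu' (s : E), mul_assoc, ← hy]
      exact hsy'

end Cfsg.Agent.Lib.Lead
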