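import Mathlib
import Cfsg.Agent.Lib.Lead.Hx3Defs
import Cfsg.Agent.Lib.Lead.Hx3Calc

set_option autoImplicit false

/-!
# Package R: the relations among the commutators of `x, ρ x, y, ρ y`
-/

namespace Cfsg.Agent.Lib.Lead.Hx3

open Cfsg.Agent.Lib.Helper3.S64
open scoped commutatorElement IsMulCommutative

variable {T : Type*} [Group T]

/-- an element of order at most two is its own inverse -/
theorem r_inv_self {a : T} (ha : a ^ 2 = 1) : a⁻¹ = a := by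
  rw [inv_eq_iff_mul_eq_one, ← pow_two, ha]

/-- the algebra behind (R), in a commutative group -/
theorem r_alg {Z : Type*} [CommGroup Z] (a b c d : Z) (a2 : a ^ 2 = 1) (b2 : b ^ 2 = 1)
    (c2 : c ^ 2 = 1) (e1 : (a * b)⁻¹ = a * c * (d * b)) : d = c := by
  have h1 : (a * b) * (a * c * (d * b)) = 1 := by rw [← e1, mul_inv_cancel]
  have h2 : (a * b) * (a * c * (d * b)) = a ^ 2 * b ^ 2 * (c * d) := by
    rw [pow_two, pow_two]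
    simp only [mul_comm, mul_left_comm]
  rw [h2, a2, b2, one_mul, one_mul] at h1
  have : d = c⁻¹ := eq_inv_of_mul_eq_one_right h1
  rw [this, r_inv_self c2]

/-- R: relations among the commutators of `x, ρ x, y, ρ y`.  Paper (R). -/
theorem r_rel [Finite T] {ρ : MulAut T} (h : Fpf3 ρ) (hc : C2 T)
    (hsq : ∀ x y : T, ⁅x, y⁆ ^ 2 = 1) (x y : T) :
    ⁅x, ρ x⁆ = 1 ∧ ⁅ρ x, ρ y⁆ = ρ ⁅x, y⁆ ∧ ⁅ρ x, y⁆ = ⁅x, ρ y⁆ ∧
      ⁅x, ρ y⁆ = ⁅x, y⁆ * ρ ⁅x, y⁆ := by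
  have h1 : ⁅x, ρ x⁆ = 1 := by
    rw [commutatorElement_eq_one_iff_commute]
    exact h.comm x
  have h2 : ⁅ρ x, ρ y⁆ = ρ ⁅x, y⁆ := (C2.map_comm ρ x y).symm
  -- the four commutators as elements of the centre
  let a : Subgroup.center T := ⟨⁅x, y⁆, hc _ _⟩
  let b : Subgroup.center T := ⟨⁅ρ x, ρ y⁆, hc _ _⟩
  let c : Subgroup.center T := ⟨⁅x, ρ y⁆, hc _ _⟩
  let d : Subgroup.center T := ⟨⁅ρ x, y⁆, hc _ _⟩
  have a2 : a ^ 2 = 1 := Subtype.ext (hsq _ _)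
  have b2 : b ^ 2 = 1 := Subtype.ext (hsq _ _)
  have c2 : c ^ 2 = 1 := Subtype.ext (hsq _ _)
  have d2 : d ^ 2 = 1 := Subtype.ext (hsq _ _)
  -- equation A
  have eA : ρ (ρ ⁅x, y⁆) = ⁅x, y⁆ * ⁅x, ρ y⁆ * (⁅ρ x, y⁆ * ⁅ρ x, ρ y⁆) := by
    rw [C2.map_comm, C2.map_comm, h.rho_sq_eq x, h.rho_sq_eq y, hc.comm_inv_left,
      hc.comm_inv_right, inv_inv, hc.comm_mul_left, hc.comm_mul_right, hc.comm_mul_right]
  have eA' : ρ (ρ ⁅x, y⁆) = (⁅x, y⁆ * ⁅ρ x, ρ y⁆)⁻¹ := by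
    rw [h2]
    exact h.rho_sq_eq _
  have e1 : (a * b)⁻¹ = a * c * (d * b) := by
    apply Subtype.ext
    show (⁅x, y⁆ * ⁅ρ x, ρ y⁆)⁻¹ = ⁅x, y⁆ * ⁅x, ρ y⁆ * (⁅ρ x, y⁆ * ⁅ρ x, ρ y⁆)
    rw [← eA', eA]
  have hdc : d = c := r_alg a b c d a2 b2 c2 e1
  have hdc' : ⁅ρ x, y⁆ = ⁅x, ρ y⁆ := congrArg Subtype.val hdc
  -- equation B
  have eB : ρ ⁅x, ρ y⁆ = (⁅ρ x, y⁆ * ⁅ρ x, ρ y⁆)⁻¹ := by
    rw [C2.map_comm, h.rho_sq_eq y, hc.comm_inv_right, hc.comm_mul_right]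
  -- k = c * (a * b) is fixed by ρ
  have hρa : ρ ⁅x, y⁆ = ⁅ρ x, ρ y⁆ := h2.symm
  have hk : ρ (⁅x, ρ y⁆ * (⁅x, y⁆ * ⁅ρ x, ρ y⁆)) = ⁅x, ρ y⁆ * (⁅x, y⁆ * ⁅ρ x, ρ y⁆) := by
    have e3 : ρ ⁅ρ x, ρ y⁆ = (⁅x, y⁆ * ⁅ρ x, ρ y⁆)⁻¹ := by
      rw [← eA', hρa]
    rw [map_mul, map_mul, eB, e3, hρa, hdc']
    have : ((c * b)⁻¹ * (b * (a * b)⁻¹) : Subgroup.center T) = c * (a * b) := by
      have hb' : b⁻¹ = b := r_inv_self b2
      have ha' : a⁻¹ = a := r_inv_self a2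
      have hc' : c⁻¹ = c := r_inv_self c2
      rw [mul_inv_rev, mul_inv_rev, hb', ha', hc']
      calc b * c * (b * (b * a)) = (b * b) * (c * (a * b)) := by
            simp only [mul_comm, mul_left_comm]
        _ = c * (a * b) := by rw [← pow_two, b2, one_mul]
    exact congrArg Subtype.val this
  have hk1 : ⁅x, ρ y⁆ * (⁅x, y⁆ * ⁅ρ x, ρ y⁆) = 1 := h.fpf _ hk
  have hcab : c = a * b := by
    have h3 : c * (a * b) = 1 := Subtype.ext hk1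
    have : c = (a * b)⁻¹ := eq_inv_of_mul_eq_one_left h3
    rw [this, mul_inv_rev, r_inv_self a2, r_inv_self b2, mul_comm]
  refine ⟨h1, h2, hdc', ?_⟩
  have := congrArg Subtype.val hcab
  rw [hρa]
  exact this

end Cfsg.Agent.Lib.Lead.Hx3
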