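import Mathlib
import Cfsg.Agent.Lib.Lead.Hx3Defs

set_option autoImplicit false

/-!
# Package A2: case (b) of Theorem A — an elementary abelian quotient of order 16
-/

namespace Cfsg.Agent.Lib.Lead.Hx3

open Cfsg.Agent.Lib.Helper3.S64

variable {T : Type*} [Group T]

/-- an abelian group of order 64 with all squares in `V` cannot satisfy (H) -/
theorem a2_not_abelian [Finite T] {ρ t : MulAut T} {V : Subgroup T} (h : HH ρ t V)
    (hcard : Nat.card T = 64) (hsqV : ∀ g : T, g ^ 2 ∈ V) (hab : ∀ a b : T, a * b = b * a) :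
    False := by
  classical
  -- the squaring and norm homomorphisms
  let sq : T →* T :=
    { toFun := fun g => g ^ 2
      map_one' := one_pow 2
      map_mul' := fun a b => Commute.mul_pow (hab a b) 2 }
  let N : T →* T :=
    { toFun := fun g => g * t g
      map_one' := by simp
      map_mul' := fun a b => by
        rw [map_mul]
        calc a * b * (t a * t b) = a * (b * t a) * t b := by group
          _ = a * (t a * b) * t b := by rw [hab b (t a)]
          _ = a * t a * (b * t b) := by group }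
  have hNdef : ∀ g : T, N g = g * t g := fun _ => rfl
  have hNV : ∀ g : T, N g ∈ V := by
    intro g
    rw [← h.fix]
    show t (g * t g) = g * t g
    rw [map_mul, h.tsq, hab]
  set Ω : Subgroup T := sq.ker with hΩ
  have hΩmem : ∀ g : T, g ∈ Ω ↔ g ^ 2 = 1 := fun g => MonoidHom.mem_ker
  have hVΩ : V ≤ Ω := fun v hv => (hΩmem v).mpr (h.Vsq v hv)
  -- `|T| = |Ω| * |range sq|` and the range lies in `V`
  have hsqr : sq.range ≤ V := by
    rintro _ ⟨g, rfl⟩
    exact hsqV g
  have c1 : Nat.card Ω * Nat.card sq.range = Nat.card T := by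
    rw [← Subgroup.index_ker, Subgroup.card_mul_index]
  have c2 : Nat.card sq.range ≤ 4 := by
    rw [← h.Vcard]
    exact Subgroup.card_le_of_le hsqr
  -- the restriction of `N` to `Ω`
  let NΩ : Ω →* T := N.comp Ω.subtype
  have hNr : NΩ.range ≤ V := by
    rintro _ ⟨g, rfl⟩
    exact hNV g
  have c3 : Nat.card NΩ.range ≤ 4 := by
    rw [← h.Vcard]
    exact Subgroup.card_le_of_le hNr
  have hkerV : ∀ g : NΩ.ker, ((g : Ω) : T) ∈ V := by
    intro g
    have hg : NΩ (g : Ω) = 1 := g.2
    have h1 : ((g : Ω) : T) * t ((g : Ω) : T) = 1 := hg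
    have h2 : ((g : Ω) : T) ^ 2 = 1 := (hΩmem _).mp (g : Ω).2
    rw [← h.fix]
    have h3 : t ((g : Ω) : T) = (((g : Ω) : T))⁻¹ := eq_inv_of_mul_eq_one_right h1
    rw [h3, inv_eq_iff_mul_eq_one, ← pow_two, h2]
  have c4 : Nat.card NΩ.ker ≤ 4 := by
    rw [← h.Vcard]
    have hinj : Function.Injective (fun g : NΩ.ker => (⟨((g : Ω) : T), hkerV g⟩ : V)) := by
      intro g g' hgg
      apply Subtype.ext
      apply Subtype.ext
      have := congrArg (fun v : V => (v : T)) hgg
      exact this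
    exact Nat.card_le_card_of_injective _ hinj
  have c5 : Nat.card NΩ.ker * Nat.card NΩ.range = Nat.card Ω := by
    rw [← Subgroup.index_ker, Subgroup.card_mul_index]
  -- `|Ω| = 16` and `N` maps `Ω` onto `V`
  have hΩ16 : Nat.card Ω = 16 := by
    have u1 : Nat.card Ω ≤ 16 := by
      rw [← c5]
      calc Nat.card NΩ.ker * Nat.card NΩ.range ≤ 4 * 4 := Nat.mul_le_mul c4 c3
        _ = 16 := by norm_num
    have u2 : 64 ≤ Nat.card Ω * 4 := by
      rw [← hcard, ← c1]
      exact Nat.mul_le_mul_left _ c2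
    omega
  have hr4 : Nat.card NΩ.range = 4 := by
    rw [hΩ16] at c5
    have hk1 : 1 ≤ Nat.card NΩ.ker := Nat.card_pos
    nlinarith
  have hrV : NΩ.range = V := Subgroup.eq_of_le_of_card_ge hNr (by rw [h.Vcard, hr4])
  -- an element outside `Ω`
  have hΩtop : Ω ≠ ⊤ := by
    intro htop
    rw [htop, Subgroup.card_top, hcard] at hΩ16
    norm_num at hΩ16
  obtain ⟨x, -, hx⟩ := SetLike.exists_of_lt (lt_top_iff_ne_top.mpr hΩtop)
  -- choose `l ∈ Ω` with `N l = x² (N x)⁻¹`
  have hw : x ^ 2 * (N x)⁻¹ ∈ NΩ.range := by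
    rw [hrV]
    exact V.mul_mem (hsqV x) (V.inv_mem (hNV x))
  obtain ⟨l, hl⟩ := hw
  have hl' : (l : T) * t (l : T) = x ^ 2 * (x * t x)⁻¹ := hl
  have hl2 : (l : T) ^ 2 = 1 := (hΩmem _).mp l.2
  -- `x * l` is fixed by `t`
  have hfix : t (x * (l : T)) = x * (l : T) := by
    let _ : CommGroup T := { (inferInstance : Group T) with mul_comm := hab }
    have e1 : t (l : T) = (l : T)⁻¹ * (x ^ 2 * (x * t x)⁻¹) := by
      rw [← hl']; group
    have e2 : (l : T)⁻¹ = (l : T) := by
      rw [inv_eq_iff_mul_eq_one, ← pow_two, hl2]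
    rw [map_mul, e1, e2, mul_inv_rev, pow_two]
    calc t x * ((l : T) * (x * x * ((t x)⁻¹ * x⁻¹)))
        = (t x * (t x)⁻¹) * (x * x⁻¹) * (x * (l : T)) := by
          simp only [mul_comm, mul_left_comm, mul_assoc]
      _ = x * (l : T) := by rw [mul_inv_cancel, mul_inv_cancel, one_mul, one_mul]
  have hxlV : x * (l : T) ∈ V := (h.fix _).mp hfix
  apply hx
  have : x = x * (l : T) * (l : T)⁻¹ := by group
  rw [this]
  exact Ω.mul_mem (hVΩ hxlV) (Ω.inv_mem l.2)

/-- A2: case (b) of the induction. -/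
theorem a2_case [Finite T] {ρ t : MulAut T} {V : Subgroup T} [V.Normal] (h : HH ρ t V)
    (hcard : Nat.card (T ⧸ V) = 16) (hsq : ∀ x : T ⧸ V, x ^ 2 = 1) : Concl ρ := by
  have h64 : Nat.card T = 64 := by
    rw [Subgroup.card_eq_card_quotient_mul_card_subgroup V, hcard, h.Vcard]
  have hsqV : ∀ g : T, g ^ 2 ∈ V := by
    intro g
    have := hsq (QuotientGroup.mk g)
    rw [← QuotientGroup.mk_pow, QuotientGroup.eq_one_iff] at this
    exact this
  right; right
  refine ⟨h64, ?_⟩
  by_contra hna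
  push Not at hna
  exact a2_not_abelian h h64 hsqV hna

end Cfsg.Agent.Lib.Lead.Hx3
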