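import Mathlib
import Cfsg.Prelude.Def_Classical
import Cfsg.Agent.Lib.Helper2.HermFrames
import Cfsg.Agent.Lib.Helper1.HermCount

/-! Counting nondegenerate subspaces of the standard unitary space through orthonormal frames
(for S5954): `#ND(m) * ∏_{j<m} N1(m-j) = ∏_{j<m} N1(n-j)` with `N1(d)` the number of vectors of
norm one in dimension `d`; and the consequence that a prime `r ≠ p` dividing `#ND(m)` divides
`q^k - (-1)^k` for some `n - m < k ≤ n`. -/

set_option autoImplicit false

namespace Cfsg.Agent.Lib.Lead.HermND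

open Module Cfsg.Agent.Lib.Helper2 Cfsg.Agent.Lib.Helper2.HermDecomp
  Cfsg.Agent.Lib.Helper2.HermFrames Cfsg.Agent.Lib.Helper5.PSLCoset

section generic

variable {F : Type*} [Field F] {σ : F ≃+* F} {V : Type*} [AddCommGroup V] [Module F V]
  {H : V → V → F}

/-- orthonormal frames of length `k` -/
def OFrame (H : V → V → F) (k : ℕ) : Set (Fin k → V) :=
  {u | ∀ i j, H (u i) (u j) = if i = j then 1 else 0}

/-- the possible extensions of an orthonormal frame -/
def OExt (H : V → V → F) {k : ℕ} (u : Fin k → V) : Set V :=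
  {v | H v v = 1 ∧ ∀ i, H (u i) v = 0 ∧ H v (u i) = 0}

/-- nondegenerate subspaces of dimension `k` -/
def ND (H : V → V → F) (k : ℕ) : Set (Submodule F V) :=
  {W | finrank F W = k ∧ ∀ u ∈ W, u ≠ 0 → ∃ v ∈ W, H u v ≠ 0}

theorem cons_mem_iff (H : V → V → F) {k : ℕ} (u : Fin k → V) (v : V) :
    (Fin.cons v u : Fin (k + 1) → V) ∈ OFrame H (k + 1) ↔ u ∈ OFrame H k ∧ v ∈ OExt H u := by
  unfold OFrame OExt
  simp only [Set.mem_setOf_eq]
  constructor
  · intro h3
    refine ⟨fun i j => ?_, ?_, fun i => ⟨?_, ?_⟩⟩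
    · have := h3 i.succ j.succ
      simpa using this
    · have := h3 0 0
      simpa using this
    · have := h3 i.succ 0
      simpa [Fin.succ_ne_zero] using this
    · have := h3 0 i.succ
      simpa [(Fin.succ_ne_zero i).symm] using this
  · rintro ⟨h2, h4, h5⟩
    intro i j
    refine Fin.cases ?_ (fun i' => ?_) i <;> refine Fin.cases ?_ (fun j' => ?_) j
    · simpa using h4
    · simpa [(Fin.succ_ne_zero j').symm] using (h5 j').2
    · simpa [Fin.succ_ne_zero] using (h5 i').1
    · simpa using h2 i' j'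

/-- peeling off the first vector of an orthonormal frame -/
def oframeEquiv (H : V → V → F) (k : ℕ) :
    ↥(OFrame H (k + 1)) ≃ Σ u : ↥(OFrame H k), ↥(OExt H (u : Fin k → V)) where
  toFun s :=
    have h : Fin.tail s.1 ∈ OFrame H k ∧ s.1 0 ∈ OExt H (Fin.tail s.1) := by
      rw [← cons_mem_iff, Fin.cons_self_tail]
      exact s.2
    ⟨⟨Fin.tail s.1, h.1⟩, ⟨s.1 0, h.2⟩⟩
  invFun s := ⟨Fin.cons s.2.1 s.1.1, (cons_mem_iff H s.1.1 s.2.1).2 ⟨s.1.2, s.2.2⟩⟩
  left_inv s := by
    apply Subtype.ext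
    simp only [Fin.cons_self_tail]
  right_inv := fun ⟨⟨u, hu⟩, ⟨v, hv⟩⟩ => by
    simp only [Fin.cons_zero, Fin.tail_cons]
    rfl

theorem card_oframe [Finite V] (H : V → V → F) (c : ℕ → ℕ) (k : ℕ)
    (hc : ∀ j < k, ∀ u ∈ OFrame H j, Nat.card ↥(OExt H u) = c j) :
    Nat.card ↥(OFrame H k) = ∏ j ∈ Finset.range k, c j := by
  induction k with
  | zero =>
    have : OFrame H 0 = Set.univ := by
      ext u
      simp only [OFrame, Set.mem_ofPred_eq, Set.mem_univ, iff_true]
      exact fun i => i.elim0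
    rw [this, Finset.range_zero, Finset.prod_empty, Nat.card_congr (Equiv.Set.univ _)]
    simp
  | succ k ih =>
    letI : Fintype ↥(OFrame H k) := Fintype.ofFinite _
    rw [Nat.card_congr (oframeEquiv H k), Nat.card_sigma, Finset.prod_range_succ,
      ← ih (fun j hj => hc j (Nat.lt_succ_of_lt hj))]
    rw [Finset.sum_congr rfl (fun u _ => hc k (Nat.lt_succ_self k) u.1 u.2)]
    rw [Finset.sum_const, Finset.card_univ, smul_eq_mul, Nat.card_eq_fintype_card]

theorem oframe_coeff (h : IsHerm σ H) {k : ℕ} {u : Fin k → V} (hu : u ∈ OFrame H k)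
    (c : Fin k → F) (j : Fin k) : H (∑ i, c i • u i) (u j) = c j := by
  classical
  rw [sum_left h]
  have hu' : ∀ i j, H (u i) (u j) = if i = j then 1 else 0 := hu
  simp only [hu', mul_ite, mul_one, mul_zero]
  rw [Finset.sum_ite_eq' Finset.univ j]
  simp

theorem oframe_li (h : IsHerm σ H) {k : ℕ} {u : Fin k → V} (hu : u ∈ OFrame H k) :
    LinearIndependent F u := by
  rw [Fintype.linearIndependent_iff]
  intro c hc j
  have := oframe_coeff h hu c j
  rw [hc, h.zero_left] at this
  exact this.symm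

theorem span_inf_ortho (h : IsHerm σ H) {k : ℕ} {u : Fin k → V} (hu : u ∈ OFrame H k) {x : V}
    (hx : x ∈ Submodule.span F (Set.range u)) (hx' : ∀ i, H (u i) x = 0) : x = 0 := by
  obtain ⟨c, rfl⟩ := (Submodule.mem_span_range_iff_exists_fun F).1 hx
  have : ∀ j, c j = 0 := fun j => by
    rw [← oframe_coeff h hu c j]
    exact eq_zero_of_symm h (hx' j)
  simp [this]

/-- the span of an orthonormal frame is a nondegenerate subspace -/
theorem span_mem_ND (h : IsHerm σ H) {k : ℕ} {u : Fin k → V} (hu : u ∈ OFrame H k) :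
    Submodule.span F (Set.range u) ∈ ND H k := by
  refine ⟨by rw [finrank_span_eq_card (oframe_li h hu), Fintype.card_fin], ?_⟩
  intro x hx hx0
  by_contra hcon
  push Not at hcon
  apply hx0
  apply span_inf_ortho h hu hx
  intro i
  exact eq_zero_of_symm h (hcon (u i) (Submodule.subset_span ⟨i, rfl⟩))

variable [FiniteDimensional F V] [Finite F]

theorem nondeg_ortho (hσ : orderOf σ = 2) (h : IsHerm σ H)
    (hnd : ∀ v, (∀ w, H v w = 0) → v = 0) {k : ℕ} {u : Fin k → V} (hu : u ∈ OFrame H k) :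
    ∀ x ∈ orthoCompl h (Submodule.span F (Set.range u)),
      (∀ y ∈ orthoCompl h (Submodule.span F (Set.range u)), H x y = 0) → x = 0 := by
  intro x hx hx'
  have h1 : x ∈ orthoCompl h (orthoCompl h (Submodule.span F (Set.range u))) :=
    fun y hy => eq_zero_of_symm h (hx' y hy)
  rw [orthoCompl_orthoCompl hσ h hnd] at h1
  exact span_inf_ortho h hu h1 (fun i => hx (u i) (Submodule.subset_span ⟨i, rfl⟩))

/-- vectors of norm `c` of a nondegenerate subspace, counted in orthonormal coordinates -/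
theorem card_norm_sub (hσ : orderOf σ = 2) (h : IsHerm σ H) {q : ℕ}
    (hσq : ∀ a, σ a = a ^ q) (U : Submodule F V)
    (hU : ∀ x ∈ U, (∀ y ∈ U, H x y = 0) → x = 0) {d : ℕ} (hd : finrank F U = d) (c : F) :
    Nat.card {x : U // H (x : V) (x : V) = c} =
      Nat.card {v : Fin d → F // Cfsg.hermForm d F q v v = c} := by
  have hr := isHerm_restrict h U
  obtain ⟨b, hb⟩ := exists_onb hσ hr
    (fun v hv => Subtype.ext (hU v v.2 (fun y hy => hv ⟨y, hy⟩))) hd
  apply Nat.card_congr
  refine Equiv.subtypeEquiv b.equivFun.toEquiv ?_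
  intro x
  have h1 := form_eq_sum hr b hb x x
  simp only [hσq] at h1
  rw [h1]
  rfl

/-- the number of ways to extend an orthonormal frame -/
theorem card_oext (hσ : orderOf σ = 2) (h : IsHerm σ H)
    (hnd : ∀ v, (∀ w, H v w = 0) → v = 0) {q : ℕ} (hσq : ∀ a, σ a = a ^ q) {j : ℕ}
    (u : Fin j → V) (hu : u ∈ OFrame H j) {d : ℕ} (hd : d + j = finrank F V) :
    Nat.card ↥(OExt H u) = Nat.card {v : Fin d → F // Cfsg.hermForm d F q v v = 1} := by
  have hWj : finrank F (Submodule.span F (Set.range u)) = j := by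
    rw [finrank_span_eq_card (oframe_li h hu), Fintype.card_fin]
  have hUd : finrank F (orthoCompl h (Submodule.span F (Set.range u))) = d := by
    have := finrank_orthoCompl hσ h hnd (Submodule.span F (Set.range u))
    omega
  rw [← card_norm_sub hσ h hσq (orthoCompl h (Submodule.span F (Set.range u)))
    (nondeg_ortho hσ h hnd hu) hUd 1]
  apply Nat.card_congr
  exact
    { toFun := fun v => ⟨⟨v.1, ortho_span h u v.1 (fun i => (v.2.2 i).1)⟩, v.2.1⟩
      invFun := fun x => ⟨x.1.1, x.2, fun i =>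
        ⟨x.1.2 (u i) (Submodule.subset_span ⟨i, rfl⟩),
          eq_zero_of_symm h (x.1.2 (u i) (Submodule.subset_span ⟨i, rfl⟩))⟩⟩
      left_inv := fun v => rfl
      right_inv := fun x => rfl }

/-- the number of orthonormal frames -/
theorem card_oframe_eq (hσ : orderOf σ = 2) (h : IsHerm σ H)
    (hnd : ∀ v, (∀ w, H v w = 0) → v = 0) {q : ℕ} (hσq : ∀ a, σ a = a ^ q) {n : ℕ}
    (hn : finrank F V = n) (k : ℕ) (hk : k ≤ n) :
    Nat.card ↥(OFrame H k) = ∏ j ∈ Finset.range k,
      Nat.card {v : Fin (n - j) → F // Cfsg.hermForm (n - j) F q v v = 1} := by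
  haveI : Finite V := Module.finite_of_finite F
  apply card_oframe H (fun j => Nat.card {v : Fin (n - j) → F // Cfsg.hermForm (n - j) F q v v = 1})
  intro j hj u hu
  exact card_oext hσ h hnd hσq u hu (by omega)

/-- nondegenerate subspaces versus orthonormal frames -/
theorem ncard_ND_mul_generic (hσ : orderOf σ = 2) (h : IsHerm σ H)
    (hnd : ∀ v, (∀ w, H v w = 0) → v = 0) {q : ℕ} (hσq : ∀ a, σ a = a ^ q) {n : ℕ}
    (hn : finrank F V = n) (k : ℕ) (hk : k ≤ n) :
    (ND H k).ncard * ∏ j ∈ Finset.range k,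
        Nat.card {v : Fin (k - j) → F // Cfsg.hermForm (k - j) F q v v = 1} =
      ∏ j ∈ Finset.range k,
        Nat.card {v : Fin (n - j) → F // Cfsg.hermForm (n - j) F q v v = 1} := by
  classical
  haveI : Finite V := Module.finite_of_finite F
  rw [← card_oframe_eq hσ h hnd hσq hn k hk]
  let φ : ↥(OFrame H k) → ↥(ND H k) := fun u =>
    ⟨Submodule.span F (Set.range u.1), span_mem_ND h u.2⟩
  letI : Fintype ↥(ND H k) := Fintype.ofFinite _
  rw [← Nat.card_congr (Equiv.sigmaFiberEquiv φ), Nat.card_sigma]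
  have hfib : ∀ W : ↥(ND H k), Nat.card {u // φ u = W} = ∏ j ∈ Finset.range k,
      Nat.card {v : Fin (k - j) → F // Cfsg.hermForm (k - j) F q v v = 1} := by
    intro W
    have hrW := isHerm_restrict h W.1
    have hndW : ∀ v : W.1, (∀ w : W.1, H (v : V) (w : V) = 0) → v = 0 := by
      intro v hv
      by_contra hv0
      obtain ⟨w, hw, hne⟩ := W.2.2 v.1 v.2 (fun h0 => hv0 (Subtype.ext h0))
      exact hne (hv ⟨w, hw⟩)
    rw [← card_oframe_eq hσ hrW hndW hσq W.2.1 k le_rfl]
    apply Nat.card_congr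
    exact
      { toFun := fun u => ⟨fun i => ⟨u.1.1 i, by
            rw [← congrArg Subtype.val u.2]
            exact Submodule.subset_span ⟨i, rfl⟩⟩, fun i j => u.1.2 i j⟩
        invFun := fun b => ⟨⟨fun i => ((b.1 i : W.1) : V), fun i j => b.2 i j⟩, by
            apply Subtype.ext
            have hb : (fun i => ((b.1 i : W.1) : V)) ∈ OFrame H k := fun i j => b.2 i j
            apply Submodule.eq_of_le_of_finrank_eq
            · rw [Submodule.span_le]
              rintro _ ⟨i, rfl⟩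
              exact (b.1 i).2
            · show finrank F (Submodule.span F (Set.range fun i => ((b.1 i : W.1) : V))) = _
              rw [finrank_span_eq_card (oframe_li h hb), Fintype.card_fin, W.2.1]⟩
        left_inv := fun u => rfl
        right_inv := fun b => rfl }
  rw [Finset.sum_congr rfl (fun W _ => hfib W), Finset.sum_const, Finset.card_univ, smul_eq_mul,
    ← Nat.card_eq_fintype_card, Nat.card_coe_set_eq]

end generic

section concrete

open Cfsg.Agent.Lib.Helper1

variable {F : Type*} [Field F] [Fintype F]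

/-- nondegenerate `k`-spaces of the standard unitary space versus orthonormal frames -/
theorem ncard_ND_mul {q : ℕ} (hF : Fintype.card F = q ^ 2) (n k : ℕ) (hk : k ≤ n) :
    Nat.card {W : Submodule F (Fin n → F) // finrank F ↥W = k ∧
        (∀ u ∈ W, u ≠ 0 → ∃ v ∈ W, Cfsg.hermForm n F q u v ≠ 0)} *
      ∏ j ∈ Finset.range k, HermCount.cnt F q (k - j) 1 =
      ∏ j ∈ Finset.range k, HermCount.cnt F q (n - j) 1 := by
  obtain ⟨σ, hσ, hσq, hh, hnd⟩ := exists_data hF n
  have h1 := ncard_ND_mul_generic hσ hh hnd hσq (Module.finrank_fin_fun F) k hk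
  simp only [HermCount.natCard_eq_cnt] at h1
  rw [← h1, ← Nat.card_coe_set_eq]
  rfl

variable {p : ℕ} [Fact p.Prime] [CharP F p]

/-- a prime `r ≠ p` dividing the number of nondegenerate `m`-spaces divides `q^k - (-1)^k` for
some `n - m < k ≤ n` -/
theorem exists_dvd_of_dvd_card_nd_herm {q : ℕ} (hq : Fintype.card F = q ^ 2) (n m : ℕ)
    (hmn : m ≤ n) (r : ℕ) (hr : r.Prime) (hrp : r ≠ p)
    (h : r ∣ Nat.card {W : Submodule F (Fin n → F) // finrank F ↥W = m ∧
      (∀ u ∈ W, u ≠ 0 → ∃ v ∈ W, Cfsg.hermForm n F q u v ≠ 0)}) :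
    ∃ k, n < k + m ∧ k ≤ n ∧ 1 ≤ k ∧
      ((Even k ∧ r ∣ q ^ k - 1) ∨ (Odd k ∧ r ∣ q ^ k + 1)) := by
  have hmain := ncard_ND_mul (F := F) hq n m hmn
  have hdvd : r ∣ ∏ j ∈ Finset.range m, HermCount.cnt F q (n - j) 1 := by
    rw [← hmain]
    exact Dvd.dvd.mul_right h _
  obtain ⟨j, hj, hrj⟩ := (Prime.dvd_finsetProd_iff hr.prime _).1 hdvd
  rw [Finset.mem_range] at hj
  have hrq : ¬ r ∣ q := by
    intro hrq
    obtain ⟨e, hp, he⟩ := FiniteField.card F p
    have h1 : r ∣ p ^ (e : ℕ) := by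
      rw [← he, hq]
      exact hrq.trans (dvd_pow_self q two_ne_zero)
    exact hrp ((Nat.prime_dvd_prime_iff_eq hr hp).1 (hr.dvd_of_dvd_pow h1))
  have hq0 : 0 < q := by
    rcases Nat.eq_zero_or_pos q with h0 | h0
    · exact absurd (h0 ▸ dvd_zero r) hrq
    · exact h0
  have hcf := (HermCount.closed_forms (F := F) hq (n - j)).1
  have hrZ : Prime (r : ℤ) := Nat.prime_iff_prime_int.1 hr
  have h2 : (r : ℤ) ∣ (q : ℤ) ^ (n - j) * ((q : ℤ) ^ (n - j) - (-1) ^ (n - j)) := by
    rw [← hcf]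
    exact Dvd.dvd.mul_left (Int.natCast_dvd_natCast.2 hrj) _
  have h3 : (r : ℤ) ∣ (q : ℤ) ^ (n - j) - (-1) ^ (n - j) := by
    rcases hrZ.dvd_or_dvd h2 with h4 | h4
    · exfalso
      have h5 := hrZ.dvd_of_dvd_pow h4
      exact hrq (Int.natCast_dvd_natCast.1 h5)
    · exact h4
  have hpos : 1 ≤ q ^ (n - j) := Nat.one_le_pow _ _ hq0
  refine ⟨n - j, by omega, by omega, by omega, ?_⟩
  rcases Nat.even_or_odd (n - j) with he | ho
  · left
    refine ⟨he, ?_⟩
    rw [he.neg_one_pow] at h3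
    apply Int.natCast_dvd_natCast.1
    rw [Nat.cast_sub hpos]
    push_cast
    exact h3
  · right
    refine ⟨ho, ?_⟩
    rw [ho.neg_one_pow, sub_neg_eq_add] at h3
    apply Int.natCast_dvd_natCast.1
    push_cast
    exact h3

end concrete

end Cfsg.Agent.Lib.Lead.HermND
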