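import Mathlib
import Cfsg.Prelude.Def_Classical
import Cfsg.Agent.Lib.Lead.HermND_CNT

/-! S5954 board, PK-CNT: a prime `r ≠ p` dividing the number of nondegenerate `m`-spaces of the
unitary space `F^n` divides `q^(n-j) - (-1)^(n-j)` for some `j < m`. -/

set_option autoImplicit false
set_option linter.unusedSectionVars false

namespace Cfsg.Agent.Lib.Helper4.NDU

open Module Cfsg.Agent.Lib.Helper1 Cfsg.Agent.Lib.Lead.HermND

section cnt
variable {F : Type*} [Field F] [Fintype F] {p : ℕ} [Fact p.Prime] [CharP F p] {q : ℕ}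

theorem exists_dvd_of_dvd_card_ndu (hF : Fintype.card F = q ^ 2) (n m : ℕ) (hmn : m ≤ n)
    (r : ℕ) (hr : r.Prime) (hrp : r ≠ p)
    (h : r ∣ Nat.card {W : Submodule F (Fin n → F) // finrank F ↥W = m ∧
      (∀ u ∈ W, u ≠ 0 → ∃ v ∈ W, Cfsg.hermForm n F q u v ≠ 0)}) :
    ∃ j, j < m ∧ (r : ℤ) ∣ (q : ℤ) ^ (n - j) - (-1) ^ (n - j) := by
  have hmain := ncard_ND_mul (F := F) hF n m hmn
  have hdvd : r ∣ ∏ j ∈ Finset.range m, HermCount.cnt F q (n - j) 1 := by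
    rw [← hmain]
    exact Dvd.dvd.mul_right h _
  obtain ⟨j, hj, hrj⟩ := (Prime.dvd_finsetProd_iff hr.prime _).1 hdvd
  rw [Finset.mem_range] at hj
  have hrq : ¬ r ∣ q := by
    intro hrq
    obtain ⟨e, hp, he⟩ := FiniteField.card F p
    have h1 : r ∣ p ^ (e : ℕ) := by
      rw [← he, hF]
      exact hrq.trans (dvd_pow_self q two_ne_zero)
    exact hrp ((Nat.prime_dvd_prime_iff_eq hr hp).1 (hr.dvd_of_dvd_pow h1))
  have hcf := (HermCount.closed_forms (F := F) hF (n - j)).1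
  have hrZ : Prime (r : ℤ) := Nat.prime_iff_prime_int.1 hr
  have h2 : (r : ℤ) ∣ (q : ℤ) ^ (n - j) * ((q : ℤ) ^ (n - j) - (-1) ^ (n - j)) := by
    rw [← hcf]
    exact Dvd.dvd.mul_left (Int.natCast_dvd_natCast.2 hrj) _
  refine ⟨j, hj, ?_⟩
  rcases hrZ.dvd_or_dvd h2 with h4 | h4
  · exfalso
    have h5 := hrZ.dvd_of_dvd_pow h4
    exact hrq (Int.natCast_dvd_natCast.1 h5)
  · exact h4

end cnt

end Cfsg.Agent.Lib.Helper4.NDU
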