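import Mathlib
import Cfsg.Agent.Lib.Helper9.UPol7
import Cfsg.Agent.Lib.Helper6.TSU0

/-! S5953 board, PK-RPOW: `r`-th roots in the cyclic group of norm-one elements of `F_{q²}`,
irreducibility of `X^r - z`. -/

set_option autoImplicit false
set_option linter.unusedSectionVars false
set_option linter.unusedVariables false

namespace Cfsg.Agent.Lib.Helper6.TSU

open Polynomial Cfsg.Agent.Lib.Helper9.UPol

section rpow
variable {F : Type*} [Field F] [Fintype F] {q : ℕ}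

theorem rpow_norm_pow {u : F} (hu : u * u ^ q = 1) (j : ℕ) : u ^ j * (u ^ j) ^ q = 1 := by
  rw [← pow_mul, mul_comm j q, pow_mul, ← mul_pow, hu, one_pow]

theorem rpow_pow_succ_eq_one {z : F} (hz : z * z ^ q = 1) : z ^ (q + 1) = 1 := by
  rw [pow_succ']
  exact hz

/-- a generator of the group of norm-one elements -/
theorem rpow_exists_gen (hF : Fintype.card F = q ^ 2) :
    ∃ u : F, u * u ^ q = 1 ∧ orderOf u = q + 1 ∧
      ∀ z : F, z * z ^ q = 1 → ∃ k, k < q + 1 ∧ u ^ k = z := by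
  obtain ⟨u, hu1, hu2⟩ := exists_norm_one_of_order hF (t := q + 1) (Nat.succ_pos q) dvd_rfl
  refine ⟨u, hu1, hu2, ?_⟩
  intro z hz
  have hprim : IsPrimitiveRoot u (q + 1) := by
    rw [← hu2]
    exact IsPrimitiveRoot.orderOf u
  haveI : NeZero (q + 1) := ⟨Nat.succ_ne_zero q⟩
  exact hprim.eq_pow_of_pow_eq_one (rpow_pow_succ_eq_one hz)

/-- an `r`-th root anywhere in `F` gives an `r`-th root of norm one (`r` odd, `r ∣ q + 1`) -/
theorem rpow_root_norm_one (hF : Fintype.card F = q ^ 2) (r : ℕ) [Fact r.Prime] (hr2 : r ≠ 2)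
    (hrq : r ∣ q + 1) (z : F) (hz : z * z ^ q = 1) (b : F) (hb : b ^ r = z) :
    ∃ w : F, w * w ^ q = 1 ∧ w ^ r = z := by
  have hr : r.Prime := Fact.out
  have hq2 : 2 ≤ q := Cfsg.Agent.Lib.Helper1.HermCount.two_le_q hF
  obtain ⟨u, hu1, hu2, hgen⟩ := rpow_exists_gen hF
  obtain ⟨k, hk, rfl⟩ := hgen z hz
  obtain ⟨M', hM'⟩ := hrq
  have hM'0 : 0 < M' := by
    rcases Nat.eq_zero_or_pos M' with h0 | h0
    · rw [h0] at hM'
      omega
    · exact h0
  have hb0 : b ≠ 0 := by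
    rintro rfl
    rw [zero_pow hr.ne_zero] at hb
    have : u ^ k * (u ^ k) ^ q = 1 := hz
    rw [← hb] at this
    simp at this
  have hN : q ^ 2 - 1 = (q - 1) * (q + 1) := by
    have h1 : 1 ≤ q := by omega
    zify [h1, Nat.one_le_pow 2 q h1]
    ring
  have hbN : b ^ (q ^ 2 - 1) = 1 := by
    rw [← hF]
    exact FiniteField.pow_card_sub_one_eq_one b hb0
  -- `(u^k)^((q-1) M') = 1`
  have h1 : (u ^ k) ^ ((q - 1) * M') = 1 := by
    rw [← hb, ← pow_mul, show r * ((q - 1) * M') = (q - 1) * (q + 1) by rw [hM']; ring, ← hN]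
    exact hbN
  rw [← pow_mul] at h1
  have h2 : q + 1 ∣ k * ((q - 1) * M') := by
    rw [← hu2]
    exact orderOf_dvd_of_pow_eq_one h1
  rw [hM'] at h2
  have h3 : r ∣ k * (q - 1) := by
    have : r * M' ∣ k * (q - 1) * M' := by
      rw [mul_assoc]
      exact h2
    exact Nat.dvd_of_mul_dvd_mul_right hM'0 this
  have h4 : ¬ r ∣ q - 1 := by
    intro h4
    have h5 : r ∣ (q + 1) - (q - 1) := Nat.dvd_sub ⟨M', hM'⟩ h4
    rw [show (q + 1) - (q - 1) = 2 by omega] at h5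
    exact hr2 ((Nat.prime_dvd_prime_iff_eq hr Nat.prime_two).1 h5)
  have h5 : r ∣ k := ((Nat.Prime.dvd_mul hr).1 h3).resolve_right h4
  obtain ⟨k', rfl⟩ := h5
  refine ⟨u ^ k', rpow_norm_pow hu1 k', ?_⟩
  rw [← pow_mul, mul_comm]

theorem exists_root_of_norm_one (hF : Fintype.card F = q ^ 2) (r : ℕ) [Fact r.Prime] (z : F)
    (hz : z * z ^ q = 1) (hcase : ¬ r ∣ q + 1 ∨ z ^ ((q + 1) / r) = 1) :
    ∃ w : F, w * w ^ q = 1 ∧ w ^ r = z := by
  have hr : r.Prime := Fact.out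
  have hq2 : 2 ≤ q := Cfsg.Agent.Lib.Helper1.HermCount.two_le_q hF
  by_cases hrq : r ∣ q + 1
  · have hz1 : z ^ ((q + 1) / r) = 1 := hcase.resolve_left (fun h => h hrq)
    obtain ⟨u, hu1, hu2, hgen⟩ := rpow_exists_gen hF
    obtain ⟨k, hk, rfl⟩ := hgen z hz
    obtain ⟨M', hM'⟩ := hrq
    have hM'0 : 0 < M' := by
      rcases Nat.eq_zero_or_pos M' with h0 | h0
      · rw [h0] at hM'
        omega
      · exact h0
    rw [hM', Nat.mul_div_cancel_left _ hr.pos, ← pow_mul] at hz1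
    have h2 : q + 1 ∣ k * M' := by
      rw [← hu2]
      exact orderOf_dvd_of_pow_eq_one hz1
    rw [hM'] at h2
    have h5 : r ∣ k := Nat.dvd_of_mul_dvd_mul_right hM'0 h2
    obtain ⟨k', rfl⟩ := h5
    refine ⟨u ^ k', rpow_norm_pow hu1 k', ?_⟩
    rw [← pow_mul, mul_comm]
  · have hcop : Nat.Coprime r (q + 1) := (Nat.Prime.coprime_iff_not_dvd hr).2 hrq
    obtain ⟨s, -, hs⟩ := Nat.exists_mul_mod_eq_one_of_coprime hcop (by omega)
    refine ⟨z ^ s, rpow_norm_pow hz s, ?_⟩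
    rw [← pow_mul, mul_comm s r, ← Nat.div_add_mod (r * s) (q + 1), hs, pow_add, pow_mul,
      rpow_pow_succ_eq_one hz, one_pow, one_mul, pow_one]

theorem irreducible_of_not_root (hF : Fintype.card F = q ^ 2) (r : ℕ) [Fact r.Prime] (hr2 : r ≠ 2)
    (z : F) (hz : z * z ^ q = 1) (hno : ∀ w : F, w * w ^ q = 1 → w ^ r ≠ z) :
    r ∣ q + 1 ∧ Irreducible (X ^ r - C z : F[X]) := by
  have hr : r.Prime := Fact.out
  have hrq : r ∣ q + 1 := by
    by_contra hrq
    obtain ⟨w, hw1, hw2⟩ := exists_root_of_norm_one hF r z hz (Or.inl hrq)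
    exact hno w hw1 hw2
  refine ⟨hrq, ?_⟩
  apply X_pow_sub_C_irreducible_of_prime hr
  intro b hb
  obtain ⟨w, hw1, hw2⟩ := rpow_root_norm_one hF r hr2 hrq z hz b hb
  exact hno w hw1 hw2

theorem pow_div_eq_one_of_val_le (hF : Fintype.card F = q ^ 2) (r : ℕ) [Fact r.Prime]
    (hrq1 : r ∣ q + 1) (z : F) (hz : z * z ^ q = 1) (n k : ℕ) (hn : n = r * k) (hn0 : 0 < n)
    (hzk : z ^ k = 1) (hv : padicValNat r n ≤ padicValNat r (q + 1)) :
    z ^ ((q + 1) / r) = 1 := by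
  have hr : r.Prime := Fact.out
  obtain ⟨M', hM'⟩ := hrq1
  have hM'0 : M' ≠ 0 := by
    rintro rfl
    omega
  have hk0 : k ≠ 0 := by
    rintro rfl
    omega
  rw [hM', Nat.mul_div_cancel_left _ hr.pos]
  apply orderOf_dvd_iff_pow_eq_one.1
  have ho1 : orderOf z ∣ k := orderOf_dvd_of_pow_eq_one hzk
  have ho2 : orderOf z ∣ r * M' := by
    rw [← hM']
    exact orderOf_dvd_of_pow_eq_one (rpow_pow_succ_eq_one hz)
  have hvk : padicValNat r k ≤ padicValNat r M' := by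
    rw [hn, hM', padicValNat.mul hr.ne_zero hk0, padicValNat.mul hr.ne_zero hM'0] at hv
    omega
  rw [Nat.dvd_iff_prime_pow_dvd_dvd]
  intro l e hl hle
  by_cases hlr : l = r
  · subst hlr
    have h1 : l ^ e ∣ k := hle.trans ho1
    have h2 : e ≤ padicValNat l k := (padicValNat_dvd_iff_le hk0).1 h1
    exact (padicValNat_dvd_iff_le hM'0).2 (h2.trans hvk)
  · have h1 : l ^ e ∣ r * M' := hle.trans ho2
    have hcop : Nat.Coprime (l ^ e) r :=
      Nat.Coprime.pow_left e ((Nat.coprime_primes hl hr).2 hlr)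
    exact hcop.dvd_of_dvd_mul_left h1

end rpow

end Cfsg.Agent.Lib.Helper6.TSU
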