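import Mathlib
import Cfsg.Agent.Lib.Lead.TSU_RPOW

/-! S5954 board, PK-ARITH (b, odd part): non-`r`-th powers in the group of norm-one elements. -/

set_option autoImplicit false
set_option linter.unusedSectionVars false

namespace Cfsg.Agent.Lib.Helper4.NDU

open Cfsg.Agent.Lib.Helper9.UPol Cfsg.Agent.Lib.Helper6.TSU

section arith

variable {F : Type*} [Field F] [Fintype F] {q : ℕ}

/-- `r` odd, `r ∣ q + 1`, `v_r(n) > v_r(q + 1)`: a norm-one `z`, not an `r`-th power, with `z ^ (n / r) = 1`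
(`z` of order `r ^ v_r(q+1)` in the cyclic group of norm-one elements). -/
theorem exists_nonpower_odd (hF : Fintype.card F = q ^ 2) (r : ℕ) (hr : r.Prime) (hr2 : r ≠ 2)
    (hrq : r ∣ q + 1) (n : ℕ) (hn : padicValNat r (q + 1) < padicValNat r n) :
    ∃ z : F, z * z ^ q = 1 ∧ (∀ b : F, b ^ r ≠ z) ∧ z ^ (n / r) = 1 := by
  haveI : Fact r.Prime := ⟨hr⟩
  set a := padicValNat r (q + 1) with ha
  have hn0 : n ≠ 0 := by
    rintro rfl
    simp at hn
  have hra : r ^ a ∣ q + 1 := pow_padicValNat_dvd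
  obtain ⟨z, hz1, hz2⟩ := exists_norm_one_of_order hF (pow_pos hr.pos a) hra
  refine ⟨z, hz1, ?_, ?_⟩
  · intro b hb
    obtain ⟨w, hw1, hw2⟩ := rpow_root_norm_one hF r hr2 hrq z hz1 b hb
    obtain ⟨M', hM'⟩ := hrq
    have h1 : z ^ M' = 1 := by
      rw [← hw2, ← pow_mul, ← hM']
      exact rpow_pow_succ_eq_one hw1
    have h2 : r ^ a ∣ M' := by
      rw [← hz2]
      exact orderOf_dvd_of_pow_eq_one h1
    have h3 : r ^ (a + 1) ∣ q + 1 := by
      rw [hM', pow_succ, mul_comm]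
      exact Nat.mul_dvd_mul_left r h2
    have h4 := (padicValNat_dvd_iff_le (p := r) (show q + 1 ≠ 0 by omega)).1 h3
    omega
  · have h1 : r ^ (a + 1) ∣ n := (padicValNat_dvd_iff_le hn0).2 hn
    obtain ⟨n', hn'⟩ := h1
    have h2 : n / r = r ^ a * n' := by
      rw [hn', pow_succ, mul_assoc, mul_comm (r ^ a), mul_assoc, Nat.mul_div_cancel_left _ hr.pos,
        mul_comm]
    rw [h2, pow_mul, ← hz2, pow_orderOf_eq_one, one_pow]

theorem lt_padic_of_nonpower_odd (hF : Fintype.card F = q ^ 2) (r : ℕ) (hr : r.Prime)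
    (hr2 : r ≠ 2) (hrq : r ∣ q + 1) (n : ℕ) (hn : 0 < n) (hrn : r ∣ n) (z : F)
    (hz : z * z ^ q = 1) (hnp : ∀ b : F, b ^ r ≠ z) (hdet : z ^ (n / r) = 1) :
    padicValNat r (q + 1) < padicValNat r n := by
  haveI : Fact r.Prime := ⟨hr⟩
  by_contra hcon
  push Not at hcon
  obtain ⟨k, hk⟩ := hrn
  have hk' : n / r = k := by rw [hk, Nat.mul_div_cancel_left _ hr.pos]
  rw [hk'] at hdet
  have h1 := pow_div_eq_one_of_val_le hF r hrq z hz n k hk hn hdet hcon
  obtain ⟨w, -, hw2⟩ := exists_root_of_norm_one hF r z hz (Or.inr h1)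
  exact hnp w hw2

end arith

end Cfsg.Agent.Lib.Helper4.NDU
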