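import Mathlib
import Cfsg.Prelude.Def_Characters
import Cfsg.Agent.Lib.Helper1.CycloChar
import Cfsg.Agent.Lib.Helper1.CycloGalois

set_option autoImplicit false

namespace Cfsg.Agent.Lib.Lead

open Cfsg.Agent.Lib.Helper1

/-- Positive reals with sum `card` and product at least one are all equal to one. -/
theorem eq_one_of_sum_eq_card_of_one_le_prod {ι : Type*} [Fintype ι] (r : ι → ℝ)
    (hpos : ∀ i, 0 < r i) (hsum : ∑ i, r i = (Fintype.card ι : ℝ)) (hprod : 1 ≤ ∏ i, r i) :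
    ∀ i, r i = 1 := by
  classical
  -- each term `r i - 1 - log (r i)` is nonnegative, and their sum is `- log (∏ r) ≤ 0`
  have hterm : ∀ i, 0 ≤ r i - 1 - Real.log (r i) := fun i => by
    have := Real.log_le_sub_one_of_pos (hpos i)
    linarith
  have hlogprod : Real.log (∏ i, r i) = ∑ i, Real.log (r i) :=
    Real.log_prod (fun i _ => (hpos i).ne')
  have hlog0 : 0 ≤ Real.log (∏ i, r i) := Real.log_nonneg hprod
  have hsum0 : ∑ i, (r i - 1 - Real.log (r i)) ≤ 0 := by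
    rw [Finset.sum_sub_distrib, Finset.sum_sub_distrib, hsum, ← hlogprod]
    simp only [Finset.sum_const, Finset.card_univ, nsmul_eq_mul, mul_one]
    linarith
  have hall : ∀ i ∈ Finset.univ, r i - 1 - Real.log (r i) = 0 :=
    (Finset.sum_eq_zero_iff_of_nonneg (fun i _ => hterm i)).1
      (le_antisymm hsum0 (Finset.sum_nonneg fun i _ => hterm i))
  intro i
  by_contra hne
  have hlt := Real.log_lt_sub_one_of_pos (hpos i) hne
  have := hall i (Finset.mem_univ i)
  linarith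

/-- A generalized character all of whose values are positive reals and whose values sum to the
group order is the trivial character. -/
theorem eq_one_of_pos_genChar {D : Type*} [Group D] [Fintype D] (μ : D → ℂ)
    (hμ : Cfsg.IsGeneralizedCharacter D μ) (hpos : ∀ u, ∃ r : ℝ, 0 < r ∧ μ u = (r : ℂ))
    (hsum : ∑ u, μ u = (Fintype.card D : ℂ)) : ∀ u, μ u = 1 := by
  classical
  choose r hr0 hr using hpos
  obtain ⟨χ, ψ, hχ, hψ, rfl⟩ := hμ
  -- the cyclotomic field of order `|D|`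
  obtain ⟨N, hN⟩ : ∃ N, N = Nat.card D := ⟨_, rfl⟩
  have hN0 : NeZero N := ⟨hN ▸ Nat.card_pos.ne'⟩
  let K := CyclotomicField N ℚ
  have hcyc : IsCyclotomicExtension {N} ℚ K :=
    CyclotomicField.instIsCyclotomicExtensionSingletonNatSetOfCharZero N ℚ
  let ι : K →+* ℂ := ((IsAlgClosed.lift : K →ₐ[ℚ] ℂ) : K →+* ℂ)
  have hfd : FiniteDimensional ℚ K := IsCyclotomicExtension.finiteDimensional {N} ℚ K
  have hk : ∀ σ : K ≃ₐ[ℚ] K, ∃ k : ℕ, k.Coprime N ∧ ∀ z : K, z ^ N = 1 → σ z = z ^ k :=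
    fun σ => aut_pow N σ
  choose k hk1 hk2 using hk
  have hfin : Finite (K ≃ₐ[ℚ] K) := inferInstance
  have : Fintype (K ≃ₐ[ℚ] K) := Fintype.ofFinite _
  -- for each `u`, the product over the Galois group of `r (u ^ k σ)` is at least one
  have hone : ∀ u : D, 1 ≤ ∏ σ : K ≃ₐ[ℚ] K, r (u ^ k σ) := by
    intro u
    have huN : u ^ N = 1 := hN ▸ pow_card_eq_one'
    obtain ⟨x, hxint, hx⟩ := exists_cyclo_of_character N ι hχ u huN
    obtain ⟨y, hyint, hy⟩ := exists_cyclo_of_character N ι hψ u huN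
    have hval : ∀ σ : K ≃ₐ[ℚ] K, ι (σ (x - y)) = ((r (u ^ k σ) : ℝ) : ℂ) := by
      intro σ
      rw [map_sub, map_sub, hx σ (k σ) (hk2 σ), hy σ (k σ) (hk2 σ), ← hr (u ^ k σ)]
      rfl
    have hxy0 : x - y ≠ 0 := by
      intro h0
      have h1 := hval 1
      have hk1' : u ^ k 1 = u ^ k (1 : K ≃ₐ[ℚ] K) := rfl
      rw [h0] at h1
      simp only [map_zero] at h1
      have : (r (u ^ k (1 : K ≃ₐ[ℚ] K)) : ℝ) = 0 := by exact_mod_cast h1.symm
      exact (hr0 _).ne' this
    have hprod := one_le_prod_norm N ι (x - y) (hxint.sub hyint) hxy0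
    have : ∏ σ : K ≃ₐ[ℚ] K, ‖ι (σ (x - y))‖ = ∏ σ : K ≃ₐ[ℚ] K, r (u ^ k σ) :=
      Finset.prod_congr rfl fun σ _ => by
        rw [hval σ, Complex.norm_real, Real.norm_of_nonneg (hr0 _).le]
    rw [this] at hprod
    exact hprod
  -- each power map permutes `D`
  have hperm : ∀ σ : K ≃ₐ[ℚ] K, ∏ u : D, r (u ^ k σ) = ∏ u : D, r u := by
    intro σ
    have hcop : (Nat.card D).Coprime (k σ) := (hN ▸ hk1 σ).symm
    exact Fintype.prod_bijective _ (powCoprime hcop).bijective _ _ (fun _ => rfl)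
  have hP0 : 0 < ∏ u : D, r u := Finset.prod_pos fun u _ => hr0 u
  have hpow : 1 ≤ (∏ u : D, r u) ^ Fintype.card (K ≃ₐ[ℚ] K) := by
    have h1 : (1 : ℝ) ≤ ∏ u : D, ∏ σ : K ≃ₐ[ℚ] K, r (u ^ k σ) :=
      Finset.one_le_prod (fun u _ => hone u)
    rw [Finset.prod_comm] at h1
    simp only [hperm] at h1
    rw [Finset.prod_const, Finset.card_univ] at h1
    exact h1
  have hP1 : 1 ≤ ∏ u : D, r u := by
    by_contra hlt
    rw [not_le] at hlt
    have hc : 0 < Fintype.card (K ≃ₐ[ℚ] K) := Fintype.card_pos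
    have := pow_lt_one₀ hP0.le hlt hc.ne'
    linarith
  have hsumr : ∑ u, r u = (Fintype.card D : ℝ) := by
    have h1 : ((∑ u, r u : ℝ) : ℂ) = (Fintype.card D : ℂ) := by
      rw [← hsum]
      push_cast
      exact Finset.sum_congr rfl fun u _ => (hr u).symm
    exact_mod_cast h1
  have hall := eq_one_of_sum_eq_card_of_one_le_prod r hr0 hsumr hP1
  intro u
  rw [hr u, hall u]
  simp

end Cfsg.Agent.Lib.Lead
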