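import Mathlib
import Cfsg.Agent.Lib.Helper4.PQDefs
import Cfsg.Agent.Lib.Helper4.SecMod
import Cfsg.Agent.Lib.Helper4.HH8

/-!
# S4306, Theorem X, steps (N2) and (X3)

* (N2) if `h` acts trivially on `Q/Z₁` then `Z₁ = Q`;
* (X3) for `t = 2` the index `|Q : Z₁|` is an even power of `2` (the commutator form on `Q/Z₁` with
  values in `Z₁/K₀ ≅ C₂` is alternating and non-degenerate).
-/

set_option autoImplicit false
set_option linter.unusedSectionVars false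
set_option linter.unusedVariables false

namespace Cfsg.Agent.Lib.Lead.PQN2

open Cfsg.Agent.Lib.Helper4.PQ
open Cfsg.Agent.Lib.Helper4.SecMod

universe w

section N2

variable {T : Type w} [Group T] [Finite T]

/-- (N2), minimal hypotheses. -/
theorem n2_core (Q S Z₁ : Subgroup T) (h : T) (hZ₁Q : Z₁ ≤ Q)
    (hcomm : ∀ u ∈ Q, ∀ v ∈ Q, u * v * u⁻¹ * v⁻¹ ∈ Z₁)
    (hSQ : ∀ c ∈ S, ∀ u ∈ Q, c * u * c⁻¹ ∈ Q) (hhQ : ∀ u ∈ Q, h * u * h⁻¹ ∈ Q)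
    (hSZn : ∀ c ∈ S, ∀ z ∈ Z₁, c * z * c⁻¹ ∈ Z₁) (hhZn : ∀ z ∈ Z₁, h * z * h⁻¹ ∈ Z₁)
    (hCS : ∀ u ∈ Q, (∀ c ∈ S, c * u * c⁻¹ * u⁻¹ ∈ Z₁) → u ∈ Z₁)
    (hSsurj : ∀ c ∈ S, ∃ d ∈ S, ∃ e ∈ CS Q S, c = (h * d * h⁻¹ * d⁻¹) * e)
    (hN : ∀ u ∈ Q, h * u * h⁻¹ * u⁻¹ ∈ Z₁) : Z₁ = Q := by
  classical
  have sec := Sec.ofNormalizer Q Z₁ hZ₁Q hcomm
  set L : Subgroup T := Subgroup.normalizer (Q : Set T) ⊓ Subgroup.normalizer (Z₁ : Set T) with hL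
  have hSL : S ≤ L := le_inf (le_normalizer_of_conj_mem S Q hSQ) (le_normalizer_of_conj_mem S Z₁ hSZn)
  have hhL : h ∈ L :=
    ⟨Subgroup.mem_normalizer_fintype (fun n hn => hhQ n hn),
      Subgroup.mem_normalizer_fintype (fun n hn => hhZn n hn)⟩
  -- `h` acts trivially on the section module
  have hh_triv : ∀ m : sec.M, (⟨h, hhL⟩ : L) • m = m := by
    intro m
    obtain ⟨x, hx, rfl⟩ := sec.cls_surj m
    rw [sec.smul_cls_eq_iff hhL hx]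
    exact hN x hx
  have hhinv_triv : ∀ m : sec.M, (⟨h, hhL⟩ : L)⁻¹ • m = m := by
    intro m
    rw [inv_smul_eq_iff, hh_triv]
  -- so every element of `S` acts trivially
  have hS_triv : ∀ c (hc : c ∈ S) (m : sec.M), (⟨c, hSL hc⟩ : L) • m = m := by
    intro c hc m
    obtain ⟨d, hd, e, he, hcde⟩ := hSsurj c hc
    have heS : e ∈ S := (mem_CS.1 he).1
    have he_triv : ∀ m : sec.M, (⟨e, hSL heS⟩ : L) • m = m := by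
      intro m
      obtain ⟨x, hx, rfl⟩ := sec.cls_surj m
      rw [sec.smul_cls_eq_iff (hSL heS) hx]
      have h1 : x * e = e * x := (mem_CS.1 he).2 x hx
      have h2 : e * x * e⁻¹ * x⁻¹ = 1 := by rw [← h1]; group
      rw [h2]
      exact Z₁.one_mem
    have heq : (⟨c, hSL hc⟩ : L) =
        (⟨h, hhL⟩ : L) * ⟨d, hSL hd⟩ * (⟨h, hhL⟩ : L)⁻¹ * (⟨d, hSL hd⟩ : L)⁻¹ * ⟨e, hSL heS⟩ := by
      apply Subtype.ext
      simp only [Subgroup.coe_mul, Subgroup.coe_inv]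
      exact hcde
    rw [heq, mul_smul, mul_smul, mul_smul, mul_smul, he_triv, hh_triv, hhinv_triv, smul_inv_smul]
  apply le_antisymm hZ₁Q
  intro u hu
  apply hCS u hu
  intro c hc
  rw [← sec.smul_cls_eq_iff (hSL hc) hu]
  exact hS_triv c hc _

end N2

section N2full

variable {V : Type*} [AddCommGroup V] [Finite V] {T : Type w} [Group T] [Finite T]
  [DistribMulAction T V]

/-- (N2) with the hypotheses of `extraspecial_false` (those that are used). -/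
theorem n2 (Q S Z₁ : Subgroup T) (h : T) (W : AddSubgroup V)
    (hSQ : ∀ c ∈ S, ∀ u ∈ Q, c * u * c⁻¹ ∈ Q) (hhQ : ∀ u ∈ Q, h * u * h⁻¹ ∈ Q)
    (hKZ₁ : CW Q W ≤ Z₁) (hZ₁Q : Z₁ ≤ Q)
    (hcomm : ∀ u ∈ Q, ∀ v ∈ Q, u * v * u⁻¹ * v⁻¹ ∈ Z₁)
    (hSZ₁ : ∀ c ∈ S, ∀ z ∈ Z₁, c * z * c⁻¹ * z⁻¹ ∈ CW Q W)
    (hhZ₁ : ∀ z ∈ Z₁, h * z * h⁻¹ * z⁻¹ ∈ CW Q W)
    (hCS : ∀ u ∈ Q, (∀ c ∈ S, c * u * c⁻¹ * u⁻¹ ∈ Z₁) → u ∈ Z₁)
    (hSsurj : ∀ c ∈ S, ∃ d ∈ S, ∃ e ∈ CS Q S, c = (h * d * h⁻¹ * d⁻¹) * e)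
    (hN : ∀ u ∈ Q, h * u * h⁻¹ * u⁻¹ ∈ Z₁) : Z₁ = Q := by
  apply n2_core Q S Z₁ h hZ₁Q hcomm hSQ hhQ ?_ ?_ hCS hSsurj hN
  · intro c hc z hz
    have h1 := hKZ₁ (hSZ₁ c hc z hz)
    have e : c * z * c⁻¹ = (c * z * c⁻¹ * z⁻¹) * z := by group
    rw [e]
    exact Z₁.mul_mem h1 hz
  · intro z hz
    have h1 := hKZ₁ (hhZ₁ z hz)
    have e : h * z * h⁻¹ = (h * z * h⁻¹ * z⁻¹) * z := by group
    rw [e]
    exact Z₁.mul_mem h1 hz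

end N2full

section X3

variable {T : Type w} [Group T] [Finite T]

/-- the sign of an element with respect to `K₀`. -/
noncomputable def sgn (K₀ : Subgroup T) (x : T) : ℚˣ := by
  classical exact if x ∈ K₀ then 1 else -1

theorem sgn_eq_one_iff (K₀ : Subgroup T) (x : T) : sgn K₀ x = 1 ↔ x ∈ K₀ := by
  classical
  unfold sgn
  by_cases hx : x ∈ K₀
  · simp [hx]
  · simp only [hx, if_false, iff_false]
    intro h
    have := congrArg Units.val h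
    norm_num at this

theorem sgn_mul (K₀ Z₁ : Subgroup T) (hidx : K₀.relIndex Z₁ = 2) {x y : T} (hx : x ∈ Z₁)
    (hy : y ∈ Z₁) : sgn K₀ (x * y) = sgn K₀ x * sgn K₀ y := by
  classical
  have key : x * y ∈ K₀ ↔ (x ∈ K₀ ↔ y ∈ K₀) := by
    have := Subgroup.mul_mem_iff_of_index_two (H := K₀.subgroupOf Z₁) hidx
      (a := ⟨x, hx⟩) (b := ⟨y, hy⟩)
    simpa [Subgroup.mem_subgroupOf] using this
  unfold sgn
  by_cases h1 : x ∈ K₀ <;> by_cases h2 : y ∈ K₀ <;> simp [h1, h2, key]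

theorem sgn_congr (K₀ : Subgroup T) {x y : T} (hxy : x * y⁻¹ ∈ K₀) : sgn K₀ x = sgn K₀ y := by
  classical
  have key : x ∈ K₀ ↔ y ∈ K₀ := by
    constructor
    · intro hx
      have := K₀.mul_mem (K₀.inv_mem hxy) hx
      have e : (x * y⁻¹)⁻¹ * x = y := by group
      rwa [e] at this
    · intro hy
      have := K₀.mul_mem hxy hy
      have e : x * y⁻¹ * y = x := by group
      rwa [e] at this
  unfold sgn
  simp [key]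

/-- (X3): for `t = 2` the index `|Q : Z₁|` is an even power of `2`. -/
theorem x3 (Q Z₁ K₀ : Subgroup T) (hK₀Z₁ : K₀ ≤ Z₁) (hZ₁Q : Z₁ ≤ Q)
    (hK₀n : ∀ u ∈ Q, ∀ k ∈ K₀, u * k * u⁻¹ ∈ K₀) (hidx : K₀.relIndex Z₁ = 2)
    (hcomm : ∀ u ∈ Q, ∀ v ∈ Q, u * v * u⁻¹ * v⁻¹ ∈ Z₁)
    (hcent : ∀ z ∈ Z₁, ∀ u ∈ Q, z * u * z⁻¹ * u⁻¹ ∈ K₀)
    (hcenter : ∀ u ∈ Q, (∀ v ∈ Q, u * v * u⁻¹ * v⁻¹ ∈ K₀) → u ∈ Z₁)
    (hpow : ∀ u ∈ Q, u ^ 2 ∈ Z₁) : ∃ m : ℕ, Z₁.relIndex Q = 2 ^ (2 * m) := by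
  classical
  -- `[u, z] ∈ K₀` for `z ∈ Z₁`
  have hcent' : ∀ z ∈ Z₁, ∀ u ∈ Q, u * z * u⁻¹ * z⁻¹ ∈ K₀ := by
    intro z hz u hu
    have := K₀.inv_mem (hcent z hz u hu)
    have e : (z * u * z⁻¹ * u⁻¹)⁻¹ = u * z * u⁻¹ * z⁻¹ := by group
    rwa [e] at this
  let β : Q → Q → ℚˣ := fun u v => sgn K₀ ((u : T) * v * (u : T)⁻¹ * (v : T)⁻¹)
  have hβ : ∀ u v : Q, β u v = sgn K₀ ((u : T) * v * (u : T)⁻¹ * (v : T)⁻¹) := fun _ _ => rfl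
  have hL : ∀ u u' v : Q, β (u * u') v = β u v * β u' v := by
    intro u u' v
    rw [hβ, hβ, hβ, ← sgn_mul K₀ Z₁ hidx (hcomm u u.2 v v.2) (hcomm u' u'.2 v v.2)]
    apply sgn_congr
    -- `[uu',v] = (u [u',v] u⁻¹) [u,v]`
    have e : ((u * u' : Q) : T) * v * ((u * u' : Q) : T)⁻¹ * (v : T)⁻¹ *
        ((u : T) * v * (u : T)⁻¹ * (v : T)⁻¹ * ((u' : T) * v * (u' : T)⁻¹ * (v : T)⁻¹))⁻¹ =
        (u : T) * ((u' : T) * v * (u' : T)⁻¹ * (v : T)⁻¹) * (u : T)⁻¹ *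
          ((u' : T) * v * (u' : T)⁻¹ * (v : T)⁻¹)⁻¹ *
        (((u' : T) * v * (u' : T)⁻¹ * (v : T)⁻¹) * ((u : T) * v * (u : T)⁻¹ * (v : T)⁻¹) *
          ((u' : T) * v * (u' : T)⁻¹ * (v : T)⁻¹)⁻¹ * ((u : T) * v * (u : T)⁻¹ * (v : T)⁻¹)⁻¹) := by
      simp only [Subgroup.coe_mul]
      group
    rw [e]
    refine K₀.mul_mem (hcent' _ (hcomm u' u'.2 v v.2) u u.2) ?_
    have hz' : ((u : T) * v * (u : T)⁻¹ * (v : T)⁻¹) ∈ Q := hZ₁Q (hcomm u u.2 v v.2)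
    exact hcent _ (hcomm u' u'.2 v v.2) _ hz'
  have hR : ∀ u v v' : Q, β u (v * v') = β u v * β u v' := by
    intro u v v'
    rw [hβ, hβ, hβ, ← sgn_mul K₀ Z₁ hidx (hcomm u u.2 v v.2) (hcomm u u.2 v' v'.2)]
    apply sgn_congr
    -- `[u,vv'] = [u,v] (v [u,v'] v⁻¹)`
    have e : (u : T) * ((v * v' : Q) : T) * (u : T)⁻¹ * ((v * v' : Q) : T)⁻¹ *
        ((u : T) * v * (u : T)⁻¹ * (v : T)⁻¹ * ((u : T) * v' * (u : T)⁻¹ * (v' : T)⁻¹))⁻¹ =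
        ((u : T) * v * (u : T)⁻¹ * (v : T)⁻¹) *
        ((v : T) * ((u : T) * v' * (u : T)⁻¹ * (v' : T)⁻¹) * (v : T)⁻¹ *
          ((u : T) * v' * (u : T)⁻¹ * (v' : T)⁻¹)⁻¹) * ((u : T) * v * (u : T)⁻¹ * (v : T)⁻¹)⁻¹ := by
      simp only [Subgroup.coe_mul]
      group
    rw [e]
    have hz' : ((u : T) * v * (u : T)⁻¹ * (v : T)⁻¹) ∈ Q := hZ₁Q (hcomm u u.2 v v.2)
    exact hK₀n _ hz' _ (hcent' _ (hcomm u u.2 v' v'.2) v v.2)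
  have halt : ∀ u : Q, β u u = 1 := by
    intro u
    rw [hβ, sgn_eq_one_iff]
    have e : (u : T) * u * (u : T)⁻¹ * (u : T)⁻¹ = 1 := by group
    rw [e]
    exact K₀.one_mem
  have hsq : ∀ u v : Q, β u (v ^ 2) = 1 := by
    intro u v
    rw [hβ, sgn_eq_one_iff]
    have : ((v ^ 2 : Q) : T) = (v : T) ^ 2 := by simp
    rw [this]
    exact hcent' _ (hpow v v.2) u u.2
  have hrad : ∀ v : Q, v ∈ Z₁.subgroupOf Q ↔ ∀ u : Q, β u v = 1 := by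
    intro v
    rw [Subgroup.mem_subgroupOf]
    constructor
    · intro hv u
      rw [hβ, sgn_eq_one_iff]
      exact hcent' _ hv u u.2
    · intro hall
      apply hcenter v v.2
      intro u hu
      have := hall ⟨u, hu⟩
      rw [hβ, sgn_eq_one_iff] at this
      have h2 := K₀.inv_mem this
      have e : (u * (v : T) * u⁻¹ * (v : T)⁻¹)⁻¹ = (v : T) * u * (v : T)⁻¹ * u⁻¹ := by group
      rwa [e] at h2
  obtain ⟨j, hj⟩ := Cfsg.Agent.Lib.Helper4.HH.sympl_card (K := ℚ) 2 Nat.prime_two (Nat.card Q) Q β rfl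
    hL hR halt hsq (Z₁.subgroupOf Q) hrad
  exact ⟨j, hj⟩

end X3

end Cfsg.Agent.Lib.Lead.PQN2
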