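import Mathlib
import Cfsg.Agent.Lib.Lead.Qd5

set_option autoImplicit false

universe u v

namespace Cfsg.Agent.Lib.Lead

namespace QdLib

open scoped commutatorElement

section transport

variable {p : ℕ} [Fact p.Prime] {X : Type u} {Y : Type v} [Group X] [Group Y] [Finite X]

/-- `p`-stability in the normalizer form is invariant under isomorphism -/
theorem isNormalizerPStable_of_mulEquiv (e : X ≃* Y) (h : Cfsg.IsNormalizerPStable p X) :
    Cfsg.IsNormalizerPStable p Y := by
  classical
  haveI : Finite Y := Finite.of_equiv X e.toEquiv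
  intro P' hP' g' hg' hq'
  set P : Subgroup X := P'.comap e.toMonoidHom with hP
  set g : X := e.symm g' with hgdef
  have heg : e g = g' := e.apply_symm_apply g'
  have hPmap : P.map e.toMonoidHom = P' :=
    Subgroup.map_comap_eq_self_of_surjective e.surjective P'
  have hPp : IsPGroup p ↥P := hP'.comap_of_injective e.toMonoidHom e.injective
  have hgN : g ∈ Subgroup.normalizer (P : Set X) := by
    have h1 : (Subgroup.normalizer (P' : Set Y)).comap e.toMonoidHom =
        Subgroup.normalizer (P : Set X) :=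
      Subgroup.comap_normalizer_eq_of_surjective P' e.surjective
    rw [← h1, Subgroup.mem_comap]
    change e g ∈ _
    rw [heg]; exact hg'
  have hq : ⁅⁅P, Subgroup.zpowers g⁆, Subgroup.zpowers g⁆ = ⊥ := by
    rw [← Subgroup.map_eq_bot_iff_of_injective _ e.injective (f := e.toMonoidHom),
      Subgroup.map_commutator, Subgroup.map_commutator, hPmap, MonoidHom.map_zpowers]
    change ⁅⁅P', Subgroup.zpowers (e g)⁆, Subgroup.zpowers (e g)⁆ = ⊥
    rw [heg]; exact hq'
  have h1 := h P hPp g hgN hq
  set NX := Subgroup.normalizer (P : Set X) with hNX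
  set CX := (Subgroup.centralizer (P : Set X)).subgroupOf NX with hCX
  set NY := Subgroup.normalizer (P' : Set Y) with hNY
  set CY := (Subgroup.centralizer (P' : Set Y)).subgroupOf NY with hCY
  have hmapN : ∀ x : ↥NX, e (x : X) ∈ NY := by
    intro x
    have h1 : (Subgroup.normalizer (P' : Set Y)).comap e.toMonoidHom =
        Subgroup.normalizer (P : Set X) :=
      Subgroup.comap_normalizer_eq_of_surjective P' e.surjective
    have h2 : (x : X) ∈ Subgroup.normalizer (P : Set X) := x.2
    rw [← h1] at h2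
    exact h2
  let f0 : ↥NX →* ↥NY := (e.toMonoidHom.comp NX.subtype).codRestrict NY hmapN
  let f : ↥NX →* ↥NY ⧸ CY := (QuotientGroup.mk' CY).comp f0
  have hker : CX ≤ f.ker := by
    intro c hc
    rw [hCX, Subgroup.mem_subgroupOf] at hc
    rw [MonoidHom.mem_ker]
    change (QuotientGroup.mk' CY) (f0 c) = 1
    rw [QuotientGroup.mk'_apply, QuotientGroup.eq_one_iff, hCY, Subgroup.mem_subgroupOf]
    intro y hy
    obtain ⟨x, hx, rfl⟩ : y ∈ P.map e.toMonoidHom := by rw [hPmap]; exact hy
    change e x * e (c : X) = e (c : X) * e x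
    rw [← map_mul, ← map_mul, hc x hx]
  let fbar : ↥NX ⧸ CX →* ↥NY ⧸ CY := QuotientGroup.lift CX f hker
  have hf0 : Function.Surjective f0 := by
    rintro ⟨y, hy⟩
    have h1 : (Subgroup.normalizer (P' : Set Y)).comap e.toMonoidHom =
        Subgroup.normalizer (P : Set X) :=
      Subgroup.comap_normalizer_eq_of_surjective P' e.surjective
    have hx : e.symm y ∈ NX := by
      rw [hNX, ← h1, Subgroup.mem_comap]
      change e (e.symm y) ∈ _
      rw [e.apply_symm_apply]; exact hy
    refine ⟨⟨e.symm y, hx⟩, ?_⟩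
    apply Subtype.ext
    exact e.apply_symm_apply y
  have hfbar : Function.Surjective fbar := by
    apply QuotientGroup.lift_surjective_of_surjective
    exact (QuotientGroup.mk'_surjective CY).comp hf0
  have hle : (Cfsg.pCore p (↥NX ⧸ CX)).map fbar ≤ Cfsg.pCore p (↥NY ⧸ CY) := by
    apply Cfsg.Agent.Lib.Helper9.le_pCore
    · exact Subgroup.Normal.map (Cfsg.Agent.Lib.Helper9.pCore_normal' p) fbar hfbar
    · exact (Cfsg.Agent.Lib.Helper9.pCore_isPGroup' p).map fbar
  have h2 : fbar (QuotientGroup.mk ⟨g, hgN⟩) ∈ Cfsg.pCore p (↥NY ⧸ CY) := hle ⟨_, h1, rfl⟩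
  have h3 : fbar (QuotientGroup.mk ⟨g, hgN⟩) = QuotientGroup.mk ⟨g', hg'⟩ := by
    change (QuotientGroup.mk' CY) (f0 ⟨g, hgN⟩) = _
    have h4 : f0 ⟨g, hgN⟩ = ⟨g', hg'⟩ := Subtype.ext heg
    rw [h4]
    rfl
  rw [h3] at h2
  exact h2

end transport

end QdLib

end Cfsg.Agent.Lib.Lead
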