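import Cfsg.Agent.Lib.Lead.HallDirect3
import Cfsg.Agent.Lib.Lead.ZJ1

set_option autoImplicit false

/-!
# Wielandt's `D_π` theorem for a Hall subgroup with a nilpotent direct factor: the theorem
-/

namespace Cfsg.Agent.Lib.Lead.HallDirect

open scoped Pointwise

open Cfsg.Agent.Lib.Lead

universe u

variable {G : Type u} [Group G] {σ τ : Set ℕ} {H Hs Ht : Subgroup G}

theorem mem_conj_smul_iff' (g x : G) (X : Subgroup G) :
    x ∈ MulAut.conj g • X ↔ g⁻¹ * x * g ∈ X := by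
  rw [Subgroup.mem_pointwise_smul_iff_inv_smul_mem, MulAut.smul_def, ← map_inv,
    MulAut.conj_apply, inv_inv]

/-- every `π`-subgroup lies in a conjugate of `H` -/
theorem Setup.le_conj_aux [Finite G] (S : Setup σ τ H Hs Ht) (n : ℕ) :
    ∀ K : Subgroup G, Nat.card K = n → Cfsg.IsPiSubgroup (σ ∪ τ) K →
      ∃ g : G, K ≤ MulAut.conj g • H := by
  induction n using Nat.strong_induction_on with
  | _ n ih =>
  intro K hn hK
  by_cases hσ : ∃ p : ℕ, p ∈ σ ∧ p.Prime ∧ p ∣ Nat.card K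
  swap
  · push Not at hσ
    have hKτ : Cfsg.IsPiSubgroup τ K := by
      intro q hq hd
      rcases hK q hq hd with h | h
      · exact absurd hd (hσ q h hq)
      · exact h
    obtain ⟨g, hg⟩ := S.dtau K hKτ
    refine ⟨g, hg.trans ?_⟩
    apply Subgroup.pointwise_smul_le_pointwise_smul_iff.mpr
    rw [← S.join]; exact le_sup_right
  obtain ⟨p, hpσ, hp, hpK⟩ := hσ
  haveI hpf : Fact p.Prime := ⟨hp⟩
  obtain ⟨P₀, L, hP₀K, hLK, hP₀, hLcop, hcard, hcomm, hKle⟩ := S.decomp hpσ K hK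
  have hLlt : Nat.card L < n := by
    rw [← hn, ← hcard]
    have h1 : 1 < Nat.card P₀ := by
      by_contra hle
      have h2 : Nat.card P₀ = 1 := by
        have : 0 < Nat.card P₀ := Nat.card_pos
        omega
      rw [← hcard, h2, mul_one] at hpK
      have := Nat.Coprime.eq_one_of_dvd hLcop.symm hpK
      exact hp.one_lt.ne' this
    have h3 : 0 < Nat.card L := Nat.card_pos
    nlinarith
  obtain ⟨g, hg⟩ := ih _ hLlt L rfl (IsPiSubgroup.mono hK hLK)
  obtain ⟨A, hAH⟩ := S.exists_sylow_le (p := p) (Or.inl hpσ)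
  -- the Sylow subgroup `g A g⁻¹` centralizes `L`
  have hSC : MulAut.conj g • (A : Subgroup G) ≤ Subgroup.centralizer (L : Set G) := by
    intro s hs
    rw [Subgroup.mem_centralizer_iff]
    intro y hy
    have h1 : g⁻¹ * s * g ∈ (A : Subgroup G) := (mem_conj_smul_iff' g s _).mp hs
    have h2 : g⁻¹ * y * g ∈ H := (mem_conj_smul_iff' g y _).mp (hg hy)
    have h3 : (orderOf (g⁻¹ * y * g)).Coprime p := by
      have e : g⁻¹ * y * g = MulAut.conj g⁻¹ y := by simp [MulAut.conj_apply]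
      rw [e, MulEquiv.orderOf_eq]
      exact Nat.Coprime.coprime_dvd_left (Subgroup.orderOf_dvd_natCard L hy) hLcop
    have h4 := S.commute_p hpσ (hAH h1) h2 (isPGroup_zpowers_of_mem A.2 h1) h3
    have e1 : s = g * (g⁻¹ * s * g) * g⁻¹ := by group
    have e2 : y = g * (g⁻¹ * y * g) * g⁻¹ := by group
    calc y * s = g * ((g⁻¹ * y * g) * (g⁻¹ * s * g)) * g⁻¹ := by group
      _ = g * ((g⁻¹ * s * g) * (g⁻¹ * y * g)) * g⁻¹ := by rw [h4]
      _ = s * y := by group
  have hP₀C : P₀ ≤ Subgroup.centralizer (L : Set G) := by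
    intro x hx
    rw [Subgroup.mem_centralizer_iff]
    intro y hy
    exact (hcomm x hx y hy).symm
  -- Sylow's theorem inside `C_G(L)`
  have hScard : Nat.card (MulAut.conj g • (A : Subgroup G) : Subgroup G) =
      p ^ (Nat.card G).factorization p := by
    rw [card_conj_smul]; exact A.card_eq_multiplicity
  have hfac := SylowNum.factorization_eq_of_le p (Subgroup.centralizer (L : Set G)) _ hSC hScard
  have hS'card : Nat.card ((MulAut.conj g • (A : Subgroup G)).subgroupOf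
      (Subgroup.centralizer (L : Set G))) =
      p ^ (Nat.card (Subgroup.centralizer (L : Set G))).factorization p := by
    rw [card_subgroupOf_of_le hSC, hScard, hfac]
  have hP₀' : IsPGroup p (P₀.subgroupOf (Subgroup.centralizer (L : Set G))) :=
    hP₀.comap_subtype
  obtain ⟨Q, hQ⟩ := hP₀'.exists_le_sylow
  obtain ⟨c, hc⟩ := MulAction.exists_smul_eq (Subgroup.centralizer (L : Set G))
    (Sylow.ofCard _ hS'card) Q
  have hP₀le : P₀ ≤ MulAut.conj (c : G) • (MulAut.conj g • (A : Subgroup G)) := by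
    intro x hx
    have hxC := hP₀C hx
    have h1 : (⟨x, hxC⟩ : Subgroup.centralizer (L : Set G)) ∈ (Q : Subgroup _) :=
      hQ (Subgroup.mem_subgroupOf.mpr hx)
    rw [← hc, Sylow.coe_subgroup_smul, Sylow.coe_ofCard] at h1
    have h2 := (mem_conj_smul_iff' c _ _).mp h1
    rw [Subgroup.mem_subgroupOf] at h2
    rw [mem_conj_smul_iff']
    exact h2
  refine ⟨(c : G) * g, ?_⟩
  rw [map_mul, mul_smul]
  refine hKle.trans (sup_le ?_ ?_)
  · refine hP₀le.trans ?_
    apply Subgroup.pointwise_smul_le_pointwise_smul_iff.mpr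
    exact Subgroup.pointwise_smul_le_pointwise_smul_iff.mpr hAH
  · intro y hy
    rw [mem_conj_smul_iff']
    have h1 : (c : G)⁻¹ * y * (c : G) = y := by
      have := (Subgroup.mem_centralizer_iff.mp c.2) y hy
      rw [mul_assoc, this, ← mul_assoc, inv_mul_cancel, one_mul]
    rw [h1]; exact hg hy

theorem Setup.le_conj [Finite G] (S : Setup σ τ H Hs Ht) (K : Subgroup G)
    (hK : Cfsg.IsPiSubgroup (σ ∪ τ) K) : ∃ g : G, K ≤ MulAut.conj g • H :=
  S.le_conj_aux _ K rfl hK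

/-- a `π`-subgroup lies in a maximal one -/
theorem exists_maximal_ge [Finite G] (π : Set ℕ) (T : Subgroup G) (hT : Cfsg.IsPiSubgroup π T) :
    ∃ M : Subgroup G, T ≤ M ∧ Maximal (Cfsg.IsPiSubgroup π) M := by
  obtain ⟨M, ⟨hM1, hM2⟩, hmax⟩ := ZJ.exists_max_subgroup
    (fun U : Subgroup G => T ≤ U ∧ Cfsg.IsPiSubgroup π U) (fun U => Nat.card U) ⟨T, le_rfl, hT⟩
  refine ⟨M, hM1, hM2, ?_⟩
  intro Y hY hMY
  have h1 := hmax Y ⟨hM1.trans hMY, hY⟩
  exact (Subgroup.eq_of_le_of_card_ge hMY h1).ge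

/-- a Hall `π`-subgroup is a maximal `π`-subgroup -/
theorem maximal_of_hall [Finite G] (π : Set ℕ) (H : Subgroup G) (hH : Cfsg.IsPiHall π H) :
    Maximal (Cfsg.IsPiSubgroup π) H := by
  refine ⟨hH.1, ?_⟩
  intro Y hY hHY
  have h1 : H.relIndex Y ∣ H.index := Subgroup.relIndex_dvd_index_of_le hHY
  have h2 : H.relIndex Y ∣ Nat.card Y := by
    have := (H.subgroupOf Y).card_mul_index
    exact Dvd.intro_left _ this
  have h3 : H.relIndex Y = 1 := by
    by_contra hne
    obtain ⟨q, hq, hqd⟩ := Nat.exists_prime_and_dvd hne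
    exact hH.2 q hq (hY q hq (hqd.trans h2)) (hqd.trans h1)
  exact Subgroup.relIndex_eq_one.mp h3

/-- the theorem -/
theorem dpi_of_nilpotent_direct_factor [Finite G] (σ τ π : Set ℕ) (hπ : π = σ ∪ τ)
    (hd : Disjoint σ τ) (H Hs Ht : Subgroup G) (hH : Cfsg.IsPiHall π H)
    (hs : Cfsg.IsPiSubgroup σ Hs) (ht : Cfsg.IsPiSubgroup τ Ht) (hsn : Group.IsNilpotent Hs)
    (hjoin : Hs ⊔ Ht = H) (hcomm : ∀ a ∈ Hs, ∀ b ∈ Ht, a * b = b * a)
    (hD : Cfsg.IsDPiGroup τ G) : Cfsg.IsDPiGroup π G := by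
  subst hπ
  -- `Ht` is a Hall `τ`-subgroup
  have hHtle : Ht ≤ H := by rw [← hjoin]; exact le_sup_right
  have hinf : Hs ⊓ Ht = ⊥ := by
    apply (Subgroup.disjoint_of_coprime_natCard _).eq_bot
    apply Nat.coprime_of_dvd
    intro k hk h1 h2
    exact (Set.disjoint_left.mp hd (hs k hk h1)) (ht k hk h2)
  have hHtHall : Cfsg.IsPiHall τ Ht := by
    refine ⟨ht, ?_⟩
    intro q hq hqτ hqd
    have h1 : Ht.relIndex H * H.index = Ht.index := Subgroup.relIndex_mul_index hHtle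
    rw [← h1] at hqd
    rcases (Nat.Prime.dvd_mul hq).mp hqd with h | h
    · -- `|H : Ht| = |Hs|`
      have hnorm : Hs ≤ Subgroup.normalizer (Ht : Set G) := by
        intro a ha
        apply Cfsg.Agent.Lib.Helper2.mem_normalizer_of_commute
        intro b hb
        exact hcomm a ha b hb
      have h2 := card_sup_mul_card_inf Hs Ht hnorm
      rw [hinf, Subgroup.card_bot, mul_one, hjoin] at h2
      have h3 := (Ht.subgroupOf H).card_mul_index
      rw [card_subgroupOf_of_le hHtle, h2, mul_comm] at h3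
      have h4 : Ht.relIndex H = Nat.card Hs :=
        Nat.eq_of_mul_eq_mul_right Nat.card_pos h3
      rw [h4] at h
      exact (Set.disjoint_left.mp hd (hs q hq h)) hqτ
    · exact hH.2 q hq (Or.inr hqτ) h
  have hHtmax := maximal_of_hall τ Ht hHtHall
  have hdtau : ∀ T : Subgroup G, Cfsg.IsPiSubgroup τ T → ∃ g : G, T ≤ MulAut.conj g • Ht := by
    intro T hT
    obtain ⟨M, hTM, hM⟩ := exists_maximal_ge τ T hT
    obtain ⟨g, hg⟩ := hD Ht M hHtmax hM
    exact ⟨g, by rw [hg] at hTM; exact hTM⟩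
  have S : Setup σ τ H Hs Ht := ⟨hd, hH, hs, ht, hsn, hjoin, hcomm, hdtau⟩
  intro X Y hX hY
  obtain ⟨g, hg⟩ := S.le_conj X hX.1
  obtain ⟨g', hg'⟩ := S.le_conj Y hY.1
  have hconjπ : ∀ x : G, Cfsg.IsPiSubgroup (σ ∪ τ) (MulAut.conj x • H : Subgroup G) := by
    intro x q hq hqd
    rw [card_conj_smul] at hqd
    exact hH.1 q hq hqd
  have hXeq : X = MulAut.conj g • H := le_antisymm hg (hX.2 (hconjπ g) hg)
  have hYeq : Y = MulAut.conj g' • H := le_antisymm hg' (hY.2 (hconjπ g') hg')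
  refine ⟨g' * g⁻¹, ?_⟩
  change Y = MulAut.conj (g' * g⁻¹) • X
  rw [hXeq, hYeq, ← mul_smul, ← map_mul, inv_mul_cancel_right]

end Cfsg.Agent.Lib.Lead.HallDirect
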