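import Mathlib

set_option autoImplicit false

/-!
S5982 mini-swarm, package PK-PWR: in a finite field `z ^ ((q-1)/r) = 1` forces `z` to be an `r`-th power.
-/

namespace Cfsg.Agent.Lib.Helper4.SimU

section fieldNT
variable {F : Type*} [Field F] [Fintype F]

/-- a generator of the multiplicative group -/
theorem pwr_exists_gen :
    ∃ g : Fˣ, orderOf g = Fintype.card F - 1 ∧ ∀ x : Fˣ, ∃ k : ℕ, g ^ k = x := by
  classical
  obtain ⟨g, hg⟩ := IsCyclic.exists_monoid_generator (α := Fˣ)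
  refine ⟨g, ?_, fun x => ?_⟩
  · have h1 : ∀ x : Fˣ, x ∈ Subgroup.zpowers g := by
      intro x
      obtain ⟨k, hk⟩ := (Submonoid.mem_powers_iff _ _).1 (hg x)
      exact Subgroup.mem_zpowers_iff.2 ⟨(k : ℤ), by rw [zpow_natCast]; exact hk⟩
    rw [orderOf_eq_card_of_forall_mem_zpowers h1, Nat.card_eq_fintype_card, Fintype.card_units]
  · obtain ⟨k, hk⟩ := (Submonoid.mem_powers_iff _ _).1 (hg x)
    exact ⟨k, hk⟩

theorem pwr_card_pos : 0 < Fintype.card F - 1 := by
  have := Fintype.one_lt_card (α := F)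
  omega

/-- an `r`-th power is killed by `(q-1)/r` -/
theorem pwr_pow_div_eq_one (r : ℕ) (hrq : r ∣ Fintype.card F - 1) (b : F) (hb : b ≠ 0) :
    (b ^ r) ^ ((Fintype.card F - 1) / r) = 1 := by
  rw [← pow_mul, Nat.mul_div_cancel' hrq]
  exact FiniteField.pow_card_sub_one_eq_one b hb

/-- PK-PWR.  F^× is cyclic of order q-1 (`IsCyclic Fˣ`, `FiniteField.pow_card_sub_one_eq_one`). -/
theorem exists_pow_eq_of_pow_div_eq_one (r : ℕ) (hr : r.Prime) (hrq : r ∣ Fintype.card F - 1) (z : F)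
    (hz : z ^ ((Fintype.card F - 1) / r) = 1) : ∃ b : F, b ^ r = z := by
  have hq1 := pwr_card_pos (F := F)
  obtain ⟨m, hm⟩ := hrq
  have hm0 : 0 < m := by
    rcases Nat.eq_zero_or_pos m with h | h
    · subst h
      omega
    · exact h
  have hdiv : (Fintype.card F - 1) / r = m := by
    rw [hm]
    exact Nat.mul_div_cancel_left m hr.pos
  rw [hdiv] at hz
  have hz0 : z ≠ 0 := by
    rintro rfl
    rw [zero_pow hm0.ne'] at hz
    exact zero_ne_one hz
  obtain ⟨g, hg, hgen⟩ := pwr_exists_gen (F := F)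
  obtain ⟨k, hk⟩ := hgen (Units.mk0 z hz0)
  have h1 : g ^ (k * m) = 1 := by
    rw [pow_mul, hk]
    ext
    simpa using hz
  have h2 : r * m ∣ k * m := by
    rw [← hm, ← hg]
    exact orderOf_dvd_of_pow_eq_one h1
  have h3 : r ∣ k := Nat.dvd_of_mul_dvd_mul_right hm0 h2
  obtain ⟨c, hc⟩ := h3
  refine ⟨((g ^ c : Fˣ) : F), ?_⟩
  rw [← Units.val_pow_eq_pow_val, ← pow_mul, mul_comm, ← hc, hk]
  rfl

end fieldNT

end Cfsg.Agent.Lib.Helper4.SimU
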