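import Mathlib
import Cfsg.Agent.Lib.Lead.SimU_PWR

set_option autoImplicit false

/-!
S5982 mini-swarm, package PK-ZETA: if `v_r(n) < v_r(q-1)` there are `l` and `ζ` of order `r` with `l ^ n * ζ = 1`.
-/

namespace Cfsg.Agent.Lib.Helper4.SimU

section fieldNT
variable {F : Type*} [Field F] [Fintype F]

/-- PK-ZETA.  v = v_r(n) < s: l = γ^((q-1)/r^(v+1)) (γ a generator) has order r^(v+1), so l^n has order r; ζ = (l^n)⁻¹. -/
theorem exists_scalar_root (r : ℕ) (hr : r.Prime) (hrq : r ∣ Fintype.card F - 1) (n : ℕ) (hn0 : n ≠ 0)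
    (hn : padicValNat r n < padicValNat r (Fintype.card F - 1)) :
    ∃ l ζ : F, ζ ^ r = 1 ∧ ζ ≠ 1 ∧ l ^ n * ζ = 1 := by
  have : Fact r.Prime := ⟨hr⟩
  have hq1 := pwr_card_pos (F := F)
  set v := padicValNat r n with hv
  obtain ⟨g, hg, -⟩ := pwr_exists_gen (F := F)
  -- `q - 1 = r ^ (v + 1) * t`
  have hdvd : r ^ (v + 1) ∣ Fintype.card F - 1 :=
    (padicValNat_dvd_iff_le hq1.ne').2 hn
  obtain ⟨t, ht⟩ := hdvd
  have ht0 : 0 < t := by
    rcases Nat.eq_zero_or_pos t with h | h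
    · subst h
      omega
    · exact h
  -- `r ^ v ∣ n` and not `r ^ (v + 1) ∣ n`
  have hvn : r ^ v ∣ n := pow_padicValNat_dvd
  have hvn' : ¬ r ^ (v + 1) ∣ n := by
    rw [padicValNat_dvd_iff_le hn0]
    omega
  set l : Fˣ := g ^ t with hl
  have h1 : (l ^ n) ^ r = 1 := by
    rw [hl, ← pow_mul, ← pow_mul]
    apply orderOf_dvd_iff_pow_eq_one.1
    rw [hg, ht]
    obtain ⟨c, hc⟩ := hvn
    refine ⟨c, ?_⟩
    rw [hc, pow_succ]
    ring
  have h2 : l ^ n ≠ 1 := by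
    intro h
    rw [hl, ← pow_mul] at h
    have h3 := orderOf_dvd_of_pow_eq_one h
    rw [hg, ht] at h3
    apply hvn'
    have h4 : t * r ^ (v + 1) ∣ t * n := by
      rw [mul_comm t (r ^ (v + 1))]
      exact h3
    exact Nat.dvd_of_mul_dvd_mul_left ht0 h4
  refine ⟨((l : Fˣ) : F), (((l ^ n)⁻¹ : Fˣ) : F), ?_, ?_, ?_⟩
  · rw [← Units.val_pow_eq_pow_val, inv_pow, h1, inv_one, Units.val_one]
  · intro h
    apply h2
    have h3 : ((l ^ n)⁻¹ : Fˣ) = 1 := Units.ext (by rw [h, Units.val_one])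
    rw [inv_eq_one] at h3
    exact h3
  · rw [← Units.val_pow_eq_pow_val, ← Units.val_mul, mul_inv_cancel, Units.val_one]

end fieldNT

end Cfsg.Agent.Lib.Helper4.SimU
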