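import Mathlib
import Cfsg.Agent.Lib.Lead.SimU_PWR

set_option autoImplicit false

/-!
S5982 mini-swarm, package PK-KSC: Kummer scalars.  A non-`r`-th-power `z` with
`((-1)^(r+1) z)^(n/r) = 1` exists when `v_r(q-1) < v_r(n)`, and any non-`r`-th-power `z` with
`((-1)^(r+1) z)^m = 1` forces `v_r(q-1) ≤ v_r(m)`.
-/

namespace Cfsg.Agent.Lib.Helper4.SimU

section fieldNT
variable {F : Type*} [Field F] [Fintype F]

/-- the sign `(-1)^(r+1)` is `1` for odd `r` -/
theorem ksc_sign_odd (r : ℕ) (hr : r.Prime) (hr2 : r ≠ 2) : ((-1 : F)) ^ (r + 1) = 1 := by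
  have hodd : Odd r := hr.odd_of_ne_two hr2
  exact Even.neg_one_pow hodd.add_one

/-- multiplying by the sign preserves being a non-`r`-th-power -/
theorem ksc_not_pow_sign (r : ℕ) (hr : r.Prime) (hneg : r = 2 → ∃ i : F, i ^ 2 = -1) (z : F)
    (hz : ∀ b : F, b ^ r ≠ z) : ∀ b : F, b ^ r ≠ (-1) ^ (r + 1) * z := by
  intro b hb
  by_cases hr2 : r = 2
  · subst hr2
    obtain ⟨i, hi⟩ := hneg rfl
    apply hz (b * i)
    rw [mul_pow, hb, hi]
    ring
  · rw [ksc_sign_odd r hr hr2, one_mul] at hb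
    exact hz b hb

theorem ksc_sign_sq (r : ℕ) (z : F) : (-1 : F) ^ (r + 1) * ((-1) ^ (r + 1) * z) = z := by
  rw [← mul_assoc, ← pow_add, ← two_mul, pow_mul]
  simp

/-- PK-KSC (1).  s = v_r(q-1) < v_r(n): take ω of order r^s (a generator of F^× to the power (q-1)/r^s); ω is not an r-th power and
ω^(n/r) = 1.  r odd: z = ω.  r = 2: z = -ω (still a non-square because -1 is a square), (-z)^(n/2) = ω^(n/2) = 1. -/
theorem exists_kummer_scalar (r : ℕ) (hr : r.Prime) (hrq : r ∣ Fintype.card F - 1)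
    (hneg : r = 2 → ∃ i : F, i ^ 2 = -1) (n : ℕ)
    (hn : padicValNat r (Fintype.card F - 1) < padicValNat r n) :
    ∃ z : F, (∀ b : F, b ^ r ≠ z) ∧ ((-1) ^ (r + 1) * z) ^ (n / r) = 1 := by
  have : Fact r.Prime := ⟨hr⟩
  have hq1 := pwr_card_pos (F := F)
  set s := padicValNat r (Fintype.card F - 1) with hs
  have hn0 : n ≠ 0 := by
    rintro rfl
    simp at hn
  obtain ⟨g, hg, -⟩ := pwr_exists_gen (F := F)
  have hs1 : 1 ≤ s := one_le_padicValNat_of_dvd hq1.ne' hrq
  obtain ⟨t, ht⟩ : r ^ s ∣ Fintype.card F - 1 := pow_padicValNat_dvd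
  have ht0 : 0 < t := by
    rcases Nat.eq_zero_or_pos t with h | h
    · subst h
      omega
    · exact h
  have hrt : ¬ r ∣ t := by
    rintro ⟨c, hc⟩
    have h1 : r ^ (s + 1) ∣ Fintype.card F - 1 := ⟨c, by rw [ht, hc, pow_succ]; ring⟩
    rw [padicValNat_dvd_iff_le hq1.ne'] at h1
    omega
  set ω : Fˣ := g ^ t with hω
  -- `ω` is not an `r`-th power
  have hωnot : ∀ b : F, b ^ r ≠ ((ω : Fˣ) : F) := by
    intro b hb
    have hb0 : b ≠ 0 := by
      rintro rfl
      rw [zero_pow hr.ne_zero] at hb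
      exact (Units.ne_zero ω) hb.symm
    have h1 := pwr_pow_div_eq_one r hrq b hb0
    rw [hb, ← Units.val_pow_eq_pow_val] at h1
    have h2 : ω ^ ((Fintype.card F - 1) / r) = 1 := Units.ext (by rw [h1, Units.val_one])
    rw [hω, ← pow_mul] at h2
    have h3 := orderOf_dvd_of_pow_eq_one h2
    rw [hg] at h3
    -- `(q-1)/r = r^(s-1) * t`
    have h4 : (Fintype.card F - 1) / r = r ^ (s - 1) * t := by
      have : Fintype.card F - 1 = r * (r ^ (s - 1) * t) := by
        rw [ht, ← mul_assoc, ← pow_succ']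
        congr 2
        omega
      rw [this]
      exact Nat.mul_div_cancel_left _ hr.pos
    rw [h4, ht] at h3
    -- `r^s * t ∣ t * (r^(s-1) * t)`
    have h5 : r ^ (s - 1) * t * r ∣ r ^ (s - 1) * t * t := by
      have e1 : r ^ s * t = r ^ (s - 1) * t * r := by
        have : s = (s - 1) + 1 := by omega
        nth_rewrite 1 [this]
        rw [pow_succ]
        ring
      have e2 : t * (r ^ (s - 1) * t) = r ^ (s - 1) * t * t := by ring
      rw [← e1, ← e2]
      exact h3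
    have hpos : 0 < r ^ (s - 1) * t := Nat.mul_pos (Nat.pow_pos hr.pos) ht0
    exact hrt (Nat.dvd_of_mul_dvd_mul_left hpos h5)
  -- `ω ^ (n / r) = 1`
  have hωn : ω ^ (n / r) = 1 := by
    rw [hω, ← pow_mul]
    apply orderOf_dvd_iff_pow_eq_one.1
    rw [hg, ht, mul_comm t]
    apply Nat.mul_dvd_mul_right
    have h1 : r ^ (s + 1) ∣ n := (padicValNat_dvd_iff_le hn0).2 hn
    rw [pow_succ'] at h1
    exact Nat.dvd_div_of_mul_dvd h1
  refine ⟨(-1) ^ (r + 1) * ((ω : Fˣ) : F), ksc_not_pow_sign r hr hneg _ hωnot, ?_⟩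
  rw [ksc_sign_sq, ← Units.val_pow_eq_pow_val, hωn, Units.val_one]

/-- PK-KSC (2).  w = (-1)^(r+1) z is again not an r-th power, so r^s | orderOf w | m. -/
theorem padicVal_le_of_kummer (r : ℕ) (hr : r.Prime) (hrq : r ∣ Fintype.card F - 1)
    (hneg : r = 2 → ∃ i : F, i ^ 2 = -1) (z : F) (hz : ∀ b : F, b ^ r ≠ z) (m : ℕ) (hm0 : m ≠ 0)
    (hm : ((-1) ^ (r + 1) * z) ^ m = 1) : padicValNat r (Fintype.card F - 1) ≤ padicValNat r m := by
  classical
  have : Fact r.Prime := ⟨hr⟩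
  have hq1 := pwr_card_pos (F := F)
  set w : F := (-1) ^ (r + 1) * z with hw
  have hwnot : ∀ b : F, b ^ r ≠ w := ksc_not_pow_sign r hr hneg z hz
  have hw0 : w ≠ 0 := by
    intro h
    exact hwnot 0 (by rw [zero_pow hr.ne_zero, h])
  have hwne : w ^ ((Fintype.card F - 1) / r) ≠ 1 := by
    intro h
    obtain ⟨b, hb⟩ := exists_pow_eq_of_pow_div_eq_one r hr hrq w h
    exact hwnot b hb
  set W : Fˣ := Units.mk0 w hw0 with hW
  set o := orderOf W with ho
  have ho0 : o ≠ 0 := (orderOf_pos W).ne'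
  have hoq : o ∣ Fintype.card F - 1 := by
    rw [← Fintype.card_units]
    exact orderOf_dvd_card
  have hom : o ∣ m := by
    apply orderOf_dvd_of_pow_eq_one
    ext
    simpa [hW] using hm
  have hone : ¬ o ∣ (Fintype.card F - 1) / r := by
    intro h
    apply hwne
    have h1 : W ^ ((Fintype.card F - 1) / r) = 1 := orderOf_dvd_iff_pow_eq_one.1 h
    have h2 := congrArg Units.val h1
    simpa [hW] using h2
  -- `r ^ s ∣ o`
  have hso : r ^ padicValNat r (Fintype.card F - 1) ∣ o := by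
    rw [padicValNat_dvd_iff_le ho0]
    by_contra hlt
    push Not at hlt
    obtain ⟨c, hc⟩ := hoq
    have hc0 : c ≠ 0 := by
      rintro rfl
      omega
    have h1 : padicValNat r (Fintype.card F - 1) = padicValNat r o + padicValNat r c := by
      rw [hc, padicValNat.mul ho0 hc0]
    have h2 : 1 ≤ padicValNat r c := by omega
    obtain ⟨c', hc'⟩ := dvd_of_one_le_padicValNat h2
    apply hone
    refine ⟨c', ?_⟩
    rw [hc, hc']
    have : o * (r * c') = r * (o * c') := by ring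
    rw [this]
    exact Nat.mul_div_cancel_left _ hr.pos
  exact (padicValNat_dvd_iff_le hm0).1 (hso.trans hom)

end fieldNT

end Cfsg.Agent.Lib.Helper4.SimU
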