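import Mathlib

set_option autoImplicit false

namespace Cfsg.Agent.Lib.Lead.Baer

open scoped commutatorElement

section basic
variable {D : Type*} [Group D]

/-- commutators are central -/
def ClassTwo (D : Type*) [Group D] : Prop := ∀ a b g : D, Commute ⁅a, b⁆ g

variable (hc : ClassTwo D)
include hc

theorem comm_mul_left (x y z : D) : ⁅x * y, z⁆ = ⁅x, z⁆ * ⁅y, z⁆ := by
  have h1 : ⁅x * y, z⁆ = x * ⁅y, z⁆ * x⁻¹ * ⁅x, z⁆ := by
    simp only [commutatorElement_def]; group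
  have h2 : x * ⁅y, z⁆ * x⁻¹ = ⁅y, z⁆ := by
    rw [← (hc y z x).eq, mul_inv_cancel_right]
  rw [h1, h2, (hc y z ⁅x, z⁆).eq]

theorem comm_mul_right (x y z : D) : ⁅x, y * z⁆ = ⁅x, y⁆ * ⁅x, z⁆ := by
  have h1 : ⁅x, y * z⁆ = ⁅x, y⁆ * (y * ⁅x, z⁆ * y⁻¹) := by
    simp only [commutatorElement_def]; group
  have h2 : y * ⁅x, z⁆ * y⁻¹ = ⁅x, z⁆ := by
    rw [← (hc x z y).eq, mul_inv_cancel_right]
  rw [h1, h2]

theorem comm_pow_left (x y : D) (n : ℕ) : ⁅x ^ n, y⁆ = ⁅x, y⁆ ^ n := by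
  induction n with
  | zero => simp
  | succ n ih => rw [pow_succ, comm_mul_left hc, ih, pow_succ]

theorem comm_central_right (x : D) {c : D} (h : ∀ g : D, Commute c g) : ⁅x, c⁆ = 1 := by
  rw [commutatorElement_eq_one_iff_mul_comm]
  exact ((h x).eq).symm

theorem comm_central_left (x : D) {c : D} (h : ∀ g : D, Commute c g) : ⁅c, x⁆ = 1 := by
  rw [commutatorElement_eq_one_iff_mul_comm]
  exact (h x).eq

theorem comm_pow_central (a b : D) (n : ℕ) (g : D) : Commute (⁅a, b⁆ ^ n) g :=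
  (hc a b g).pow_left n

end basic

section bmul
variable {D : Type*} [Group D]

/-- the inverse of `2` modulo an odd `p` -/
def half (p : ℕ) : ℕ := (p + 1) / 2

/-- the Baer addition -/
def bmul (p : ℕ) (x y : D) : D := x * y * ⁅y, x⁆ ^ half p

variable {p : ℕ} (hp : Odd p) (hc : ClassTwo D) (hexp : ∀ d : D, d ^ p = 1)

theorem two_mul_half (hp : Odd p) : 2 * half p = p + 1 := by
  obtain ⟨k, hk⟩ := hp
  unfold half
  omega

include hc in
theorem bmul_one (x : D) : bmul p x 1 = x := by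
  unfold bmul
  have : ⁅(1 : D), x⁆ = 1 := by simp [commutatorElement_def]
  rw [this, one_pow, mul_one, mul_one]

include hc in
theorem one_bmul (x : D) : bmul p 1 x = x := by
  unfold bmul
  have : ⁅x, (1 : D)⁆ = 1 := by simp [commutatorElement_def]
  rw [this, one_pow, mul_one, one_mul]

theorem bmul_inv (x : D) : bmul p x x⁻¹ = 1 := by
  unfold bmul
  have : ⁅x⁻¹, x⁆ = 1 := by simp [commutatorElement_def]
  rw [this, one_pow, mul_one, mul_inv_cancel]

theorem bmul_of_commute {x y : D} (h : Commute x y) : bmul p x y = x * y := by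
  unfold bmul
  have : ⁅y, x⁆ = 1 := by
    rw [commutatorElement_eq_one_iff_mul_comm]; exact h.eq.symm
  rw [this, one_pow, mul_one]

include hp hc hexp in
theorem bmul_comm (x y : D) : bmul p x y = bmul p y x := by
  unfold bmul
  have h1 : x * y = y * x * ⁅x, y⁆ := by
    have : x * y = ⁅x, y⁆ * (y * x) := by rw [commutatorElement_def]; group
    rw [this, (hc x y (y * x)).eq]
  have h2 : ⁅y, x⁆ = ⁅x, y⁆⁻¹ := (commutatorElement_inv x y).symm
  rw [h1, h2, inv_pow, mul_assoc]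
  congr 1
  -- ⁅x,y⁆ * (⁅x,y⁆^h)⁻¹ = ⁅x,y⁆^h
  rw [mul_inv_eq_iff_eq_mul, ← pow_add, ← two_mul, two_mul_half hp, pow_succ, hexp, one_mul]

include hc in
theorem bmul_assoc (x y z : D) : bmul p (bmul p x y) z = bmul p x (bmul p y z) := by
  unfold bmul
  have e1 : ⁅z, x * y * ⁅y, x⁆ ^ half p⁆ = ⁅z, x⁆ * ⁅z, y⁆ := by
    rw [comm_mul_right hc, comm_mul_right hc,
      comm_central_right hc z (comm_pow_central hc y x (half p)), mul_one]
  have e2 : ⁅y * z * ⁅z, y⁆ ^ half p, x⁆ = ⁅y, x⁆ * ⁅z, x⁆ := by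
    rw [comm_mul_left hc, comm_mul_left hc,
      comm_central_left hc x (comm_pow_central hc z y (half p)), mul_one]
  rw [e1, e2, (hc z x ⁅z, y⁆).mul_pow, (hc y x ⁅z, x⁆).mul_pow]
  have c1 := comm_pow_central hc y x (half p)
  have c2 := comm_pow_central hc z x (half p)
  have c3 := comm_pow_central hc z y (half p)
  -- move central elements
  calc x * y * ⁅y, x⁆ ^ half p * z * (⁅z, x⁆ ^ half p * ⁅z, y⁆ ^ half p)
      = x * y * (⁅y, x⁆ ^ half p * z) * (⁅z, x⁆ ^ half p * ⁅z, y⁆ ^ half p) := by group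
    _ = x * y * (z * ⁅y, x⁆ ^ half p) * (⁅z, x⁆ ^ half p * ⁅z, y⁆ ^ half p) := by
        rw [(c1 z).eq]
    _ = x * (y * z) * (⁅y, x⁆ ^ half p * (⁅z, x⁆ ^ half p * ⁅z, y⁆ ^ half p)) := by group
    _ = x * (y * z) * (⁅z, y⁆ ^ half p * (⁅y, x⁆ ^ half p * ⁅z, x⁆ ^ half p)) := by
        rw [(c3 (⁅y, x⁆ ^ half p * ⁅z, x⁆ ^ half p)).eq, mul_assoc (⁅y, x⁆ ^ half p)]
    _ = x * (y * z * ⁅z, y⁆ ^ half p) * (⁅y, x⁆ ^ half p * ⁅z, x⁆ ^ half p) := by group

theorem map_bmul {D' : Type*} [Group D'] (φ : D →* D') (x y : D) :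
    φ (bmul p x y) = bmul p (φ x) (φ y) := by
  unfold bmul
  rw [map_mul, map_mul, map_pow, map_commutatorElement]

end bmul

end Cfsg.Agent.Lib.Lead.Baer
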