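import Mathlib
import Cfsg.Agent.Lib.Lead.Baer1

set_option autoImplicit false

namespace Cfsg.Agent.Lib.Lead.Baer

open scoped commutatorElement

/-- the hypotheses under which the Baer sum is an abelian group law -/
structure BaerHyp (D : Type*) [Group D] (p : ℕ) : Prop where
  odd : Odd p
  cls : ClassTwo D
  exp : ∀ d : D, d ^ p = 1

/-- a copy of `D` carrying the Baer sum -/
structure BaerT (D : Type*) (p : ℕ) where
  /-- the underlying element -/
  val : D

namespace BaerT

variable {D : Type*} [Group D] {p : ℕ}

theorem ext' {x y : BaerT D p} (h : x.val = y.val) : x = y := by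
  cases x; cases y; simp_all

theorem bmul_inv' (x : D) : bmul p x⁻¹ x = 1 := by
  unfold bmul
  have : ⁅x, x⁻¹⁆ = 1 := by simp [commutatorElement_def]
  rw [this, one_pow, mul_one, inv_mul_cancel]

instance instAdd : Add (BaerT D p) := ⟨fun x y => ⟨bmul p x.val y.val⟩⟩
instance instZero : Zero (BaerT D p) := ⟨⟨1⟩⟩
instance instNeg : Neg (BaerT D p) := ⟨fun x => ⟨x.val⁻¹⟩⟩

instance instAddGroup [h : Fact (BaerHyp D p)] : AddGroup (BaerT D p) :=
  AddGroup.ofLeftAxioms
    (fun x y z => ext' (bmul_assoc h.out.cls x.val y.val z.val))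
    (fun x => ext' (one_bmul h.out.cls x.val))
    (fun x => ext' (bmul_inv' x.val))

instance instAddCommGroup [h : Fact (BaerHyp D p)] : AddCommGroup (BaerT D p) :=
  { instAddGroup with
    add_comm := fun x y => ext' (bmul_comm h.out.odd h.out.cls h.out.exp x.val y.val) }

variable [h : Fact (BaerHyp D p)]

@[simp] theorem val_add (x y : BaerT D p) : (x + y).val = bmul p x.val y.val := rfl

@[simp] theorem val_zero : (0 : BaerT D p).val = 1 := rfl

@[simp] theorem val_neg (x : BaerT D p) : (-x).val = x.val⁻¹ := rfl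

theorem val_nsmul (n : ℕ) (x : BaerT D p) : (n • x).val = x.val ^ n := by
  induction n with
  | zero => simp
  | succ n ih =>
    rw [succ_nsmul, val_add, ih, pow_succ]
    exact bmul_of_commute ((Commute.refl x.val).pow_left n)

theorem eq_zero_iff (x : BaerT D p) : x = 0 ↔ x.val = 1 :=
  ⟨fun h => by rw [h]; rfl, fun h => ext' h⟩

/-- the equivalence with `D` -/
def equiv : BaerT D p ≃ D where
  toFun := val
  invFun := fun d => ⟨d⟩
  left_inv := fun _ => rfl
  right_inv := fun _ => rfl

instance [Finite D] : Finite (BaerT D p) := Finite.of_equiv D equiv.symm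

theorem card_eq : Nat.card (BaerT D p) = Nat.card D := Nat.card_congr equiv

/-- an automorphism of `D` is additive for the Baer sum -/
def ofAut (φ : MulAut D) : BaerT D p →+ BaerT D p where
  toFun x := ⟨φ x.val⟩
  map_zero' := ext' (map_one φ)
  map_add' x y := ext' (map_bmul φ.toMonoidHom x.val y.val)

@[simp] theorem ofAut_val (φ : MulAut D) (x : BaerT D p) : (ofAut φ x).val = φ x.val := rfl

end BaerT

end Cfsg.Agent.Lib.Lead.Baer
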