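import Mathlib
import Cfsg.Agent.Lib.Lead.Baer2

set_option autoImplicit false

namespace Cfsg.Agent.Lib.Lead.Baer

open scoped commutatorElement

theorem eq_one_of_pow_coprime {D : Type*} [Group D] {x : D} {n p : ℕ} (hn : x ^ n = 1)
    (hp : x ^ p = 1) (h : n.Coprime p) : x = 1 := by
  have h1 := orderOf_dvd_of_pow_eq_one hn
  have h2 := orderOf_dvd_of_pow_eq_one hp
  have h3 : orderOf x ∣ 1 := by
    have := Nat.dvd_gcd h1 h2
    rwa [h] at this
  exact orderOf_eq_one_iff.mp (Nat.dvd_one.mp h3)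

/-- **Baer's trick**: a `p`-group `At` and a `p'`-group `Qt` act on a group `D` of class at most two
and exponent `p` (odd), the action of `At` normalizing that of `Qt`.  If `Qt` acts nontrivially then
some nontrivial element fixed by `At` is moved by `Qt`. -/
theorem exists_fixed_not_fixed {D At Qt : Type*} [Group D] [Finite D] [Group At] [Group Qt]
    [Finite Qt] {p : ℕ} [hpp : Fact p.Prime] (hp : Odd p) (hc : ClassTwo D)
    (hexp : ∀ d : D, d ^ p = 1) (hA : IsPGroup p At) (hQ : (Nat.card Qt).Coprime p)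
    (ρA : At →* MulAut D) (ρQ : Qt →* MulAut D) (τ : At → Qt ≃ Qt)
    (hτ : ∀ a q, ρA a * ρQ q = ρQ (τ a q) * ρA a)
    (hne : ∃ q x, ρQ q x ≠ x) :
    ∃ x : D, x ≠ 1 ∧ (∀ a, ρA a x = x) ∧ ∃ q, ρQ q x ≠ x := by
  classical
  haveI : Fact (BaerHyp D p) := ⟨⟨hp, hc, hexp⟩⟩
  letI : Fintype Qt := Fintype.ofFinite Qt
  let e : BaerT D p →+ BaerT D p := ∑ q : Qt, BaerT.ofAut (ρQ q)
  have he : ∀ x, e x = ∑ q : Qt, BaerT.ofAut (ρQ q) x := fun x => by
    simp [e, AddMonoidHom.finset_sum_apply]
  have h1 : ∀ q0 x, e (BaerT.ofAut (ρQ q0) x) = e x := by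
    intro q0 x
    rw [he, he]
    refine Fintype.sum_equiv (Equiv.mulRight q0) _ _ ?_
    intro q
    apply BaerT.ext'
    simp [map_mul]
  have h2 : ∀ q0 x, BaerT.ofAut (ρQ q0) (e x) = e x := by
    intro q0 x
    rw [he, map_sum]
    refine Fintype.sum_equiv (Equiv.mulLeft q0) _ _ ?_
    intro q
    apply BaerT.ext'
    simp [map_mul]
  have h3 : ∀ a x, BaerT.ofAut (ρA a) (e x) = e (BaerT.ofAut (ρA a) x) := by
    intro a x
    rw [he, he, map_sum]
    refine Fintype.sum_equiv (τ a) _ _ ?_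
    intro q
    apply BaerT.ext'
    simp only [BaerT.ofAut_val]
    have := congrArg (fun f : MulAut D => f x.val) (hτ a q)
    simpa [MulAut.mul_apply] using this
  have h4 : ∀ x, (∀ q, BaerT.ofAut (ρQ q) x = x) → e x = Nat.card Qt • x := by
    intro x hx
    rw [he, Finset.sum_congr rfl (fun q _ => hx q), Finset.sum_const, Finset.card_univ,
      Nat.card_eq_fintype_card]
  let T : AddSubgroup (BaerT D p) := e.ker
  have h5 : ∀ x ∈ T, (∀ q, BaerT.ofAut (ρQ q) x = x) → x = 0 := by
    intro x hxT hx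
    have h0 : Nat.card Qt • x = 0 := by
      rw [← h4 x hx]; exact hxT
    rw [BaerT.eq_zero_iff] at h0 ⊢
    rw [BaerT.val_nsmul] at h0
    exact eq_one_of_pow_coprime h0 (hexp _) hQ
  have h6 : T ≠ ⊥ := by
    intro hT
    have hinj : Function.Injective e := (AddMonoidHom.ker_eq_bot_iff e).mp hT
    obtain ⟨q, x, hqx⟩ := hne
    apply hqx
    have := hinj (h1 q ⟨x⟩)
    exact congrArg BaerT.val this
  have hDp : IsPGroup p D := fun d => ⟨1, by simpa using hexp d⟩
  have hpT : p ∣ Nat.card T := by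
    obtain ⟨n, hn⟩ := IsPGroup.iff_card.mp hDp
    have hdvd : Nat.card T ∣ p ^ n := by
      rw [← hn, ← BaerT.card_eq (D := D) (p := p)]
      exact AddSubgroup.card_addSubgroup_dvd_card T
    obtain ⟨k, -, hk⟩ := (Nat.dvd_prime_pow hpp.out).mp hdvd
    rcases Nat.eq_zero_or_pos k with h0 | h0
    · exfalso
      apply h6
      rw [h0, pow_zero] at hk
      exact AddSubgroup.card_eq_one.mp hk
    · rw [hk]; exact dvd_pow_self p (Nat.pos_iff_ne_zero.mp h0)
  letI : MulAction At T :=
    { smul := fun a x => ⟨BaerT.ofAut (ρA a) x.1, by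
        have hx : e x.1 = 0 := x.2
        show e _ = 0
        rw [← h3, hx, map_zero]⟩
      one_smul := fun x => by
        apply Subtype.ext
        apply BaerT.ext'
        show (ρA 1) x.1.val = x.1.val
        rw [map_one]; rfl
      mul_smul := fun a b x => by
        apply Subtype.ext
        apply BaerT.ext'
        show (ρA (a * b)) x.1.val = (ρA a) ((ρA b) x.1.val)
        rw [map_mul]; rfl }
  have hsmul : ∀ (a : At) (x : T), (a • x).1.val = ρA a x.1.val := fun _ _ => rfl
  have h0fix : (0 : T) ∈ MulAction.fixedPoints At T := by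
    intro a
    apply Subtype.ext
    apply BaerT.ext'
    rw [hsmul]
    show ρA a 1 = 1
    exact map_one _
  obtain ⟨b, hbfix, hb0⟩ := hA.exists_fixed_point_of_prime_dvd_card_of_fixed_point T hpT h0fix
  refine ⟨b.1.val, ?_, ?_, ?_⟩
  · intro h
    apply hb0
    apply Subtype.ext
    exact ((BaerT.eq_zero_iff b.1).mpr h).symm
  · intro a
    have := hbfix a
    rw [← hsmul, this]
  · by_contra hcon
    push Not at hcon
    apply hb0
    apply Subtype.ext
    symm
    apply h5 b.1 b.2
    intro q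
    apply BaerT.ext'
    exact hcon q

end Cfsg.Agent.Lib.Lead.Baer
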