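import Mathlib
import Cfsg.Agent.Lib.Lead.OmegaAut2
import Cfsg.Agent.Lib.Lead.ClassTwo

set_option autoImplicit false

namespace Cfsg.Agent.Lib.Lead.SigCrit

open scoped commutatorElement
open Cfsg.Agent.Lib.Lead

universe u

/-- In a normal `p`-subgroup `R` (`p` odd) there is a subgroup `E`, normal in `G`, of exponent `p` and class
at most two, such that every `p'`-element centralizing `E` centralizes `R`. -/
theorem exists_crit_omega {G : Type u} [Group G] [Finite G] {p : ℕ} [hpp : Fact p.Prime]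
    (hp2 : p ≠ 2) (R : Subgroup G) [hRn : R.Normal] (hR : IsPGroup p R) :
    ∃ E : Subgroup G, E.Normal ∧ E ≤ R ∧ (∀ x ∈ E, x ^ p = 1) ∧
      (∀ a ∈ E, ∀ b ∈ E, ∀ c ∈ E, ⁅a, b⁆ * c = c * ⁅a, b⁆) ∧
      ∀ q : G, (∃ m : ℕ, m.Coprime p ∧ q ^ m = 1) → (∀ x ∈ E, q * x * q⁻¹ = x) →
        ∀ r ∈ R, q * r * q⁻¹ = r := by
  classical
  obtain ⟨H, hHc, -, hH2, hH3⟩ := exists_critical (P := ↥R) hR
  haveI := hHc
  set H' : Subgroup G := H.map R.subtype with hH'
  have hH'n : H'.Normal := ConjAct.normal_of_characteristic_of_normal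
  have hH'R : H' ≤ R := Subgroup.map_subtype_le H
  have hH'p : IsPGroup p H' := hR.to_le hH'R
  have hcls : ∀ a ∈ H', ∀ b ∈ H', ∀ c ∈ H', ⁅a, b⁆ * c = c * ⁅a, b⁆ := by
    rintro _ ⟨a, ha, rfl⟩ _ ⟨b, hb, rfl⟩ _ ⟨c, hc, rfl⟩
    have h1 : ⁅a, b⁆ ∈ H ⊓ Subgroup.centralizer (H : Set ↥R) :=
      hH2 (Subgroup.commutator_mem_commutator ha (Subgroup.mem_top b))
    have h2 := Subgroup.mem_centralizer_iff.mp h1.2 c hc
    have h3 := congrArg R.subtype h2
    simp only [map_mul, map_commutatorElement] at h3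
    exact h3.symm
  have hcen : ∀ a b : ↥H', ⁅a, b⁆ ∈ Subgroup.center ↥H' := by
    intro a b
    rw [Subgroup.mem_center_iff]
    intro c
    apply Subtype.ext
    have := hcls a.1 a.2 b.1 b.2 c.1 c.2
    have e : ((⁅a, b⁆ : ↥H') : G) = ⁅(a : G), (b : G)⁆ := map_commutatorElement H'.subtype a b
    rw [Subgroup.coe_mul, Subgroup.coe_mul, e]
    exact this.symm
  let E : Subgroup G :=
    { carrier := {x | x ∈ H' ∧ x ^ p = 1}
      one_mem' := ⟨H'.one_mem, one_pow _⟩
      mul_mem' := by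
        rintro x y ⟨hx, hxp⟩ ⟨hy, hyp⟩
        refine ⟨H'.mul_mem hx hy, ?_⟩
        have := mul_pow_eq_one_of_class_two hp2 hcen ⟨x, hx⟩ ⟨y, hy⟩ (Subtype.ext hxp)
          (Subtype.ext hyp)
        have h2 := congrArg Subtype.val this
        simpa using h2
      inv_mem' := by
        rintro x ⟨hx, hxp⟩
        exact ⟨H'.inv_mem hx, by rw [inv_pow, hxp, inv_one]⟩ }
  have hEmem : ∀ x, x ∈ E ↔ x ∈ H' ∧ x ^ p = 1 := fun x => Iff.rfl
  refine ⟨E, ?_, ?_, ?_, ?_, ?_⟩
  · constructor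
    intro x hx g
    rw [hEmem] at hx ⊢
    refine ⟨hH'n.conj_mem x hx.1 g, ?_⟩
    rw [conj_pow, hx.2, mul_one, mul_inv_cancel]
  · intro x hx
    exact hH'R hx.1
  · intro x hx
    exact hx.2
  · intro a ha b hb c hc
    exact hcls a ha.1 b hb.1 c hc.1
  · rintro q ⟨m, hm, hqm⟩ hfix
    -- trivial on H'
    have hH'fix : ∀ x : ↥H', MulAut.conjNormal q x = x := by
      have ham : (MulAut.conjNormal q : MulAut ↥H') ^ m = 1 := by
        rw [← map_pow, hqm, map_one]
      apply omegaAut_all hp2 (Nat.card ↥H') ↥H' rfl hH'p (MulAut.conjNormal q) m ham hm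
      intro x hx
      apply Subtype.ext
      rw [MulAut.conjNormal_apply]
      apply hfix
      exact ⟨x.2, by simpa using congrArg Subtype.val hx⟩
    have hRfix : ∀ g : ↥R, MulAut.conjNormal q g = g := by
      have ham : (MulAut.conjNormal q : MulAut ↥R) ^ m = 1 := by
        rw [← map_pow, hqm, map_one]
      apply aut_eq_one_of_trivial_on_self_centralizing hR H hH3 (MulAut.conjNormal q) m ham hm
      intro x hx
      apply Subtype.ext
      rw [MulAut.conjNormal_apply]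
      have hxH' : (x : G) ∈ H' := ⟨x, hx, rfl⟩
      have := congrArg Subtype.val (hH'fix ⟨x, hxH'⟩)
      rw [MulAut.conjNormal_apply] at this
      exact this
    intro r hr
    have := congrArg Subtype.val (hRfix ⟨r, hr⟩)
    rw [MulAut.conjNormal_apply] at this
    exact this

end Cfsg.Agent.Lib.Lead.SigCrit
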