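import Mathlib
import Cfsg.Agent.Lib.Lead.SigCrit1
import Cfsg.Agent.Lib.Lead.Baer3

set_option autoImplicit false

namespace Cfsg.Agent.Lib.Lead.SigCrit

open scoped commutatorElement
open Cfsg.Agent.Lib.Lead

universe u

/-- `R` a normal `p`-subgroup (`p` odd), `A` a `p`-subgroup containing every element of `R` of order
dividing `p` which it centralizes.  Then every `p'`-subgroup normalized by `A` centralizes `R`. -/
theorem le_centralizer_of_omega_fixed {G : Type u} [Group G] [Finite G] {p : ℕ}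
    [hpp : Fact p.Prime] (hp2 : p ≠ 2) (R : Subgroup G) [hRn : R.Normal] (hR : IsPGroup p R)
    (A Q : Subgroup G) (hA : IsPGroup p A) (hQ : (Nat.card Q).Coprime p)
    (hAQ : A ≤ Subgroup.normalizer (Q : Set G))
    (h : ∀ x ∈ R, x ^ p = 1 → (∀ a ∈ A, a * x = x * a) → x ∈ A) :
    Q ≤ Subgroup.centralizer (R : Set G) := by
  classical
  obtain ⟨E, hEn, hER, hEexp, hEcls, hEq⟩ := exists_crit_omega hp2 R hR
  haveI := hEn
  by_contra hcon
  have hQpow : ∀ q ∈ Q, q ^ Nat.card Q = 1 := by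
    intro q hq
    have h1 := pow_card_eq_one' (G := ↥Q) (x := ⟨q, hq⟩)
    have h2 := congrArg Subtype.val h1
    simpa only [Subgroup.coe_pow, Subgroup.coe_one] using h2
  have hne : ∃ (q : ↥Q) (x : ↥E), (MulAut.conjNormal (q : G) : MulAut ↥E) x ≠ x := by
    by_contra hall
    push Not at hall
    apply hcon
    intro q hq
    rw [Subgroup.mem_centralizer_iff]
    intro r hr
    have h1 : q * r * q⁻¹ = r := by
      apply hEq q ⟨Nat.card Q, hQ, hQpow q hq⟩ _ r hr
      intro x hx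
      have := congrArg Subtype.val (hall ⟨q, hq⟩ ⟨x, hx⟩)
      rw [MulAut.conjNormal_apply] at this
      exact this
    calc r * q = (q * r * q⁻¹) * q := by rw [h1]
      _ = q * r := by group
  have hp : Odd p := hpp.out.odd_of_ne_two hp2
  have hc : Baer.ClassTwo ↥E := by
    intro a b g
    show ⁅a, b⁆ * g = g * ⁅a, b⁆
    apply Subtype.ext
    have e : ((⁅a, b⁆ : ↥E) : G) = ⁅(a : G), (b : G)⁆ := map_commutatorElement E.subtype a b
    rw [Subgroup.coe_mul, Subgroup.coe_mul, e]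
    exact hEcls a.1 a.2 b.1 b.2 g.1 g.2
  have hexp : ∀ d : ↥E, d ^ p = 1 := fun d => Subtype.ext (by simpa using hEexp d.1 d.2)
  let ρ : G →* MulAut ↥E := MulAut.conjNormal
  let τ : ↥A → ↥Q ≃ ↥Q := fun a =>
    { toFun := fun q => ⟨a * q * a⁻¹, ((Subgroup.mem_normalizer_iff.mp (hAQ a.2)) q).mp q.2⟩
      invFun := fun q => ⟨a⁻¹ * q * a, ((Subgroup.mem_normalizer_iff''.mp (hAQ a.2)) q).mp q.2⟩
      left_inv := fun q => Subtype.ext (by
        show (a : G)⁻¹ * ((a : G) * q * (a : G)⁻¹) * a = q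
        group)
      right_inv := fun q => Subtype.ext (by
        show (a : G) * ((a : G)⁻¹ * q * (a : G)) * (a : G)⁻¹ = q
        group) }
  have hτ : ∀ (a : ↥A) (q : ↥Q), (ρ.comp A.subtype) a * (ρ.comp Q.subtype) q =
      (ρ.comp Q.subtype) (τ a q) * (ρ.comp A.subtype) a := by
    intro a q
    simp only [MonoidHom.comp_apply, Subgroup.coe_subtype]
    rw [← map_mul, ← map_mul]
    congr 1
    show (a : G) * q = a * q * (a : G)⁻¹ * a
    group
  obtain ⟨x, hx1, hxA, q, hqx⟩ := Baer.exists_fixed_not_fixed hp hc hexp hA hQ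
    (ρ.comp A.subtype) (ρ.comp Q.subtype) τ hτ hne
  have hxR : (x : G) ∈ R := hER x.2
  have hxcomm : ∀ a ∈ A, a * (x : G) = x * a := by
    intro a ha
    have := congrArg Subtype.val (hxA ⟨a, ha⟩)
    simp only [MonoidHom.comp_apply, Subgroup.coe_subtype, ρ, MulAut.conjNormal_apply] at this
    calc a * (x : G) = (a * x * a⁻¹) * a := by group
      _ = x * a := by rw [this]
  have hxAmem : (x : G) ∈ A := h x hxR (hEexp x x.2) hxcomm
  apply hqx
  apply Subtype.ext
  simp only [MonoidHom.comp_apply, Subgroup.coe_subtype, ρ, MulAut.conjNormal_apply]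
  -- c = q x q⁻¹ x⁻¹ ∈ Q ∩ R
  set c : G := (q : G) * (x : G) * (q : G)⁻¹ * (x : G)⁻¹ with hc'
  have hcQ : c ∈ Q := by
    have h1 : (x : G) * (q : G)⁻¹ * (x : G)⁻¹ ∈ Q :=
      ((Subgroup.mem_normalizer_iff.mp (hAQ hxAmem)) _).mp (Q.inv_mem q.2)
    have : c = (q : G) * ((x : G) * (q : G)⁻¹ * (x : G)⁻¹) := by rw [hc']; group
    rw [this]
    exact Q.mul_mem q.2 h1
  have hcR : c ∈ R := R.mul_mem (hRn.conj_mem _ hxR _) (R.inv_mem hxR)
  have hc1 : c = 1 := by
    obtain ⟨k, hk⟩ := hR ⟨c, hcR⟩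
    have hk' : c ^ p ^ k = 1 := by simpa using congrArg Subtype.val hk
    exact Baer.eq_one_of_pow_coprime (hQpow c hcQ) hk' (Nat.Coprime.pow_right k hQ)
  calc (q : G) * x * (q : G)⁻¹ = c * x := by rw [hc']; group
    _ = x := by rw [hc1, one_mul]

end Cfsg.Agent.Lib.Lead.SigCrit
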