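import Mathlib
import Cfsg.Agent.Lib.Lead.SigCrit2
import Cfsg.Agent.Lib.Lead.Core
import Cfsg.Agent.Lib.Helper2.PConstrained
import Cfsg.Agent.Lib.Helper6.PPrimeCore

set_option autoImplicit false

namespace Cfsg.Agent.Lib.Lead.SigCrit

open scoped commutatorElement
open Cfsg.Agent.Lib.Lead

universe u

/-- lifting elements of order `p` centralizing the image of `A` through a normal `p'`-subgroup -/
theorem lift_omega {X : Type u} [Group X] [Finite X] {p : ℕ} [hpp : Fact p.Prime] (N : Subgroup X)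
    [hNn : N.Normal] (hN : (Nat.card N).Coprime p) (A : Subgroup X) (hA : IsPGroup p A)
    (hΩ : ∀ x ∈ Subgroup.centralizer (A : Set X), orderOf x = p → x ∈ A)
    (r : X ⧸ N) (hr : r ^ p = 1)
    (hrA : ∀ a ∈ A, (QuotientGroup.mk' N a) * r = r * (QuotientGroup.mk' N a)) :
    r ∈ A.map (QuotientGroup.mk' N) := by
  classical
  set π := QuotientGroup.mk' N with hπ
  obtain ⟨x₀, hx₀⟩ := QuotientGroup.mk'_surjective N r
  let F := {y : X // π y = r}
  -- the fibre has as many elements as `N`
  have hFN : Nat.card F = Nat.card N := by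
    apply Nat.card_congr
    refine
      { toFun := fun y => ⟨x₀⁻¹ * y.1, ?_⟩
        invFun := fun n => ⟨x₀ * n.1, ?_⟩
        left_inv := fun y => Subtype.ext (by simp)
        right_inv := fun n => Subtype.ext (by simp) }
    · rw [← QuotientGroup.eq_one_iff, ← QuotientGroup.mk'_apply, ← hπ, map_mul, map_inv, hx₀, y.2,
        inv_mul_cancel]
    · show π (x₀ * n.1) = r
      rw [map_mul, hx₀]
      have : π n.1 = 1 := by
        rw [hπ, QuotientGroup.mk'_apply, QuotientGroup.eq_one_iff]; exact n.2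
      rw [this, mul_one]
  haveI : Finite F := inferInstance
  letI : MulAction ↥A F :=
    { smul := fun a y => ⟨a * y.1 * (a : X)⁻¹, by
        show π (a * y.1 * (a : X)⁻¹) = r
        rw [map_mul, map_mul, map_inv, y.2, hrA a a.2, mul_inv_cancel_right]⟩
      one_smul := fun y => Subtype.ext (by
        show ((1 : ↥A) : X) * y.1 * ((1 : ↥A) : X)⁻¹ = y.1
        simp)
      mul_smul := fun a b y => Subtype.ext (by
        show ((a * b : ↥A) : X) * y.1 * ((a * b : ↥A) : X)⁻¹ = a * (b * y.1 * (b : X)⁻¹) * (a : X)⁻¹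
        rw [Subgroup.coe_mul]; group) }
  have hsmul : ∀ (a : ↥A) (y : F), (a • y).1 = a * y.1 * (a : X)⁻¹ := fun _ _ => rfl
  have hnd : ¬ p ∣ Nat.card F := by
    rw [hFN]
    exact (Nat.Prime.coprime_iff_not_dvd hpp.out).mp hN.symm
  obtain ⟨y, hy⟩ := hA.nonempty_fixed_point_of_prime_not_dvd_card F hnd
  have hyC : y.1 ∈ Subgroup.centralizer (A : Set X) := by
    rw [Subgroup.mem_centralizer_iff]
    intro a ha
    have h1 := congrArg Subtype.val (hy ⟨a, ha⟩)
    rw [hsmul] at h1
    calc a * y.1 = (a * y.1 * a⁻¹) * a := by group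
      _ = y.1 * a := by rw [h1]
  -- the `p`-part of `y`
  have ho : orderOf y.1 ≠ 0 := (orderOf_pos y.1).ne'
  obtain ⟨s, m, hm, hsm⟩ := Nat.exists_eq_pow_mul_and_not_dvd ho p hpp.out.ne_one
  have hmcop : Nat.Coprime m p := ((Nat.Prime.coprime_iff_not_dvd hpp.out).mpr hm).symm
  obtain ⟨m', -, hm'⟩ := Nat.exists_mul_mod_eq_one_of_coprime hmcop hpp.out.one_lt
  set k := m * m' with hk
  set u := y.1 ^ k with hu
  have huC : u ∈ Subgroup.centralizer (A : Set X) := Subgroup.pow_mem _ hyC k
  have hπu : π u = r := by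
    rw [hu, map_pow, y.2]
    have : k = p * (k / p) + 1 := by
      have := Nat.div_add_mod k p
      rw [hm'] at this
      exact this.symm
    rw [this, pow_succ, pow_mul, hr, one_pow, one_mul]
  have hups : u ^ p ^ s = 1 := by
    rw [hu, ← pow_mul]
    have : k * p ^ s = orderOf y.1 * m' := by rw [hk, hsm]; ring
    rw [this, pow_mul, pow_orderOf_eq_one, one_pow]
  have hupN : u ^ p ∈ N := by
    rw [← QuotientGroup.eq_one_iff, ← QuotientGroup.mk'_apply, ← hπ, map_pow, hπu, hr]
  have hup : u ^ p = 1 := by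
    have h1 : (u ^ p) ^ Nat.card N = 1 := by
      have h2 := pow_card_eq_one' (G := ↥N) (x := ⟨u ^ p, hupN⟩)
      have h3 := congrArg Subtype.val h2
      simpa only [Subgroup.coe_pow, Subgroup.coe_one] using h3
    have h4 : (u ^ p) ^ p ^ s = 1 := by
      rw [← pow_mul, mul_comm, pow_mul, hups, one_pow]
    exact Baer.eq_one_of_pow_coprime h1 h4 (Nat.Coprime.pow_right s hN)
  have hord : orderOf u ∣ p := orderOf_dvd_of_pow_eq_one hup
  rcases (Nat.dvd_prime hpp.out).mp hord with h1 | h1
  · have : u = 1 := orderOf_eq_one_iff.mp h1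
    rw [← hπu, this, map_one]
    exact Subgroup.one_mem _
  · exact ⟨u, hΩ u huC h1, hπu⟩

end Cfsg.Agent.Lib.Lead.SigCrit
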