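import Mathlib
import Cfsg.Agent.Lib.Lead.SigCrit3

set_option autoImplicit false

namespace Cfsg.Agent.Lib.Lead.SigCrit

open scoped commutatorElement
open Cfsg.Agent.Lib.Lead

universe u

/-- **Theorem** (signalizers in `p`-constrained groups): `X` `p`-constrained, `p` odd, `A` a `p`-subgroup
containing every element of order `p` of its centralizer.  Every `p'`-subgroup normalized by `A` lies in
`O_{p'}(X)`. -/
theorem signalizer_le_pPrimeCore {X : Type u} [Group X] [Finite X] (p : ℕ) [hpp : Fact p.Prime]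
    (hp : p ≠ 2) (hX : Cfsg.IsPConstrained p X) (A : Subgroup X) (hAp : IsPGroup p ↥A)
    (hΩ : ∀ x ∈ Subgroup.centralizer (A : Set X), orderOf x = p → x ∈ A) (Q : Subgroup X)
    (hQ : ¬ p ∣ Nat.card ↥Q) (hAQ : A ≤ Subgroup.normalizer (Q : Set X)) :
    Q ≤ Cfsg.pPrimeCore p X := by
  classical
  set N := Cfsg.pPrimeCore p X with hNdef
  set π := QuotientGroup.mk' N with hπ
  have hN : (Nat.card N).Coprime p := Cfsg.Agent.Lib.Helper6.pPrimeCore_coprime p
  haveI : (Cfsg.pCore p (X ⧸ N)).Normal := pCore_normal p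
  have hR : IsPGroup p (Cfsg.pCore p (X ⧸ N)) := pCore_isPGroup p
  have hcons := (Cfsg.Agent.Lib.Helper2.PConstrained.isPConstrained_iff_quot).mp hX
  have hQcop : (Nat.card Q).Coprime p := ((Nat.Prime.coprime_iff_not_dvd hpp.out).mpr hQ).symm
  have hQ' : (Nat.card (Q.map π)).Coprime p :=
    Nat.Coprime.coprime_dvd_left (Subgroup.card_map_dvd Q π) hQcop
  have hAQ' : A.map π ≤ Subgroup.normalizer ((Q.map π : Subgroup (X ⧸ N)) : Set (X ⧸ N)) :=
    (Subgroup.map_mono hAQ).trans (Subgroup.le_normalizer_map π)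
  have key : Q.map π ≤ Subgroup.centralizer ((Cfsg.pCore p (X ⧸ N) : Subgroup (X ⧸ N)) : Set (X ⧸ N)) := by
    apply le_centralizer_of_omega_fixed hp (Cfsg.pCore p (X ⧸ N)) hR (A.map π) (Q.map π)
      (hAp.map π) hQ' hAQ'
    intro r _ hrp hrA
    apply lift_omega N hN A hAp hΩ r hrp
    intro a ha
    exact hrA (π a) ⟨a, ha, rfl⟩
  have h1 : Q.map π ≤ Cfsg.pCore p (X ⧸ N) := key.trans hcons
  intro q hq
  have h2 : π q ∈ Cfsg.pCore p (X ⧸ N) := h1 ⟨q, hq, rfl⟩
  obtain ⟨k, hk⟩ := hR ⟨π q, h2⟩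
  have hk' : (π q) ^ p ^ k = 1 := by
    have := congrArg Subtype.val hk
    simpa only [Subgroup.coe_pow, Subgroup.coe_one] using this
  have h3 : (π q) ^ Nat.card Q = 1 := by
    have h4 := pow_card_eq_one' (G := ↥Q) (x := ⟨q, hq⟩)
    have h5 : q ^ Nat.card Q = 1 := by
      have := congrArg Subtype.val h4
      simpa only [Subgroup.coe_pow, Subgroup.coe_one] using this
    rw [← map_pow, h5, map_one]
  have h6 : π q = 1 := Baer.eq_one_of_pow_coprime h3 hk' (Nat.Coprime.pow_right k hQcop)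
  rw [hπ, QuotientGroup.mk'_apply, QuotientGroup.eq_one_iff] at h6
  exact h6

end Cfsg.Agent.Lib.Lead.SigCrit
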