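import Mathlib
import Cfsg.Agent.Lib.Lead.Thom1

set_option autoImplicit false

/-!
Thompson's normal `p`-complement theorem: minimal counterexamples, first steps.
-/

namespace Cfsg.Agent.Lib.Lead

namespace Thom

open GT
open scoped Pointwise

universe u

section

variable {p : ℕ} [hpf : Fact p.Prime] {J : ∀ (X : Type u) [Group X], Subgroup X → Subgroup X}
  {C : ∀ (X : Type u) [Group X], Prop}

/-- the statement proved by induction -/
def THolds (p : ℕ) (J : ∀ (X : Type u) [Group X], Subgroup X → Subgroup X)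
    (C : ∀ (X : Type u) [Group X], Prop) (Y : Type u) [Group Y] : Prop :=
  C Y → ∀ T : Sylow p Y, THyp p J Y (T : Subgroup Y) → PNilp p Y

/-- a minimal counterexample -/
structure TMin (p : ℕ) (J : ∀ (X : Type u) [Group X], Subgroup X → Subgroup X)
    (C : ∀ (X : Type u) [Group X], Prop) (X : Type u) [Group X] : Prop where
  mem : C X
  not_nilp : ¬ PNilp p X
  smaller : ∀ (Y : Type u) [Group Y] [Finite Y], Nat.card Y < Nat.card X → THolds p J C Y

/-- the hypotheses hold for every Sylow subgroup -/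
theorem THyp.over (hJ : IsJFunctor p J) {X : Type u} [Group X] [Finite X] (T : Sylow p X)
    (h : THyp p J X (T : Subgroup X)) (T₁ : Sylow p X) : THyp p J X (T₁ : Subgroup X) := by
  obtain ⟨x, hx⟩ := MulAction.exists_smul_eq X T T₁
  have hT₁ : (T₁ : Subgroup X) = (T : Subgroup X).map (MulAut.conj x).toMonoidHom := by
    rw [← hx, Sylow.coe_subgroup_smul]; rfl
  rw [hT₁]
  exact THyp.equiv hJ (MulAut.conj x) _ T.isPGroup' h

theorem TMin.pnilp_of_ge_sylow (hJ : IsJFunctor p J)
    (hsub : ∀ (X : Type u) [Group X] [Finite X], C X → ∀ M : Subgroup X, C M)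
    {X : Type u} [Group X] [Finite X] (hmc : TMin p J C X)
    (T : Sylow p X) (hT : THyp p J X (T : Subgroup X)) (M : Subgroup X)
    (hTM : (T : Subgroup X) ≤ M) (hM : M ≠ ⊤) : PNilp p M := by
  have hcard : Nat.card M < Nat.card X := by
    have := ZJ.card_lt_of_lt (lt_top_iff_ne_top.mpr hM)
    rwa [Subgroup.card_top] at this
  apply hmc.smaller M hcard (hsub X hmc.mem M) (T.subtype hTM)
  rw [Sylow.coe_subtype]
  exact THyp.restrict hJ _ T.isPGroup' hT M hTM

/-- the maximal obstruction is normal -/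
theorem TMin.normalizer_eq_top (hJ : IsJFunctor p J)
    (hsub : ∀ (X : Type u) [Group X] [Finite X], C X → ∀ M : Subgroup X, C M)
    {X : Type u} [Group X] [Finite X] (hmc : TMin p J C X)
    (T : Sylow p X) (hT : THyp p J X (T : Subgroup X))
    (H : Subgroup X) (hH : MaxLocal p H) : Subgroup.normalizer (H : Set X) = ⊤ := by
  by_contra hNtop
  set N := Subgroup.normalizer (H : Set X) with hNdef
  obtain ⟨R₀⟩ : Nonempty (Sylow p N) := inferInstance
  set R : Subgroup X := (R₀ : Subgroup N).map N.subtype with hR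
  have hRp : IsPGroup p R := R₀.isPGroup'.map _
  have hRN : R ≤ N := by
    rintro x ⟨y, -, rfl⟩; exact y.2
  have hRcard : Nat.card R = pp p (Nat.card N) := by
    rw [hR, Subgroup.card_map_of_injective N.subtype_injective]
    exact sylow_card_eq_pp R₀
  obtain ⟨T₁, hRT₁⟩ := hRp.exists_le_sylow
  have hT₁ := THyp.over hJ T hT T₁
  -- `H ≤ R`
  have hHN : H ≤ N := Subgroup.le_normalizer
  have hHR : H ≤ R := by
    haveI hn : (H.subgroupOf N).Normal := Subgroup.normal_in_normalizer
    have h1 : H.subgroupOf N ≤ (R₀ : Subgroup N) :=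
      IsPGroup.le_sylow_of_normal (N := H.subgroupOf N)
        (hH.pg.comap_of_injective N.subtype N.subtype_injective) R₀
    intro x hx
    exact ⟨⟨x, hHN hx⟩, h1 hx, rfl⟩
  have hRne : R ≠ ⊥ := by
    intro h
    apply hH.ne
    rw [eq_bot_iff, ← h]; exact hHR
  -- `R = T₁ ⊓ N`
  have hRTN : R = (T₁ : Subgroup X) ⊓ N := by
    have hle : R ≤ (T₁ : Subgroup X) ⊓ N := le_inf hRT₁ hRN
    apply Subgroup.eq_of_le_of_card_ge hle
    rw [hRcard]
    exact card_le_pp_of_le (T₁.isPGroup'.to_le inf_le_left) inf_le_right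
  -- `Z(T₁) ≤ Z(R)`
  have hZR : Zc (T₁ : Subgroup X) ≤ R := by
    rw [hRTN]
    refine le_inf (Zc_le _) ?_
    intro z hz
    rw [hNdef, Subgroup.mem_normalizer_iff]
    have hzc := Subgroup.mem_centralizer_iff.mp hz.2
    intro h
    constructor
    · intro hh
      have h2 : h * z = z * h := hzc h (hRT₁ (hHR hh))
      have e : z * h * z⁻¹ = h := by rw [← h2, mul_inv_cancel_right]
      rw [e]; exact hh
    · intro hh
      have h3 : z * h * z⁻¹ ∈ (T₁ : Subgroup X) := hRT₁ (hHR hh)
      have h2 : z * h * z⁻¹ * z = z * (z * h * z⁻¹) := hzc _ h3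
      have e : h = z * h * z⁻¹ := by
        have : z * h = z * (z * h * z⁻¹) := by
          rw [← h2]; group
        exact mul_left_cancel this
      rw [e]; exact hh
  have hZZ : Zc (T₁ : Subgroup X) ≤ Zc R := fun z hz =>
    ⟨hZR hz, Subgroup.centralizer_le (by exact_mod_cast hRT₁) hz.2⟩
  have hcard : Nat.card N < Nat.card X := by
    have := ZJ.card_lt_of_lt (lt_top_iff_ne_top.mpr hNtop)
    rwa [Subgroup.card_top] at this
  -- the normalizer of `J(R)` has a normal `p`-complement
  have hN1 : PNilp p (Subgroup.normalizer (J X R : Set X)) := by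
    by_contra hnot
    set H₁ := J X R with hH₁
    have hH₁p : IsPGroup p H₁ := hRp.to_le (hJ.sec.le X R hRp)
    have hH₁ne : H₁ ≠ ⊥ := hJ.sec.ne_bot X R hRp hRne
    have hM1 := (hH.max H₁ hH₁p hH₁ne hnot).1
    set NT := (T₁ : Subgroup X) ⊓ Subgroup.normalizer (R : Set X) with hNT
    have hNTle : NT ≤ Subgroup.normalizer (H₁ : Set X) :=
      inf_le_right.trans (hJ.sec.normalizer_le R hRp)
    have hNTcard : Nat.card NT ≤ Nat.card R := by
      rw [hRcard]
      exact le_trans (card_le_pp_of_le (T₁.isPGroup'.to_le inf_le_left) hNTle) hM1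
    have hRNT : R ≤ NT := le_inf hRT₁ Subgroup.le_normalizer
    have hNTeq : NT = R := (Subgroup.eq_of_le_of_card_ge hRNT hNTcard).symm
    have hRT : R = (T₁ : Subgroup X) := by
      by_contra hne
      have hlt : R < (T₁ : Subgroup X) := lt_of_le_of_ne hRT₁ hne
      have := Cfsg.Agent.Lib.Helper2.Schmidt.nilpotent_normalizer_grows (T₁ : Subgroup X) R
        T₁.isPGroup'.isNilpotent hlt
      rw [← hNT, hNTeq] at this
      exact lt_irrefl _ this
    apply hnot
    rw [hH₁, hRT]
    exact hT₁.1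
  apply hH.notN
  apply hmc.smaller N hcard (hsub X hmc.mem N) R₀
  refine ⟨?_, ?_⟩
  · exact hJ.sec.pnilp_restrict N (R₀ : Subgroup N) R₀.isPGroup' hN1
  · apply pnilp_centralizer_restrict N (R₀ : Subgroup N) (Zc (T₁ : Subgroup X)) _ hT₁.2
    rw [← Zc_map_of_injOn N.subtype (R₀ : Subgroup N) (Set.injOn_of_injective N.subtype_injective)]
    exact hZZ

end

end Thom

end Cfsg.Agent.Lib.Lead
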