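import Mathlib
import Cfsg.Agent.Lib.Lead.Thom2

set_option autoImplicit false

/-!
Thompson's normal `p`-complement theorem: the structure of a minimal counterexample.
-/

namespace Cfsg.Agent.Lib.Lead

namespace Thom

open GT
open scoped Pointwise

universe u

section

variable {p : ℕ} [hpf : Fact p.Prime] {J : ∀ (X : Type u) [Group X], Subgroup X → Subgroup X}
  {C : ∀ (X : Type u) [Group X], Prop}

/-- the maximal obstruction is `O_p(X)` -/
theorem TMin.maxLocal_pCore (hJ : IsJFunctor p J)
    (hsub : ∀ (X : Type u) [Group X] [Finite X], C X → ∀ M : Subgroup X, C M)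
    {X : Type u} [Group X] [Finite X] (hmc : TMin p J C X)
    (T : Sylow p X) (hT : THyp p J X (T : Subgroup X)) : MaxLocal p (Cfsg.pCore p X) := by
  obtain ⟨H, hH⟩ := exists_maxLocal hmc.not_nilp
  have hNH := hmc.normalizer_eq_top hJ hsub T hT H hH
  have hHn : H.Normal := Subgroup.normalizer_eq_top_iff.mp hNH
  have hHle : H ≤ Cfsg.pCore p X := Cfsg.Agent.Lib.Helper9.le_pCore hHn hH.pg
  haveI hQn : (Cfsg.pCore p X).Normal := Cfsg.Agent.Lib.Helper9.pCore_normal' p
  have hQp : IsPGroup p (Cfsg.pCore p X) := Cfsg.Agent.Lib.Helper9.pCore_isPGroup' p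
  have hQne : Cfsg.pCore p X ≠ ⊥ := by
    intro h
    apply hH.ne
    rw [eq_bot_iff, ← h]; exact hHle
  have hNQ : Subgroup.normalizer (Cfsg.pCore p X : Set X) = ⊤ :=
    Subgroup.normalizer_eq_top_iff.mpr hQn
  have hQnot : ¬ PNilp p (Subgroup.normalizer (Cfsg.pCore p X : Set X)) := fun h =>
    hmc.not_nilp (pnilp_of_eq_top hNQ h)
  have h2 := (hH.max _ hQp hQne hQnot).2 (by rw [hNQ, hNH])
  have heq : H = Cfsg.pCore p X := Subgroup.eq_of_le_of_card_ge hHle h2
  rw [← heq]; exact hH

theorem TMin.not_le_pCore (hJ : IsJFunctor p J)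
    {X : Type u} [Group X] [Finite X] (hmc : TMin p J C X)
    (T : Sylow p X) (hT : THyp p J X (T : Subgroup X)) : ¬ (T : Subgroup X) ≤ Cfsg.pCore p X := by
  intro hle
  haveI hQn : (Cfsg.pCore p X).Normal := Cfsg.Agent.Lib.Helper9.pCore_normal' p
  have hTeq : (T : Subgroup X) = Cfsg.pCore p X :=
    le_antisymm hle (Cfsg.Agent.Lib.Helper9.pCore_le_sylow T)
  have hTn : (T : Subgroup X).Normal := by rw [hTeq]; exact hQn
  have h1 : Subgroup.normalizer (J X (T : Subgroup X) : Set X) = ⊤ := by
    rw [eq_top_iff, ← Subgroup.normalizer_eq_top_iff.mpr hTn]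
    exact hJ.sec.normalizer_le _ T.isPGroup'
  exact hmc.not_nilp (pnilp_of_eq_top h1 hT.1)

/-- a `p`-subgroup properly containing `O_p(X)` and normalized by `T` has a normalizer with a
normal `p`-complement -/
theorem TMin.pnilp_normalizer_of_gt (hJ : IsJFunctor p J)
    (hsub : ∀ (X : Type u) [Group X] [Finite X], C X → ∀ M : Subgroup X, C M)
    {X : Type u} [Group X] [Finite X] (hmc : TMin p J C X)
    (T : Sylow p X) (hT : THyp p J X (T : Subgroup X)) (L : Subgroup X) (hLp : IsPGroup p L)
    (hLgt : Nat.card (Cfsg.pCore p X) < Nat.card L)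
    (hTL : (T : Subgroup X) ≤ Subgroup.normalizer (L : Set X)) :
    PNilp p (Subgroup.normalizer (L : Set X)) := by
  have hML := hmc.maxLocal_pCore hJ hsub T hT
  set H := Cfsg.pCore p X with hHdef
  have hLne : L ≠ ⊥ := by
    intro h
    rw [h, Subgroup.card_bot] at hLgt
    have : 0 < Nat.card H := Nat.card_pos
    omega
  by_contra hcon
  obtain ⟨h1, h2⟩ := hML.max L hLp hLne hcon
  have h3 : Nat.card (T : Subgroup X) ≤ pp p (Nat.card (Subgroup.normalizer (L : Set X))) :=
    card_le_pp_of_le T.isPGroup' hTL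
  have h4 : pp p (Nat.card (Subgroup.normalizer (H : Set X))) ≤ pp p (Nat.card X) :=
    pp_mono (Subgroup.card_subgroup_dvd_card _) Nat.card_pos.ne'
  rw [sylow_card_eq_pp] at h3
  have h5 := h2 (le_antisymm h1 (le_trans h4 h3))
  omega

/-- the quotient by `O_p(X)` has a normal `p`-complement -/
theorem TMin.quot_pnilp (hJ : IsJFunctor p J)
    (hsub : ∀ (X : Type u) [Group X] [Finite X], C X → ∀ M : Subgroup X, C M)
    (hquot : ∀ (X : Type u) [Group X] [Finite X], C X → ∀ (R : Subgroup X) [R.Normal], C (X ⧸ R))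
    {X : Type u} [Group X] [Finite X] (hmc : TMin p J C X)
    (T : Sylow p X) (hT : THyp p J X (T : Subgroup X)) :
    PNilp p (X ⧸ Cfsg.pCore p X) := by
  have hML := hmc.maxLocal_pCore hJ hsub T hT
  set H := Cfsg.pCore p X with hHdef
  haveI hHn : H.Normal := Cfsg.Agent.Lib.Helper9.pCore_normal' p
  have hHp : IsPGroup p H := Cfsg.Agent.Lib.Helper9.pCore_isPGroup' p
  have hHT : H ≤ (T : Subgroup X) := Cfsg.Agent.Lib.Helper9.pCore_le_sylow T
  set f := QuotientGroup.mk' H with hf
  have hfs : Function.Surjective f := QuotientGroup.mk'_surjective H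
  have hHcard : 1 < Nat.card H := by
    rcases Nat.lt_or_ge 1 (Nat.card H) with h | h
    · exact h
    · exfalso
      have hpos : 0 < Nat.card H := Nat.card_pos
      have : Nat.card H = 1 := by omega
      exact hML.ne (Subgroup.card_eq_one.mp this)
  have hcard : Nat.card (X ⧸ H) < Nat.card X := by
    have h1 := card_quotient_mul H
    have h2 : 0 < Nat.card (X ⧸ H) := Nat.card_pos
    nlinarith
  apply hmc.smaller (X ⧸ H) hcard (hquot X hmc.mem H) (T.mapSurjective hfs)
  rw [Sylow.coe_mapSurjective]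
  set Tb := (T : Subgroup X).map f with hTb
  have hTbp : IsPGroup p Tb := T.isPGroup'.map f
  have hTbne : Tb ≠ ⊥ := by
    intro h
    rw [hTb, Subgroup.map_eq_bot_iff, QuotientGroup.ker_mk'] at h
    exact hmc.not_le_pCore hJ T hT h
  -- a general statement for nontrivial subgroups of `Tb` normalized by `Tb`
  have key : ∀ Wb : Subgroup (X ⧸ H), Wb ≤ Tb → Wb ≠ ⊥ →
      Tb ≤ Subgroup.normalizer (Wb : Set (X ⧸ H)) →
      PNilp p (Subgroup.normalizer (Wb : Set (X ⧸ H))) := by
    intro Wb hWbT hWbne hTbW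
    have hWbp : IsPGroup p Wb := hTbp.to_le hWbT
    set L := Wb.comap f with hL
    have hLcard : Nat.card L = Nat.card Wb * Nat.card H := card_comap_mk H Wb
    have hLp : IsPGroup p L := by
      obtain ⟨a, ha⟩ := IsPGroup.iff_card.mp hWbp
      obtain ⟨b, hb⟩ := IsPGroup.iff_card.mp hHp
      apply IsPGroup.of_card (n := a + b)
      rw [hLcard, ha, hb, pow_add]
    have hWbcard : 1 < Nat.card Wb := by
      rcases Nat.lt_or_ge 1 (Nat.card Wb) with h | h
      · exact h
      · exfalso
        have hpos : 0 < Nat.card Wb := Nat.card_pos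
        have : Nat.card Wb = 1 := by omega
        exact hWbne (Subgroup.card_eq_one.mp this)
    have hLgt : Nat.card H < Nat.card L := by
      rw [hLcard]
      have : 0 < Nat.card H := Nat.card_pos
      nlinarith
    have hNL : Subgroup.normalizer (L : Set X) =
        (Subgroup.normalizer (Wb : Set (X ⧸ H))).comap f :=
      (Subgroup.comap_normalizer_eq_of_surjective Wb hfs).symm
    have hTL : (T : Subgroup X) ≤ Subgroup.normalizer (L : Set X) := by
      rw [hNL]
      intro t ht
      rw [Subgroup.mem_comap]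
      exact hTbW ⟨t, ht, rfl⟩
    have hNLp := hmc.pnilp_normalizer_of_gt hJ hsub T hT L hLp hLgt hTL
    have hmap : Subgroup.normalizer (Wb : Set (X ⧸ H)) =
        (Subgroup.normalizer (L : Set X)).map f := by
      rw [hNL, Subgroup.map_comap_eq_self_of_surjective hfs]
    rw [hmap]
    exact hNLp.of_surjective (f.subgroupMap _) (f.subgroupMap_surjective _)
  refine ⟨?_, ?_⟩
  · apply key _ (hJ.sec.le _ _ hTbp) (hJ.sec.ne_bot _ _ hTbp hTbne)
    exact Subgroup.le_normalizer.trans (hJ.sec.normalizer_le Tb hTbp)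
  · have hZne : Zc Tb ≠ ⊥ := by
      haveI : Group.IsNilpotent Tb := hTbp.isNilpotent
      haveI : Nontrivial Tb := (Subgroup.nontrivial_iff_ne_bot Tb).mpr hTbne
      have hc : Subgroup.center Tb ≠ ⊥ := by
        intro h
        haveI := hTbp.center_nontrivial
        have hnt : Nontrivial (Subgroup.center Tb) := inferInstance
        rw [h] at hnt
        exact not_nontrivial _ hnt
      obtain ⟨⟨z, hz⟩, hz1⟩ := (Subgroup.ne_bot_iff_exists_ne_one).mp hc
      intro hbot
      apply hz1
      have hzZ : (z : X ⧸ H) ∈ Zc Tb := by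
        refine ⟨z.2, ?_⟩
        show (z : X ⧸ H) ∈ Subgroup.centralizer (Tb : Set (X ⧸ H))
        rw [Subgroup.mem_centralizer_iff]
        intro t ht
        have := (Subgroup.mem_center_iff.mp hz) ⟨t, ht⟩
        exact congrArg Subtype.val this
      rw [hbot, Subgroup.mem_bot] at hzZ
      exact Subtype.ext (Subtype.ext hzZ)
    have hN := key (Zc Tb) (Zc_le Tb) hZne (by
      intro t ht
      rw [Subgroup.mem_normalizer_iff]
      intro z
      constructor
      · intro hz
        refine ⟨Tb.mul_mem (Tb.mul_mem ht hz.1) (Tb.inv_mem ht), ?_⟩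
        have hzc := Subgroup.mem_centralizer_iff.mp hz.2
        have e : t * z * t⁻¹ = z := by rw [hzc t ht, mul_inv_cancel_right]
        rw [e]; exact hz.2
      · intro hz
        have hzT : z ∈ Tb := by
          have := Tb.mul_mem (Tb.mul_mem (Tb.inv_mem ht) hz.1) ht
          have e : t⁻¹ * (t * z * t⁻¹) * t = z := by group
          rwa [e] at this
        have hzc := Subgroup.mem_centralizer_iff.mp hz.2
        have h2 : t * (t * z * t⁻¹) = t * z * t⁻¹ * t := hzc t ht
        have e : t * z * t⁻¹ = z := by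
          have : t * (t * z * t⁻¹) = t * z := by rw [h2]; group
          exact mul_left_cancel this
        rw [e] at hz
        exact hz)
    exact hN.of_le (Subgroup.centralizer_le_normalizer _)

/-- `O_{p'}(X) = 1` -/
theorem TMin.pPrimeCore_eq_bot (hJ : IsJFunctor p J)
    (hquot : ∀ (X : Type u) [Group X] [Finite X], C X → ∀ (R : Subgroup X) [R.Normal], C (X ⧸ R))
    {X : Type u} [Group X] [Finite X] (hmc : TMin p J C X)
    (T : Sylow p X) (hT : THyp p J X (T : Subgroup X)) : Cfsg.pPrimeCore p X = ⊥ := by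
  by_contra hne
  set R := Cfsg.pPrimeCore p X with hRdef
  haveI hRn : R.Normal := (Cfsg.Agent.Lib.Helper6.pPrimeCore_mem_set p).1
  have hRc : (Nat.card R).Coprime p := Cfsg.Agent.Lib.Helper6.pPrimeCore_coprime p
  set f := QuotientGroup.mk' R with hf
  have hfs : Function.Surjective f := QuotientGroup.mk'_surjective R
  have hRcard : 1 < Nat.card R := by
    rcases Nat.lt_or_ge 1 (Nat.card R) with h | h
    · exact h
    · exfalso
      have hpos : 0 < Nat.card R := Nat.card_pos
      have : Nat.card R = 1 := by omega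
      exact hne (Subgroup.card_eq_one.mp this)
  have hcard : Nat.card (X ⧸ R) < Nat.card X := by
    have h1 := card_quotient_mul R
    have h2 : 0 < Nat.card (X ⧸ R) := Nat.card_pos
    nlinarith
  apply hmc.not_nilp
  apply PNilp.of_quotient_coprime R hRc
  apply hmc.smaller (X ⧸ R) hcard (hquot X hmc.mem R) (T.mapSurjective hfs)
  rw [Sylow.coe_mapSurjective]
  exact THyp.quot_coprime hJ R hRc _ T.isPGroup' hT

/-- the Sylow subgroup is a maximal subgroup -/
theorem TMin.isCoatom (hJ : IsJFunctor p J)
    (hsub : ∀ (X : Type u) [Group X] [Finite X], C X → ∀ M : Subgroup X, C M)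
    {X : Type u} [Group X] [Finite X] (hmc : TMin p J C X)
    (T : Sylow p X) (hT : THyp p J X (T : Subgroup X))
    (hcent : Subgroup.centralizer (Cfsg.pCore p X : Set X) ≤ Cfsg.pCore p X) :
    IsCoatom (T : Subgroup X) := by
  set H := Cfsg.pCore p X with hHdef
  haveI hHn : H.Normal := Cfsg.Agent.Lib.Helper9.pCore_normal' p
  have hHp : IsPGroup p H := Cfsg.Agent.Lib.Helper9.pCore_isPGroup' p
  have hHT : H ≤ (T : Subgroup X) := Cfsg.Agent.Lib.Helper9.pCore_le_sylow T
  constructor
  · intro htop
    apply hmc.not_nilp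
    apply PNilp.of_isPGroup
    have := T.isPGroup'
    rw [htop] at this
    exact this.of_equiv Subgroup.topEquiv
  · intro M hTM
    by_contra hM
    have hMp := hmc.pnilp_of_ge_sylow hJ hsub T hT M hTM.le hM
    obtain ⟨Km, hKmn, hKmc, j, hj⟩ := id hMp
    have hKbot : Km = ⊥ := by
      rw [eq_bot_iff]
      intro g hg
      rw [Subgroup.mem_bot]
      have hgo : (orderOf g).Coprime p := by
        have h2 : orderOf g ∣ Nat.card Km := by
          have := orderOf_dvd_natCard (⟨g, hg⟩ : Km)
          rwa [Subgroup.orderOf_mk] at this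
        exact Nat.Coprime.coprime_dvd_left h2 hKmc
      have hHMn : (H.subgroupOf M).Normal := inferInstance
      have h1 := hMp.centralizes (H.subgroupOf M)
        (hHp.comap_of_injective M.subtype M.subtype_injective) g
        (by rw [Subgroup.normalizer_eq_top_iff.mpr hHMn]; exact Subgroup.mem_top _) hgo
      have h2 : (g : X) ∈ Subgroup.centralizer (H : Set X) := by
        rw [Subgroup.mem_centralizer_iff] at h1 ⊢
        intro h hh
        have := h1 ⟨h, hTM.le (hHT hh)⟩ hh
        exact congrArg Subtype.val this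
      have h3 : (g : X) ∈ H := hcent h2
      obtain ⟨b, hb⟩ := hHp ⟨(g : X), h3⟩
      have hb' : (g : X) ^ p ^ b = 1 := by
        have := congrArg Subtype.val hb
        simpa using this
      have h4 : orderOf (g : X) ∣ p ^ b := orderOf_dvd_of_pow_eq_one hb'
      rw [Subgroup.orderOf_coe] at h4
      have h5 : orderOf g = 1 :=
        Nat.eq_one_of_dvd_coprimes (Nat.Coprime.pow_right b hgo) (dvd_refl _) h4
      exact orderOf_eq_one_iff.mp h5
    have hMpg : IsPGroup p M := by
      apply IsPGroup.of_card (n := j)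
      rw [← hj, hKbot, Subgroup.index_bot]
    have hcard : Nat.card M ≤ Nat.card (T : Subgroup X) := by
      rw [sylow_card_eq_pp]; exact card_le_pp hMpg
    exact hTM.ne (Subgroup.eq_of_le_of_card_ge hTM.le hcard)

/-- the structure of a minimal counterexample -/
theorem TMin.struct (hJ : IsJFunctor p J)
    (hsub : ∀ (X : Type u) [Group X] [Finite X], C X → ∀ M : Subgroup X, C M)
    (hquot : ∀ (X : Type u) [Group X] [Finite X], C X → ∀ (R : Subgroup X) [R.Normal], C (X ⧸ R))
    {X : Type u} [Group X] [Finite X] (hmc : TMin p J C X)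
    (T : Sylow p X) (hT : THyp p J X (T : Subgroup X)) : MCStruct p T (T : Subgroup X) := by
  have h1 := hmc.pPrimeCore_eq_bot hJ hquot T hT
  have h2 := hmc.quot_pnilp hJ hsub hquot T hT
  have h3 := centralizer_pCore_le_of h1 h2
  have h4 := hmc.isCoatom hJ hsub T hT h3
  exact ⟨h1, h3, h2, h4, hmc.not_le_pCore hJ T hT, shape_of_coatom T h4 h2⟩

/-- Thompson's reduction with two hypotheses -/
theorem reduction (hJ : IsJFunctor p J)
    (hsub : ∀ (X : Type u) [Group X] [Finite X], C X → ∀ M : Subgroup X, C M)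
    (hquot : ∀ (X : Type u) [Group X] [Finite X], C X → ∀ (R : Subgroup X) [R.Normal], C (X ⧸ R))
    (hloc : ∀ (X : Type u) [Group X] [Finite X], TMin p J C X → ∀ (T : Sylow p X),
      THyp p J X (T : Subgroup X) → MCStruct p T (T : Subgroup X) → False) :
    ∀ (X : Type u) [Group X] [Finite X], THolds p J C X := by
  have key : ∀ (n : ℕ) (X : Type u) [Group X] [Finite X], Nat.card X = n → THolds p J C X := by
    intro n
    induction n using Nat.strong_induction_on with
    | _ n ih =>
    intro X _ _ hn hC T hT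
    by_contra hX
    have hmc : TMin p J C X :=
      ⟨hC, hX, fun Y _ _ hlt => ih (Nat.card Y) (hn ▸ hlt) Y rfl⟩
    exact hloc X hmc T hT (hmc.struct hJ hsub hquot T hT)
  intro X _ _
  exact key _ X rfl

end

end Thom

end Cfsg.Agent.Lib.Lead
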