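import Mathlib
import Cfsg.Agent.Lib.Lead.Thom3
import Cfsg.Agent.Lib.Lead.OddStable
import Cfsg.Agent.Lib.Lead.DStarThm

set_option autoImplicit false

/-!
Thompson's normal `p`-complement theorem: general lemmas for the final step.
-/

namespace Cfsg.Agent.Lib.Lead

namespace Thom

open GT
open scoped Pointwise

universe u

section General

variable {X : Type*} [Group X]

/-- elements of order dividing `p` in an abelian subgroup -/
def omP (p : ℕ) (V : Subgroup X) (hV : ∀ a ∈ V, ∀ b ∈ V, a * b = b * a) : Subgroup X where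
  carrier := {v | v ∈ V ∧ v ^ p = 1}
  one_mem' := ⟨V.one_mem, one_pow p⟩
  mul_mem' := by
    rintro a b ⟨ha, hap⟩ ⟨hb, hbp⟩
    refine ⟨V.mul_mem ha hb, ?_⟩
    rw [(show Commute a b from hV a ha b hb).mul_pow, hap, hbp, one_mul]
  inv_mem' := by
    rintro a ⟨ha, hap⟩
    exact ⟨V.inv_mem ha, by rw [inv_pow, hap, inv_one]⟩

theorem mem_omP {p : ℕ} {V : Subgroup X} {hV : ∀ a ∈ V, ∀ b ∈ V, a * b = b * a} {x : X} :
    x ∈ omP p V hV ↔ x ∈ V ∧ x ^ p = 1 := Iff.rfl

theorem omP_le {p : ℕ} {V : Subgroup X} {hV : ∀ a ∈ V, ∀ b ∈ V, a * b = b * a} :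
    omP p V hV ≤ V := fun _ hx => hx.1

theorem omP_normal {p : ℕ} {V : Subgroup X} {hV : ∀ a ∈ V, ∀ b ∈ V, a * b = b * a}
    [hn : V.Normal] : (omP p V hV).Normal := by
  refine ⟨fun v hv g => ⟨hn.conj_mem v hv.1 g, ?_⟩⟩
  rw [conj_pow, hv.2, mul_one, mul_inv_cancel]

theorem omP_isEA {p : ℕ} {V : Subgroup X} {hV : ∀ a ∈ V, ∀ b ∈ V, a * b = b * a} :
    Cfsg.IsElementaryAbelian p (omP p V hV) := by
  refine ⟨⟨⟨fun a b => ?_⟩⟩, fun a ha => ha.2⟩
  apply Subtype.ext
  exact hV a a.2.1 b b.2.1

/-- an element of order prime to `p` normalizing an abelian `p`-group and centralizing its elements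
of order dividing `p` centralizes it -/
theorem commute_of_commute_omP [Finite X] {p : ℕ} [hpf : Fact p.Prime] (H : Subgroup X)
    (hHc : ∀ a ∈ H, ∀ b ∈ H, a * b = b * a) (hH : IsPGroup p H)
    (a : X) (haH : a ∈ Subgroup.normalizer (H : Set X)) (hcop : (orderOf a).Coprime p)
    (hfix : ∀ x ∈ H, x ^ p = 1 → a * x = x * a) : ∀ x ∈ H, a * x = x * a := by
  have key : ∀ k : ℕ, ∀ x ∈ H, x ^ (p ^ k) = 1 → a * x = x * a := by
    intro k
    induction k with
    | zero =>
      intro x _ hx
      rw [pow_zero, pow_one] at hx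
      rw [hx, mul_one, one_mul]
    | succ k ih =>
      intro x hx hxk
      have hy : (x ^ p) ^ (p ^ k) = 1 := by
        rw [← pow_mul, ← pow_succ']; exact hxk
      have hay : a * x ^ p = x ^ p * a := ih _ (H.pow_mem hx p) hy
      set c := a * x * a⁻¹ * x⁻¹ with hc
      have hconj : a * x * a⁻¹ ∈ H := (Subgroup.mem_normalizer_iff.mp haH x).mp hx
      have hcH : c ∈ H := H.mul_mem hconj (H.inv_mem hx)
      have hcp : c ^ p = 1 := by
        have h1 : Commute (a * x * a⁻¹) x⁻¹ := hHc _ hconj _ (H.inv_mem hx)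
        rw [hc, h1.mul_pow, conj_pow, inv_pow, hay, mul_inv_cancel_right, mul_inv_cancel]
      have hac : a * c = c * a := hfix c hcH hcp
      have hcx : c * x = x * c := hHc c hcH x hx
      have hpow : ∀ n : ℕ, a ^ n * x * (a ^ n)⁻¹ = c ^ n * x := by
        intro n
        induction n with
        | zero => simp
        | succ n ihn =>
          have h1 : a ^ (n + 1) * x * (a ^ (n + 1))⁻¹ = a * (a ^ n * x * (a ^ n)⁻¹) * a⁻¹ := by
            rw [pow_succ']; group
          rw [h1, ihn]
          have hacn : a * c ^ n = c ^ n * a := (show Commute a c from hac).pow_right n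
          have h2 : a * (c ^ n * x) * a⁻¹ = c ^ n * (a * x * a⁻¹) := by
            rw [← mul_assoc, hacn]; group
          have h3 : a * x * a⁻¹ = c * x := by rw [hc]; group
          rw [h2, h3, ← mul_assoc, ← pow_succ]
      have h4 := hpow (orderOf a)
      rw [pow_orderOf_eq_one, one_mul, inv_one, mul_one] at h4
      have hcn : c ^ orderOf a = 1 := by
        have : c ^ orderOf a * x = 1 * x := by rw [← h4, one_mul]
        exact mul_right_cancel this
      have hc1 : c = 1 := by
        have h5 : orderOf c ∣ orderOf a := orderOf_dvd_of_pow_eq_one hcn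
        have h6 : orderOf c ∣ p := orderOf_dvd_of_pow_eq_one hcp
        have h7 : orderOf c ∣ 1 := by
          have := Nat.dvd_gcd h5 h6
          rwa [Nat.Coprime.gcd_eq_one hcop] at this
        exact orderOf_eq_one_iff.mp (Nat.dvd_one.mp h7)
      have : a * x * a⁻¹ * x⁻¹ = 1 := hc1
      calc a * x = (a * x * a⁻¹ * x⁻¹) * (x * a) := by group
        _ = x * a := by rw [this, one_mul]
  intro x hx
  obtain ⟨k, hk⟩ := hH ⟨x, hx⟩
  apply key k x hx
  have := congrArg Subtype.val hk
  simpa using this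

end General

end Thom

end Cfsg.Agent.Lib.Lead
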