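import Mathlib
import Cfsg.Agent.Lib.Lead.Thom4

set_option autoImplicit false

/-!
Thompson's normal `p`-complement theorem: the module `W` of a minimal counterexample.
-/

namespace Cfsg.Agent.Lib.Lead

namespace Thom

open GT
open scoped Pointwise

universe u

section General

variable {X : Type*} [Group X]

theorem mem_of_pow_mem_of_coprime {H : Subgroup X} {y : X} (m : ℕ)
    (hcop : Nat.Coprime m (orderOf y)) (h : y ^ m ∈ H) : y ∈ H := by
  obtain ⟨n, hn⟩ := exists_pow_eq_self_of_coprime hcop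
  rw [← hn]
  exact H.pow_mem h n

theorem mem_of_pow_mem_of_pow_mem {H : Subgroup X} {y : X} {a b : ℕ} (hab : a.Coprime b)
    (ha : y ^ a ∈ H) (hb : y ^ b ∈ H) : y ∈ H := by
  have h1 := Nat.gcd_eq_gcd_ab a b
  rw [Nat.Coprime.gcd_eq_one hab] at h1
  have h2 : y = (y ^ a) ^ (Nat.gcdA a b) * (y ^ b) ^ (Nat.gcdB a b) := by
    rw [← zpow_natCast y a, ← zpow_natCast y b, ← zpow_mul, ← zpow_mul, ← zpow_add, ← h1]
    simp
  rw [h2]
  exact H.mul_mem (H.zpow_mem ha _) (H.zpow_mem hb _)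

theorem Zc_normal (D : Subgroup X) [hD : D.Normal] : (Zc D).Normal := by
  unfold Zc
  infer_instance

end General

section

variable {p : ℕ} [hpf : Fact p.Prime] {J : ∀ (X : Type u) [Group X], Subgroup X → Subgroup X}
  {C : ∀ (X : Type u) [Group X], Prop}

/-- the module of a minimal counterexample -/
theorem TMin.exists_module {X : Type u} [Group X] [Finite X] (hmc : TMin p J C X)
    (T : Sylow p X) (hT : THyp p J X (T : Subgroup X)) (hs : MCStruct p T (T : Subgroup X)) :
    ∃ W : Subgroup X, W.Normal ∧ Cfsg.IsElementaryAbelian p W ∧ W ≤ Cfsg.pCore p X ∧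
      Cfsg.pCore p X ≤ Subgroup.centralizer (W : Set X) ∧
      Subgroup.centralizer (W : Set X) ≤ Cfsg.pCore p X := by
  set P := Cfsg.pCore p X with hPdef
  haveI hPn : P.Normal := Cfsg.Agent.Lib.Helper9.pCore_normal' p
  have hPp : IsPGroup p P := Cfsg.Agent.Lib.Helper9.pCore_isPGroup' p
  have hPT : P ≤ (T : Subgroup X) := Cfsg.Agent.Lib.Helper9.pCore_le_sylow T
  obtain ⟨K, hsh, hPK⟩ := hs.shape
  haveI hKn : K.Normal := hsh.nK
  have hZ : Zc (T : Subgroup X) ≤ Zc P := by
    intro z hz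
    have hzc : z ∈ Subgroup.centralizer (P : Set X) := Subgroup.centralizer_le hPT hz.2
    exact ⟨hs.cent hzc, hzc⟩
  haveI hZPn : (Zc P).Normal := Zc_normal P
  set V1 := Subgroup.normalClosure (Zc (T : Subgroup X) : Set X) with hV1def
  have hV1 : V1 ≤ Zc P := Subgroup.normalClosure_le_normal hZ
  have hV1c : ∀ a ∈ V1, ∀ b ∈ V1, a * b = b * a := fun a ha b hb =>
    (Subgroup.mem_centralizer_iff.mp (hV1 hb).2 a (hV1 ha).1)
  have hV1p : IsPGroup p V1 := hPp.to_le (hV1.trans (Zc_le P))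
  set W := omP p V1 hV1c with hWdef
  haveI hWn : W.Normal := omP_normal
  have hWea : Cfsg.IsElementaryAbelian p W := omP_isEA
  have hWP : W ≤ P := fun w hw => (hV1 hw.1).1
  have hPV : P ≤ Subgroup.centralizer (V1 : Set X) := by
    intro x hx
    rw [Subgroup.mem_centralizer_iff]
    intro w hw
    exact ((Subgroup.mem_centralizer_iff.mp (hV1 hw).2) x hx).symm
  have hPW : P ≤ Subgroup.centralizer (W : Set X) :=
    hPV.trans (Subgroup.centralizer_le omP_le)
  refine ⟨W, hWn, hWea, hWP, hPW, ?_⟩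
  by_contra hCP
  set Cw := Subgroup.centralizer (W : Set X) with hCwdef
  haveI hCn : Cw.Normal := inferInstance
  set L := Cw ⊓ K with hLdef
  haveI hLn : L.Normal := inferInstance
  have hLT : ¬ L ≤ (T : Subgroup X) := by
    intro hLT
    have hLP : L ≤ P := Cfsg.Agent.Lib.Helper9.le_pCore hLn (T.isPGroup'.to_le hLT)
    have hCp : IsPGroup p Cw := by
      rintro ⟨x, hx⟩
      obtain ⟨j, hj⟩ := hsh.quot x
      have hxL : x ^ p ^ j ∈ L := ⟨Cw.pow_mem hx _, hj⟩
      obtain ⟨i, hi⟩ := hPp ⟨_, hLP hxL⟩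
      refine ⟨j + i, ?_⟩
      apply Subtype.ext
      have := congrArg Subtype.val hi
      simp only [Subgroup.coe_pow, Subgroup.coe_one] at this ⊢
      rw [pow_add, pow_mul]
      exact this
    exact hCP (Cfsg.Agent.Lib.Helper9.le_pCore hCn hCp)
  have hLTtop : L ⊔ (T : Subgroup X) = ⊤ :=
    hs.coatom.2 _ (lt_of_le_of_ne le_sup_right (fun h => hLT (h ▸ le_sup_left)))
  have hKp : ∀ y ∈ K, ∀ i : ℕ, y ^ p ^ i = 1 → y ∈ P := by
    intro y hyK i hyi
    obtain ⟨m, hm, hym⟩ := hsh.cop y hyK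
    apply mem_of_pow_mem_of_coprime m _ hym
    exact Nat.Coprime.coprime_dvd_right (orderOf_dvd_of_pow_eq_one hyi) (Nat.Coprime.pow_right i hm)
  have hKC : K ≤ Cw := by
    intro k hk
    have hk' : k ∈ L ⊔ (T : Subgroup X) := by rw [hLTtop]; trivial
    rw [Subgroup.mem_sup_of_normal_left] at hk'
    obtain ⟨l, hl, t, ht, rfl⟩ := hk'
    have htK : t ∈ K := by
      have := K.mul_mem (K.inv_mem hl.2) hk
      simpa using this
    obtain ⟨i, hi⟩ := T.isPGroup' ⟨t, ht⟩
    have hti : t ^ p ^ i = 1 := by simpa using congrArg Subtype.val hi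
    exact Cw.mul_mem hl.1 (hPW (hKp t htK i hti))
  have hKV : K ≤ Subgroup.centralizer (V1 : Set X) := by
    intro y hyK
    have hn0 : orderOf y ≠ 0 := (orderOf_pos y).ne'
    obtain ⟨j, m, hpm, hn⟩ := Nat.exists_eq_pow_mul_and_not_dvd hn0 p hpf.out.ne_one
    have hmp : m.Coprime p := ((Nat.Prime.coprime_iff_not_dvd hpf.out).mpr hpm).symm
    apply mem_of_pow_mem_of_pow_mem (a := p ^ j) (b := m) (Nat.Coprime.pow_left j hmp.symm)
    · -- the p'-part
      set y1 := y ^ p ^ j with hy1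
      have hy1K : y1 ∈ K := K.pow_mem hyK _
      have hy1m : y1 ^ m = 1 := by rw [hy1, ← pow_mul, ← hn, pow_orderOf_eq_one]
      have hcop1 : (orderOf y1).Coprime p :=
        Nat.Coprime.coprime_dvd_left (orderOf_dvd_of_pow_eq_one hy1m) hmp
      rw [Subgroup.mem_centralizer_iff]
      intro v hv
      refine (commute_of_commute_omP V1 hV1c hV1p y1 ?_ hcop1 ?_ v hv).symm
      · rw [Subgroup.normalizer_eq_top_iff.mpr inferInstance]; trivial
      · intro x hx hxp
        have hxW : x ∈ W := ⟨hx, hxp⟩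
        exact ((Subgroup.mem_centralizer_iff.mp (hKC hy1K)) x hxW).symm
    · -- the p-part
      have hy2 : y ^ m ∈ P := by
        apply hKp _ (K.pow_mem hyK _) j
        rw [← pow_mul, mul_comm, ← hn, pow_orderOf_eq_one]
      exact hPV hy2
  have hKZ : K ≤ Subgroup.centralizer (Zc (T : Subgroup X) : Set X) :=
    hKV.trans (Subgroup.centralizer_le Subgroup.subset_normalClosure)
  have htop : Subgroup.centralizer (Zc (T : Subgroup X) : Set X) = ⊤ := by
    rw [eq_top_iff, ← hLTtop]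
    exact sup_le (inf_le_right.trans hKZ) (le_centralizer_Zc _)
  exact hmc.not_nilp (pnilp_of_eq_top htop hT.2)

end

end Thom

end Cfsg.Agent.Lib.Lead
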