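import Mathlib
import Cfsg.Agent.Lib.Lead.Thom5

set_option autoImplicit false

/-!
Thompson's normal `p`-complement theorem: the final step for odd `p`.
-/

namespace Cfsg.Agent.Lib.Lead

namespace Thom

open GT
open scoped Pointwise

universe u

/-- the replacement property of a Thompson-type functor -/
def HasQuad (p : ℕ) (J : ∀ (X : Type u) [Group X], Subgroup X → Subgroup X) : Prop :=
  ∀ (X : Type u) [Group X] [Finite X] (D W : Subgroup X), IsPGroup p D → W.Normal → W ≤ D →
    Cfsg.IsElementaryAbelian p W → ¬ J X D ≤ Subgroup.centralizer (W : Set X) →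
    ∃ A : Subgroup X, A ≤ D ∧ ⁅⁅W, A⁆, A⁆ = ⊥ ∧ ⁅W, A⁆ ≠ ⊥

section

variable {p : ℕ} [hpf : Fact p.Prime] {J : ∀ (X : Type u) [Group X], Subgroup X → Subgroup X}
  {C : ∀ (X : Type u) [Group X], Prop}

theorem TMin.J_not_le (hJ : IsJFunctor p J) {X : Type u} [Group X] [Finite X]
    (hmc : TMin p J C X) (T : Sylow p X) (hT : THyp p J X (T : Subgroup X)) :
    ¬ J X (T : Subgroup X) ≤ Cfsg.pCore p X := by
  intro hle
  set P := Cfsg.pCore p X with hPdef
  haveI hPn : P.Normal := Cfsg.Agent.Lib.Helper9.pCore_normal' p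
  have hPp : IsPGroup p P := Cfsg.Agent.Lib.Helper9.pCore_isPGroup' p
  have hPT : P ≤ (T : Subgroup X) := Cfsg.Agent.Lib.Helper9.pCore_le_sylow T
  have hmid := hJ.mid X (T : Subgroup X) P T.isPGroup' hle hPT
  have h1 := hJ.sec.normalizer_le P hPp
  rw [hmid, Subgroup.normalizer_eq_top_iff.mpr hPn] at h1
  exact hmc.not_nilp (pnilp_of_eq_top (top_le_iff.mp h1) hT.1)

/-- the preimage of `O_p(X / C_X(W))` is `O_p(X)` when `C_X(W) ≤ O_p(X)` -/
theorem LL_le_pCore {X : Type u} [Group X] [Finite X] (W : Subgroup X) [W.Normal]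
    (hc : Subgroup.centralizer (W : Set X) ≤ Cfsg.pCore p X) :
    DStarThm.LL p W ≤ Cfsg.pCore p X := by
  apply Cfsg.Agent.Lib.Helper9.le_pCore (DStarThm.LL_normal W)
  intro g
  have h1 : IsPGroup p (Cfsg.pCore p (X ⧸ Subgroup.centralizer (W : Set X))) :=
    Cfsg.Agent.Lib.Helper9.pCore_isPGroup' p
  obtain ⟨k, hk⟩ := h1 ⟨_, g.2⟩
  have h2 : ((g : X) ^ p ^ k) ∈ Subgroup.centralizer (W : Set X) := by
    rw [← QuotientGroup.eq_one_iff]
    have := congrArg Subtype.val hk
    simpa using this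
  have h3 := hc h2
  obtain ⟨m, hm⟩ := (Cfsg.Agent.Lib.Helper9.pCore_isPGroup' (G := X) p) ⟨_, h3⟩
  refine ⟨k + m, ?_⟩
  apply Subtype.ext
  have := congrArg Subtype.val hm
  simp only [Subgroup.coe_pow, Subgroup.coe_one] at this ⊢
  rw [pow_add, pow_mul]
  exact this

/-- the final step for odd `p` -/
theorem final_odd (hp2 : p ≠ 2) (hJ : IsJFunctor p J) (hQ : HasQuad p J)
    {X : Type u} [Group X] [Finite X] (hmc : TMin p J C X)
    (T : Sylow p X) (hT : THyp p J X (T : Subgroup X)) (hs : MCStruct p T (T : Subgroup X)) :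
    False := by
  obtain ⟨W, hWn, hWea, hWP, hPW, hCW⟩ := hmc.exists_module T hT hs
  haveI := hWn
  obtain ⟨K, hsh, hPK⟩ := hs.shape
  have hPp : IsPGroup p (Cfsg.pCore p X) := Cfsg.Agent.Lib.Helper9.pCore_isPGroup' p
  have hPT : Cfsg.pCore p X ≤ (T : Subgroup X) := Cfsg.Agent.Lib.Helper9.pCore_le_sylow T
  have hst : Cfsg.IsNormalizerPStable p X := isNormalizerPStable_of_shape hp2 _ K hsh
  have hWp : IsPGroup p W := hPp.to_le hWP
  have hstW : Cfsg.IsPStableOn p W := OddStable.isPStableOn_of_normalizerPStable hst W hWp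
  have hJW : ¬ J X (T : Subgroup X) ≤ Subgroup.centralizer (W : Set X) :=
    fun h => hmc.J_not_le hJ T hT (h.trans hCW)
  obtain ⟨A, hAT, hquad, hne⟩ := hQ X (T : Subgroup X) W T.isPGroup' hWn (hWP.trans hPT) hWea hJW
  apply hne
  have hLL := LL_le_pCore (p := p) W hCW
  have hA : A ≤ Subgroup.centralizer (W : Set X) := by
    intro a ha
    apply hPW
    apply hLL
    apply DStarThm.mem_LL_of_quadratic hstW
    rw [eq_bot_iff, ← hquad]
    exact Subgroup.commutator_mono (Subgroup.commutator_mono le_rfl (Subgroup.zpowers_le.mpr ha))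
      (Subgroup.zpowers_le.mpr ha)
  rw [Subgroup.commutator_comm, Subgroup.commutator_eq_bot_iff_le_centralizer]
  exact hA

/-- Thompson's theorem for odd `p` -/
theorem thompson_odd (hp2 : p ≠ 2) (hJ : IsJFunctor p J) (hQ : HasQuad p J)
    (X : Type u) [Group X] [Finite X] (T : Sylow p X) (hT : THyp p J X (T : Subgroup X)) :
    PNilp p X := by
  have h := reduction (C := fun _ _ => True) hJ (fun _ _ _ _ _ => trivial)
    (fun _ _ _ _ _ _ => trivial)
    (fun X _ _ hmc T hT hs => final_odd hp2 hJ hQ hmc T hT hs) X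
  exact h trivial T hT

end

end Thom

end Cfsg.Agent.Lib.Lead
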