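import Mathlib
import Cfsg.Agent.Lib.Lead.Thom6
import Cfsg.Agent.Lib.Lead.ZJ9
import Cfsg.Agent.Lib.Lead.ZJ3
import Cfsg.Agent.Lib.Helper2.Replacement
import Cfsg.Agent.Lib.Lead.CoprimeAction2
import Cfsg.Agent.Lib.Lead.CoprimeAction3

set_option autoImplicit false

/-!
Thompson's normal `p`-complement theorem: the replacement theorem for the families `maxIn n D`.
-/

namespace Cfsg.Agent.Lib.Lead

namespace Thom

open GT ZJ
open Cfsg.Agent.Lib.Helper2.Replacement Cfsg.Agent.Lib.Helper2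
open scoped Pointwise commutatorElement

universe u

section Repl

variable {X : Type*} [Group X] [Finite X]

/-- members of `maxIn n D` are weak best offenders on abelian normal subgroups of `D` of the right
exponent -/
theorem weak_offender_of_maxIn {n : ℕ} {D W A : Subgroup X} (hWD : W ≤ D) (hW : AbelExp n W)
    (hA : A ∈ maxIn n D) :
    W ⊓ Subgroup.centralizer (A : Set X) ≤ A ∧ ∀ B : Subgroup X, B ≤ A → ff W B ≤ ff W A := by
  obtain ⟨hAD, hAea, hAmax⟩ := hA
  have hCA : W ⊓ Subgroup.centralizer (A : Set X) ≤ A := by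
    have hE : AbelExp n (A ⊔ (W ⊓ Subgroup.centralizer (A : Set X))) :=
      hAea.sup (hW.mono inf_le_left)
        (fun x hx a ha => (Subgroup.mem_centralizer_iff.mp hx.2 a ha).symm)
    have h1 := hAmax _ (sup_le hAD (inf_le_left.trans hWD)) hE
    have h2 : A = A ⊔ (W ⊓ Subgroup.centralizer (A : Set X)) :=
      Subgroup.eq_of_le_of_card_ge le_sup_left h1
    exact le_sup_right.trans h2.ge
  refine ⟨hCA, ?_⟩
  have hVA : W ⊓ A ≤ W ⊓ Subgroup.centralizer (A : Set X) := by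
    intro x hx
    refine Subgroup.mem_inf.mpr ⟨hx.1, ?_⟩
    rw [Subgroup.mem_centralizer_iff]
    intro h hh
    exact hAea.1 h hh x hx.2
  intro B hBA
  unfold ff
  have hE : AbelExp n (B ⊔ (W ⊓ Subgroup.centralizer (B : Set X))) :=
    (hAea.mono hBA).sup (hW.mono inf_le_left)
      (fun x hx b hb => (Subgroup.mem_centralizer_iff.mp hx.2 b hb).symm)
  have h1 := hAmax _ (sup_le (hBA.trans hAD) (inf_le_left.trans hWD)) hE
  have h2 := card_sup_mul_card_inf B (W ⊓ Subgroup.centralizer (B : Set X)) (by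
    intro b hb
    apply mem_normalizer_of_commute
    intro c hc
    exact Subgroup.mem_centralizer_iff.mp hc.2 b hb)
  have h3 : B ⊓ (W ⊓ Subgroup.centralizer (B : Set X)) ≤ W ⊓ Subgroup.centralizer (A : Set X) := by
    intro x hx
    exact hVA ⟨hx.2.1, hBA hx.1⟩
  have h4 := Subgroup.card_le_of_le h3
  rw [← h2]
  exact Nat.mul_le_mul h1 h4

/-- the replacement theorem for the families `maxIn n D` -/
theorem replacement_maxIn {p : ℕ} [Fact p.Prime] {n : ℕ} {D W A : Subgroup X} (hD : IsPGroup p D)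
    [hWn : W.Normal] (hWD : W ≤ D) (hW : AbelExp n W) (hA : A ∈ maxIn n D) :
    (⁅W, A⁆ ⊔ (A ⊓ Subgroup.centralizer ((⁅W, A⁆ : Subgroup X) : Set X))) ∈ maxIn n D ∧
    ⁅⁅W, ⁅W, A⁆ ⊔ (A ⊓ Subgroup.centralizer ((⁅W, A⁆ : Subgroup X) : Set X))⁆,
      ⁅W, A⁆ ⊔ (A ⊓ Subgroup.centralizer ((⁅W, A⁆ : Subgroup X) : Set X))⁆ = ⊥ ∧
    (⁅W, A⁆ ≠ ⊥ →
      ⁅W, ⁅W, A⁆ ⊔ (A ⊓ Subgroup.centralizer ((⁅W, A⁆ : Subgroup X) : Set X))⁆ ≠ ⊥) := by
  have hVc : ∀ x ∈ W, ∀ y ∈ W, x * y = y * x := hW.1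
  obtain ⟨hCA, hweak⟩ := weak_offender_of_maxIn hWD hW hA
  obtain ⟨hAD, hAea, hAmax⟩ := hA
  have hAc : ∀ a ∈ A, ∀ b ∈ A, a * b = b * a := hAea.1
  have hAV : A ≤ Subgroup.normalizer (W : Set X) := by
    rw [Subgroup.normalizer_eq_top_iff.mpr inferInstance]; exact le_top
  have hAA : ⁅A, A⁆ = ⊥ := by
    rw [Subgroup.commutator_eq_bot_iff_le_centralizer]
    intro a ha
    rw [Subgroup.mem_centralizer_iff]
    intro h hh
    exact hAc h hh a ha
  have hab : ⁅A, A⁆ ≤ Subgroup.centralizer (W : Set X) := by rw [hAA]; exact bot_le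
  have hVA : W ⊓ A ≤ W ⊓ Subgroup.centralizer (A : Set X) := by
    intro x hx
    refine Subgroup.mem_inf.mpr ⟨hx.1, ?_⟩
    rw [Subgroup.mem_centralizer_iff]
    intro h hh
    exact hAc h hh x hx.2
  obtain ⟨h1, h2⟩ := core W A hVc hAV hab hweak W le_rfl
  have hXV : ⁅W, A⁆ ≤ W := by
    rw [Subgroup.commutator_le]
    intro v hv a ha
    exact comm_mem W A hAV ha hv
  have hXX : ⁅W, A⁆ ≤ Subgroup.centralizer ((⁅W, A⁆ : Subgroup X) : Set X) := by
    intro x hx
    rw [Subgroup.mem_centralizer_iff]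
    intro y hy
    exact hVc y (hXV hy) x (hXV hx)
  have hCB : W ⊓ Subgroup.centralizer (A : Set X) ≤
      A ⊓ Subgroup.centralizer ((⁅W, A⁆ : Subgroup X) : Set X) := by
    intro c hc
    refine Subgroup.mem_inf.mpr ⟨hCA hc, ?_⟩
    rw [Subgroup.mem_centralizer_iff]
    intro y hy
    exact hVc y (hXV hy) c hc.1
  have hA₀ : ⁅W, A⁆ ⊔ (A ⊓ Subgroup.centralizer ((⁅W, A⁆ : Subgroup X) : Set X)) =
      (A ⊓ Subgroup.centralizer ((⁅W, A⁆ : Subgroup X) : Set X)) ⊔
        (W ⊓ Subgroup.centralizer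
          ((A ⊓ Subgroup.centralizer ((⁅W, A⁆ : Subgroup X) : Set X) : Subgroup X) : Set X)) := by
    rw [h2]
    apply le_antisymm
    · exact sup_le (le_sup_left.trans le_sup_right) le_sup_left
    · exact sup_le le_sup_right (sup_le le_sup_left (hCB.trans le_sup_right))
  have hEA₀ : AbelExp n
      (⁅W, A⁆ ⊔ (A ⊓ Subgroup.centralizer ((⁅W, A⁆ : Subgroup X) : Set X))) := by
    rw [hA₀]
    apply (hAea.mono inf_le_left).sup (hW.mono inf_le_left)
    intro c hc b hb
    exact (Subgroup.mem_centralizer_iff.mp hc.2 b hb).symm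
  have hcard : Nat.card ↥(⁅W, A⁆ ⊔ (A ⊓ Subgroup.centralizer ((⁅W, A⁆ : Subgroup X) : Set X))) =
      Nat.card A := by
    rw [hA₀]
    have h3 := card_sup_mul_card_inf (A ⊓ Subgroup.centralizer ((⁅W, A⁆ : Subgroup X) : Set X))
      (W ⊓ Subgroup.centralizer
          ((A ⊓ Subgroup.centralizer ((⁅W, A⁆ : Subgroup X) : Set X) : Subgroup X) : Set X)) (by
      intro b hb
      apply mem_normalizer_of_commute
      intro c hc
      exact Subgroup.mem_centralizer_iff.mp hc.2 b hb)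
    have h4 : (A ⊓ Subgroup.centralizer ((⁅W, A⁆ : Subgroup X) : Set X)) ⊓
        (W ⊓ Subgroup.centralizer
          ((A ⊓ Subgroup.centralizer ((⁅W, A⁆ : Subgroup X) : Set X) : Subgroup X) : Set X)) =
        W ⊓ Subgroup.centralizer (A : Set X) := by
      apply le_antisymm
      · intro x hx
        exact hVA ⟨hx.2.1, hx.1.1⟩
      · refine le_inf hCB (inf_le_inf_left W (Subgroup.centralizer_le ?_))
        exact_mod_cast (inf_le_left : A ⊓ Subgroup.centralizer ((⁅W, A⁆ : Subgroup X) : Set X) ≤ A)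
    unfold ff at h1
    rw [h4, h1] at h3
    exact Nat.eq_of_mul_eq_mul_right Nat.card_pos h3
  have hA₀D : ⁅W, A⁆ ⊔ (A ⊓ Subgroup.centralizer ((⁅W, A⁆ : Subgroup X) : Set X)) ≤ D :=
    sup_le (hXV.trans hWD) (inf_le_left.trans hAD)
  refine ⟨⟨hA₀D, hEA₀, fun E hED hE => (hAmax E hED hE).trans hcard.ge⟩, ?_, ?_⟩
  · rw [Subgroup.commutator_eq_bot_iff_le_centralizer]
    have hA₀c : ⁅W, A⁆ ≤ Subgroup.centralizer
        ((⁅W, A⁆ ⊔ (A ⊓ Subgroup.centralizer ((⁅W, A⁆ : Subgroup X) : Set X)) : Subgroup X) : Set X) := by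
      rw [Subgroup.le_centralizer_iff]
      exact sup_le hXX inf_le_right
    refine le_trans ?_ hA₀c
    rw [Subgroup.commutator_le]
    intro v hv x hx
    have hnorm : (A ⊓ Subgroup.centralizer ((⁅W, A⁆ : Subgroup X) : Set X)) ≤
        Subgroup.normalizer ((⁅W, A⁆ : Subgroup X) : Set X) :=
      inf_le_left.trans (Cfsg.Agent.Lib.Lead.le_normalizer_commutator_right W A hAV)
    have hx' : x ∈ ((⁅W, A⁆ ⊔ (A ⊓ Subgroup.centralizer ((⁅W, A⁆ : Subgroup X) : Set X)) :
        Subgroup X) : Set X) := hx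
    rw [Subgroup.coe_mul_of_right_le_normalizer_left _ _ hnorm] at hx'
    obtain ⟨w, hw, b, hb, rfl⟩ := hx'
    have hvw : v * w = w * v := hVc v hv w (hXV hw)
    have hwc : w * ⁅v, b⁆ = ⁅v, b⁆ * w := hVc w (hXV hw) _ (comm_mem W A hAV hb.1 hv)
    have h3 : ⁅v, w * b⁆ = ⁅v, b⁆ := by
      have e1 : ⁅v, w * b⁆ = (v * w) * (b * v⁻¹ * b⁻¹) * w⁻¹ := by
        rw [commutatorElement_def]; group
      have e2 : w * v * (b * v⁻¹ * b⁻¹) * w⁻¹ = w * ⁅v, b⁆ * w⁻¹ := by
        rw [commutatorElement_def]; group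
      rw [e1, hvw, e2, hwc, mul_inv_cancel_right]
    rw [h3]
    exact Subgroup.commutator_mem_commutator hv hb.1
  · intro hne hbot
    -- `B = C_A([W, A])` centralizes `W`
    have hB : A ⊓ Subgroup.centralizer ((⁅W, A⁆ : Subgroup X) : Set X) ≤
        Subgroup.centralizer (W : Set X) := by
      have : ⁅W, A ⊓ Subgroup.centralizer ((⁅W, A⁆ : Subgroup X) : Set X)⁆ = ⊥ := by
        rw [eq_bot_iff, ← hbot]
        exact Subgroup.commutator_mono le_rfl le_sup_right
      rw [Subgroup.commutator_comm, Subgroup.commutator_eq_bot_iff_le_centralizer] at this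
      exact this
    have hWB : W ⊓ Subgroup.centralizer
        ((A ⊓ Subgroup.centralizer ((⁅W, A⁆ : Subgroup X) : Set X) : Subgroup X) : Set X) = W := by
      apply le_antisymm inf_le_left
      refine le_inf le_rfl ?_
      rw [Subgroup.le_centralizer_iff]
      exact hB
    rw [hWB] at h2
    -- `[W, A] = [[W, A], A]`
    have h5 : ⁅W, A⁆ ≤ ⁅⁅W, A⁆, A⁆ := by
      rw [Subgroup.commutator_le]
      intro w hw a ha
      have hw' : w ∈ ((⁅W, A⁆ ⊔ (W ⊓ Subgroup.centralizer (A : Set X)) : Subgroup X) : Set X) := by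
        rw [← h2]; exact hw
      have hnorm : (W ⊓ Subgroup.centralizer (A : Set X)) ≤
          Subgroup.normalizer ((⁅W, A⁆ : Subgroup X) : Set X) := by
        intro c hc
        apply mem_normalizer_of_commute
        intro y hy
        exact hVc c hc.1 y (hXV hy)
      rw [Subgroup.coe_mul_of_right_le_normalizer_left _ _ hnorm] at hw'
      obtain ⟨x, hx, c, hc, rfl⟩ := hw'
      have hca : c * a = a * c := (Subgroup.mem_centralizer_iff.mp hc.2 a ha).symm
      have : ⁅x * c, a⁆ = ⁅x, a⁆ := by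
        simp only [commutatorElement_def]
        have : x * c * a * (x * c)⁻¹ * a⁻¹ = x * (c * a) * c⁻¹ * x⁻¹ * a⁻¹ := by group
        rw [this, hca]; group
      rw [this]
      exact Subgroup.commutator_mem_commutator hx ha
    have h6 : ⁅⁅W, A⁆, A⁆ = ⁅W, A⁆ :=
      le_antisymm (Subgroup.commutator_mono hXV le_rfl) h5
    exact Cfsg.Agent.Lib.Lead.commutator_ne_of_pgroups p ⁅W, A⁆ A (hD.to_le (hXV.trans hWD))
      (hD.to_le hAD) (Cfsg.Agent.Lib.Lead.le_normalizer_commutator_right W A hAV) hne h6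

end Repl

end Thom

end Cfsg.Agent.Lib.Lead
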