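import Mathlib
import Cfsg.Agent.Lib.Lead.Thom7

set_option autoImplicit false

/-!
Thompson's normal `p`-complement theorem: the Thompson subgroups as functors.
-/

namespace Cfsg.Agent.Lib.Lead

namespace Thom

open GT ZJ
open scoped Pointwise commutatorElement

universe u

/-- the Thompson subgroup for the family `maxIn n D` -/
def Jn (n : ℕ) (X : Type u) [Group X] (D : Subgroup X) : Subgroup X := sSup (maxIn n D)

section

variable {X : Type u} [Group X]

theorem Jn_le (n : ℕ) (D : Subgroup X) : Jn n X D ≤ D := sSup_le (fun _ hA => hA.1)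

theorem le_Jn {n : ℕ} {D A : Subgroup X} (hA : A ∈ maxIn n D) : A ≤ Jn n X D := le_sSup hA

theorem Jn_map {Y : Type u} [Group Y] [Finite X] [Finite Y] (n : ℕ) (f : X →* Y) (D : Subgroup X)
    (hf : Set.InjOn f (D : Set X)) : Jn n Y (D.map f) = (Jn n X D).map f := by
  apply le_antisymm
  · apply sSup_le
    intro A' hA'
    obtain ⟨A, hA, rfl⟩ := exists_of_mem_maxIn_map f hf hA'
    exact Subgroup.map_mono (le_sSup hA)
  · rw [Subgroup.map_le_iff_le_comap]
    apply sSup_le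
    intro A hA
    rw [← Subgroup.map_le_iff_le_comap]
    exact le_sSup (map_mem_maxIn_of_injOn f hf hA)

theorem Jn_ne_bot [Finite X] {p : ℕ} [hpf : Fact p.Prime] {n : ℕ} (hn : p ∣ n) {D : Subgroup X}
    (hD : IsPGroup p D) (hne : D ≠ ⊥) : Jn n X D ≠ ⊥ := by
  haveI : Nontrivial D := (Subgroup.nontrivial_iff_ne_bot D).mpr hne
  obtain ⟨k, hk0, hk⟩ := hD.nontrivial_iff_card.mp inferInstance
  have hpd : p ∣ Nat.card D := by rw [hk]; exact dvd_pow_self p hk0.ne'
  obtain ⟨x, hx⟩ := exists_prime_orderOf_dvd_card' p hpd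
  have hxp : (x : X) ^ p = 1 := by
    have := pow_orderOf_eq_one x
    rw [hx] at this
    have := congrArg Subtype.val this
    simpa using this
  have hx1 : (x : X) ≠ 1 := by
    intro h
    have : x = 1 := Subtype.ext h
    rw [this, orderOf_one] at hx
    exact hpf.out.one_lt.ne hx
  have hZ : AbelExp n (Subgroup.zpowers (x : X)) := by
    constructor
    · intro a ha b hb
      obtain ⟨i, rfl⟩ := Subgroup.mem_zpowers_iff.mp ha
      obtain ⟨j, rfl⟩ := Subgroup.mem_zpowers_iff.mp hb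
      exact (Commute.refl (x : X)).zpow_zpow i j
    · intro a ha
      obtain ⟨i, rfl⟩ := Subgroup.mem_zpowers_iff.mp ha
      obtain ⟨m, rfl⟩ := hn
      rw [← zpow_natCast, ← zpow_mul, mul_comm, zpow_mul, zpow_natCast, pow_mul, hxp, one_pow,
        one_zpow]
  obtain ⟨A, hA⟩ := maxIn_nonempty n D
  have h1 := hA.2.2 _ (Subgroup.zpowers_le.mpr x.2) hZ
  intro hbot
  have hAbot : A = ⊥ := le_bot_iff.mp (hbot ▸ le_Jn hA)
  rw [hAbot, Subgroup.card_bot] at h1
  have h2 : Subgroup.zpowers (x : X) = ⊥ := Subgroup.eq_bot_of_card_le _ h1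
  rw [Subgroup.zpowers_eq_bot] at h2
  exact hx1 h2

theorem Jn_mid [Finite X] (n : ℕ) (D R : Subgroup X) (hle : Jn n X D ≤ R) (hRD : R ≤ D) :
    Jn n X R = Jn n X D := by
  obtain ⟨A₀, hA₀⟩ := maxIn_nonempty n D
  have hA₀R : A₀ ≤ R := (le_Jn hA₀).trans hle
  have : maxIn n R = maxIn n D := by
    ext A
    constructor
    · intro hA
      exact mem_maxIn_of_le hRD hA₀ hA₀R hA
    · intro hA
      exact mem_maxIn_sub hRD hA ((le_Jn hA).trans hle)
  unfold Jn
  rw [this]

end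

theorem isJFunctor_Jn {p : ℕ} [hpf : Fact p.Prime] {n : ℕ} (hn : p ∣ n) :
    IsJFunctor p (Jn.{u} n) := by
  refine ⟨⟨?_, ?_, ?_⟩, ?_⟩
  · intro X _ _ D _
    exact Jn_le n D
  · intro X _ _ D hD hne
    exact Jn_ne_bot hn hD hne
  · intro X Y _ _ _ _ f D _ hf
    exact Jn_map n f D hf
  · intro X _ _ D R _ hle hRD
    exact Jn_mid n D R hle hRD

theorem hasQuad_Jn {p : ℕ} [hpf : Fact p.Prime] {n : ℕ} (hn : p ∣ n) : HasQuad p (Jn.{u} n) := by
  intro X _ _ D W hD hWn hWD hWea hJW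
  have := hWn
  have hW : AbelExp n W := by
    refine ⟨(isMulCommutative_iff W).mp hWea.1, ?_⟩
    intro a ha
    obtain ⟨m, rfl⟩ := hn
    rw [pow_mul, hWea.2 a ha, one_pow]
  have : ∃ A ∈ maxIn n D, ¬ A ≤ Subgroup.centralizer (W : Set X) := by
    by_contra hall
    push Not at hall
    exact hJW (sSup_le hall)
  obtain ⟨A, hA, hAW⟩ := this
  obtain ⟨h1, h2, h3⟩ := replacement_maxIn hD hWD hW hA
  refine ⟨_, h1.1, h2, h3 ?_⟩
  intro hbot
  apply hAW
  rw [Subgroup.commutator_comm, Subgroup.commutator_eq_bot_iff_le_centralizer] at hbot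
  exact hbot

/-- the prelude's Thompson subgroups -/
theorem thompsonSubgroupAOf_eq {X : Type u} [Group X] (D : Subgroup X) :
    Cfsg.thompsonSubgroupAOf D = Jn 0 X D := by
  unfold Cfsg.thompsonSubgroupAOf Cfsg.thompsonSubgroupA Jn
  rw [← image_maxAE, maxAbelianSubgroups_eq, (Subgroup.gc_map_comap D.subtype).l_sSup, sSup_image]

theorem thompsonSubgroupOf_eq' {X : Type u} [Group X] (p : ℕ) (D : Subgroup X) :
    Cfsg.thompsonSubgroupOf p D = Jn p X D := by
  unfold Cfsg.thompsonSubgroupOf Cfsg.thompsonSubgroup Jn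
  rw [← image_maxAE, maxElementaryAbelianSubgroups_eq, (Subgroup.gc_map_comap D.subtype).l_sSup,
    sSup_image]

end Thom

end Cfsg.Agent.Lib.Lead
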