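import Mathlib
import Cfsg.Agent.Lib.Lead.Thom8
import Cfsg.Agent.Lib.Lead.PStabQuot2
import Cfsg.Agent.Lib.Helper6.PPrimeCore

set_option autoImplicit false

namespace Cfsg.Agent.Lib.Lead.TFQuot

open Cfsg.Agent.Lib.Lead Cfsg.Agent.Lib.Lead.GT Cfsg.Agent.Lib.Lead.Thom

universe u

section maps
variable {X Y : Type*} [Group X] [Group Y]

theorem omegaOne_le (p : ℕ) (K : Subgroup X) : Cfsg.omegaOne p K ≤ K := by
  unfold Cfsg.omegaOne
  rw [Subgroup.closure_le]
  rintro x ⟨hx, -⟩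
  exact hx

theorem omegaOne_map_of_injOn (p : ℕ) (f : X →* Y) (K : Subgroup X)
    (hf : Set.InjOn f (K : Set X)) :
    Cfsg.omegaOne p (K.map f) = (Cfsg.omegaOne p K).map f := by
  unfold Cfsg.omegaOne
  rw [MonoidHom.map_closure]
  congr 1
  ext y
  constructor
  · rintro ⟨⟨x, hx, rfl⟩, hxp⟩
    refine ⟨x, ⟨hx, ?_⟩, rfl⟩
    apply hf (K.pow_mem hx p) K.one_mem
    rw [map_pow, map_one]
    exact hxp
  · rintro ⟨x, ⟨hx, hxp⟩, rfl⟩
    exact ⟨⟨x, hx, rfl⟩, by rw [← map_pow, hxp, map_one]⟩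

end maps

section
variable {G : Type u} [Group G] [Finite G] {p : ℕ} [hp : Fact p.Prime]

theorem factorizable_iff_quotient :
    Cfsg.IsThompsonFactorizable p G ↔
      Cfsg.IsThompsonFactorizable p (G ⧸ Cfsg.pPrimeCore p G) := by
  classical
  obtain ⟨R, hR⟩ : ∃ R : Subgroup G, R = Cfsg.pPrimeCore p G := ⟨_, rfl⟩
  have hbot : Cfsg.pPrimeCore p (G ⧸ Cfsg.pPrimeCore p G) = ⊥ :=
    Cfsg.Agent.Lib.Lead.PStabQuot.pPrimeCore_quotient_eq_bot p
  have hRc : (Nat.card (Cfsg.pPrimeCore p G)).Coprime p :=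
    Cfsg.Agent.Lib.Helper6.pPrimeCore_coprime p
  have hsurj : Function.Surjective (QuotientGroup.mk' (Cfsg.pPrimeCore p G)) :=
    QuotientGroup.mk'_surjective _
  -- transport for a Sylow subgroup
  have key : ∀ S : Sylow p G,
      Subgroup.normalizer ((Cfsg.thompsonSubgroupOf p ((S.mapSurjective hsurj : Sylow p _) :
        Subgroup (G ⧸ Cfsg.pPrimeCore p G)) : Subgroup _) : Set _) =
        (Subgroup.normalizer (Cfsg.thompsonSubgroupOf p (S : Subgroup G) : Set G)).map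
          (QuotientGroup.mk' (Cfsg.pPrimeCore p G)) ∧
      Subgroup.centralizer ((Cfsg.omegaOne p (((S.mapSurjective hsurj : Sylow p _) :
        Subgroup (G ⧸ Cfsg.pPrimeCore p G)) ⊓ Subgroup.centralizer (((S.mapSurjective hsurj :
          Sylow p _) : Subgroup (G ⧸ Cfsg.pPrimeCore p G)) : Set _)) : Subgroup _) : Set _) =
        (Subgroup.centralizer (Cfsg.omegaOne p ((S : Subgroup G) ⊓
          Subgroup.centralizer ((S : Subgroup G) : Set G)) : Set G)).map
          (QuotientGroup.mk' (Cfsg.pPrimeCore p G)) := by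
    intro S
    have hinj := injOn_mk_of_coprime (Cfsg.pPrimeCore p G) hRc (S : Subgroup G) S.2
    rw [Sylow.coe_mapSurjective]
    constructor
    · rw [thompsonSubgroupOf_eq', thompsonSubgroupOf_eq', Jn_map p _ _ hinj]
      apply normalizer_map_mk _ hRc
      exact S.2.to_le (Jn_le p _)
    · have h1 : (S : Subgroup G).map (QuotientGroup.mk' (Cfsg.pPrimeCore p G)) ⊓
          Subgroup.centralizer (((S : Subgroup G).map
            (QuotientGroup.mk' (Cfsg.pPrimeCore p G)) : Subgroup _) : Set _) =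
          ((S : Subgroup G) ⊓ Subgroup.centralizer ((S : Subgroup G) : Set G)).map
            (QuotientGroup.mk' (Cfsg.pPrimeCore p G)) :=
        Zc_map_of_injOn _ (S : Subgroup G) hinj
      rw [h1, omegaOne_map_of_injOn p _ _ (hinj.mono inf_le_left)]
      apply centralizer_map_mk _ hRc
      exact S.2.to_le (le_trans (omegaOne_le p _) inf_le_left)
  constructor
  · intro h Sb gb
    obtain ⟨S, rfl⟩ := Sylow.mapSurjective_surjective hsurj p Sb
    obtain ⟨g, rfl⟩ := hsurj gb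
    obtain ⟨x, hx, c, hc, n, hn, rfl⟩ := h S g
    obtain ⟨hN, hC⟩ := key S
    refine ⟨1, Subgroup.one_mem _, QuotientGroup.mk' _ c, ?_, QuotientGroup.mk' _ n, ?_, ?_⟩
    · rw [hC]; exact ⟨c, hc, rfl⟩
    · rw [hN]; exact ⟨n, hn, rfl⟩
    · rw [map_mul, map_mul, one_mul]
      have : QuotientGroup.mk' (Cfsg.pPrimeCore p G) x = 1 := (QuotientGroup.eq_one_iff x).mpr hx
      rw [this, one_mul]
  · intro h S g
    obtain ⟨hN, hC⟩ := key S
    obtain ⟨xb, hxb, cb, hcb, nb, hnb, hg⟩ := h (S.mapSurjective hsurj) (QuotientGroup.mk' _ g)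
    rw [hbot, Subgroup.mem_bot] at hxb
    rw [hC] at hcb
    rw [hN] at hnb
    obtain ⟨c, hc, rfl⟩ := hcb
    obtain ⟨n, hn, rfl⟩ := hnb
    rw [hxb, one_mul, ← map_mul] at hg
    refine ⟨g * (c * n)⁻¹, ?_, c, hc, n, hn, by group⟩
    rw [← QuotientGroup.eq_one_iff, ← QuotientGroup.mk'_apply, map_mul, map_inv, hg, mul_inv_cancel]

end

end Cfsg.Agent.Lib.Lead.TFQuot
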