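import Mathlib
import Cfsg.Prelude.Def_PLocal
import Cfsg.Agent.Lib.Lead.Frattini

set_option autoImplicit false

/-!
# Regular `p`-groups: powers form a subgroup, commutators of power subgroups,
and Kemhadze's criterion
-/

namespace Cfsg.Agent.Lib.Lead.RegularP

open scoped commutatorElement

variable {G : Type*} [Group G]

/-- regularity at level `n` -/
def RegAt (p n : ℕ) (G : Type*) [Group G] : Prop :=
  ∀ a b : G, ∃ c ∈ Cfsg.powerClosure p n
      ⁅Subgroup.closure ({a, b} : Set G), Subgroup.closure ({a, b} : Set G)⁆,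
    (a * b) ^ (p ^ n) = a ^ (p ^ n) * b ^ (p ^ n) * c

theorem pow_mem_powerClosure (p n : ℕ) {H : Subgroup G} {x : G} (hx : x ∈ H) :
    x ^ (p ^ n) ∈ Cfsg.powerClosure p n H :=
  Subgroup.subset_closure ⟨x, hx, rfl⟩

theorem powerClosure_mono (p n : ℕ) {H K : Subgroup G} (h : H ≤ K) :
    Cfsg.powerClosure p n H ≤ Cfsg.powerClosure p n K := by
  apply Subgroup.closure_mono
  rintro y ⟨x, hx, rfl⟩
  exact ⟨x, h hx, rfl⟩

theorem powerClosure_le (p n : ℕ) (H : Subgroup G) : Cfsg.powerClosure p n H ≤ H := by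
  unfold Cfsg.powerClosure
  rw [Subgroup.closure_le]
  rintro y ⟨x, hx, rfl⟩
  exact H.pow_mem hx _

theorem conj_mem_powerClosure (p n : ℕ) {H : Subgroup G} {g : G}
    (hg : ∀ h ∈ H, g * h * g⁻¹ ∈ H) {z : G} (hz : z ∈ Cfsg.powerClosure p n H) :
    g * z * g⁻¹ ∈ Cfsg.powerClosure p n H := by
  unfold Cfsg.powerClosure at hz ⊢
  induction hz using Subgroup.closure_induction with
  | mem y hy =>
    obtain ⟨x, hx, rfl⟩ := hy
    rw [← conj_pow]
    exact Subgroup.subset_closure ⟨g * x * g⁻¹, hg x hx, rfl⟩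
  | one => simp
  | mul a b _ _ ha hb =>
    have : g * (a * b) * g⁻¹ = (g * a * g⁻¹) * (g * b * g⁻¹) := by group
    rw [this]
    exact mul_mem ha hb
  | inv a _ ha =>
    have : g * a⁻¹ * g⁻¹ = (g * a * g⁻¹)⁻¹ := by group
    rw [this]
    exact inv_mem ha

theorem conj_mem_commutator_self {H : Subgroup G} {h u : G} (hh : h ∈ H) (hu : u ∈ ⁅H, H⁆) :
    h * u * h⁻¹ ∈ ⁅H, H⁆ := by
  have h1 : ⁅h, u⁆ ∈ ⁅H, H⁆ :=
    Subgroup.commutator_mem_commutator hh (Subgroup.commutator_le_self H hu)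
  have : h * u * h⁻¹ = ⁅h, u⁆ * u := by rw [commutatorElement_def]; group
  rw [this]
  exact mul_mem h1 hu

theorem commutator_pow_mem {p n : ℕ} (hR : RegAt p n G) {H : Subgroup G} {x y : G}
    (hx : x ∈ H) (hy : y ∈ H) :
    ⁅x ^ (p ^ n), y⁆ ∈ Cfsg.powerClosure p n ⁅H, H⁆ := by
  obtain ⟨c, hc, hc'⟩ := hR ⁅y, x⁆ x
  have hyx : ⁅y, x⁆ ∈ ⁅H, H⁆ := Subgroup.commutator_mem_commutator hy hx
  have hK : Subgroup.closure ({⁅y, x⁆, x} : Set G) ≤ H := by
    rw [Subgroup.closure_le]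
    rintro z (rfl | rfl)
    · exact Subgroup.commutator_le_self H hyx
    · exact hx
  have hc2 : c ∈ Cfsg.powerClosure p n ⁅H, H⁆ :=
    powerClosure_mono p n (Subgroup.commutator_mono hK hK) hc
  have e1 : ⁅y, x⁆ * x = y * x * y⁻¹ := by rw [commutatorElement_def]; group
  have e3 : (y * x * y⁻¹) ^ (p ^ n) = ⁅y, x⁆ ^ (p ^ n) * x ^ (p ^ n) * c := by
    rw [← e1]; exact hc'
  have e4 : y * (x ^ (p ^ n))⁻¹ * y⁻¹ = ((y * x * y⁻¹) ^ (p ^ n))⁻¹ := by
    rw [conj_pow]; group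
  have e2 : ⁅x ^ (p ^ n), y⁆ =
      x ^ (p ^ n) * c⁻¹ * (x ^ (p ^ n))⁻¹ * (⁅y, x⁆⁻¹) ^ (p ^ n) := by
    rw [commutatorElement_def]
    calc x ^ (p ^ n) * y * (x ^ (p ^ n))⁻¹ * y⁻¹
        = x ^ (p ^ n) * (y * (x ^ (p ^ n))⁻¹ * y⁻¹) := by group
      _ = x ^ (p ^ n) * ((y * x * y⁻¹) ^ (p ^ n))⁻¹ := by rw [e4]
      _ = x ^ (p ^ n) * (⁅y, x⁆ ^ (p ^ n) * x ^ (p ^ n) * c)⁻¹ := by rw [e3]
      _ = x ^ (p ^ n) * c⁻¹ * (x ^ (p ^ n))⁻¹ * (⁅y, x⁆⁻¹) ^ (p ^ n) := by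
          rw [inv_pow]; group
  rw [e2]
  refine mul_mem ?_ ?_
  · exact conj_mem_powerClosure p n (H := ⁅H, H⁆) (g := x ^ (p ^ n))
      (fun h hh => conj_mem_commutator_self (H.pow_mem hx _) hh) (inv_mem hc2)
  · exact pow_mem_powerClosure p n (inv_mem hyx)

theorem commutator_powerClosure_le {p n : ℕ} (hR : RegAt p n G) (H : Subgroup G) :
    ⁅Cfsg.powerClosure p n H, Cfsg.powerClosure p n H⁆ ≤ Cfsg.powerClosure p n ⁅H, H⁆ := by
  rw [Subgroup.commutator_le]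
  intro a ha b hb
  have hbH : b ∈ H := powerClosure_le p n H hb
  have key : ∀ a ∈ Cfsg.powerClosure p n H, ⁅a, b⁆ ∈ Cfsg.powerClosure p n ⁅H, H⁆ := by
    intro a ha
    unfold Cfsg.powerClosure at ha
    induction ha using Subgroup.closure_induction with
    | mem z hz =>
      obtain ⟨x, hx, rfl⟩ := hz
      exact commutator_pow_mem hR hx hbH
    | one =>
      rw [commutatorElement_one_left]
      exact one_mem _
    | mul a₁ a₂ h₁ h₂ ih₁ ih₂ =>
      have e : ⁅a₁ * a₂, b⁆ = a₁ * ⁅a₂, b⁆ * a₁⁻¹ * ⁅a₁, b⁆ := by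
        simp only [commutatorElement_def]; group
      have ha₁ : a₁ ∈ H := powerClosure_le p n H h₁
      rw [e]
      refine mul_mem ?_ ih₁
      exact conj_mem_powerClosure p n (fun h hh => conj_mem_commutator_self ha₁ hh) ih₂
    | inv a₁ h₁ ih₁ =>
      have e : ⁅a₁⁻¹, b⁆ = a₁⁻¹ * ⁅a₁, b⁆⁻¹ * (a₁⁻¹)⁻¹ := by
        simp only [commutatorElement_def]; group
      have ha₁ : a₁⁻¹ ∈ H := inv_mem (powerClosure_le p n H h₁)
      rw [e]
      exact conj_mem_powerClosure p n (fun h hh => conj_mem_commutator_self ha₁ hh)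
        (inv_mem ih₁)
  exact key a ha

theorem exists_of_mem_powerClosure {p n : ℕ} {L : Subgroup G}
    (hcl : ∀ x ∈ L, ∀ y ∈ L, ∃ z ∈ L, x ^ (p ^ n) * y ^ (p ^ n) = z ^ (p ^ n)) {z : G}
    (hz : z ∈ Cfsg.powerClosure p n L) : ∃ u ∈ L, z = u ^ (p ^ n) := by
  unfold Cfsg.powerClosure at hz
  induction hz using Subgroup.closure_induction with
  | mem y hy => exact hy
  | one => exact ⟨1, one_mem _, (one_pow _).symm⟩
  | mul a b _ _ ha hb =>
    obtain ⟨u, hu, rfl⟩ := ha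
    obtain ⟨v, hv, rfl⟩ := hb
    obtain ⟨w, hw, e⟩ := hcl u hu v hv
    exact ⟨w, hw, e⟩
  | inv a _ ha =>
    obtain ⟨u, hu, rfl⟩ := ha
    exact ⟨u⁻¹, inv_mem hu, (inv_pow u _).symm⟩

/-- Frattini-type lemma inside a finite `p`-group -/
theorem le_of_le_sup_commutator' [Finite G] {p : ℕ} [Fact p.Prime] (hG : IsPGroup p G)
    (K L : Subgroup G) (hLK : L ≤ K) (h : K ≤ L ⊔ ⁅K, K⁆) : K ≤ L := by
  have hK : IsPGroup p K := hG.to_subgroup K
  have hsup : L.subgroupOf K ⊔ commutator K = ⊤ := by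
    apply Subgroup.map_injective K.subtype_injective
    rw [Subgroup.map_sup, Subgroup.subgroupOf_map_subtype, Subgroup.map_subtype_commutator,
      ← MonoidHom.range_eq_map, Subgroup.range_subtype, inf_eq_left.mpr hLK]
    exact le_antisymm (sup_le hLK (Subgroup.commutator_le_self K)) h
  have hfr : L.subgroupOf K ⊔ frattini K = ⊤ := by
    rw [eq_top_iff, ← hsup]
    exact sup_le_sup_left (Cfsg.Agent.Lib.Lead.commutator_le_frattini_of_isPGroup hK) _
  have := frattini_nongenerating hfr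
  exact Subgroup.subgroupOf_eq_top.mp this

theorem pow_closed_aux [Finite G] {p : ℕ} [Fact p.Prime] (hG : IsPGroup p G) {n : ℕ}
    (hR : RegAt p n G) :
    ∀ (k : ℕ) (H : Subgroup G), Nat.card H ≤ k → ∀ x ∈ H, ∀ y ∈ H,
      ∃ z ∈ H, x ^ (p ^ n) * y ^ (p ^ n) = z ^ (p ^ n) := by
  intro k
  induction k with
  | zero =>
    intro H hH
    have := Nat.card_pos (α := H)
    omega
  | succ k ih =>
    intro H hH x hx y hy
    have hKH : Subgroup.closure ({x, y} : Set G) ≤ H := by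
      rw [Subgroup.closure_le]
      rintro z (rfl | rfl)
      exacts [hx, hy]
    have hxK : x ∈ Subgroup.closure ({x, y} : Set G) := Subgroup.subset_closure (by simp)
    have hyK : y ∈ Subgroup.closure ({x, y} : Set G) := Subgroup.subset_closure (by simp)
    obtain ⟨c, hc, hc'⟩ := hR x y
    generalize Subgroup.closure ({x, y} : Set G) = K at *
    have hxyK : Subgroup.zpowers (x * y) ≤ K := by
      rw [Subgroup.zpowers_le]; exact mul_mem hxK hyK
    have hMK : Subgroup.zpowers (x * y) ⊔ ⁅K, K⁆ ≤ K :=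
      sup_le hxyK (Subgroup.commutator_le_self K)
    by_cases hKM : K ≤ Subgroup.zpowers (x * y) ⊔ ⁅K, K⁆
    · have hcyc : K ≤ Subgroup.zpowers (x * y) := le_of_le_sup_commutator' hG K _ hxyK hKM
      have hcomm : Commute x y := by
        obtain ⟨i, hi⟩ := Subgroup.mem_zpowers_iff.mp (hcyc hxK)
        obtain ⟨j, hj⟩ := Subgroup.mem_zpowers_iff.mp (hcyc hyK)
        have : Commute ((x * y) ^ i) ((x * y) ^ j) := (Commute.refl (x * y)).zpow_zpow i j
        rw [hi, hj] at this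
        exact this
      exact ⟨x * y, mul_mem hx hy, (hcomm.mul_pow _).symm⟩
    · have hcard : Nat.card ↥(Subgroup.zpowers (x * y) ⊔ ⁅K, K⁆) < Nat.card K := by
        by_contra hcon
        push Not at hcon
        have := Subgroup.eq_of_le_of_card_ge hMK hcon
        exact hKM this.ge
      have hKc : Nat.card K ≤ Nat.card H := Subgroup.card_le_of_le hKH
      have hMk : Nat.card ↥(Subgroup.zpowers (x * y) ⊔ ⁅K, K⁆) ≤ k := by omega
      have hK'k : Nat.card ↥⁅K, K⁆ ≤ k := le_trans (Subgroup.card_le_of_le le_sup_right) hMk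
      obtain ⟨d, hd, hd'⟩ := exists_of_mem_powerClosure (ih ⁅K, K⁆ hK'k) (inv_mem hc)
      have e : x ^ (p ^ n) * y ^ (p ^ n) = (x * y) ^ (p ^ n) * d ^ (p ^ n) := by
        rw [← hd', hc']; group
      obtain ⟨z, hz, hz'⟩ := ih _ hMk (x * y)
        ((le_sup_left : Subgroup.zpowers (x * y) ≤ _) (Subgroup.mem_zpowers _)) d
        ((le_sup_right : ⁅K, K⁆ ≤ Subgroup.zpowers (x * y) ⊔ ⁅K, K⁆) hd)
      exact ⟨z, hKH (hMK hz), e.trans hz'⟩

theorem pow_closed [Finite G] {p : ℕ} [Fact p.Prime] (hG : IsPGroup p G) {n : ℕ}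
    (hR : RegAt p n G) (H : Subgroup G) : ∀ x ∈ H, ∀ y ∈ H,
      ∃ z ∈ H, x ^ (p ^ n) * y ^ (p ^ n) = z ^ (p ^ n) :=
  pow_closed_aux hG hR _ H le_rfl

theorem powers_eq_powerClosure [Finite G] {p : ℕ} [Fact p.Prime] (hG : IsPGroup p G) {n : ℕ}
    (hR : RegAt p n G) (H : Subgroup G) :
    {y : G | ∃ x ∈ H, y = x ^ (p ^ n)} = (Cfsg.powerClosure p n H : Set G) := by
  apply Set.Subset.antisymm
  · exact Subgroup.subset_closure
  · intro z hz
    exact exists_of_mem_powerClosure (pow_closed hG hR H) hz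

theorem regAt_zero (p : ℕ) : RegAt p 0 G := by
  intro a b
  exact ⟨1, one_mem _, by simp⟩

theorem pow_pow_mem_succ (p n : ℕ) {H : Subgroup G} {u : G} (hu : u ∈ H) :
    (u ^ (p ^ n)) ^ p ∈ Cfsg.powerClosure p (n + 1) H := by
  rw [← pow_mul, ← pow_succ]
  exact pow_mem_powerClosure p (n + 1) hu

theorem regAt_succ [Finite G] {p : ℕ} [Fact p.Prime] (hG : IsPGroup p G)
    (h1 : ∀ a b : G, ∃ c ∈ ⁅Subgroup.closure ({a, b} : Set G),
      Subgroup.closure ({a, b} : Set G)⁆, (a * b) ^ p = a ^ p * b ^ p * c ^ p)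
    {n : ℕ} (hR : RegAt p n G) : RegAt p (n + 1) G := by
  intro a b
  have haK : a ∈ Subgroup.closure ({a, b} : Set G) := Subgroup.subset_closure (by simp)
  have hbK : b ∈ Subgroup.closure ({a, b} : Set G) := Subgroup.subset_closure (by simp)
  obtain ⟨c, hc, hc'⟩ := hR a b
  generalize Subgroup.closure ({a, b} : Set G) = K at *
  obtain ⟨d, hd, hd'⟩ := h1 (a ^ (p ^ n) * b ^ (p ^ n)) c
  obtain ⟨e, he, he'⟩ := h1 (a ^ (p ^ n)) (b ^ (p ^ n))
  have hPK : Cfsg.powerClosure p n ⁅K, K⁆ ≤ Cfsg.powerClosure p n K :=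
    powerClosure_mono p n (Subgroup.commutator_le_self K)
  have hII := commutator_powerClosure_le hR K
  have haq : a ^ (p ^ n) ∈ Cfsg.powerClosure p n K := pow_mem_powerClosure p n haK
  have hbq : b ^ (p ^ n) ∈ Cfsg.powerClosure p n K := pow_mem_powerClosure p n hbK
  have hdK : d ∈ Cfsg.powerClosure p n ⁅K, K⁆ := by
    apply hII
    have hle : Subgroup.closure ({a ^ (p ^ n) * b ^ (p ^ n), c} : Set G) ≤
        Cfsg.powerClosure p n K := by
      rw [Subgroup.closure_le]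
      rintro z (rfl | rfl)
      · exact mul_mem haq hbq
      · exact hPK hc
    exact Subgroup.commutator_mono hle hle hd
  have heK : e ∈ Cfsg.powerClosure p n ⁅K, K⁆ := by
    apply hII
    have hle : Subgroup.closure ({a ^ (p ^ n), b ^ (p ^ n)} : Set G) ≤
        Cfsg.powerClosure p n K := by
      rw [Subgroup.closure_le]
      rintro z (rfl | rfl)
      · exact haq
      · exact hbq
    exact Subgroup.commutator_mono hle hle he
  have hcl := pow_closed hG hR ⁅K, K⁆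
  obtain ⟨u, hu, hcu⟩ := exists_of_mem_powerClosure hcl hc
  obtain ⟨v, hv, hdv⟩ := exists_of_mem_powerClosure hcl hdK
  obtain ⟨w, hw, hew⟩ := exists_of_mem_powerClosure hcl heK
  refine ⟨(w ^ (p ^ n)) ^ p * (u ^ (p ^ n)) ^ p * (v ^ (p ^ n)) ^ p, ?_, ?_⟩
  · exact mul_mem (mul_mem (pow_pow_mem_succ p n hw) (pow_pow_mem_succ p n hu))
      (pow_pow_mem_succ p n hv)
  · calc (a * b) ^ (p ^ (n + 1)) = ((a * b) ^ (p ^ n)) ^ p := by rw [pow_succ, pow_mul]
      _ = (a ^ (p ^ n) * b ^ (p ^ n) * c) ^ p := by rw [hc']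
      _ = (a ^ (p ^ n) * b ^ (p ^ n)) ^ p * c ^ p * d ^ p := hd'
      _ = ((a ^ (p ^ n)) ^ p * (b ^ (p ^ n)) ^ p * e ^ p) * c ^ p * d ^ p := by rw [he']
      _ = a ^ (p ^ (n + 1)) * b ^ (p ^ (n + 1)) *
          ((w ^ (p ^ n)) ^ p * (u ^ (p ^ n)) ^ p * (v ^ (p ^ n)) ^ p) := by
        rw [pow_succ p n, pow_mul, pow_mul, ← hcu, ← hdv, ← hew]
        group

theorem regAt_all [Finite G] {p : ℕ} [Fact p.Prime] (hG : IsPGroup p G)
    (h1 : ∀ a b : G, ∃ c ∈ ⁅Subgroup.closure ({a, b} : Set G),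
      Subgroup.closure ({a, b} : Set G)⁆, (a * b) ^ p = a ^ p * b ^ p * c ^ p) :
    ∀ n, RegAt p n G := by
  intro n
  induction n with
  | zero => exact regAt_zero p
  | succ n ih => exact regAt_succ hG h1 ih

theorem regAt_of_regular {p : ℕ} (h : Cfsg.IsRegularPGroup p G) (n : ℕ) : RegAt p n G :=
  fun a b => h.2 a b n

theorem kemhadze [Finite G] {p : ℕ} [Fact p.Prime] (hG : IsPGroup p G) :
    Cfsg.IsRegularPGroup p G ↔ ∀ a b : G, ∃ c ∈ ⁅Subgroup.closure ({a, b} : Set G),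
      Subgroup.closure ({a, b} : Set G)⁆, (a * b) ^ p = a ^ p * b ^ p * c ^ p := by
  constructor
  · intro h a b
    have hR := regAt_of_regular h 1
    obtain ⟨c, hc, hc'⟩ := hR a b
    obtain ⟨d, hd, rfl⟩ := exists_of_mem_powerClosure (pow_closed hG hR _) hc
    refine ⟨d, hd, ?_⟩
    simpa using hc'
  · intro h1
    exact ⟨hG, fun a b n => regAt_all hG h1 n a b⟩

theorem power_subgroups [Finite G] {p : ℕ} [Fact p.Prime] (h : Cfsg.IsRegularPGroup p G)
    (H : Subgroup G) (n : ℕ) :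
    {y : G | ∃ x ∈ H, y = x ^ (p ^ n)} = (Cfsg.powerClosure p n H : Set G) ∧
      ⁅Cfsg.powerClosure p n H, Cfsg.powerClosure p n H⁆ ≤ Cfsg.powerClosure p n ⁅H, H⁆ :=
  ⟨powers_eq_powerClosure h.1 (regAt_of_regular h n) H,
    commutator_powerClosure_le (regAt_of_regular h n) H⟩

end Cfsg.Agent.Lib.Lead.RegularP
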