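import Mathlib
import Cfsg.Agent.Lib.Lead.CarveS1

set_option autoImplicit false

namespace Cfsg.Agent.Lib.Carve

open Module Polynomial

universe u

theorem S4.geom_modEq (q n : ℕ) (hq2 : 2 ≤ q) : (q ^ n - 1) / (q - 1) ≡ n [MOD (q - 1)] := by
  rw [← Nat.geomSum_eq hq2]
  have : ∀ k : ℕ, q ^ k ≡ 1 [MOD (q - 1)] := by
    intro k
    have h1 : q ≡ 1 [MOD (q - 1)] :=
      ((Nat.modEq_iff_dvd' (by omega : 1 ≤ q)).mpr (dvd_refl _)).symm
    simpa using h1.pow k
  calc ∑ k ∈ Finset.range n, q ^ k ≡ ∑ _k ∈ Finset.range n, 1 [MOD (q - 1)] := by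
        apply Nat.ModEq.sum
        intro k _
        exact this k
    _ = n := by simp

/-- the arithmetic core: `(q-1) M ∣ (q-1)^2 j ↔ M / gcd n (q-1) ∣ j` for `M = (q^n-1)/(q-1)` -/
theorem S4.arith (q n j : ℕ) (hq2 : 2 ≤ q) :
    (q ^ n - 1) ∣ (q - 1) * j * (q - 1) ↔
      (q ^ n - 1) / ((q - 1) * Nat.gcd n (q - 1)) ∣ j := by
  set M := (q ^ n - 1) / (q - 1) with hM
  have hMq : q ^ n - 1 = (q - 1) * M := by
    rw [hM, Nat.mul_div_cancel' (Nat.sub_one_dvd_pow_sub_one q n)]
  have hq1 : 0 < q - 1 := by omega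
  have hgcd : Nat.gcd M (q - 1) = Nat.gcd n (q - 1) := (S4.geom_modEq q n hq2).gcd_eq
  set g := Nat.gcd n (q - 1) with hg
  have hg0 : 0 < g := Nat.gcd_pos_of_pos_right _ hq1
  have hgM : g ∣ M := hgcd ▸ Nat.gcd_dvd_left M (q - 1)
  have hgq : g ∣ q - 1 := Nat.gcd_dvd_right _ _
  rw [← Nat.div_div_eq_div_mul, ← hM, hMq, mul_assoc, Nat.mul_dvd_mul_iff_left hq1]
  obtain ⟨a, ha⟩ := hgM
  obtain ⟨b, hb⟩ := hgq
  have hcop : Nat.Coprime a b := by
    have h1 : Nat.gcd M (q - 1) = g * Nat.gcd a b := by rw [ha, hb, Nat.gcd_mul_left]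
    rw [hgcd] at h1
    have : g * Nat.gcd a b = g * 1 := by rw [← h1, mul_one]
    exact Nat.eq_of_mul_eq_mul_left hg0 this
  rw [ha, hb, Nat.mul_div_cancel_left _ hg0, mul_comm j, mul_assoc, Nat.mul_dvd_mul_iff_left hg0]
  exact hcop.dvd_mul_left

/-- S4: the Singer cycle of `SL_n(q)` modulo scalars. -/
theorem S4.exists_singer {F : Type u} [Field F] [Fintype F] (n : ℕ) (hn : 1 ≤ n) :
    ∃ (W : Type u) (_ : AddCommGroup W) (_ : Module F W) (_ : FiniteDimensional F W)
      (T : Module.End F W), finrank F W = n ∧ LinearMap.det T = 1 ∧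
      ∀ j : ℕ, (∃ c : F, T ^ j = c • 1) ↔
        (Fintype.card F ^ n - 1) / ((Fintype.card F - 1) * Nat.gcd n (Fintype.card F - 1)) ∣ j := by
  classical
  obtain ⟨p, hpc⟩ := CharP.exists F
  have hpp : Fact p.Prime := ⟨CharP.char_is_prime F p⟩
  have hnz : NeZero n := ⟨by omega⟩
  obtain ⟨q, hq⟩ : ∃ q, q = Fintype.card F := ⟨_, rfl⟩
  rw [← hq]
  have hq2 : 2 ≤ q := hq ▸ Fintype.one_lt_card
  have hfr : finrank F (FiniteField.Extension F p n) = n := FiniteField.finrank_extension F p n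
  have hcard : Nat.card (FiniteField.Extension F p n) = q ^ n := by
    rw [FiniteField.natCard_extension, Nat.card_eq_fintype_card, hq]
  have : Fintype (FiniteField.Extension F p n) := Fintype.ofFinite _
  obtain ⟨γ, hγ⟩ := IsCyclic.exists_generator (α := (FiniteField.Extension F p n)ˣ)
  have hord : orderOf γ = q ^ n - 1 := by
    rw [orderOf_eq_card_of_forall_mem_zpowers hγ, Nat.card_units, hcard]
  have hqn : q - 1 ∣ q ^ n - 1 := Nat.sub_one_dvd_pow_sub_one q n
  -- the element `β`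
  set β : FiniteField.Extension F p n := ((γ ^ (q - 1) : (FiniteField.Extension F p n)ˣ) :
    FiniteField.Extension F p n) with hβ
  have hβpow : ∀ j : ℕ, (β ^ j) ^ (q - 1) = 1 ↔ (q ^ n - 1) ∣ (q - 1) * j * (q - 1) := by
    intro j
    rw [hβ, ← Units.val_pow_eq_pow_val, ← Units.val_pow_eq_pow_val, Units.val_eq_one, ← pow_mul,
      ← pow_mul, ← hord, orderOf_dvd_iff_pow_eq_one, mul_assoc]
  -- membership in the base field
  have hmem : ∀ j : ℕ, (∃ c : F, algebraMap F (FiniteField.Extension F p n) c = β ^ j) ↔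
      (β ^ j) ^ (q - 1) = 1 := by
    intro j
    constructor
    · rintro ⟨c, hc⟩
      have hc0 : c ≠ 0 := by
        rintro rfl
        rw [map_zero] at hc
        have : β ^ j ≠ 0 := by
          rw [hβ, ← Units.val_pow_eq_pow_val]
          exact Units.ne_zero _
        exact this hc.symm
      rw [← hc, ← map_pow, hq, FiniteField.pow_card_sub_one_eq_one c hc0, map_one]
    · intro h
      rw [hq] at h
      exact S1.mem_range_of_pow_eq_one h
  -- the norm
  have hnorm : Algebra.norm F β = 1 := by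
    apply (algebraMap F (FiniteField.Extension F p n)).injective
    rw [FiniteField.algebraMap_norm_eq_pow, map_one, hcard, Nat.card_eq_fintype_card, ← hq, hβ,
      ← Units.val_pow_eq_pow_val, Units.val_eq_one, ← pow_mul, Nat.mul_div_cancel' hqn, ← hord,
      pow_orderOf_eq_one]
  -- transport to `Fin n → F`
  let e : FiniteField.Extension F p n ≃ₗ[F] (Fin n → F) :=
    LinearEquiv.ofFinrankEq _ _ (by rw [hfr, finrank_fin_fun])
  refine ⟨Fin n → F, inferInstance, inferInstance, inferInstance,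
    e.conjAlgEquiv F (Algebra.lmul F (FiniteField.Extension F p n) β), finrank_fin_fun F, ?_, ?_⟩
  · rw [LinearEquiv.conjAlgEquiv_apply, LinearMap.det_conj]
    exact hnorm
  · intro j
    rw [← S4.arith q n j hq2, ← hβpow, ← hmem, ← map_pow, ← map_pow]
    constructor
    · rintro ⟨c, hc⟩
      refine ⟨c, ?_⟩
      have h1 : e.conjAlgEquiv F (Algebra.lmul F (FiniteField.Extension F p n) (β ^ j)) =
          e.conjAlgEquiv F (Algebra.lmul F (FiniteField.Extension F p n) (algebraMap F _ c)) := by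
        rw [hc, AlgHom.commutes, AlgEquiv.commutes, Algebra.algebraMap_eq_smul_one]
      exact (Algebra.lmul_injective ((e.conjAlgEquiv F).injective h1)).symm
    · rintro ⟨c, hc⟩
      refine ⟨c, ?_⟩
      rw [← hc, AlgHom.commutes, AlgEquiv.commutes, Algebra.algebraMap_eq_smul_one]

end Cfsg.Agent.Lib.Carve
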