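import Mathlib
import Cfsg.Agent.Lib.Helper5.WrP3
import Cfsg.Agent.Lib.Helper3.SylAbGen
import Cfsg.Agent.Lib.Helper2.IsoLin

set_option autoImplicit false

/-!
S4629-31 swarm, package PK-TT: transfer from a Sylow `2`-subgroup `S` of `G` to all Sylow
`2`-subgroups of `commutator G`, and along group isomorphisms.
-/

open scoped commutatorElement Pointwise
open Cfsg.Agent.Lib.Helper5.WrP

namespace Cfsg.Agent.Lib.Helper5.OmSyl

theorem sylow_transfer {G : Type*} [Group G] [Finite G] (S : Subgroup G)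
    (hS : Nat.card S = 2 ^ padicValNat 2 (Nat.card G))
    (h : SqDer (S ⊓ commutator G)) (P : Sylow 2 ↥(commutator G)) :
    ∀ x : ↥(P : Subgroup ↥(commutator G)), x ^ 2 ∈ commutator ↥(P : Subgroup ↥(commutator G)) := by
  have : Fact (Nat.Prime 2) := ⟨Nat.prime_two⟩
  rw [← Cfsg.Agent.Lib.Helper3.SylAb.genSq_iff_commutator]
  obtain ⟨Q, hQ⟩ := P.exists_comap_subtype_eq
  have hS' : Nat.card S = 2 ^ (Nat.card G).factorization 2 := by
    rw [Nat.factorization_def _ Nat.prime_two]
    exact hS
  obtain ⟨g, hg⟩ := MulAction.exists_smul_eq G (Sylow.ofCard S hS') Q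
  apply Cfsg.Agent.Lib.Helper3.SylAb.GenSq.of_map (commutator G).subtype
    (Subgroup.subtype_injective _)
  have e : (P : Subgroup ↥(commutator G)).map (commutator G).subtype
      = (S ⊓ commutator G).map (MulAut.conj g).toMonoidHom := by
    have hP : (P : Subgroup ↥(commutator G)) = (Q : Subgroup G).comap (commutator G).subtype := by
      rw [← hQ]
    rw [hP, Subgroup.map_comap_eq, Subgroup.range_subtype, ← hg]
    ext x
    constructor
    · rintro ⟨hxN, hxQ⟩
      have hxQ' : x ∈ MulAut.conj g • S := hxQ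
      rw [Subgroup.mem_pointwise_smul_iff_inv_smul_mem] at hxQ'
      refine ⟨(MulAut.conj g)⁻¹ • x, ⟨hxQ', ?_⟩, ?_⟩
      · have : (MulAut.conj g)⁻¹ • x = g⁻¹ * x * g := by
          rw [← map_inv, MulAut.smul_def, MulAut.conj_apply, inv_inv]
        rw [this]
        have hn : (commutator G).Normal := inferInstance
        have := hn.conj_mem x hxN g⁻¹
        rwa [inv_inv] at this
      · show (MulAut.conj g) ((MulAut.conj g)⁻¹ • x) = x
        rw [MulAut.smul_def, MulAut.apply_inv_self]
    · rintro ⟨s, ⟨hsS, hsN⟩, rfl⟩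
      refine ⟨?_, ?_⟩
      · show (MulAut.conj g) s ∈ commutator G
        rw [MulAut.conj_apply]
        have hn : (commutator G).Normal := inferInstance
        exact hn.conj_mem s hsN g
      · show (MulAut.conj g) s ∈ MulAut.conj g • S
        exact Subgroup.smul_mem_pointwise_smul s (MulAut.conj g) S hsS
  rw [e]
  exact Cfsg.Agent.Lib.Helper3.SylAb.GenSq.map h _

theorem transfer_iso {G H : Type*} [Group G] [Group H] (e : G ≃* H)
    (h : ∀ P : Sylow 2 ↥(commutator H), ∀ x : ↥(P : Subgroup ↥(commutator H)),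
      x ^ 2 ∈ commutator ↥(P : Subgroup ↥(commutator H))) :
    ∀ P : Sylow 2 ↥(commutator G), ∀ x : ↥(P : Subgroup ↥(commutator G)),
      x ^ 2 ∈ commutator ↥(P : Subgroup ↥(commutator G)) := by
  intro P
  rw [← Cfsg.Agent.Lib.Helper3.SylAb.genSq_iff_commutator]
  set ε : ↥(commutator G) ≃* ↥(commutator H) := Cfsg.Agent.Lib.Helper2.IsoLin.commutatorEquiv e
    with hε
  have hrange : (P : Subgroup ↥(commutator G)) ≤ ε.symm.toMonoidHom.range := by
    rw [MonoidHom.range_eq_top.2 ε.symm.surjective]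
    exact le_top
  set Q : Sylow 2 ↥(commutator H) :=
    P.comapOfInjective ε.symm.toMonoidHom ε.symm.injective hrange with hQ
  have hQc : (Q : Subgroup ↥(commutator H)) =
      (P : Subgroup ↥(commutator G)).comap ε.symm.toMonoidHom := rfl
  have h1 : Cfsg.Agent.Lib.Helper3.SylAb.GenSq (Q : Subgroup ↥(commutator H)) :=
    (Cfsg.Agent.Lib.Helper3.SylAb.genSq_iff_commutator _).2 (h Q)
  have h2 := h1.map ε.symm.toMonoidHom
  rw [hQc, Subgroup.map_comap_eq_self_of_surjective ε.symm.surjective] at h2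
  exact h2

end Cfsg.Agent.Lib.Helper5.OmSyl
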