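/-
S5658 PK-FIELD (lead): pure field theory for the unitary subfield-group argument.
-/
import Mathlib
import Cfsg.Agent.Lib.Helper5.SUf.Defs2

set_option autoImplicit false

namespace Cfsg.Agent.Lib.Helper5.SUf

open Matrix Cfsg.Agent.Lib.Helper7.Subf

variable {F : Type*} [Field F] {n : ℕ} {F₀ : Subfield F} {σ : F ≃+* F}
  {J : Matrix (Fin n) (Fin n) F}

namespace PkField

/-- the `|F₀|`-power map is a ring endomorphism -/
theorem exists_tau [Finite F] (F₀ : Subfield F) : ∃ τ : F →+* F, ∀ x, τ x = x ^ Nat.card F₀ := by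
  classical
  cases nonempty_fintype F
  have : Fintype F₀ := Fintype.ofFinite _
  obtain ⟨p, hp⟩ := CharP.exists ↥F₀
  have : Fact p.Prime := ⟨CharP.char_is_prime ↥F₀ p⟩
  obtain ⟨k, _, hk⟩ := FiniteField.card ↥F₀ p
  have : CharP F p := charP_of_injective_algebraMap (algebraMap ↥F₀ F).injective p
  refine ⟨iterateFrobenius F p k, fun x => ?_⟩
  rw [iterateFrobenius_def, Nat.card_eq_fintype_card, hk]

theorem one_lt_card [Finite F] (F₀ : Subfield F) : 1 < Nat.card F₀ := by
  have : Fintype F₀ := Fintype.ofFinite _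
  rw [Nat.card_eq_fintype_card]
  exact Fintype.one_lt_card

end PkField

open PkField

/-- `F₀` is the fixed field of the `|F₀|`-power map -/
theorem mem_iff_pow_card [Finite F] (F₀ : Subfield F) (x : F) : x ∈ F₀ ↔ x ^ Nat.card F₀ = x := by
  classical
  cases nonempty_fintype F
  have : Fintype F₀ := Fintype.ofFinite _
  constructor
  · intro hx
    have := FiniteField.pow_card (⟨x, hx⟩ : F₀)
    rw [Nat.card_eq_fintype_card]
    exact congrArg Subtype.val this
  · intro hx
    set q := Nat.card F₀ with hq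
    have hq1 : 1 < q := one_lt_card F₀
    let p : Polynomial F := Polynomial.X ^ q - Polynomial.X
    have hp0 : p ≠ 0 := FiniteField.X_pow_card_sub_X_ne_zero F hq1
    have hdeg : p.natDegree = q := FiniteField.X_pow_card_sub_X_natDegree_eq F hq1
    let S : Finset F := (Finset.univ : Finset F₀).map ⟨Subtype.val, Subtype.val_injective⟩
    have hS : S.card = q := by
      rw [Finset.card_map, Finset.card_univ, hq, Nat.card_eq_fintype_card]
    have hroot : ∀ y : F, y ∈ p.roots.toFinset ↔ y ^ q = y := by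
      intro y
      rw [Multiset.mem_toFinset, Polynomial.mem_roots hp0]
      show Polynomial.IsRoot (Polynomial.X ^ q - Polynomial.X) y ↔ _
      rw [Polynomial.IsRoot.def, Polynomial.eval_sub, Polynomial.eval_pow, Polynomial.eval_X, sub_eq_zero]
    have hsub : S ⊆ p.roots.toFinset := by
      intro y hy
      obtain ⟨⟨y', hy'⟩, -, rfl⟩ := Finset.mem_map.mp hy
      rw [hroot]
      have := FiniteField.pow_card (⟨y', hy'⟩ : F₀)
      rw [hq, Nat.card_eq_fintype_card]
      exact congrArg Subtype.val this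
    have hcard : p.roots.toFinset.card ≤ S.card := by
      rw [hS, ← hdeg]
      exact (Multiset.toFinset_card_le _).trans (Polynomial.card_roots' p)
    have hEq := Finset.eq_of_subset_of_card_le hsub hcard
    have hxS : x ∈ S := by
      rw [hEq, hroot]; exact hx
    obtain ⟨⟨y', hy'⟩, -, rfl⟩ := Finset.mem_map.mp hxS
    exact hy'

/-- a rational non-zero trace-zero element -/
theorem exists_eps (hU : USet F₀ σ J) : ∃ ε ∈ F₀, ε ≠ 0 ∧ σ ε = -ε := by
  obtain ⟨c, hc, hne⟩ := hU.nontriv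
  refine ⟨c - σ c, F₀.sub_mem hc (hU.stable c hc), sub_ne_zero.mpr (Ne.symm hne), ?_⟩
  rw [map_sub, hU.invol]; ring

/-- first trace lemma -/
theorem trace_lemma_add [Finite F] (hU : USet F₀ σ J) (z : F)
    (h : ∀ c ∈ F₀, c * z + σ (c * z) ∈ F₀) : z ∈ F₀ := by
  obtain ⟨τ, hτ⟩ := exists_tau F₀
  have hτF : ∀ c ∈ F₀, τ c = c := fun c hc => by rw [hτ]; exact (mem_iff_pow_card F₀ c).mp hc
  have hτσ : ∀ x, τ (σ x) = σ (τ x) := fun x => by rw [hτ, hτ, map_pow]
  set d := τ z - z with hd
  have key : ∀ c ∈ F₀, c * d + σ (c * d) = 0 := by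
    intro c hc
    have h1 := hτF _ (h c hc)
    rw [map_add, hτσ, map_mul, hτF c hc] at h1
    rw [hd, mul_sub, map_sub]
    linear_combination h1
  have h1 := key 1 F₀.one_mem
  rw [one_mul] at h1
  have hσd : σ d = -d := by linear_combination h1
  obtain ⟨c, hc, hne⟩ := hU.nontriv
  have h2 := key c hc
  rw [map_mul, hσd] at h2
  have h3 : (c - σ c) * d = 0 := by linear_combination h2
  rcases mul_eq_zero.mp h3 with h4 | h4
  · exact absurd (sub_eq_zero.mp h4).symm hne
  · rw [mem_iff_pow_card, ← hτ]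
    exact sub_eq_zero.mp h4

/-- second trace lemma (same proof) -/
theorem trace_lemma_sub [Finite F] (hU : USet F₀ σ J) (z : F)
    (h : ∀ c ∈ F₀, σ (c * z) - c * z ∈ F₀) : z ∈ F₀ := by
  obtain ⟨τ, hτ⟩ := exists_tau F₀
  have hτF : ∀ c ∈ F₀, τ c = c := fun c hc => by rw [hτ]; exact (mem_iff_pow_card F₀ c).mp hc
  have hτσ : ∀ x, τ (σ x) = σ (τ x) := fun x => by rw [hτ, hτ, map_pow]
  set d := τ z - z with hd
  have key : ∀ c ∈ F₀, σ (c * d) - c * d = 0 := by
    intro c hc
    have h1 := hτF _ (h c hc)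
    rw [map_sub, hτσ, map_mul, hτF c hc] at h1
    rw [hd, mul_sub, map_sub]
    linear_combination h1
  have h1 := key 1 F₀.one_mem
  rw [one_mul] at h1
  have hσd : σ d = d := by linear_combination h1
  obtain ⟨c, hc, hne⟩ := hU.nontriv
  have h2 := key c hc
  rw [map_mul, hσd] at h2
  have h3 : (σ c - c) * d = 0 := by linear_combination h2
  rcases mul_eq_zero.mp h3 with h4 | h4
  · exact absurd (sub_eq_zero.mp h4) hne
  · rw [mem_iff_pow_card, ← hτ]
    exact sub_eq_zero.mp h4

/-- the trace `t ↦ t + σ t` of `F₀` is onto the `σ`-fixed elements of `F₀`. -/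
theorem exists_trace_rat (hU : USet F₀ σ J) {c : F} (hc : c ∈ F₀) (hσ : σ c = c) :
    ∃ t ∈ F₀, t + σ t = c := by
  obtain ⟨μ, hμ, hμ0⟩ : ∃ μ ∈ F₀, μ + σ μ ≠ 0 := by
    by_cases h2 : (2 : F) = 0
    · obtain ⟨c₀, hc₀, hne⟩ := hU.nontriv
      refine ⟨c₀, hc₀, ?_⟩
      intro h
      apply hne
      have : σ c₀ - c₀ = (c₀ + σ c₀) - 2 * c₀ := by ring
      have h3 : σ c₀ - c₀ = 0 := by rw [this, h, h2]; ring
      exact sub_eq_zero.mp h3
    · refine ⟨1, F₀.one_mem, ?_⟩
      rw [map_one]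
      intro h
      apply h2
      rw [← h]; ring
  set δ := μ + σ μ with hδ
  have hδF : δ ∈ F₀ := F₀.add_mem hμ (hU.stable μ hμ)
  have hσδ : σ δ = δ := by rw [hδ, map_add, hU.invol]; ring
  refine ⟨c * μ / δ, F₀.div_mem (F₀.mul_mem hc hμ) hδF, ?_⟩
  rw [map_div₀, map_mul, hσ, hσδ]
  field_simp
  rw [hδ]

/-- additive Hilbert 90 in `F`. -/
theorem exists_sub_of_trace_zero (hU : USet F₀ σ J) {a : F} (ha : σ a = -a) :
    ∃ s : F, σ s - s = a := by
  obtain ⟨θ, -, hne⟩ := hU.nontriv
  set δ := σ θ - θ with hδ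
  have hδ0 : δ ≠ 0 := sub_ne_zero.mpr hne
  have hσδ : σ δ = -δ := by rw [hδ, map_sub, hU.invol]; ring
  refine ⟨θ * a / δ, ?_⟩
  rw [map_div₀, map_mul, ha, hσδ]
  field_simp
  rw [hδ]

/-- odd degree: square roots of elements of `F₀` lie in `F₀`. -/
theorem mem_of_sq_mem [Fintype F] (F₀ : Subfield F) (r : ℕ) (hro : Odd r)
    (hcard : Fintype.card F = Nat.card F₀ ^ r) {x : F} (hx : x * x ∈ F₀) : x ∈ F₀ := by
  set q := Nat.card F₀ with hq
  have hsq : (x ^ q) * (x ^ q) = x * x := by
    rw [← mul_pow]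
    exact (mem_iff_pow_card F₀ _).mp hx
  rcases mul_self_eq_mul_self_iff.mp hsq with h | h
  · exact (mem_iff_pow_card F₀ x).mpr h
  · have hneg : ((-1 : F)) ^ q = -1 := (mem_iff_pow_card F₀ _).mp (F₀.neg_mem F₀.one_mem)
    have hiter : ∀ k : ℕ, x ^ (q ^ k) = (-1) ^ k * x := by
      intro k
      induction k with
      | zero => simp
      | succ k ih =>
        rw [pow_succ, pow_mul, ih, mul_pow, h, ← pow_mul, mul_comm k q, pow_mul, hneg, pow_succ]
        ring
    have hr := hiter r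
    rw [← hcard, FiniteField.pow_card, hro.neg_one_pow] at hr
    rw [mem_iff_pow_card, h]
    linear_combination (-1 : F) * hr

/-- a non-rational trace-zero element. -/
theorem exists_trace_zero_not_mem [Finite F] (hU : USet F₀ σ J) (hne : ∃ z : F, z ∉ F₀) :
    ∃ a : F, σ a = -a ∧ a ∉ F₀ := by
  by_contra hcon
  push Not at hcon
  obtain ⟨z, hz⟩ := hne
  apply hz
  apply trace_lemma_sub hU
  intro c _
  apply hcon
  rw [map_sub, hU.invol]; ring

/-- the field generated by a `σ`-fixed element is `σ`-fixed -/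
theorem sigma_eq_of_mem_closure {lam : F} (h : σ lam = lam) :
    ∀ c ∈ Subfield.closure ({lam} : Set F), σ c = c := by
  intro c hc
  have hle : Subfield.closure ({lam} : Set F) ≤
      (σ : F →+* F).eqLocusField (RingHom.id F) := by
    rw [Subfield.closure_le]
    intro y hy
    rw [Set.mem_singleton_iff] at hy
    subst hy
    exact h
  exact hle hc

end Cfsg.Agent.Lib.Helper5.SUf
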