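/-
S5658 PK-GEN (lead): case `AllRoot`: every unitary transvection lies in `M`.
-/
import Mathlib
import Cfsg.Agent.Lib.Helper5.SUf.Defs2
import Cfsg.Agent.Lib.Helper5.SUf.Geo2

set_option autoImplicit false
set_option linter.unusedVariables false

namespace Cfsg.Agent.Lib.Helper5.SUf

open Matrix Cfsg.Agent.Lib.Helper7.Subf

variable {F : Type*} [Field F] {n : ℕ} {F₀ : Subfield F} {σ : F ≃+* F}
  {J : Matrix (Fin n) (Fin n) F}
variable {M : Subgroup (GL (Fin n) F)}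

namespace PkGen

theorem bf_sum_left {ι : Type*} (S : Finset ι) (v : ι → Fin n → F) (y : Fin n → F) :
    bf σ J (∑ j ∈ S, v j) y = ∑ j ∈ S, bf σ J (v j) y := by
  unfold bf
  rw [dotProduct_sum]

theorem tu_zero_vec (a : F) : tu σ J a (0 : Fin n → F) = 1 := by
  ext i j
  simp [tu, tvm]

/-- one step: remove a multiple of a rational isotropic vector orthogonal to the pair -/
theorem step (hU : USet F₀ σ J) (hA : AllRoot F₀ σ J M) {u₁ f₁ : Fin n → F} (hu : Rat F₀ u₁)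
    (huu : bf σ J u₁ u₁ = 0) (huf : bf σ J u₁ f₁ = 1)
    {w : Fin n → F} (hw : Rat F₀ w) (hww : bf σ J w w = 0) (hwu : bf σ J w u₁ = 0)
    (hwf : bf σ J w f₁ = 0) (c : F) (x : Fin n → F) (hx : bf σ J x u₁ = 1) :
    ∃ A, Mm M A ∧ ∃ t : F, A *ᵥ x = x + t • u₁ - c • w := by
  by_cases hw0 : w = 0
  · refine ⟨1, Mm.one M, 0, ?_⟩
    rw [hw0, Matrix.one_mulVec, zero_smul, smul_zero, add_zero, sub_zero]
  · have hind : Indep u₁ w :=
      Indep.symm (indep_of_bf (σ := σ) (J := J) (u := w) (w := u₁) (z := f₁) hw0 hwf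
        (by rw [huf]; exact one_ne_zero))
    have hTIP : TIP F₀ σ J u₁ w := ⟨hu, hw, huu, hww, hU.bf_eq_zero_symm hwu, hind⟩
    refine ⟨eu σ J (σ c) u₁ w, hA.1 _ _ _ hTIP, σ c * bf σ J x w, ?_⟩
    rw [eu_mulVec, hU.invol, hx, mul_one]

/-- clearing a whole sum -/
theorem clear (hU : USet F₀ σ J) (hA : AllRoot F₀ σ J M) {u₁ f₁ : Fin n → F} (hu : Rat F₀ u₁)
    (huu : bf σ J u₁ u₁ = 0) (huf : bf σ J u₁ f₁ = 1) {ι : Type*} (S : Finset ι) (c : ι → F)
    (w : ι → Fin n → F)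
    (hw : ∀ j, Rat F₀ (w j) ∧ bf σ J (w j) (w j) = 0 ∧ bf σ J (w j) u₁ = 0 ∧ bf σ J (w j) f₁ = 0) :
    ∀ x, bf σ J x u₁ = 1 →
      ∃ A, Mm M A ∧ ∃ t : F, A *ᵥ x = x + t • u₁ - ∑ j ∈ S, c j • w j := by
  classical
  induction S using Finset.induction_on with
  | empty =>
    intro x _
    exact ⟨1, Mm.one M, 0, by simp⟩
  | insert j S hj ih =>
    intro x hx
    obtain ⟨A, hA1, t, hAx⟩ := ih x hx
    have hx' : bf σ J (A *ᵥ x) u₁ = 1 := by
      rw [hAx, bf_sub_left, bf_add_left, bf_smul_left, huu, mul_zero, add_zero, hx, bf_sum_left]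
      have : ∑ j ∈ S, bf σ J (c j • w j) u₁ = 0 := by
        refine Finset.sum_eq_zero fun j _ => ?_
        rw [bf_smul_left, (hw j).2.2.1, mul_zero]
      rw [this, sub_zero]
    obtain ⟨B, hB1, t', hBx⟩ :=
      step hU hA hu huu huf (hw j).1 (hw j).2.1 (hw j).2.2.1 (hw j).2.2.2 (c j) (A *ᵥ x) hx'
    refine ⟨B * A, hB1.mul hA1, t + t', ?_⟩
    rw [← Matrix.mulVec_mulVec, hBx, hAx, Finset.sum_insert hj, add_smul]
    abel

/-- the normalised case: `bf x u₁ = 1` -/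
theorem norm_case [Finite F] (hn : 13 ≤ n) (hU : USet F₀ σ J) (hM : MIso σ J M)
    (hA : AllRoot F₀ σ J M) {u₁ f₁ : Fin n → F} (hu : Rat F₀ u₁)
    (huu : bf σ J u₁ u₁ = 0) (hf : Rat F₀ f₁) (hff : bf σ J f₁ f₁ = 0) (huf : bf σ J u₁ f₁ = 1)
    (a : F) (x : Fin n → F) (ha : σ a = -a) (hxx : bf σ J x x = 0) (hxu : bf σ J x u₁ = 1) :
    Mm M (tu σ J a x) := by
  classical
  have hfu : bf σ J f₁ u₁ = 1 := by rw [hU.bf_symm, huf, map_one]
  set α := bf σ J x f₁ with hα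
  set x₁ : Fin n → F := x - α • u₁ - f₁ with hx₁
  have hx₁u : bf σ J x₁ u₁ = 0 := by
    rw [hx₁, bf_sub_left, bf_sub_left, bf_smul_left, huu, hxu, hfu]; ring
  have hx₁f : bf σ J x₁ f₁ = 0 := by
    rw [hx₁, bf_sub_left, bf_sub_left, bf_smul_left, huf, hff, ← hα]; ring
  -- the rational projections of the basis vectors
  let y : Fin n → Fin n → F := fun i =>
    Pi.single i 1 - bf σ J (Pi.single i 1) u₁ • f₁ - bf σ J (Pi.single i 1) f₁ • u₁
  have hsingle : ∀ i, Rat F₀ (Pi.single i (1 : F) : Fin n → F) := fun i =>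
    Rat.single F₀ i F₀.one_mem
  have hy : ∀ i, Rat F₀ (y i) := fun i =>
    ((hsingle i).sub (Rat.smul (hU.bf_rat (hsingle i) hu) hf)).sub
      (Rat.smul (hU.bf_rat (hsingle i) hf) hu)
  have hyu : ∀ i, bf σ J (y i) u₁ = 0 := by
    intro i
    show bf σ J (_ - _ - _) u₁ = 0
    rw [bf_sub_left, bf_sub_left, bf_smul_left, bf_smul_left, huu, hfu]; ring
  have hyf : ∀ i, bf σ J (y i) f₁ = 0 := by
    intro i
    show bf σ J (_ - _ - _) f₁ = 0
    rw [bf_sub_left, bf_sub_left, bf_smul_left, bf_smul_left, huf, hff]; ring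
  have hbfsingle : ∀ (i : Fin n) (z : Fin n → F), bf σ J (Pi.single i 1) z = fl σ J z i := by
    intro i z
    rw [bf, dotProduct_single, mul_one]
  have hx₁sum : x₁ = ∑ i, x₁ i • y i := by
    have h1 : ∑ i, x₁ i • (Pi.single i (1 : F) : Fin n → F) = x₁ := by
      funext k
      rw [Finset.sum_apply]
      simp [Pi.single_apply]
    have h2 : ∑ i, x₁ i * bf σ J (Pi.single i 1) u₁ = 0 := by
      rw [← hx₁u, bf, dotProduct]
      refine Finset.sum_congr rfl fun i _ => ?_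
      rw [hbfsingle, mul_comm]
    have h3 : ∑ i, x₁ i * bf σ J (Pi.single i 1) f₁ = 0 := by
      rw [← hx₁f, bf, dotProduct]
      refine Finset.sum_congr rfl fun i _ => ?_
      rw [hbfsingle, mul_comm]
    show x₁ = ∑ i, x₁ i • (Pi.single i 1 - bf σ J (Pi.single i 1) u₁ • f₁ -
      bf σ J (Pi.single i 1) f₁ • u₁)
    simp only [smul_sub, smul_smul, Finset.sum_sub_distrib, ← Finset.sum_smul]
    rw [h1, h2, h3, zero_smul, zero_smul, sub_zero, sub_zero]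
  -- the isotropic decomposition
  choose w hw hyw using fun i => iso_span hn hU (hy i) hu hf (hyu i) (hyf i)
  have hx₁sum' : x₁ = ∑ p : Fin n × Fin 3, x₁ p.1 • w p.1 p.2 := by
    rw [Fintype.sum_prod_type]
    conv_lhs => rw [hx₁sum]
    refine Finset.sum_congr rfl fun i _ => ?_
    rw [Fin.sum_univ_three, hyw i, smul_add, smul_add]
  obtain ⟨A, hA1, t, hAx⟩ := clear hU hA hu huu huf (Finset.univ : Finset (Fin n × Fin 3))
    (fun p => x₁ p.1) (fun p => w p.1 p.2) (fun p => hw p.1 p.2) x hxu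
  rw [← hx₁sum'] at hAx
  set α' := α + t with hα'
  have hAx' : A *ᵥ x = α' • u₁ + f₁ := by
    rw [hAx, hx₁, hα', add_smul]; abel
  obtain ⟨gA, hgA, hgAe⟩ := hA1
  have hgAi : IsoU σ J (gA : Matrix (Fin n) (Fin n) F) := (hM gA hgA).1
  have hiso : bf σ J (α' • u₁ + f₁) (α' • u₁ + f₁) = 0 := by
    rw [← hAx', ← hgAe, hgAi, hxx]
  have hσα' : σ α' = -α' := by
    rw [bf_add_left, bf_add_right, bf_add_right, bf_smul_left, bf_smul_left, bf_smul_right,
      bf_smul_right, huu, huf, hfu, hff] at hiso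
    linear_combination hiso
  have htu : Mm M (tu σ J (-α') u₁) := hA.2 _ _ (by rw [map_neg, hσα']) hu huu
  have hBx : (tu σ J (-α') u₁ * A) *ᵥ x = f₁ := by
    rw [← Matrix.mulVec_mulVec, hAx', tu_mulVec, bf_add_left, bf_smul_left, huu, hfu, mul_zero,
      zero_add, mul_one, neg_smul]
    abel
  obtain ⟨gB, hgB, hgBe⟩ := htu.mul ⟨gA, hgA, hgAe⟩
  rw [← hgBe] at hBx
  have hgBi : IsoU σ J (gB : Matrix (Fin n) (Fin n) F) := (hM gB hgB).1
  have hxB : x = ((gB⁻¹ : GL (Fin n) F) : Matrix (Fin n) (Fin n) F) *ᵥ f₁ := by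
    rw [← hBx, Matrix.mulVec_mulVec, ← Units.val_mul, inv_mul_cancel, Units.val_one,
      Matrix.one_mulVec]
  rw [hxB]
  exact mm_conj_tu (M.inv_mem hgB) hgBi.inv (hA.2 a f₁ ha hf hff)

end PkGen

open PkGen

theorem case_one [Finite F] (hn : 13 ≤ n) (hU : USet F₀ σ J) (hM : MIso σ J M)
    (hN : HasNIso F₀ σ J M) (hA : AllRoot F₀ σ J M) :
    ∀ (a : F) (x : Fin n → F), σ a = -a → bf σ J x x = 0 → Mm M (tu σ J a x) := by
  intro a x ha hxx
  by_cases hx0 : x = 0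
  · rw [hx0, tu_zero_vec]; exact Mm.one M
  obtain ⟨u₁, hu, huu, hxu⟩ := exists_iso_bf_ne hn hU hx0
  have hu0 : u₁ ≠ 0 := by
    rintro rfl
    exact hxu (bf_zero_right x)
  obtain ⟨f₁, hf, hff, huf⟩ := exists_partner hU hu hu0 huu
  set c := bf σ J x u₁ with hc
  have hxc : x = c • (c⁻¹ • x) := by rw [smul_smul, mul_inv_cancel₀ hxu, one_smul]
  rw [hxc, tu_smul]
  apply norm_case hn hU hM hA hu huu hf hff huf
  · rw [map_mul, map_mul, ha, hU.invol]; ring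
  · rw [bf_smul_left, bf_smul_right, hxx, mul_zero, mul_zero]
  · rw [bf_smul_left, ← hc, inv_mul_cancel₀ hxu]

end Cfsg.Agent.Lib.Helper5.SUf
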