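/-
S5658 PK-NK part a (lead): rank one perturbations of the identity in `N`.
-/
import Mathlib
import Cfsg.Agent.Lib.Helper5.SUf.Defs2

set_option autoImplicit false

namespace Cfsg.Agent.Lib.Helper5.SUf

open Matrix Cfsg.Agent.Lib.Helper7.Subf

variable {F : Type*} [Field F] {n : ℕ} {F₀ : Subfield F} {σ : F ≃+* F}
  {J : Matrix (Fin n) (Fin n) F}
variable {M : Subgroup (GL (Fin n) F)}

namespace PkNK

theorem tvm_apply (a : F) (x φ : Fin n → F) (i j : Fin n) :
    tvm a x φ i j = (if i = j then 1 else 0) + a * (x i * φ j) := by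
  unfold tvm
  rw [Matrix.add_apply, Matrix.smul_apply, vecMulVec_apply, Matrix.one_apply, smul_eq_mul]

end PkNK

open PkNK

theorem ratMat_of_inN_tvm (hn : 3 ≤ n) {a : F} {x φ : Fin n → F} (h : InN F₀ (tvm a x φ)) :
    RatMat F₀ (tvm a x φ) := by
  obtain ⟨c, hc0, hc⟩ := h
  have hX : ∀ i j, c * ((if i = j then 1 else 0) + a * (x i * φ j)) ∈ F₀ := by
    intro i j
    have := hc i j
    rwa [Matrix.smul_apply, tvm_apply, smul_eq_mul] at this
  have hXoff : ∀ i j, i ≠ j → c * (a * (x i * φ j)) ∈ F₀ := by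
    intro i j hij
    have := hX i j
    rwa [if_neg hij, zero_add] at this
  have hXd : ∀ i, c + c * (a * (x i * φ i)) ∈ F₀ := by
    intro i
    have := hX i i
    rwa [if_pos rfl, mul_add, mul_one] at this
  -- it suffices that `c` is rational
  suffices hcF : c ∈ F₀ by
    intro i j
    have h1 := hc i j
    rw [Matrix.smul_apply, smul_eq_mul] at h1
    have h2 : tvm a x φ i j = c⁻¹ * (c * tvm a x φ i j) := by
      rw [← mul_assoc, inv_mul_cancel₀ hc0, one_mul]
    rw [h2]
    exact F₀.mul_mem (F₀.inv_mem hcF) h1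
  by_cases hoff : ∃ j k : Fin n, j ≠ k ∧ c * (a * (x j * φ k)) ≠ 0
  · obtain ⟨j, k, hjk, hne⟩ := hoff
    obtain ⟨i, hij, hik⟩ := Fin.exists_ne_and_ne_of_two_lt j k (by omega)
    have key : (c * (a * (x i * φ i))) * (c * (a * (x j * φ k))) =
        (c * (a * (x i * φ k))) * (c * (a * (x j * φ i))) := by ring
    have h1 : c * (a * (x i * φ i)) =
        (c * (a * (x i * φ k))) * (c * (a * (x j * φ i))) / (c * (a * (x j * φ k))) := by
      rw [eq_div_iff hne, key]
    have h2 : c * (a * (x i * φ i)) ∈ F₀ := by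
      rw [h1]
      exact F₀.div_mem (F₀.mul_mem (hXoff i k hik) (hXoff j i (Ne.symm hij))) (hXoff j k hjk)
    have := F₀.sub_mem (hXd i) h2
    rwa [add_sub_cancel_right] at this
  · push Not at hoff
    have h01 : (⟨0, by omega⟩ : Fin n) ≠ ⟨1, by omega⟩ := by
      intro h
      have := congrArg Fin.val h
      simp at this
    set i0 : Fin n := ⟨0, by omega⟩ with hi0
    set i1 : Fin n := ⟨1, by omega⟩ with hi1
    have key : (c * (a * (x i0 * φ i0))) * (c * (a * (x i1 * φ i1))) =
        (c * (a * (x i0 * φ i1))) * (c * (a * (x i1 * φ i0))) := by ring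
    rw [hoff i0 i1 h01, zero_mul] at key
    rcases mul_eq_zero.mp key with h | h
    · have := hXd i0
      rwa [h, add_zero] at this
    · have := hXd i1
      rwa [h, add_zero] at this

theorem exists_smul_rat_of_ratMat_tvm {a : F} {x φ : Fin n → F} (ha : a ≠ 0) (hφ : φ ≠ 0)
    (h : RatMat F₀ (tvm a x φ)) : ∃ (l : F) (v : Fin n → F), Rat F₀ v ∧ x = l • v := by
  obtain ⟨j, hj⟩ : ∃ j, φ j ≠ 0 := by
    by_contra hcon
    push Not at hcon
    exact hφ (funext hcon)
  have hR : ∀ i, a * (x i * φ j) ∈ F₀ := by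
    intro i
    have := h i j
    rw [tvm_apply] at this
    by_cases hij : i = j
    · rw [if_pos hij] at this
      have h2 := F₀.sub_mem this F₀.one_mem
      rwa [add_sub_cancel_left] at h2
    · rwa [if_neg hij, zero_add] at this
  refine ⟨(a * φ j)⁻¹, fun i => a * (x i * φ j), hR, ?_⟩
  funext i
  rw [Pi.smul_apply, smul_eq_mul]
  field_simp

end Cfsg.Agent.Lib.Helper5.SUf
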