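/-
S5658 PK-NK (lead): the no-kernel property under `LRat`.
-/
import Mathlib
import Cfsg.Agent.Lib.Helper5.SUf.Defs2
import Cfsg.Agent.Lib.Lead.SUf_Field
import Cfsg.Agent.Lib.Lead.SUf_NKa
import Cfsg.Agent.Lib.Helper8.SUf_SL3b

set_option autoImplicit false

namespace Cfsg.Agent.Lib.Helper5.SUf

open Matrix Cfsg.Agent.Lib.Helper7.Subf

variable {F : Type*} [Field F] {n : ℕ} {F₀ : Subfield F} {σ : F ≃+* F}
  {J : Matrix (Fin n) (Fin n) F}
variable {M : Subgroup (GL (Fin n) F)}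

theorem nku [Finite F] (hn : 13 ≤ n) (hU : USet F₀ σ J) (hM : MIso σ J M)
    (hN : HasNIso F₀ σ J M) (hL : LRat F₀ σ J M) : NKU F₀ σ J M := by
  intro g hg hgN v u hv hu hv0 hu0 hvv huu hbf
  apply hgN
  obtain ⟨ε, hεF, hε0, hεσ⟩ := exists_eps hU
  have hgi : IsoU σ J (g : Matrix (Fin n) (Fin n) F) := (hM g hg).1
  have hgi' : IsoU σ J ((g⁻¹ : GL (Fin n) F) : Matrix (Fin n) (Fin n) F) := hgi.inv
  have hg' : g⁻¹ ∈ M := M.inv_mem hg
  set w : Fin n → F := ((g⁻¹ : GL (Fin n) F) : Matrix (Fin n) (Fin n) F) *ᵥ u with hw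
  -- `g (g⁻¹ u) = u`
  have hgw : (g : Matrix (Fin n) (Fin n) F) *ᵥ w = u := by
    rw [hw, Matrix.mulVec_mulVec, ← Units.val_mul, mul_inv_cancel, Units.val_one, Matrix.one_mulVec]
  have hw0 : w ≠ 0 := by
    intro h
    apply hu0
    rw [← hgw, h, Matrix.mulVec_zero]
  have hww : bf σ J w w = 0 := by rw [hw, hgi', huu]
  have hvw : bf σ J v w = 0 := by
    rw [← hgi v w, hgw]; exact hbf
  -- the element `x = tu ε w ∈ M`
  have hxM : Mm M (tu σ J ε w) :=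
    mm_conj_tu hg' hgi' (hN.hasRatIso.mm_tu hU hεF hεσ hu huu)
  obtain ⟨xg, hxg, hxe⟩ := hxM
  have hxv : (xg : Matrix (Fin n) (Fin n) F) *ᵥ v = (1 : F) • v := by
    rw [hxe, tu_mulVec, hvw, mul_zero, zero_smul, add_zero, one_smul]
  have hxN : InN F₀ (xg : Matrix (Fin n) (Fin n) F) :=
    stab_inN hn hU hM hN hL xg hxg hv hv hv0 hvv one_ne_zero hxv
  rw [hxe] at hxN
  have hxR : RatMat F₀ (tvm ε w (fl σ J w)) := ratMat_of_inN_tvm (by omega) hxN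
  have hfl : fl σ J w ≠ 0 := by
    intro h
    apply hw0
    apply hU.eq_zero_of_bf_left
    intro y
    rw [bf, h, zero_dotProduct]
  obtain ⟨l, v', hv', hwl⟩ := exists_smul_rat_of_ratMat_tvm hε0 hfl hxR
  have hl0 : l ≠ 0 := by
    intro h
    apply hw0
    rw [hwl, h, zero_smul]
  have hginv : InN F₀ ((g⁻¹ : GL (Fin n) F) : Matrix (Fin n) (Fin n) F) :=
    stab_inN hn hU hM hN hL g⁻¹ hg' hu hv' hu0 huu hl0 (hw.symm.trans hwl)
  have := inN_inv F₀ g⁻¹ hginv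
  rwa [inv_inv] at this

end Cfsg.Agent.Lib.Helper5.SUf
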