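import Mathlib
import Cfsg.Agent.Lib.Lead.SchDefs
/-!
# S4395, package F2 = KAPPA (ALTERNATIVE copy, unused: the swarm uses Helper8.SchBound; separate namespace to avoid clashes): the commutator form and `|C| ≤ #{alternating invariant forms}` (lead)
-/

set_option autoImplicit false
universe u
namespace Cfsg.Agent.Lib.Lead.SchKappaAlt
open Cfsg.Agent.Lib.Lead.Sch


theorem card_dual_zmod {A : Type u} [AddCommGroup A] [Finite A] (p : ℕ) [Fact p.Prime] [Module (ZMod p) A] :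
    Nat.card (A →ₗ[ZMod p] ZMod p) = Nat.card A := by
  have : Module.Finite (ZMod p) A := Module.Finite.of_finite
  have h1 := Module.natCard_eq_pow_finrank (K := ZMod p) (V := Module.Dual (ZMod p) A)
  have h2 := Module.natCard_eq_pow_finrank (K := ZMod p) (V := A)
  rw [Subspace.dual_finrank_eq] at h1
  exact h1.trans h2.symm

theorem card_addHom_zmod_aux {A : Type u} [AddCommGroup A] [Finite A] (p : ℕ) [Fact p.Prime] [Module (ZMod p) A] :
    Nat.card (A →+ ZMod p) = Nat.card A := by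
  have e : (A →+ ZMod p) ≃ (A →ₗ[ZMod p] ZMod p) :=
    { toFun := fun f => f.toZModLinearMap p
      invFun := fun f => f.toAddMonoidHom
      left_inv := fun f => by ext; rfl
      right_inv := fun f => by ext; rfl }
  rw [Nat.card_congr e]
  exact card_dual_zmod p

/-- the number of additive characters `A → ZMod p` of a finite elementary abelian `p`-group is `|A|`. -/
theorem card_addHom_zmod {A : Type u} [AddCommGroup A] [Finite A] (p : ℕ) [Fact p.Prime]
    (hA : ∀ a : A, p • a = 0) : Nat.card (A →+ ZMod p) = Nat.card A :=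
  @card_addHom_zmod_aux A _ _ p _ (AddCommGroup.zmodModule hA)

theorem card_monoidHom_zmod {A : Type u} [CommGroup A] [Finite A] (p : ℕ) [Fact p.Prime]
    (hA : ∀ a : A, a ^ p = 1) : Nat.card (A →* Multiplicative (ZMod p)) = Nat.card A := by
  rw [Nat.card_congr (MonoidHom.toAdditiveLeft (α := A) (β := ZMod p))]
  have := card_addHom_zmod (A := Additive A) p (fun a => by
    show Additive.ofMul (a.toMul ^ p) = 0
    rw [hA]; rfl)
  exact this


theorem card_monoidHom_zmod' {A : Type u} [Group A] [Finite A] (p : ℕ) [Fact p.Prime]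
    (hcomm : ∀ a b : A, a * b = b * a) (hA : ∀ a : A, a ^ p = 1) :
    Nat.card (A →* Multiplicative (ZMod p)) = Nat.card A := by
  letI : CommGroup A := { ‹Group A› with mul_comm := hcomm }
  exact card_monoidHom_zmod p hA

section Kappa
variable {P V : Type u} [Group P] [AddCommGroup V]

theorem kap_comm_mem (C : Subgroup P) (π : P →* Multiplicative V) (hker : ∀ u : P, π u = 1 ↔ u ∈ C)
    (u v : P) : u * v * u⁻¹ * v⁻¹ ∈ C := by
  rw [← hker, map_mul, map_mul, map_mul, map_inv, map_inv]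
  rw [mul_comm (π u) (π v), mul_inv_cancel_right, mul_inv_cancel]

theorem kap_pow_mem (p q : ℕ) (T : V ≃+ V) (hV : IrrMod p q V T) (C : Subgroup P) (π : P →* Multiplicative V)
    (hker : ∀ u : P, π u = 1 ↔ u ∈ C) (u : P) : u ^ p ∈ C := by
  rw [← hker, map_pow]
  show Multiplicative.ofAdd (p • (π u).toAdd) = 1
  rw [hV.exp]; rfl

/-- in a group whose commutators lie in `ker h` (`h` defined on a central subgroup `C`), `x ↦ h (x^n)` is multiplicative. -/
theorem kap_pow_mul {M : Type*} [CommGroup M] (C : Subgroup P) (hCZ : C ≤ Subgroup.center P)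
    (h : ↥C →* M)
    (hcomm : ∀ u v : P, u * v * u⁻¹ * v⁻¹ ∈ C)
    (hh : ∀ u v : P, h ⟨u * v * u⁻¹ * v⁻¹, hcomm u v⟩ = 1)
    (n : ℕ) (u v : P) (hu : u ^ n ∈ C) (hv : v ^ n ∈ C) (huv : (u * v) ^ n ∈ C) :
    h ⟨(u * v) ^ n, huv⟩ = h ⟨u ^ n, hu⟩ * h ⟨v ^ n, hv⟩ := by
  -- K = image of ker h in P
  let K : Subgroup P := (h.ker).map C.subtype
  have hKC : K ≤ C := by
    rintro x ⟨c, -, rfl⟩; exact c.2
  have hKn : K.Normal := by
    refine ⟨fun x hx g => ?_⟩
    have hxc := Subgroup.mem_center_iff.1 (hCZ (hKC hx)) g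
    have : g * x * g⁻¹ = x := by rw [hxc, mul_inv_cancel_right]
    rw [this]; exact hx
  have hKmem : ∀ a b : P, a * b * a⁻¹ * b⁻¹ ∈ K := fun a b =>
    ⟨⟨a * b * a⁻¹ * b⁻¹, hcomm a b⟩, MonoidHom.mem_ker.2 (hh a b), rfl⟩
  have hcm : Commute (QuotientGroup.mk (s := K) u) (QuotientGroup.mk (s := K) v) := by
    show (QuotientGroup.mk (s := K) u) * (QuotientGroup.mk (s := K) v) = QuotientGroup.mk (s := K) v * QuotientGroup.mk (s := K) u
    rw [← QuotientGroup.mk_mul, ← QuotientGroup.mk_mul]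
    apply QuotientGroup.eq.2
    have := hKmem v⁻¹ u⁻¹
    rw [inv_inv, inv_inv] at this
    rw [mul_inv_rev, ← mul_assoc]
    exact this
  have e1 : (QuotientGroup.mk (s := K) ((u * v) ^ n)) = QuotientGroup.mk (s := K) (u ^ n * v ^ n) := by
    rw [QuotientGroup.mk_pow, QuotientGroup.mk_mul, hcm.mul_pow, QuotientGroup.mk_mul, QuotientGroup.mk_pow,
      QuotientGroup.mk_pow]
  have e2 : (u ^ n * v ^ n)⁻¹ * (u * v) ^ n ∈ K := QuotientGroup.eq.1 e1.symm
  obtain ⟨k, hk, hk'⟩ := e2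
  have e3 : (⟨(u * v) ^ n, huv⟩ : ↥C) = ⟨u ^ n, hu⟩ * ⟨v ^ n, hv⟩ * k := by
    apply Subtype.ext
    show (u * v) ^ n = u ^ n * v ^ n * (k : P)
    have : (k : P) = (u ^ n * v ^ n)⁻¹ * (u * v) ^ n := hk'
    rw [this, mul_inv_cancel_left]
  rw [e3, map_mul, map_mul, MonoidHom.mem_ker.1 hk, mul_one]

/-- Lemma A: a character of `C` killing all commutators is trivial. -/
theorem kappa_kills [Finite V] (p q : ℕ) [Fact p.Prime] (T : V ≃+ V) (hV : IrrMod p q V T)
    (C : Subgroup P) (hCZ : C ≤ Subgroup.center P) (hCexp : ∀ c ∈ C, c ^ p = 1)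
    (π : P →* Multiplicative V) (hπ : Function.Surjective π) (hker : ∀ u : P, π u = 1 ↔ u ∈ C)
    (α : P ≃* P) (hα : ∀ u : P, π (α u) = Multiplicative.ofAdd (T (Multiplicative.toAdd (π u))))
    (hαC : ∀ c ∈ C, α c = c)
    (hgen : C ≤ Subgroup.closure ({x : P | ∃ u : P, x = u ^ p} ∪ {x : P | ∃ u v : P, x = u * v * u⁻¹ * v⁻¹}))
    (h : ↥C →* Multiplicative (ZMod p))
    (hh : ∀ u v : P, h ⟨u * v * u⁻¹ * v⁻¹, kap_comm_mem C π hker u v⟩ = 1) (c : ↥C) : h c = 1 := by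
  have hcomm := kap_comm_mem C π hker
  have hpow := kap_pow_mem p q T hV C π hker
  -- the hom Q
  let Q : P →* Multiplicative (ZMod p) :=
    { toFun := fun u => h ⟨u ^ p, hpow u⟩
      map_one' := by
        have : (⟨(1 : P) ^ p, hpow 1⟩ : ↥C) = 1 := Subtype.ext (one_pow p)
        show h ⟨(1 : P) ^ p, hpow 1⟩ = 1
        rw [this, map_one]
      map_mul' := fun u v => kap_pow_mul C hCZ h hcomm hh p u v (hpow u) (hpow v) (hpow (u * v)) }
  have hQ : ∀ u, Q u = h ⟨u ^ p, hpow u⟩ := fun u => rfl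
  have hQC : ∀ x ∈ C, Q x = 1 := by
    intro x hx
    have : (⟨x ^ p, hpow x⟩ : ↥C) = 1 := Subtype.ext (hCexp x hx)
    rw [hQ, this, map_one]
  have hQα : ∀ u, Q (α u) = Q u := by
    intro u
    have : (⟨(α u) ^ p, hpow (α u)⟩ : ↥C) = ⟨u ^ p, hpow u⟩ := by
      apply Subtype.ext
      show (α u) ^ p = u ^ p
      rw [← map_pow]; exact hαC _ (hpow u)
    rw [hQ, hQ, this]
  -- the invariant subgroup W
  let W : AddSubgroup V :=
    { carrier := {v | ∃ u, π u = Multiplicative.ofAdd v ∧ Q u = 1}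
      add_mem' := by
        rintro v w ⟨u, hu, hu'⟩ ⟨u₂, hu₂, hu₂'⟩
        exact ⟨u * u₂, by rw [map_mul, hu, hu₂]; rfl, by rw [map_mul, hu', hu₂', mul_one]⟩
      zero_mem' := ⟨1, by rw [map_one]; rfl, map_one _⟩
      neg_mem' := by
        rintro v ⟨u, hu, hu'⟩
        exact ⟨u⁻¹, by rw [map_inv, hu]; rfl, by rw [map_inv, hu', inv_one]⟩ }
  have hWT : ∀ w ∈ W, T w ∈ W := by
    rintro w ⟨u, hu, hu'⟩
    refine ⟨α u, ?_, by rw [hQα, hu']⟩
    rw [hα, hu]; rfl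
  have hQall : ∀ u, Q u = 1 := by
    rcases hV.irr W hWT with hW | hW
    · exfalso
      obtain ⟨v, hv⟩ := hV.ne_one
      obtain ⟨u, hu⟩ := hπ (Multiplicative.ofAdd v)
      have hmem : T v - v ∈ W := by
        refine ⟨α u * u⁻¹, ?_, by rw [map_mul, map_inv, hQα, mul_inv_cancel]⟩
        rw [map_mul, map_inv, hα, hu, sub_eq_add_neg]; rfl
      rw [hW, AddSubgroup.mem_bot, sub_eq_zero] at hmem
      exact hv hmem
    · intro u
      have hmem : Multiplicative.toAdd (π u) ∈ W := by rw [hW]; trivial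
      obtain ⟨u', hu', hQu'⟩ := hmem
      have hc : u'⁻¹ * u ∈ C := by
        rw [← hker, map_mul, map_inv, hu']
        exact inv_mul_cancel _
      have : u = u' * (u'⁻¹ * u) := by rw [mul_inv_cancel_left]
      rw [this, map_mul, hQu', hQC _ hc, mul_one]
  -- conclude by closure induction
  have key : ∀ x ∈ Subgroup.closure ({x : P | ∃ u : P, x = u ^ p} ∪ {x : P | ∃ u v : P, x = u * v * u⁻¹ * v⁻¹}),
      ∃ hx : x ∈ C, h ⟨x, hx⟩ = 1 := by
    intro x hx
    induction hx using Subgroup.closure_induction with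
    | mem x hx =>
      rcases hx with ⟨u, rfl⟩ | ⟨u, v, rfl⟩
      · exact ⟨hpow u, hQall u⟩
      · exact ⟨hcomm u v, hh u v⟩
    | one => exact ⟨C.one_mem, map_one h⟩
    | mul x y _ _ hx hy =>
      obtain ⟨hx, hx'⟩ := hx
      obtain ⟨hy, hy'⟩ := hy
      refine ⟨C.mul_mem hx hy, ?_⟩
      have : (⟨x * y, C.mul_mem hx hy⟩ : ↥C) = ⟨x, hx⟩ * ⟨y, hy⟩ := rfl
      rw [this, map_mul, hx', hy', mul_one]
    | inv x _ hx =>
      obtain ⟨hx, hx'⟩ := hx
      refine ⟨C.inv_mem hx, ?_⟩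
      have : (⟨x⁻¹, C.inv_mem hx⟩ : ↥C) = (⟨x, hx⟩ : ↥C)⁻¹ := rfl
      rw [this, map_inv, hx', inv_one]
  obtain ⟨_, hc⟩ := key c (hgen c.2)
  exact hc

/-- commutator of a central element -/
theorem kap_comm_central_left (C : Subgroup P) (hCZ : C ≤ Subgroup.center P) (c v : P) (hc : c ∈ C) :
    c * v * c⁻¹ * v⁻¹ = 1 := by
  have := Subgroup.mem_center_iff.1 (hCZ hc) v
  rw [← this, mul_inv_cancel_right, mul_inv_cancel]

theorem kap_comm_mul_left (C : Subgroup P) (hCZ : C ≤ Subgroup.center P)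
    (hcomm : ∀ u v : P, u * v * u⁻¹ * v⁻¹ ∈ C) (u u' v : P) :
    (u * u') * v * (u * u')⁻¹ * v⁻¹ = (u' * v * u'⁻¹ * v⁻¹) * (u * v * u⁻¹ * v⁻¹) := by
  have hc := Subgroup.mem_center_iff.1 (hCZ (hcomm u' v)) u
  calc (u * u') * v * (u * u')⁻¹ * v⁻¹ = u * (u' * v * u'⁻¹ * v⁻¹) * (v * u⁻¹ * v⁻¹) := by group
    _ = (u' * v * u'⁻¹ * v⁻¹) * u * (v * u⁻¹ * v⁻¹) := by rw [hc]
    _ = _ := by group

theorem kap_comm_mul_right (C : Subgroup P) (hCZ : C ≤ Subgroup.center P)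
    (hcomm : ∀ u v : P, u * v * u⁻¹ * v⁻¹ ∈ C) (u v v' : P) :
    u * (v * v') * u⁻¹ * (v * v')⁻¹ = (u * v * u⁻¹ * v⁻¹) * (u * v' * u⁻¹ * v'⁻¹) := by
  have hc := Subgroup.mem_center_iff.1 (hCZ (hcomm u v')) v⁻¹
  calc u * (v * v') * u⁻¹ * (v * v')⁻¹ = u * v * u⁻¹ * ((u * v' * u⁻¹ * v'⁻¹) * v⁻¹) := by group
    _ = u * v * u⁻¹ * (v⁻¹ * (u * v' * u⁻¹ * v'⁻¹)) := by rw [hc]
    _ = _ := by group

/-- Lemma B: the commutator form `f ∘ κ`. -/
theorem kappa_form (p : ℕ) (T : V ≃+ V)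
    (C : Subgroup P) (hCZ : C ≤ Subgroup.center P)
    (π : P →* Multiplicative V) (hπ : Function.Surjective π) (hker : ∀ u : P, π u = 1 ↔ u ∈ C)
    (α : P ≃* P) (hα : ∀ u : P, π (α u) = Multiplicative.ofAdd (T (Multiplicative.toAdd (π u))))
    (hαC : ∀ c ∈ C, α c = c) (f : ↥C →* Multiplicative (ZMod p)) :
    ∃ β : V →+ V →+ ZMod p, (∀ v, β v v = 0) ∧ (∀ v w, β (T v) (T w) = β v w) ∧
      ∀ u v : P, β (Multiplicative.toAdd (π u)) (Multiplicative.toAdd (π v)) =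
        Multiplicative.toAdd (f ⟨u * v * u⁻¹ * v⁻¹, kap_comm_mem C π hker u v⟩) := by
  have hcomm := kap_comm_mem C π hker
  let κ : P → P → ZMod p := fun u v => Multiplicative.toAdd (f ⟨u * v * u⁻¹ * v⁻¹, hcomm u v⟩)
  have hκ : ∀ u v, κ u v = Multiplicative.toAdd (f ⟨u * v * u⁻¹ * v⁻¹, hcomm u v⟩) := fun _ _ => rfl
  have κ_mul_left : ∀ u u' v, κ (u * u') v = κ u v + κ u' v := by
    intro u u' v
    have : (⟨(u * u') * v * (u * u')⁻¹ * v⁻¹, hcomm (u * u') v⟩ : ↥C) =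
        ⟨u' * v * u'⁻¹ * v⁻¹, hcomm u' v⟩ * ⟨u * v * u⁻¹ * v⁻¹, hcomm u v⟩ :=
      Subtype.ext (kap_comm_mul_left C hCZ hcomm u u' v)
    rw [hκ, this, map_mul, toAdd_mul, add_comm]
  have κ_mul_right : ∀ u v v', κ u (v * v') = κ u v + κ u v' := by
    intro u v v'
    have : (⟨u * (v * v') * u⁻¹ * (v * v')⁻¹, hcomm u (v * v')⟩ : ↥C) =
        ⟨u * v * u⁻¹ * v⁻¹, hcomm u v⟩ * ⟨u * v' * u⁻¹ * v'⁻¹, hcomm u v'⟩ :=
      Subtype.ext (kap_comm_mul_right C hCZ hcomm u v v')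
    rw [hκ, this, map_mul, toAdd_mul]
  have κ_C_left : ∀ c v, c ∈ C → κ c v = 0 := by
    intro c v hc
    have : (⟨c * v * c⁻¹ * v⁻¹, hcomm c v⟩ : ↥C) = 1 := Subtype.ext (kap_comm_central_left C hCZ c v hc)
    rw [hκ, this, map_one]; rfl
  have κ_C_right : ∀ u c, c ∈ C → κ u c = 0 := by
    intro u c hc
    have h1 : u * c * u⁻¹ * c⁻¹ = 1 := by
      have := Subgroup.mem_center_iff.1 (hCZ hc) u
      rw [this, mul_inv_cancel_right, mul_inv_cancel]
    have : (⟨u * c * u⁻¹ * c⁻¹, hcomm u c⟩ : ↥C) = 1 := Subtype.ext h1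
    rw [hκ, this, map_one]; rfl
  have κ_congr_left : ∀ u u' v, π u = π u' → κ u v = κ u' v := by
    intro u u' v huu
    have hc : u⁻¹ * u' ∈ C := by
      rw [← hker, map_mul, map_inv, huu]; exact inv_mul_cancel _
    have : u' = u * (u⁻¹ * u') := by rw [mul_inv_cancel_left]
    rw [this, κ_mul_left, κ_C_left _ _ hc, add_zero]
  have κ_congr_right : ∀ u v v', π v = π v' → κ u v = κ u v' := by
    intro u v v' hvv
    have hc : v⁻¹ * v' ∈ C := by
      rw [← hker, map_mul, map_inv, hvv]; exact inv_mul_cancel _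
    have : v' = v * (v⁻¹ * v') := by rw [mul_inv_cancel_left]
    rw [this, κ_mul_right, κ_C_right _ _ hc, add_zero]
  have κ_self : ∀ u, κ u u = 0 := by
    intro u
    have : (⟨u * u * u⁻¹ * u⁻¹, hcomm u u⟩ : ↥C) = 1 :=
      Subtype.ext (show u * u * u⁻¹ * u⁻¹ = 1 by group)
    rw [hκ, this, map_one]; rfl
  have κ_α : ∀ u v, κ (α u) (α v) = κ u v := by
    intro u v
    have : (⟨α u * α v * (α u)⁻¹ * (α v)⁻¹, hcomm (α u) (α v)⟩ : ↥C) = ⟨u * v * u⁻¹ * v⁻¹, hcomm u v⟩ := by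
      apply Subtype.ext
      show α u * α v * (α u)⁻¹ * (α v)⁻¹ = u * v * u⁻¹ * v⁻¹
      rw [← map_inv, ← map_inv, ← map_mul, ← map_mul, ← map_mul]
      exact hαC _ (hcomm u v)
    rw [hκ, hκ, this]
  let s : V → P := fun v => Function.surjInv hπ (Multiplicative.ofAdd v)
  have hs : ∀ v, π (s v) = Multiplicative.ofAdd v := fun v => Function.surjInv_eq hπ _
  have hs_add : ∀ v w, π (s (v + w)) = π (s v * s w) := by
    intro v w; rw [hs, map_mul, hs, hs]; rfl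
  let β : V →+ V →+ ZMod p :=
    AddMonoidHom.mk' (fun v => AddMonoidHom.mk' (fun w => κ (s v) (s w)) (by
      intro w w'
      show κ (s v) (s (w + w')) = κ (s v) (s w) + κ (s v) (s w')
      rw [κ_congr_right _ _ _ (hs_add w w'), κ_mul_right])) (by
      intro v v'
      ext w
      show κ (s (v + v')) (s w) = κ (s v) (s w) + κ (s v') (s w)
      rw [κ_congr_left _ _ _ (hs_add v v'), κ_mul_left])
  have hβ : ∀ v w, β v w = κ (s v) (s w) := fun _ _ => rfl
  refine ⟨β, fun v => by rw [hβ, κ_self], ?_, ?_⟩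
  · intro v w
    have h1 : π (s (T v)) = π (α (s v)) := by rw [hs, hα, hs]; rfl
    have h2 : π (s (T w)) = π (α (s w)) := by rw [hs, hα, hs]; rfl
    rw [hβ, hβ, κ_congr_left _ _ _ h1, κ_congr_right _ _ _ h2, κ_α]
  · intro u v
    have h1 : π (s (Multiplicative.toAdd (π u))) = π u := by rw [hs]; rfl
    have h2 : π (s (Multiplicative.toAdd (π v))) = π v := by rw [hs]; rfl
    rw [hβ, κ_congr_left _ _ _ h1, κ_congr_right _ _ _ h2]

end Kappa

/-- F2 = KAPPA: `|C| ≤ #{alternating T-invariant forms}`. -/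
theorem kappa_count {P V : Type u} [Group P] [Finite P] [AddCommGroup V] [Finite V]
    (p q : ℕ) [Fact p.Prime] [Fact q.Prime] (T : V ≃+ V) (hV : IrrMod p q V T)
    (C : Subgroup P) (hCZ : C ≤ Subgroup.center P) (hCexp : ∀ c ∈ C, c ^ p = 1)
    (π : P →* Multiplicative V) (hπ : Function.Surjective π) (hker : ∀ u : P, π u = 1 ↔ u ∈ C)
    (α : P ≃* P) (hα : ∀ u : P, π (α u) = Multiplicative.ofAdd (T (Multiplicative.toAdd (π u))))
    (hαC : ∀ c ∈ C, α c = c)
    (hgen : C ≤ Subgroup.closure ({x : P | ∃ u : P, x = u ^ p} ∪ {x : P | ∃ u v : P, x = u * v * u⁻¹ * v⁻¹})) :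
    Nat.card C ≤ Nat.card {β : V →+ V →+ ZMod p // (∀ v, β v v = 0) ∧ ∀ v w, β (T v) (T w) = β v w} := by
  have hcard : Nat.card (↥C →* Multiplicative (ZMod p)) = Nat.card C := by
    apply card_monoidHom_zmod' p
    · intro a b
      exact Subtype.ext (Subgroup.mem_center_iff.1 (hCZ b.2) a)
    · intro a
      exact Subtype.ext (hCexp a a.2)
  rw [← hcard]
  have hB := kappa_form p T C hCZ π hπ hker α hα hαC
  let Φ : (↥C →* Multiplicative (ZMod p)) →
      {β : V →+ V →+ ZMod p // (∀ v, β v v = 0) ∧ ∀ v w, β (T v) (T w) = β v w} :=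
    fun f => ⟨Classical.choose (hB f), (Classical.choose_spec (hB f)).1, (Classical.choose_spec (hB f)).2.1⟩
  have hΦ : ∀ f u v, (Φ f).1 (Multiplicative.toAdd (π u)) (Multiplicative.toAdd (π v)) =
      Multiplicative.toAdd (f ⟨u * v * u⁻¹ * v⁻¹, kap_comm_mem C π hker u v⟩) :=
    fun f => (Classical.choose_spec (hB f)).2.2
  haveI : Finite (V →+ ZMod p) := DFunLike.finite _
  haveI : Finite (V →+ V →+ ZMod p) := DFunLike.finite _
  apply Nat.card_le_card_of_injective Φ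
  intro f g hfg
  have h1 : ∀ u v : P, f ⟨u * v * u⁻¹ * v⁻¹, kap_comm_mem C π hker u v⟩ =
      g ⟨u * v * u⁻¹ * v⁻¹, kap_comm_mem C π hker u v⟩ := by
    intro u v
    have := hΦ f u v
    rw [hfg, hΦ g u v] at this
    exact (Multiplicative.toAdd.injective this).symm
  have h2 : ∀ c : ↥C, (f / g) c = 1 := by
    apply kappa_kills p q T hV C hCZ hCexp π hπ hker α hα hαC hgen (f / g)
    intro u v
    rw [MonoidHom.div_apply, h1, div_self']
  ext c
  have := h2 c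
  rw [MonoidHom.div_apply, div_eq_one] at this
  rw [this]

end Cfsg.Agent.Lib.Lead.SchKappaAlt
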