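import Cfsg.Agent.Lib.Helper6.Th24Defs

/-!
# S1632, package PK-PD: positive definiteness over the reals, inverse Gram matrix, reindexing
-/

set_option autoImplicit false

namespace Cfsg.Agent.Lib.Helper6.Theta24

open Matrix Complex Real

namespace PkPD

variable {n : ℕ}

/-- `qf` written as a double sum. -/
lemma qf_eq_sum (A : Matrix (Fin n) (Fin n) ℝ) (x : Fin n → ℝ) :
    qf A x = ∑ i, ∑ j, x i * A i j * x j := by
  unfold qf
  simp only [dotProduct, mulVec, Finset.mul_sum, mul_assoc]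

lemma qz_eq_sum (B : Matrix (Fin n) (Fin n) ℤ) (x : Fin n → ℤ) :
    qz B x = ∑ i, ∑ j, x i * B i j * x j := by
  unfold qz
  simp only [dotProduct, mulVec, Finset.mul_sum, mul_assoc]

lemma qf_smul (A : Matrix (Fin n) (Fin n) ℝ) (c : ℝ) (x : Fin n → ℝ) :
    qf A (c • x) = c ^ 2 * qf A x := by
  rw [qf_eq_sum, qf_eq_sum, Finset.mul_sum]
  refine Finset.sum_congr rfl fun i _ => ?_
  rw [Finset.mul_sum]
  refine Finset.sum_congr rfl fun j _ => ?_
  simp only [Pi.smul_apply, smul_eq_mul]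
  ring

lemma continuous_qf (A : Matrix (Fin n) (Fin n) ℝ) : Continuous (qf A) := by
  have : qf A = fun x => ∑ i, ∑ j, x i * A i j * x j := funext (qf_eq_sum A)
  rw [this]
  fun_prop

/-- Polarisation for a symmetric matrix. -/
lemma qf_add_smul (A : Matrix (Fin n) (Fin n) ℝ) (hA : A.IsSymm) (x y : Fin n → ℝ) (t : ℝ) :
    qf A (x + t • y) = qf A x + 2 * t * (y ⬝ᵥ (A *ᵥ x)) + t ^ 2 * qf A y := by
  unfold qf
  have hsymm : x ⬝ᵥ (A *ᵥ y) = y ⬝ᵥ (A *ᵥ x) := by
    rw [dotProduct_mulVec, ← mulVec_transpose, hA.eq, dotProduct_comm]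
  rw [mulVec_add, dotProduct_add, add_dotProduct, add_dotProduct, mulVec_smul, dotProduct_smul,
    smul_dotProduct, smul_dotProduct, dotProduct_smul, hsymm]
  simp only [smul_eq_mul]
  ring

end PkPD

open PkPD

section pd
variable {n : ℕ} (B : Matrix (Fin n) (Fin n) ℤ)

theorem qf_rm_rv (x : Fin n → ℤ) : qf (rm B) (rv x) = ((qz B x : ℤ) : ℝ) := by
  rw [qf_eq_sum, qz_eq_sum]
  push_cast
  rfl

theorem rm_symm (hB : Hyp B) : (rm B).IsSymm := by
  unfold rm
  ext i j
  simp only [transpose_apply, map_apply]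
  rw [← hB.symm.apply i j]

theorem pd_of_hyp (hB : Hyp B) : PD (rm B) := by
  have hA := rm_symm B hB
  -- nonnegative on rational vectors
  have hrat : ∀ q : Fin n → ℚ, 0 ≤ qf (rm B) (fun i => ((q i : ℚ) : ℝ)) := by
    intro q
    -- common denominator
    set N : ℕ := ∏ i, (q i).den with hN
    have hNpos : 0 < N := Finset.prod_pos fun i _ => (q i).den_pos
    have hint : ∀ i, ∃ z : ℤ, (z : ℝ) = (N : ℝ) * ((q i : ℚ) : ℝ) := by
      intro i
      have hd : (q i).den ∣ N := Finset.dvd_prod_of_mem _ (Finset.mem_univ i)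
      obtain ⟨k, hk⟩ := hd
      refine ⟨(q i).num * k, ?_⟩
      have hden : ((q i).den : ℝ) ≠ 0 := by exact_mod_cast (q i).den_ne_zero
      have hq : ((q i : ℚ) : ℝ) = ((q i).num : ℝ) / ((q i).den : ℝ) := by
        exact_mod_cast (Rat.cast_def (q i) : ((q i : ℚ) : ℝ) = _)
      rw [hq, hk]
      push_cast
      field_simp
    choose z hz using hint
    have hzv : rv z = (N : ℝ) • (fun i => ((q i : ℚ) : ℝ)) := by
      funext i
      simp only [rv, Pi.smul_apply, smul_eq_mul, hz i]
    have h1 : qf (rm B) (rv z) = (N : ℝ) ^ 2 * qf (rm B) (fun i => ((q i : ℚ) : ℝ)) := by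
      rw [hzv, qf_smul]
    have h2 : 0 ≤ qf (rm B) (rv z) := by
      rw [qf_rm_rv]
      by_cases hz0 : z = 0
      · subst hz0
        have : qz B 0 = 0 := by simp [qz]
        rw [this]; simp
      · exact_mod_cast (hB.pos z hz0).le
    rw [h1] at h2
    have hN2 : 0 < (N : ℝ) ^ 2 := by positivity
    exact nonneg_of_mul_nonneg_right h2 hN2
  -- nonnegative on real vectors by density
  have hreal : ∀ x : Fin n → ℝ, 0 ≤ qf (rm B) x := by
    have hclosed : IsClosed {x : Fin n → ℝ | 0 ≤ qf (rm B) x} :=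
      isClosed_le continuous_const (continuous_qf (rm B))
    have hdense : DenseRange (Pi.map fun (_ : Fin n) (q : ℚ) => ((q : ℚ) : ℝ)) :=
      DenseRange.piMap fun _ => Rat.denseRange_cast
    have hsub : Set.range (Pi.map fun (_ : Fin n) (q : ℚ) => ((q : ℚ) : ℝ)) ⊆
        {x : Fin n → ℝ | 0 ≤ qf (rm B) x} := by
      rintro _ ⟨q, rfl⟩
      exact hrat q
    intro x
    have := hclosed.closure_subset_iff.mpr hsub (hdense x)
    exact this
  -- definiteness from `det ≠ 0`
  intro x hx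
  rcases (hreal x).lt_or_eq with h | h
  · exact h
  · exfalso
    have hdet : (rm B).det ≠ 0 := by
      have : (rm B).det = ((B.det : ℤ) : ℝ) := by
        unfold rm
        rw [show (Int.cast : ℤ → ℝ) = (Int.castRingHom ℝ : ℤ → ℝ) from rfl, ← RingHom.mapMatrix_apply,
          ← RingHom.map_det]
      rw [this, hB.det]; norm_num
    have hAx : rm B *ᵥ x = 0 := by
      by_contra hne
      set y := rm B *ᵥ x with hy
      set c : ℝ := y ⬝ᵥ y with hc
      have hcpos : 0 < c := by
        rw [hc]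
        have : y ⬝ᵥ y = ∑ i, y i * y i := rfl
        rw [this]
        obtain ⟨i, hi⟩ : ∃ i, y i ≠ 0 := by
          by_contra hall
          push Not at hall
          exact hne (funext hall)
        exact Finset.sum_pos' (fun j _ => mul_self_nonneg _) ⟨i, Finset.mem_univ i, mul_self_pos.mpr hi⟩
      set d : ℝ := qf (rm B) y with hd
      have hdn : 0 ≤ d := hreal y
      have key : ∀ t : ℝ, 0 ≤ 2 * t * c + t ^ 2 * d := by
        intro t
        have := hreal (x + t • y)
        rw [qf_add_smul (rm B) hA x y t, ← h] at this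
        simpa using this
      have := key (-c / (d + 1))
      have hd1 : 0 < d + 1 := by linarith
      have hcalc : 2 * (-c / (d + 1)) * c + (-c / (d + 1)) ^ 2 * d
          = -(c ^ 2) * (d + 2) / (d + 1) ^ 2 := by
        field_simp
        ring
      rw [hcalc] at this
      have hneg : -(c ^ 2) * (d + 2) / (d + 1) ^ 2 < 0 := by
        apply div_neg_of_neg_of_pos
        · have : 0 < c ^ 2 * (d + 2) := by positivity
          linarith
        · positivity
      linarith
    exact hx (Matrix.eq_zero_of_mulVec_eq_zero hdet hAx)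

theorem exists_inv (hB : Hyp B) : ∃ B' : Matrix (Fin n) (Fin n) ℤ, B'.IsSymm ∧ B * B' = 1 ∧
    B' * B = 1 ∧ rm B * rm B' = 1 ∧ (rm B').IsSymm ∧
    ∀ y : Fin n → ℤ, qf (rm B') (rv (B *ᵥ y)) = qf (rm B) (rv y) := by
  have h1 : B * B.adjugate = 1 := by rw [Matrix.mul_adjugate, hB.det, one_smul]
  have h2 : B.adjugate * B = 1 := by rw [Matrix.adjugate_mul, hB.det, one_smul]
  have hs : (B.adjugate).IsSymm := by
    unfold Matrix.IsSymm
    rw [Matrix.adjugate_transpose, hB.symm.eq]
  have hrm : ∀ M N : Matrix (Fin n) (Fin n) ℤ, rm (M * N) = rm M * rm N := by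
    intro M N
    unfold rm
    rw [show (Int.cast : ℤ → ℝ) = (Int.castRingHom ℝ : ℤ → ℝ) from rfl]
    exact Matrix.map_mul
  have hrm1 : rm (1 : Matrix (Fin n) (Fin n) ℤ) = 1 := by
    unfold rm
    ext i j
    simp [Matrix.one_apply]
  refine ⟨B.adjugate, hs, h1, h2, ?_, ?_, ?_⟩
  · rw [← hrm, h1, hrm1]
  · ext i j
    simp only [rm, transpose_apply, map_apply]
    rw [← hs.apply i j]
  · intro y
    rw [qf_rm_rv, qf_rm_rv]
    congr 1
    unfold qz
    rw [Matrix.mulVec_mulVec, h2, Matrix.one_mulVec, dotProduct_comm]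

/-- `y ↦ B y` as a permutation of `ℤⁿ` -/
theorem exists_equiv (hB : Hyp B) : ∃ e : (Fin n → ℤ) ≃ (Fin n → ℤ), ∀ y, e y = B *ᵥ y := by
  have h1 : B * B.adjugate = 1 := by rw [Matrix.mul_adjugate, hB.det, one_smul]
  have h2 : B.adjugate * B = 1 := by rw [Matrix.adjugate_mul, hB.det, one_smul]
  refine ⟨⟨fun y => B *ᵥ y, fun y => B.adjugate *ᵥ y, ?_, ?_⟩, fun y => rfl⟩
  · intro y
    simp only [Matrix.mulVec_mulVec, h2, Matrix.one_mulVec]
  · intro y
    simp only [Matrix.mulVec_mulVec, h1, Matrix.one_mulVec]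

end pd

end Cfsg.Agent.Lib.Helper6.Theta24
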