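import Cfsg.Agent.Lib.Helper6.Th24Defs
import Cfsg.Agent.Lib.Lead.Th24_PD
import Cfsg.Agent.Lib.Helper8.Th24_SUM

/-!
# S1632, package PK-Q: the theta series as a `q`-series whose coefficients are the counts
-/

set_option autoImplicit false

namespace Cfsg.Agent.Lib.Helper6.Theta24

open Matrix Complex Real ModularForm MatrixGroups
open UpperHalfPlane hiding I

namespace PkQ

variable {n : ℕ}

/-- half the norm, as a natural number -/
noncomputable def half (B : Matrix (Fin n) (Fin n) ℤ) (x : Fin n → ℤ) : ℕ := (qz B x / 2).toNat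

lemma qz_zero (B : Matrix (Fin n) (Fin n) ℤ) : qz B 0 = 0 := by simp [qz]

lemma qz_nonneg (B : Matrix (Fin n) (Fin n) ℤ) (hB : Hyp B) (x : Fin n → ℤ) : 0 ≤ qz B x := by
  by_cases hx : x = 0
  · rw [hx, qz_zero]
  · exact (hB.pos x hx).le

lemma qz_eq_two_half (B : Matrix (Fin n) (Fin n) ℤ) (hB : Hyp B) (x : Fin n → ℤ) :
    qz B x = 2 * (half B x : ℤ) := by
  obtain ⟨k, hk⟩ := hB.even x
  have h0 := qz_nonneg B hB x
  unfold half
  rw [hk, Int.mul_ediv_cancel_left k (by norm_num : (2 : ℤ) ≠ 0)]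
  have hk0 : 0 ≤ k := by omega
  rw [Int.toNat_of_nonneg hk0]

lemma half_eq_iff (B : Matrix (Fin n) (Fin n) ℤ) (hB : Hyp B) (x : Fin n → ℤ) (m : ℕ) :
    half B x = m ↔ qz B x = 2 * (m : ℤ) := by
  have h := qz_eq_two_half B hB x
  constructor
  · intro hm; rw [h, hm]
  · intro hm
    have : (2 : ℤ) * (half B x : ℤ) = 2 * (m : ℤ) := by rw [← h, hm]
    have h2 : (half B x : ℤ) = (m : ℤ) := by omega
    exact_mod_cast h2

/-- the summand of the theta series -/
noncomputable def term (B : Matrix (Fin n) (Fin n) ℤ) (τ : ℍ) (x : Fin n → ℤ) : ℂ :=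
  cexp (π * I * (τ : ℂ) * ((qz B x : ℤ) : ℂ))

lemma term_eq_pow (B : Matrix (Fin n) (Fin n) ℤ) (hB : Hyp B) (τ : ℍ) (x : Fin n → ℤ) :
    term B τ x = Function.Periodic.qParam 1 (τ : ℂ) ^ (half B x) := by
  unfold term Function.Periodic.qParam
  rw [← Complex.exp_nat_mul, qz_eq_two_half B hB x]
  congr 1
  push_cast
  ring

lemma norm_term (B : Matrix (Fin n) (Fin n) ℤ) (τ : ℍ) (x : Fin n → ℤ) :
    ‖term B τ x‖ = rexp (-(π * τ.im) * qf (rm B) (fun i => (x i : ℝ) - (0 : Fin n → ℝ) i)) := by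
  unfold term
  rw [Complex.norm_exp]
  congr 1
  have h1 : (fun i => (x i : ℝ) - (0 : Fin n → ℝ) i) = rv x := by
    funext i; simp [rv]
  rw [h1, qf_rm_rv]
  have : (π * I * (τ : ℂ) * ((qz B x : ℤ) : ℂ)).re = -(π * τ.im) * ((qz B x : ℤ) : ℝ) := by
    have h2 : (π * I * (τ : ℂ) * ((qz B x : ℤ) : ℂ)) = ((π * ((qz B x : ℤ) : ℝ) : ℝ) : ℂ) * (I * (τ : ℂ)) := by
      push_cast; ring
    rw [h2, Complex.re_ofReal_mul]
    have h3 : (I * (τ : ℂ)).re = -τ.im := by
      simp [Complex.mul_re]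
    rw [h3]; ring
  rw [this]

lemma summable_term (B : Matrix (Fin n) (Fin n) ℤ) (hB : Hyp B) (τ : ℍ) :
    Summable (term B τ) := by
  apply Summable.of_norm
  have hs : 0 < π * τ.im := mul_pos Real.pi_pos τ.im_pos
  have := summable_gauss (rm B) (pd_of_hyp B hB) (π * τ.im) hs 0
  refine this.congr fun x => ?_
  rw [norm_term]

lemma qParam_ne_zero (τ : ℍ) : Function.Periodic.qParam 1 (τ : ℂ) ≠ 0 := by
  unfold Function.Periodic.qParam
  exact Complex.exp_ne_zero _

/-- the fibres of `half` are finite -/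
lemma finite_fibre (B : Matrix (Fin n) (Fin n) ℤ) (hB : Hyp B) (m : ℕ) :
    Finite {x : Fin n → ℤ // half B x = m} := by
  by_contra hinf
  rw [not_finite_iff_infinite] at hinf
  have hsum := (summable_term B hB UpperHalfPlane.I).subtype {x : Fin n → ℤ | half B x = m}
  have hsum' : Summable (fun _ : {x : Fin n → ℤ // half B x = m} =>
      Function.Periodic.qParam 1 ((UpperHalfPlane.I : ℍ) : ℂ) ^ m) := by
    refine Summable.congr hsum fun x => ?_
    simp only [Function.comp_apply]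
    rw [term_eq_pow B hB, x.2]
  have h0 := (summable_const_iff _).mp hsum'
  exact pow_ne_zero m (qParam_ne_zero _) h0

lemma cnt_eq_card (B : Matrix (Fin n) (Fin n) ℤ) (hB : Hyp B) (m : ℕ) :
    cnt B m = Nat.card {x : Fin n → ℤ // half B x = m} := by
  unfold cnt
  rw [← _root_.Nat.card_coe_set_eq]
  exact Nat.card_congr (Equiv.subtypeEquivRight fun x => (half_eq_iff B hB x m).symm)

end PkQ

open PkQ

theorem theta_hasSum {n : ℕ} (B : Matrix (Fin n) (Fin n) ℤ) (hB : Hyp B) (τ : ℍ) :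
    HasSum (fun m : ℕ => ((cnt B m : ℕ) : ℂ) • Function.Periodic.qParam 1 (τ : ℂ) ^ m) (theta B τ) := by
  have h4 : HasSum (term B τ) (theta B τ) := (summable_term B hB τ).hasSum
  have h5 : HasSum (fun p : Σ m : ℕ, {x : Fin n → ℤ // half B x = m} => term B τ p.2)
      (theta B τ) := by
    have := (Equiv.sigmaFiberEquiv (half B)).hasSum_iff (f := term B τ) (a := theta B τ)
    exact this.mpr h4
  refine HasSum.sigma h5 fun m => ?_
  have := finite_fibre B hB m
  have : Fintype {x : Fin n → ℤ // half B x = m} := Fintype.ofFinite _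
  have h6 : ∀ x : {x : Fin n → ℤ // half B x = m},
      term B τ x = Function.Periodic.qParam 1 (τ : ℂ) ^ m := by
    intro x; rw [term_eq_pow B hB, x.2]
  have h7 : (fun x : {x : Fin n → ℤ // half B x = m} => term B τ (⟨m, x⟩ : Σ m : ℕ, {x : Fin n → ℤ // half B x = m}).2)
      = fun _ => Function.Periodic.qParam 1 (τ : ℂ) ^ m := funext h6
  rw [h7]
  have h8 := hasSum_fintype (fun _ : {x : Fin n → ℤ // half B x = m} =>
    Function.Periodic.qParam 1 (τ : ℂ) ^ m)
  rw [Finset.sum_const, Finset.card_univ, ← Nat.card_eq_fintype_card, ← cnt_eq_card B hB m] at h8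
  simpa [nsmul_eq_mul] using h8

theorem cnt_zero {n : ℕ} (B : Matrix (Fin n) (Fin n) ℤ) (hB : Hyp B) : cnt B 0 = 1 := by
  unfold cnt
  have : {x : Fin n → ℤ | qz B x = 2 * ((0 : ℕ) : ℤ)} = {0} := by
    ext x
    simp only [Nat.cast_zero, mul_zero, Set.mem_ofPred_eq, Set.mem_singleton_iff]
    constructor
    · intro h
      by_contra hx
      have := hB.pos x hx
      omega
    · rintro rfl
      exact qz_zero B
  rw [this, Set.ncard_singleton]

end Cfsg.Agent.Lib.Helper6.Theta24
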