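import Cfsg.Agent.Lib.Helper6.Th24Defs
import Cfsg.Agent.Lib.Lead.Th24_PD
import Cfsg.Agent.Lib.Lead.Th24_Q
import Cfsg.Agent.Lib.Helper6.Th24_IND

/-!
# S1632, package PK-S: the transformation of the theta series under `S`
-/

set_option autoImplicit false

namespace Cfsg.Agent.Lib.Helper6.Theta24

open Matrix Complex Real ModularForm MatrixGroups
open UpperHalfPlane hiding I

namespace PkS

variable {n : ℕ}

/-- The general relation, any rank: `theta B τ = c * (1 / t^(1/2))^n * theta B (S • τ)` with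
`t = -I τ`. -/
lemma theta_rel (B : Matrix (Fin n) (Fin n) ℤ) (hB : Hyp B) :
    ∃ c : ℝ, 0 < c ∧ ∀ τ : ℍ,
      theta B τ = (c : ℂ) * (1 / (-I * (τ : ℂ)) ^ (1 / 2 : ℂ)) ^ n * theta B (ModularGroup.S • τ) := by
  obtain ⟨B', hB's, hBB', hB'B, hrm, hrm's, hqf⟩ := exists_inv B hB
  obtain ⟨e, he⟩ := exists_equiv B hB
  obtain ⟨c, hc, hgp⟩ := gauss_poisson (rm B) (rm B') (rm_symm B hB) hrm's hrm (pd_of_hyp B hB)
  refine ⟨c, hc, fun τ => ?_⟩
  have ht : 0 < (-I * (τ : ℂ)).re := by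
    have : (-I * (τ : ℂ)).re = τ.im := by simp [Complex.mul_re]
    rw [this]; exact τ.im_pos
  have h := hgp (-I * (τ : ℂ)) ht 0
  have hL : ∑' x : Fin n → ℤ, cexp (-π * (-I * (τ : ℂ)) * (qf (rm B) (rv x) : ℝ) +
      2 * π * I * ∑ i, (x i : ℂ) * (((0 : Fin n → ℝ) i : ℝ) : ℂ)) = theta B τ := by
    unfold theta
    refine tsum_congr fun x => ?_
    congr 1
    rw [qf_rm_rv]
    simp only [Pi.zero_apply, Complex.ofReal_zero, mul_zero, Finset.sum_const_zero, add_zero]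
    push_cast
    ring
  have hR : ∑' m : Fin n → ℤ, cexp (-π / (-I * (τ : ℂ)) *
      (qf (rm B') (fun i => (m i : ℝ) - (0 : Fin n → ℝ) i) : ℝ)) = theta B (ModularGroup.S • τ) := by
    unfold theta
    rw [← e.tsum_eq]
    refine tsum_congr fun y => ?_
    congr 1
    have h1 : (fun i => ((e y) i : ℝ) - (0 : Fin n → ℝ) i) = rv (B *ᵥ y) := by
      funext i; simp [rv, he y]
    rw [h1, hqf y, qf_rm_rv]
    have hS : ((ModularGroup.S • τ : ℍ) : ℂ) = -1 / (τ : ℂ) := by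
      rw [UpperHalfPlane.modular_S_smul]
      simp [neg_div]
    rw [hS]
    have hτ : (τ : ℂ) ≠ 0 := τ.ne_zero
    have hI : (I : ℂ) ≠ 0 := Complex.I_ne_zero
    push_cast
    field_simp
    rw [Complex.I_sq]
    ring
  rw [hL, hR] at h
  exact h

/-- `theta B I` is a positive real number, in particular nonzero. -/
lemma theta_I_ne_zero (B : Matrix (Fin n) (Fin n) ℤ) (hB : Hyp B) :
    theta B UpperHalfPlane.I ≠ 0 := by
  -- theta B I = ∑ exp (-π qz B x), a sum of positive reals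
  have hterm : ∀ x : Fin n → ℤ, PkQ.term B UpperHalfPlane.I x =
      ((rexp (-(π * ((qz B x : ℤ) : ℝ))) : ℝ) : ℂ) := by
    intro x
    unfold PkQ.term
    rw [UpperHalfPlane.coe_I]
    have : (π : ℂ) * I * I * ((qz B x : ℤ) : ℂ) = ((-(π * ((qz B x : ℤ) : ℝ)) : ℝ) : ℂ) := by
      push_cast
      rw [mul_assoc (π : ℂ) I I, Complex.I_mul_I]; ring
    rw [this, Complex.ofReal_exp]
  have hsum := PkQ.summable_term B hB UpperHalfPlane.I
  have hsumr : Summable fun x : Fin n → ℤ => rexp (-(π * ((qz B x : ℤ) : ℝ))) := by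
    have h2 : Summable fun x : Fin n → ℤ => ((rexp (-(π * ((qz B x : ℤ) : ℝ))) : ℝ) : ℂ) :=
      hsum.congr hterm
    exact Complex.summable_ofReal.mp h2
  have htheta : theta B UpperHalfPlane.I =
      ((∑' x : Fin n → ℤ, rexp (-(π * ((qz B x : ℤ) : ℝ))) : ℝ) : ℂ) := by
    rw [Complex.ofReal_tsum]
    exact tsum_congr hterm
  rw [htheta]
  have hpos : 0 < ∑' x : Fin n → ℤ, rexp (-(π * ((qz B x : ℤ) : ℝ))) :=
    hsumr.tsum_pos (fun x => (Real.exp_pos _).le) 0 (Real.exp_pos _)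
  exact_mod_cast hpos.ne'

end PkS

open PkS

theorem theta_S (B : Matrix (Fin 24) (Fin 24) ℤ) (hB : Hyp B) (τ : ℍ) :
    theta B (ModularGroup.S • τ) = (τ : ℂ) ^ 12 * theta B τ := by
  obtain ⟨c, hc, hrel⟩ := theta_rel B hB
  -- the power of `t^(1/2)`
  have hpow : ∀ t : ℂ, t ≠ 0 → (1 / t ^ (1 / 2 : ℂ)) ^ 24 = 1 / t ^ 12 := by
    intro t ht
    rw [one_div, inv_pow, one_div]
    rw [← Complex.cpow_nat_mul]
    norm_num
  -- `c = 1` from `τ = I`
  have hc1 : (c : ℂ) = 1 := by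
    have h := hrel UpperHalfPlane.I
    have hSI : ModularGroup.S • (UpperHalfPlane.I : ℍ) = UpperHalfPlane.I := by
      ext1
      rw [UpperHalfPlane.modular_S_smul]
      simp [UpperHalfPlane.coe_I, Complex.inv_I]
    rw [hSI, UpperHalfPlane.coe_I] at h
    have hII : (-I * I : ℂ) = 1 := by rw [neg_mul, Complex.I_mul_I]; ring
    rw [hII, Complex.one_cpow, div_one, one_pow, mul_one] at h
    have hne := theta_I_ne_zero B hB
    have : ((c : ℂ) - 1) * theta B UpperHalfPlane.I = 0 := by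
      rw [sub_mul, one_mul, ← h, sub_self]
    rcases mul_eq_zero.mp this with h0 | h0
    · exact sub_eq_zero.mp h0
    · exact absurd h0 hne
  have h := hrel τ
  have hτ : (τ : ℂ) ≠ 0 := τ.ne_zero
  have ht : (-I * (τ : ℂ)) ≠ 0 := mul_ne_zero (neg_ne_zero.mpr Complex.I_ne_zero) hτ
  rw [hc1, one_mul, hpow _ ht] at h
  have h12 : (-I * (τ : ℂ)) ^ 12 = (τ : ℂ) ^ 12 := by
    rw [mul_pow]
    have : (-I : ℂ) ^ 12 = 1 := by
      have h4 : (-I : ℂ) ^ 4 = 1 := by
        rw [neg_pow, Complex.I_pow_four]; norm_num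
      calc (-I : ℂ) ^ 12 = ((-I) ^ 4) ^ 3 := by ring
        _ = 1 := by rw [h4, one_pow]
    rw [this, one_mul]
  rw [h12] at h
  rw [h]
  field_simp

end Cfsg.Agent.Lib.Helper6.Theta24
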