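import Mathlib
import Cfsg.Agent.Lib.Lead.BrandtDefs

/-! S4607 package B3: the group algebra is a symmetric algebra; central elements are the
class-constant ones. -/

set_option autoImplicit false

namespace Cfsg.Agent.Lib.Lead.Brandt

theorem tr1_mul_comm (k G : Type*) [Field k] [Group G] (a b : MonoidAlgebra k G) :
    tr1 k G (a * b) = tr1 k G (b * a) := by
  rw [tr1_apply, tr1_apply, MonoidAlgebra.coeff_mul_apply_left, MonoidAlgebra.coeff_mul_apply_right]
  refine Finsupp.sum_congr fun h _ => ?_
  rw [mul_one, one_mul, mul_comm]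

theorem tr1_nondeg (k G : Type*) [Field k] [Group G] (a : MonoidAlgebra k G)
    (h : ∀ b, tr1 k G (a * b) = 0) : a = 0 := by
  apply MonoidAlgebra.ext
  ext g
  have := h (MonoidAlgebra.single g⁻¹ 1)
  rw [tr1_apply, MonoidAlgebra.coeff_mul_single_apply] at this
  simpa using this

theorem coeff_conj_of_central {k G : Type*} [Field k] [Group G] {z : MonoidAlgebra k G}
    (hz : ∀ x, z * x = x * z) (g h : G) : z.coeff (h * g * h⁻¹) = z.coeff g := by
  have := congrArg (fun y => y.coeff (h * g)) (hz (MonoidAlgebra.single h 1))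
  simp only [MonoidAlgebra.coeff_mul_single_apply, MonoidAlgebra.coeff_single_mul_apply] at this
  simpa using this

theorem central_of_coeff_conj {k G : Type*} [CommRing k] [Group G] {z : MonoidAlgebra k G}
    (hz : ∀ g h : G, z.coeff (h * g * h⁻¹) = z.coeff g) (x : MonoidAlgebra k G) :
    z * x = x * z := by
  induction x using MonoidAlgebra.induction_on with
  | of g =>
    apply MonoidAlgebra.ext
    ext w
    rw [MonoidAlgebra.of_apply, MonoidAlgebra.coeff_mul_single_apply,
      MonoidAlgebra.coeff_single_mul_apply, mul_one, one_mul]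
    have := hz (w * g⁻¹) g⁻¹
    rw [← this]
    congr 1
    group
  | add x y hx hy => rw [mul_add, add_mul, hx, hy]
  | smul r x hx => rw [mul_smul_comm, smul_mul_assoc, hx]

end Cfsg.Agent.Lib.Lead.Brandt
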