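import Mathlib
import Cfsg.Prelude.Def_G2
import Cfsg.Agent.Lib.Helper6.G2O_Defs
import Cfsg.Agent.Lib.Helper6.G2O_Defs2

set_option autoImplicit false
set_option linter.unusedSimpArgs false

/-!
S4632 swarm, packages PK-CD1 + PK-CD2: the Cayley-Dickson form of Zorn's product and the subgroup
`Phi (detEq F)` of `G₂(F)`.
-/

open Cfsg Cfsg.Lie Matrix

namespace Cfsg.Agent.Lib.Helper6.G2O

variable {F : Type*} [Field F]

theorem toX_zornMul (x y : Fin 8 → F) :
    toX (zornMul x y) = toX x * toX y - adjugate (toY y) * toY x := by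
  ext i j
  fin_cases i <;> fin_cases j <;>
    simp [toX, toY, zornMul, zA, zB, dot3, cross3, Matrix.adjugate_fin_two, Matrix.mul_apply,
      Fin.sum_univ_two, Fin.sum_univ_three] <;> ring

theorem toY_zornMul (x y : Fin 8 → F) :
    toY (zornMul x y) = toY y * toX x + toY x * adjugate (toX y) := by
  ext i j
  fin_cases i <;> fin_cases j <;>
    simp [toX, toY, zornMul, zA, zB, dot3, cross3, Matrix.adjugate_fin_two, Matrix.mul_apply,
      Fin.sum_univ_two, Fin.sum_univ_three] <;> ring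

/-! ### linearity of the coordinates -/

theorem toX_add (x y : Fin 8 → F) : toX (x + y) = toX x + toX y := by
  ext i j; fin_cases i <;> fin_cases j <;> simp [toX]

theorem toY_add (x y : Fin 8 → F) : toY (x + y) = toY x + toY y := by
  ext i j; fin_cases i <;> fin_cases j <;> simp [toY] <;> ring

theorem toX_smul (r : F) (x : Fin 8 → F) : toX (r • x) = r • toX x := by
  ext i j; fin_cases i <;> fin_cases j <;> simp [toX]

theorem toY_smul (r : F) (x : Fin 8 → F) : toY (r • x) = r • toY x := by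
  ext i j; fin_cases i <;> fin_cases j <;> simp [toY]

/-- the adjugate of a matrix with a right inverse -/
theorem adjugate_eq_of_mul_eq_one {M M' : Matrix (Fin 2) (Fin 2) F} (h : M * M' = 1) :
    adjugate M = M.det • M' := by
  calc adjugate M = adjugate M * (M * M') := by rw [h, Matrix.mul_one]
    _ = (adjugate M * M) * M' := by rw [Matrix.mul_assoc]
    _ = M.det • M' := by rw [Matrix.adjugate_mul, Matrix.smul_mul, Matrix.one_mul]

/-- the linear map `X ↦ B X B', Y ↦ A Y B'` -/
def phiL (A B B' : Matrix (Fin 2) (Fin 2) F) : (Fin 8 → F) →ₗ[F] (Fin 8 → F) where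
  toFun x := ofXY (B * toX x * B') (A * toY x * B')
  map_add' x y := by
    rw [toX_add, toY_add, Matrix.mul_add, Matrix.add_mul, Matrix.mul_add, Matrix.add_mul, ofXY_add]
  map_smul' r x := by
    rw [toX_smul, toY_smul, Matrix.mul_smul, Matrix.smul_mul, Matrix.mul_smul, Matrix.smul_mul,
      ofXY_smul]
    rfl

theorem phiL_apply (A B B' : Matrix (Fin 2) (Fin 2) F) (x : Fin 8 → F) :
    phiL A B B' x = ofXY (B * toX x * B') (A * toY x * B') := rfl

theorem phiL_inv {A A' B B' : Matrix (Fin 2) (Fin 2) F} (hA : A' * A = 1) (hB : B' * B = 1)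
    (hB' : B * B' = 1) (x : Fin 8 → F) : phiL A' B' B (phiL A B B' x) = x := by
  rw [phiL_apply, phiL_apply, toX_ofXY, toY_ofXY]
  apply ext_XY
  · rw [toX_ofXY]
    calc B' * (B * toX x * B') * B = (B' * B) * toX x * (B' * B) := by
          simp only [Matrix.mul_assoc]
      _ = toX x := by rw [hB, Matrix.one_mul, Matrix.mul_one]
  · rw [toY_ofXY]
    calc A' * (A * toY x * B') * B = (A' * A) * toY x * (B' * B) := by
          simp only [Matrix.mul_assoc]
      _ = toY x := by rw [hA, hB, Matrix.one_mul, Matrix.mul_one]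

theorem phiL_zornMul {A A' B B' : Matrix (Fin 2) (Fin 2) F} (hA : A * A' = 1) (hA' : A' * A = 1)
    (hB : B * B' = 1) (hB' : B' * B = 1) (hdet : A.det = B.det) (x y : Fin 8 → F) :
    phiL A B B' (zornMul x y) = zornMul (phiL A B B' x) (phiL A B B' y) := by
  have hdB : B.det * B'.det = 1 := by rw [← Matrix.det_mul, hB, Matrix.det_one]
  have adjA : adjugate A = A.det • A' := adjugate_eq_of_mul_eq_one hA
  have adjB : adjugate B = B.det • B' := adjugate_eq_of_mul_eq_one hB
  have adjB' : adjugate B' = B'.det • B := adjugate_eq_of_mul_eq_one hB'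
  apply ext_XY
  · rw [toX_zornMul, phiL_apply, phiL_apply, phiL_apply]
    simp only [toX_ofXY, toY_ofXY]
    rw [toX_zornMul]
    have e1 : B * toX x * B' * (B * toX y * B') = B * (toX x * toX y) * B' := by
      calc B * toX x * B' * (B * toX y * B') = B * toX x * (B' * B) * toX y * B' := by
            simp only [Matrix.mul_assoc]
        _ = B * (toX x * toX y) * B' := by rw [hB', Matrix.mul_one]; simp only [Matrix.mul_assoc]
    have e2 : adjugate (A * toY y * B') * (A * toY x * B') = B * (adjugate (toY y) * toY x) * B' := by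
      rw [Matrix.adjugate_mul_distrib, Matrix.adjugate_mul_distrib, adjA, adjB']
      calc B'.det • B * (adjugate (toY y) * A.det • A') * (A * toY x * B')
          = (B'.det * A.det) • (B * adjugate (toY y) * (A' * A) * toY x * B') := by
            simp only [Matrix.smul_mul, Matrix.mul_smul, smul_smul, Matrix.mul_assoc, mul_comm]
        _ = B * (adjugate (toY y) * toY x) * B' := by
            rw [hA', Matrix.mul_one, hdet, mul_comm, hdB, one_smul]
            simp only [Matrix.mul_assoc]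
    rw [e1, e2, Matrix.mul_sub, Matrix.sub_mul]
  · rw [toY_zornMul, phiL_apply, phiL_apply, phiL_apply]
    simp only [toX_ofXY, toY_ofXY]
    rw [toY_zornMul]
    have e1 : A * toY y * B' * (B * toX x * B') = A * (toY y * toX x) * B' := by
      calc A * toY y * B' * (B * toX x * B') = A * toY y * (B' * B) * toX x * B' := by
            simp only [Matrix.mul_assoc]
        _ = A * (toY y * toX x) * B' := by rw [hB', Matrix.mul_one]; simp only [Matrix.mul_assoc]
    have e2 : A * toY x * B' * adjugate (B * toX y * B') = A * (toY x * adjugate (toX y)) * B' := by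
      rw [Matrix.adjugate_mul_distrib, Matrix.adjugate_mul_distrib, adjB, adjB']
      calc A * toY x * B' * (B'.det • B * (adjugate (toX y) * B.det • B'))
          = (B'.det * B.det) • (A * toY x * (B' * B) * adjugate (toX y) * B') := by
            simp only [Matrix.smul_mul, Matrix.mul_smul, smul_smul, Matrix.mul_assoc, mul_comm]
        _ = A * (toY x * adjugate (toX y)) * B' := by
            rw [hB', Matrix.mul_one, mul_comm, hdB, one_smul]
            simp only [Matrix.mul_assoc]
    rw [e1, e2, Matrix.mul_add, Matrix.add_mul]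

/-! ### the homomorphism `Phi` -/

section

variable (p : detEq F)

theorem det_fst_eq_det_snd :
    (((p : GL (Fin 2) F × GL (Fin 2) F).1 : GL (Fin 2) F) : Matrix (Fin 2) (Fin 2) F).det =
      (((p : GL (Fin 2) F × GL (Fin 2) F).2 : GL (Fin 2) F) : Matrix (Fin 2) (Fin 2) F).det := by
  have h := p.2
  rw [mem_detEq] at h
  have := congrArg (fun u : Fˣ => (u : F)) h
  simpa using this

/-- the automorphism attached to a pair `(A, B)` with `det A = det B` -/
noncomputable def PhiFun : G2 F :=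
  ofLinear
    (phiL ((p : GL (Fin 2) F × GL (Fin 2) F).1 : Matrix (Fin 2) (Fin 2) F)
      ((p : GL (Fin 2) F × GL (Fin 2) F).2 : Matrix (Fin 2) (Fin 2) F)
      (((p : GL (Fin 2) F × GL (Fin 2) F).2⁻¹ : GL (Fin 2) F) : Matrix (Fin 2) (Fin 2) F))
    (phiL (((p : GL (Fin 2) F × GL (Fin 2) F).1⁻¹ : GL (Fin 2) F) : Matrix (Fin 2) (Fin 2) F)
      (((p : GL (Fin 2) F × GL (Fin 2) F).2⁻¹ : GL (Fin 2) F) : Matrix (Fin 2) (Fin 2) F)
      ((p : GL (Fin 2) F × GL (Fin 2) F).2 : Matrix (Fin 2) (Fin 2) F))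
    (fun x => phiL_inv (by rw [← Units.val_mul, inv_mul_cancel, Units.val_one])
      (by rw [← Units.val_mul, inv_mul_cancel, Units.val_one])
      (by rw [← Units.val_mul, mul_inv_cancel, Units.val_one]) x)
    (fun x y => phiL_zornMul (by rw [← Units.val_mul, mul_inv_cancel, Units.val_one])
      (by rw [← Units.val_mul, inv_mul_cancel, Units.val_one])
      (by rw [← Units.val_mul, mul_inv_cancel, Units.val_one])
      (by rw [← Units.val_mul, inv_mul_cancel, Units.val_one]) (det_fst_eq_det_snd p) x y)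

theorem act_PhiFun (x : Fin 8 → F) :
    act (PhiFun p) x =
      ofXY (((p : GL (Fin 2) F × GL (Fin 2) F).2 : Matrix (Fin 2) (Fin 2) F) * toX x *
          (((p : GL (Fin 2) F × GL (Fin 2) F).2⁻¹ : GL (Fin 2) F) : Matrix (Fin 2) (Fin 2) F))
        (((p : GL (Fin 2) F × GL (Fin 2) F).1 : Matrix (Fin 2) (Fin 2) F) * toY x *
          (((p : GL (Fin 2) F × GL (Fin 2) F).2⁻¹ : GL (Fin 2) F) : Matrix (Fin 2) (Fin 2) F)) := by
  unfold PhiFun
  rw [act_ofLinear, phiL_apply]

end

/-- PK-CD2: the homomorphism `(A, B) ↦ (X ↦ B X B⁻¹, Y ↦ A Y B⁻¹)` -/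
noncomputable def Phi : detEq F →* G2 F where
  toFun := PhiFun
  map_one' := by
    apply ext_act
    intro x
    rw [act_PhiFun, act_one]
    apply ext_XY
    · rw [toX_ofXY]; simp
    · rw [toY_ofXY]; simp
  map_mul' p q := by
    apply ext_act
    intro x
    rw [act_mul, act_PhiFun, act_PhiFun, act_PhiFun, toX_ofXY, toY_ofXY]
    apply ext_XY
    · rw [toX_ofXY, toX_ofXY]
      simp only [Subgroup.coe_mul, Prod.snd_mul, Prod.fst_mul, _root_.mul_inv_rev, Units.val_mul,
        Matrix.mul_assoc]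
    · rw [toY_ofXY, toY_ofXY]
      simp only [Subgroup.coe_mul, Prod.snd_mul, Prod.fst_mul, _root_.mul_inv_rev, Units.val_mul,
        Matrix.mul_assoc]

theorem toX_act_Phi (p : detEq F) (x : Fin 8 → F) :
    toX (act (Phi p) x) =
      ((p : GL (Fin 2) F × GL (Fin 2) F).2 : Matrix (Fin 2) (Fin 2) F) * toX x *
        (((p : GL (Fin 2) F × GL (Fin 2) F).2⁻¹ : GL (Fin 2) F) : Matrix (Fin 2) (Fin 2) F) := by
  show toX (act (PhiFun p) x) = _
  rw [act_PhiFun, toX_ofXY]

theorem toY_act_Phi (p : detEq F) (x : Fin 8 → F) :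
    toY (act (Phi p) x) =
      ((p : GL (Fin 2) F × GL (Fin 2) F).1 : Matrix (Fin 2) (Fin 2) F) * toY x *
        (((p : GL (Fin 2) F × GL (Fin 2) F).2⁻¹ : GL (Fin 2) F) : Matrix (Fin 2) (Fin 2) F) := by
  show toY (act (PhiFun p) x) = _
  rw [act_PhiFun, toY_ofXY]

theorem scal_inv_val (c : Fˣ) :
    (((scal c)⁻¹ : GL (Fin 2) F) : Matrix (Fin 2) (Fin 2) F) = ((c⁻¹ : Fˣ) : F) • 1 := rfl

/-- a `2 × 2` matrix commuting with all matrices is scalar -/
theorem eq_smul_one_of_comm {B : Matrix (Fin 2) (Fin 2) F}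
    (h : ∀ X : Matrix (Fin 2) (Fin 2) F, B * X = X * B) : B = B 0 0 • 1 := by
  have h1 := h !![1, 0; 0, 0]
  have h2 := h !![0, 1; 0, 0]
  have a1 := congrFun (congrFun h1 0) 1
  have a2 := congrFun (congrFun h1 1) 0
  have a3 := congrFun (congrFun h2 0) 1
  simp [Matrix.mul_apply, Fin.sum_univ_two] at a1 a2 a3
  ext i j
  fin_cases i <;> fin_cases j <;> simp [← a1, a2, a3]

theorem Phi_ker : (Phi : detEq F →* G2 F).ker = (Zc F).subgroupOf (detEq F) := by
  ext p
  rw [MonoidHom.mem_ker, Subgroup.mem_subgroupOf]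
  have hBB' : ((p : GL (Fin 2) F × GL (Fin 2) F).2 : Matrix (Fin 2) (Fin 2) F) *
      (((p : GL (Fin 2) F × GL (Fin 2) F).2⁻¹ : GL (Fin 2) F) : Matrix (Fin 2) (Fin 2) F) = 1 := by
    rw [← Units.val_mul, mul_inv_cancel, Units.val_one]
  have hB'B : (((p : GL (Fin 2) F × GL (Fin 2) F).2⁻¹ : GL (Fin 2) F) : Matrix (Fin 2) (Fin 2) F) *
      ((p : GL (Fin 2) F × GL (Fin 2) F).2 : Matrix (Fin 2) (Fin 2) F) = 1 := by
    rw [← Units.val_mul, inv_mul_cancel, Units.val_one]
  constructor
  · intro h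
    have hact : ∀ x, act (Phi p) x = x := by
      intro x
      rw [h, act_one]
    have hX : ∀ X : Matrix (Fin 2) (Fin 2) F,
        ((p : GL (Fin 2) F × GL (Fin 2) F).2 : Matrix (Fin 2) (Fin 2) F) * X *
          (((p : GL (Fin 2) F × GL (Fin 2) F).2⁻¹ : GL (Fin 2) F) : Matrix (Fin 2) (Fin 2) F) = X := by
      intro X
      have := toX_act_Phi p (ofXY X 0)
      rw [hact, toX_ofXY] at this
      exact this.symm
    have hY : ∀ Y : Matrix (Fin 2) (Fin 2) F,
        ((p : GL (Fin 2) F × GL (Fin 2) F).1 : Matrix (Fin 2) (Fin 2) F) * Y *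
          (((p : GL (Fin 2) F × GL (Fin 2) F).2⁻¹ : GL (Fin 2) F) : Matrix (Fin 2) (Fin 2) F) = Y := by
      intro Y
      have := toY_act_Phi p (ofXY 0 Y)
      rw [hact, toY_ofXY] at this
      exact this.symm
    have hcomm : ∀ X : Matrix (Fin 2) (Fin 2) F,
        ((p : GL (Fin 2) F × GL (Fin 2) F).2 : Matrix (Fin 2) (Fin 2) F) * X =
          X * ((p : GL (Fin 2) F × GL (Fin 2) F).2 : Matrix (Fin 2) (Fin 2) F) := by
      intro X
      calc ((p : GL (Fin 2) F × GL (Fin 2) F).2 : Matrix (Fin 2) (Fin 2) F) * X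
          = ((p : GL (Fin 2) F × GL (Fin 2) F).2 : Matrix (Fin 2) (Fin 2) F) * X *
              ((((p : GL (Fin 2) F × GL (Fin 2) F).2⁻¹ : GL (Fin 2) F) : Matrix (Fin 2) (Fin 2) F) *
                ((p : GL (Fin 2) F × GL (Fin 2) F).2 : Matrix (Fin 2) (Fin 2) F)) := by
            rw [hB'B, Matrix.mul_one]
        _ = (((p : GL (Fin 2) F × GL (Fin 2) F).2 : Matrix (Fin 2) (Fin 2) F) * X *
              (((p : GL (Fin 2) F × GL (Fin 2) F).2⁻¹ : GL (Fin 2) F) : Matrix (Fin 2) (Fin 2) F)) *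
                ((p : GL (Fin 2) F × GL (Fin 2) F).2 : Matrix (Fin 2) (Fin 2) F) := by
            simp only [Matrix.mul_assoc]
        _ = X * ((p : GL (Fin 2) F × GL (Fin 2) F).2 : Matrix (Fin 2) (Fin 2) F) := by rw [hX]
    have hsc := eq_smul_one_of_comm hcomm
    have hAB : ((p : GL (Fin 2) F × GL (Fin 2) F).1 : Matrix (Fin 2) (Fin 2) F) =
        ((p : GL (Fin 2) F × GL (Fin 2) F).2 : Matrix (Fin 2) (Fin 2) F) := by
      have h1 := hY 1
      rw [Matrix.mul_one] at h1
      calc ((p : GL (Fin 2) F × GL (Fin 2) F).1 : Matrix (Fin 2) (Fin 2) F)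
          = ((p : GL (Fin 2) F × GL (Fin 2) F).1 : Matrix (Fin 2) (Fin 2) F) *
              ((((p : GL (Fin 2) F × GL (Fin 2) F).2⁻¹ : GL (Fin 2) F) : Matrix (Fin 2) (Fin 2) F) *
                ((p : GL (Fin 2) F × GL (Fin 2) F).2 : Matrix (Fin 2) (Fin 2) F)) := by
            rw [hB'B, Matrix.mul_one]
        _ = ((p : GL (Fin 2) F × GL (Fin 2) F).2 : Matrix (Fin 2) (Fin 2) F) := by
            rw [← Matrix.mul_assoc, h1, Matrix.one_mul]
    have hc : ((p : GL (Fin 2) F × GL (Fin 2) F).2 : Matrix (Fin 2) (Fin 2) F) 0 0 ≠ 0 := by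
      intro h0
      rw [h0, zero_smul] at hsc
      rw [hsc, Matrix.zero_mul] at hBB'
      exact zero_ne_one hBB'
    refine ⟨Units.mk0 _ hc, ?_⟩
    apply Prod.ext
    · apply Units.ext
      rw [scal_val, Units.val_mk0, hAB]
      exact hsc
    · apply Units.ext
      rw [scal_val, Units.val_mk0]
      exact hsc
  · rintro ⟨c, hc⟩
    apply ext_act
    intro x
    rw [act_one]
    apply ext_XY
    · rw [toX_act_Phi, hc]
      show ((scal c : GL (Fin 2) F) : Matrix (Fin 2) (Fin 2) F) * toX x *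
        (((scal c)⁻¹ : GL (Fin 2) F) : Matrix (Fin 2) (Fin 2) F) = toX x
      rw [scal_val, scal_inv_val]
      simp [smul_smul]
    · rw [toY_act_Phi, hc]
      show ((scal c : GL (Fin 2) F) : Matrix (Fin 2) (Fin 2) F) * toY x *
        (((scal c)⁻¹ : GL (Fin 2) F) : Matrix (Fin 2) (Fin 2) F) = toY x
      rw [scal_val, scal_inv_val]
      simp [smul_smul]

end Cfsg.Agent.Lib.Helper6.G2O
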