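import Mathlib
import Cfsg.Prelude.Def_Amalgam
import Cfsg.Agent.Lib.Helper6.PCore
import Cfsg.Agent.Lib.Helper6.Subn
import Cfsg.Agent.Lib.Helper6.SubnCl
import Cfsg.Agent.Lib.Lead.Core
import Cfsg.Agent.Lib.Lead.CoprimeSylow4
import Cfsg.Agent.Lib.Lead.CoprimeAction

set_option autoImplicit false

/-!
# Subnormalizers of `p`-subgroups (Casolo)

`H` is subnormal in `⟨H, g⟩` iff `g` normalizes a radical `p`-subgroup containing `H`.
-/

namespace Cfsg.Agent.Lib.Lead.Subnormalizer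

open Cfsg

universe u

variable {G : Type u} [Group G]

theorem le_normalizer_of_forall_conj_mem {Y B : Subgroup G}
    (h : ∀ y ∈ Y, ∀ b ∈ B, y * b * y⁻¹ ∈ B) : Y ≤ Subgroup.normalizer (B : Set G) := by
  intro y hy
  rw [Subgroup.mem_normalizer_iff]
  intro b
  constructor
  · exact h y hy b
  · intro hb
    have := h y⁻¹ (Y.inv_mem hy) _ hb
    have e : y⁻¹ * (y * b * y⁻¹) * y⁻¹⁻¹ = b := by group
    rwa [e] at this

theorem le_normalizer_pCoreOf (p : ℕ) (X : Subgroup G) :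
    X ≤ Subgroup.normalizer ((pCoreOf p X : Subgroup G) : Set G) := by
  apply le_normalizer_of_forall_conj_mem
  rintro x hx _ ⟨y, hy, rfl⟩
  haveI : (pCore p ↥X).Normal := Cfsg.Agent.Lib.Lead.pCore_normal p
  refine ⟨(⟨x, hx⟩ : X) * y * (⟨x, hx⟩ : X)⁻¹, ?_, rfl⟩
  exact Subgroup.Normal.conj_mem inferInstance y hy _

theorem le_pCoreOf {p : ℕ} {X B : Subgroup G} (hBX : B ≤ X) (hB : IsPGroup p B)
    (hXB : X ≤ Subgroup.normalizer (B : Set G)) : B ≤ pCoreOf p X := by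
  have hn : (B.subgroupOf X).Normal := Subgroup.normal_subgroupOf_of_le_normalizer hXB
  have hp : IsPGroup p (B.subgroupOf X) := hB.comap_of_injective X.subtype X.subtype_injective
  have h1 : B.subgroupOf X ≤ pCore p ↥X := Cfsg.Agent.Lib.Helper6.le_pCore hn hp
  have h2 := Subgroup.map_mono (f := X.subtype) h1
  rw [Subgroup.map_subgroupOf_eq_of_le hBX] at h2
  exact h2

theorem pCoreOf_inf_le {p : ℕ} {X Y : Subgroup G} (hYX : Y ≤ X) :
    pCoreOf p X ⊓ Y ≤ pCoreOf p Y := by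
  apply le_pCoreOf inf_le_right
  · exact (Cfsg.Agent.Lib.Helper6.pCoreOf_isPGroup p X).to_le inf_le_left
  · apply le_normalizer_of_forall_conj_mem
    intro y hy b hb
    refine ⟨?_, Y.mul_mem (Y.mul_mem hy hb.2) (Y.inv_mem hy)⟩
    exact (Subgroup.mem_normalizer_iff.mp (le_normalizer_pCoreOf p X (hYX hy)) b).mp hb.1

variable [Finite G]

theorem subnormal_iff {p : ℕ} [Fact p.Prime] {X A : Subgroup G} (hAX : A ≤ X)
    (hA : IsPGroup p A) : (A.subgroupOf X).IsSubnormal ↔ A ≤ pCoreOf p X := by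
  have hp : IsPGroup p (A.subgroupOf X) := hA.comap_of_injective X.subtype X.subtype_injective
  constructor
  · intro h
    have h1 := Cfsg.Agent.Lib.Helper6.le_pCore_of_isSubnormal_of_isPGroup h hp
    have h2 := Subgroup.map_mono (f := X.subtype) h1
    rw [Subgroup.map_subgroupOf_eq_of_le hAX] at h2
    exact h2
  · intro h
    have hle : A.subgroupOf X ≤ pCore p ↥X := by
      intro a ha
      rw [Subgroup.mem_subgroupOf] at ha
      obtain ⟨y, hy, hya⟩ := h ha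
      have : y = a := Subtype.ext hya
      rw [← this]; exact hy
    have hO : (pCore p ↥X).IsSubnormal :=
      (Cfsg.Agent.Lib.Lead.pCore_normal (G := ↥X) p).isSubnormal
    refine Subgroup.IsSubnormal.trans hle ?_ hO
    exact Cfsg.Agent.Lib.Helper6.isSubnormal_of_isPGroup
      (Cfsg.Agent.Lib.Helper6.pCore_isPGroup (G := ↥X) p) _

/-- if `g` normalizes a `p`-subgroup `R ⊇ H` then `H ≤ O_p(⟨H, g⟩)` -/
theorem le_pCoreOf_sup_zpowers {p : ℕ} {H R : Subgroup G} (hHR : H ≤ R) (hR : IsPGroup p R)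
    {g : G} (hg : g ∈ Subgroup.normalizer (R : Set G)) :
    H ≤ pCoreOf p (H ⊔ Subgroup.zpowers g) := by
  set X := H ⊔ Subgroup.zpowers g with hX
  have hXN : X ≤ Subgroup.normalizer (R : Set G) :=
    sup_le (hHR.trans Subgroup.le_normalizer) (Subgroup.zpowers_le.mpr hg)
  have hB : R ⊓ X ≤ pCoreOf p X := by
    apply le_pCoreOf inf_le_right (hR.to_le inf_le_left)
    apply le_normalizer_of_forall_conj_mem
    intro y hy b hb
    exact ⟨(Subgroup.mem_normalizer_iff.mp (hXN hy) b).mp hb.1,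
      X.mul_mem (X.mul_mem hy hb.2) (X.inv_mem hy)⟩
  exact (le_inf hHR le_sup_left).trans hB

/-- radical closure -/
theorem exists_radical {p : ℕ} {R₁ : Subgroup G} (hR₁ : IsPGroup p R₁) {g : G}
    (hg : g ∈ Subgroup.normalizer (R₁ : Set G)) :
    ∃ R : Subgroup G, R₁ ≤ R ∧ pCoreOf p (Subgroup.normalizer (R : Set G)) = R ∧
      g ∈ Subgroup.normalizer (R : Set G) := by
  classical
  set 𝒯 : Set (Subgroup G) :=
    {R | R₁ ≤ R ∧ IsPGroup p R ∧ g ∈ Subgroup.normalizer (R : Set G)} with h𝒯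
  have hne : 𝒯.Nonempty := ⟨R₁, le_rfl, hR₁, hg⟩
  obtain ⟨R, hR𝒯, hmax⟩ := Set.exists_max_image 𝒯 (fun R => Nat.card R) (Set.toFinite 𝒯) hne
  obtain ⟨h1, h2, h3⟩ := hR𝒯
  have hle : R ≤ pCoreOf p (Subgroup.normalizer (R : Set G)) :=
    le_pCoreOf Subgroup.le_normalizer h2 le_rfl
  have hmem : pCoreOf p (Subgroup.normalizer (R : Set G)) ∈ 𝒯 :=
    ⟨h1.trans hle, Cfsg.Agent.Lib.Helper6.pCoreOf_isPGroup p _,
      le_normalizer_pCoreOf p _ h3⟩
  have hcard := hmax _ hmem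
  exact ⟨R, h1, (Subgroup.eq_of_le_of_card_ge hle hcard).symm, h3⟩

/-- a radical `p`-subgroup is the intersection of the Sylow `p`-subgroups containing it -/
theorem radical_eq_sInf {p : ℕ} [Fact p.Prime] {R : Subgroup G}
    (hrad : pCoreOf p (Subgroup.normalizer (R : Set G)) = R) :
    sInf {K : Subgroup G | ∃ Q : Sylow p G, R ≤ (Q : Subgroup G) ∧ K = (Q : Subgroup G)} = R := by
  have hR : IsPGroup p R := by
    rw [← hrad]; exact Cfsg.Agent.Lib.Helper6.pCoreOf_isPGroup p _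
  set D := sInf {K : Subgroup G | ∃ Q : Sylow p G, R ≤ (Q : Subgroup G) ∧ K = (Q : Subgroup G)}
    with hD
  have hRD : R ≤ D := by
    apply le_sInf
    rintro K ⟨Q, hQ, rfl⟩
    exact hQ
  obtain ⟨Q₀, hQ₀⟩ := hR.exists_le_sylow
  have hDQ₀ : D ≤ Q₀ := sInf_le ⟨Q₀, hQ₀, rfl⟩
  have hDp : IsPGroup p D := Q₀.2.to_le hDQ₀
  have hND : Subgroup.normalizer (R : Set G) ≤ Subgroup.normalizer (D : Set G) := by
    apply le_normalizer_of_forall_conj_mem
    intro n hn d hd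
    rw [hD, Subgroup.mem_sInf]
    rintro K ⟨Q, hQ, rfl⟩
    -- d ∈ n⁻¹ • Q
    have hQ' : R ≤ ((n⁻¹ • Q : Sylow p G) : Subgroup G) := by
      intro r hr
      rw [Sylow.coe_subgroup_smul, Cfsg.Agent.Lib.Lead.mem_conj_smul_iff', inv_inv]
      exact hQ ((Subgroup.mem_normalizer_iff.mp hn r).mp hr)
    have hd' : d ∈ ((n⁻¹ • Q : Sylow p G) : Subgroup G) := by
      have : D ≤ ((n⁻¹ • Q : Sylow p G) : Subgroup G) := sInf_le ⟨_, hQ', rfl⟩
      exact this hd
    rw [Sylow.coe_subgroup_smul, Cfsg.Agent.Lib.Lead.mem_conj_smul_iff', inv_inv] at hd'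
    exact hd'
  have hB : D ⊓ Subgroup.normalizer (R : Set G) ≤ R := by
    have : D ⊓ Subgroup.normalizer (R : Set G) ≤ pCoreOf p (Subgroup.normalizer (R : Set G)) := by
      apply le_pCoreOf inf_le_right (hDp.to_le inf_le_left)
      apply le_normalizer_of_forall_conj_mem
      intro y hy b hb
      exact ⟨(Subgroup.mem_normalizer_iff.mp (hND hy) b).mp hb.1,
        Subgroup.mul_mem _ (Subgroup.mul_mem _ hy hb.2) (Subgroup.inv_mem _ hy)⟩
    rwa [hrad] at this
  by_contra hne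
  have hlt : R < D := lt_of_le_of_ne hRD (fun h => hne h.symm)
  have := Cfsg.Agent.Lib.Lead.pgroup_normalizer_grows p D R hDp hlt
  exact absurd (this.trans_le hB) (lt_irrefl _)

end Cfsg.Agent.Lib.Lead.Subnormalizer
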