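import Mathlib
import Cfsg.Agent.Lib.Lead.KS93z
import Cfsg.Agent.Lib.Lead.AbelianSylowP

set_option autoImplicit false

namespace Cfsg.Agent.Lib.Lead.KS93

open scoped commutatorElement
open Cfsg.Agent.Lib.Lead Cfsg.Agent.Lib.Helper6

section conj
variable {G : Type*} [Group G] {p : ℕ} {V H Q A : Subgroup G}

/-- conjugating a minimal offender by an element normalizing `V` and `H` -/
theorem MinOff.conj' (M : MinOff p V H A) {x : G} (hxV : x ∈ Subgroup.normalizer (V : Set G))
    (hxH : x ∈ Subgroup.normalizer (H : Set G)) :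
    MinOff p V H (A.map (MulAut.conj x).toMonoidHom) := by
  refine ⟨?_, bestOffender_conj hxV M.hA, ?_, minimal_conj hxV M.hmin⟩
  · rintro _ ⟨a, ha, rfl⟩
    simp only [MulEquiv.coe_toMonoidHom, MulAut.conj_apply]
    exact (Subgroup.mem_normalizer_iff.mp hxH a).mp (M.hAH ha)
  · intro h0
    apply M.hA1
    rw [← map_conj_inv_map_conj x A, h0, Subgroup.map_bot]

end conj

section blocks
variable {G : Type*} [Group G] [Finite G] {p : ℕ} [Fact p.Prime] {V H Q A : Subgroup G}
variable (hS3 : H = ⨆ A : {A : Subgroup G // A ≤ H ∧ Cfsg.IsBestOffenderOn p V A}, (A : Subgroup G))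
include hS3

/-- the block of `A` is the join of the `H`-conjugates of `A` -/
theorem MinOff.EA_eq_iSup (S : Setup p V H Q) (M : MinOff p V H A) :
    ⁅Q, A⁆ ⊔ A = ⨆ h : H, A.map (MulAut.conj (h : G)).toMonoidHom := by
  apply le_antisymm
  · have hA : A ≤ ⨆ h : H, A.map (MulAut.conj (h : G)).toMonoidHom := by
      refine le_trans ?_ (le_iSup (fun h : H => A.map (MulAut.conj (h : G)).toMonoidHom) 1)
      intro a ha
      exact ⟨a, ha, by simp⟩
    apply sup_le _ hA
    rw [Subgroup.commutator_le]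
    intro z hz a ha
    have h1 : z * a * z⁻¹ ∈ ⨆ h : H, A.map (MulAut.conj (h : G)).toMonoidHom := by
      refine (le_iSup (fun h : H => A.map (MulAut.conj (h : G)).toMonoidHom) ⟨z, S.hQH hz⟩) ?_
      exact ⟨a, ha, by simp [MulAut.conj_apply]⟩
    have e : ⁅z, a⁆ = z * a * z⁻¹ * a⁻¹ := by rw [commutatorElement_def]
    rw [e]
    exact Subgroup.mul_mem _ h1 (Subgroup.inv_mem _ (hA ha))
  · apply iSup_le
    intro h
    exact M.conj_le_EA hS3 S h.2

/-- conjugation by an element normalizing `V` and `H` maps blocks to blocks -/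
theorem MinOff.EA_conj (S : Setup p V H Q) (M : MinOff p V H A) {x : G}
    (hxV : x ∈ Subgroup.normalizer (V : Set G)) (hxH : x ∈ Subgroup.normalizer (H : Set G)) :
    (⁅Q, A⁆ ⊔ A).map (MulAut.conj x).toMonoidHom =
      ⁅Q, A.map (MulAut.conj x).toMonoidHom⁆ ⊔ A.map (MulAut.conj x).toMonoidHom := by
  rw [M.EA_eq_iSup hS3 S, (M.conj' hxV hxH).EA_eq_iSup hS3 S, Subgroup.map_iSup]
  apply le_antisymm
  · apply iSup_le
    intro h
    have hh : x * (h : G) * x⁻¹ ∈ H := (Subgroup.mem_normalizer_iff.mp hxH h).mp h.2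
    refine le_trans ?_ (le_iSup (fun h : H => (A.map (MulAut.conj x).toMonoidHom).map
      (MulAut.conj (h : G)).toMonoidHom) ⟨_, hh⟩)
    rw [← map_conj_mul, ← map_conj_mul]
    apply le_of_eq
    congr 2
    group
  · apply iSup_le
    intro h
    have hh : x⁻¹ * (h : G) * x ∈ H := by
      have := (Subgroup.mem_normalizer_iff.mp (Subgroup.inv_mem _ hxH) h).mp h.2
      simpa using this
    refine le_trans ?_ (le_iSup (fun h : H => (A.map (MulAut.conj (h : G)).toMonoidHom).map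
      (MulAut.conj x).toMonoidHom) ⟨_, hh⟩)
    rw [← map_conj_mul, ← map_conj_mul]
    apply le_of_eq
    congr 2
    group

/-- two distinct blocks commute -/
theorem MinOff.block_commute (S : Setup p V H Q) {A D : Subgroup G} (M : MinOff p V H A)
    (MD : MinOff p V H D) (hne : ⁅Q, D⁆ ⊔ D ≠ ⁅Q, A⁆ ⊔ A) :
    ⁅Q, D⁆ ⊔ D ≤ Subgroup.centralizer ((⁅Q, A⁆ ⊔ A : Subgroup G) : Set G) := by
  have h1 := M.block_le_CW hS3 S MD hne
  have h2 := M.commutator_CW hS3 S
  have h3 : ⁅⁅Q, A⁆ ⊔ A, ⁅Q, D⁆ ⊔ D⁆ = ⊥ := by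
    rw [eq_bot_iff, ← h2]
    exact Subgroup.commutator_mono le_rfl h1
  rw [Subgroup.commutator_comm] at h3
  exact Subgroup.commutator_eq_bot_iff_le_centralizer.mp h3

end blocks

end Cfsg.Agent.Lib.Lead.KS93
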