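import Mathlib

set_option autoImplicit false

namespace Cfsg.Agent.Lib.Lead.Diag

section reindex
variable {α β : Type*} [Fintype α] [Monoid β]

/-- reindexing a noncommutative product over a fintype by a permutation -/
theorem noncommProd_univ_equiv (e : α ≃ α) (f : α → β)
    (comm : ((Finset.univ : Finset α) : Set α).Pairwise (Function.onFun Commute f))
    (comm' : ((Finset.univ : Finset α) : Set α).Pairwise
      (Function.onFun Commute (fun x => f (e x)))) :
    (Finset.univ : Finset α).noncommProd (fun x => f (e x)) comm' =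
      (Finset.univ : Finset α).noncommProd f comm := by
  unfold Finset.noncommProd
  have h1 : Multiset.map (fun x => f (e x)) (Finset.univ : Finset α).val =
      Multiset.map f (Finset.univ : Finset α).val := by
    show Multiset.map (f ∘ e) _ = _
    rw [← Multiset.map_map, Multiset.map_univ_val_equiv e]
  congr 1

end reindex

section nrm
variable {Γ : Type*} [Group Γ]

/-- the conjugates of `g` under `X` commute pairwise -/
def ConjComm (X : Subgroup Γ) (g : Γ) : Prop :=
  ∀ x ∈ X, ∀ y ∈ X, Commute (x * g * x⁻¹) (y * g * y⁻¹)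

theorem ConjComm.pairwise {X : Subgroup Γ} {g : Γ} (h : ConjComm X g) (s : Finset X) :
    ((s : Finset X) : Set X).Pairwise
      (Function.onFun Commute (fun x : X => (x : Γ) * g * (x : Γ)⁻¹)) :=
  fun x _ y _ _ => h x x.2 y y.2

/-- the product of the `X`-conjugates of `g` -/
noncomputable def nrm (X : Subgroup Γ) [Fintype X] (g : Γ) : Γ :=
  open Classical in
  if h : ConjComm X g then
    (Finset.univ : Finset X).noncommProd (fun x => (x : Γ) * g * (x : Γ)⁻¹) (h.pairwise _)
  else 1

variable {X : Subgroup Γ} [Fintype X]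

theorem nrm_def {g : Γ} (h : ConjComm X g) :
    nrm X g = (Finset.univ : Finset X).noncommProd (fun x => (x : Γ) * g * (x : Γ)⁻¹)
      (h.pairwise _) := by
  unfold nrm
  rw [dif_pos h]

/-- the norm is fixed by `X` when `X` is abelian -/
theorem nrm_conj {g : Γ} (h : ConjComm X g) {z : Γ}
    (hz : z ∈ X) : z * nrm X g * z⁻¹ = nrm X g := by
  have h1 : z * nrm X g * z⁻¹ = (MulAut.conj z) (nrm X g) := by
    rw [MulAut.conj_apply]
  rw [h1, nrm_def h, Finset.map_noncommProd]
  have h2 := noncommProd_univ_equiv (Equiv.mulLeft (⟨z, hz⟩ : X))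
    (fun x : X => (x : Γ) * g * (x : Γ)⁻¹) (h.pairwise _)
    (fun x _ y _ _ => h _ (Subtype.prop _) _ (Subtype.prop _))
  rw [← h2]
  apply Finset.noncommProd_congr rfl
  intro x _
  simp only [MulAut.conj_apply, Equiv.coe_mulLeft, Subgroup.coe_mul, mul_inv_rev]
  group

theorem nrm_mem_centralizer {g : Γ} (h : ConjComm X g) :
    nrm X g ∈ Subgroup.centralizer (X : Set Γ) := by
  rw [Subgroup.mem_centralizer_iff]
  intro z hz
  have := nrm_conj h hz
  calc z * nrm X g = (z * nrm X g * z⁻¹) * z := by group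
    _ = nrm X g * z := by rw [this]

theorem nrm_mem {g : Γ} (h : ConjComm X g) (S : Subgroup Γ)
    (hS : ∀ x ∈ X, x * g * x⁻¹ ∈ S) : nrm X g ∈ S := by
  rw [nrm_def h]
  apply Subgroup.noncommProd_mem
  intro x _
  exact hS x x.2

/-- splitting the norm along a subset on which the conjugates are constant -/
theorem nrm_eq_mul [DecidableEq X] {g : Γ} (h : ConjComm X g) (Y : Finset X) (t : Γ)
    (hY : ∀ x ∈ Y, (x : Γ) * g * (x : Γ)⁻¹ = t) (S : Subgroup Γ)
    (hS : ∀ x : X, x ∉ Y → (x : Γ) * g * (x : Γ)⁻¹ ∈ S) :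
    ∃ r ∈ S, nrm X g = t ^ Y.card * r := by
  have hdisj : Disjoint Y Yᶜ := disjoint_compl_right
  have hun : Y ∪ Yᶜ = Finset.univ := Finset.union_compl Y
  have h1 : nrm X g = (Y ∪ Yᶜ).noncommProd (fun x : X => (x : Γ) * g * (x : Γ)⁻¹)
      (h.pairwise _) := by
    rw [nrm_def h]
    exact Finset.noncommProd_congr hun.symm (fun _ _ => rfl) _
  rw [h1, Finset.noncommProd_union_of_disjoint hdisj]
  refine ⟨Yᶜ.noncommProd (fun x : X => (x : Γ) * g * (x : Γ)⁻¹) (h.pairwise _), ?_, ?_⟩
  · apply Subgroup.noncommProd_mem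
    intro x hx
    exact hS x (Finset.mem_compl.mp hx)
  · congr 1
    exact Finset.noncommProd_eq_pow_card Y _ _ t hY

/-- conjugating an element by the norm -/
theorem nrm_conj_elt [DecidableEq X] {g : Γ} (h : ConjComm X g) (Y : Finset X) (t v : Γ)
    (hY : ∀ x ∈ Y, (x : Γ) * g * (x : Γ)⁻¹ = t)
    (hN : ∀ x : X, x ∉ Y → Commute ((x : Γ) * g * (x : Γ)⁻¹) v) :
    nrm X g * v * (nrm X g)⁻¹ = t ^ Y.card * v * (t ^ Y.card)⁻¹ := by
  obtain ⟨r, hr, e⟩ := nrm_eq_mul h Y t hY (Subgroup.centralizer ({v} : Set Γ)) (by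
    intro x hx
    rw [Subgroup.mem_centralizer_iff]
    intro w hw
    rw [Set.mem_singleton_iff] at hw
    rw [hw]
    exact (hN x hx).eq.symm)
  rw [e]
  have hrv : v * r = r * v := Subgroup.mem_centralizer_iff.mp hr v rfl
  calc t ^ Y.card * r * v * (t ^ Y.card * r)⁻¹ = t ^ Y.card * (r * v) * r⁻¹ * (t ^ Y.card)⁻¹ := by
        group
    _ = t ^ Y.card * v * (t ^ Y.card)⁻¹ := by rw [← hrv]; group

end nrm

end Cfsg.Agent.Lib.Lead.Diag
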