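import Mathlib
import Cfsg.Agent.Lib.Lead.Diag1

set_option autoImplicit false

namespace Cfsg.Agent.Lib.Lead.Diag

section abel
variable {Γ : Type*} [Group Γ] {X V : Subgroup Γ} [Fintype X]

theorem conj_mem_of_le_normalizer (hXV : X ≤ Subgroup.normalizer (V : Set Γ)) {x v : Γ}
    (hx : x ∈ X) (hv : v ∈ V) : x * v * x⁻¹ ∈ V :=
  (Subgroup.mem_normalizer_iff.mp (hXV hx) v).mp hv

theorem conjComm_of_mem (hVab : ∀ u ∈ V, ∀ v ∈ V, u * v = v * u)
    (hXV : X ≤ Subgroup.normalizer (V : Set Γ)) {v : Γ} (hv : v ∈ V) : ConjComm X v :=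
  fun _ hx _ hy => hVab _ (conj_mem_of_le_normalizer hXV hx hv) _
    (conj_mem_of_le_normalizer hXV hy hv)

theorem nrm_mem_of_mem (hVab : ∀ u ∈ V, ∀ v ∈ V, u * v = v * u)
    (hXV : X ≤ Subgroup.normalizer (V : Set Γ)) {v : Γ} (hv : v ∈ V) :
    nrm X v ∈ V :=
  nrm_mem (conjComm_of_mem hVab hXV hv) V (fun _ hx => conj_mem_of_le_normalizer hXV hx hv)

theorem nrm_mul (hVab : ∀ u ∈ V, ∀ v ∈ V, u * v = v * u)
    (hXV : X ≤ Subgroup.normalizer (V : Set Γ)) {u v : Γ} (hu : u ∈ V) (hv : v ∈ V) :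
    nrm X (u * v) = nrm X u * nrm X v := by
  rw [nrm_def (conjComm_of_mem hVab hXV (V.mul_mem hu hv)),
    nrm_def (conjComm_of_mem hVab hXV hu), nrm_def (conjComm_of_mem hVab hXV hv)]
  rw [← Finset.noncommProd_mul_distrib (fun x : X => (x : Γ) * u * (x : Γ)⁻¹)
    (fun x : X => (x : Γ) * v * (x : Γ)⁻¹) _ _
    (fun x _ y _ _ => hVab _ (conj_mem_of_le_normalizer hXV x.2 hv) _
      (conj_mem_of_le_normalizer hXV y.2 hu))]
  apply Finset.noncommProd_congr rfl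
  intro x _
  simp only [Pi.mul_apply]
  group

theorem nrm_one : nrm X (1 : Γ) = 1 := by
  have h : ConjComm X (1 : Γ) := by
    intro x _ y _
    have e1 : x * 1 * x⁻¹ = 1 := by group
    have e2 : y * 1 * y⁻¹ = 1 := by group
    rw [e1, e2]
  rw [nrm_def h]
  have := Finset.noncommProd_eq_pow_card (Finset.univ : Finset X)
    (fun x : X => (x : Γ) * 1 * (x : Γ)⁻¹) (h.pairwise _) 1 (by intro x _; group)
  rw [this, one_pow]

theorem nrm_pow (hVab : ∀ u ∈ V, ∀ v ∈ V, u * v = v * u)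
    (hXV : X ≤ Subgroup.normalizer (V : Set Γ)) {u : Γ} (hu : u ∈ V) (k : ℕ) :
    nrm X (u ^ k) = (nrm X u) ^ k := by
  induction k with
  | zero => rw [pow_zero, pow_zero, nrm_one]
  | succ k ih => rw [pow_succ, pow_succ, nrm_mul hVab hXV (V.pow_mem hu k) hu, ih]

end abel

end Cfsg.Agent.Lib.Lead.Diag
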