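import Mathlib
import Cfsg.Agent.Lib.Lead.Diag2

set_option autoImplicit false

namespace Cfsg.Agent.Lib.Lead.Diag

open Classical

section diag
variable {Γ : Type*} [Group Γ]

/-- an abelian group `X` permuting commuting copies of `E`, with planes `W` inside an abelian
normal `V` -/
structure DiagData (X E W V : Subgroup Γ) : Prop where
  hXab : ∀ x ∈ X, ∀ y ∈ X, x * y = y * x
  hVab : ∀ u ∈ V, ∀ v ∈ V, u * v = v * u
  hXV : X ≤ Subgroup.normalizer (V : Set Γ)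
  hWV : W ≤ V
  hEW : E ≤ Subgroup.normalizer (W : Set Γ)
  h1 : ∀ x ∈ X, x ∈ Subgroup.normalizer (E : Set Γ) →
    x ∈ Subgroup.centralizer (E : Set Γ) ∧ x ∈ Subgroup.centralizer (W : Set Γ)
  h2 : ∀ x ∈ X, x ∉ Subgroup.normalizer (E : Set Γ) → ∀ e ∈ E,
    x * e * x⁻¹ ∈ Subgroup.centralizer (E : Set Γ) ∧ x * e * x⁻¹ ∈ Subgroup.centralizer (W : Set Γ)

variable {X E W V : Subgroup Γ} [Fintype X]

/-- the number of elements of `X` normalizing `E` -/
noncomputable def stabCard (X E : Subgroup Γ) : ℕ :=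
  Nat.card ((Subgroup.normalizer (E : Set Γ)).subgroupOf X)

theorem stabCard_dvd [Finite X] : stabCard X E ∣ Nat.card X :=
  Subgroup.card_subgroup_dvd_card _

theorem card_filter_eq (y : X) :
    (Finset.univ.filter (fun x : X => (y : Γ)⁻¹ * (x : Γ) ∈
      Subgroup.normalizer (E : Set Γ))).card = stabCard X E := by
  unfold stabCard
  rw [Nat.card_eq_fintype_card, ← Fintype.card_subtype]
  apply Fintype.card_congr
  refine ⟨fun x => ⟨y⁻¹ * x.1, ?_⟩, fun x => ⟨⟨y * x.1, ?_⟩, ?_⟩, ?_, ?_⟩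
  · rw [Subgroup.mem_subgroupOf]
    simpa using x.2
  · exact X.mul_mem y.2 x.1.2
  · have := x.2
    rw [Subgroup.mem_subgroupOf] at this
    simpa using this
  · intro x
    apply Subtype.ext
    apply Subtype.ext
    simp
  · intro x
    apply Subtype.ext
    show y⁻¹ * (⟨(y : Γ) * ((x : X) : Γ), _⟩ : X) = (x : X)
    apply Subtype.ext
    simp

theorem DiagData.conj_eq (D : DiagData X E W V) {x y g : Γ} (hx : x ∈ X) (hy : y ∈ X)
    (hg : g ∈ E) (h : y⁻¹ * x ∈ Subgroup.normalizer (E : Set Γ)) :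
    x * g * x⁻¹ = y * g * y⁻¹ := by
  have hz : y⁻¹ * x ∈ X := X.mul_mem (X.inv_mem hy) hx
  have h1 := (D.h1 _ hz h).1
  have h2 := Subgroup.mem_centralizer_iff.mp h1 g hg
  calc x * g * x⁻¹ = y * ((y⁻¹ * x) * g) * (y⁻¹ * x)⁻¹ * y⁻¹ := by group
    _ = y * (g * (y⁻¹ * x)) * (y⁻¹ * x)⁻¹ * y⁻¹ := by rw [h2]
    _ = y * g * y⁻¹ := by group

theorem DiagData.conj_eq_W (D : DiagData X E W V) {x y w : Γ} (hx : x ∈ X) (hy : y ∈ X)
    (hw : w ∈ W) (h : y⁻¹ * x ∈ Subgroup.normalizer (E : Set Γ)) :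
    x * w * x⁻¹ = y * w * y⁻¹ := by
  have hz : y⁻¹ * x ∈ X := X.mul_mem (X.inv_mem hy) hx
  have h1 := (D.h1 _ hz h).2
  have h2 := Subgroup.mem_centralizer_iff.mp h1 w hw
  calc x * w * x⁻¹ = y * ((y⁻¹ * x) * w) * (y⁻¹ * x)⁻¹ * y⁻¹ := by group
    _ = y * (w * (y⁻¹ * x)) * (y⁻¹ * x)⁻¹ * y⁻¹ := by rw [h2]
    _ = y * w * y⁻¹ := by group

/-- conjugates of `g ∈ E` under `X` commute -/
theorem DiagData.conjComm (D : DiagData X E W V) {g : Γ} (hg : g ∈ E) : ConjComm X g := by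
  intro x hx y hy
  by_cases h : y⁻¹ * x ∈ Subgroup.normalizer (E : Set Γ)
  · rw [D.conj_eq hx hy hg h]
  · have hz : y⁻¹ * x ∈ X := X.mul_mem (X.inv_mem hy) hx
    have h2 := (D.h2 _ hz h g hg).1
    have h3 := Subgroup.mem_centralizer_iff.mp h2 g hg
    -- conjugate by `y`
    show (x * g * x⁻¹) * (y * g * y⁻¹) = (y * g * y⁻¹) * (x * g * x⁻¹)
    calc (x * g * x⁻¹) * (y * g * y⁻¹)
        = y * ((y⁻¹ * x) * g * (y⁻¹ * x)⁻¹ * g) * y⁻¹ := by group
      _ = y * (g * ((y⁻¹ * x) * g * (y⁻¹ * x)⁻¹)) * y⁻¹ := by rw [h3]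
      _ = (y * g * y⁻¹) * (x * g * x⁻¹) := by group

/-- conjugates of `g ∈ E` outside the stabilizer coset commute with conjugates of `w ∈ W` -/
theorem DiagData.commute_conj (D : DiagData X E W V) {x y g w : Γ} (hx : x ∈ X) (hy : y ∈ X)
    (hg : g ∈ E) (hw : w ∈ W) (h : y⁻¹ * x ∉ Subgroup.normalizer (E : Set Γ)) :
    Commute (x * g * x⁻¹) (y * w * y⁻¹) := by
  have hz : y⁻¹ * x ∈ X := X.mul_mem (X.inv_mem hy) hx
  have h2 := (D.h2 _ hz h g hg).2
  have h3 := Subgroup.mem_centralizer_iff.mp h2 w hw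
  show (x * g * x⁻¹) * (y * w * y⁻¹) = (y * w * y⁻¹) * (x * g * x⁻¹)
  calc (x * g * x⁻¹) * (y * w * y⁻¹)
      = y * ((y⁻¹ * x) * g * (y⁻¹ * x)⁻¹ * w) * y⁻¹ := by group
    _ = y * (w * ((y⁻¹ * x) * g * (y⁻¹ * x)⁻¹)) * y⁻¹ := by rw [h3]
    _ = (y * w * y⁻¹) * (x * g * x⁻¹) := by group

/-- the norm of `g ∈ E` is `g ^ n` times an element centralizing `E` -/
theorem DiagData.nrm_split (D : DiagData X E W V) {g : Γ} (hg : g ∈ E) :
    ∃ r ∈ Subgroup.centralizer (E : Set Γ), nrm X g = g ^ stabCard X E * r := by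
  have h := nrm_eq_mul (D.conjComm hg)
    (Finset.univ.filter (fun x : X => ((1 : X) : Γ)⁻¹ * (x : Γ) ∈
      Subgroup.normalizer (E : Set Γ))) g (by
      intro x hx
      rw [Finset.mem_filter] at hx
      have := D.conj_eq x.2 X.one_mem hg (by simpa using hx.2)
      rw [this]; group) (Subgroup.centralizer (E : Set Γ)) (by
      intro x hx
      rw [Finset.mem_filter] at hx
      have hx' : (x : Γ) ∉ Subgroup.normalizer (E : Set Γ) := by
        intro h'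
        apply hx
        exact ⟨Finset.mem_univ _, by simpa using h'⟩
      exact (D.h2 _ x.2 hx' g hg).1)
  rw [card_filter_eq] at h
  exact h

/-- conjugation by the norm of `g ∈ E` on a conjugate of `w ∈ W` -/
theorem DiagData.nrm_conj_conj (D : DiagData X E W V) {g w : Γ} (hg : g ∈ E) (hw : w ∈ W)
    (y : X) :
    nrm X g * ((y : Γ) * w * (y : Γ)⁻¹) * (nrm X g)⁻¹ =
      (y : Γ) * (g ^ stabCard X E * w * (g ^ stabCard X E)⁻¹) * (y : Γ)⁻¹ := by
  have h := nrm_conj_elt (D.conjComm hg)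
    (Finset.univ.filter (fun x : X => (y : Γ)⁻¹ * (x : Γ) ∈
      Subgroup.normalizer (E : Set Γ))) ((y : Γ) * g * (y : Γ)⁻¹) ((y : Γ) * w * (y : Γ)⁻¹) (by
      intro x hx
      rw [Finset.mem_filter] at hx
      exact D.conj_eq x.2 y.2 hg hx.2) (by
      intro x hx
      rw [Finset.mem_filter] at hx
      have hx' : (y : Γ)⁻¹ * (x : Γ) ∉ Subgroup.normalizer (E : Set Γ) := by
        intro h'
        exact hx ⟨Finset.mem_univ _, h'⟩
      exact D.commute_conj x.2 y.2 hg hw hx')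
  rw [card_filter_eq] at h
  rw [h, conj_pow]
  group

end diag

end Cfsg.Agent.Lib.Lead.Diag
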