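import Mathlib
import Cfsg.Agent.Lib.Lead.Diag3

set_option autoImplicit false

namespace Cfsg.Agent.Lib.Lead.Diag

open Classical

section diag
variable {Γ : Type*} [Group Γ] {X E W V : Subgroup Γ} [Fintype X]

theorem DiagData.conjComm_W (D : DiagData X E W V) {w : Γ} (hw : w ∈ W) : ConjComm X w :=
  conjComm_of_mem D.hVab D.hXV (D.hWV hw)

theorem DiagData.conj_mem_W (D : DiagData X E W V) {g w : Γ} (hg : g ∈ E) (hw : w ∈ W) :
    g * w * g⁻¹ ∈ W :=
  (Subgroup.mem_normalizer_iff.mp (D.hEW hg) w).mp hw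

/-- the norm of `g ∈ E` acts on the norm of `w ∈ W` as `g ^ n` acts on `w` -/
theorem DiagData.nrm_conj_nrm (D : DiagData X E W V) {g w : Γ} (hg : g ∈ E) (hw : w ∈ W) :
    nrm X g * nrm X w * (nrm X g)⁻¹ =
      nrm X (g ^ stabCard X E * w * (g ^ stabCard X E)⁻¹) := by
  have hw' : g ^ stabCard X E * w * (g ^ stabCard X E)⁻¹ ∈ W :=
    D.conj_mem_W (E.pow_mem hg _) hw
  have h1 : nrm X g * nrm X w * (nrm X g)⁻¹ = (MulAut.conj (nrm X g)) (nrm X w) := by
    rw [MulAut.conj_apply]
  rw [h1, nrm_def (D.conjComm_W hw), Finset.map_noncommProd, nrm_def (D.conjComm_W hw')]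
  apply Finset.noncommProd_congr rfl
  intro y _
  rw [MulAut.conj_apply]
  exact D.nrm_conj_conj hg hw y

/-- the norm of `w ∈ W` is `w ^ n` times an element of `V` centralizing `E` -/
theorem DiagData.nrm_split_W (D : DiagData X E W V) {w : Γ} (hw : w ∈ W) :
    ∃ r ∈ V ⊓ Subgroup.centralizer (E : Set Γ), nrm X w = w ^ stabCard X E * r := by
  have h := nrm_eq_mul (D.conjComm_W hw)
    (Finset.univ.filter (fun x : X => ((1 : X) : Γ)⁻¹ * (x : Γ) ∈
      Subgroup.normalizer (E : Set Γ))) w (by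
      intro x hx
      rw [Finset.mem_filter] at hx
      have := D.conj_eq_W x.2 X.one_mem hw (by simpa using hx.2)
      rw [this]; group) (V ⊓ Subgroup.centralizer (E : Set Γ)) (by
      intro x hx
      rw [Finset.mem_filter] at hx
      have hx' : (x : Γ) ∉ Subgroup.normalizer (E : Set Γ) := by
        intro h'
        apply hx
        exact ⟨Finset.mem_univ _, by simpa using h'⟩
      have hx'' : (x : Γ)⁻¹ ∉ Subgroup.normalizer (E : Set Γ) := by
        intro h'
        apply hx'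
        have := Subgroup.inv_mem _ h'
        simpa using this
      refine ⟨conj_mem_of_le_normalizer D.hXV x.2 (D.hWV hw), ?_⟩
      show (x : Γ) * w * (x : Γ)⁻¹ ∈ Subgroup.centralizer (E : Set Γ)
      rw [Subgroup.mem_centralizer_iff]
      intro e he
      have h2 := (D.h2 _ (X.inv_mem x.2) hx'' e he).2
      have h3 := Subgroup.mem_centralizer_iff.mp h2 w hw
      rw [inv_inv] at h3
      calc e * ((x : Γ) * w * (x : Γ)⁻¹)
          = (x : Γ) * (((x : Γ)⁻¹ * e * (x : Γ)) * w) * (x : Γ)⁻¹ := by group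
        _ = (x : Γ) * (w * ((x : Γ)⁻¹ * e * (x : Γ))) * (x : Γ)⁻¹ := by rw [h3]
        _ = (x : Γ) * w * (x : Γ)⁻¹ * e := by group)
  rw [card_filter_eq] at h
  exact h

end diag

end Cfsg.Agent.Lib.Lead.Diag
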