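import Mathlib
import Cfsg.Agent.Lib.Lead.KS9310a

set_option autoImplicit false

namespace Cfsg.Agent.Lib.Lead.KS93

open scoped commutatorElement
open Cfsg.Agent.Lib.Lead Cfsg.Agent.Lib.Helper6

section stab
variable {G : Type*} [Group G] [Finite G] {p : ℕ} [hp : Fact p.Prime] {V H Q A : Subgroup G}

/-- a `q`-element normalizing `V` and a block centralizes the plane of the block -/
theorem MinOff.le_centralizer_W (S : Setup p V H Q) (M : MinOff p V H A) {q : ℕ} [Fact q.Prime]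
    (hqp : q ≠ p) (hq1 : ¬ q ∣ p - 1) (hq2 : ¬ q ∣ p ^ 2 - 1)
    {Y : Subgroup G} (hY : IsPGroup q Y) (hYV : Y ≤ Subgroup.normalizer (V : Set G))
    (hYE : Y ≤ Subgroup.normalizer ((⁅Q, A⁆ ⊔ A : Subgroup G) : Set G)) :
    Y ≤ Subgroup.centralizer ((⁅V, ⁅Q, A⁆ ⊔ A⁆ : Subgroup G) : Set G) := by
  have hYW : Y ≤ Subgroup.normalizer ((⁅V, ⁅Q, A⁆ ⊔ A⁆ : Subgroup G) : Set G) := by
    intro y hy
    exact normalizer_inf_le_normalizer_commutator V _ ⟨hYV hy, hYE hy⟩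
  apply le_centralizer_of_qgroup_gen _ Y p 2 hp.out (M.card_W S) q hY hYW _ hqp
  intro i hi1 hi2
  have : i = 1 ∨ i = 2 := by omega
  rcases this with rfl | rfl
  · rwa [pow_one]
  · exact hq2

/-- a `q`-group normalizing `V` and a block centralizes the block -/
theorem MinOff.le_centralizer_EA (S : Setup p V H Q) (M : MinOff p V H A) {q : ℕ} [Fact q.Prime]
    (hqp : q ≠ p) (hq1 : ¬ q ∣ p - 1) (hq2 : ¬ q ∣ p ^ 2 - 1)
    {Y : Subgroup G} (hY : IsPGroup q Y) (hYV : Y ≤ Subgroup.normalizer (V : Set G))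
    (hYE : Y ≤ Subgroup.normalizer ((⁅Q, A⁆ ⊔ A : Subgroup G) : Set G)) :
    Y ≤ Subgroup.centralizer ((⁅Q, A⁆ ⊔ A : Subgroup G) : Set G) := by
  have hW := M.le_centralizer_W S hqp hq1 hq2 hY hYV hYE
  have hEW : ⁅Q, A⁆ ⊔ A ≤ Subgroup.normalizer ((⁅V, ⁅Q, A⁆ ⊔ A⁆ : Subgroup G) : Set G) := by
    intro e he
    exact normalizer_inf_le_normalizer_commutator V _
      ⟨S.hHV (M.EA_le S he), Subgroup.le_normalizer he⟩
  intro x hx
  rw [Subgroup.mem_centralizer_iff]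
  intro e he
  have h1 : ⁅e, x⁆ ∈ ⁅Q, A⁆ ⊔ A := by
    have h2 : x * e⁻¹ * x⁻¹ ∈ ⁅Q, A⁆ ⊔ A :=
      (Subgroup.mem_normalizer_iff.mp (hYE hx) e⁻¹).mp (Subgroup.inv_mem _ he)
    have e1 : ⁅e, x⁆ = e * (x * e⁻¹ * x⁻¹) := by rw [commutatorElement_def]; group
    rw [e1]
    exact Subgroup.mul_mem _ he h2
  have h2 : ⁅e, x⁆ ∈ Subgroup.centralizer ((⁅V, ⁅Q, A⁆ ⊔ A⁆ : Subgroup G) : Set G) := by
    rw [Subgroup.mem_centralizer_iff]
    intro w hw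
    have hxc := Subgroup.mem_centralizer_iff.mp (hW hx)
    have hw' : e⁻¹ * w * e ∈ ⁅V, ⁅Q, A⁆ ⊔ A⁆ := by
      have := (Subgroup.mem_normalizer_iff.mp (hEW (Subgroup.inv_mem _ he)) w).mp hw
      simpa using this
    have e1 : x⁻¹ * w * x = w := by
      rw [mul_assoc, hxc w hw, inv_mul_cancel_left]
    have e2 : x * (e⁻¹ * w * e) * x⁻¹ = e⁻¹ * w * e := by
      rw [← hxc _ hw', mul_inv_cancel_right]
    have key : ⁅e, x⁆ * w * ⁅e, x⁆⁻¹ = w := by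
      calc ⁅e, x⁆ * w * ⁅e, x⁆⁻¹ = e * (x * (e⁻¹ * (x⁻¹ * w * x) * e) * x⁻¹) * e⁻¹ := by
            rw [commutatorElement_def]; group
        _ = e * (x * (e⁻¹ * w * e) * x⁻¹) * e⁻¹ := by rw [e1]
        _ = e * (e⁻¹ * w * e) * e⁻¹ := by rw [e2]
        _ = w := by group
    calc w * ⁅e, x⁆ = (⁅e, x⁆ * w * ⁅e, x⁆⁻¹) * ⁅e, x⁆ := by rw [key]
      _ = ⁅e, x⁆ * w := by group
  have h3 : ⁅e, x⁆ ∈ (⁅Q, A⁆ ⊔ A) ⊓
      Subgroup.centralizer ((⁅V, ⁅Q, A⁆ ⊔ A⁆ : Subgroup G) : Set G) := ⟨h1, h2⟩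
  rw [M.faithful S, Subgroup.mem_bot, commutatorElement_eq_one_iff_mul_comm] at h3
  exact h3

end stab

end Cfsg.Agent.Lib.Lead.KS93
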