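import Mathlib
import Cfsg.Agent.Lib.Lead.KS9310b
import Cfsg.Agent.Lib.Lead.Diag4

set_option autoImplicit false

namespace Cfsg.Agent.Lib.Lead.KS93

open scoped commutatorElement
open Cfsg.Agent.Lib.Lead Cfsg.Agent.Lib.Helper6 Cfsg.Agent.Lib.Lead.Diag

section thmA
variable {G : Type*} [Group G] [Finite G] {p : ℕ} [hp : Fact p.Prime] {V H Q A : Subgroup G}
variable (hS3 : H = ⨆ A : {A : Subgroup G // A ≤ H ∧ Cfsg.IsBestOffenderOn p V A}, (A : Subgroup G))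
include hS3

/-- the diagonal data attached to a block and an abelian `q`-group of operators -/
theorem MinOff.diagData (S : Setup p V H Q) (M : MinOff p V H A) {q : ℕ} [Fact q.Prime]
    (hqp : q ≠ p) (hq1 : ¬ q ∣ p - 1) (hq2 : ¬ q ∣ p ^ 2 - 1)
    {X : Subgroup G} (hXab : ∀ x ∈ X, ∀ y ∈ X, x * y = y * x) (hXq : IsPGroup q X)
    (hXV : X ≤ Subgroup.normalizer (V : Set G)) (hXH : X ≤ Subgroup.normalizer (H : Set G)) :
    DiagData X (⁅Q, A⁆ ⊔ A) ⁅V, ⁅Q, A⁆ ⊔ A⁆ V := by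
  refine ⟨hXab, S.hVab, hXV, M.W_le S, le_trans (M.EA_le S) (M.H_le_normalizer_W hS3 S), ?_, ?_⟩
  · intro x hx hxE
    have hY : IsPGroup q (Subgroup.zpowers x) := hXq.to_le (Subgroup.zpowers_le.mpr hx)
    have hYV : Subgroup.zpowers x ≤ Subgroup.normalizer (V : Set G) :=
      Subgroup.zpowers_le.mpr (hXV hx)
    have hYE : Subgroup.zpowers x ≤ Subgroup.normalizer ((⁅Q, A⁆ ⊔ A : Subgroup G) : Set G) :=
      Subgroup.zpowers_le.mpr hxE
    exact ⟨M.le_centralizer_EA S hqp hq1 hq2 hY hYV hYE (Subgroup.mem_zpowers x),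
      M.le_centralizer_W S hqp hq1 hq2 hY hYV hYE (Subgroup.mem_zpowers x)⟩
  · intro x hx hxE e he
    have M' := M.conj' (hXV hx) (hXH hx)
    have hne : ⁅Q, A.map (MulAut.conj x).toMonoidHom⁆ ⊔ A.map (MulAut.conj x).toMonoidHom ≠
        ⁅Q, A⁆ ⊔ A := by
      intro h
      apply hxE
      apply mem_normalizer_of_map_conj_eq
      rw [M.EA_conj hS3 S (hXV hx) (hXH hx), h]
    have hmem : x * e * x⁻¹ ∈ ⁅Q, A.map (MulAut.conj x).toMonoidHom⁆ ⊔
        A.map (MulAut.conj x).toMonoidHom := by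
      rw [← M.EA_conj hS3 S (hXV hx) (hXH hx)]
      exact ⟨e, he, by simp [MulAut.conj_apply]⟩
    exact ⟨M.block_commute hS3 S M' hne hmem, (M.block_le_CW hS3 S M' hne hmem).2⟩

/-- every element of a block is an `X`-fixed element of `H` times an element centralizing the
block -/
theorem MinOff.exists_fixed_mul (S : Setup p V H Q) (M : MinOff p V H A) {q : ℕ} [Fact q.Prime]
    (hqp : q ≠ p) (hq1 : ¬ q ∣ p - 1) (hq2 : ¬ q ∣ p ^ 2 - 1)
    {X : Subgroup G} (hXab : ∀ x ∈ X, ∀ y ∈ X, x * y = y * x) (hXq : IsPGroup q X)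
    (hXV : X ≤ Subgroup.normalizer (V : Set G)) (hXH : X ≤ Subgroup.normalizer (H : Set G))
    (hcop : (Nat.card X).Coprime (Nat.card H)) {z : G} (hz : z ∈ ⁅Q, A⁆ ⊔ A) :
    ∃ c ∈ H ⊓ Subgroup.centralizer (X : Set G),
      ∃ r ∈ Subgroup.centralizer ((⁅Q, A⁆ ⊔ A : Subgroup G) : Set G), z = c * r := by
  classical
  haveI : Fintype X := Fintype.ofFinite X
  have D := M.diagData hS3 S hqp hq1 hq2 hXab hXq hXV hXH
  have hn : (Nat.card ↥(⁅Q, A⁆ ⊔ A)).Coprime (stabCard X (⁅Q, A⁆ ⊔ A)) := by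
    have h1 : (Nat.card ↥(⁅Q, A⁆ ⊔ A)).Coprime (Nat.card X) :=
      (Nat.Coprime.coprime_dvd_right (Subgroup.card_dvd_of_le (M.EA_le S)) hcop).symm
    exact Nat.Coprime.coprime_dvd_right stabCard_dvd h1
  obtain ⟨g, hg⟩ := (powCoprime hn).surjective ⟨z, hz⟩
  have hg' : (g : G) ^ stabCard X (⁅Q, A⁆ ⊔ A) = z := by
    have := congrArg (fun w : ↥(⁅Q, A⁆ ⊔ A) => (w : G)) hg
    simpa using this
  obtain ⟨r, hr, e⟩ := D.nrm_split g.2
  have hcc := D.conjComm g.2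
  refine ⟨nrm X (g : G), ⟨?_, nrm_mem_centralizer hcc⟩, r⁻¹, Subgroup.inv_mem _ hr, ?_⟩
  · apply nrm_mem hcc
    intro x hx
    exact (Subgroup.mem_normalizer_iff.mp (hXH hx) _).mp (M.EA_le S g.2)
  · rw [e, hg', mul_inv_cancel_right]

/-- Theorem A: `H` is generated by a Sylow `p`-subgroup and the fixed points of `X` -/
theorem eq_sylow_sup_fixed (S : Setup p V H Q) {q : ℕ} [Fact q.Prime]
    (hqp : q ≠ p) (hq1 : ¬ q ∣ p - 1) (hq2 : ¬ q ∣ p ^ 2 - 1)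
    {X : Subgroup G} (hXab : ∀ x ∈ X, ∀ y ∈ X, x * y = y * x) (hXq : IsPGroup q X)
    (hXV : X ≤ Subgroup.normalizer (V : Set G)) (hXH : X ≤ Subgroup.normalizer (H : Set G))
    (hcop : (Nat.card X).Coprime (Nat.card H)) {T : Subgroup G}
    (hT : ∀ d ∈ H, d ^ p = 1 → ∃ h ∈ H, h * d * h⁻¹ ∈ T) :
    H ≤ T ⊔ (H ⊓ Subgroup.centralizer (X : Set G)) := by
  apply le_of_minOff S hS3
  intro D MD
  obtain ⟨d, hdD, -, hDz⟩ := exists_gen_of_card_prime (MD.card S)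
  obtain ⟨h, hh, hdT⟩ := hT d (MD.hAH hdD) ((bestOffender_elementary S MD.hAH MD.hA).2 d hdD)
  have hDT : D.map (MulAut.conj h).toMonoidHom ≤ T := by
    rw [hDz, MonoidHom.map_zpowers, Subgroup.zpowers_le]
    simpa [MulAut.conj_apply] using hdT
  have M := MD.conj S.hHV hh
  set A := D.map (MulAut.conj h).toMonoidHom with hA
  set N := T ⊔ (H ⊓ Subgroup.centralizer (X : Set G)) with hN
  have hAN : A ≤ N := le_trans hDT le_sup_left
  have hconj : ∀ z ∈ ⁅Q, A⁆ ⊔ A, ∀ a ∈ A, z * a * z⁻¹ ∈ N := by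
    intro z hz a ha
    obtain ⟨c, hc, r, hr, rfl⟩ := M.exists_fixed_mul hS3 S hqp hq1 hq2 hXab hXq hXV hXH hcop hz
    have hra : a * r = r * a :=
      Subgroup.mem_centralizer_iff.mp hr a (le_sup_right (a := ⁅Q, A⁆) ha)
    have e : c * r * a * (c * r)⁻¹ = c * a * c⁻¹ := by
      calc c * r * a * (c * r)⁻¹ = c * (r * a) * r⁻¹ * c⁻¹ := by group
        _ = c * a * c⁻¹ := by rw [← hra]; group
    rw [e]
    have hcN : c ∈ N := (le_sup_right : _ ≤ N) hc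
    exact N.mul_mem (N.mul_mem hcN (hAN ha)) (N.inv_mem hcN)
  have hQA : ⁅Q, A⁆ ≤ N := by
    rw [← M.QA_stable S, Subgroup.commutator_le]
    intro z hz a ha
    have e : ⁅z, a⁆ = z * a * z⁻¹ * a⁻¹ := by rw [commutatorElement_def]
    rw [e]
    exact N.mul_mem (hconj z (le_sup_left (b := A) hz) a ha) (N.inv_mem (hAN ha))
  have hEN : ⁅Q, A⁆ ⊔ A ≤ N := sup_le hQA hAN
  have hD : D = A.map (MulAut.conj h⁻¹).toMonoidHom := by
    rw [hA, map_conj_inv_map_conj]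
  rw [hD]
  exact le_trans (M.conj_le_EA hS3 S (H.inv_mem hh)) hEN

end thmA

end Cfsg.Agent.Lib.Lead.KS93
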