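import Mathlib
import Cfsg.Agent.Lib.Lead.KS9310c

set_option autoImplicit false

namespace Cfsg.Agent.Lib.Lead.KS93

open scoped commutatorElement
open Cfsg.Agent.Lib.Lead Cfsg.Agent.Lib.Helper6 Cfsg.Agent.Lib.Lead.Diag

theorem exists_order_three_SL22 : ∃ u : Matrix.SpecialLinearGroup (Fin 2) (ZMod 2),
    u ^ 3 = 1 ∧ u ≠ 1 := by
  decide +kernel

theorem exists_order_two_SL23 : ∃ u : Matrix.SpecialLinearGroup (Fin 2) (ZMod 3),
    u ^ 2 = 1 ∧ u ≠ 1 := by
  decide +kernel

section qcond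
variable {G : Type*} [Group G] [Finite G] {p : ℕ} [hp : Fact p.Prime] {V H Q A : Subgroup G}

/-- both `2` and `3` divide the order of `H` when a minimal offender exists -/
theorem MinOff.six_dvd (S : Setup p V H Q) (M : MinOff p V H A) :
    2 ∣ Nat.card H ∧ 3 ∣ Nat.card H := by
  obtain ⟨hp23, ⟨e⟩⟩ := M.iso S
  have hE : Nat.card ↥(⁅Q, A⁆ ⊔ A) ∣ Nat.card H := Subgroup.card_dvd_of_le (M.EA_le S)
  have hpE : p ∣ Nat.card ↥(⁅Q, A⁆ ⊔ A) := by
    have h1 : Nat.card A ∣ Nat.card ↥(⁅Q, A⁆ ⊔ A) := Subgroup.card_dvd_of_le le_sup_right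
    rwa [M.card S] at h1
  rcases hp23 with rfl | rfl
  · refine ⟨dvd_trans hpE hE, ?_⟩
    obtain ⟨u, hu3, hu1⟩ := exists_order_three_SL22
    have h1 : orderOf (e.symm u) = 3 := by
      apply orderOf_eq_prime
      · rw [← map_pow, hu3, map_one]
      · intro h
        apply hu1
        have := congrArg e h
        simpa using this
    have h2 : orderOf (e.symm u) ∣ Nat.card ↥(⁅Q, A⁆ ⊔ A) := orderOf_dvd_natCard _
    rw [h1] at h2
    exact dvd_trans h2 hE
  · refine ⟨?_, dvd_trans hpE hE⟩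
    obtain ⟨u, hu2, hu1⟩ := exists_order_two_SL23
    have h1 : orderOf (e.symm u) = 2 := by
      apply orderOf_eq_prime
      · rw [← map_pow, hu2, map_one]
      · intro h
        apply hu1
        have := congrArg e h
        simpa using this
    have h2 : orderOf (e.symm u) ∣ Nat.card ↥(⁅Q, A⁆ ⊔ A) := orderOf_dvd_natCard _
    rw [h1] at h2
    exact dvd_trans h2 hE

/-- arithmetic conditions on a prime not dividing the order of `H` -/
theorem MinOff.q_conditions (S : Setup p V H Q) (M : MinOff p V H A) {q : ℕ} (hq : q.Prime)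
    (hqH : ¬ q ∣ Nat.card H) : q ≠ p ∧ ¬ q ∣ p - 1 ∧ ¬ q ∣ p ^ 2 - 1 := by
  obtain ⟨h2, h3⟩ := M.six_dvd S
  obtain ⟨hp23, -⟩ := M.iso S
  have hq2 : q ≠ 2 := by
    rintro rfl
    exact hqH h2
  have hq3 : q ≠ 3 := by
    rintro rfl
    exact hqH h3
  have hq5 : 5 ≤ q := by
    have h2 := hq.two_le
    by_contra hlt
    have h4 : q = 4 := by omega
    rw [h4] at hq
    norm_num at hq
  rcases hp23 with rfl | rfl
  · refine ⟨hq2, ?_, ?_⟩
    · intro h
      have := Nat.le_of_dvd (by norm_num) h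
      omega
    · intro h
      have := Nat.le_of_dvd (by norm_num) h
      omega
  · refine ⟨hq3, ?_, ?_⟩
    · intro h
      have := Nat.le_of_dvd (by norm_num) h
      omega
    · intro h
      have h8 : q ∣ 2 ^ 3 := by
        have e : (3 : ℕ) ^ 2 - 1 = 2 ^ 3 := by norm_num
        rwa [e] at h
      have := (Nat.prime_dvd_prime_iff_eq hq Nat.prime_two).mp (hq.dvd_of_dvd_pow h8)
      exact hq2 this

end qcond

end Cfsg.Agent.Lib.Lead.KS93

namespace Cfsg.Agent.Lib.Lead.KS93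

open scoped commutatorElement
open Cfsg.Agent.Lib.Lead Cfsg.Agent.Lib.Helper6 Cfsg.Agent.Lib.Lead.Diag

section thmA'
variable {G : Type*} [Group G] [Finite G] {p : ℕ} [hp : Fact p.Prime] {V H Q A : Subgroup G}
variable (hS3 : H = ⨆ A : {A : Subgroup G // A ≤ H ∧ Cfsg.IsBestOffenderOn p V A}, (A : Subgroup G))
include hS3

/-- Theorem A with the arithmetic conditions derived from coprimality -/
theorem eq_sylow_sup_fixed' (S : Setup p V H Q) {q : ℕ} [hq : Fact q.Prime]
    {X : Subgroup G} (hXab : ∀ x ∈ X, ∀ y ∈ X, x * y = y * x) (hXq : IsPGroup q X)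
    (hXV : X ≤ Subgroup.normalizer (V : Set G)) (hXH : X ≤ Subgroup.normalizer (H : Set G))
    (hcop : (Nat.card X).Coprime (Nat.card H)) {T : Subgroup G}
    (hT : ∀ d ∈ H, d ^ p = 1 → ∃ h ∈ H, h * d * h⁻¹ ∈ T) :
    H ≤ T ⊔ (H ⊓ Subgroup.centralizer (X : Set G)) := by
  by_cases hX1 : X = ⊥
  · rw [hX1]
    have : Subgroup.centralizer (((⊥ : Subgroup G) : Subgroup G) : Set G) = ⊤ := by
      rw [Subgroup.coe_bot, Subgroup.centralizer_eq_top_iff_subset]
      intro x hx
      rw [Set.mem_singleton_iff] at hx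
      rw [hx]
      exact Subgroup.one_mem _
    rw [this, inf_top_eq]
    exact le_sup_right
  have hqH : ¬ q ∣ Nat.card H := by
    intro h
    obtain ⟨n, hn⟩ := hXq.exists_card_eq
    have hn0 : n ≠ 0 := by
      rintro rfl
      rw [pow_zero, Subgroup.card_eq_one] at hn
      exact hX1 hn
    have h1 : q ∣ Nat.card X := by
      rw [hn]
      exact dvd_pow_self q hn0
    have h2 := Nat.dvd_gcd h1 h
    rw [Nat.Coprime] at hcop
    rw [hcop] at h2
    exact hq.out.one_lt.ne' (Nat.dvd_one.mp h2)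
  apply le_of_minOff S hS3
  intro D MD
  obtain ⟨hqp, hq1, hq2⟩ := MD.q_conditions S hq.out hqH
  have := eq_sylow_sup_fixed hS3 S hqp hq1 hq2 hXab hXq hXV hXH hcop hT
  exact le_trans MD.hAH this

end thmA'

end Cfsg.Agent.Lib.Lead.KS93
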