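import Mathlib
import Cfsg.Agent.Lib.Lead.Holo5
import Cfsg.Agent.Lib.Lead.KS9310d
import Cfsg.Agent.Lib.Lead.CoprimeAction

set_option autoImplicit false

namespace Cfsg.Agent.Lib.Lead.Holo

open scoped commutatorElement Pointwise
open Cfsg.Agent.Lib.Helper2.OmegaZ Cfsg.Agent.Lib.Lead.KS93 Cfsg.Agent.Lib.Lead

universe u

section char
variable {G : Type u} [Group G] {p : ℕ}

theorem WS_map_aut [Finite G] [Fact p.Prime] (φ : MulAut G) (S : Sylow p G) :
    (WS p (S : Subgroup G)).map φ.toMonoidHom ≤ WS p ((φ • S : Sylow p G) : Subgroup G) := by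
  unfold WS Cfsg.omegaOne
  rw [MonoidHom.map_closure, Subgroup.closure_le]
  rintro _ ⟨x, ⟨hx, hxp⟩, rfl⟩
  apply Subgroup.subset_closure
  rw [Subgroup.mem_inf] at hx
  have hconj : ∀ y : G, y ∈ (S : Subgroup G) → φ y ∈ ((φ • S : Sylow p G) : Subgroup G) := by
    intro y hy
    rw [Sylow.pointwise_smul_def]
    exact Subgroup.smul_mem_pointwise_smul y φ (S : Subgroup G) hy
  constructor
  · rw [Subgroup.mem_inf]
    refine ⟨hconj x hx.1, ?_⟩
    rw [Subgroup.mem_centralizer_iff]
    intro y hy
    have hy' : φ⁻¹ y ∈ (S : Subgroup G) := by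
      rw [SetLike.mem_coe, Sylow.pointwise_smul_def,
        Subgroup.mem_pointwise_smul_iff_inv_smul_mem] at hy
      exact hy
    have h3 := Subgroup.mem_centralizer_iff.mp hx.2 _ hy'
    have h4 := congrArg φ h3
    simp only [map_mul, MulEquiv.coe_toMonoidHom] at h4 ⊢
    have e : φ (φ⁻¹ y) = y := by
      show φ (φ.symm y) = y
      exact φ.apply_symm_apply y
    rw [e] at h4
    exact h4
  · show (φ x) ^ p = 1
    rw [← map_pow, hxp, map_one]

theorem VV_characteristic [Finite G] [Fact p.Prime] : (VV p G).Characteristic := by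
  rw [Subgroup.characteristic_iff_map_le]
  intro φ
  unfold VV
  rw [Subgroup.map_iSup]
  apply iSup_le
  intro S
  exact (WS_map_aut φ S).trans
    (le_iSup (fun S : Sylow p G => WS p (S : Subgroup G)) (φ • S))

/-- restriction of automorphisms to a characteristic subgroup -/
def restrictChar (V : Subgroup G) [hV : V.Characteristic] : MulAut G →* MulAut ↥V where
  toFun φ :=
    { toFun := fun v => ⟨φ v, by
        have h := hV.fixed φ
        have : (v : G) ∈ V.comap φ.toMonoidHom := by rw [h]; exact v.2
        exact this⟩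
      invFun := fun v => ⟨φ.symm v, by
        have h := hV.fixed φ.symm
        have : (v : G) ∈ V.comap φ.symm.toMonoidHom := by rw [h]; exact v.2
        exact this⟩
      left_inv := fun v => Subtype.ext (φ.symm_apply_apply (v : G))
      right_inv := fun v => Subtype.ext (φ.apply_symm_apply (v : G))
      map_mul' := fun v w => Subtype.ext (map_mul φ (v : G) (w : G)) }
  map_one' := by
    ext v
    rfl
  map_mul' := by
    intro φ ψ
    ext v
    rfl

theorem restrictChar_apply (V : Subgroup G) [V.Characteristic] (φ : MulAut G) (v : ↥V) :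
    ((restrictChar V φ v : ↥V) : G) = φ v := rfl

end char

section conjsub
variable {G : Type u} [Group G]

/-- conjugation action of a subgroup `X` normalizing `K` on `K` -/
def conjSub (K X : Subgroup G) (hXK : X ≤ Subgroup.normalizer (K : Set G)) :
    ↥X →* MulAut ↥K where
  toFun x :=
    { toFun := fun k => ⟨(x : G) * k * (x : G)⁻¹,
        (Subgroup.mem_normalizer_iff.mp (hXK x.2) k).mp k.2⟩
      invFun := fun k => ⟨(x : G)⁻¹ * k * (x : G), by
        have := (Subgroup.mem_normalizer_iff.mp (hXK (X.inv_mem x.2)) k).mp k.2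
        simpa using this⟩
      left_inv := fun k => Subtype.ext (by simp [mul_assoc])
      right_inv := fun k => Subtype.ext (by simp [mul_assoc])
      map_mul' := fun k l => Subtype.ext (by simp [mul_assoc]) }
  map_one' := by
    ext k
    simp
  map_mul' := by
    intro x y
    ext k
    simp [mul_assoc]

theorem conjSub_apply (K X : Subgroup G) (hXK : X ≤ Subgroup.normalizer (K : Set G)) (x : ↥X)
    (k : ↥K) : ((conjSub K X hXK x k : ↥K) : G) = (x : G) * k * (x : G)⁻¹ := rfl

end conjsub

end Cfsg.Agent.Lib.Lead.Holo
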