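import Mathlib
import Cfsg.Agent.Lib.Lead.Holo7
import Cfsg.Agent.Lib.Lead.ExpSec1
import Cfsg.Agent.Lib.Helper2.ThompsonOf
import Cfsg.Agent.Lib.Helper9.GroupFusion

set_option autoImplicit false

namespace Cfsg.Agent.Lib.Lead.Holo

open scoped commutatorElement Pointwise
open Cfsg.Agent.Lib.Helper2.OmegaZ Cfsg.Agent.Lib.Lead.KS93 Cfsg.Agent.Lib.Lead

universe u

section equiv
variable {G : Type u} [Group G] (V : Subgroup G) [hVc : V.Characteristic]

/-- automorphisms of `G` acting in the holomorph of a characteristic subgroup -/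
def xiAut : MulAut G →* Hol V := SemidirectProduct.inr.comp (restrictChar V)

theorem psi_aut (φ : MulAut G) (g : G) :
    psi V (φ g) = xiAut V φ * psi V g * (xiAut V φ)⁻¹ := by
  unfold xiAut
  rw [psi_apply, psi_apply, MonoidHom.comp_apply, ← map_inv, ← map_mul, ← map_mul]
  congr 1
  apply MulEquiv.ext
  intro v
  apply Subtype.ext
  rw [MulAut.conjNormal_apply]
  show (φ g) * (v : G) * (φ g)⁻¹ = φ (g * (φ.symm (v : G)) * g⁻¹)
  rw [map_mul, map_mul, map_inv, MulEquiv.apply_symm_apply]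

end equiv

section xi
variable {G : Type u} [Group G] (K X : Subgroup G) (hXK : X ≤ Subgroup.normalizer (K : Set G))
  (V : Subgroup ↥K) [hVc : V.Characteristic]

/-- the action of `X` in the holomorph of `V` -/
def xi : ↥X →* Hol V := (xiAut V).comp (conjSub K X hXK)

theorem psi_conjSub (x : ↥X) (k : ↥K) :
    psi V (conjSub K X hXK x k) = xi K X hXK V x * psi V k * (xi K X hXK V x)⁻¹ :=
  psi_aut V _ k

theorem xi_range_le_normalizer (J : Subgroup ↥K) [hJc : J.Characteristic] :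
    (xi K X hXK V).range ≤
      Subgroup.normalizer (((J.map (psi V) : Subgroup (Hol V))) : Set (Hol V)) := by
  apply Cfsg.Agent.Lib.Lead.ExpSec.le_normalizer_of_conj_mem
  rintro _ ⟨x, rfl⟩ _ ⟨j, hj, rfl⟩
  rw [← psi_conjSub]
  refine ⟨_, ?_, rfl⟩
  have h := hJc.fixed (conjSub K X hXK x)
  have : j ∈ J.comap (conjSub K X hXK x).toMonoidHom := by rw [h]; exact hj
  exact this

theorem xi_range_comm (hXab : ∀ x ∈ X, ∀ y ∈ X, x * y = y * x) :
    ∀ a ∈ (xi K X hXK V).range, ∀ b ∈ (xi K X hXK V).range, a * b = b * a := by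
  rintro _ ⟨x, rfl⟩ _ ⟨y, rfl⟩
  rw [← map_mul, ← map_mul]
  congr 1
  exact Subtype.ext (hXab x x.2 y y.2)

theorem xi_range_isPGroup {q : ℕ} (hXq : IsPGroup q X) : IsPGroup q (xi K X hXK V).range :=
  IsPGroup.of_surjective hXq (xi K X hXK V).rangeRestrict (xi K X hXK V).rangeRestrict_surjective

include hXK in
theorem map_subtype_le_normalizer_of_char (C : Subgroup ↥K) [hCc : C.Characteristic] :
    X ≤ Subgroup.normalizer (((C.map K.subtype : Subgroup G)) : Set G) := by
  apply Cfsg.Agent.Lib.Lead.ExpSec.le_normalizer_of_conj_mem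
  rintro x hx _ ⟨c, hc, rfl⟩
  refine ⟨conjSub K X hXK ⟨x, hx⟩ c, ?_, rfl⟩
  have h := hCc.fixed (conjSub K X hXK ⟨x, hx⟩)
  have : c ∈ C.comap (conjSub K X hXK ⟨x, hx⟩).toMonoidHom := by rw [h]; exact hc
  exact this

end xi

end Cfsg.Agent.Lib.Lead.Holo
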