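import Mathlib
import Cfsg.Agent.Lib.Lead.Holo8

set_option autoImplicit false

namespace Cfsg.Agent.Lib.Lead.Holo

open scoped commutatorElement Pointwise
open Cfsg.Agent.Lib.Helper2.OmegaZ Cfsg.Agent.Lib.Lead.KS93 Cfsg.Agent.Lib.Lead

universe u

section sylowconj
variable {K : Type*} [Group K] [Finite K] {p : ℕ} [hp : Fact p.Prime]

/-- a `p`-element of a normal subgroup `J` is `J`-conjugate into `S ⊓ J` -/
theorem exists_conj_mem_sylow_inf (S : Sylow p K) (J : Subgroup K) [hJ : J.Normal] {u : K}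
    (hu : u ∈ J) {a : ℕ} (hua : u ^ p ^ a = 1) :
    ∃ c ∈ J, c * u * c⁻¹ ∈ (S : Subgroup K) ⊓ J := by
  have hR : IsPGroup p (Subgroup.zpowers u) := by
    rintro ⟨y, hy⟩
    obtain ⟨z, rfl⟩ := Subgroup.mem_zpowers_iff.mp hy
    refine ⟨a, Subtype.ext ?_⟩
    show (u ^ z) ^ p ^ a = 1
    rw [← zpow_natCast, ← zpow_mul, mul_comm, zpow_mul, zpow_natCast, hua, one_zpow]
  obtain ⟨g, hg⟩ := Cfsg.Agent.Lib.Helper9.exists_map_conj_le_sylow S hR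
  have hgu : g * u * g⁻¹ ∈ (S : Subgroup K) := by
    have := hg ⟨u, Subgroup.mem_zpowers u, rfl⟩
    simpa [MulAut.conj_apply] using this
  obtain ⟨c, hc, n, hn, e⟩ := Cfsg.Agent.Lib.Helper2.ThompsonOf.frattini_inf S J g⁻¹
  have hg' : g = n⁻¹ * c⁻¹ := by
    have : g = (g⁻¹)⁻¹ := (inv_inv g).symm
    rw [this, e, mul_inv_rev]
  have h1 : g * u * g⁻¹ ∈ (S : Subgroup K) ⊓ J := ⟨hgu, hJ.conj_mem u hu g⟩
  have h2 := (Subgroup.mem_normalizer_iff.mp hn _).mp h1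
  refine ⟨c⁻¹, J.inv_mem hc, ?_⟩
  have e2 : n * (g * u * g⁻¹) * n⁻¹ = c⁻¹ * u * c⁻¹⁻¹ := by
    rw [hg']; group
  rw [← e2]
  exact h2

end sylowconj

section hT
variable {K : Type u} [Group K] [Finite K] {p : ℕ} [hp : Fact p.Prime]

theorem hT_of (V : Subgroup K) [V.Normal] (S : Sylow p K) (J : Subgroup K) [hJ : J.Normal] :
    ∀ d ∈ J.map (psi V), d ^ p = 1 → ∃ h ∈ J.map (psi V),
      h * d * h⁻¹ ∈ ((S : Subgroup K) ⊓ J).map (psi V) := by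
  rintro _ ⟨j, hj, rfl⟩ hdp
  have hK0 : Nat.card K ≠ 0 := Nat.card_pos.ne'
  obtain ⟨a, m, hm, hKm⟩ := Nat.exists_eq_pow_mul_and_not_dvd hK0 p hp.out.one_lt.ne'
  have hcop : Nat.Coprime m p := ((Nat.Prime.coprime_iff_not_dvd hp.out).mpr hm).symm
  obtain ⟨m', -, hm'⟩ := Nat.exists_mul_mod_eq_one_of_coprime hcop hp.out.one_lt
  have hu : j ^ (m * m') ∈ J := J.pow_mem hj _
  have hua : (j ^ (m * m')) ^ p ^ a = 1 := by
    rw [← pow_mul]
    have : m * m' * p ^ a = Nat.card K * m' := by rw [hKm]; ring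
    rw [this, pow_mul, pow_card_eq_one', one_pow]
  have hψ : psi V (j ^ (m * m')) = psi V j := by
    rw [map_pow, pow_eq_pow_mod (m * m') hdp, hm', pow_one]
  obtain ⟨c, hc, hcu⟩ := exists_conj_mem_sylow_inf S J hu hua
  refine ⟨psi V c, ⟨c, hc, rfl⟩, ?_⟩
  rw [← hψ, ← map_inv, ← map_mul, ← map_mul]
  exact ⟨_, hcu, rfl⟩

end hT

end Cfsg.Agent.Lib.Lead.Holo
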