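import Mathlib
import Cfsg.Agent.Lib.Lead.Holo9
import Cfsg.Agent.Lib.Helper4.HallHigman

set_option autoImplicit false

namespace Cfsg.Agent.Lib.Lead.Holo

open scoped commutatorElement Pointwise
open Cfsg.Agent.Lib.Helper2.OmegaZ Cfsg.Agent.Lib.Lead.KS93 Cfsg.Agent.Lib.Lead

universe u

theorem thompsonSubgroup_characteristic {G : Type u} [Group G] (p : ℕ) :
    (Cfsg.thompsonSubgroup p G).Characteristic := by
  rw [Subgroup.characteristic_iff_map_le]
  intro e
  exact le_of_eq (Cfsg.Agent.Lib.Lead.WS.map_thompsonSubgroup e)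

section pullback
variable {G : Type u} [Group G] [Finite G] (K X : Subgroup G)
  (hXK : X ≤ Subgroup.normalizer (K : Set G)) (V : Subgroup ↥K) [hVc : V.Characteristic]

theorem fixed_pullback (hXab : ∀ x ∈ X, ∀ y ∈ X, x * y = y * x)
    (hcop : (Nat.card X).Coprime (Nat.card K)) {j : ↥K}
    (hj : psi V j ∈
      Subgroup.centralizer (((xi K X hXK V).range : Subgroup (Hol V)) : Set (Hol V))) :
    j ∈ Subgroup.centralizer (V : Set ↥K) ⊔ (Subgroup.centralizer (X : Set G)).subgroupOf K := by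
  obtain ⟨C, hC⟩ : ∃ C : Subgroup ↥K, C = Subgroup.centralizer (V : Set ↥K) := ⟨_, rfl⟩
  rw [← hC]
  haveI hCc : C.Characteristic := by rw [hC]; infer_instance
  haveI hCn : C.Normal := inferInstance
  have hsolv : IsSolvable ↥X :=
    isSolvable_of_comm (fun a b => Subtype.ext (hXab a a.2 b b.2))
  have hfix : ∀ a ∈ X, a * (j : G) * a⁻¹ * (j : G)⁻¹ ∈ C.map K.subtype := by
    intro a ha
    refine ⟨conjSub K X hXK ⟨a, ha⟩ j * j⁻¹, ?_, rfl⟩
    rw [SetLike.mem_coe, hC, ← psi_eq_one_iff, map_mul, map_inv, psi_conjSub]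
    have := Subgroup.mem_centralizer_iff.mp hj (xi K X hXK V ⟨a, ha⟩) ⟨_, rfl⟩
    rw [this]; group
  have hNn : K ≤ Subgroup.normalizer (((C.map K.subtype : Subgroup G)) : Set G) := by
    apply Cfsg.Agent.Lib.Lead.ExpSec.le_normalizer_of_conj_mem
    rintro k hk _ ⟨c, hc, rfl⟩
    exact ⟨⟨k, hk⟩ * c * ⟨k, hk⟩⁻¹, hCn.conj_mem c hc _, rfl⟩
  obtain ⟨c, hc, hkc⟩ := coprime_fixed_coset X K hXK hcop (Or.inl hsolv) (C.map K.subtype)
    (Subgroup.map_subtype_le _) hNn (map_subtype_le_normalizer_of_char K X hXK C) (j : G) j.2 hfix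
  obtain ⟨c0, hc0, e0⟩ := hkc
  have e : j = ⟨c, hc.1⟩ * c0⁻¹ := by
    apply Subtype.ext
    have e1 : ((c0 : ↥K) : G) = (j : G)⁻¹ * c := e0
    simp only [Subgroup.coe_mul, Subgroup.coe_inv, e1]
    group
  rw [e, sup_comm]
  apply Subgroup.mul_mem_sup
  · rw [Subgroup.mem_subgroupOf]
    exact hc.2
  · exact C.inv_mem hc0

end pullback

end Cfsg.Agent.Lib.Lead.Holo
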