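import Mathlib
import Cfsg.Agent.Lib.Lead.Holo10

set_option autoImplicit false

namespace Cfsg.Agent.Lib.Lead.Holo

open scoped commutatorElement Pointwise
open Cfsg.Agent.Lib.Helper2.OmegaZ Cfsg.Agent.Lib.Lead.KS93 Cfsg.Agent.Lib.Lead

universe u

section main
variable {G : Type u} [Group G] [Finite G] {p q : ℕ} [hp : Fact p.Prime] [hq : Fact q.Prime]
  (K X : Subgroup G) (hXK : X ≤ Subgroup.normalizer (K : Set G))

include hXK in
theorem thompson_le_sup (hX : Cfsg.IsElementaryAbelian q X) (hqK : ¬ q ∣ Nat.card K)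
    (hsep : Cfsg.IsPSolvable p ↥K) (hO : Cfsg.pPrimeCore p ↥K = ⊥) (S : Sylow p ↥K) :
    Cfsg.thompsonSubgroup p ↥K ≤ ((S : Subgroup ↥K) ⊓ Cfsg.thompsonSubgroup p ↥K) ⊔
      Subgroup.centralizer ((VV p ↥K : Subgroup ↥K) : Set ↥K) ⊔
      (Subgroup.centralizer (X : Set G)).subgroupOf K := by
  classical
  have hc := Cfsg.Agent.Lib.Helper4.centralizer_pCore_le_of_isPSolvable hsep hO
  haveI hVc : (VV p ↥K).Characteristic := VV_characteristic
  have hVea : Cfsg.IsElementaryAbelian p (VV p ↥K) := isEA_of_le_omegaZ _ (VV_le_omegaZ hc)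
  haveI hn : (Subgroup.centralizer ((VV p ↥K : Subgroup ↥K) : Set ↥K)).Normal :=
    Subgroup.normal_centralizer
  have hC := pCore_quotient_centralizer_VV (G := ↥K) (p := p)
  obtain ⟨H', Q', hH', St, hS3'⟩ := exists_setup (VV p ↥K) hVea hsep hC
  obtain ⟨J, hJdef⟩ : ∃ J : Subgroup ↥K, J = Cfsg.thompsonSubgroup p ↥K := ⟨_, rfl⟩
  rw [← hJdef] at hH' ⊢
  haveI hJc : J.Characteristic := by rw [hJdef]; exact thompsonSubgroup_characteristic p
  haveI hJn : J.Normal := inferInstance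
  obtain ⟨hXab, hXexp⟩ := (Cfsg.Agent.Lib.Helper2.isEA_iff q X).mp hX
  have hXq : IsPGroup q X := by
    intro g
    refine ⟨1, Subtype.ext ?_⟩
    rw [pow_one]
    simpa using hXexp g g.2
  have hcop : (Nat.card X).Coprime (Nat.card K) := by
    obtain ⟨n, hn⟩ := hXq.exists_card_eq
    rw [hn]
    exact Nat.Coprime.pow_left n ((Nat.Prime.coprime_iff_not_dvd hq.out).mpr hqK)
  have hcop' : (Nat.card (xi K X hXK (VV p ↥K)).range).Coprime (Nat.card H') := by
    have h1 : Nat.card (xi K X hXK (VV p ↥K)).range ∣ Nat.card X := Subgroup.card_range_dvd _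
    have h2 : Nat.card H' ∣ Nat.card K := by
      rw [hH']
      exact dvd_trans (Dvd.intro_left _ (card_inf_ker_mul_card_map (psi (VV p ↥K)) J))
        (Subgroup.card_subgroup_dvd_card J)
    exact Nat.Coprime.coprime_dvd_left h1 (Nat.Coprime.coprime_dvd_right h2 hcop)
  have hXH' : (xi K X hXK (VV p ↥K)).range ≤
      Subgroup.normalizer ((H' : Subgroup (Hol (VV p ↥K))) : Set (Hol (VV p ↥K))) := by
    rw [hH']
    exact xi_range_le_normalizer K X hXK (VV p ↥K) J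
  have hT : ∀ d ∈ H', d ^ p = 1 → ∃ h ∈ H', h * d * h⁻¹ ∈
      ((S : Subgroup ↥K) ⊓ J).map (psi (VV p ↥K)) := by
    rw [hH']
    exact hT_of (VV p ↥K) S J
  have hA := eq_sylow_sup_fixed' hS3' St (xi_range_comm K X hXK (VV p ↥K) hXab)
    (xi_range_isPGroup K X hXK (VV p ↥K) hXq) (le_normalizer_VH (VV p ↥K) _) hXH' hcop' hT
  obtain ⟨N, hN⟩ : ∃ N : Subgroup ↥K, N = ((S : Subgroup ↥K) ⊓ J) ⊔
      Subgroup.centralizer ((VV p ↥K : Subgroup ↥K) : Set ↥K) ⊔
      (Subgroup.centralizer (X : Set G)).subgroupOf K := ⟨_, rfl⟩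
  rw [← hN]
  have hCN : Subgroup.centralizer ((VV p ↥K : Subgroup ↥K) : Set ↥K) ≤ N := by
    rw [hN]; exact le_sup_right.trans le_sup_left
  have hle : ((S : Subgroup ↥K) ⊓ J).map (psi (VV p ↥K)) ⊔
      (H' ⊓ Subgroup.centralizer (((xi K X hXK (VV p ↥K)).range :
        Subgroup (Hol (VV p ↥K))) : Set (Hol (VV p ↥K)))) ≤ N.map (psi (VV p ↥K)) := by
    apply sup_le
    · apply Subgroup.map_mono
      rw [hN]; exact le_sup_left.trans le_sup_left
    · rintro y ⟨hyH, hyC⟩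
      rw [hH'] at hyH
      obtain ⟨j', hj', rfl⟩ := hyH
      refine ⟨j', ?_, rfl⟩
      have := fixed_pullback K X hXK (VV p ↥K) hXab hcop hyC
      refine (sup_le hCN ?_) this
      rw [hN]; exact le_sup_right
  intro j hj
  have h1 : psi (VV p ↥K) j ∈ H' := by rw [hH']; exact ⟨j, hj, rfl⟩
  obtain ⟨n, hnN, hnj⟩ := hle (hA h1)
  have h2 : n⁻¹ * j ∈ Subgroup.centralizer ((VV p ↥K : Subgroup ↥K) : Set ↥K) := by
    rw [← psi_eq_one_iff, map_mul, map_inv, hnj, inv_mul_cancel]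
  have e : j = n * (n⁻¹ * j) := by group
  rw [e]
  exact N.mul_mem hnN (hCN h2)

include hXK in
theorem generation (hX : Cfsg.IsElementaryAbelian q X) (hqK : ¬ q ∣ Nat.card K)
    (hsep : Cfsg.IsPSolvable p ↥K) (hO : Cfsg.pPrimeCore p ↥K = ⊥) (S : Sylow p ↥K) :
    (Subgroup.normalizer (Cfsg.thompsonSubgroupOf p (S : Subgroup ↥K) : Set ↥K) ⊔
      Subgroup.centralizer (Cfsg.omegaOne p ((S : Subgroup ↥K) ⊓
        Subgroup.centralizer ((S : Subgroup ↥K) : Set ↥K)) : Set ↥K) ⊔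
      (Subgroup.centralizer (X : Set G)).subgroupOf K) = ⊤ := by
  rw [eq_top_iff]
  intro g _
  haveI hJn : (Cfsg.thompsonSubgroup p ↥K).Normal := thompsonSubgroup_normal p
  obtain ⟨c, hc, n, hn, rfl⟩ :=
    Cfsg.Agent.Lib.Helper2.ThompsonOf.frattini_inf S (Cfsg.thompsonSubgroup p ↥K) g
  have h1 := thompson_le_sup K X hXK hX hqK hsep hO S hc
  have hSN : (S : Subgroup ↥K) ≤
      Subgroup.normalizer (Cfsg.thompsonSubgroupOf p (S : Subgroup ↥K) : Set ↥K) :=
    le_trans Subgroup.le_normalizer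
      (Cfsg.Agent.Lib.Helper2.ThompsonOf.normalizer_le_normalizer_thompsonOf
        (Cfsg.Agent.Lib.Helper2.ThompsonOf.thompsonSubgroupOf_le _) le_rfl)
  have hCV : Subgroup.centralizer ((VV p ↥K : Subgroup ↥K) : Set ↥K) ≤
      Subgroup.centralizer (Cfsg.omegaOne p ((S : Subgroup ↥K) ⊓
        Subgroup.centralizer ((S : Subgroup ↥K) : Set ↥K)) : Set ↥K) := by
    apply Subgroup.centralizer_le
    exact_mod_cast (le_iSup (fun S : Sylow p ↥K => WS p (S : Subgroup ↥K)) S)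
  have hle : ((S : Subgroup ↥K) ⊓ Cfsg.thompsonSubgroup p ↥K) ⊔
      Subgroup.centralizer ((VV p ↥K : Subgroup ↥K) : Set ↥K) ⊔
      (Subgroup.centralizer (X : Set G)).subgroupOf K ≤
      (Subgroup.normalizer (Cfsg.thompsonSubgroupOf p (S : Subgroup ↥K) : Set ↥K) ⊔
      Subgroup.centralizer (Cfsg.omegaOne p ((S : Subgroup ↥K) ⊓
        Subgroup.centralizer ((S : Subgroup ↥K) : Set ↥K)) : Set ↥K) ⊔
      (Subgroup.centralizer (X : Set G)).subgroupOf K) :=
    sup_le_sup_right (sup_le_sup (inf_le_left.trans hSN) hCV) _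
  refine Subgroup.mul_mem _ (hle h1) ?_
  refine (le_sup_left.trans le_sup_left : Subgroup.normalizer
    (Cfsg.thompsonSubgroupOf p (S : Subgroup ↥K) : Set ↥K) ≤ _) ?_
  exact Cfsg.Agent.Lib.Helper2.ThompsonOf.normalizer_le_normalizer_thompsonOf
    (le_inf (Cfsg.Agent.Lib.Helper2.ThompsonOf.thompsonSubgroupOf_le _)
      (Cfsg.Agent.Lib.Helper2.ThompsonOf.thompsonOf_le_thompson S)) inf_le_left hn

end main

end Cfsg.Agent.Lib.Lead.Holo
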