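import Mathlib
import Cfsg.Agent.Lib.Lead.KS9310d

set_option autoImplicit false

namespace Cfsg.Agent.Lib.Lead.KS93

open scoped commutatorElement
open Cfsg.Agent.Lib.Lead Cfsg.Agent.Lib.Helper6 Cfsg.Agent.Lib.Lead.Diag

section conjpow
variable {G : Type*} [Group G]

theorem conj_pow_fix {a e : G} (h : a * e * a⁻¹ = e) (n : ℕ) : a ^ n * e * (a ^ n)⁻¹ = e := by
  induction n with
  | zero => simp
  | succ n ih =>
    calc a ^ (n + 1) * e * (a ^ (n + 1))⁻¹ = a * (a ^ n * e * (a ^ n)⁻¹) * a⁻¹ := by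
          rw [pow_succ']; group
      _ = e := by rw [ih, h]

theorem conj_pow_shear {a e1 e2 : G} (h1 : a * e1 * a⁻¹ = e1) {k : ℕ}
    (h2 : a * e2 * a⁻¹ = e2 * e1 ^ k) (n : ℕ) :
    a ^ n * e2 * (a ^ n)⁻¹ = e2 * e1 ^ (k * n) := by
  induction n with
  | zero => simp
  | succ n ih =>
    have h3 : a * e1 ^ (k * n) * a⁻¹ = e1 ^ (k * n) := by
      have : a * e1 ^ (k * n) * a⁻¹ = (a * e1 * a⁻¹) ^ (k * n) := by
        rw [conj_pow]
      rw [this, h1]
    calc a ^ (n + 1) * e2 * (a ^ (n + 1))⁻¹ = a * (a ^ n * e2 * (a ^ n)⁻¹) * a⁻¹ := by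
          rw [pow_succ']; group
      _ = (a * e2 * a⁻¹) * (a * e1 ^ (k * n) * a⁻¹) := by rw [ih]; group
      _ = e2 * e1 ^ (k * (n + 1)) := by
          rw [h2, h3, mul_assoc, ← pow_add, mul_add, mul_one, add_comm]

end conjpow

section rel
variable {G : Type*} [Group G] [Finite G] {p : ℕ} [hp : Fact p.Prime] {V A B : Subgroup G}

/-- the relations satisfied by generators of a transvection pair on the plane `[V, A ⊔ B]` -/
theorem TPair.relations (T : TPair p V A B) (hexp : ∀ v ∈ V, v ^ p = 1) (hA : Nat.card A = p)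
    (hB : Nat.card B = p) {a b : G} (haA : a ∈ A) (ha1 : a ≠ 1) (hbB : b ∈ B) (hb1 : b ≠ 1) :
    ∃ e1 ∈ ⁅V, A⁆, ∃ e2 ∈ ⁅V, B⁆, ∃ k : ℕ, (k : ZMod p) ≠ 0 ∧ e2 ≠ 1 ∧
      a * e1 * a⁻¹ = e1 ∧ a * e2 * a⁻¹ = e2 * e1 ^ k ∧
      b * e1 * b⁻¹ = e1 * e2 ∧ b * e2 * b⁻¹ = e2 := by
  have hAz : A = Subgroup.zpowers a := eq_zpowers_of_card_prime hA haA ha1
  have hBz : B = Subgroup.zpowers b := eq_zpowers_of_card_prime hB hbB hb1
  obtain ⟨e1, he1L, he11, hLaz⟩ := exists_gen_of_card_prime T.hLA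
  have he1V : e1 ∈ V := T.LA_le he1L
  set e2 : G := ⁅b, e1⁆ with he2def
  have he2L : e2 ∈ ⁅V, B⁆ := by
    rw [he2def, ← commutatorElement_inv]
    exact Subgroup.inv_mem _ (Subgroup.commutator_mem_commutator he1V hbB)
  have he2V : e2 ∈ V := T.LB_le he2L
  have f1 : a * e1 * a⁻¹ = e1 := by
    have := Subgroup.mem_centralizer_iff.mp (T.quadA he1L) a haA
    rw [this, mul_inv_cancel_right]
  have f3 : e2 ≠ 1 := by
    intro h
    rw [he2def, commutatorElement_eq_one_iff_mul_comm] at h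
    have h1 : e1 ∈ Subgroup.centralizer (B : Set G) := by
      rw [hBz, mem_centralizer_zpowers_iff]
      exact h.symm
    have h2 : e1 ∈ ⁅V, A⁆ ⊓ Subgroup.centralizer (B : Set G) := ⟨he1L, h1⟩
    rw [T.symm.inf_centralizer, Subgroup.mem_bot] at h2
    exact he11 h2
  have f4 : b * e1 * b⁻¹ = e1 * e2 := by
    rw [T.hVab e1 he1V e2 he2V, he2def, commutatorElement_def]
    group
  have f5 : b * e2 * b⁻¹ = e2 := by
    have := Subgroup.mem_centralizer_iff.mp (T.quadB he2L) b hbB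
    rw [this, mul_inv_cancel_right]
  have hc : e2⁻¹ * (a * e2 * a⁻¹) ∈ ⁅V, A⁆ := by
    have e : e2⁻¹ * (a * e2 * a⁻¹) = ⁅e2⁻¹, a⁆ := by
      rw [commutatorElement_def]; group
    rw [e]
    exact Subgroup.commutator_mem_commutator (V.inv_mem he2V) haA
  rw [hLaz] at hc
  obtain ⟨k, hk⟩ := Subgroup.mem_zpowers_iff.mp hc
  have f6 : a * e2 * a⁻¹ = e2 * e1 ^ k := by
    rw [hk, mul_inv_cancel_left]
  have hkne : (k : ZMod p) ≠ 0 := by
    intro h0
    have hdvd : (p : ℤ) ∣ k := (ZMod.intCast_zmod_eq_zero_iff_dvd k p).mp h0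
    have h1 : e1 ^ k = 1 := by
      rw [← orderOf_dvd_iff_zpow_eq_one]
      exact dvd_trans (Int.natCast_dvd_natCast.mpr (orderOf_dvd_of_pow_eq_one (hexp e1 he1V))) hdvd
    rw [h1, mul_one] at f6
    have h2 : e2 ∈ Subgroup.centralizer (A : Set G) := by
      rw [hAz, mem_centralizer_zpowers_iff]
      have : a * e2 = e2 * a := by
        calc a * e2 = a * e2 * a⁻¹ * a := by group
          _ = e2 * a := by rw [f6]
      exact this.symm
    have h3 : e2 ∈ ⁅V, B⁆ ⊓ Subgroup.centralizer (A : Set G) := ⟨he2L, h2⟩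
    rw [T.inf_centralizer, Subgroup.mem_bot] at h3
    exact f3 h3
  have hp0 : (0 : ℤ) < (p : ℤ) := by exact_mod_cast hp.out.pos
  have hk0 : 0 ≤ k % (p : ℤ) := Int.emod_nonneg k hp0.ne'
  have he1p : e1 ^ ((p : ℕ) : ℤ) = 1 := by
    rw [zpow_natCast]; exact hexp e1 he1V
  have hk' : e1 ^ k = e1 ^ (k % (p : ℤ)).toNat := by
    rw [← zpow_natCast, Int.toNat_of_nonneg hk0]
    exact zpow_eq_zpow_emod k he1p
  refine ⟨e1, he1L, e2, he2L, (k % (p : ℤ)).toNat, ?_, f3, f1, ?_, f4, f5⟩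
  · have : (((k % (p : ℤ)).toNat : ℕ) : ZMod p) = (k : ZMod p) := by
      have h1 : (((k % (p : ℤ)).toNat : ℕ) : ZMod p) = (((k % (p : ℤ)).toNat : ℤ) : ZMod p) := by
        rw [Int.cast_natCast]
      rw [h1, Int.toNat_of_nonneg hk0, ZMod.intCast_mod]
    rw [this]
    exact hkne
  · rw [f6, hk']

end rel

end Cfsg.Agent.Lib.Lead.KS93
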