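import Mathlib
import Cfsg.Agent.Lib.Lead.KS9310e

set_option autoImplicit false

namespace Cfsg.Agent.Lib.Lead.KS93

open scoped commutatorElement
open Cfsg.Agent.Lib.Lead Cfsg.Agent.Lib.Helper6 Cfsg.Agent.Lib.Lead.Diag

section fixeddata
variable {G : Type*} [Group G] [Finite G] {p : ℕ} [hp : Fact p.Prime] {V H Q A : Subgroup G}
variable (hS3 : H = ⨆ A : {A : Subgroup G // A ≤ H ∧ Cfsg.IsBestOffenderOn p V A}, (A : Subgroup G))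
include hS3

/-- the `X`-fixed transvection data coming from a block -/
theorem MinOff.exists_fixed_data (S : Setup p V H Q) (M : MinOff p V H A) {q : ℕ}
    [hq : Fact q.Prime]
    {X : Subgroup G} (hXab : ∀ x ∈ X, ∀ y ∈ X, x * y = y * x) (hXq : IsPGroup q X)
    (hXV : X ≤ Subgroup.normalizer (V : Set G)) (hXH : X ≤ Subgroup.normalizer (H : Set G))
    (hqH : ¬ q ∣ Nat.card H) :
    ∃ a b e1 e2 : G, ∃ k : ℕ,
      a ∈ H ⊓ Subgroup.centralizer (X : Set G) ∧ b ∈ H ⊓ Subgroup.centralizer (X : Set G) ∧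
      e1 ∈ V ⊓ Subgroup.centralizer (X : Set G) ∧ e2 ∈ V ⊓ Subgroup.centralizer (X : Set G) ∧
      (k : ZMod p) ≠ 0 ∧ e2 ≠ 1 ∧
      a * e1 * a⁻¹ = e1 ∧ a * e2 * a⁻¹ = e2 * e1 ^ k ∧
      b * e1 * b⁻¹ = e1 * e2 ∧ b * e2 * b⁻¹ = e2 := by
  classical
  haveI : Fintype X := Fintype.ofFinite X
  obtain ⟨hqp, hq1, hq2⟩ := M.q_conditions S hq.out hqH
  have D := M.diagData hS3 S hqp hq1 hq2 hXab hXq hXV hXH
  obtain ⟨B, T, hcB, hE, -⟩ := M.exists_tpair S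
  have hexp : ∀ v ∈ V, v ^ p = 1 := S.hV.2
  obtain ⟨a, haA, ha1, -⟩ := exists_gen_of_card_prime (M.card S)
  obtain ⟨b, hbB, hb1, -⟩ := exists_gen_of_card_prime hcB
  obtain ⟨e1, he1L, e2, he2L, k, hk, he2, f1, f6, f4, f5⟩ :=
    T.relations hexp (M.card S) hcB haA ha1 hbB hb1
  obtain ⟨n, hn⟩ : ∃ n : ℕ, n = stabCard X (⁅Q, A⁆ ⊔ A) := ⟨_, rfl⟩
  have haE : a ∈ ⁅Q, A⁆ ⊔ A := by rw [hE]; exact (le_sup_left : A ≤ A ⊔ B) haA
  have hbE : b ∈ ⁅Q, A⁆ ⊔ A := by rw [hE]; exact (le_sup_right : B ≤ A ⊔ B) hbB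
  have he1W : e1 ∈ ⁅V, ⁅Q, A⁆ ⊔ A⁆ := by
    rw [hE]; exact Subgroup.commutator_mono le_rfl le_sup_left he1L
  have he2W : e2 ∈ ⁅V, ⁅Q, A⁆ ⊔ A⁆ := by
    rw [hE]; exact Subgroup.commutator_mono le_rfl le_sup_right he2L
  have he1V : e1 ∈ V := M.W_le S he1W
  have he2V : e2 ∈ V := M.W_le S he2W
  have he2nW : e2 ^ n ∈ ⁅V, ⁅Q, A⁆ ⊔ A⁆ := Subgroup.pow_mem _ he2W n
  have he2nV : e2 ^ n ∈ V := V.pow_mem he2V n
  -- coprimality of `n` and `p`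
  have hnp : n.Coprime p := by
    have h1 : n ∣ Nat.card X := by rw [hn]; exact stabCard_dvd
    obtain ⟨m, hm⟩ := hXq.exists_card_eq
    rw [hm] at h1
    have h2 : (q ^ m).Coprime p := Nat.Coprime.pow_left m
      ((Nat.coprime_primes hq.out hp.out).mpr hqp)
    exact Nat.Coprime.coprime_dvd_left h1 h2
  have hn0 : (n : ZMod p) ≠ 0 := by
    intro h
    have h1 := (ZMod.natCast_eq_zero_iff n p).mp h
    have h2 := Nat.dvd_gcd h1 (dvd_refl p)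
    rw [Nat.Coprime] at hnp
    rw [hnp] at h2
    exact hp.out.one_lt.ne' (Nat.dvd_one.mp h2)
  -- memberships
  have hmemH : ∀ g ∈ ⁅Q, A⁆ ⊔ A, nrm X g ∈ H ⊓ Subgroup.centralizer (X : Set G) := by
    intro g hg
    have hcc := D.conjComm hg
    refine ⟨nrm_mem hcc H ?_, nrm_mem_centralizer hcc⟩
    intro x hx
    exact (Subgroup.mem_normalizer_iff.mp (hXH hx) _).mp (M.EA_le S hg)
  have hmemV : ∀ v ∈ V, nrm X v ∈ V ⊓ Subgroup.centralizer (X : Set G) := by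
    intro v hv
    exact ⟨nrm_mem_of_mem S.hVab hXV hv, nrm_mem_centralizer (conjComm_of_mem S.hVab hXV hv)⟩
  refine ⟨nrm X a, nrm X b, nrm X e1, nrm X (e2 ^ n), k * n * n, hmemH a haE, hmemH b hbE,
    hmemV e1 he1V, hmemV _ he2nV, ?_, ?_, ?_, ?_, ?_, ?_⟩
  · rw [Nat.cast_mul, Nat.cast_mul]
    exact mul_ne_zero (mul_ne_zero hk hn0) hn0
  · intro h1
    obtain ⟨r, hr, e⟩ := D.nrm_split_W he2nW
    rw [h1, ← hn] at e
    have h2 : (e2 ^ n) ^ n = r⁻¹ := mul_eq_one_iff_eq_inv.mp e.symm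
    have h3 : (e2 ^ n) ^ n ∈ ⁅V, ⁅Q, A⁆ ⊔ A⁆ ⊓
        (V ⊓ Subgroup.centralizer ((⁅Q, A⁆ ⊔ A : Subgroup G) : Set G)) := by
      refine ⟨Subgroup.pow_mem _ he2nW n, ?_⟩
      rw [h2]
      exact Subgroup.inv_mem _ hr
    rw [M.inf_fix S, Subgroup.mem_bot, ← pow_mul] at h3
    apply he2
    have h4 : orderOf e2 ∣ n * n := orderOf_dvd_of_pow_eq_one h3
    have h5 : orderOf e2 ∣ p := orderOf_dvd_of_pow_eq_one (hexp e2 he2V)
    have h6 : (n * n).Coprime p := Nat.Coprime.mul_left hnp hnp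
    have h7 := Nat.dvd_gcd h4 h5
    rw [Nat.Coprime] at h6
    rw [h6, Nat.dvd_one] at h7
    exact orderOf_eq_one_iff.mp h7
  · rw [D.nrm_conj_nrm haE he1W, ← hn, conj_pow_fix f1]
  · rw [D.nrm_conj_nrm haE he2nW, ← hn]
    have h1 : a ^ n * e2 ^ n * (a ^ n)⁻¹ = (a ^ n * e2 * (a ^ n)⁻¹) ^ n := by
      rw [conj_pow]
    have hcomm : Commute e2 (e1 ^ (k * n)) := S.hVab _ he2V _ (V.pow_mem he1V _)
    rw [h1, conj_pow_shear f1 f6, hcomm.mul_pow, ← pow_mul,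
      nrm_mul S.hVab hXV he2nV (V.pow_mem he1V _), nrm_pow S.hVab hXV he1V]
  · rw [D.nrm_conj_nrm hbE he1W, ← hn]
    have f4' : b * e1 * b⁻¹ = e1 * e2 ^ 1 := by rw [pow_one]; exact f4
    rw [conj_pow_shear f5 f4', one_mul, nrm_mul S.hVab hXV he1V he2nV]
  · rw [D.nrm_conj_nrm hbE he2nW, ← hn]
    have h1 : b ^ n * e2 ^ n * (b ^ n)⁻¹ = (b ^ n * e2 * (b ^ n)⁻¹) ^ n := by
      rw [conj_pow]
    rw [h1, conj_pow_fix f5]

end fixeddata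

end Cfsg.Agent.Lib.Lead.KS93
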