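import Mathlib
import Cfsg.Agent.Lib.Lead.KS9310f
import Cfsg.Agent.Lib.Lead.MaxClass5
import Cfsg.Agent.Lib.Helper2.EA

set_option autoImplicit false

namespace Cfsg.Agent.Lib.Lead.KS93

open scoped commutatorElement
open Cfsg.Agent.Lib.Lead Cfsg.Agent.Lib.Helper6

universe u

section recog
variable {G : Type u} [Group G] [Finite G] {p : ℕ} [hp : Fact p.Prime]

/-- elements satisfying the transvection relations on a plane generate an `SL₂(p)`-section -/
theorem sl2_section_of_relations {a b w1 w2 : G} {k : ℕ} (hk : (k : ZMod p) ≠ 0)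
    (h1p : w1 ^ p = 1) (h2p : w2 ^ p = 1) (hcomm : w1 * w2 = w2 * w1) (hw2 : w2 ≠ 1)
    (f1 : a * w1 * a⁻¹ = w1) (f6 : a * w2 * a⁻¹ = w2 * w1 ^ k)
    (f4 : b * w1 * b⁻¹ = w1 * w2) (f5 : b * w2 * b⁻¹ = w2) :
    Cfsg.IsElementaryAbelian p (Subgroup.zpowers w1 ⊔ Subgroup.zpowers w2) ∧
    Nat.card ↥(Subgroup.zpowers w1 ⊔ Subgroup.zpowers w2) = p ^ 2 ∧
    Subgroup.zpowers a ⊔ Subgroup.zpowers b ≤
      Subgroup.normalizer ((Subgroup.zpowers w1 ⊔ Subgroup.zpowers w2 : Subgroup G) : Set G) ∧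
    ∃ hn : ((Subgroup.centralizer
        ((Subgroup.zpowers w1 ⊔ Subgroup.zpowers w2 : Subgroup G) : Set G)).subgroupOf
          (Subgroup.zpowers a ⊔ Subgroup.zpowers b)).Normal,
      Nonempty ((↥(Subgroup.zpowers a ⊔ Subgroup.zpowers b) ⧸
        (Subgroup.centralizer
          ((Subgroup.zpowers w1 ⊔ Subgroup.zpowers w2 : Subgroup G) : Set G)).subgroupOf
            (Subgroup.zpowers a ⊔ Subgroup.zpowers b)) ≃*
          Matrix.SpecialLinearGroup (Fin 2) (ZMod p)) := by
  classical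
  obtain ⟨W, hW⟩ : ∃ W : Subgroup G, W = Subgroup.zpowers w1 ⊔ Subgroup.zpowers w2 := ⟨_, rfl⟩
  obtain ⟨D, hD⟩ : ∃ D : Subgroup G, D = Subgroup.zpowers a ⊔ Subgroup.zpowers b := ⟨_, rfl⟩
  rw [← hW, ← hD]
  have hw1W : w1 ∈ W := by rw [hW]; exact le_sup_left (a := Subgroup.zpowers w1) (Subgroup.mem_zpowers w1)
  have hw2W : w2 ∈ W := by rw [hW]; exact le_sup_right (a := Subgroup.zpowers w1) (Subgroup.mem_zpowers w2)
  have haD : a ∈ D := by rw [hD]; exact le_sup_left (a := Subgroup.zpowers a) (Subgroup.mem_zpowers a)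
  have hbD : b ∈ D := by rw [hD]; exact le_sup_right (a := Subgroup.zpowers a) (Subgroup.mem_zpowers b)
  -- elementary abelian
  have hWea : Cfsg.IsElementaryAbelian p W := by
    rw [hW]
    apply Cfsg.Agent.Lib.Helper2.isEA_sup_zpowers _ (Cfsg.Agent.Lib.Helper2.isEA_zpowers w1 h1p) w2 _ h2p
    intro x hx
    obtain ⟨i, rfl⟩ := Subgroup.mem_zpowers_iff.mp hx
    exact ((Commute.zpow_left (show Commute w1 w2 from hcomm) i)).eq
  obtain ⟨hWab, hWexp⟩ := (Cfsg.Agent.Lib.Helper2.isEA_iff p W).mp hWea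
  -- w1 ≠ 1
  have hw1 : w1 ≠ 1 := by
    intro h
    rw [h, mul_one, mul_inv_cancel, one_mul] at f4
    exact hw2 f4.symm
  have ho1 : orderOf w1 = p := orderOf_eq_prime h1p hw1
  have ho2 : orderOf w2 = p := orderOf_eq_prime h2p hw2
  have hc1 : Nat.card ↥(Subgroup.zpowers w1) = p := by rw [Nat.card_zpowers, ho1]
  have hc2 : Nat.card ↥(Subgroup.zpowers w2) = p := by rw [Nat.card_zpowers, ho2]
  -- the normalizer
  have hmap : ∀ g : G, g * w1 * g⁻¹ ∈ W → g * w2 * g⁻¹ ∈ W →
      g ∈ Subgroup.normalizer (W : Set G) := by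
    intro g h1 h2
    apply Cfsg.Agent.Lib.Lead.mem_normalizer_of_conj_mem
    intro w hw
    have hle : W.map (MulAut.conj g).toMonoidHom ≤ W := by
      rw [hW, Subgroup.map_sup, MonoidHom.map_zpowers, MonoidHom.map_zpowers, ← hW]
      apply sup_le
      · rw [Subgroup.zpowers_le]
        simpa [MulAut.conj_apply] using h1
      · rw [Subgroup.zpowers_le]
        simpa [MulAut.conj_apply] using h2
    exact hle ⟨w, hw, by simp [MulAut.conj_apply]⟩
  have haN : a ∈ Subgroup.normalizer (W : Set G) := by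
    apply hmap
    · rw [f1]; exact hw1W
    · rw [f6]; exact W.mul_mem hw2W (W.pow_mem hw1W k)
  have hbN : b ∈ Subgroup.normalizer (W : Set G) := by
    apply hmap
    · rw [f4]; exact W.mul_mem hw1W hw2W
    · rw [f5]; exact hw2W
  have hDW : D ≤ Subgroup.normalizer (W : Set G) := by
    rw [hD]
    exact sup_le (Subgroup.zpowers_le.mpr haN) (Subgroup.zpowers_le.mpr hbN)
  -- the order
  have hinf : Subgroup.zpowers w1 ⊓ Subgroup.zpowers w2 = ⊥ := by
    rcases eq_bot_or_eq_of_card_prime (p := p)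
      (inf_le_right : Subgroup.zpowers w1 ⊓ Subgroup.zpowers w2 ≤ _) hc2 with h | h
    · exact h
    · exfalso
      have h3 : w2 ∈ Subgroup.zpowers w1 := by
        have : w2 ∈ Subgroup.zpowers w1 ⊓ Subgroup.zpowers w2 := by
          rw [h]; exact Subgroup.mem_zpowers w2
        exact this.1
      obtain ⟨i, hi⟩ := Subgroup.mem_zpowers_iff.mp h3
      have h4 : a * w2 * a⁻¹ = w2 := by
        rw [← hi]
        have : a * w1 ^ i * a⁻¹ = (a * w1 * a⁻¹) ^ i := by rw [conj_zpow]
        rw [this, f1]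
      rw [h4] at f6
      have h5 : w1 ^ k = 1 := by
        have := f6
        calc w1 ^ k = w2⁻¹ * (w2 * w1 ^ k) := by group
          _ = w2⁻¹ * w2 := by rw [← this]
          _ = 1 := by group
      have h6 : p ∣ k := by
        rw [← ho1]; exact orderOf_dvd_of_pow_eq_one h5
      exact hk ((ZMod.natCast_eq_zero_iff k p).mpr h6)
  have hcard : Nat.card W = p ^ 2 := by
    have h1 := card_sup_mul_card_inf (Subgroup.zpowers w1) (Subgroup.zpowers w2)
      (le_trans (by rw [hW]; exact le_sup_left) (le_normalizer_of_abelian hWab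
        (by rw [hW]; exact le_sup_right)))
    rw [hinf, Subgroup.card_bot, mul_one, hc1, hc2, ← hW] at h1
    rw [h1, sq]
  refine ⟨hWea, hcard, hDW, ?_⟩
  -- the isomorphism
  set φ0 := Quad.conjAct W D hDW with hφ0
  have hker : φ0.rangeRestrict.ker =
      (Subgroup.centralizer (W : Set G)).subgroupOf D := by
    ext g
    rw [MonoidHom.mem_ker, Subgroup.mem_subgroupOf, Subgroup.mem_centralizer_iff]
    constructor
    · intro h w hw
      have h1 : φ0 g = 1 := by
        have := congrArg Subtype.val h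
        simpa using this
      have h2 := congrArg (fun f => ((f ⟨w, hw⟩ : ↥W) : G)) h1
      simp only [hφ0, Quad.conjAct_apply, MulAut.one_apply] at h2
      calc w * (g : G) = (g : G) * w * (g : G)⁻¹ * (g : G) := by rw [h2]
        _ = (g : G) * w := by group
    · intro h
      apply Subtype.ext
      apply MulEquiv.ext
      intro w
      apply Subtype.ext
      show ((φ0 g w : ↥W) : G) = ((w : ↥W) : G)
      rw [hφ0, Quad.conjAct_apply, ← h w w.2]
      group
  haveI hn : ((Subgroup.centralizer (W : Set G)).subgroupOf D).Normal := by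
    rw [← hker]; infer_instance
  refine ⟨hn, ?_⟩
  letI : CommGroup ↥W :=
    { (inferInstance : Group ↥W) with
      mul_comm := fun x y => Subtype.ext (hWab x x.2 y y.2) }
  have hgen0 : Subgroup.closure ({⟨a, haD⟩, ⟨b, hbD⟩} : Set ↥D) = ⊤ :=
    closure_pair_subtype_eq_top haD hbD hD
  have hsurj : Function.Surjective φ0.rangeRestrict := φ0.rangeRestrict_surjective
  have hgen : Subgroup.closure ({φ0.rangeRestrict ⟨a, haD⟩, φ0.rangeRestrict ⟨b, hbD⟩} :
      Set ↥φ0.range) = ⊤ := by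
    have := congrArg (Subgroup.map φ0.rangeRestrict) hgen0
    rw [MonoidHom.map_closure, Subgroup.map_top_of_surjective _ hsurj, Set.image_pair] at this
    exact this
  have hiso : Nonempty (↥φ0.range ≃* Matrix.SpecialLinearGroup (Fin 2) (ZMod p)) := by
    refine iso_of_twoDim_action (p := p) (Γ := ↥φ0.range) (W := ↥W) ?_ φ0.range.subtype ?_
      (φ0.rangeRestrict ⟨a, haD⟩) (φ0.rangeRestrict ⟨b, hbD⟩) hgen ⟨w1, hw1W⟩ ⟨w2, hw2W⟩
      (k : ℤ) ?_ ?_ ?_ ?_ ?_ ?_ ?_
    · intro w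
      apply Subtype.ext
      simpa using hWexp w w.2
    · intro g hg
      exact Subtype.ext hg
    · rw [Int.cast_natCast]; exact hk
    · apply Subtype.ext
      show ((φ0 ⟨a, haD⟩ ⟨w1, hw1W⟩ : ↥W) : G) = w1
      rw [hφ0, Quad.conjAct_apply]
      exact f1
    · apply Subtype.ext
      show ((φ0 ⟨a, haD⟩ ⟨w2, hw2W⟩ : ↥W) : G) = _
      rw [hφ0, Quad.conjAct_apply, Subgroup.coe_mul, Subgroup.coe_zpow, zpow_natCast]
      exact f6
    · apply Subtype.ext
      show ((φ0 ⟨b, hbD⟩ ⟨w1, hw1W⟩ : ↥W) : G) = _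
      rw [hφ0, Quad.conjAct_apply, Subgroup.coe_mul]
      exact f4
    · apply Subtype.ext
      show ((φ0 ⟨b, hbD⟩ ⟨w2, hw2W⟩ : ↥W) : G) = _
      rw [hφ0, Quad.conjAct_apply]
      exact f5
    · intro h
      exact hw2 (congrArg Subtype.val h)
    · intro w
      have hw : (w : G) ∈ Subgroup.zpowers w1 ⊔ Subgroup.zpowers w2 := by
        rw [← hW]; exact w.2
      obtain ⟨la, hla, lb, hlb, hwe⟩ := exists_mul_of_mem_sup'
        (le_trans (by rw [hW]; exact le_sup_right) (le_normalizer_of_abelian hWab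
          (by rw [hW]; exact le_sup_left))) hw
      obtain ⟨k1, hk1⟩ := Subgroup.mem_zpowers_iff.mp hla
      obtain ⟨k2, hk2⟩ := Subgroup.mem_zpowers_iff.mp hlb
      refine ⟨k1, k2, ?_⟩
      apply Subtype.ext
      rw [Subgroup.coe_mul, Subgroup.coe_zpow, Subgroup.coe_zpow]
      rw [hwe, ← hk1, ← hk2]
  obtain ⟨e⟩ := hiso
  exact ⟨((QuotientGroup.quotientMulEquivOfEq hker).symm.trans
    (QuotientGroup.quotientKerEquivOfSurjective φ0.rangeRestrict hsurj)).trans e⟩

end recog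

end Cfsg.Agent.Lib.Lead.KS93
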