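import Mathlib
import Cfsg.Agent.Lib.Lead.Holo11
import Cfsg.Agent.Lib.Lead.KS9310g

set_option autoImplicit false

namespace Cfsg.Agent.Lib.Lead.Holo

open scoped commutatorElement Pointwise
open Cfsg.Agent.Lib.Helper2.OmegaZ Cfsg.Agent.Lib.Lead.KS93 Cfsg.Agent.Lib.Lead

universe u

section conjinl
variable {G : Type u} [Group G] (V : Subgroup G) [hVn : V.Normal]

theorem psi_conj_inl (g : G) (v : ↥V) :
    psi V g * SemidirectProduct.inl v * (psi V g)⁻¹ =
      SemidirectProduct.inl (MulAut.conjNormal g v) := by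
  rw [psi_apply, ← map_inv]
  exact (SemidirectProduct.inl_aut (φ := MonoidHom.id (MulAut ↥V)) (MulAut.conjNormal g) v).symm

/-- a relation `ψ(g) inl(v) ψ(g)⁻¹ = inl(w)` in the holomorph gives `g v g⁻¹ = w` -/
theorem conj_eq_of_psi_conj_inl {g : G} {v w : ↥V}
    (h : psi V g * SemidirectProduct.inl v * (psi V g)⁻¹ = SemidirectProduct.inl w) :
    g * (v : G) * g⁻¹ = (w : G) := by
  rw [psi_conj_inl, SemidirectProduct.inl_inj] at h
  have := congrArg Subtype.val h
  rwa [MulAut.conjNormal_apply] at this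

end conjinl

section pull
variable {G : Type u} [Group G] [Finite G] (K X : Subgroup G)
  (hXK : X ≤ Subgroup.normalizer (K : Set G)) (V : Subgroup ↥K) [hVc : V.Characteristic]

theorem xi_conj_inl (x : ↥X) (v : ↥V) :
    xi K X hXK V x * SemidirectProduct.inl v * (xi K X hXK V x)⁻¹ =
      SemidirectProduct.inl (restrictChar V (conjSub K X hXK x) v) := by
  unfold xi xiAut
  rw [MonoidHom.comp_apply, MonoidHom.comp_apply, ← map_inv]
  exact (SemidirectProduct.inl_aut (φ := MonoidHom.id (MulAut ↥V))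
    (restrictChar V (conjSub K X hXK x)) v).symm

/-- fixed points of `X` on the copy of `V` in the holomorph come from fixed points on `V` -/
theorem exists_of_mem_VH_inf_centralizer {γ : Hol V}
    (hγ : γ ∈ VH V ⊓
      Subgroup.centralizer (((xi K X hXK V).range : Subgroup (Hol V)) : Set (Hol V))) :
    ∃ v : ↥V, SemidirectProduct.inl v = γ ∧
      (((v : ↥K) : G)) ∈ Subgroup.centralizer (X : Set G) := by
  obtain ⟨⟨v, rfl⟩, hc⟩ := hγ
  refine ⟨v, rfl, ?_⟩
  rw [Subgroup.mem_centralizer_iff]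
  intro x hx
  have h1 := Subgroup.mem_centralizer_iff.mp hc (xi K X hXK V ⟨x, hx⟩) ⟨_, rfl⟩
  have h2 : xi K X hXK V ⟨x, hx⟩ * SemidirectProduct.inl v * (xi K X hXK V ⟨x, hx⟩)⁻¹ =
      SemidirectProduct.inl v := by
    rw [h1]; group
  rw [xi_conj_inl, SemidirectProduct.inl_inj] at h2
  have h3 := congrArg (fun w : ↥V => ((w : ↥K) : G)) h2
  simp only [restrictChar_apply, conjSub_apply] at h3
  calc x * ((v : ↥K) : G) = x * ((v : ↥K) : G) * x⁻¹ * x := by group
    _ = ((v : ↥K) : G) * x := by rw [h3]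

/-- fixed points of `X` on `ψ(J)` lift to fixed points in `K` -/
theorem exists_of_mem_map_inf_centralizer (hXab : ∀ x ∈ X, ∀ y ∈ X, x * y = y * x)
    (hcop : (Nat.card X).Coprime (Nat.card K)) (J : Subgroup ↥K) {γ : Hol V}
    (hγ : γ ∈ J.map (psi V) ⊓
      Subgroup.centralizer (((xi K X hXK V).range : Subgroup (Hol V)) : Set (Hol V))) :
    ∃ d : ↥K, psi V d = γ ∧ (d : G) ∈ Subgroup.centralizer (X : Set G) := by
  obtain ⟨⟨j, -, rfl⟩, hc⟩ := hγ
  have h1 := fixed_pullback K X hXK V hXab hcop hc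
  haveI : (Subgroup.centralizer (V : Set ↥K)).Normal := Subgroup.normal_centralizer
  obtain ⟨c, hcC, d, hd, e⟩ := Subgroup.mem_sup_of_normal_left.mp h1
  refine ⟨d, ?_, hd⟩
  rw [← e, map_mul, (psi_eq_one_iff V c).mpr hcC, one_mul]

end pull

end Cfsg.Agent.Lib.Lead.Holo
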