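import Mathlib

/-!
Carve-out `Sgn` (for helper6): an involution of the set-stabilizer that moves `2 * k` points of a
finite set, `k` odd, is not in the subgroup generated by odd-order elements of the stabilizer.
-/

namespace Cfsg.Agent.Lib.Carve.Sgn

open MulAction
open scoped Pointwise

theorem not_mem_closure_of_odd_involution {G : Type*} [Group G] {α : Type*} [MulAction G α]
    (F : Set α) (hF : F.Finite) (gens : Set G)
    (hgens : ∀ g ∈ gens, g ∈ stabilizer G F ∧ ∃ n : ℕ, Odd n ∧ g ^ n = 1)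
    (r : G) (hr : r ∈ stabilizer G F) (hr2 : r * r = 1) (k : ℕ) (hk : Odd k)
    (hcount : Set.ncard {x : α | x ∈ F ∧ r • x ≠ x} = 2 * k) :
    r ∉ Subgroup.closure gens := by
  classical
  haveI : Fintype F := hF.fintype
  let T := stabilizer G F
  let φ : T →* Equiv.Perm F := MulAction.toPermHom T F
  let ψ : T →* ℤˣ := Equiv.Perm.sign.comp φ
  have key : ∀ g ∈ Subgroup.closure gens, ∃ h : g ∈ T, ψ ⟨g, h⟩ = 1 := by
    intro g hg
    induction hg using Subgroup.closure_induction with
    | mem g hg =>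
      obtain ⟨hT, n, hn, hgn⟩ := hgens g hg
      refine ⟨hT, ?_⟩
      have h1 : (ψ ⟨g, hT⟩) ^ n = 1 := by
        rw [← map_pow]
        have : (⟨g, hT⟩ : T) ^ n = 1 := Subtype.ext (by simpa using hgn)
        rw [this, map_one]
      rcases Int.units_eq_one_or (ψ ⟨g, hT⟩) with h | h
      · exact h
      · rw [h, Odd.neg_one_pow hn] at h1
        exact absurd h1 (by decide)
    | one =>
      refine ⟨T.one_mem, ?_⟩
      have : (⟨1, T.one_mem⟩ : T) = 1 := rfl
      rw [this, map_one]
    | mul a b _ _ iha ihb =>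
      obtain ⟨ha, ha1⟩ := iha
      obtain ⟨hb, hb1⟩ := ihb
      refine ⟨T.mul_mem ha hb, ?_⟩
      have : (⟨a * b, T.mul_mem ha hb⟩ : T) = ⟨a, ha⟩ * ⟨b, hb⟩ := rfl
      rw [this, map_mul, ha1, hb1, one_mul]
    | inv a _ iha =>
      obtain ⟨ha, ha1⟩ := iha
      refine ⟨T.inv_mem ha, ?_⟩
      have : (⟨a⁻¹, T.inv_mem ha⟩ : T) = ⟨a, ha⟩⁻¹ := rfl
      rw [this, map_inv, ha1, inv_one]
  intro hmem
  obtain ⟨hrT, hψ⟩ := key r hmem
  set σ : Equiv.Perm F := φ ⟨r, hrT⟩ with hσ
  have hσapp : ∀ y : F, ((σ y : F) : α) = r • (y : α) := fun y => rfl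
  have hσ2 : σ ^ 2 = 1 := by
    rw [hσ, ← map_pow]
    have : (⟨r, hrT⟩ : T) ^ 2 = 1 := Subtype.ext (by simp [pow_two, hr2])
    rw [this, map_one]
  have hsupp : σ.support.card = 2 * k := by
    rw [← hcount]
    have : {x : α | x ∈ F ∧ r • x ≠ x} = Subtype.val '' (σ.support : Set F) := by
      ext x
      simp only [Set.mem_setOf_eq, Set.mem_image, Finset.mem_coe, Equiv.Perm.mem_support]
      constructor
      · rintro ⟨hxF, hx⟩
        refine ⟨⟨x, hxF⟩, ?_, rfl⟩
        intro h
        apply hx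
        have := congrArg Subtype.val h
        rw [hσapp] at this
        exact this
      · rintro ⟨⟨y, hy⟩, hne, rfl⟩
        refine ⟨hy, ?_⟩
        intro h
        apply hne
        apply Subtype.ext
        rw [hσapp]
        exact h
    rw [this, Set.ncard_image_of_injective _ Subtype.val_injective, Set.ncard_coe_finset]
  have hk0 : k ≠ 0 := by
    rintro rfl
    exact absurd hk (by decide)
  have hσ1 : σ ≠ 1 := by
    intro h
    rw [h, Equiv.Perm.support_one, Finset.card_empty] at hsupp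
    omega
  have hord : orderOf σ = 2 := orderOf_eq_prime hσ2 hσ1
  obtain ⟨n, hn⟩ := Equiv.Perm.cycleType_prime_order (σ := σ) (by rw [hord]; exact Nat.prime_two)
  rw [hord] at hn
  have hsum : σ.cycleType.sum = 2 * k := by rw [Equiv.Perm.sum_cycleType, hsupp]
  have hnk : n + 1 = k := by
    rw [hn, Multiset.sum_replicate, smul_eq_mul] at hsum
    omega
  have hsign : Equiv.Perm.sign σ = -1 := by
    rw [Equiv.Perm.sign_of_cycleType, hn, Multiset.sum_replicate, Multiset.card_replicate,
      smul_eq_mul, hnk]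
    apply Odd.neg_one_pow
    obtain ⟨m, rfl⟩ := hk
    exact ⟨3 * m + 1, by ring⟩
  have : ψ ⟨r, hrT⟩ = Equiv.Perm.sign σ := rfl
  rw [this, hsign] at hψ
  exact absurd hψ (by decide)

end Cfsg.Agent.Lib.Carve.Sgn
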