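import Mathlib

set_option autoImplicit false

namespace Cfsg.Agent.Lib.Carve.V4

/-- two distinct commuting involutions generate a four-group: the order of the group is divisible
by 4 -/
theorem four_dvd_card_of_commuting_involutions {G : Type*} [Group G] [Finite G] (a b : G)
    (ha : a ≠ 1) (hb : b ≠ 1) (hab : a ≠ b) (ha2 : a * a = 1) (hb2 : b * b = 1)
    (hc : a * b = b * a) : 4 ∣ Nat.card G := by
  classical
  -- the four-group as an explicit subgroup
  have hainv : a⁻¹ = a := inv_eq_of_mul_eq_one_right ha2
  have hbinv : b⁻¹ = b := inv_eq_of_mul_eq_one_right hb2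
  have habab : a * b * (a * b) = 1 := by
    calc a * b * (a * b) = a * (b * a) * b := by group
      _ = a * (a * b) * b := by rw [hc]
      _ = (a * a) * (b * b) := by group
      _ = 1 := by rw [ha2, hb2, one_mul]
  let V : Subgroup G :=
    { carrier := {1, a, b, a * b}
      one_mem' := by simp
      mul_mem' := by
        intro x y hx hy
        simp only [Set.mem_insert_iff, Set.mem_singleton_iff] at hx hy ⊢
        have e1 : a * (a * b) = b := by rw [← mul_assoc, ha2, one_mul]
        have e2 : b * (a * b) = a := by rw [← mul_assoc, ← hc, mul_assoc, hb2, mul_one]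
        have e3 : a * b * a = b := by rw [hc, mul_assoc, ha2, mul_one]
        have e4 : a * b * b = a := by rw [mul_assoc, hb2, mul_one]
        rcases hx with rfl | rfl | rfl | rfl <;> rcases hy with rfl | rfl | rfl | rfl <;>
          simp [ha2, hb2, habab, e1, e2, e3, e4, hc.symm]
      inv_mem' := by
        intro x hx
        simp only [Set.mem_insert_iff, Set.mem_singleton_iff] at hx ⊢
        rcases hx with rfl | rfl | rfl | rfl
        · simp
        · rw [hainv]; simp
        · rw [hbinv]; simp
        · rw [inv_eq_of_mul_eq_one_right habab]; simp }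
  have hab1 : a * b ≠ 1 := by
    intro h
    apply hab
    calc a = a * (b * b) := by rw [hb2, mul_one]
      _ = (a * b) * b := by group
      _ = b := by rw [h, one_mul]
  have haba : a * b ≠ a := by
    intro h
    exact hb (mul_eq_left.mp h)
  have habb : a * b ≠ b := by
    intro h
    exact ha (mul_eq_right.mp h)
  have hcard : Nat.card V = 4 := by
    have h0 : Nat.card V = ({1, a, b, a * b} : Set G).ncard := by
      rw [← Nat.card_coe_set_eq]; rfl
    rw [h0, Set.ncard_insert_of_notMem, Set.ncard_insert_of_notMem, Set.ncard_insert_of_notMem,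
      Set.ncard_singleton]
    · simp only [Set.mem_singleton_iff]; exact habb.symm
    · simp only [Set.mem_insert_iff, Set.mem_singleton_iff, not_or]
      exact ⟨hab, haba.symm⟩
    · simp only [Set.mem_insert_iff, Set.mem_singleton_iff, not_or]
      exact ⟨ha.symm, hb.symm, hab1.symm⟩
  rw [← hcard]
  exact Subgroup.card_subgroup_dvd_card V

end Cfsg.Agent.Lib.Carve.V4
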