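import Mathlib
import Cfsg.Prelude
import Cfsg.Agent.Lib.Helper6.ODec0

set_option autoImplicit false

/-! # S5677 board, PK-KLB: case (b) of the KEY LEMMA with a singular block component. -/

namespace Cfsg.Agent.Lib.Helper6.ODec

open Matrix Module Cfsg.Agent.H9Orth Cfsg.Agent.Lib.Helper2.ReflGen Cfsg.Agent.Lib.Helper2.CDG
  Cfsg.Agent.Lib.Helper2.LongRoot

variable {F : Type*} [Field F] [Fintype F] {ι : Type} [Fintype ι] [DecidableEq ι]
variable {Q : QuadraticForm F (ι → F)} {t k : ℕ} {D : Fin t → Submodule F (ι → F)}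
  {M : Subgroup (Matrix.GeneralLinearGroup ι F)}

/-- for `c' ∈ D_j ∩ a^⊥` the vector `(E_{a,c'} − 1) z` lies in `X_w`, `w = a + b` -/
theorem klb_diff_mem (hQ : (QuadraticMap.polarBilin Q).Nondegenerate)
    (c : Ctx Q k D M) {j : Fin t} {a b z c' : ι → F} (ha : a ∈ D j) (hb : b ∈ perpS Q (D j))
    (hQa : Q a = 0) (hQw : Q (a + b) = 0) (hz : z ∈ XS hQ M (a + b)) (hc' : c' ∈ D j)
    (hac' : QuadraticMap.polar (⇑Q) a c' = 0) :
    QuadraticMap.polar (⇑Q) a z • c' - QuadraticMap.polar (⇑Q) c' z • a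
      - (Q c' * QuadraticMap.polar (⇑Q) a z) • a ∈ XS hQ M (a + b) := by
  have hab : QuadraticMap.polar (⇑Q) a b = 0 := by
    rw [mem_perpS] at hb; exact hb a ha
  have hc'b : QuadraticMap.polar (⇑Q) c' b = 0 := by
    rw [mem_perpS] at hb; exact hb c' hc'
  have haw : QuadraticMap.polar (⇑Q) a (a + b) = 0 := by
    rw [QuadraticMap.polar_add_right, hab, polar_self, hQa, mul_zero, add_zero]
  have hc'w : QuadraticMap.polar (⇑Q) c' (a + b) = 0 := by
    rw [QuadraticMap.polar_add_right, hc'b, QuadraticMap.polar_comm, hac', add_zero]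
  have hfix := eich_fix hQ a c' (a + b) hQa hac' haw hc'w
  have h1 := XS_inv hQ hQw _ (c.eich_mem hQ ha hc' hQa hac') hfix hz
  have h2 := Submodule.sub_mem _ h1 hz
  rw [eich_mulVec] at h2
  convert h2 using 1
  abel

/-- **PK-KLB** (case (b), singular component).  `w = a + b`, `a ∈ D_j` singular nonzero,
`0 ≠ b ⊥ D_j`, `z ∈ X_w` whose `D_j`-component is not proportional to `a`. -/
theorem pk_klb (hQ : (QuadraticMap.polarBilin Q).Nondegenerate)
    (c : Ctx Q k D M) {j : Fin t} {a b z : ι → F} (ha : a ∈ D j) (hb : b ∈ perpS Q (D j))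
    (ha0 : a ≠ 0) (hb0 : b ≠ 0) (hQa : Q a = 0) (hQw : Q (a + b) = 0)
    (hz : z ∈ XS hQ M (a + b)) (hzj : ∀ μ : F, z - μ • (a + b) ∉ perpS Q (D j)) :
    Key hQ M D := by
  have hab : QuadraticMap.polar (⇑Q) a b = 0 := by
    rw [mem_perpS] at hb; exact hb a ha
  -- it suffices to show `a ∈ X_w`
  suffices haX : a ∈ XS hQ M (a + b) by
    refine ⟨j, a, a + b, ha, ha0, hQa, XS_symm hQ hQw hQa haX, ?_⟩
    intro hw
    apply hb0
    apply c.eq_zero_of_mem_of_perp hQ _ hb
    have : b = (a + b) - a := by abel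
    rw [this]
    exact (D j).sub_mem hw ha
  by_cases hβ : QuadraticMap.polar (⇑Q) a z = 0
  · -- some `c' ∈ D_j ∩ a^⊥` is not orthogonal to `z`
    obtain ⟨c', hc', hac', hc'z⟩ : ∃ c' ∈ D j, QuadraticMap.polar (⇑Q) a c' = 0 ∧
        QuadraticMap.polar (⇑Q) c' z ≠ 0 := by
      by_contra hcon
      push Not at hcon
      obtain ⟨p, hp, hQp, hap⟩ := (c.split j).exists_partner_in hQ ha ha0 hQa
      apply hzj (QuadraticMap.polar (⇑Q) p z)
      rw [mem_perpS]
      intro x hx
      have hx' : x - QuadraticMap.polar (⇑Q) a x • p ∈ D j :=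
        (D j).sub_mem hx ((D j).smul_mem _ hp)
      have h1 : QuadraticMap.polar (⇑Q) a (x - QuadraticMap.polar (⇑Q) a x • p) = 0 := by
        rw [QuadraticMap.polar_sub_right, QuadraticMap.polar_smul_right, hap, smul_eq_mul,
          mul_one, sub_self]
      have h2 := hcon _ hx' h1
      rw [QuadraticMap.polar_sub_left, QuadraticMap.polar_smul_left, smul_eq_mul, sub_eq_zero] at h2
      have hxb : QuadraticMap.polar (⇑Q) x b = 0 := by
        rw [mem_perpS] at hb; exact hb x hx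
      rw [QuadraticMap.polar_sub_right, QuadraticMap.polar_smul_right, QuadraticMap.polar_add_right,
        hxb, add_zero, h2, smul_eq_mul, QuadraticMap.polar_comm (⇑Q) x a]
      ring
    have h := klb_diff_mem hQ c ha hb hQa hQw hz hc' hac'
    rw [hβ, zero_smul, mul_zero, zero_smul, sub_zero, zero_sub] at h
    have h3 := Submodule.smul_mem _ (-(QuadraticMap.polar (⇑Q) c' z)⁻¹) h
    rw [smul_neg, neg_smul, neg_neg, smul_smul, inv_mul_cancel₀ hc'z, one_smul] at h3
    exact h3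
  · obtain ⟨d, hd, had, hQd⟩ := c.exists_nonsing_perp hQ ha ha0 hQa
    have h1 := klb_diff_mem hQ c ha hb hQa hQw hz hd had
    have hnd : -d ∈ D j := (D j).neg_mem hd
    have hand : QuadraticMap.polar (⇑Q) a (-d) = 0 := by
      rw [QuadraticMap.polar_neg_right, had, neg_zero]
    have h2 := klb_diff_mem hQ c ha hb hQa hQw hz hnd hand
    have h3 := Submodule.add_mem _ h1 h2
    have hQnd : Q (-d) = Q d := QuadraticMap.map_neg Q d
    have e : QuadraticMap.polar (⇑Q) a z • d - QuadraticMap.polar (⇑Q) d z • a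
        - (Q d * QuadraticMap.polar (⇑Q) a z) • a
        + (QuadraticMap.polar (⇑Q) a z • (-d) - QuadraticMap.polar (⇑Q) (-d) z • a
        - (Q (-d) * QuadraticMap.polar (⇑Q) a z) • a)
        = (-(2 * Q d * QuadraticMap.polar (⇑Q) a z)) • a := by
      rw [hQnd, QuadraticMap.polar_neg_left]
      module
    rw [e] at h3
    have hne : -(2 * Q d * QuadraticMap.polar (⇑Q) a z) ≠ 0 :=
      neg_ne_zero.2 (mul_ne_zero (mul_ne_zero c.h2 hQd) hβ)
    have h4 := Submodule.smul_mem _ (-(2 * Q d * QuadraticMap.polar (⇑Q) a z))⁻¹ h3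
    rw [smul_smul, inv_mul_cancel₀ hne, one_smul] at h4
    exact h4

end Cfsg.Agent.Lib.Helper6.ODec
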