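import Mathlib
import Cfsg.Prelude.Def_GeometricClasses
import Cfsg.Prelude.Def_Classical

/-! S5981 package PK-IDXE2 (leader helper6): Lagrange bookkeeping. -/

set_option autoImplicit false

namespace Cfsg.Agent.Lib.Helper6.OSim

open Cfsg.Geo

/-- For subgroups `H`, `K` of a finite group with `K` normal:
`[K : H ⊓ K] * |H| = |H ⊔ K|` divides `|G|`. -/
theorem idxe2_relIndex_mul_card_dvd {G : Type*} [Group G] [Finite G] (H K : Subgroup G)
    [K.Normal] : H.relIndex K * Nat.card H ∣ Nat.card G := by
  have h1 : Nat.card (H ⊓ K : Subgroup G) * K.relIndex H = Nat.card H := by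
    have := Subgroup.relIndex_mul_relIndex (⊥ : Subgroup G) (H ⊓ K) H bot_le inf_le_left
    rwa [Subgroup.relIndex_bot_left, Subgroup.relIndex_bot_left, Subgroup.inf_relIndex_left] at this
  have h2 : Nat.card (H ⊓ K : Subgroup G) * H.relIndex K = Nat.card K := by
    have := Subgroup.relIndex_mul_relIndex (⊥ : Subgroup G) (H ⊓ K) K bot_le inf_le_right
    rwa [Subgroup.relIndex_bot_left, Subgroup.relIndex_bot_left, Subgroup.inf_relIndex_right] at this
  have h3 : Nat.card K * K.relIndex H = Nat.card (H ⊔ K : Subgroup G) := by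
    have := Subgroup.relIndex_mul_relIndex (⊥ : Subgroup G) K (H ⊔ K) bot_le le_sup_right
    rwa [Subgroup.relIndex_bot_left, Subgroup.relIndex_bot_left, Subgroup.relIndex_sup_right] at this
  have h4 : H.relIndex K * Nat.card H = Nat.card (H ⊔ K : Subgroup G) := by
    rw [← h3, ← h2, ← h1]; ring
  rw [h4]
  exact Subgroup.card_subgroup_dvd_card _

variable {F : Type*} [Field F] [Fintype F] {n : ℕ}

omit [Fintype F] in
theorem idxe2_isometry_le (Q : (Fin n → F) → F) :
    Cfsg.isometryGroup F Q ≤ quadSimilarityGroup Q := by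
  intro g hg
  refine ⟨1, fun v => ?_⟩
  have := hg v v
  simpa using this

/-- PK-IDXE2: Lagrange bookkeeping (no hypothesis on `Q`). -/
theorem relIndex_mul_card_isometry_dvd (Q : (Fin n → F) → F) :
    (quadSimilarityGroup Q).relIndex (specialLinear (Fin n) F) *
      Nat.card (Cfsg.isometryGroup F Q) ∣ Nat.card (GL (Fin n) F) := by
  have : (specialLinear (Fin n) F).Normal := by
    unfold specialLinear; infer_instance
  refine (Nat.mul_dvd_mul_left _ (Subgroup.card_dvd_of_le (idxe2_isometry_le Q))).trans ?_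
  exact idxe2_relIndex_mul_card_dvd _ _

end Cfsg.Agent.Lib.Helper6.OSim
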