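import Mathlib

/-! S5981 package PK-IDXE part (3) (leader helper6): the arithmetic of the orders.
`q` odd prime power, `r` an odd prime not dividing `q` with `ord_r(q)` even, `S = |SL_n(q)|` given by
`(q-1) S = ∏_{j<n} (q^n - q^j)`, `R` the index, `R * |O(Qs)| ∣ 2 S`. -/

namespace Cfsg.Agent.Lib.Helper6.OSim

theorem idxe3_prod_eq {q n : ℕ} :
    ∃ e : ℕ, ∏ j : Fin n, (q ^ n - q ^ (j : ℕ)) = q ^ e * ∏ a ∈ Finset.range n, (q ^ (a + 1) - 1) := by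
  refine ⟨∑ j ∈ Finset.range n, j, ?_⟩
  rw [Fin.prod_univ_eq_prod_range (fun j => q ^ n - q ^ j) n, ← Finset.prod_pow_eq_pow_sum,
    ← Finset.prod_range_reflect (fun a => q ^ (a + 1) - 1) n, ← Finset.prod_mul_distrib]
  refine Finset.prod_congr rfl (fun j hj => ?_)
  have hj' : j < n := Finset.mem_range.1 hj
  have h1 : n - 1 - j + 1 = n - j := by omega
  rw [h1, Nat.mul_sub, mul_one, ← pow_add, Nat.add_sub_cancel' hj'.le]

theorem idxe3_prod_even {q l : ℕ} :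
    ∏ a ∈ Finset.range (2 * l), (q ^ (a + 1) - 1) =
      (∏ j ∈ Finset.range l, (q ^ (2 * j + 1) - 1)) *
        ∏ j ∈ Finset.range l, (q ^ (2 * (j + 1)) - 1) := by
  induction l with
  | zero => simp
  | succ l ih =>
    have : 2 * (l + 1) = 2 * l + 1 + 1 := by ring
    rw [this, Finset.prod_range_succ, Finset.prod_range_succ, ih, Finset.prod_range_succ,
      Finset.prod_range_succ]
    have h2 : 2 * l + 1 + 1 = 2 * (l + 1) := by ring
    rw [h2]; ring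

theorem idxe3_prod_odd {q l : ℕ} :
    ∏ a ∈ Finset.range (2 * l + 1), (q ^ (a + 1) - 1) =
      (∏ j ∈ Finset.range (l + 1), (q ^ (2 * j + 1) - 1)) *
        ∏ j ∈ Finset.range l, (q ^ (2 * (j + 1)) - 1) := by
  rw [Finset.prod_range_succ, idxe3_prod_even, Finset.prod_range_succ]; ring

theorem idxe3_not_dvd_odd_pow {q r j : ℕ} [Fact r.Prime] (hq : 1 < q)
    (hi : Even (orderOf (q : ZMod r))) (hj : Odd j) : ¬ r ∣ q ^ j - 1 := by
  intro hd
  have hq1 : 1 ≤ q ^ j := Nat.one_le_pow _ _ (by omega)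
  have h0 : ((q ^ j - 1 : ℕ) : ZMod r) = 0 := (ZMod.natCast_eq_zero_iff _ _).2 hd
  rw [Nat.cast_sub hq1, Nat.cast_pow, Nat.cast_one, sub_eq_zero] at h0
  have h1 := orderOf_dvd_of_pow_eq_one h0
  have : Even j := (even_iff_two_dvd.2 ((even_iff_two_dvd.1 hi).trans h1))
  exact (Nat.not_even_iff_odd.2 hj) this

theorem idxe3_not_dvd_prod_odd {q r m : ℕ} [Fact r.Prime] (hq : 1 < q)
    (hi : Even (orderOf (q : ZMod r))) : ¬ r ∣ ∏ j ∈ Finset.range m, (q ^ (2 * j + 1) - 1) := by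
  intro hd
  have hr : r.Prime := Fact.out
  obtain ⟨j, _, hj⟩ := (Prime.dvd_finsetProd_iff (Nat.prime_iff.1 hr) _).1 hd
  exact idxe3_not_dvd_odd_pow hq hi ⟨j, rfl⟩ hj

theorem idxe3_prod_pos {q : ℕ} (hq : 1 < q) (m : ℕ) :
    0 < ∏ i ∈ Finset.range m, (q ^ (2 * (i + 1)) - 1) := by
  refine Finset.prod_pos (fun i _ => ?_)
  have : 2 ≤ q ^ (2 * (i + 1)) := by
    calc 2 ≤ q := hq
      _ = q ^ 1 := (pow_one q).symm
      _ ≤ q ^ (2 * (i + 1)) := Nat.pow_le_pow_right (by omega) (by omega)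
  omega

theorem idxe3_ne_one_of_even {q r : ℕ} [Fact r.Prime]
    (hi : Even (orderOf (q : ZMod r))) : (q : ZMod r) ≠ 1 := by
  intro h
  rw [h, orderOf_one] at hi
  exact absurd hi (by decide)

theorem idxe3_two {r a : ℕ} [Fact r.Prime] (hr2 : r ≠ 2) (h1 : r ∣ a - 1) (h2 : r ∣ a + 1)
    (ha : 1 ≤ a) : False := by
  have hr : r.Prime := Fact.out
  have : r ∣ (a + 1) - (a - 1) := Nat.dvd_sub h2 h1
  have h3 : (a + 1) - (a - 1) = 2 := by omega
  rw [h3] at this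
  exact hr2 ((Nat.prime_dvd_prime_iff_eq hr Nat.prime_two).1 this)

/-- odd dimension: `r` does not divide the index. -/
theorem idxe3_odd {q r l : ℕ} [Fact r.Prime] (hq : 1 < q) (hrq : ¬ r ∣ q)
    (hi : Even (orderOf (q : ZMod r)))
    (h : r * (2 * q ^ (l ^ 2) * ∏ i ∈ Finset.range l, (q ^ (2 * (i + 1)) - 1)) ∣
      ∏ j : Fin (2 * l + 1), (q ^ (2 * l + 1) - q ^ (j : ℕ))) : False := by
  have hr' : r.Prime := Fact.out
  obtain ⟨e, he⟩ := idxe3_prod_eq (q := q) (n := 2 * l + 1)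
  rw [he, idxe3_prod_odd] at h
  set X := ∏ i ∈ Finset.range l, (q ^ (2 * (i + 1)) - 1) with hX
  set Y := ∏ j ∈ Finset.range (l + 1), (q ^ (2 * j + 1) - 1) with hY
  have hXpos : 0 < X := idxe3_prod_pos hq l
  have h1 : X * (r * (2 * q ^ (l ^ 2))) ∣ X * (q ^ e * Y) := by
    have e1 : r * (2 * q ^ (l ^ 2) * X) = X * (r * (2 * q ^ (l ^ 2))) := by ring
    have e2 : q ^ e * (Y * X) = X * (q ^ e * Y) := by ring
    rwa [e1, e2] at h
  have h2 := Nat.dvd_of_mul_dvd_mul_left hXpos h1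
  have h3 : r ∣ q ^ e * Y := (Dvd.intro _ rfl).trans h2
  rcases (Nat.Prime.dvd_mul hr').1 h3 with h4 | h4
  · exact hrq (hr'.dvd_of_dvd_pow h4)
  · exact idxe3_not_dvd_prod_odd hq hi h4

/-- the common core of the two even-dimensional cases: `r ∣ C` where `q^(2l) - 1 = A * C`,
`A` being the factor occurring in the order of the orthogonal group. -/
theorem idxe3_even_core {q r l A C : ℕ} [Fact r.Prime] (hq : 1 < q) (hrq : ¬ r ∣ q)
    (hi : Even (orderOf (q : ZMod r))) (hl : 1 ≤ l)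
    (hAC : q ^ (2 * l) - 1 = A * C) (hA : 0 < A)
    (h : r * (2 * q ^ (l * (l - 1)) * A *
      ∏ i ∈ Finset.range (l - 1), (q ^ (2 * (i + 1)) - 1)) ∣
      ∏ j : Fin (2 * l), (q ^ (2 * l) - q ^ (j : ℕ))) : r ∣ C := by
  have hr' : r.Prime := Fact.out
  obtain ⟨e, he⟩ := idxe3_prod_eq (q := q) (n := 2 * l)
  rw [he, idxe3_prod_even] at h
  obtain ⟨k, rfl⟩ : ∃ k, l = k + 1 := ⟨l - 1, by omega⟩
  rw [Nat.add_sub_cancel] at h
  rw [Finset.prod_range_succ (fun j => q ^ (2 * (j + 1)) - 1), hAC] at h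
  set X := ∏ i ∈ Finset.range k, (q ^ (2 * (i + 1)) - 1) with hX
  set Y := ∏ j ∈ Finset.range (k + 1), (q ^ (2 * j + 1) - 1) with hY
  have hXpos : 0 < X := idxe3_prod_pos hq k
  have h1 : (A * X) * (r * (2 * q ^ ((k + 1) * k))) ∣ (A * X) * (q ^ e * Y * C) := by
    have e1 : r * (2 * q ^ ((k + 1) * k) * A * X) = (A * X) * (r * (2 * q ^ ((k + 1) * k))) := by
      ring
    have e2 : q ^ e * (Y * (X * (A * C))) = (A * X) * (q ^ e * Y * C) := by ring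
    rwa [e1, e2] at h
  have h2 := Nat.dvd_of_mul_dvd_mul_left (Nat.mul_pos hA hXpos) h1
  have h3 : r ∣ q ^ e * Y * C := (Dvd.intro _ rfl).trans h2
  rcases (Nat.Prime.dvd_mul hr').1 h3 with h4 | h4
  · rcases (Nat.Prime.dvd_mul hr').1 h4 with h5 | h5
    · exact absurd (hr'.dvd_of_dvd_pow h5) hrq
    · exact absurd h5 (idxe3_not_dvd_prod_odd hq hi)
  · exact h4

theorem idxe3_sq_sub {q l : ℕ} : q ^ (2 * l) - 1 = (q ^ l - 1) * (q ^ l + 1) := by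
  have := Nat.sq_sub_sq (q ^ l) 1
  rw [one_pow, ← pow_mul, mul_comm l 2] at this
  rw [this, mul_comm]

/-- PK-IDXE3 (a): pure arithmetic, odd dimension. -/
theorem idx_arith_odd (q r m : ℕ) (hq : 2 ≤ q) (hr : r.Prime) (hr2 : r ≠ 2) (hrq : ¬ r ∣ q)
    (hi : Even (orderOf ((q : ℕ) : ZMod r)))
    (h : r * (2 * q ^ (m ^ 2) * ∏ i ∈ Finset.range m, (q ^ (2 * (i + 1)) - 1)) ∣
      ∏ i : Fin (2 * m + 1), (q ^ (2 * m + 1) - q ^ (i : ℕ))) : False := by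
  have : Fact r.Prime := ⟨hr⟩
  have _ := hr2
  exact idxe3_odd hq hrq hi h

/-- PK-IDXE3 (b): pure arithmetic, plus type. -/
theorem idx_arith_plus (q r m : ℕ) (hq : 2 ≤ q) (hr : r.Prime) (hr2 : r ≠ 2) (hrq : ¬ r ∣ q)
    (hi : Even (orderOf ((q : ℕ) : ZMod r))) (hm : 1 ≤ m)
    (h : r * (2 * q ^ (m * (m - 1)) * (q ^ m - 1) *
        ∏ i ∈ Finset.range (m - 1), (q ^ (2 * (i + 1)) - 1)) ∣
      ∏ i : Fin (2 * m), (q ^ (2 * m) - q ^ (i : ℕ))) :
    orderOf ((q : ℕ) : ZMod r) ∣ 2 * m ∧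
      ¬ r ∣ q ^ (2 * m - 1) + q ^ m - q ^ (m - 1) - 1 := by
  have : Fact r.Prime := ⟨hr⟩
  have hql : 2 ≤ q ^ m := by
    calc 2 ≤ q := hq
      _ = q ^ 1 := (pow_one q).symm
      _ ≤ q ^ m := Nat.pow_le_pow_right (by omega) hm
  have hC : r ∣ q ^ m + 1 :=
    idxe3_even_core hq hrq hi hm idxe3_sq_sub (by omega) h
  have h0 : ((q ^ m + 1 : ℕ) : ZMod r) = 0 := (ZMod.natCast_eq_zero_iff _ _).2 hC
  rw [Nat.cast_add, Nat.cast_pow, Nat.cast_one] at h0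
  have hm1 : (q : ZMod r) ^ m = -1 := eq_neg_of_add_eq_zero_left h0
  refine ⟨?_, ?_⟩
  · apply orderOf_dvd_of_pow_eq_one
    rw [mul_comm, pow_mul, hm1]; norm_num
  · obtain ⟨k, rfl⟩ : ∃ k, m = k + 1 := ⟨m - 1, by omega⟩
    have e1 : 2 * (k + 1) - 1 = 2 * k + 1 := by omega
    rw [e1, Nat.add_sub_cancel]
    have hfac : q ^ (2 * k + 1) + q ^ (k + 1) - q ^ k - 1 = (q ^ (k + 1) - 1) * (q ^ k + 1) := by
      obtain ⟨a, ha⟩ : ∃ a, q ^ (k + 1) = a + 1 := ⟨q ^ (k + 1) - 1, by omega⟩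
      have e2 : q ^ (2 * k + 1) = q ^ (k + 1) * q ^ k := by rw [← pow_add]; congr 1; ring
      rw [e2, ha, Nat.add_sub_cancel]
      have : (a + 1) * q ^ k + (a + 1) = a * (q ^ k + 1) + 1 + q ^ k := by ring
      rw [this]; omega
    rw [hfac]
    intro hd
    rcases (Nat.Prime.dvd_mul hr).1 hd with h4 | h4
    · exact idxe3_two hr2 h4 hC (by omega)
    · have h5 : ((q ^ k + 1 : ℕ) : ZMod r) = 0 := (ZMod.natCast_eq_zero_iff _ _).2 h4
      rw [Nat.cast_add, Nat.cast_pow, Nat.cast_one] at h5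
      have h6 : (q : ZMod r) ^ k = -1 := eq_neg_of_add_eq_zero_left h5
      rw [pow_succ, h6] at hm1
      have : (q : ZMod r) = 1 := by
        have := congrArg (fun x => -x) hm1
        simpa using this
      exact idxe3_ne_one_of_even hi this

/-- PK-IDXE3 (c): pure arithmetic, minus type. -/
theorem idx_arith_minus (q r m : ℕ) (hq : 2 ≤ q) (hr : r.Prime) (hr2 : r ≠ 2) (hrq : ¬ r ∣ q)
    (hi : Even (orderOf ((q : ℕ) : ZMod r))) (hm : 1 ≤ m)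
    (h : r * (2 * q ^ (m * (m - 1)) * (q ^ m + 1) *
        ∏ i ∈ Finset.range (m - 1), (q ^ (2 * (i + 1)) - 1)) ∣
      ∏ i : Fin (2 * m), (q ^ (2 * m) - q ^ (i : ℕ))) :
    orderOf ((q : ℕ) : ZMod r) ∣ 2 * m ∧
      ¬ r ∣ q ^ (2 * m - 1) + q ^ (m - 1) - q ^ m - 1 := by
  have : Fact r.Prime := ⟨hr⟩
  have hqm : 2 ≤ q ^ m := by
    calc 2 ≤ q := hq
      _ = q ^ 1 := (pow_one q).symm
      _ ≤ q ^ m := Nat.pow_le_pow_right (by omega) hm
  have hC : r ∣ q ^ m - 1 :=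
    idxe3_even_core hq hrq hi hm (idxe3_sq_sub.trans (mul_comm _ _)) (by omega) h
  have h0 : ((q ^ m - 1 : ℕ) : ZMod r) = 0 := (ZMod.natCast_eq_zero_iff _ _).2 hC
  rw [Nat.cast_sub (by omega), Nat.cast_pow, Nat.cast_one, sub_eq_zero] at h0
  refine ⟨?_, ?_⟩
  · exact (orderOf_dvd_of_pow_eq_one h0).trans (Dvd.intro_left _ rfl)
  · obtain ⟨k, rfl⟩ : ∃ k, m = k + 1 := ⟨m - 1, by omega⟩
    have e1 : 2 * (k + 1) - 1 = 2 * k + 1 := by omega
    rw [e1, Nat.add_sub_cancel]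
    have hqk : 1 ≤ q ^ k := Nat.one_le_pow _ _ (by omega)
    have hfac : q ^ (2 * k + 1) + q ^ k - q ^ (k + 1) - 1 = (q ^ (k + 1) + 1) * (q ^ k - 1) := by
      obtain ⟨a, ha⟩ : ∃ a, q ^ k = a + 1 := ⟨q ^ k - 1, by omega⟩
      have e2 : q ^ (2 * k + 1) = q ^ (k + 1) * q ^ k := by rw [← pow_add]; congr 1; ring
      rw [e2, ha, Nat.add_sub_cancel]
      have : q ^ (k + 1) * (a + 1) + (a + 1) = (q ^ (k + 1) + 1) * a + 1 + q ^ (k + 1) := by ring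
      rw [this]; omega
    rw [hfac]
    intro hd
    rcases (Nat.Prime.dvd_mul hr).1 hd with h4 | h4
    · exact idxe3_two hr2 hC h4 (by omega)
    · have h5 : ((q ^ k - 1 : ℕ) : ZMod r) = 0 := (ZMod.natCast_eq_zero_iff _ _).2 h4
      rw [Nat.cast_sub hqk, Nat.cast_pow, Nat.cast_one, sub_eq_zero] at h5
      rw [pow_succ, h5, one_mul] at h0
      exact idxe3_ne_one_of_even hi h0

end Cfsg.Agent.Lib.Helper6.OSim
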