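import Mathlib
import Cfsg.Agent.Lib.Helper6.TSU0

/-! S5953 board, PK-ARITH: the orders of `q²` and `-q` modulo `r` in terms of `i = ord_r(q)`. -/

set_option autoImplicit false
set_option linter.unusedSectionVars false
set_option linter.unusedVariables false

namespace Cfsg.Agent.Lib.Helper6.TSU

section arith

theorem arith_orderOf_pos (q r : ℕ) [Fact r.Prime] (hrq : ¬ r ∣ q) :
    0 < orderOf (q : ZMod r) := by
  have hx : (q : ZMod r) ≠ 0 := fun h => hrq ((ZMod.natCast_eq_zero_iff _ _).1 h)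
  have h1 : orderOf ((Units.mk0 _ hx : (ZMod r)ˣ) : ZMod r) = orderOf (Units.mk0 _ hx) :=
    orderOf_units
  rw [Units.val_mk0] at h1
  rw [h1]
  exact orderOf_pos _

theorem arith_orderOf_neg_one (r : ℕ) [Fact r.Prime] (hr2 : r ≠ 2) :
    orderOf (-1 : ZMod r) = 2 := by
  rw [orderOf_neg_one, if_neg]
  rw [ZMod.ringChar_zmod_n]
  exact hr2

theorem orderOf_sq_eq (q r : ℕ) [Fact r.Prime] (hrq : ¬ r ∣ q) :
    orderOf (((q ^ 2 : ℕ) : ℕ) : ZMod r) = bOf (orderOf (q : ZMod r)) := by
  have hpos := arith_orderOf_pos q r hrq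
  rw [Nat.cast_pow, orderOf_pow' _ two_ne_zero]
  unfold bOf
  split_ifs with he
  · have : Nat.gcd (orderOf (q : ZMod r)) 2 = 2 := Nat.gcd_eq_right he.two_dvd
    rw [this]
  · have : Nat.gcd (orderOf (q : ZMod r)) 2 = 1 :=
      Nat.Coprime.symm (Nat.coprime_two_left.2 (Nat.not_even_iff_odd.1 he))
    rw [this, Nat.div_one]

theorem orderOf_neg_eq (q r : ℕ) [Fact r.Prime] (hr2 : r ≠ 2) (hrq : ¬ r ∣ q) :
    orderOf (-(q : ZMod r)) = cOf (orderOf (q : ZMod r)) := by
  have hpos := arith_orderOf_pos q r hrq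
  set x : ZMod r := (q : ZMod r) with hx
  set i := orderOf x with hi
  rcases Nat.even_or_odd i with he | ho
  · -- `-x = x ^ (i / 2 + 1)`
    obtain ⟨t, ht⟩ := he
    have ht' : i / 2 = t := by omega
    have hy2 : (x ^ t) ^ 2 = 1 := by
      rw [← pow_mul, show t * 2 = i by omega, hi]
      exact pow_orderOf_eq_one x
    have hy1 : x ^ t ≠ 1 := by
      apply pow_ne_one_of_lt_orderOf (by omega)
      rw [← hi]
      omega
    have hy : x ^ t = -1 := by
      rcases sq_eq_one_iff.1 hy2 with h | h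
      · exact absurd h hy1
      · exact h
    have hneg : -x = x ^ (t + 1) := by
      rw [pow_succ, hy]
      ring
    rw [hneg, orderOf_pow' _ (Nat.succ_ne_zero t), ← hi]
    unfold cOf
    rcases Nat.even_or_odd t with ⟨s, hs⟩ | ⟨s, hs⟩
    · -- `i = 4 s`
      have hg : Nat.gcd i (t + 1) = 1 := by
        have h1 : Nat.gcd i (t + 1) ∣ 2 := by
          have ha : Nat.gcd i (t + 1) ∣ i := Nat.gcd_dvd_left _ _
          have hb : Nat.gcd i (t + 1) ∣ 2 * (t + 1) := (Nat.gcd_dvd_right _ _).mul_left 2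
          have := Nat.dvd_sub hb ha
          rwa [show 2 * (t + 1) - i = 2 by omega] at this
        rcases (Nat.dvd_prime Nat.prime_two).1 h1 with h | h
        · exact h
        · exfalso
          have h3 : 2 ∣ t + 1 := h ▸ Nat.gcd_dvd_right i (t + 1)
          omega
      rw [hg, Nat.div_one, if_pos (by omega)]
    · -- `i = 4 s + 2`
      have hg : Nat.gcd i (t + 1) = 2 := by
        apply Nat.dvd_antisymm
        · have ha : Nat.gcd i (t + 1) ∣ i := Nat.gcd_dvd_left _ _
          have hb : Nat.gcd i (t + 1) ∣ 2 * (t + 1) := (Nat.gcd_dvd_right _ _).mul_left 2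
          have := Nat.dvd_sub hb ha
          rwa [show 2 * (t + 1) - i = 2 by omega] at this
        · exact Nat.dvd_gcd (by omega) (by omega)
      rw [hg, if_neg (by omega), if_pos (by omega)]
  · -- `i` odd
    have h1 : -x = (-1) * x := by ring
    have hc : Nat.Coprime (orderOf (-1 : ZMod r)) (orderOf x) := by
      rw [arith_orderOf_neg_one r hr2, ← hi]
      exact Nat.coprime_two_left.2 ho
    rw [h1, (Commute.all (-1 : ZMod r) x).orderOf_mul_eq_mul_orderOf_of_coprime hc,
      arith_orderOf_neg_one r hr2, ← hi]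
    unfold cOf
    obtain ⟨s, hs⟩ := ho
    rw [if_neg (by omega), if_neg (by omega)]

/-- `i = 2` iff `r ∣ q + 1` (odd `r`) -/
theorem orderOf_eq_two_iff (q r : ℕ) [Fact r.Prime] (hr2 : r ≠ 2) :
    orderOf (q : ZMod r) = 2 ↔ r ∣ q + 1 := by
  rw [← ZMod.natCast_eq_zero_iff]
  push_cast
  constructor
  · intro h
    have h2 : (q : ZMod r) ^ 2 = 1 := by
      rw [← h]
      exact pow_orderOf_eq_one _
    have h1 : (q : ZMod r) ≠ 1 := by
      intro h1
      rw [h1, orderOf_one] at h
      omega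
    rcases sq_eq_one_iff.1 h2 with h3 | h3
    · exact absurd h3 h1
    · rw [h3]
      ring
  · intro h
    have : (q : ZMod r) = -1 := by linear_combination h
    rw [this]
    exact arith_orderOf_neg_one r hr2

end arith

end Cfsg.Agent.Lib.Helper6.TSU
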