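import Mathlib
import Cfsg.Prelude.Def_Classical
import Cfsg.Agent.Lib.Helper2.HermFrames

/-! Counting consequence for totally isotropic subspaces of the standard unitary space (for S5953):
a prime `r ≠ p` dividing the number of totally isotropic `m`-spaces of `F^n` (`|F| = q²`) divides
`q^k - (-1)^k` for some `n - 2m < k ≤ n`.  Wrapper around helper2's `HermFrames.ncard_TI_mul`. -/

set_option autoImplicit false

namespace Cfsg.Agent.Lib.Lead.HermTI

open Module Cfsg.Agent.Lib.Helper2 Cfsg.Agent.Lib.Helper2.IsoFrames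
  Cfsg.Agent.Lib.Helper2.HermFrames

variable {F : Type*} [Field F] [Fintype F] {p : ℕ} [Fact p.Prime] [CharP F p]

theorem exists_dvd_of_dvd_card_ti_herm {q : ℕ} (hq : Fintype.card F = q ^ 2) (n m : ℕ)
    (hmn : 2 * m ≤ n) (r : ℕ) (hr : r.Prime) (hrp : r ≠ p)
    (h : r ∣ Nat.card {W : Submodule F (Fin n → F) // finrank F ↥W = m ∧
      (∀ u ∈ W, ∀ v ∈ W, Cfsg.hermForm n F q u v = 0)}) :
    ∃ k, n < k + 2 * m ∧ k ≤ n ∧ 1 ≤ k ∧
      ((Even k ∧ r ∣ q ^ k - 1) ∨ (Odd k ∧ r ∣ q ^ k + 1)) := by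
  have hmain := ncard_TI_mul (F := F) hq n m
  have hcard : Nat.card {W : Submodule F (Fin n → F) // finrank F ↥W = m ∧
      (∀ u ∈ W, ∀ v ∈ W, Cfsg.hermForm n F q u v = 0)} =
      (TI (Cfsg.hermForm n F q) m).ncard := by
    rw [← Nat.card_coe_set_eq]
    rfl
  rw [hcard] at h
  have hdvd : r ∣ ∏ j ∈ Finset.range m, ((q ^ 2) ^ j * isoCount q (n - 2 * j)) := by
    rw [← hmain]
    exact Dvd.dvd.mul_right h _
  obtain ⟨j, hj, hrj⟩ := (Prime.dvd_finsetProd_iff hr.prime _).1 hdvd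
  rw [Finset.mem_range] at hj
  have hrq : ¬ r ∣ q := by
    intro hrq
    obtain ⟨e, hp, he⟩ := FiniteField.card F p
    have h1 : r ∣ p ^ (e : ℕ) := by
      rw [← he, hq]
      exact hrq.trans (dvd_pow_self q two_ne_zero)
    exact hrp ((Nat.prime_dvd_prime_iff_eq hr hp).1 (hr.dvd_of_dvd_pow h1))
  rcases (Nat.Prime.dvd_mul hr).1 hrj with h1 | h1
  · exact absurd (hr.dvd_of_dvd_pow (hr.dvd_of_dvd_pow h1)) hrq
  · unfold isoCount at h1
    have hd2 : 2 ≤ n - 2 * j := by omega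
    split_ifs at h1 with he
    · rcases (Nat.Prime.dvd_mul hr).1 h1 with h2 | h2
      · exact ⟨n - 2 * j, by omega, by omega, by omega, Or.inl ⟨he, h2⟩⟩
      · refine ⟨n - 2 * j - 1, by omega, by omega, by omega, Or.inr ⟨?_, h2⟩⟩
        exact Nat.Even.sub_odd (by omega) he odd_one
    · have ho : Odd (n - 2 * j) := Nat.not_even_iff_odd.1 he
      rcases (Nat.Prime.dvd_mul hr).1 h1 with h2 | h2
      · exact ⟨n - 2 * j, by omega, by omega, by omega, Or.inr ⟨ho, h2⟩⟩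
      · refine ⟨n - 2 * j - 1, by omega, by omega, by omega, Or.inl ⟨?_, h2⟩⟩
        exact Nat.Odd.sub_odd ho odd_one

/-- The number of totally isotropic `m`-spaces of the unitary space is prime to `p`. -/
theorem not_dvd_card_ti_herm {q : ℕ} (hq : Fintype.card F = q ^ 2) (n m : ℕ)
    (hmn : 2 * m ≤ n) :
    ¬ p ∣ Nat.card {W : Submodule F (Fin n → F) // finrank F ↥W = m ∧
      (∀ u ∈ W, ∀ v ∈ W, Cfsg.hermForm n F q u v = 0)} := by
  intro h
  have hp : p.Prime := Fact.out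
  have hmain := ncard_TI_mul (F := F) hq n m
  have hcard : Nat.card {W : Submodule F (Fin n → F) // finrank F ↥W = m ∧
      (∀ u ∈ W, ∀ v ∈ W, Cfsg.hermForm n F q u v = 0)} =
      (TI (Cfsg.hermForm n F q) m).ncard := by
    rw [← Nat.card_coe_set_eq]
    rfl
  rw [hcard] at h
  have hpq : p ∣ q := by
    obtain ⟨e, hp', he⟩ := FiniteField.card F p
    have h1 : p ∣ q ^ 2 := by
      rw [← hq, he]
      exact dvd_pow_self p e.ne_zero
    exact hp.dvd_of_dvd_pow h1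
  have hq0 : 0 < q := by
    rcases Nat.eq_zero_or_pos q with h0 | h0
    · exfalso
      rw [h0] at hq
      simp at hq
    · exact h0
  have hL : ∏ i : Fin m, ((q ^ 2) ^ m - (q ^ 2) ^ (i : ℕ)) =
      (∏ j ∈ Finset.range m, (q ^ 2) ^ j) * ∏ j ∈ Finset.range m, ((q ^ 2) ^ (m - j) - 1) := by
    rw [← Finset.prod_mul_distrib, Fin.prod_univ_eq_prod_range (fun j => (q ^ 2) ^ m - (q ^ 2) ^ j) m]
    refine Finset.prod_congr rfl fun j hj => ?_
    rw [Finset.mem_range] at hj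
    rw [Nat.mul_sub, mul_one, ← pow_add]
    congr 2
    omega
  have hR : ∏ j ∈ Finset.range m, ((q ^ 2) ^ j * isoCount q (n - 2 * j)) =
      (∏ j ∈ Finset.range m, (q ^ 2) ^ j) * ∏ j ∈ Finset.range m, isoCount q (n - 2 * j) :=
    Finset.prod_mul_distrib
  rw [hL, hR, mul_left_comm] at hmain
  have hP : 0 < ∏ j ∈ Finset.range m, (q ^ 2) ^ j :=
    Finset.prod_pos fun j _ => by positivity
  have hmain' := Nat.eq_of_mul_eq_mul_left hP hmain
  have hdvd : p ∣ ∏ j ∈ Finset.range m, isoCount q (n - 2 * j) := by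
    rw [← hmain']
    exact Dvd.dvd.mul_right h _
  obtain ⟨j, hj, hrj⟩ := (Prime.dvd_finsetProd_iff hp.prime _).1 hdvd
  rw [Finset.mem_range] at hj
  have hd2 : 2 ≤ n - 2 * j := by omega
  have hpow : ∀ e, 1 ≤ e → p ∣ q ^ e := fun e he => hpq.trans (dvd_pow_self q (by omega))
  have hpos : ∀ e, 1 ≤ q ^ e := fun e => Nat.one_le_pow _ _ hq0
  have hsub : ∀ e, 1 ≤ e → ¬ p ∣ q ^ e - 1 := by
    intro e he h1
    have h2 := (Nat.dvd_sub (hpow e he) h1)
    rw [Nat.sub_sub_self (hpos e)] at h2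
    exact hp.one_lt.ne' (Nat.dvd_one.1 h2)
  have hadd : ∀ e, 1 ≤ e → ¬ p ∣ q ^ e + 1 := by
    intro e he h1
    have h2 := (Nat.dvd_add_right (hpow e he)).1 h1
    exact hp.one_lt.ne' (Nat.dvd_one.1 h2)
  unfold isoCount at hrj
  split_ifs at hrj with he
  · rcases (Nat.Prime.dvd_mul hp).1 hrj with h2 | h2
    · exact hsub _ (by omega) h2
    · exact hadd _ (by omega) h2
  · rcases (Nat.Prime.dvd_mul hp).1 hrj with h2 | h2
    · exact hadd _ (by omega) h2
    · exact hsub _ (by omega) h2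

end Cfsg.Agent.Lib.Lead.HermTI
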