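import Mathlib
import Cfsg.Prelude.Def_Classical
import Cfsg.Agent.Lib.Helper6.TSU0
import Cfsg.Agent.Lib.Lead.HermTI_CNT

/-! S5953 board, PK-CNT: `p`-part and `r`-part of the number of totally singular `m`-spaces of the
unitary space, and existence of totally singular `m`-spaces. -/

set_option autoImplicit false
set_option linter.unusedSectionVars false
set_option linter.unusedVariables false

namespace Cfsg.Agent.Lib.Helper6.TSU

open Module Cfsg.Agent.Lib.Helper2 Cfsg.Agent.Lib.Helper2.IsoFrames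
  Cfsg.Agent.Lib.Helper2.HermFrames

section cnt
variable {F : Type*} [Field F] [Fintype F] {p : ℕ} [Fact p.Prime] [CharP F p] {q : ℕ}

theorem not_char_dvd_card_ts (hF : Fintype.card F = q ^ 2) (n m : ℕ) (hmn : 2 * m ≤ n) :
    ¬ p ∣ Nat.card {W : Submodule F (Fin n → F) // finrank F ↥W = m ∧
      (∀ u ∈ W, ∀ v ∈ W, Cfsg.hermForm n F q u v = 0)} :=
  Cfsg.Agent.Lib.Lead.HermTI.not_dvd_card_ti_herm hF n m hmn

theorem exists_dvd_of_dvd_card_ts (hF : Fintype.card F = q ^ 2) (n m : ℕ) (hmn : 2 * m ≤ n)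
    (r : ℕ) [Fact r.Prime] (hrq : ¬ r ∣ q)
    (h : r ∣ Nat.card {W : Submodule F (Fin n → F) // finrank F ↥W = m ∧
      (∀ u ∈ W, ∀ v ∈ W, Cfsg.hermForm n F q u v = 0)}) :
    ∃ j, n < j + 2 * m ∧ j ≤ n ∧ 1 ≤ j ∧ orderOf (-(q : ZMod r)) ∣ j := by
  have hr : r.Prime := Fact.out
  obtain ⟨p', hp'⟩ := CharP.exists F
  haveI : CharP F p' := hp'
  haveI : Fact p'.Prime := ⟨CharP.char_is_prime F p'⟩
  have hrp : r ≠ p' := by
    rintro rfl
    apply hrq
    obtain ⟨e, hp, he⟩ := FiniteField.card F r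
    have h1 : r ∣ q ^ 2 := by
      rw [← hF, he]
      exact dvd_pow_self r e.ne_zero
    exact hr.dvd_of_dvd_pow h1
  have hq0 : 0 < q := by
    rcases Nat.eq_zero_or_pos q with h0 | h0
    · exact absurd (h0 ▸ dvd_zero r) hrq
    · exact h0
  obtain ⟨k, hk1, hk2, hk3, hk⟩ :=
    Cfsg.Agent.Lib.Lead.HermTI.exists_dvd_of_dvd_card_ti_herm (p := p') hF n m hmn r hr hrp h
  refine ⟨k, hk1, hk2, hk3, ?_⟩
  apply orderOf_dvd_of_pow_eq_one
  have hpos : 1 ≤ q ^ k := Nat.one_le_pow _ _ hq0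
  rcases hk with ⟨he, hd⟩ | ⟨ho, hd⟩
  · rw [he.neg_pow]
    have := (ZMod.natCast_eq_zero_iff (q ^ k - 1) r).2 hd
    rw [Nat.cast_sub hpos] at this
    push_cast at this
    exact sub_eq_zero.1 this
  · rw [ho.neg_pow]
    have := (ZMod.natCast_eq_zero_iff (q ^ k + 1) r).2 hd
    push_cast at this
    linear_combination -this

/-- totally singular `m`-spaces exist -/
theorem exists_ts (hF : Fintype.card F = q ^ 2) (n m : ℕ) (hmn : 2 * m ≤ n) :
    ∃ W : Submodule F (Fin n → F), finrank F ↥W = m ∧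
      (∀ u ∈ W, ∀ v ∈ W, Cfsg.hermForm n F q u v = 0) := by
  have hmain := ncard_TI_mul (F := F) hF n m
  have hq2 : 2 ≤ q := Cfsg.Agent.Lib.Helper1.HermCount.two_le_q hF
  have hpos : 0 < ∏ j ∈ Finset.range m, ((q ^ 2) ^ j * isoCount q (n - 2 * j)) := by
    apply Finset.prod_pos
    intro j hj
    rw [Finset.mem_range] at hj
    have hd2 : 2 ≤ n - 2 * j := by omega
    apply Nat.mul_pos (by positivity)
    unfold isoCount
    have h1 : ∀ e, 1 ≤ e → 0 < q ^ e - 1 := by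
      intro e he
      have : q ^ 1 ≤ q ^ e := Nat.pow_le_pow_right (by omega) he
      rw [pow_one] at this
      omega
    split_ifs
    · exact Nat.mul_pos (h1 _ (by omega)) (by positivity)
    · exact Nat.mul_pos (by positivity) (h1 _ (by omega))
  rw [← hmain] at hpos
  have hN : 0 < (TI (Cfsg.hermForm n F q) m).ncard := Nat.pos_of_mul_pos_right hpos
  obtain ⟨W, hW⟩ := (Set.ncard_pos (Set.toFinite _)).1 hN
  exact ⟨W, hW.1, hW.2⟩

end cnt

end Cfsg.Agent.Lib.Helper6.TSU
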