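import Mathlib

/-!
# S4150: final assembly, with the leaves (`exists_prime_pair`, `master`, `special6`, `special10`)
as hypotheses.
-/

set_option autoImplicit false

open Equiv Equiv.Perm

namespace Cfsg.Agent.Lib.Lead.AltGenFin

/-- an element of prime order `p` is a product of `n + 1` disjoint `p`-cycles -/
theorem support_of_prime_order {α : Type*} [Fintype α] [DecidableEq α] {p : ℕ} (hp : p.Prime)
    {g : Perm α} (hg : orderOf g = p) :
    ∃ n : ℕ, g.cycleType = Multiset.replicate (n + 1) p ∧ g.support.card = (n + 1) * p := by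
  obtain ⟨n, hn⟩ := cycleType_prime_order (σ := g) (by rw [hg]; exact hp)
  rw [hg] at hn
  refine ⟨n, hn, ?_⟩
  rw [← sum_cycleType, hn, Multiset.sum_replicate, smul_eq_mul]

/-- an element of prime order `p` moving fewer than `2p` points is a `p`-cycle -/
theorem isCycle_of_prime_order {α : Type*} [Fintype α] [DecidableEq α] {p : ℕ} (hp : p.Prime)
    {g : Perm α} (hg : orderOf g = p) (hlt : g.support.card < 2 * p) :
    g.IsCycle ∧ g.support.card = p := by
  obtain ⟨n, hn, hs⟩ := support_of_prime_order hp hg
  have hn0 : n = 0 := by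
    by_contra h
    have : 2 ≤ n + 1 := by omega
    have : 2 * p ≤ (n + 1) * p := Nat.mul_le_mul_right p this
    omega
  subst hn0
  refine ⟨?_, by simpa using hs⟩
  rw [← card_cycleType_eq_one, hn]
  simp

/-- the statement of `master` -/
def MasterStatement : Prop :=
  ∀ (m p q : ℕ), p.Prime → q.Prime → p ≠ 2 → p < q → 5 ≤ q → m < p + q →
    (p = 3 ∨ p + 4 ≤ q ∨ (p = 5 ∧ q = 7) ∨ (p = 11 ∧ q = 13)) →
    ∀ x y : alternatingGroup (Fin m),
      (x : Perm (Fin m)).IsCycle → (x : Perm (Fin m)).support.card = p →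
      (y : Perm (Fin m)).IsCycle → (y : Perm (Fin m)).support.card = q →
      ∃ d : ℕ, 5 ≤ d ∧ Nonempty (Subgroup.closure ({x, y} : Set (alternatingGroup (Fin m))) ≃*
        alternatingGroup (Fin d))

theorem card_support_le (m : ℕ) (g : Perm (Fin m)) : g.support.card ≤ m := by
  have := Finset.card_le_univ g.support
  simpa using this

/-- the generic case: `m < 2p`, both elements are cycles -/
theorem generic (hmaster : MasterStatement) (m p q : ℕ) (hp : p.Prime) (hq : q.Prime) (hp2 : p ≠ 2)
    (hpq : p < q) (h5 : 5 ≤ q) (hm : m < 2 * p)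
    (hJ : p = 3 ∨ p + 4 ≤ q ∨ (p = 5 ∧ q = 7) ∨ (p = 11 ∧ q = 13))
    (x y : alternatingGroup (Fin m)) (hx : orderOf x = p) (hy : orderOf y = q) :
    ∃ d : ℕ, 5 ≤ d ∧ Nonempty (Subgroup.closure ({x, y} : Set (alternatingGroup (Fin m))) ≃*
      alternatingGroup (Fin d)) := by
  have hx' : orderOf (x : Perm (Fin m)) = p := by rw [Subgroup.orderOf_coe]; exact hx
  have hy' : orderOf (y : Perm (Fin m)) = q := by rw [Subgroup.orderOf_coe]; exact hy
  have h1 := isCycle_of_prime_order hp hx' (by have := card_support_le m x; omega)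
  have h2 := isCycle_of_prime_order hq hy' (by have := card_support_le m y; omega)
  exact hmaster m p q hp hq hp2 hpq h5 (by omega) hJ x y h1.1 h1.2 h2.1 h2.2

/-- the case `m = 2p`: `x` is a `p`-cycle or moves every point -/
theorem cycle_or_full (m p : ℕ) (hp : p.Prime) (hm : m = 2 * p) (x : alternatingGroup (Fin m))
    (hx : orderOf x = p) :
    ((x : Perm (Fin m)).IsCycle ∧ (x : Perm (Fin m)).support.card = p) ∨
      (x : Perm (Fin m)).support.card = m := by
  have hx' : orderOf (x : Perm (Fin m)) = p := by rw [Subgroup.orderOf_coe]; exact hx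
  obtain ⟨n, hn, hs⟩ := support_of_prime_order hp hx'
  have hle := card_support_le m x
  have hppos := hp.pos
  have hn1 : n = 0 ∨ n = 1 := by
    by_contra h
    have : 3 ≤ n + 1 := by omega
    have : 3 * p ≤ (n + 1) * p := Nat.mul_le_mul_right p this
    omega
  rcases hn1 with rfl | rfl
  · left
    exact isCycle_of_prime_order hp hx' (by rw [hs]; omega)
  · right
    rw [hs, hm]

theorem result_of
    (hpair : ∀ m : ℕ, 17 ≤ m → ∃ p q : ℕ, p.Prime ∧ q.Prime ∧ m < 2 * p ∧ p + 4 ≤ q ∧ q ≤ m)
    (hmaster : MasterStatement)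
    (h6 : ∀ x y : alternatingGroup (Fin 6), orderOf x = 3 → (x : Perm (Fin 6)).support.card = 6 →
      orderOf y = 5 → ∃ d : ℕ, 5 ≤ d ∧
        Nonempty (Subgroup.closure ({x, y} : Set (alternatingGroup (Fin 6))) ≃*
          alternatingGroup (Fin d)))
    (h10 : ∀ x y : alternatingGroup (Fin 10), orderOf x = 5 →
      (x : Perm (Fin 10)).support.card = 10 → orderOf y = 7 → ∃ d : ℕ, 5 ≤ d ∧
        Nonempty (Subgroup.closure ({x, y} : Set (alternatingGroup (Fin 10))) ≃*
          alternatingGroup (Fin d)))
    (m : ℕ) (hm : 5 ≤ m) :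
    ∃ p q : ℕ, p.Prime ∧ q.Prime ∧ m ≤ 2 * p ∧ p < q ∧ q ≤ m ∧
      ∀ x y : alternatingGroup (Fin m), orderOf x = p → orderOf y = q →
        ∃ d : ℕ, 5 ≤ d ∧ Nonempty (Subgroup.closure ({x, y} : Set (alternatingGroup (Fin m))) ≃*
          alternatingGroup (Fin d)) := by
  have p3 : Nat.Prime 3 := by norm_num
  have p5 : Nat.Prime 5 := by norm_num
  have p7 : Nat.Prime 7 := by norm_num
  have p11 : Nat.Prime 11 := by norm_num
  have p13 : Nat.Prime 13 := by norm_num
  rcases Nat.lt_or_ge m 17 with hlt | hge
  · -- small cases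
    rcases Nat.lt_or_ge m 7 with h7 | h7
    · -- m = 5, 6 : (3,5)
      refine ⟨3, 5, p3, p5, by omega, by omega, by omega, ?_⟩
      intro x y hx hy
      rcases Nat.lt_or_ge m 6 with h6' | h6'
      · exact generic hmaster m 3 5 p3 p5 (by omega) (by omega) (by omega) (by omega)
          (Or.inl rfl) x y hx hy
      · have hm6 : m = 6 := by omega
        subst hm6
        rcases cycle_or_full 6 3 p3 rfl x hx with hc | hf
        · have hy' : orderOf (y : Perm (Fin 6)) = 5 := by rw [Subgroup.orderOf_coe]; exact hy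
          have h2 := isCycle_of_prime_order p5 hy' (by have := card_support_le 6 y; omega)
          exact hmaster 6 3 5 p3 p5 (by omega) (by omega) (by omega) (by omega) (Or.inl rfl) x y
            hc.1 hc.2 h2.1 h2.2
        · exact h6 x y hx hf hy
    · rcases Nat.lt_or_ge m 11 with h11 | h11
      · -- m = 7..10 : (5,7)
        refine ⟨5, 7, p5, p7, by omega, by omega, by omega, ?_⟩
        intro x y hx hy
        rcases Nat.lt_or_ge m 10 with h10' | h10'
        · exact generic hmaster m 5 7 p5 p7 (by omega) (by omega) (by omega) (by omega)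
            (Or.inr (Or.inr (Or.inl ⟨rfl, rfl⟩))) x y hx hy
        · have hm10 : m = 10 := by omega
          subst hm10
          rcases cycle_or_full 10 5 p5 rfl x hx with hc | hf
          · have hy' : orderOf (y : Perm (Fin 10)) = 7 := by rw [Subgroup.orderOf_coe]; exact hy
            have h2 := isCycle_of_prime_order p7 hy' (by have := card_support_le 10 y; omega)
            exact hmaster 10 5 7 p5 p7 (by omega) (by omega) (by omega) (by omega)
              (Or.inr (Or.inr (Or.inl ⟨rfl, rfl⟩))) x y hc.1 hc.2 h2.1 h2.2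
          · exact h10 x y hx hf hy
      · rcases Nat.lt_or_ge m 14 with h14 | h14
        · -- m = 11..13 : (7,11)
          refine ⟨7, 11, p7, p11, by omega, by omega, by omega, ?_⟩
          intro x y hx hy
          exact generic hmaster m 7 11 p7 p11 (by omega) (by omega) (by omega) (by omega)
            (Or.inr (Or.inl (by omega))) x y hx hy
        · -- m = 14..16 : (11,13)
          refine ⟨11, 13, p11, p13, by omega, by omega, by omega, ?_⟩
          intro x y hx hy
          exact generic hmaster m 11 13 p11 p13 (by omega) (by omega) (by omega) (by omega)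
            (Or.inr (Or.inr (Or.inr ⟨rfl, rfl⟩))) x y hx hy
  · obtain ⟨p, q, hp, hq, h2p, hpq, hqm⟩ := hpair m hge
    refine ⟨p, q, hp, hq, by omega, by omega, hqm, ?_⟩
    intro x y hx hy
    exact generic hmaster m p q hp hq (by omega) (by omega) (by omega) h2p
      (Or.inr (Or.inl hpq)) x y hx hy

end Cfsg.Agent.Lib.Lead.AltGenFin
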