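import Mathlib
import Cfsg.Agent.Lib.Helper2.JordanCycle

/-!
# S4150, package (G1): a `p`-cycle and a `q`-cycle whose supports meet and cover `α`
generate the alternating group (modulo the two special Jordan-type lemmas A, B taken as hypotheses).
-/

set_option autoImplicit false

open Equiv Equiv.Perm MulAction

namespace Cfsg.Agent.Lib.Lead.AltGenG1

variable {α : Type*} [Fintype α] [DecidableEq α]

/-- a cycle of odd length is an even permutation -/
theorem mem_alt_of_cycle {x : Perm α} (hx : x.IsCycle) {p : ℕ} (hxp : x.support.card = p)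
    (hodd : Odd p) : x ∈ alternatingGroup α := by
  rw [mem_alternatingGroup, hx.sign, hxp, hodd.neg_one_pow]
  simp

/-- the group generated by two cycles whose supports meet and cover `α` is transitive -/
theorem pretransitive_closure {x y : Perm α} (hx : x.IsCycle) (hy : y.IsCycle)
    (hcov : x.support ∪ y.support = Finset.univ) (hmeet : (x.support ∩ y.support).Nonempty) :
    IsPretransitive (Subgroup.closure ({x, y} : Set (Perm α))) α := by
  set H := Subgroup.closure ({x, y} : Set (Perm α)) with hH
  have hxH : x ∈ H := Subgroup.subset_closure (by simp)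
  have hyH : y ∈ H := Subgroup.subset_closure (by simp)
  obtain ⟨c, hc⟩ := hmeet
  rw [Finset.mem_inter, mem_support, mem_support] at hc
  have key : ∀ a : α, ∃ h : H, h • c = a := by
    intro a
    have ha : a ∈ x.support ∪ y.support := by rw [hcov]; exact Finset.mem_univ a
    rw [Finset.mem_union, mem_support, mem_support] at ha
    rcases ha with ha | ha
    · obtain ⟨i, hi⟩ := hx.exists_pow_eq hc.1 ha
      exact ⟨⟨x ^ i, H.pow_mem hxH i⟩, hi⟩
    · obtain ⟨i, hi⟩ := hy.exists_pow_eq hc.2 ha
      exact ⟨⟨y ^ i, H.pow_mem hyH i⟩, hi⟩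
  refine ⟨fun a b => ?_⟩
  obtain ⟨ha, rfl⟩ := key a
  obtain ⟨hb, rfl⟩ := key b
  exact ⟨hb * ha⁻¹, by rw [mul_smul, inv_smul_smul]⟩

/-- a transitive group containing a `q`-cycle, `q` prime, `card α < 2q`, is primitive -/
theorem preprimitive_of_cycle (H : Subgroup (Perm α)) [IsPretransitive H α] {q : ℕ} (hq : q.Prime)
    {y : Perm α} (hy : y.IsCycle) (hyq : y.support.card = q) (hyH : y ∈ H)
    (hcard : Fintype.card α < 2 * q) : IsPreprimitive H α := by
  classical
  have htr := isPretransitive_of_isCycle_mem hy hyH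
  have hprim : IsPreprimitive (fixingSubgroup H ((y.support : Set α)ᶜ))
      (SubMulAction.ofFixingSubgroup H ((y.support : Set α)ᶜ)) := by
    apply IsPreprimitive.of_prime_card
    convert hq
    rw [Nat.card_eq_fintype_card, Fintype.card_subtype, ← hyq]
    apply congr_arg
    ext a
    simp [SubMulAction.mem_ofFixingSubgroup_iff]
  refine IsPreprimitive.of_card_lt
    (f := SubMulAction.ofFixingSubgroup_equivariantMap H ((y.support : Set α)ᶜ)) ?_
  have hrange : Set.range (SubMulAction.ofFixingSubgroup_equivariantMap H ((y.support : Set α)ᶜ)) =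
      (y.support : Set α) := by
    ext a
    constructor
    · rintro ⟨⟨b, hb⟩, rfl⟩
      have h1 : b ∉ ((y.support : Set α)ᶜ) := hb
      have h2 : b ∈ (y.support : Set α) := by simpa using h1
      exact h2
    · intro ha
      exact ⟨⟨a, by
        show a ∉ ((y.support : Set α)ᶜ)
        simpa using ha⟩, rfl⟩
  rw [hrange, Set.ncard_coe_finset, hyq, Nat.card_eq_fintype_card]
  exact hcard

/-- (G1), with Lemma A and Lemma B as hypotheses. -/
theorem closure_eq_alt_of
    (hA : Fintype.card α = 7 → ∀ (G : Subgroup (Perm α)) [IsPretransitive G α] {g : Perm α},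
      g.IsCycle → g.support.card = 5 → g ∈ G → alternatingGroup α ≤ G)
    (hB : Fintype.card α = 13 → ∀ (G : Subgroup (Perm α)) [IsPretransitive G α],
      G ≤ alternatingGroup α → ∀ {g : Perm α},
      g.IsCycle → g.support.card = 11 → g ∈ G → alternatingGroup α ≤ G)
    {p q : ℕ} (hp : p.Prime) (hq : q.Prime) (hp2 : p ≠ 2) (hq2 : q ≠ 2)
    {x y : Perm α} (hx : x.IsCycle) (hxp : x.support.card = p)
    (hy : y.IsCycle) (hyq : y.support.card = q)
    (hcov : x.support ∪ y.support = Finset.univ) (hmeet : (x.support ∩ y.support).Nonempty)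
    (hcard : Fintype.card α < 2 * q)
    (hJ : p = 3 ∨ p + 3 ≤ Fintype.card α ∨ (p = 5 ∧ Fintype.card α = 7) ∨
      (p = 11 ∧ Fintype.card α = 13)) :
    Subgroup.closure ({x, y} : Set (Perm α)) = alternatingGroup α := by
  classical
  set H := Subgroup.closure ({x, y} : Set (Perm α)) with hH
  have hxH : x ∈ H := Subgroup.subset_closure (by simp)
  have hyH : y ∈ H := Subgroup.subset_closure (by simp)
  have hHalt : H ≤ alternatingGroup α := by
    rw [hH, Subgroup.closure_le]
    intro z hz
    rcases hz with rfl | hz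
    · exact mem_alt_of_cycle hx hxp (hp.odd_of_ne_two hp2)
    · rw [Set.mem_singleton_iff] at hz
      subst hz
      exact mem_alt_of_cycle hy hyq (hq.odd_of_ne_two hq2)
  have htrans : IsPretransitive H α := pretransitive_closure hx hy hcov hmeet
  have hprim : IsPreprimitive H α := preprimitive_of_cycle H hq hy hyq hyH hcard
  apply le_antisymm hHalt
  rcases hJ with h3 | hJ | ⟨h5, h7⟩ | ⟨h11, h13⟩
  · subst h3
    exact alternatingGroup_le_of_isPreprimitive_of_isThreeCycle_mem hprim
      (card_support_eq_three_iff.mp hxp) hxH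
  · exact Cfsg.Agent.Lib.Helper2.JordanCycle.alternatingGroup_le_of_cycle H hprim hp hJ hx hxp hxH
  · subst h5
    exact hA h7 H hx hxp hxH
  · subst h11
    exact hB h13 H hHalt hx hxp hxH

end Cfsg.Agent.Lib.Lead.AltGenG1
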