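import Mathlib
import Cfsg.Agent.Lib.Helper8.AltPDefs

/-! # S2276 PK-GRP: abstract lemmas on `PP` (leader: helper8) -/

set_option autoImplicit false
open Equiv Equiv.Perm
open scoped commutatorElement

namespace Cfsg.Agent.Lib.Helper8.AltP

theorem solvable_map_iff {G G' : Type*} [Group G] [Group G'] (f : G →* G')
    (hf : Function.Injective f) (K : Subgroup G) :
    Group.IsSolvable ↥(K.map f) ↔ Group.IsSolvable ↥K := by
  let e : ↥K ≃* ↥(K.map f) := K.equivMapOfInjective f hf
  constructor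
  · intro h
    exact Group.isSolvable_of_isSolvable_injective (f := e.toMonoidHom) e.injective
  · intro h
    exact Group.isSolvable_of_surjective (f := e.toMonoidHom) e.surjective

theorem closure_pair_map {G G' : Type*} [Group G] [Group G'] (f : G →* G') (a b : G) :
    Subgroup.closure ({f a, f b} : Set G') = (Subgroup.closure ({a, b} : Set G)).map f := by
  rw [MonoidHom.map_closure, Set.image_pair]

theorem PP_symm (p : ℕ) {G : Type*} [Group G] {a b : G} (h : PP p a b) : PP p b a := by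
  obtain ⟨h1, h2⟩ := h
  refine ⟨?_, ?_⟩
  · have hconj : b * a = a⁻¹ * (a * b) * a := by group
    have : orderOf (b * a) = orderOf (a * b) := by
      rw [hconj]
      have := orderOf_injective (MulAut.conj a⁻¹).toMonoidHom (MulAut.conj a⁻¹).injective (a * b)
      simpa [MulAut.conj_apply] using this
    rwa [this]
  · rwa [Set.pair_comm]

theorem PP_map_iff (p : ℕ) {G G' : Type*} [Group G] [Group G'] (f : G →* G')
    (hf : Function.Injective f) (a b : G) : PP p (f a) (f b) ↔ PP p a b := by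
  unfold PP
  rw [← map_mul, orderOf_injective f hf, closure_pair_map, solvable_map_iff f hf]

theorem PP_conj (p : ℕ) {G : Type*} [Group G] {a b : G} (g : G) (h : PP p a b) :
    PP p (g * a * g⁻¹) (g * b * g⁻¹) := by
  have := (PP_map_iff p (MulAut.conj g).toMonoidHom (MulAut.conj g).injective a b).mpr h
  simpa [MulAut.conj_apply] using this

/-- product lifting: `PP` in the first coordinate suffices (`p` prime) -/
theorem PP_prod (p : ℕ) (hp : p.Prime) {G G' : Type*} [Group G] [Group G'] {a b : G} (a' b' : G')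
    (h : PP p a b) : PP p ((a, a') : G × G') (b, b') := by
  obtain ⟨h1, h2⟩ := h
  refine ⟨?_, ?_⟩
  · rintro ⟨k, hk⟩
    apply h1
    have hdvd : orderOf (a * b) ∣ p ^ k := by
      rw [← hk, Prod.orderOf]
      exact Nat.dvd_lcm_left _ _
    obtain ⟨j, -, hj⟩ := (Nat.dvd_prime_pow hp).mp hdvd
    exact ⟨j, hj⟩
  · intro hsol
    apply h2
    have hmap : (Subgroup.closure ({((a, a') : G × G'), (b, b')} : Set (G × G'))).map (MonoidHom.fst G G')
        = Subgroup.closure ({a, b} : Set G) := by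
      rw [MonoidHom.map_closure, Set.image_pair]
      rfl
    rw [← hmap]
    exact Group.isSolvable_of_surjective
      (f := (MonoidHom.fst G G').subgroupMap (Subgroup.closure ({((a, a') : G × G'), (b, b')} : Set (G × G'))))
      (MonoidHom.subgroupMap_surjective _ _)

/-- a nontrivial element which is a commutator of two conjugates of itself (Mathlib's argument for `S₅`) -/
theorem not_solvable_of_comm_conj {G : Type*} [Group G] (H : Subgroup G) (x g₁ g₂ : G)
    (hx : x ∈ H) (h1 : g₁ ∈ H) (h2 : g₂ ∈ H) (hx1 : x ≠ 1)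
    (he : x = ⁅g₁ * x * g₁⁻¹, g₂ * x * g₂⁻¹⁆) : ¬ Group.IsSolvable ↥H := by
  have hx1' : (⟨x, hx⟩ : ↥H) ≠ 1 := fun h => hx1 (congrArg Subtype.val h)
  refine not_isSolvable_of_mem_derivedSeries hx1' ?_
  intro n
  induction n with
  | zero => exact Subgroup.mem_top _
  | succ n ih =>
    rw [derivedSeries_succ]
    have hxe : (⟨x, hx⟩ : ↥H) = ⁅(⟨g₁, h1⟩ : ↥H) * ⟨x, hx⟩ * (⟨g₁, h1⟩ : ↥H)⁻¹,
        (⟨g₂, h2⟩ : ↥H) * ⟨x, hx⟩ * (⟨g₂, h2⟩ : ↥H)⁻¹⁆ := by
      apply Subtype.ext
      show x = _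
      conv_lhs => rw [he]
      simp [commutatorElement_def]
    rw [hxe]
    exact Subgroup.commutator_mem_commutator
      ((derivedSeries_normal ↥H n).conj_mem _ ih _) ((derivedSeries_normal ↥H n).conj_mem _ ih _)

/-- not a `p`-element: some odd power is a nontrivial involution (`p` odd) -/
theorem not_ppow_of_pow_eq {G : Type*} [Group G] (p : ℕ) (hp : p.Prime) (hp2 : p ≠ 2) (ρ κ : G)
    (r : ℕ) (hr : ρ ^ r = κ) (hκ2 : κ * κ = 1) (hκ1 : κ ≠ 1) : ¬ ∃ k : ℕ, orderOf ρ = p ^ k := by
  rintro ⟨k, hk⟩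
  have h2 : orderOf κ = 2 := orderOf_eq_prime (by rw [pow_two]; exact hκ2) hκ1
  have hdvd : 2 ∣ p ^ k := by
    rw [← hk, ← h2, ← hr]
    exact orderOf_pow_dvd r
  have : 2 ∣ p := Nat.Prime.dvd_of_dvd_pow Nat.prime_two hdvd
  exact hp2 ((Nat.prime_dvd_prime_iff_eq Nat.prime_two hp).mp this).symm

end Cfsg.Agent.Lib.Helper8.AltP
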