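import Mathlib
import Cfsg.Agent.Lib.Helper8.AltPDefs
import Cfsg.Agent.Lib.Lead.AltPGrp

/-! # S2276 PK-A5: explicit nonsolvability certificates in `Perm α` (leader: helper8) -/

set_option autoImplicit false
open Equiv Equiv.Perm
open scoped commutatorElement

namespace Cfsg.Agent.Lib.Helper8.AltP

theorem viaEmbedding_swap {ι α : Type*} [DecidableEq ι] [DecidableEq α] (f : ι ↪ α) (i j : ι) :
    viaEmbeddingHom f (swap i j) = swap (f i) (f j) := by
  ext x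
  rw [viaEmbeddingHom_apply]
  by_cases hx : x ∈ Set.range f
  · obtain ⟨k, rfl⟩ := hx
    rw [viaEmbedding_apply, f.injective.map_swap]
  · rw [viaEmbedding_apply_of_notMem _ _ _ hx]
    have h1 : x ≠ f i := fun h => hx ⟨i, h.symm⟩
    have h2 : x ≠ f j := fun h => hx ⟨j, h.symm⟩
    rw [swap_apply_of_ne_of_ne h1 h2]

/-- the model: two 3-cycles sharing one point in `Perm (Fin 5)`. -/
theorem model_not_solvable :
    ¬ Group.IsSolvable ↥(Subgroup.closure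
      ({swap (0 : Fin 5) 1 * swap 1 2, swap (2 : Fin 5) 3 * swap 3 4} : Set (Perm (Fin 5)))) := by
  set σ : Perm (Fin 5) := swap (0 : Fin 5) 1 * swap 1 2 with hσ
  set τ : Perm (Fin 5) := swap (2 : Fin 5) 3 * swap 3 4 with hτ
  have hσm : σ ∈ Subgroup.closure ({σ, τ} : Set (Perm (Fin 5))) :=
    Subgroup.subset_closure (Set.mem_insert _ _)
  have hτm : τ ∈ Subgroup.closure ({σ, τ} : Set (Perm (Fin 5))) :=
    Subgroup.subset_closure (Set.mem_insert_of_mem _ rfl)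
  refine not_solvable_of_comm_conj _ σ τ⁻¹ (τ * σ⁻¹ * τ⁻¹) hσm (inv_mem hτm)
    (mul_mem (mul_mem hτm (inv_mem hσm)) (inv_mem hτm)) ?_ ?_
  · rw [hσ]; decide
  · rw [hσ, hτ]; decide +kernel

/-- two 3-cycles `(a b c)`, `(c d e)` sharing exactly one point generate a nonsolvable group -/
theorem not_solvable_of_three_cycles {α : Type*} [DecidableEq α] (H : Subgroup (Perm α))
    (a b c d e : α) (hnd : [a, b, c, d, e].Nodup)
    (h1 : swap a b * swap b c ∈ H) (h2 : swap c d * swap d e ∈ H) : ¬ Group.IsSolvable ↥H := by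
  intro hsol
  have hinj : Function.Injective (![a, b, c, d, e] : Fin 5 → α) := by
    intro i j hij
    simp only [List.nodup_cons, List.mem_cons, List.not_mem_nil, or_false, not_or,
      List.nodup_nil, and_true] at hnd
    obtain ⟨⟨hab, hac, had, hae⟩, ⟨hbc, hbd, hbe⟩, ⟨hcd, hce⟩, hde⟩ := hnd
    fin_cases i <;> fin_cases j <;> simp_all
  let f : Fin 5 ↪ α := ⟨![a, b, c, d, e], hinj⟩
  have hf0 : f 0 = a := rfl
  have hf1 : f 1 = b := rfl
  have hf2 : f 2 = c := rfl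
  have hf3 : f 3 = d := rfl
  have hf4 : f 4 = e := rfl
  have hK : (Subgroup.closure
      ({swap (0 : Fin 5) 1 * swap 1 2, swap (2 : Fin 5) 3 * swap 3 4} : Set (Perm (Fin 5)))).map
      (viaEmbeddingHom f) ≤ H := by
    rw [MonoidHom.map_closure, Subgroup.closure_le]
    rintro x ⟨y, hy, rfl⟩
    rcases hy with rfl | rfl
    · rw [map_mul, viaEmbedding_swap, viaEmbedding_swap, hf0, hf1, hf2]; exact h1
    · rw [map_mul, viaEmbedding_swap, viaEmbedding_swap, hf2, hf3, hf4]; exact h2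
  have hsol' : Group.IsSolvable ↥((Subgroup.closure
      ({swap (0 : Fin 5) 1 * swap 1 2, swap (2 : Fin 5) 3 * swap 3 4} : Set (Perm (Fin 5)))).map
      (viaEmbeddingHom f)) :=
    Group.isSolvable_of_isSolvable_injective (f := Subgroup.inclusion hK) (Subgroup.inclusion_injective hK)
  exact model_not_solvable ((solvable_map_iff _ (viaEmbeddingHom_injective f) _).mp hsol')

/-- conjugating a swap by a power of `w` -/
theorem pow_swap_conj {α : Type*} [DecidableEq α] (w : Perm α) (i : ℕ) (x y : α) :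
    w ^ i * swap x y * (w ^ i)⁻¹ = swap ((w ^ i) x) ((w ^ i) y) :=
  (swap_apply_apply (w ^ i) x y).symm

/-- pattern `(0 a)(1 a+1)` along a permutation `w` (positions `i ↦ w^i y₀`) -/
theorem not_solvable_of_pattern {α : Type*} [DecidableEq α] (H : Subgroup (Perm α)) (w : Perm α)
    (hw : w ∈ H) (y₀ : α) (a : ℕ)
    (hd : [y₀, (w ^ a) y₀, (w ^ (2 * a)) y₀, (w ^ (3 * a)) y₀, (w ^ (4 * a)) y₀].Nodup)
    (hκ : swap y₀ ((w ^ a) y₀) * swap (w y₀) ((w ^ (a + 1)) y₀) ∈ H) :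
    ¬ Group.IsSolvable ↥H := by
  set κ := swap y₀ ((w ^ a) y₀) * swap (w y₀) ((w ^ (a + 1)) y₀) with hκdef
  -- d i = w^i κ w^-i
  have hdi : ∀ i : ℕ, w ^ i * κ * (w ^ i)⁻¹ =
      swap ((w ^ i) y₀) ((w ^ (i + a)) y₀) * swap ((w ^ (i + 1)) y₀) ((w ^ (i + a + 1)) y₀) := by
    intro i
    have e1 : (w ^ i) ((w ^ a) y₀) = (w ^ (i + a)) y₀ := by rw [pow_add, Perm.mul_apply]
    have e2 : (w ^ i) (w y₀) = (w ^ (i + 1)) y₀ := by rw [pow_succ, Perm.mul_apply]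
    have e3 : (w ^ i) ((w ^ (a + 1)) y₀) = (w ^ (i + a + 1)) y₀ := by
      rw [add_assoc, pow_add w i, Perm.mul_apply]
    calc w ^ i * κ * (w ^ i)⁻¹
        = (w ^ i * swap y₀ ((w ^ a) y₀) * (w ^ i)⁻¹) *
          (w ^ i * swap (w y₀) ((w ^ (a + 1)) y₀) * (w ^ i)⁻¹) := by rw [hκdef]; group
      _ = _ := by rw [pow_swap_conj, pow_swap_conj, e1, e2, e3]
  have hdmem : ∀ i : ℕ, w ^ i * κ * (w ^ i)⁻¹ ∈ H := fun i =>
    mul_mem (mul_mem (pow_mem hw i) hκ) (inv_mem (pow_mem hw i))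
  -- telescoping product
  have htel : ∀ j : ℕ, swap y₀ ((w ^ a) y₀) * swap ((w ^ (j + 1)) y₀) ((w ^ (j + a + 1)) y₀) ∈ H := by
    intro j
    induction j with
    | zero =>
      have := hdmem 0
      rw [hdi 0] at this
      simpa [add_comm] using this
    | succ j ih =>
      have h2 := hdmem (j + 1)
      rw [hdi (j + 1)] at h2
      have := mul_mem ih h2
      have hrw : swap y₀ ((w ^ a) y₀) * swap ((w ^ (j + 1)) y₀) ((w ^ (j + a + 1)) y₀) *
          (swap ((w ^ (j + 1)) y₀) ((w ^ (j + 1 + a)) y₀) *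
            swap ((w ^ (j + 1 + 1)) y₀) ((w ^ (j + 1 + a + 1)) y₀))
          = swap y₀ ((w ^ a) y₀) * swap ((w ^ (j + 1 + 1)) y₀) ((w ^ (j + 1 + a + 1)) y₀) := by
        have e : j + a + 1 = j + 1 + a := by omega
        rw [e, mul_assoc, ← mul_assoc (swap ((w ^ (j + 1)) y₀) ((w ^ (j + 1 + a)) y₀)), swap_mul_self,
          one_mul]
      rw [hrw] at this
      exact this
  have ha0 : a ≠ 0 := by
    rintro rfl
    simp at hd
  obtain ⟨a', rfl⟩ := Nat.exists_eq_succ_of_ne_zero ha0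
  -- ρ = (y₀ y_a)(y_a y_2a) ∈ H
  have hρ : swap y₀ ((w ^ (a' + 1)) y₀) * swap ((w ^ (a' + 1)) y₀) ((w ^ (2 * (a' + 1))) y₀) ∈ H := by
    have := htel a'
    have e : a' + (a' + 1) + 1 = 2 * (a' + 1) := by omega
    rwa [e] at this
  -- conjugate by w^(2a)
  have hρ' : swap ((w ^ (2 * (a' + 1))) y₀) ((w ^ (3 * (a' + 1))) y₀) *
      swap ((w ^ (3 * (a' + 1))) y₀) ((w ^ (4 * (a' + 1))) y₀) ∈ H := by
    have := mul_mem (mul_mem (pow_mem hw (2 * (a' + 1))) hρ) (inv_mem (pow_mem hw (2 * (a' + 1))))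
    have hc : w ^ (2 * (a' + 1)) * (swap y₀ ((w ^ (a' + 1)) y₀) *
        swap ((w ^ (a' + 1)) y₀) ((w ^ (2 * (a' + 1))) y₀)) * (w ^ (2 * (a' + 1)))⁻¹
        = (w ^ (2 * (a' + 1)) * swap y₀ ((w ^ (a' + 1)) y₀) * (w ^ (2 * (a' + 1)))⁻¹) *
          (w ^ (2 * (a' + 1)) * swap ((w ^ (a' + 1)) y₀) ((w ^ (2 * (a' + 1))) y₀) *
            (w ^ (2 * (a' + 1)))⁻¹) := by group
    rw [hc, pow_swap_conj, pow_swap_conj] at this
    have e1 : (w ^ (2 * (a' + 1))) ((w ^ (a' + 1)) y₀) = (w ^ (3 * (a' + 1))) y₀ := by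
      rw [← Perm.mul_apply, ← pow_add]; congr 2; ring
    have e2 : (w ^ (2 * (a' + 1))) ((w ^ (2 * (a' + 1))) y₀) = (w ^ (4 * (a' + 1))) y₀ := by
      rw [← Perm.mul_apply, ← pow_add]; congr 2; ring
    rwa [e1, e2] at this
  exact not_solvable_of_three_cycles H _ _ _ _ _ hd hρ hρ'

/-- pattern: the 3-cycle on positions `0, 3, 1` -/
theorem not_solvable_of_pattern3 {α : Type*} [DecidableEq α] (H : Subgroup (Perm α)) (w : Perm α)
    (hw : w ∈ H) (y₀ : α)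
    (hd : [y₀, w y₀, (w ^ 2) y₀, (w ^ 3) y₀, (w ^ 4) y₀].Nodup)
    (ht : swap y₀ ((w ^ 3) y₀) * swap ((w ^ 3) y₀) (w y₀) ∈ H) : ¬ Group.IsSolvable ↥H := by
  have ht' : swap (w y₀) ((w ^ 4) y₀) * swap ((w ^ 4) y₀) ((w ^ 2) y₀) ∈ H := by
    have := mul_mem (mul_mem hw ht) (inv_mem hw)
    have hc : w * (swap y₀ ((w ^ 3) y₀) * swap ((w ^ 3) y₀) (w y₀)) * w⁻¹
        = (w * swap y₀ ((w ^ 3) y₀) * w⁻¹) * (w * swap ((w ^ 3) y₀) (w y₀) * w⁻¹) := by group
    rw [hc, ← swap_apply_apply, ← swap_apply_apply] at this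
    have e1 : w ((w ^ 3) y₀) = (w ^ 4) y₀ := by rw [← Perm.mul_apply, ← pow_succ']
    have e2 : w (w y₀) = (w ^ 2) y₀ := by rw [pow_two, Perm.mul_apply]
    rwa [e1, e2] at this
  refine not_solvable_of_three_cycles H y₀ ((w ^ 3) y₀) (w y₀) ((w ^ 4) y₀) ((w ^ 2) y₀) ?_ ht ht'
  simp only [List.nodup_cons, List.mem_cons, List.not_mem_nil, or_false, not_or,
    List.nodup_nil, and_true, not_false_eq_true] at hd ⊢
  obtain ⟨⟨h01, h02, h03, h04⟩, ⟨h12, h13, h14⟩, ⟨h23, h24⟩, h34⟩ := hd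
  refine ⟨⟨h03, h01, h04, h02⟩, ⟨Ne.symm h13, h34, Ne.symm h23⟩, ⟨h14, h12⟩, Ne.symm h24⟩

end Cfsg.Agent.Lib.Helper8.AltP
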