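import Mathlib

set_option autoImplicit false

/-!
Permutations of four points fixing a point.
-/

namespace Cfsg.Agent.Lib.Lead

namespace S4

open Equiv

theorem perm_fin4_cube : ∀ (π : Perm (Fin 4)) (i : Fin 4), π i = i → Perm.sign π = 1 → π ^ 3 = 1 := by
  decide

theorem perm_cube_of_card_four {α : Type*} [Fintype α] [DecidableEq α] (h : Fintype.card α = 4)
    (π : Perm α) (x : α) (hx : π x = x) (hs : Perm.sign π = 1) : π ^ 3 = 1 := by
  set e : α ≃ Fin 4 := Fintype.equivFinOfCardEq h with he
  have h1 : Perm.sign (e.permCongr π) = 1 := by rw [Perm.sign_permCongr]; exact hs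
  have h2 : (e.permCongr π) (e x) = e x := by
    rw [Equiv.permCongr_apply, Equiv.symm_apply_apply, hx]
  have h3 := perm_fin4_cube _ _ h2 h1
  have h4 : (Equiv.permCongrHom e) (π ^ 3) = 1 := by
    rw [map_pow]; exact h3
  have h5 : (Equiv.permCongrHom e) (π ^ 3) = (Equiv.permCongrHom e) 1 := by rw [h4, map_one]
  exact (Equiv.permCongrHom e).injective h5

theorem card_stabilizer_of_card_four {α : Type*} [Fintype α] [DecidableEq α]
    (h : Fintype.card α = 4) (x : α) : Nat.card (MulAction.stabilizer (Perm α) x) = 6 := by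
  classical
  have h1 := MulAction.card_orbit_mul_card_stabilizer_eq_card_group (Perm α) x
  have h2 : MulAction.orbit (Perm α) x = Set.univ := by
    ext z
    simp only [Set.mem_univ, iff_true]
    exact ⟨Equiv.swap x z, by simp [Perm.smul_def]⟩
  have h3 : Fintype.card (MulAction.orbit (Perm α) x) = 4 := by
    rw [← h]
    simp only [h2]
    exact Fintype.card_congr (Equiv.Set.univ α)
  rw [h3, Fintype.card_perm, h] at h1
  rw [Nat.card_eq_fintype_card]
  have : Nat.factorial 4 = 24 := by decide
  omega

end S4

end Cfsg.Agent.Lib.Lead
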