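import Mathlib
import Cfsg.Agent.Lib.Lead.S4a
import Cfsg.Agent.Lib.Lead.CoprimeTools
import Cfsg.Agent.Lib.Helper9.Sections

set_option autoImplicit false

/-!
The symmetric group of degree four from a normal four-group with the full automorphism group
induced.
-/

namespace Cfsg.Agent.Lib.Lead

namespace S4

open Equiv

section

variable {G : Type*} [Group G]

/-- the conjugation action on a normal subgroup, as permutations -/
noncomputable def rho (U : Subgroup G) [U.Normal] : G →* Perm U :=
  (MulAut.toPerm U).comp MulAut.conjNormal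

theorem rho_apply (U : Subgroup G) [U.Normal] (g : G) (u : U) :
    ((rho U g) u : G) = g * u * g⁻¹ := by
  show ((MulAut.conjNormal g) u : G) = _
  exact MulAut.conjNormal_apply g u

theorem rho_one_fix (U : Subgroup G) [U.Normal] (g : G) : rho U g 1 = 1 := by
  apply Subtype.ext
  rw [rho_apply]
  simp

theorem rho_eq_one_iff (U : Subgroup G) [U.Normal] (g : G) :
    rho U g = 1 ↔ g ∈ Subgroup.centralizer (U : Set G) := by
  rw [Subgroup.mem_centralizer_iff]
  constructor
  · intro h u hu
    have h1 : (rho U g) ⟨u, hu⟩ = ⟨u, hu⟩ := by rw [h]; rfl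
    have h2 := congrArg Subtype.val h1
    rw [rho_apply] at h2
    have h3 : g * u * g⁻¹ = u := h2
    calc u * g = (g * u * g⁻¹) * g := by rw [h3]
      _ = g * u := by group
  · intro h
    ext u
    rw [rho_apply, Perm.coe_one, id]
    have := h u u.2
    rw [← this, mul_inv_cancel_right]

theorem card_eq_card_inf_mul_relIndex' (H K : Subgroup G) :
    Nat.card K = Nat.card (H ⊓ K : Subgroup G) * H.relIndex K := by
  have h1 := Subgroup.card_mul_index (H.subgroupOf K)
  rw [card_subgroupOf_eq] at h1
  exact h1.symm

end

end S4

end Cfsg.Agent.Lib.Lead
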