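import Mathlib
import Cfsg.Agent.Lib.Lead.S4b

set_option autoImplicit false

/-!
The symmetric group of degree four from a normal four-group with the full automorphism group
induced: first part.
-/

namespace Cfsg.Agent.Lib.Lead

namespace S4

open Equiv

section

variable {G : Type*} [Group G] [Finite G]

/-- data extracted from the hypotheses: a subgroup `H` disjoint from `U` inducing a group of order
six on `U` -/
theorem exists_complement (U : Subgroup G) [hUn : U.Normal] (hU4 : Nat.card U = 4)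
    (hU2 : ∀ u ∈ U, u * u = 1) (y a : G)
    (hfpf : ∀ u ∈ U, y * u * y⁻¹ = u → u = 1)
    (hyodd : ∃ m : ℕ, Odd m ∧ y ^ m ∈ Subgroup.centralizer (U : Set G))
    (haC : a ∉ Subgroup.centralizer (U : Set G))
    (ha2 : ∃ j : ℕ, a ^ 2 ^ j ∈ Subgroup.centralizer (U : Set G)) :
    ∃ H : Subgroup G, H ⊓ U = ⊥ ∧
      Nat.card H = Nat.card (H ⊓ (rho U).ker : Subgroup G) * 6 := by
  classical
  haveI : Fintype U := Fintype.ofFinite U
  have hcardU : Fintype.card U = 4 := by rw [← Nat.card_eq_fintype_card]; exact hU4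
  set ρ := rho U with hρ
  set σ : G →* ℤˣ := Perm.sign.comp ρ with hσ
  have hρ1 : ∀ g, ρ g 1 = 1 := rho_one_fix U
  have hker : ∀ g, ρ g = 1 ↔ g ∈ Subgroup.centralizer (U : Set G) := rho_eq_one_iff U
  -- `y`
  obtain ⟨m, hm, hym⟩ := hyodd
  have hσy : σ y = 1 := by
    have h1 : σ y ^ m = 1 := by
      rw [← map_pow, hσ, MonoidHom.comp_apply, (hker _).mpr hym, map_one]
    rcases Int.units_eq_one_or (σ y) with h | h
    · exact h
    · rw [h, hm.neg_one_pow] at h1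
      exact absurd h1 (by decide)
  have hρy3 : ρ y ^ 3 = 1 := perm_cube_of_card_four hcardU (ρ y) 1 (hρ1 y) hσy
  have hρy1 : ρ y ≠ 1 := by
    intro h
    have hne : (U : Subgroup G) ≠ ⊥ := by
      intro hbot
      rw [hbot, Subgroup.card_bot] at hU4
      omega
    obtain ⟨u, hu1⟩ := (Subgroup.ne_bot_iff_exists_ne_one.mp hne)
    apply hu1
    apply Subtype.ext
    apply hfpf u u.2
    have h1 : (ρ y) u = u := by rw [h]; rfl
    have h2 := congrArg Subtype.val h1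
    rwa [rho_apply] at h2
  have hordy : orderOf (ρ y) = 3 := orderOf_eq_prime hρy3 hρy1
  -- `a`
  obtain ⟨j, haj⟩ := ha2
  have hρa1 : ρ a ≠ 1 := fun h => haC ((hker a).mp h)
  have hσa : σ a = -1 := by
    rcases Int.units_eq_one_or (σ a) with h | h
    · exfalso
      have h3 := perm_cube_of_card_four hcardU (ρ a) 1 (hρ1 a) h
      have h2 : ρ a ^ 2 ^ j = 1 := by rw [← map_pow]; exact (hker _).mpr haj
      have d3 : orderOf (ρ a) ∣ 3 := orderOf_dvd_of_pow_eq_one h3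
      have d2 : orderOf (ρ a) ∣ 2 ^ j := orderOf_dvd_of_pow_eq_one h2
      have hc : Nat.Coprime 3 (2 ^ j) := Nat.Coprime.pow_right j (by norm_num)
      have d1 : orderOf (ρ a) ∣ 1 := by
        have := Nat.dvd_gcd d3 d2
        rwa [Nat.Coprime.gcd_eq_one hc] at this
      exact hρa1 (orderOf_eq_one_iff.mp (Nat.dvd_one.mp d1))
    · exact h
  -- the `3`-part of `y`
  obtain ⟨v, n', hn', hord⟩ :=
    Nat.exists_eq_pow_mul_and_not_dvd (orderOf_pos y).ne' 3 (by norm_num)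
  set y₃ := y ^ n' with hy₃
  have hy₃pow : y₃ ^ 3 ^ v = 1 := by
    rw [hy₃, ← pow_mul, mul_comm, ← hord, pow_orderOf_eq_one]
  have hcop : Nat.Coprime n' 3 := ((Nat.Prime.coprime_iff_not_dvd Nat.prime_three).mpr hn').symm
  obtain ⟨e, he⟩ : ∃ e : ℕ, (ρ y ^ n') ^ e = ρ y :=
    exists_pow_eq_self_of_coprime (by rw [hordy]; exact hcop)
  have hρy₃ : ρ y₃ = ρ y ^ n' := by rw [hy₃, map_pow]
  have hfpf₃ : ∀ u ∈ U, y₃ * u * y₃⁻¹ = u → u = 1 := by
    intro u hu h
    apply hfpf u hu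
    have h1 : ρ y₃ ⟨u, hu⟩ = ⟨u, hu⟩ := Subtype.ext (by rw [rho_apply]; exact h)
    have h2 : ρ y ⟨u, hu⟩ = ⟨u, hu⟩ := by
      rw [← he, ← hρy₃]
      exact Perm.pow_apply_eq_self_of_apply_eq_self h1 e
    have h3 := congrArg Subtype.val h2
    rwa [rho_apply] at h3
  have hρy₃1 : ρ y₃ ≠ 1 := by
    intro h
    apply hρy1
    rw [← he, ← hρy₃, h, one_pow]
  have hρy₃3 : ρ y₃ ^ 3 = 1 := by
    rw [hρy₃, ← pow_mul, mul_comm, pow_mul, hρy3, one_pow]
  have hordy₃ : orderOf (ρ y₃) = 3 := orderOf_eq_prime hρy₃3 hρy₃1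
  -- the Sylow `3`-subgroup
  set M := σ.ker with hM
  have hy₃M : y₃ ∈ M := by
    rw [hM, MonoidHom.mem_ker, hy₃, map_pow, hσy, one_pow]
  have : Fact (Nat.Prime 3) := ⟨Nat.prime_three⟩
  set P₀ : Subgroup M := Subgroup.zpowers ⟨y₃, hy₃M⟩ with hP₀def
  have hP₀ : IsPGroup 3 P₀ := by
    rintro ⟨z, hz⟩
    obtain ⟨i, rfl⟩ := Subgroup.mem_zpowers_iff.mp hz
    refine ⟨v, ?_⟩
    apply Subtype.ext
    apply Subtype.ext
    simp only [Subgroup.coe_pow, Subgroup.coe_zpow, Subgroup.coe_one]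
    rw [← zpow_natCast, ← zpow_mul, mul_comm, zpow_mul, zpow_natCast, hy₃pow, one_zpow]
  obtain ⟨D₀, hD₀⟩ := hP₀.exists_le_sylow
  set D : Subgroup G := (D₀ : Subgroup M).map M.subtype with hD
  have hy₃D : y₃ ∈ D := ⟨⟨y₃, hy₃M⟩, hD₀ (Subgroup.mem_zpowers _), rfl⟩
  have hDp : IsPGroup 3 D := D₀.isPGroup'.map _
  set H := Subgroup.normalizer (D : Set G) with hH
  have hFr : H ⊔ M = ⊤ := Sylow.normalizer_sup_eq_top D₀
  obtain ⟨t, htH, hσt⟩ : ∃ t ∈ H, σ t = -1 := by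
    have h1 : a ∈ H ⊔ M := by rw [hFr]; trivial
    rw [Subgroup.mem_sup_of_normal_right] at h1
    obtain ⟨h, hh, m', hm', rfl⟩ := h1
    refine ⟨h, hh, ?_⟩
    rw [map_mul, (MonoidHom.mem_ker).mp hm', mul_one] at hσa
    exact hσa
  have hHU : H ⊓ U = ⊥ := by
    rw [eq_bot_iff]
    rintro u ⟨huH, huU⟩
    rw [Subgroup.mem_bot]
    apply hfpf₃ u huU
    have hcD : u * y₃ * u⁻¹ * y₃⁻¹ ∈ D :=
      D.mul_mem ((Subgroup.mem_normalizer_iff.mp huH y₃).mp hy₃D) (D.inv_mem hy₃D)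
    have hcU : u * y₃ * u⁻¹ * y₃⁻¹ ∈ U := by
      have : u * y₃ * u⁻¹ * y₃⁻¹ = u * (y₃ * u⁻¹ * y₃⁻¹) := by group
      rw [this]
      exact U.mul_mem huU (hUn.conj_mem _ (U.inv_mem huU) _)
    have hc1 : u * y₃ * u⁻¹ * y₃⁻¹ = 1 := by
      obtain ⟨i, hi⟩ := hDp ⟨_, hcD⟩
      have h3 : (u * y₃ * u⁻¹ * y₃⁻¹) ^ 3 ^ i = 1 := by
        have := congrArg Subtype.val hi
        simpa using this
      have h2 : (u * y₃ * u⁻¹ * y₃⁻¹) ^ 2 = 1 := by rw [pow_two]; exact hU2 _ hcU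
      have d3 := orderOf_dvd_of_pow_eq_one h3
      have d2 := orderOf_dvd_of_pow_eq_one h2
      have hc : Nat.Coprime (3 ^ i) 2 := Nat.Coprime.pow_left i (by norm_num)
      have d1 : orderOf (u * y₃ * u⁻¹ * y₃⁻¹) ∣ 1 := by
        have := Nat.dvd_gcd d3 d2
        rwa [Nat.Coprime.gcd_eq_one hc] at this
      exact orderOf_eq_one_iff.mp (Nat.dvd_one.mp d1)
    calc y₃ * u * y₃⁻¹ = (u * y₃ * u⁻¹ * y₃⁻¹)⁻¹ * u := by group
      _ = u := by rw [hc1, inv_one, one_mul]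
  refine ⟨H, hHU, ?_⟩
  -- the order of the group induced by `H`
  set g : H →* Perm U := ρ.comp H.subtype with hg
  have hkerg : g.ker = ρ.ker.subgroupOf H := by
    ext x
    rw [MonoidHom.mem_ker, Subgroup.mem_subgroupOf, MonoidHom.mem_ker]
    rfl
  have h1 : Nat.card g.ker * Nat.card g.range = Nat.card H := by
    rw [← Subgroup.index_ker]
    exact Subgroup.card_mul_index _
  have h2 : Nat.card g.ker = Nat.card (H ⊓ ρ.ker : Subgroup G) := by
    rw [hkerg, card_subgroupOf_eq, inf_comm]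
  have hrange : Nat.card g.range = 6 := by
    have hle : g.range ≤ MulAction.stabilizer (Perm U) (1 : U) := by
      rintro _ ⟨x, rfl⟩
      rw [MulAction.mem_stabilizer_iff]
      exact hρ1 x
    have hd6 : Nat.card g.range ∣ 6 := by
      have := Subgroup.card_dvd_of_le hle
      rwa [card_stabilizer_of_card_four hcardU] at this
    have hyH : y₃ ∈ H := Subgroup.le_normalizer hy₃D
    have hd3 : 3 ∣ Nat.card g.range := by
      rw [← hordy₃]
      exact Subgroup.orderOf_dvd_natCard _ ⟨⟨y₃, hyH⟩, rfl⟩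
    have hd2 : 2 ∣ Nat.card g.range := by
      have h3 : orderOf (ρ t) ∣ Nat.card g.range :=
        Subgroup.orderOf_dvd_natCard _ ⟨⟨t, htH⟩, rfl⟩
      refine dvd_trans ?_ h3
      have h4 : (Perm.sign (ρ t)) ^ orderOf (ρ t) = 1 := by
        rw [← map_pow, pow_orderOf_eq_one, map_one]
      have h5 : Perm.sign (ρ t) = -1 := hσt
      rw [h5, neg_one_pow_eq_one_iff_even (by decide)] at h4
      exact even_iff_two_dvd.mp h4
    have hd6' : 6 ∣ Nat.card g.range :=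
      Nat.Coprime.mul_dvd_of_dvd_of_dvd (by norm_num : Nat.Coprime 2 3) hd2 hd3
    exact Nat.dvd_antisymm hd6 hd6'
  rw [← h1, h2, hrange]

end

end S4

end Cfsg.Agent.Lib.Lead
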