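import Mathlib
import Cfsg.Agent.Lib.Lead.S4c

set_option autoImplicit false

/-!
The symmetric group of degree four from a normal four-group with the full automorphism group
induced: the coset action.
-/

namespace Cfsg.Agent.Lib.Lead

namespace S4

open Equiv

section

variable {G : Type*} [Group G] [Finite G]

theorem isSectionOf_of_complement (U : Subgroup G) [hUn : U.Normal] (hU4 : Nat.card U = 4)
    (H : Subgroup G) (hHU : H ⊓ U = ⊥)
    (hH6 : Nat.card H = Nat.card (H ⊓ (rho U).ker : Subgroup G) * 6) :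
    Cfsg.Agent.Lib.Helper9.IsSectionOf (Perm (Fin 4)) G := by
  classical
  set ρ := rho U with hρ
  set R := H ⊓ ρ.ker with hR
  set Y := H ⊔ U with hY
  have hHN : H ≤ Subgroup.normalizer (U : Set G) := by
    rw [Subgroup.normalizer_eq_top_iff.mpr hUn]; exact le_top
  have hYcard : Nat.card Y = Nat.card H * 4 := by
    rw [hY, card_sup_of_disjoint H U hHN hHU, hU4]
  have hHY : H ≤ Y := le_sup_left
  have hUY : U ≤ Y := le_sup_right
  set H' := H.subgroupOf Y with hH'
  have hidx : H'.index = 4 := by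
    have h1 := card_eq_card_inf_mul_relIndex' H Y
    rw [inf_eq_left.mpr hHY, hYcard] at h1
    have hpos : 0 < Nat.card H := Nat.card_pos
    have : H.relIndex Y = 4 := (Nat.eq_of_mul_eq_mul_left hpos h1).symm
    exact this
  set f : Y →* Perm (Y ⧸ H') := MulAction.toPermHom Y (Y ⧸ H') with hf
  have hkerf : f.ker = H'.normalCore := (Subgroup.normalCore_eq_ker H').symm
  -- elements of `R` centralize `U`
  have hRU : ∀ r ∈ R, ∀ u ∈ U, r * u * r⁻¹ = u := by
    intro r hr u hu
    have h1 : ρ r = 1 := MonoidHom.mem_ker.mp hr.2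
    have h2 : (ρ r) ⟨u, hu⟩ = ⟨u, hu⟩ := by rw [h1]; rfl
    have h3 := congrArg Subtype.val h2
    rwa [rho_apply] at h3
  -- the kernel
  have hRY : R ≤ Y := inf_le_left.trans hHY
  have hYR : Y ≤ Subgroup.normalizer (R : Set G) := by
    refine sup_le ?_ ?_
    · intro h hh
      apply Subgroup.mem_normalizer_fintype
      intro r hr
      refine ⟨H.mul_mem (H.mul_mem hh hr.1) (H.inv_mem hh), ?_⟩
      exact (inferInstance : ρ.ker.Normal).conj_mem r hr.2 h
    · intro u hu
      apply Subgroup.mem_normalizer_fintype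
      intro r hr
      have h1 : r * u⁻¹ * r⁻¹ = u⁻¹ := hRU r hr u⁻¹ (U.inv_mem hu)
      have h2 : u * r * u⁻¹ = r := by
        calc u * r * u⁻¹ = u * (r * u⁻¹ * r⁻¹) * r := by group
          _ = r := by rw [h1]; group
      rw [h2]; exact hr
  haveI hRn : (R.subgroupOf Y).Normal := Subgroup.normal_subgroupOf_of_le_normalizer hYR
  have hker_eq : f.ker = R.subgroupOf Y := by
    rw [hkerf]
    apply le_antisymm
    · intro x hx
      have hxH : (x : G) ∈ H := Subgroup.mem_subgroupOf.mp (Subgroup.normalCore_le H' hx)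
      rw [Subgroup.mem_subgroupOf]
      refine ⟨hxH, ?_⟩
      show (x : G) ∈ ρ.ker
      rw [MonoidHom.mem_ker]
      ext u
      rw [rho_apply, Perm.coe_one, id]
      -- the commutator lies in `H ⊓ U`
      have hcU : (x : G) * u * (x : G)⁻¹ * (u : G)⁻¹ ∈ U :=
        U.mul_mem (hUn.conj_mem _ u.2 _) (U.inv_mem u.2)
      have hcH : (x : G) * u * (x : G)⁻¹ * (u : G)⁻¹ ∈ H := by
        have hn : (H'.normalCore).Normal := inferInstance
        have h1 := hn.conj_mem _ (H'.normalCore.inv_mem hx) ⟨(u : G), hUY u.2⟩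
        have h2 := Subgroup.mem_subgroupOf.mp (Subgroup.normalCore_le H' h1)
        have h3 : (x : G) * ((u : G) * (x : G)⁻¹ * (u : G)⁻¹) ∈ H := H.mul_mem hxH (by simpa using h2)
        have e : (x : G) * u * (x : G)⁻¹ * (u : G)⁻¹ = (x : G) * ((u : G) * (x : G)⁻¹ * (u : G)⁻¹) := by
          group
        rw [e]; exact h3
      have hc1 : (x : G) * u * (x : G)⁻¹ * (u : G)⁻¹ = 1 := by
        have : (x : G) * u * (x : G)⁻¹ * (u : G)⁻¹ ∈ H ⊓ U := ⟨hcH, hcU⟩
        rw [hHU, Subgroup.mem_bot] at this
        exact this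
      exact mul_inv_eq_one.mp hc1
    · rw [Subgroup.normal_le_normalCore]
      intro x hx
      rw [Subgroup.mem_subgroupOf] at hx ⊢
      exact hx.1
  -- counting
  have hkcard : Nat.card f.ker = Nat.card R := by
    rw [hker_eq]
    exact card_subgroupOf_of_le hRY
  have h1 : Nat.card f.ker * Nat.card f.range = Nat.card Y := by
    rw [← Subgroup.index_ker]
    exact Subgroup.card_mul_index _
  have hrange : Nat.card f.range = 24 := by
    rw [hkcard, hYcard, hH6] at h1
    have hpos : 0 < Nat.card R := Nat.card_pos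
    have h2 : Nat.card R * Nat.card f.range = Nat.card R * 24 := by
      rw [h1]; ring
    exact Nat.eq_of_mul_eq_mul_left hpos h2
  have hcardQ : Nat.card (Y ⧸ H') = 4 := by
    rw [← Subgroup.index_eq_card]; exact hidx
  have hperm : Nat.card (Perm (Y ⧸ H')) = 24 := by
    rw [Nat.card_perm, hcardQ]; decide
  have htop : f.range = ⊤ := by
    rw [← Subgroup.card_eq_iff_eq_top, hrange, hperm]
  have hsurj : Function.Surjective f := MonoidHom.range_eq_top.mp htop
  set e : (Y ⧸ H') ≃ Fin 4 := Finite.equivFinOfCardEq hcardQ with he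
  refine ⟨Y, (Equiv.permCongrHom e).toMonoidHom.comp f, ?_⟩
  exact (Equiv.permCongrHom e).surjective.comp hsurj

/-- a normal four-group on which an element of odd order acts without fixed points and a
`2`-element acts nontrivially gives rise to a section isomorphic to the symmetric group of degree
four -/
theorem isSectionOf_of_normal (U : Subgroup G) [hUn : U.Normal] (hU4 : Nat.card U = 4)
    (hU2 : ∀ u ∈ U, u * u = 1) (y a : G)
    (hfpf : ∀ u ∈ U, y * u * y⁻¹ = u → u = 1)
    (hyodd : ∃ m : ℕ, Odd m ∧ y ^ m ∈ Subgroup.centralizer (U : Set G))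
    (haC : a ∉ Subgroup.centralizer (U : Set G))
    (ha2 : ∃ j : ℕ, a ^ 2 ^ j ∈ Subgroup.centralizer (U : Set G)) :
    Cfsg.Agent.Lib.Helper9.IsSectionOf (Perm (Fin 4)) G := by
  obtain ⟨H, hHU, hH6⟩ := exists_complement U hU4 hU2 y a hfpf hyodd haC ha2
  exact isSectionOf_of_complement U hU4 H hHU hH6

end

end S4

end Cfsg.Agent.Lib.Lead
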