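import Mathlib
import Cfsg.Agent.Lib.Lead.S4d

set_option autoImplicit false

/-!
The symmetric group of degree four is involved in a group containing a four-group whose normalizer
induces the full automorphism group.
-/

namespace Cfsg.Agent.Lib.Lead

namespace S4

open Equiv

theorem involves_S4 {X : Type*} [Group X] [Finite X] (U : Subgroup X) (hU4 : Nat.card U = 4)
    (hU2 : ∀ u ∈ U, u * u = 1) (y a : X)
    (hyN : y ∈ Subgroup.normalizer (U : Set X)) (haN : a ∈ Subgroup.normalizer (U : Set X))
    (hfpf : ∀ u ∈ U, y * u * y⁻¹ = u → u = 1)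
    (hyodd : ∃ m : ℕ, Odd m ∧ y ^ m ∈ Subgroup.centralizer (U : Set X))
    (haC : a ∉ Subgroup.centralizer (U : Set X))
    (ha2 : ∃ j : ℕ, a ^ 2 ^ j ∈ Subgroup.centralizer (U : Set X)) :
    Cfsg.Involves (Perm (Fin 4)) X := by
  set N := Subgroup.normalizer (U : Set X) with hN
  set U' : Subgroup N := U.subgroupOf N with hU'
  haveI : U'.Normal := Subgroup.normal_in_normalizer
  have hUN : U ≤ N := Subgroup.le_normalizer
  have hcent : ∀ z : N, (z : X) ∈ Subgroup.centralizer (U : Set X) ↔
      z ∈ Subgroup.centralizer (U' : Set N) := by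
    intro z
    rw [Subgroup.mem_centralizer_iff, Subgroup.mem_centralizer_iff]
    constructor
    · intro h u hu
      apply Subtype.ext
      exact h u (Subgroup.mem_subgroupOf.mp hu)
    · intro h u hu
      have := h ⟨u, hUN hu⟩ (Subgroup.mem_subgroupOf.mpr hu)
      exact congrArg Subtype.val this
  have hcard : Nat.card U' = 4 := by
    rw [hU', card_subgroupOf_of_le hUN]; exact hU4
  have hexp : ∀ u ∈ U', u * u = 1 := by
    intro u hu
    apply Subtype.ext
    exact hU2 u (Subgroup.mem_subgroupOf.mp hu)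
  have h := isSectionOf_of_normal U' hcard hexp ⟨y, hyN⟩ ⟨a, haN⟩ ?_ ?_ ?_ ?_
  · exact Cfsg.Agent.Lib.Helper9.involves_of_isSectionOf h.of_subgroup
  · intro u hu huy
    apply Subtype.ext
    apply hfpf u (Subgroup.mem_subgroupOf.mp hu)
    exact congrArg Subtype.val huy
  · obtain ⟨m, hm, hym⟩ := hyodd
    refine ⟨m, hm, ?_⟩
    rw [← hcent]
    exact hym
  · intro h
    apply haC
    exact (hcent ⟨a, haN⟩).mpr h
  · obtain ⟨j, haj⟩ := ha2
    refine ⟨j, ?_⟩
    rw [← hcent]
    exact haj

end S4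

end Cfsg.Agent.Lib.Lead
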