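import Mathlib

set_option autoImplicit false

/-!
Failure of factorization for `p = 2`: groups of automorphisms of an elementary abelian `2`-group.
Basic definitions and lemmas.
-/

namespace Cfsg.Agent.Lib.Lead

namespace FF2

section Basic

variable {Γ : Type*} [Group Γ]

theorem eq_one_of_sq_of_odd {x : Γ} (h2 : x * x = 1) (hodd : Odd (orderOf x)) : x = 1 := by
  have h1 : orderOf x ∣ 2 := orderOf_dvd_of_pow_eq_one (by rw [pow_two]; exact h2)
  have h3 : orderOf x = 1 := by
    rcases (Nat.dvd_prime Nat.prime_two).mp h1 with h | h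
    · exact h
    · rw [h] at hodd
      exact absurd hodd (by decide)
  exact orderOf_eq_one_iff.mp h3

theorem exists_pow_sq_of_odd {x : Γ} (hodd : Odd (orderOf x)) : ∃ j : ℕ, (x * x) ^ j = x := by
  obtain ⟨m, hm⟩ := hodd
  refine ⟨m + 1, ?_⟩
  rw [← pow_two, ← pow_mul]
  have : 2 * (m + 1) = orderOf x + 1 := by omega
  rw [this, pow_succ, pow_orderOf_eq_one, one_mul]

/-- if `g` commutes with `x * x` and `x` has odd order then `g` commutes with `x` -/
theorem commute_of_commute_sq {g x : Γ} (hodd : Odd (orderOf x)) (h : g * (x * x) = (x * x) * g) :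
    g * x = x * g := by
  obtain ⟨j, hj⟩ := exists_pow_sq_of_odd hodd
  have : Commute g ((x * x) ^ j) := (show Commute g (x * x) from h).pow_right j
  rw [hj] at this
  exact this

theorem card_lt_of_lt2 [Finite Γ] {A B : Subgroup Γ} (h : A < B) : Nat.card A < Nat.card B := by
  have h1 := Subgroup.card_le_of_le h.le
  rcases lt_or_eq_of_le h1 with h2 | h2
  · exact h2
  · exact absurd (Subgroup.eq_of_le_of_card_ge h.le h2.ge) h.ne

end Basic

section Aut

variable {W : Type*} [CommGroup W]

/-- the stabilizer of a point -/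
def stab (w : W) : Subgroup (MulAut W) where
  carrier := {g | g w = w}
  one_mem' := rfl
  mul_mem' := by
    intro a b ha hb
    show (a * b) w = w
    rw [MulAut.mul_apply, hb, ha]
  inv_mem' := by
    intro a ha
    show a⁻¹ w = w
    rw [MulAut.inv_apply]
    exact (MulEquiv.symm_apply_eq a).mpr ha.symm

theorem mem_stab {w : W} {g : MulAut W} : g ∈ stab w ↔ g w = w := Iff.rfl

/-- common fixed points of a group of automorphisms -/
def Fix (B : Subgroup (MulAut W)) : Subgroup W where
  carrier := {w | ∀ b ∈ B, b w = w}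
  one_mem' := fun b _ => map_one b
  mul_mem' := by
    intro x y hx hy b hb
    rw [map_mul, hx b hb, hy b hb]
  inv_mem' := by
    intro x hx b hb
    rw [map_inv, hx b hb]

theorem mem_Fix {B : Subgroup (MulAut W)} {w : W} : w ∈ Fix B ↔ ∀ b ∈ B, b w = w := Iff.rfl

theorem mem_Fix_iff_le_stab {B : Subgroup (MulAut W)} {w : W} : w ∈ Fix B ↔ B ≤ stab w := Iff.rfl

/-- fixed points of a single automorphism -/
def fix1 (g : MulAut W) : Subgroup W where
  carrier := {w | g w = w}
  one_mem' := map_one g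
  mul_mem' := by
    intro x y hx hy
    show g (x * y) = x * y
    rw [map_mul, hx, hy]
  inv_mem' := by
    intro x hx
    show g x⁻¹ = x⁻¹
    rw [map_inv, hx]

theorem mem_fix1 {g : MulAut W} {w : W} : w ∈ fix1 g ↔ g w = w := Iff.rfl

theorem Fix_sup_zpowers (B : Subgroup (MulAut W)) (a : MulAut W) :
    Fix (B ⊔ Subgroup.zpowers a) = Fix B ⊓ fix1 a := by
  ext w
  constructor
  · intro hw
    exact ⟨fun b hb => hw b (Subgroup.mem_sup_left hb),
      hw a (Subgroup.mem_sup_right (Subgroup.mem_zpowers a))⟩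
  · rintro ⟨h1, h2⟩
    rw [mem_Fix_iff_le_stab]
    exact sup_le h1 (Subgroup.zpowers_le.mpr h2)

theorem Fix_anti {B B' : Subgroup (MulAut W)} (h : B ≤ B') : Fix B' ≤ Fix B :=
  fun _ hw b hb => hw b (h hb)

/-- `w ↦ w⁻¹ * y w` -/
def delta (y : MulAut W) : W →* W where
  toFun w := w⁻¹ * y w
  map_one' := by simp
  map_mul' a b := by
    rw [map_mul, mul_inv]
    exact mul_mul_mul_comm _ _ _ _

theorem delta_apply (y : MulAut W) (w : W) : delta y w = w⁻¹ * y w := rfl

/-- the norm map of `y` -/
def normFn (y : MulAut W) (n : ℕ) (w : W) : W := ∏ i ∈ Finset.range n, (y ^ i) w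

theorem normFn_delta (y : MulAut W) (n : ℕ) (hn : y ^ n = 1) (w : W) :
    normFn y n (delta y w) = 1 := by
  unfold normFn
  have h1 : ∀ i ∈ Finset.range n, (y ^ i) (delta y w) = (y ^ (i + 1)) w / (y ^ i) w := by
    intro i _
    rw [delta_apply, map_mul, map_inv, pow_succ, MulAut.mul_apply, div_eq_mul_inv, mul_comm]
  rw [Finset.prod_congr rfl h1, Finset.prod_range_div (fun i => (y ^ i) w), hn, pow_zero]
  simp

theorem normFn_of_fixed (y : MulAut W) (n : ℕ) (v : W) (hv : y v = v) : normFn y n v = v ^ n := by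
  unfold normFn
  have h1 : ∀ i : ℕ, (y ^ i) v = v := by
    intro i
    induction i with
    | zero => rfl
    | succ i ih => rw [pow_succ, MulAut.mul_apply, hv, ih]
  rw [Finset.prod_congr rfl (fun i _ => h1 i), Finset.prod_const, Finset.card_range]

/-- `C_W(y) ∩ [W, y] = 1` for `y` of odd order on a group of exponent `2` -/
theorem eq_one_of_fixed_of_mem_range (hW2 : ∀ w : W, w * w = 1) (y : MulAut W)
    (hodd : Odd (orderOf y)) (v : W) (hv : y v = v) (hr : v ∈ (delta y).range) : v = 1 := by
  obtain ⟨w, rfl⟩ := hr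
  have h1 := normFn_delta y (orderOf y) (pow_orderOf_eq_one y) w
  rw [normFn_of_fixed y _ _ hv] at h1
  obtain ⟨m, hm⟩ := hodd
  rw [hm, pow_succ, pow_mul, pow_two, hW2, one_pow, one_mul] at h1
  exact h1

theorem delta_range_ne_bot {y : MulAut W} (hy : y ≠ 1) : (delta y).range ≠ ⊥ := by
  intro h
  apply hy
  ext w
  have h1 : delta y w ∈ (delta y).range := ⟨w, rfl⟩
  rw [h, Subgroup.mem_bot, delta_apply, inv_mul_eq_one] at h1
  rw [MulAut.one_apply]
  exact h1.symm

/-- invariance of `[W, y]` under automorphisms commuting with `y` -/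
theorem map_mem_delta_range {y g : MulAut W} (hg : g * y = y * g) {v : W}
    (hv : v ∈ (delta y).range) : g v ∈ (delta y).range := by
  obtain ⟨w, rfl⟩ := hv
  refine ⟨g w, ?_⟩
  rw [delta_apply, delta_apply, map_mul, map_inv, ← MulAut.mul_apply, ← MulAut.mul_apply, hg]

/-- invariance of `[W, y]` under automorphisms inverting `y` -/
theorem map_mem_delta_range_of_inv {y g : MulAut W} (hg : g * y = y⁻¹ * g) {v : W}
    (hv : v ∈ (delta y).range) : g v ∈ (delta y).range := by
  obtain ⟨w, rfl⟩ := hv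
  have h1 : g (delta y w) = (delta y (y⁻¹ (g w)))⁻¹ := by
    have e1 : g (y w) = y⁻¹ (g w) := by
      rw [← MulAut.mul_apply, hg, MulAut.mul_apply]
    have e2 : y (y⁻¹ (g w)) = g w := by
      rw [← MulAut.mul_apply, mul_inv_cancel, MulAut.one_apply]
    rw [delta_apply, delta_apply, map_mul, map_inv, e1, e2, mul_inv_rev, inv_inv]
  rw [h1]
  exact Subgroup.inv_mem _ ⟨_, rfl⟩

end Aut

end FF2

end Cfsg.Agent.Lib.Lead
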