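import Mathlib
import Cfsg.Agent.Lib.Lead.FF2a
import Cfsg.Agent.Lib.Lead.ZJ1

set_option autoImplicit false

/-!
Failure of factorization for `p = 2`: choice of a hyperplane.
-/

namespace Cfsg.Agent.Lib.Lead

namespace FF2

section Main

variable {Γ : Type*} [Group Γ]

/-- the hypotheses on the pair `(K̄, Ā)` -/
structure Setup (Kb Ab : Subgroup Γ) : Prop where
  Kc : ∀ k ∈ Kb, ∀ k' ∈ Kb, k * k' = k' * k
  Kodd : ∀ k ∈ Kb, Odd (orderOf k)
  Ac : ∀ a ∈ Ab, ∀ a' ∈ Ab, a * a' = a' * a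
  A2 : ∀ a ∈ Ab, a * a = 1
  AK : ∀ a ∈ Ab, ∀ k ∈ Kb, a * k * a⁻¹ ∈ Kb

/-- subgroups of `Ā` centralizing an element of `K̄` on which `Ā` acts nontrivially -/
def Good (Kb Ab B : Subgroup Γ) : Prop :=
  B ≤ Ab ∧ ∃ k ∈ Kb, (∀ b ∈ B, b * k = k * b) ∧ ∃ a ∈ Ab, a * k ≠ k * a

variable {Kb Ab B : Subgroup Γ}

theorem Setup.inv_eq (hs : Setup Kb Ab) {a : Γ} (ha : a ∈ Ab) : a⁻¹ = a :=
  inv_eq_of_mul_eq_one_right (hs.A2 a ha)

theorem Setup.conj_comm (hs : Setup Kb Ab) (hBA : B ≤ Ab) {a k : Γ} (ha : a ∈ Ab)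
    (hkB : ∀ b ∈ B, b * k = k * b) : ∀ b ∈ B, b * (a * k * a⁻¹) = (a * k * a⁻¹) * b := by
  intro b hb
  have h1 : b * a = a * b := hs.Ac b (hBA hb) a ha
  have h2 : b * a⁻¹ = a⁻¹ * b := by
    rw [hs.inv_eq ha]; exact h1
  calc b * (a * k * a⁻¹) = (b * a) * k * a⁻¹ := by group
    _ = a * (b * k) * a⁻¹ := by rw [h1]; group
    _ = a * k * (b * a⁻¹) := by rw [hkB b hb]; group
    _ = (a * k * a⁻¹) * b := by rw [h2]; group

theorem max_step [Finite Γ] (hmax : ∀ B', Good Kb Ab B' → Nat.card B' ≤ Nat.card B)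
    (hBA : B ≤ Ab) {a : Γ} (haA : a ∈ Ab) (haB : a ∉ B) {k : Γ} (hk : k ∈ Kb)
    (hkB : ∀ b ∈ B, b * k = k * b) (hka : a * k = k * a) : ∀ a' ∈ Ab, a' * k = k * a' := by
  by_contra hcon
  push Not at hcon
  obtain ⟨a', ha', hne⟩ := hcon
  have hgood : Good Kb Ab (B ⊔ Subgroup.zpowers a) := by
    refine ⟨sup_le hBA (Subgroup.zpowers_le.mpr haA), k, hk, ?_, a', ha', hne⟩
    have hle : B ⊔ Subgroup.zpowers a ≤ Subgroup.centralizer {k} := by
      refine sup_le ?_ (Subgroup.zpowers_le.mpr ?_)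
      · intro b hb
        rw [Subgroup.mem_centralizer_singleton_iff]
        exact hkB b hb
      · rw [Subgroup.mem_centralizer_singleton_iff]
        exact hka
    intro b hb
    exact Subgroup.mem_centralizer_singleton_iff.mp (hle hb)
  have h1 := hmax _ hgood
  have hlt : B < B ⊔ Subgroup.zpowers a := by
    refine lt_of_le_of_ne le_sup_left ?_
    intro h
    apply haB
    rw [h]
    exact Subgroup.mem_sup_right (Subgroup.mem_zpowers a)
  have := card_lt_of_lt2 hlt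
  omega

/-- conjugation by `a ∈ Ā` fixes `k * k^a` -/
theorem Setup.conj_plus (hs : Setup Kb Ab) {a k : Γ} (ha : a ∈ Ab) (hk : k ∈ Kb) :
    a * (k * (a * k * a⁻¹)) = (k * (a * k * a⁻¹)) * a := by
  have hc : a * k * a⁻¹ ∈ Kb := hs.AK a ha k hk
  have h1 : a * (a * k * a⁻¹) * a⁻¹ = k := by
    have : a * (a * k * a⁻¹) * a⁻¹ = (a * a) * k * (a * a)⁻¹ := by group
    rw [this, hs.A2 a ha]; group
  have h2 : a * (k * (a * k * a⁻¹)) * a⁻¹ = k * (a * k * a⁻¹) := by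
    have : a * (k * (a * k * a⁻¹)) * a⁻¹ = (a * k * a⁻¹) * (a * (a * k * a⁻¹) * a⁻¹) := by group
    rw [this, h1]
    exact hs.Kc _ hc _ hk
  calc a * (k * (a * k * a⁻¹)) = (a * (k * (a * k * a⁻¹)) * a⁻¹) * a := by group
    _ = (k * (a * k * a⁻¹)) * a := by rw [h2]

/-- conjugation by `a ∈ Ā` inverts `k * (k^a)⁻¹` -/
theorem Setup.conj_minus (hs : Setup Kb Ab) {a k : Γ} (ha : a ∈ Ab) (hk : k ∈ Kb) :
    a * (k * (a * k * a⁻¹)⁻¹) * a⁻¹ = (k * (a * k * a⁻¹)⁻¹)⁻¹ := by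
  have hc : a * k * a⁻¹ ∈ Kb := hs.AK a ha k hk
  have h1 : a * (a * k * a⁻¹) * a⁻¹ = k := by
    have : a * (a * k * a⁻¹) * a⁻¹ = (a * a) * k * (a * a)⁻¹ := by group
    rw [this, hs.A2 a ha]; group
  have : a * (k * (a * k * a⁻¹)⁻¹) * a⁻¹ = (a * k * a⁻¹) * (a * (a * k * a⁻¹) * a⁻¹)⁻¹ := by group
  rw [this, h1, mul_inv_rev, inv_inv]

theorem prod_commutes [Finite Γ] (hs : Setup Kb Ab)
    (hmax : ∀ B', Good Kb Ab B' → Nat.card B' ≤ Nat.card B) (hBA : B ≤ Ab)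
    {a a' : Γ} (ha : a ∈ Ab) (haB : a ∉ B) (ha' : a' ∈ Ab) (ha'B : a' ∉ B)
    {k : Γ} (hk : k ∈ Kb) (hkB : ∀ b ∈ B, b * k = k * b) : (a * a') * k = k * (a * a') := by
  have haa' : a * a' ∈ Ab := Ab.mul_mem ha ha'
  set c := a * k * a⁻¹ with hc
  have hcK : c ∈ Kb := hs.AK a ha k hk
  have hcB : ∀ b ∈ B, b * c = c * b := hs.conj_comm hBA ha hkB
  -- the fixed part
  have hkpK : k * c ∈ Kb := Kb.mul_mem hk hcK
  have hkpB : ∀ b ∈ B, b * (k * c) = (k * c) * b := by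
    intro b hb
    rw [← mul_assoc, hkB b hb, mul_assoc, hcB b hb, ← mul_assoc]
  have hkp := max_step hmax hBA ha haB hkpK hkpB (hs.conj_plus ha hk) (a * a') haa'
  -- the inverted part
  set m := k * c⁻¹ with hm
  have hmK : m ∈ Kb := Kb.mul_mem hk (Kb.inv_mem hcK)
  have hmB : ∀ b ∈ B, b * m = m * b := by
    intro b hb
    have h1 : b * c⁻¹ = c⁻¹ * b := by
      have := hcB b hb
      calc b * c⁻¹ = c⁻¹ * (c * b) * c⁻¹ := by group
        _ = c⁻¹ * (b * c) * c⁻¹ := by rw [this]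
        _ = c⁻¹ * b := by group
    rw [hm, ← mul_assoc, hkB b hb, mul_assoc, h1, ← mul_assoc]
  have hma : a * m * a⁻¹ = m⁻¹ := hs.conj_minus ha hk
  set c' := a' * m * a'⁻¹ with hc'
  have hc'K : c' ∈ Kb := hs.AK a' ha' m hmK
  have hc'B : ∀ b ∈ B, b * c' = c' * b := hs.conj_comm hBA ha' hmB
  have hmpK : m * c' ∈ Kb := Kb.mul_mem hmK hc'K
  have hmpB : ∀ b ∈ B, b * (m * c') = (m * c') * b := by
    intro b hb
    rw [← mul_assoc, hmB b hb, mul_assoc, hc'B b hb, ← mul_assoc]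
  have hmp := max_step hmax hBA ha' ha'B hmpK hmpB (hs.conj_plus ha' hmK) a ha
  -- `a` inverts `m * c'`
  have h1 : a * (m * c') * a⁻¹ = (m * c')⁻¹ := by
    have e1 : a * c' * a⁻¹ = a' * (a * m * a⁻¹) * a'⁻¹ := by
      have hcomm : a * a' = a' * a := hs.Ac a ha a' ha'
      have hcomm' : a'⁻¹ * a⁻¹ = a⁻¹ * a'⁻¹ := by
        rw [← mul_inv_rev, ← mul_inv_rev, hcomm]
      calc a * c' * a⁻¹ = (a * a') * m * (a'⁻¹ * a⁻¹) := by rw [hc']; group
        _ = (a' * a) * m * (a⁻¹ * a'⁻¹) := by rw [hcomm, hcomm']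
        _ = a' * (a * m * a⁻¹) * a'⁻¹ := by group
    have e2 : a' * m⁻¹ * a'⁻¹ = c'⁻¹ := by rw [hc']; group
    have e3 : a * (m * c') * a⁻¹ = (a * m * a⁻¹) * (a * c' * a⁻¹) := by group
    rw [e3, e1, hma, e2, ← mul_inv_rev, hs.Kc c' hc'K m hmK]
  have h2 : (m * c') * (m * c') = 1 := by
    have : a * (m * c') * a⁻¹ = m * c' := by rw [hmp]; group
    rw [this] at h1
    calc (m * c') * (m * c') = (m * c') * (m * c')⁻¹ := by rw [← h1]
      _ = 1 := mul_inv_cancel _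
  have h3 : m * c' = 1 := eq_one_of_sq_of_odd h2 (hs.Kodd _ hmpK)
  have h4 : a' * m * a'⁻¹ = m⁻¹ := by
    rw [← hc']
    exact (eq_inv_of_mul_eq_one_right h3)
  -- `a * a'` centralizes `m`
  have h5 : (a * a') * m = m * (a * a') := by
    have : (a * a') * m * (a * a')⁻¹ = m := by
      calc (a * a') * m * (a * a')⁻¹ = a * (a' * m * a'⁻¹) * a⁻¹ := by group
        _ = a * m⁻¹ * a⁻¹ := by rw [h4]
        _ = (a * m * a⁻¹)⁻¹ := by group
        _ = m := by rw [hma, inv_inv]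
    calc (a * a') * m = ((a * a') * m * (a * a')⁻¹) * (a * a') := by group
      _ = m * (a * a') := by rw [this]
  -- so it centralizes `k * k`
  have h6 : (k * c) * m = k * k := by
    rw [hm]
    calc (k * c) * (k * c⁻¹) = k * (c * k) * c⁻¹ := by group
      _ = k * (k * c) * c⁻¹ := by rw [hs.Kc c hcK k hk]
      _ = k * k := by group
  have h7 : (a * a') * (k * k) = (k * k) * (a * a') := by
    rw [← h6]
    exact ((show Commute (a * a') (k * c) from hkp).mul_right (show Commute (a * a') m from h5))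
  exact commute_of_commute_sq (hs.Kodd k hk) h7

end Main

end FF2

end Cfsg.Agent.Lib.Lead
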