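import Mathlib
import Cfsg.Agent.Lib.Lead.FF2b
import Cfsg.Agent.Lib.Lead.CoprimeTools

set_option autoImplicit false

/-!
Failure of factorization for `p = 2`: the module lemma.
-/

namespace Cfsg.Agent.Lib.Lead

namespace FF2

section Main

variable {W : Type*} [CommGroup W] [Finite W]

theorem card_eq_card_inf_mul_relIndex (H K : Subgroup W) :
    Nat.card K = Nat.card (H ⊓ K : Subgroup W) * H.relIndex K := by
  have h1 := Subgroup.card_mul_index (H.subgroupOf K)
  rw [card_subgroupOf_eq] at h1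
  exact h1.symm

theorem isPGroup_two_of_sq (hW2 : ∀ w : W, w * w = 1) : IsPGroup 2 W := by
  intro w
  exact ⟨1, by rw [pow_one, pow_two]; exact hW2 w⟩

/-- a `2`-group of automorphisms has a nontrivial fixed point on every nontrivial invariant
subgroup -/
theorem exists_fixed_ne_one (hW2 : ∀ w : W, w * w = 1) (B : Subgroup (MulAut W))
    (hB : ∀ b ∈ B, b * b = 1) (M : Subgroup W) (hM : M ≠ ⊥)
    (hinv : ∀ b ∈ B, ∀ w ∈ M, b w ∈ M) : ∃ w ∈ M, w ≠ 1 ∧ w ∈ Fix B := by
  haveI : Fact (Nat.Prime 2) := ⟨Nat.prime_two⟩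
  have hBp : IsPGroup 2 B := by
    intro b
    refine ⟨1, ?_⟩
    apply Subtype.ext
    rw [pow_one, pow_two]
    exact hB b b.2
  let S : SubMulAction B W :=
    { carrier := (M : Set W)
      smul_mem' := fun b w hw => hinv b b.2 w hw }
  have hMp : IsPGroup 2 M := (isPGroup_two_of_sq hW2).to_subgroup M
  haveI : Nontrivial M := (Subgroup.nontrivial_iff_ne_bot M).mpr hM
  obtain ⟨j, hj0, hj⟩ := hMp.nontrivial_iff_card.mp inferInstance
  have hcard : Nat.card S = Nat.card M := rfl
  have hdvd : 2 ∣ Nat.card S := by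
    rw [hcard, hj]; exact dvd_pow_self 2 hj0.ne'
  have hfix : (⟨1, M.one_mem⟩ : S) ∈ MulAction.fixedPoints B S := by
    intro b
    apply Subtype.ext
    show (b : MulAut W) 1 = 1
    exact map_one _
  obtain ⟨⟨w, hwM⟩, hwfix, hne⟩ :=
    hBp.exists_fixed_point_of_prime_dvd_card_of_fixed_point S hdvd hfix
  refine ⟨w, hwM, ?_, ?_⟩
  · intro h
    apply hne
    apply Subtype.ext
    exact h.symm
  · intro b hb
    have := hwfix ⟨b, hb⟩
    exact congrArg Subtype.val this

theorem mem_Fix_of_commute {B : Subgroup (MulAut W)} {g : MulAut W}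
    (hg : ∀ b ∈ B, b * g = g * b) {w : W} (hw : w ∈ Fix B) : g w ∈ Fix B := by
  intro b hb
  rw [← MulAut.mul_apply, hg b hb, MulAut.mul_apply, hw b hb]

end Main

end FF2

end Cfsg.Agent.Lib.Lead
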