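import Mathlib
import Cfsg.Agent.Lib.Lead.FF2c

set_option autoImplicit false

/-!
Failure of factorization for `p = 2`: the module lemma.
-/

namespace Cfsg.Agent.Lib.Lead

namespace FF2

section Main

variable {W : Type*} [CommGroup W] [Finite W]

/-- the module lemma: a four-group on which an element of `K̄` of odd order acts without fixed
points and an element of `Ā` acts nontrivially -/
theorem module_lemma (hW2 : ∀ w : W, w * w = 1) (Kb Ab : Subgroup (MulAut W))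
    (hs : Setup Kb Ab) (hnt : ∃ a ∈ Ab, ∃ k ∈ Kb, a * k ≠ k * a)
    (hoff : ∀ B : Subgroup (MulAut W), B ≤ Ab →
      Nat.card B * Nat.card (Fix B) ≤ Nat.card Ab * Nat.card (Fix Ab)) :
    ∃ (U : Subgroup W) (y a : MulAut W), y ∈ Kb ∧ a ∈ Ab ∧ Nat.card U = 4 ∧
      (∀ u ∈ U, y u ∈ U) ∧ (∀ u ∈ U, a u ∈ U) ∧ (∀ u ∈ U, y u = u → u = 1) ∧
      (∃ u ∈ U, a u ≠ u) := by
  -- a maximal good subgroup
  have hgood0 : Good Kb Ab ⊥ := by
    obtain ⟨a, ha, k, hk, hne⟩ := hnt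
    refine ⟨bot_le, k, hk, ?_, a, ha, hne⟩
    intro b hb
    rw [Subgroup.mem_bot] at hb
    rw [hb, one_mul, mul_one]
  obtain ⟨B, hB, hmax⟩ := ZJ.exists_max_subgroup (Good Kb Ab) (fun B => Nat.card B) ⟨⊥, hgood0⟩
  obtain ⟨hBA, k₀, hk₀K, hk₀B, a₀, ha₀A, hne₀⟩ := hB
  have ha₀B : a₀ ∉ B := fun h => hne₀ (hk₀B a₀ h)
  -- `B` has index two
  have hprod : ∀ a ∈ Ab, a ∉ B → a₀ * a ∈ B := by
    intro a ha haB
    by_contra hnot
    have hcomm := prod_commutes hs hmax hBA ha₀A ha₀B ha haB hk₀K hk₀B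
    have hgood : Good Kb Ab (B ⊔ Subgroup.zpowers (a₀ * a)) := by
      refine ⟨sup_le hBA (Subgroup.zpowers_le.mpr (Ab.mul_mem ha₀A ha)), k₀, hk₀K, ?_,
        a₀, ha₀A, hne₀⟩
      have hle : B ⊔ Subgroup.zpowers (a₀ * a) ≤ Subgroup.centralizer {k₀} := by
        refine sup_le ?_ (Subgroup.zpowers_le.mpr ?_)
        · intro b hb
          rw [Subgroup.mem_centralizer_singleton_iff]
          exact hk₀B b hb
        · rw [Subgroup.mem_centralizer_singleton_iff]
          exact hcomm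
      intro b hb
      exact Subgroup.mem_centralizer_singleton_iff.mp (hle hb)
    have h1 := hmax _ hgood
    have hlt : B < B ⊔ Subgroup.zpowers (a₀ * a) := by
      refine lt_of_le_of_ne le_sup_left ?_
      intro h
      apply hnot
      rw [h]
      exact Subgroup.mem_sup_right (Subgroup.mem_zpowers _)
    have := card_lt_of_lt2 hlt
    omega
  have hAb : Ab = B ⊔ Subgroup.zpowers a₀ := by
    apply le_antisymm
    · intro a ha
      by_cases haB : a ∈ B
      · exact Subgroup.mem_sup_left haB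
      · have h1 := hprod a ha haB
        have h2 : a = a₀⁻¹ * (a₀ * a) := by group
        rw [h2]
        exact Subgroup.mul_mem _
          (Subgroup.mem_sup_right (Subgroup.inv_mem _ (Subgroup.mem_zpowers a₀)))
          (Subgroup.mem_sup_left h1)
    · exact sup_le hBA (Subgroup.zpowers_le.mpr ha₀A)
  have ha₀1 : a₀ ≠ 1 := fun h => ha₀B (h ▸ B.one_mem)
  have hZcard : Nat.card (Subgroup.zpowers a₀) = 2 := by
    rw [Nat.card_zpowers]
    exact orderOf_eq_prime (by rw [pow_two]; exact hs.A2 a₀ ha₀A) ha₀1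
  have hdisj : B ⊓ Subgroup.zpowers a₀ = ⊥ := by
    rw [eq_bot_iff]
    rintro x ⟨hxB, hxZ⟩
    rw [Subgroup.mem_bot]
    by_contra hx1
    apply ha₀B
    obtain ⟨i, rfl⟩ := Subgroup.mem_zpowers_iff.mp hxZ
    have h2 : a₀ ^ (2 : ℤ) = 1 := by
      rw [zpow_ofNat, pow_two]; exact hs.A2 a₀ ha₀A
    rcases Int.emod_two_eq_zero_or_one i with h | h
    · exfalso
      apply hx1
      have : i = 2 * (i / 2) := by omega
      rw [this, zpow_mul, h2, one_zpow]
    · have : i = 2 * (i / 2) + 1 := by omega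
      rw [this, zpow_add, zpow_mul, h2, one_zpow, one_mul, zpow_one] at hxB
      exact hxB
  have hAcard : Nat.card Ab = Nat.card B * 2 := by
    rw [hAb, card_sup_of_disjoint B _ ?_ hdisj, hZcard]
    intro b hb
    rw [Subgroup.mem_normalizer_iff]
    intro z
    have hcomm : ∀ z ∈ Subgroup.zpowers a₀, b * z * b⁻¹ = z := by
      intro z hz
      obtain ⟨i, rfl⟩ := Subgroup.mem_zpowers_iff.mp hz
      have h1 : b * a₀ ^ i = a₀ ^ i * b :=
        ((show Commute b a₀ from hs.Ac b (hBA hb) a₀ ha₀A).zpow_right i)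
      rw [h1, mul_inv_cancel_right]
    constructor
    · intro hz
      rw [hcomm z hz]; exact hz
    · intro hz
      have h2 := hcomm _ hz
      have h3 : b * z * b⁻¹ = z := by
        have : z = b⁻¹ * (b * z * b⁻¹) * b := by group
        have h4 : b * (b * z * b⁻¹) * b⁻¹ = b * z * b⁻¹ := h2
        calc b * z * b⁻¹ = b⁻¹ * (b * (b * z * b⁻¹) * b⁻¹) * b := by group
          _ = b⁻¹ * (b * z * b⁻¹) * b := by rw [h4]
          _ = z := by group
      rw [← h3]; exact hz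
  -- the element `y`
  set c₀ := a₀ * k₀ * a₀⁻¹ with hc₀
  have hc₀K : c₀ ∈ Kb := hs.AK a₀ ha₀A k₀ hk₀K
  have hc₀B : ∀ b ∈ B, b * c₀ = c₀ * b := hs.conj_comm hBA ha₀A hk₀B
  set y := k₀ * c₀⁻¹ with hy
  have hyK : y ∈ Kb := Kb.mul_mem hk₀K (Kb.inv_mem hc₀K)
  have hyB : ∀ b ∈ B, b * y = y * b := by
    intro b hb
    have h1 : b * c₀⁻¹ = c₀⁻¹ * b := by
      have := hc₀B b hb
      calc b * c₀⁻¹ = c₀⁻¹ * (c₀ * b) * c₀⁻¹ := by group
        _ = c₀⁻¹ * (b * c₀) * c₀⁻¹ := by rw [this]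
        _ = c₀⁻¹ * b := by group
    rw [hy, ← mul_assoc, hk₀B b hb, mul_assoc, h1, ← mul_assoc]
  have hya : a₀ * y * a₀⁻¹ = y⁻¹ := hs.conj_minus ha₀A hk₀K
  have hya' : a₀ * y = y⁻¹ * a₀ := by
    calc a₀ * y = (a₀ * y * a₀⁻¹) * a₀ := by group
      _ = y⁻¹ * a₀ := by rw [hya]
  have hy1 : y ≠ 1 := by
    intro h
    apply hne₀
    have h1 : k₀ = c₀ := by
      have : k₀ * c₀⁻¹ = 1 := h
      exact mul_inv_eq_one.mp this
    calc a₀ * k₀ = (a₀ * k₀ * a₀⁻¹) * a₀ := by group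
      _ = k₀ * a₀ := by rw [← hc₀, ← h1]
  have hyodd : Odd (orderOf y) := hs.Kodd y hyK
  have hyk : k₀ * y = y * k₀ := hs.Kc k₀ hk₀K y hyK
  -- the module `U`
  set F := Fix B with hF
  set M := (delta y).range with hM
  have hMne : M ≠ ⊥ := delta_range_ne_bot hy1
  have hMB : ∀ b ∈ B, ∀ w ∈ M, b w ∈ M := fun b hb w hw => map_mem_delta_range (hyB b hb) hw
  obtain ⟨w₀, hw₀M, hw₀1, hw₀F⟩ := exists_fixed_ne_one hW2 B (fun b hb => hs.A2 b (hBA hb)) M hMne hMB
  set U := F ⊓ M with hU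
  have hUne : U ≠ ⊥ := by
    intro h
    apply hw₀1
    have : w₀ ∈ U := ⟨hw₀F, hw₀M⟩
    rw [h, Subgroup.mem_bot] at this
    exact this
  have hfpf : ∀ u ∈ U, y u = u → u = 1 := fun u hu huy =>
    eq_one_of_fixed_of_mem_range hW2 y hyodd u huy hu.2
  have hUy : ∀ u ∈ U, y u ∈ U := fun u hu =>
    ⟨mem_Fix_of_commute hyB hu.1, map_mem_delta_range rfl hu.2⟩
  have hUk : ∀ u ∈ U, k₀ u ∈ U := fun u hu =>
    ⟨mem_Fix_of_commute hk₀B hu.1, map_mem_delta_range hyk hu.2⟩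
  have hUa : ∀ u ∈ U, a₀ u ∈ U := fun u hu =>
    ⟨mem_Fix_of_commute (fun b hb => hs.Ac b (hBA hb) a₀ ha₀A) hu.1,
      map_mem_delta_range_of_inv hya' hu.2⟩
  -- the inequality
  have hFcard : Nat.card F ≤ 2 * Nat.card (F ⊓ fix1 a₀ : Subgroup W) := by
    have h1 := hoff B hBA
    rw [hAcard, hAb, Fix_sup_zpowers] at h1
    have hpos : 0 < Nat.card B := Nat.card_pos
    have h2 : Nat.card B * Nat.card F ≤ Nat.card B * (2 * Nat.card (F ⊓ fix1 a₀ : Subgroup W)) := by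
      calc Nat.card B * Nat.card F ≤ Nat.card B * 2 * Nat.card (F ⊓ fix1 a₀ : Subgroup W) := h1
        _ = Nat.card B * (2 * Nat.card (F ⊓ fix1 a₀ : Subgroup W)) := by ring
    exact Nat.le_of_mul_le_mul_left h2 hpos
  have hrelF : (fix1 a₀).relIndex F ≤ 2 := by
    have h1 := card_eq_card_inf_mul_relIndex (fix1 a₀) F
    rw [inf_comm] at h1
    rw [h1] at hFcard
    have hpos : 0 < Nat.card (F ⊓ fix1 a₀ : Subgroup W) := Nat.card_pos
    have h2 : Nat.card (F ⊓ fix1 a₀ : Subgroup W) * (fix1 a₀).relIndex F ≤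
        Nat.card (F ⊓ fix1 a₀ : Subgroup W) * 2 := by
      rw [mul_comm _ 2]; exact hFcard
    exact Nat.le_of_mul_le_mul_left h2 hpos
  have hrelU : (fix1 a₀).relIndex U ≤ 2 := by
    refine le_trans (Subgroup.relIndex_le_of_le_right inf_le_left ?_) hrelF
    intro h0
    have h1 := card_eq_card_inf_mul_relIndex (fix1 a₀) F
    rw [h0, mul_zero] at h1
    have : 0 < Nat.card F := Nat.card_pos
    omega
  set U₀ := U ⊓ fix1 a₀ with hU₀
  have hU₀card : Nat.card U ≤ 2 * Nat.card U₀ := by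
    have h1 := card_eq_card_inf_mul_relIndex (fix1 a₀) U
    rw [inf_comm] at h1
    rw [h1, mul_comm 2]
    exact Nat.mul_le_mul_left _ hrelU
  set a₁ := k₀ * a₀ * k₀⁻¹ with ha₁
  set U₁ := U ⊓ fix1 a₁ with hU₁
  have hy_eq : y = a₁ * a₀⁻¹ := by
    rw [hy, hc₀, ha₁]; group
  have hU₀₁ : Nat.card U₀ ≤ Nat.card U₁ := by
    have hle : U₀.map (k₀ : W ≃* W).toMonoidHom ≤ U₁ := by
      rintro _ ⟨w, hw, rfl⟩
      refine ⟨hUk w hw.1, ?_⟩
      show a₁ (k₀ w) = k₀ w
      have h1 : a₀ w = w := hw.2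
      have : a₁ * k₀ = k₀ * a₀ := by rw [ha₁]; group
      rw [← MulAut.mul_apply, this, MulAut.mul_apply, h1]
    have h1 := Subgroup.card_le_of_le hle
    rwa [Subgroup.card_map_of_injective (MulEquiv.injective _)] at h1
  have hdisj01 : U₀ ⊓ U₁ = ⊥ := by
    rw [eq_bot_iff]
    rintro w ⟨hw0, hw1⟩
    rw [Subgroup.mem_bot]
    apply hfpf w hw0.1
    have h0 : a₀ w = w := hw0.2
    have h1 : a₁ w = w := hw1.2
    have h0' : a₀⁻¹ w = w := by
      rw [MulAut.inv_apply]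
      exact (MulEquiv.symm_apply_eq a₀).mpr h0.symm
    rw [hy_eq, MulAut.mul_apply, h0', h1]
  have hUle4 : Nat.card U ≤ 4 := by
    have h1 : Nat.card (U₀ ⊔ U₁ : Subgroup W) = Nat.card U₀ * Nat.card U₁ := by
      apply card_sup_of_disjoint U₀ U₁ ?_ hdisj01
      rw [Subgroup.normalizer_eq_top_iff.mpr inferInstance]
      exact le_top
    have h2 : Nat.card (U₀ ⊔ U₁ : Subgroup W) ≤ Nat.card U :=
      Subgroup.card_le_of_le (sup_le inf_le_left inf_le_left)
    rw [h1] at h2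
    have h3 : Nat.card U ≤ 2 * Nat.card U₁ := hU₀card.trans (Nat.mul_le_mul_left 2 hU₀₁)
    have hpos : 0 < Nat.card U := Nat.card_pos
    by_contra hgt
    push Not at hgt
    have h4 : Nat.card U * Nat.card U ≤ (2 * Nat.card U₀) * (2 * Nat.card U₁) :=
      Nat.mul_le_mul hU₀card h3
    nlinarith
  have hUp : IsPGroup 2 U := (isPGroup_two_of_sq hW2).to_subgroup U
  obtain ⟨j, hj⟩ := IsPGroup.iff_card.mp hUp
  have hU4 : Nat.card U = 4 := by
    have hj2 : j ≤ 2 := by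
      by_contra hj3
      push Not at hj3
      have : 2 ^ 3 ≤ 2 ^ j := Nat.pow_le_pow_right (by norm_num) hj3
      omega
    interval_cases j
    · exfalso
      apply hUne
      apply Subgroup.eq_bot_of_card_le
      rw [hj]; norm_num
    · exfalso
      rw [pow_one] at hj
      obtain ⟨v, hv, hvu⟩ := (Nat.card_eq_two_iff' (1 : U)).mp hj
      have hv1 : (v : W) ≠ 1 := fun h => hv (Subtype.ext h)
      have hyv1 : (⟨y v, hUy v v.2⟩ : U) ≠ 1 := by
        intro h
        have h' : y (v : W) = 1 := congrArg Subtype.val h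
        apply hv1
        have : y (v : W) = y 1 := by rw [h', map_one]
        exact (MulEquiv.injective y) this
      have := hvu _ hyv1
      have h' : y (v : W) = v := congrArg Subtype.val this
      exact hv1 (hfpf v v.2 h')
    · rw [hj]; norm_num
  refine ⟨U, y, a₀, hyK, ha₀A, hU4, hUy, hUa, hfpf, ?_⟩
  by_contra hall
  push Not at hall
  have hUU₀ : U₀ = U := by
    apply le_antisymm inf_le_left
    intro u hu
    exact ⟨hu, hall u hu⟩
  have hUU₁ : U₁ = U := by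
    apply Subgroup.eq_of_le_of_card_ge inf_le_left
    rw [hUU₀] at hU₀₁
    exact hU₀₁
  rw [hUU₀, hUU₁, inf_idem] at hdisj01
  exact hUne hdisj01

end Main

end FF2

end Cfsg.Agent.Lib.Lead
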