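import Mathlib
import Cfsg.Agent.Lib.Lead.Thom8
import Cfsg.Agent.Lib.Lead.FF2d
import Cfsg.Agent.Lib.Lead.S4d

set_option autoImplicit false

/-!
Thompson's normal `p`-complement theorem for `p = 2`: transfer lemmas between a group and its
action on a normal elementary abelian subgroup.
-/

namespace Cfsg.Agent.Lib.Lead

namespace Thom

open GT
open scoped Pointwise commutatorElement IsMulCommutative

universe u

section Transfer

variable {X : Type*} [Group X]

theorem mem_ker_conjNormal (W : Subgroup X) [W.Normal] (g : X) :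
    g ∈ (MulAut.conjNormal (H := W)).ker ↔ g ∈ Subgroup.centralizer (W : Set X) := by
  rw [MonoidHom.mem_ker, Subgroup.mem_centralizer_iff]
  constructor
  · intro h w hw
    have h1 : (MulAut.conjNormal g) ⟨w, hw⟩ = ⟨w, hw⟩ := by rw [h]; rfl
    have h2 := congrArg Subtype.val h1
    rw [MulAut.conjNormal_apply] at h2
    have h3 : g * w * g⁻¹ = w := h2
    calc w * g = (g * w * g⁻¹) * g := by rw [h3]
      _ = g * w := by group
  · intro h
    ext w
    rw [MulAut.conjNormal_apply, MulAut.one_apply]
    have := h w w.2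
    rw [← this, mul_inv_cancel_right]

theorem card_eq_card_inf_ker_mul_card_map {Y : Type*} [Group Y] (f : X →* Y) (B : Subgroup X) :
    Nat.card B = Nat.card (B ⊓ f.ker : Subgroup X) * Nat.card (B.map f) := by
  set g : B →* Y := f.comp B.subtype with hg
  have h1 : Nat.card g.ker * Nat.card g.range = Nat.card B := by
    rw [← Subgroup.index_ker]
    exact Subgroup.card_mul_index _
  have hker : g.ker = f.ker.subgroupOf B := by
    ext x
    rw [MonoidHom.mem_ker, Subgroup.mem_subgroupOf, MonoidHom.mem_ker]
    rfl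
  have hrange : g.range = B.map f := by
    ext z
    constructor
    · rintro ⟨x, rfl⟩
      exact ⟨x, x.2, rfl⟩
    · rintro ⟨x, hx, rfl⟩
      exact ⟨⟨x, hx⟩, rfl⟩
  rw [hker, hrange, card_subgroupOf_eq, inf_comm] at h1
  exact h1.symm

theorem Fix_map_conjNormal (W : Subgroup X) [W.Normal] [IsMulCommutative W] (B : Subgroup X) :
    (FF2.Fix (B.map (MulAut.conjNormal (H := W)))).map W.subtype =
      W ⊓ Subgroup.centralizer (B : Set X) := by
  ext x
  constructor
  · rintro ⟨w, hw, rfl⟩
    refine ⟨w.2, ?_⟩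
    show (w : X) ∈ Subgroup.centralizer (B : Set X)
    rw [Subgroup.mem_centralizer_iff]
    intro b hb
    have h1 := hw (MulAut.conjNormal b) ⟨b, hb, rfl⟩
    have h2 := congrArg Subtype.val h1
    rw [MulAut.conjNormal_apply] at h2
    have h3 : b * (w : X) * b⁻¹ = w := h2
    show b * (w : X) = w * b
    calc b * (w : X) = (b * w * b⁻¹) * b := by group
      _ = w * b := by rw [h3]
  · rintro ⟨hxW, hxC⟩
    refine ⟨⟨x, hxW⟩, ?_, rfl⟩
    rintro _ ⟨b, hb, rfl⟩
    apply Subtype.ext
    rw [MulAut.conjNormal_apply]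
    have := (Subgroup.mem_centralizer_iff.mp hxC) b hb
    show b * x * b⁻¹ = x
    rw [this, mul_inv_cancel_right]

theorem card_Fix_map_conjNormal (W : Subgroup X) [W.Normal] [IsMulCommutative W]
    (B : Subgroup X) :
    Nat.card (FF2.Fix (B.map (MulAut.conjNormal (H := W)))) =
      Nat.card (W ⊓ Subgroup.centralizer (B : Set X) : Subgroup X) := by
  rw [← Fix_map_conjNormal, Subgroup.card_map_of_injective W.subtype_injective]

/-- quadratic action on a group of exponent two: squares act trivially -/
theorem sq_mem_centralizer_of_quadratic (W : Subgroup X) [hWn : W.Normal]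
    (hW2 : ∀ w ∈ W, w * w = 1) (a : X) (hq : ∀ w ∈ W, ⁅⁅w, a⁆, a⁆ = 1) :
    a * a ∈ Subgroup.centralizer (W : Set X) := by
  rw [Subgroup.mem_centralizer_iff]
  intro w hw
  set c := ⁅w, a⁆ with hc
  have hcW : c ∈ W := by
    have : c = w * (a * w⁻¹ * a⁻¹) := by rw [hc, commutatorElement_def]; group
    rw [this]
    exact W.mul_mem hw (hWn.conj_mem _ (W.inv_mem hw) _)
  have hca : c * a = a * c := by
    have h1 := hq w hw
    rw [← hc, commutatorElement_def] at h1
    calc c * a = (c * a * c⁻¹ * a⁻¹) * (a * c) := by group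
      _ = a * c := by rw [h1, one_mul]
  have hcc : c * c = 1 := hW2 c hcW
  have h1 : a * w * a⁻¹ = c⁻¹ * w := by
    rw [hc, commutatorElement_def]; group
  have h2 : a * w = c⁻¹ * w * a := by
    calc a * w = (a * w * a⁻¹) * a := by group
      _ = c⁻¹ * w * a := by rw [h1]
  have hcinv : c⁻¹ = c := inv_eq_of_mul_eq_one_right hcc
  rw [hcinv] at h2
  -- `a * a * w = c * c * w * a * a`
  calc w * (a * a) = (c * c) * w * (a * a) := by rw [hcc, one_mul]
    _ = c * (c * w * a) * a := by group
    _ = c * (a * w) * a := by rw [← h2]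
    _ = (c * a) * w * a := by group
    _ = (a * c) * w * a := by rw [hca]
    _ = a * (c * w * a) := by group
    _ = a * (a * w) := by rw [← h2]
    _ = a * a * w := by group

end Transfer

end Thom

end Cfsg.Agent.Lib.Lead
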