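import Mathlib
import Cfsg.Agent.Lib.Lead.Thom9
import Cfsg.Agent.Lib.Lead.S4e

set_option autoImplicit false

/-!
Thompson's normal `p`-complement theorem for `p = 2`: the final step.
-/

namespace Cfsg.Agent.Lib.Lead

namespace Thom

open GT ZJ
open Cfsg.Agent.Lib.Helper2.Replacement
open scoped Pointwise commutatorElement IsMulCommutative

universe u

/-- the replacement property with offenders -/
def HasOffender (p : ℕ) (J : ∀ (X : Type u) [Group X], Subgroup X → Subgroup X) : Prop :=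
  ∀ (X : Type u) [Group X] [Finite X] (D W : Subgroup X), IsPGroup p D → W.Normal → W ≤ D →
    Cfsg.IsElementaryAbelian p W → ¬ J X D ≤ Subgroup.centralizer (W : Set X) →
    ∃ A : Subgroup X, A ≤ D ∧ (∀ a ∈ A, ∀ b ∈ A, a * b = b * a) ∧ ⁅⁅W, A⁆, A⁆ = ⊥ ∧ ⁅W, A⁆ ≠ ⊥ ∧
      ∀ B : Subgroup X, B ≤ A → ff W B ≤ ff W A

theorem hasOffender_Jn {p : ℕ} [hpf : Fact p.Prime] {n : ℕ} (hn : p ∣ n) :
    HasOffender p (Jn.{u} n) := by
  intro X _ _ D W hD hWn hWD hWea hJW
  have := hWn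
  have hW : AbelExp n W := by
    refine ⟨(isMulCommutative_iff W).mp hWea.1, ?_⟩
    intro a ha
    obtain ⟨m, rfl⟩ := hn
    rw [pow_mul, hWea.2 a ha, one_pow]
  have : ∃ A ∈ maxIn n D, ¬ A ≤ Subgroup.centralizer (W : Set X) := by
    by_contra hall
    push Not at hall
    exact hJW (sSup_le hall)
  obtain ⟨A, hA, hAW⟩ := this
  obtain ⟨h1, h2, h3⟩ := replacement_maxIn hD hWD hW hA
  refine ⟨_, h1.1, h1.2.1.1, h2, h3 ?_, (weak_offender_of_maxIn hWD hW h1).2⟩
  intro hbot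
  apply hAW
  rw [Subgroup.commutator_comm, Subgroup.commutator_eq_bot_iff_le_centralizer] at hbot
  exact hbot

section

variable {J : ∀ (X : Type u) [Group X], Subgroup X → Subgroup X}
  {C : ∀ (X : Type u) [Group X], Prop}

/-- the final step for `p = 2`: the symmetric group of degree four is involved -/
theorem final_two (hJ : IsJFunctor 2 J) (hO : HasOffender 2 J)
    {X : Type u} [Group X] [Finite X] (hmc : TMin 2 J C X)
    (T : Sylow 2 X) (hT : THyp 2 J X (T : Subgroup X)) (hs : MCStruct 2 T (T : Subgroup X)) :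
    Cfsg.Involves (Equiv.Perm (Fin 4)) X := by
  obtain ⟨W, hWn, hWea, hWP, hPW, hCW⟩ := hmc.exists_module T hT hs
  haveI := hWn
  haveI : IsMulCommutative W := hWea.1
  obtain ⟨K, hsh, hPK⟩ := hs.shape
  haveI hKn : K.Normal := hsh.nK
  set P := Cfsg.pCore 2 X with hPdef
  have hPn : P.Normal := Cfsg.Agent.Lib.Helper9.pCore_normal' 2
  have hPp : IsPGroup 2 P := Cfsg.Agent.Lib.Helper9.pCore_isPGroup' 2
  have hPT : P ≤ (T : Subgroup X) := Cfsg.Agent.Lib.Helper9.pCore_le_sylow T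
  have hJW : ¬ J X (T : Subgroup X) ≤ Subgroup.centralizer (W : Set X) :=
    fun h => hmc.J_not_le hJ T hT (h.trans hCW)
  obtain ⟨A, hAT, hAc, hquad, hne, hoffA⟩ :=
    hO X (T : Subgroup X) W T.isPGroup' hWn (hWP.trans hPT) hWea hJW
  set ρ : X →* MulAut W := MulAut.conjNormal with hρ
  have hkerρ : ∀ g, ρ g = 1 ↔ g ∈ Subgroup.centralizer (W : Set X) := fun g => by
    rw [← MonoidHom.mem_ker]; exact mem_ker_conjNormal W g
  have hkerP : ∀ g ∈ P, ρ g = 1 := fun g hg => (hkerρ g).mpr (hPW hg)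
  have hW2 : ∀ w ∈ W, w * w = 1 := fun w hw => by rw [← pow_two]; exact hWea.2 w hw
  have hW2' : ∀ w : W, w * w = 1 := fun w => Subtype.ext (hW2 w w.2)
  set Kb := K.map ρ with hKb
  set Ab := A.map ρ with hAb
  have hsetup : FF2.Setup Kb Ab := by
    refine ⟨?_, ?_, ?_, ?_, ?_⟩
    · rintro _ ⟨x, hx, rfl⟩ _ ⟨x', hx', rfl⟩
      have h1 : ⁅x, x'⁆ ∈ P := hsh.comm (Subgroup.commutator_mem_commutator hx hx')
      have h2 : ρ ⁅x, x'⁆ = 1 := hkerP _ h1
      rw [commutatorElement_def, map_mul, map_mul, map_mul, map_inv, map_inv] at h2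
      calc ρ x * ρ x' = (ρ x * ρ x' * (ρ x)⁻¹ * (ρ x')⁻¹) * (ρ x' * ρ x) := by group
        _ = ρ x' * ρ x := by rw [h2, one_mul]
    · rintro _ ⟨x, hx, rfl⟩
      obtain ⟨m, hm, hxm⟩ := hsh.cop x hx
      have h1 : (ρ x) ^ m = 1 := by rw [← map_pow]; exact hkerP _ hxm
      exact (Nat.Coprime.odd_of_right hm).of_dvd_nat (orderOf_dvd_of_pow_eq_one h1)
    · rintro _ ⟨a, ha, rfl⟩ _ ⟨a', ha', rfl⟩
      rw [← map_mul, ← map_mul, hAc a ha a' ha']
    · rintro _ ⟨a, ha, rfl⟩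
      rw [← map_mul, hkerρ]
      apply sq_mem_centralizer_of_quadratic W hW2 a
      intro w hw
      have : ⁅⁅w, a⁆, a⁆ ∈ ⁅⁅W, A⁆, A⁆ :=
        Subgroup.commutator_mem_commutator (Subgroup.commutator_mem_commutator hw ha) ha
      rw [hquad, Subgroup.mem_bot] at this
      exact this
    · rintro _ ⟨a, ha, rfl⟩ _ ⟨x, hx, rfl⟩
      refine ⟨a * x * a⁻¹, hKn.conj_mem x hx a, ?_⟩
      rw [map_mul, map_mul, map_inv]
  -- `K ⊔ T = ⊤`
  have hKT : K ⊔ (T : Subgroup X) = ⊤ := by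
    apply hs.coatom.2
    refine lt_of_le_of_ne le_sup_right ?_
    intro h
    have hKleT : K ≤ (T : Subgroup X) := h ▸ le_sup_left
    apply hs.coatom.1
    have hXp : IsPGroup 2 (⊤ : Subgroup X) := by
      rintro ⟨x, -⟩
      obtain ⟨j, hj⟩ := hsh.quot x
      obtain ⟨i, hi⟩ := T.isPGroup' ⟨_, hKleT hj⟩
      refine ⟨j + i, ?_⟩
      apply Subtype.ext
      have := congrArg Subtype.val hi
      simp only [Subgroup.coe_pow, Subgroup.coe_one] at this ⊢
      rw [pow_add, pow_mul]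
      exact this
    exact (T.is_maximal' hXp le_top).symm
  -- `Ā` acts nontrivially on `K̄`
  have hnt : ∃ a ∈ Ab, ∃ k ∈ Kb, a * k ≠ k * a := by
    by_contra hall
    push Not at hall
    apply hne
    have hcomm : ∀ a ∈ A, ∀ x ∈ K, ⁅x, a⁆ ∈ P := by
      intro a ha x hx
      apply hCW
      rw [← hkerρ]
      have h1 := hall (ρ a) ⟨a, ha, rfl⟩ (ρ x) ⟨x, hx, rfl⟩
      rw [commutatorElement_def, map_mul, map_mul, map_mul, map_inv, map_inv, ← h1]
      group
    have hAP : A ≤ P := by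
      have hNT : Subgroup.normalClosure (A : Set X) ≤ (T : Subgroup X) := by
        unfold Subgroup.normalClosure
        rw [Subgroup.closure_le]
        intro z hz
        rw [Group.mem_conjugatesOfSet_iff] at hz
        obtain ⟨a, ha, hconj⟩ := hz
        obtain ⟨g, rfl⟩ := isConj_iff.mp hconj
        have hg : g ∈ K ⊔ (T : Subgroup X) := by rw [hKT]; trivial
        rw [Subgroup.mem_sup_of_normal_left] at hg
        obtain ⟨k, hk, t, ht, rfl⟩ := hg
        have ha'T : t * a * t⁻¹ ∈ (T : Subgroup X) :=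
          Subgroup.mul_mem _ (Subgroup.mul_mem _ ht (hAT ha)) (Subgroup.inv_mem _ ht)
        have hc : ⁅k, t * a * t⁻¹⁆ ∈ P := by
          have e : ⁅k, t * a * t⁻¹⁆ = t * ⁅t⁻¹ * k * t, a⁆ * t⁻¹ := by
            simp only [commutatorElement_def]; group
          rw [e]
          refine hPn.conj_mem _ (hcomm a ha _ ?_) t
          have := hKn.conj_mem k hk t⁻¹
          simpa using this
        have e2 : k * t * a * (k * t)⁻¹ = ⁅k, t * a * t⁻¹⁆ * (t * a * t⁻¹) := by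
          simp only [commutatorElement_def]; group
        show k * t * a * (k * t)⁻¹ ∈ (T : Subgroup X)
        rw [e2]
        exact Subgroup.mul_mem _ (hPT hc) ha'T
      have hNp : IsPGroup 2 (Subgroup.normalClosure (A : Set X)) := T.isPGroup'.to_le hNT
      intro a ha
      exact Cfsg.Agent.Lib.Helper9.le_pCore Subgroup.normalClosure_normal hNp
        (Subgroup.subset_normalClosure ha)
    rw [Subgroup.commutator_comm, Subgroup.commutator_eq_bot_iff_le_centralizer]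
    exact hAP.trans hPW
  -- the offender inequality
  have hoff : ∀ Bb : Subgroup (MulAut W), Bb ≤ Ab →
      Nat.card Bb * Nat.card (FF2.Fix Bb) ≤ Nat.card Ab * Nat.card (FF2.Fix Ab) := by
    intro Bb hBb
    set B := A ⊓ Bb.comap ρ with hB
    have hBA : B ≤ A := inf_le_left
    have hBmap : B.map ρ = Bb := by
      apply le_antisymm
      · rintro _ ⟨x, hx, rfl⟩
        exact hx.2
      · intro b hb
        obtain ⟨a, ha, rfl⟩ := hBb hb
        exact ⟨a, ⟨ha, hb⟩, rfl⟩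
    have hBker : B ⊓ ρ.ker = A ⊓ ρ.ker := by
      apply le_antisymm (inf_le_inf_right _ hBA)
      rintro x ⟨hxA, hxk⟩
      refine ⟨⟨hxA, ?_⟩, hxk⟩
      show ρ x ∈ Bb
      rw [MonoidHom.mem_ker.mp hxk]
      exact Bb.one_mem
    have h1 := card_eq_card_inf_ker_mul_card_map ρ B
    have h2 := card_eq_card_inf_ker_mul_card_map ρ A
    rw [hBker, hBmap] at h1
    have h3 := hoffA B hBA
    unfold ff at h3
    rw [← card_Fix_map_conjNormal W B, ← card_Fix_map_conjNormal W A, hBmap, h1, h2] at h3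
    have hpos : 0 < Nat.card (A ⊓ ρ.ker : Subgroup X) := Nat.card_pos
    rw [mul_assoc, mul_assoc] at h3
    exact Nat.le_of_mul_le_mul_left h3 hpos
  obtain ⟨U, y, a, hyK, haA, hU4, hUy, hUa, hfpf, ⟨u₀, hu₀U, hu₀⟩⟩ :=
    FF2.module_lemma hW2' Kb Ab hsetup hnt hoff
  obtain ⟨y₀, hy₀K, rfl⟩ := hyK
  obtain ⟨a₀, ha₀A, rfl⟩ := haA
  set U' : Subgroup X := U.map W.subtype with hU'
  have hU'card : Nat.card U' = 4 := by
    rw [hU', Subgroup.card_map_of_injective W.subtype_injective]; exact hU4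
  have hU'W : U' ≤ W := by
    rintro _ ⟨w, _, rfl⟩
    exact w.2
  have hU'2 : ∀ u ∈ U', u * u = 1 := fun u hu => hW2 u (hU'W hu)
  have hconj : ∀ (g : X) (w : W), ((ρ g w : W) : X) = g * w * g⁻¹ :=
    fun g w => MulAut.conjNormal_apply g w
  have hy₀N : y₀ ∈ Subgroup.normalizer (U' : Set X) := by
    apply Subgroup.mem_normalizer_fintype
    rintro _ ⟨w, hw, rfl⟩
    exact ⟨ρ y₀ w, hUy w hw, hconj y₀ w⟩
  have ha₀N : a₀ ∈ Subgroup.normalizer (U' : Set X) := by
    apply Subgroup.mem_normalizer_fintype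
    rintro _ ⟨w, hw, rfl⟩
    exact ⟨ρ a₀ w, hUa w hw, hconj a₀ w⟩
  apply S4.involves_S4 U' hU'card hU'2 y₀ a₀ hy₀N ha₀N
  · rintro _ ⟨w, hw, rfl⟩ h
    have h1 : ρ y₀ w = w := Subtype.ext (by rw [hconj]; exact h)
    rw [hfpf w hw h1]
    rfl
  · obtain ⟨m, hm, hym⟩ := hsh.cop y₀ hy₀K
    exact ⟨m, hm.odd_of_right, Subgroup.centralizer_le hU'W (hPW hym)⟩
  · intro h
    apply hu₀
    apply Subtype.ext
    rw [hconj]
    have := (Subgroup.mem_centralizer_iff.mp h) u₀ ⟨u₀, hu₀U, rfl⟩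
    rw [← this, mul_inv_cancel_right]
  · obtain ⟨j, hj⟩ := T.isPGroup' ⟨a₀, hAT ha₀A⟩
    refine ⟨j, ?_⟩
    have : a₀ ^ 2 ^ j = 1 := by simpa using congrArg Subtype.val hj
    rw [this]
    exact Subgroup.one_mem _

end

end Thom

end Cfsg.Agent.Lib.Lead
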