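import Mathlib
import Cfsg.Agent.Lib.Lead.Thom10

set_option autoImplicit false

/-!
Thompson's normal `p`-complement theorem for `p = 2` in groups not involving the symmetric group of
degree four.
-/

namespace Cfsg.Agent.Lib.Lead

namespace Thom

open GT ZJ
open scoped Pointwise commutatorElement

universe u

theorem involves_of_subgroup {A : Type*} [Group A] {X : Type u} [Group X] (M : Subgroup X)
    (h : Cfsg.Involves A M) : Cfsg.Involves A X :=
  Cfsg.Agent.Lib.Helper9.involves_of_isSectionOf
    (Cfsg.Agent.Lib.Helper9.isSectionOf_of_involves h).of_subgroup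

theorem involves_of_quotient {A : Type*} [Group A] {X : Type u} [Group X] (R : Subgroup X)
    [R.Normal] (h : Cfsg.Involves A (X ⧸ R)) : Cfsg.Involves A X := by
  apply Cfsg.Agent.Lib.Helper9.involves_of_isSectionOf
  refine (Cfsg.Agent.Lib.Helper9.isSectionOf_of_involves h).trans ?_
  refine ⟨⊤, (QuotientGroup.mk' R).comp (⊤ : Subgroup X).subtype, ?_⟩
  intro q
  obtain ⟨x, rfl⟩ := QuotientGroup.mk'_surjective R q
  exact ⟨⟨x, Subgroup.mem_top x⟩, rfl⟩

/-- Thompson's theorem for `p = 2` -/
theorem thompson_two {J : ∀ (X : Type u) [Group X], Subgroup X → Subgroup X}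
    (hJ : IsJFunctor 2 J) (hO : HasOffender 2 J)
    (X : Type u) [Group X] [Finite X] (hfree : ¬ Cfsg.Involves (Equiv.Perm (Fin 4)) X)
    (T : Sylow 2 X) (hT : THyp 2 J X (T : Subgroup X)) : PNilp 2 X := by
  have h := reduction (p := 2) (C := fun X _ => ¬ Cfsg.Involves (Equiv.Perm (Fin 4)) X) hJ
    (fun X _ _ hC M hM => hC (involves_of_subgroup M hM))
    (fun X _ _ hC R _ hR => hC (involves_of_quotient R hR))
    (fun X _ _ hmc T hT hs => hmc.mem (final_two hJ hO hmc T hT hs)) X
  exact h hfree T hT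

end Thom

end Cfsg.Agent.Lib.Lead
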