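import Mathlib
import Cfsg.Agent.Lib.Lead.KS93h
import Cfsg.Agent.Lib.Helper7.Wielandt3
import Cfsg.Agent.Lib.Helper6.Subn

set_option autoImplicit false

namespace Cfsg.Agent.Lib.Lead.KS93

open scoped commutatorElement
open Cfsg.Agent.Lib.Lead Cfsg.Agent.Lib.Helper7

section
variable {G : Type*} [Group G]

/-- `E₁` normalizes `[E₁, E₂]` -/
theorem le_normalizer_commutator_self_left (E₁ E₂ : Subgroup G) :
    E₁ ≤ Subgroup.normalizer ((⁅E₁, E₂⁆ : Subgroup G) : Set G) := by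
  apply ExpSec.le_normalizer_of_conj_mem
  intro a ha
  have hle : ⁅E₁, E₂⁆ ≤ (⁅E₁, E₂⁆ : Subgroup G).comap (MulAut.conj a).toMonoidHom := by
    rw [Subgroup.commutator_le]
    intro e₁ h₁ e₂ h₂
    show a * ⁅e₁, e₂⁆ * a⁻¹ ∈ ⁅E₁, E₂⁆
    have e : a * ⁅e₁, e₂⁆ * a⁻¹ = ⁅a * e₁, e₂⁆ * (⁅a, e₂⁆)⁻¹ := by
      simp only [commutatorElement_def]; group
    rw [e]
    exact Subgroup.mul_mem _ (Subgroup.commutator_mem_commutator (E₁.mul_mem ha h₁) h₂)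
      (Subgroup.inv_mem _ (Subgroup.commutator_mem_commutator ha h₂))
  intro y hy
  exact hle hy

theorem sup_le_normalizer_commutator (E₁ E₂ : Subgroup G) :
    E₁ ⊔ E₂ ≤ Subgroup.normalizer ((⁅E₁, E₂⁆ : Subgroup G) : Set G) := by
  apply sup_le (le_normalizer_commutator_self_left E₁ E₂)
  rw [Subgroup.commutator_comm]
  exact le_normalizer_commutator_self_left E₂ E₁

/-- conjugating an element of `stabSub X U` by an element normalizing `X` and `U` -/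
theorem conj_mem_stabSub {X U : Subgroup G} {g l : G} (hg : g ∈ stabSub X U)
    (hlX : l ∈ Subgroup.normalizer (X : Set G)) (hlU : l ∈ Subgroup.normalizer (U : Set G)) :
    l * g * l⁻¹ ∈ stabSub X U := by
  refine ⟨Subgroup.mul_mem _ (Subgroup.mul_mem _ hlU hg.1) (Subgroup.inv_mem _ hlU), ?_⟩
  intro x hx
  have hx' : l⁻¹ * x * l⁻¹⁻¹ ∈ X :=
    (Subgroup.mem_normalizer_iff.mp (Subgroup.inv_mem _ hlX) x).mp hx
  have h1 := hg.2 _ hx'
  have e : ⁅x, l * g * l⁻¹⁆ = l * ⁅l⁻¹ * x * l⁻¹⁻¹, g⁆ * l⁻¹ := by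
    simp only [commutatorElement_def]; group
  rw [e]
  exact (Subgroup.mem_normalizer_iff.mp hlU _).mp h1

/-- an element stabilizing the chain `1 ≤ W ≤ V` of an abelian group of exponent `p` has
`p`-th power centralizing `V` -/
theorem pow_mem_centralizer_of_stab {p : ℕ} {V W : Subgroup G}
    (hVab : ∀ x ∈ V, ∀ y ∈ V, x * y = y * x) (hVp : ∀ x ∈ V, x ^ p = 1) (hWV : W ≤ V) {g : G}
    (hg1 : ∀ v ∈ V, ⁅g, v⁆ ∈ W) (hg2 : g ∈ Subgroup.centralizer (W : Set G)) :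
    g ^ p ∈ Subgroup.centralizer (V : Set G) := by
  rw [Subgroup.mem_centralizer_iff]
  intro v hv
  have hw : ⁅g, v⁆ ∈ W := hg1 v hv
  have hwg : ⁅g, v⁆ * g = g * ⁅g, v⁆ := Subgroup.mem_centralizer_iff.mp hg2 _ hw
  have key : ∀ k : ℕ, g ^ k * v = ⁅g, v⁆ ^ k * v * g ^ k := by
    intro k
    induction k with
    | zero => simp
    | succ k ih =>
      have h1 : g * v = ⁅g, v⁆ * v * g := by
        simp only [commutatorElement_def]; group
      have hc : Commute g ⁅g, v⁆ := hwg.symm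
      calc g ^ (k + 1) * v = g ^ k * (g * v) := by rw [pow_succ, mul_assoc]
        _ = g ^ k * (⁅g, v⁆ * v * g) := by rw [h1]
        _ = (g ^ k * ⁅g, v⁆) * v * g := by group
        _ = (⁅g, v⁆ * g ^ k) * v * g := by rw [(hc.pow_left k).eq]
        _ = ⁅g, v⁆ * (g ^ k * v) * g := by group
        _ = ⁅g, v⁆ * (⁅g, v⁆ ^ k * v * g ^ k) * g := by rw [ih]
        _ = ⁅g, v⁆ ^ (k + 1) * v * g ^ (k + 1) := by
          rw [pow_succ' ⁅g, v⁆ k, pow_succ g k]; group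
  have h2 := key p
  rw [hVp _ (hWV hw), one_mul] at h2
  exact h2.symm

end

section
variable {G : Type*} [Group G] [Finite G] {p : ℕ} [hp : Fact p.Prime]

/-- KS 9.3.3 -/
theorem commutator_le_pCore_of_subnormal (V H : Subgroup G) (hV : Cfsg.IsElementaryAbelian p V)
    (hHV : H ≤ Subgroup.normalizer (V : Set G))
    (hf : H ⊓ Subgroup.centralizer (V : Set G) = ⊥) (E₁ E₂ : Subgroup G) (h₁ : E₁ ≤ H)
    (h₂ : E₂ ≤ H) (hs₁ : (E₁.subgroupOf H).IsSubnormal) (hs₂ : (E₂.subgroupOf H).IsSubnormal)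
    (hc : ⁅⁅V, E₁⁆, E₂⁆ = ⊥) : ⁅E₁, E₂⁆ ≤ (Cfsg.pCore p H).map H.subtype := by
  classical
  have hVab : ∀ x ∈ V, ∀ y ∈ V, x * y = y * x := fun x hx y hy => by
    have := hV.1.is_comm.comm (⟨x, hx⟩ : V) ⟨y, hy⟩
    exact congrArg Subtype.val this
  obtain ⟨W, hW⟩ : ∃ W : Subgroup G, W = ⁅V, E₁⁆ := ⟨_, rfl⟩
  rw [← hW] at hc
  have hE₁V : E₁ ≤ Subgroup.normalizer (V : Set G) := le_trans h₁ hHV
  have hE₂V : E₂ ≤ Subgroup.normalizer (V : Set G) := le_trans h₂ hHV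
  have hWV : W ≤ V := by rw [hW]; exact commutator_le_left_of_le_normalizer V E₁ hE₁V
  have hE₁W : E₁ ≤ Subgroup.normalizer (W : Set G) := by
    rw [hW]; exact le_normalizer_commutator_right V E₁ hE₁V
  have hE₂C : E₂ ≤ Subgroup.centralizer (W : Set G) := by
    rw [Subgroup.commutator_comm] at hc
    exact Subgroup.commutator_eq_bot_iff_le_centralizer.mp hc
  have hE₂W : E₂ ≤ Subgroup.normalizer (W : Set G) :=
    le_trans hE₂C (Subgroup.centralizer_le_normalizer _)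
  have hE₁S : E₁ ≤ stabSub V W := le_stabSub hE₁W (by rw [hW])
  have hCn : ∀ l ∈ Subgroup.normalizer (W : Set G), ∀ g ∈ Subgroup.centralizer (W : Set G),
      l * g * l⁻¹ ∈ Subgroup.centralizer (W : Set G) := by
    intro l hl g hg
    rw [Subgroup.mem_centralizer_iff]
    intro w hw
    have hw' : l⁻¹ * w * l⁻¹⁻¹ ∈ W :=
      (Subgroup.mem_normalizer_iff.mp (Subgroup.inv_mem _ hl) w).mp hw
    have h1 := Subgroup.mem_centralizer_iff.mp hg _ hw'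
    calc w * (l * g * l⁻¹) = l * ((l⁻¹ * w * l⁻¹⁻¹) * g) * l⁻¹ := by group
      _ = l * (g * (l⁻¹ * w * l⁻¹⁻¹)) * l⁻¹ := by rw [h1]
      _ = l * g * l⁻¹ * w := by group
  -- `D = [E₁, E₂]` stabilizes the chain
  have hD : ⁅E₁, E₂⁆ ≤ stabSub V W ⊓ Subgroup.centralizer (W : Set G) := by
    rw [Subgroup.commutator_le]
    intro e₁ he₁ e₂ he₂
    refine ⟨?_, ?_⟩
    · have e : ⁅e₁, e₂⁆ = e₁ * (e₂ * e₁⁻¹ * e₂⁻¹) := by
        simp only [commutatorElement_def]; group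
      rw [e]
      exact Subgroup.mul_mem _ (hE₁S he₁)
        (conj_mem_stabSub (Subgroup.inv_mem _ (hE₁S he₁)) (hE₂V he₂) (hE₂W he₂))
    · have e : ⁅e₁, e₂⁆ = (e₁ * e₂ * e₁⁻¹) * e₂⁻¹ := by
        simp only [commutatorElement_def]
      rw [e]
      exact Subgroup.mul_mem _ (hCn e₁ (hE₁W he₁) e₂ (hE₂C he₂)) (Subgroup.inv_mem _ (hE₂C he₂))
  have hDH : ⁅E₁, E₂⁆ ≤ H := by
    rw [Subgroup.commutator_le]
    intro e₁ he₁ e₂ he₂
    exact H.mul_mem (H.mul_mem (H.mul_mem (h₁ he₁) (h₂ he₂)) (H.inv_mem (h₁ he₁)))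
      (H.inv_mem (h₂ he₂))
  have hDp : IsPGroup p ↥(⁅E₁, E₂⁆ : Subgroup G) := by
    rintro ⟨g, hg⟩
    refine ⟨1, Subtype.ext ?_⟩
    rw [pow_one]
    show g ^ p = 1
    obtain ⟨hgS, hgC⟩ := hD hg
    have h1 : g ^ p ∈ Subgroup.centralizer (V : Set G) := by
      apply pow_mem_centralizer_of_stab hVab hV.2 hWV _ hgC
      intro v hv
      have h2 := hgS.2 v hv
      have e : ⁅g, v⁆ = (⁅v, g⁆)⁻¹ := by
        simp only [commutatorElement_def]; group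
      rw [e]; exact W.inv_mem h2
    have h3 : g ^ p ∈ H ⊓ Subgroup.centralizer (V : Set G) := ⟨H.pow_mem (hDH hg) p, h1⟩
    rw [hf, Subgroup.mem_bot] at h3
    exact h3
  -- subnormality
  have hsn : SubnIn (⁅E₁, E₂⁆) H := by
    have hL : SubnIn (E₁ ⊔ E₂) H :=
      SubnIn.sup (subnIn_iff.mpr ⟨h₁, hs₁⟩) (subnIn_iff.mpr ⟨h₂, hs₂⟩)
    refine SubnIn.trans (SubnIn.of_normal ?_ (sup_le_normalizer_commutator E₁ E₂)) hL
    rw [Subgroup.commutator_le]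
    intro e₁ he₁ e₂ he₂
    have hL1 : e₁ ∈ E₁ ⊔ E₂ := (le_sup_left : E₁ ≤ E₁ ⊔ E₂) he₁
    have hL2 : e₂ ∈ E₁ ⊔ E₂ := (le_sup_right : E₂ ≤ E₁ ⊔ E₂) he₂
    exact Subgroup.mul_mem _ (Subgroup.mul_mem _ (Subgroup.mul_mem _ hL1 hL2)
      (Subgroup.inv_mem _ hL1)) (Subgroup.inv_mem _ hL2)
  have hsn' := (subnIn_iff.mp hsn).2
  have hp' : IsPGroup p ↥((⁅E₁, E₂⁆ : Subgroup G).subgroupOf H) := by
    rintro ⟨x, hx⟩
    obtain ⟨k, hk⟩ := hDp ⟨(x : G), hx⟩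
    refine ⟨k, Subtype.ext (Subtype.ext ?_)⟩
    have := congrArg Subtype.val hk
    simpa using this
  have hle := Cfsg.Agent.Lib.Helper6.le_pCore_of_isSubnormal_of_isPGroup hsn' hp'
  intro x hx
  exact ⟨⟨x, hDH hx⟩, hle hx, rfl⟩

end

end Cfsg.Agent.Lib.Lead.KS93
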