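/-
S5683 / S5702 PK-GEN (lead): coefficient set everything ⇒ `Ω ≤ M`.
-/
import Mathlib
import Cfsg.Prelude
import Cfsg.Agent.Lib.Helper7.OSubDefs
import Cfsg.Agent.Lib.Helper9.OrthMax3
import Cfsg.Agent.Lib.Helper3.OSub_BCA
import Cfsg.Agent.Lib.Helper5.OSub_BCB

set_option autoImplicit false
set_option linter.unusedSectionVars false
set_option linter.unusedVariables false

namespace Cfsg.Agent.Lib.Helper7.OSub

open Matrix Cfsg.Agent.Lib.Helper7.Subg Cfsg.Agent.Lib.Helper2.LongRoot Cfsg.Agent.Lib.Helper2.OmMin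
  Cfsg.Agent.Lib.Helper2.CDG

variable {F : Type*} [Field F] [Fintype F] {ι : Type} [Fintype ι] [DecidableEq ι]
variable {Q : QuadraticForm F (ι → F)}

namespace PkGEN

theorem polar_sum_right {κ : Type*} (s : Finset κ) (u : ι → F) (v : κ → ι → F) :
    QuadraticMap.polar (⇑Q) u (∑ j ∈ s, v j) = ∑ j ∈ s, QuadraticMap.polar (⇑Q) u (v j) := by
  classical
  induction s using Finset.induction_on with
  | empty => simp
  | insert j s hj ih =>
    rw [Finset.sum_insert hj, Finset.sum_insert hj, QuadraticMap.polar_add_right, ih]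

/-- products of Eichler elements with the same singular vector -/
theorem eich_sum_mem (hQ : (QuadraticMap.polarBilin Q).Nondegenerate)
    (M : Subgroup ↥(Cfsg.isometryGroup F ⇑Q)) {u : ι → F} (hu : Q u = 0) {κ : Type*}
    (s : Finset κ) (v : κ → ι → F) (hv : ∀ j, QuadraticMap.polar (⇑Q) u (v j) = 0)
    (hm : ∀ j ∈ s, eich hQ u (v j) ∈ M) : eich hQ u (∑ j ∈ s, v j) ∈ M := by
  classical
  induction s using Finset.induction_on with
  | empty =>
    rw [Finset.sum_empty, eich_zero]
    exact M.one_mem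
  | insert j s hj ih =>
    rw [Finset.sum_insert hj, eich_add hQ hu (hv j)
      (by rw [polar_sum_right]; exact Finset.sum_eq_zero fun i _ => hv i)]
    exact M.mul_mem (hm j (Finset.mem_insert_self j s))
      (ih fun i hi => hm i (Finset.mem_insert_of_mem hi))

/-- every Eichler element at a rational singular point lies in `M` -/
theorem eich_mem_of_al_univ (hQ : (QuadraticMap.polarBilin Q).Nondegenerate) (F₀ : Subfield F)
    (M : Subgroup ↥(Cfsg.isometryGroup F ⇑Q)) (hR : RatQ F₀ Q) (hn : 7 ≤ Fintype.card ι)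
    (h : AL hQ F₀ M = Set.univ) {u : ι → F} (hu : Rat F₀ u) (hu0 : u ≠ 0) (hQu : Q u = 0)
    (y : ι → F) (huy : QuadraticMap.polar (⇑Q) u y = 0) : eich hQ u y ∈ M := by
  classical
  obtain ⟨k, θ, b, hb, hy, hind⟩ := rat_decomp F₀ y
  -- each `b j` is orthogonal to `u`
  have hub : ∀ j, QuadraticMap.polar (⇑Q) u (b j) = 0 := by
    apply hind (fun j => QuadraticMap.polar (⇑Q) u (b j)) (fun j => rat_polar hR hu (hb j))
    rw [← huy, hy, polar_sum_right]
    refine Finset.sum_congr rfl fun j _ => ?_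
    rw [QuadraticMap.polar_smul_right, smul_eq_mul, mul_comm]
  choose w hw hbw using fun j => rat_span_sing hQ F₀ hR hn hu hQu (hb j) (hub j)
  have hy' : y = ∑ p : Fin k × Fin 3, θ p.1 • w p.1 p.2 := by
    rw [Fintype.sum_prod_type, hy]
    refine Finset.sum_congr rfl fun j _ => ?_
    show θ j • b j = ∑ i, θ j • w j i
    rw [← Finset.smul_sum, ← hbw j]
  rw [hy']
  apply eich_sum_mem hQ M hQu
  · intro p
    rw [QuadraticMap.polar_smul_right, (hw p.1 p.2).2.2, smul_zero]
  · intro p _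
    by_cases hdep : ∀ s t : F, s • u + t • w p.1 p.2 = 0 → s = 0 ∧ t = 0
    · have hR' : RTSP F₀ Q u (w p.1 p.2) :=
        ⟨hu, (hw p.1 p.2).1, hQu, (hw p.1 p.2).2.1, (hw p.1 p.2).2.2, hdep⟩
      have : θ p.1 ∈ AL hQ F₀ M := by rw [h]; trivial
      exact this u _ hR'
    · push Not at hdep
      obtain ⟨s, t, hst, hne⟩ := hdep
      have ht : t ≠ 0 := by
        intro ht
        rw [ht, zero_smul, add_zero] at hst
        have hs : s = 0 := by
          rcases smul_eq_zero.mp hst with h1 | h1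
          · exact h1
          · exact absurd h1 hu0
        exact hne hs ht
      have hw' : w p.1 p.2 = (-(s / t)) • u := by
        have h1 : t • w p.1 p.2 = -(s • u) := eq_neg_of_add_eq_zero_right hst
        have h2 : w p.1 p.2 = t⁻¹ • (t • w p.1 p.2) := by
          rw [smul_smul, inv_mul_cancel₀ ht, one_smul]
        rw [h2, h1, smul_neg, smul_smul, neg_smul]
        congr 2
        field_simp
      rw [hw', smul_smul]
      have := eich_add_smul hQ (y := 0) (θ p.1 * -(s / t)) hQu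
      rw [zero_add] at this
      rw [this, eich_zero]
      exact M.one_mem

end PkGEN

open PkGEN

theorem gen_of_al_univ (hQ : (QuadraticMap.polarBilin Q).Nondegenerate) (F₀ : Subfield F)
    (M : Subgroup ↥(Cfsg.isometryGroup F ⇑Q)) (hR : RatQ F₀ Q) (hn : 7 ≤ Fintype.card ι)
    (hE : HasRatE hQ F₀ M) (h : AL hQ F₀ M = Set.univ) : Cfsg.Omega F ⇑Q ≤ M := by
  classical
  set M' : Subgroup (Matrix.GeneralLinearGroup ι F) := M.map (Cfsg.isometryGroup F ⇑Q).subtype
    with hM'
  -- rational singular points are full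
  have hfull : ∀ u : ι → F, Rat F₀ u → u ≠ 0 → Q u = 0 → Cfsg.Agent.H9Orth.Full hQ M' u := by
    intro u hu hu0 hQu hu' v huv
    refine ⟨eich hQ u v, eich_mem_of_al_univ hQ F₀ M hR hn h hu hu0 hQu v huv, ?_⟩
    show ((eich hQ u v : ↥(Cfsg.isometryGroup F ⇑Q)) : Matrix.GeneralLinearGroup ι F) = _
    congr 1
    apply iso_ext
    intro x
    rw [eich_mulVec hQ hQu huv, Cfsg.Agent.H9Orth.eich_mulVec]
  obtain ⟨p, q, hp, hq, hQp, hQq, hpq, -⟩ :=
    rat_hyp_perp hQ F₀ hR (k := 0) (fun i => i.elim0) (fun i => i.elim0) (by omega)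
  have hp0 : p ≠ 0 := by
    rintro rfl
    rw [QuadraticMap.polar_zero_left] at hpq
    exact zero_ne_one hpq
  have hq0 : q ≠ 0 := by
    rintro rfl
    rw [QuadraticMap.polar_zero_right] at hpq
    exact zero_ne_one hpq
  have hall : ∀ y : ι → F, Q y = 0 → Cfsg.Agent.H9Orth.Full hQ M' y := fun y hy =>
    Cfsg.Agent.H9Orth.full_all hQ (hfull p hp hp0 hQp) (hfull q hq hq0 hQq) hQp hQq
      (by rw [hpq]; exact one_ne_zero) y hy
  have hle : Cfsg.Geo.omegaGL ⇑Q ≤ M' := Cfsg.Agent.H9Orth.omegaGL_le_of_full hQ hn hall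
  unfold Cfsg.Geo.omegaGL at hle
  rw [hM'] at hle
  exact (Subgroup.map_le_map_iff_of_injective (Subgroup.subtype_injective _)).mp hle

end Cfsg.Agent.Lib.Helper7.OSub
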