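import Mathlib
import Cfsg.Prelude
import Cfsg.Agent.Lib.Helper7.OmTwoB

/-! S2415 (helper7) package PK-B1: `chase_base`, `chase_upper`. -/

set_option autoImplicit false

namespace Cfsg.Agent.Lib.Helper7.OmTwo

open Matrix Cfsg.Agent.H9Orth Cfsg.Agent.Lib.Helper2.CDG

variable {F : Type*} [Field F] {ι : Type} [Fintype ι] [DecidableEq ι]
variable {Q : QuadraticForm F (ι → F)}
variable {hQ : (QuadraticMap.polarBilin Q).Nondegenerate}
  {K : Subgroup ↥(Cfsg.isometryGroup F ⇑Q)}
  {l : ℕ} {e f : ℕ → ι → F} {z₁ z₂ : ι → F} {N₀ g t : F} {y : ↥(Cfsg.isometryGroup F ⇑Q)}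

theorem chase_base (hl : 2 ≤ l) (fr : Fr Q l e f z₁ z₂ N₀) (ya : YAct l e f z₁ z₂ N₀ g t y)
    (hy : y ∈ K) (hx0 : EK hQ K (e 0) (f 1)) (hx1 : ∀ c : F, EK hQ K (e 1) (c • f 2)) :
    Base hQ K l e f := by
  have _ := fr
  have _ := hl
  constructor
  · intro k
    induction k with
    | zero => intro _; exact hx0
    | succ k ih =>
      intro hk
      have h1 := ek_conj y hy (ih (by omega))
      rw [ya.ye k (by omega), ya.yf (k + 1) (by omega)] at h1
      exact h1
  · intro k hk1
    induction k with
    | zero => omega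
    | succ k ih =>
      intro hk c
      rcases Nat.eq_zero_or_pos k with h0 | h0
      · subst h0
        exact hx1 c
      · have h1 := ek_conj y hy (ih (by omega) (by omega) c)
        rw [ya.ye k (by omega), Matrix.mulVec_smul, ya.yf (k + 1) (by omega)] at h1
        exact h1

/-- one step of the chase in the upper triangular part -/
theorem b1_step (fr : Fr Q l e f z₁ z₂ N₀) (i j : ℕ) (hij : i < j) (hj : j < l) (c : F)
    (h1 : EK hQ K (e i) (f j)) (h2 : EK hQ K (e j) (c • f (j + 1))) :
    EK hQ K (e i) (c • f (j + 1)) := by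
  have hc := ek_comm h2 h1 (fr.ee j i (by omega) (by omega))
    (by
      rw [QuadraticMap.polar_smul_left, QuadraticMap.polar_comm, fr.ef i (j + 1) (by omega)
        (by omega), if_neg (by omega), smul_zero])
  refine ek_congr hc rfl ?_
  rw [fr.ef j j (by omega) (by omega), if_pos rfl, QuadraticMap.polar_smul_left,
    fr.ff (j + 1) j (by omega) (by omega), QuadraticMap.map_smul, fr.qf (j + 1) (by omega)]
  simp

theorem chase_upper (hl : 2 ≤ l) (fr : Fr Q l e f z₁ z₂ N₀) (hb : Base hQ K l e f) :
    Upper hQ K l e f := by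
  have _ := hl
  have hU1 : ∀ i j, i < j → j ≤ l → EK hQ K (e i) (f j) := by
    intro i j
    induction j with
    | zero => intro h; omega
    | succ j ih =>
      intro hij hjl
      rcases Nat.lt_or_ge i j with h | h
      · have h1 := ih h (by omega)
        have h2 := hb.2 j (by omega) (by omega) 1
        have h3 := b1_step fr i j h (by omega) 1 h1 h2
        rwa [one_smul] at h3
      · have : i = j := by omega
        subst this
        exact hb.1 i (by omega)
  refine ⟨hU1, ?_⟩
  intro i j hij hjl hj2 c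
  obtain ⟨j', rfl⟩ : ∃ j', j = j' + 1 := ⟨j - 1, by omega⟩
  rcases Nat.lt_or_ge i j' with h | h
  · exact b1_step fr i j' h (by omega) c (hU1 i j' h (by omega)) (hb.2 j' (by omega) (by omega) c)
  · have : i = j' := by omega
    subst this
    exact hb.2 i (by omega) (by omega) c

end Cfsg.Agent.Lib.Helper7.OmTwo
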