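import Cfsg.Agent.Lib.Lead.SylowNum2

set_option autoImplicit false

/-!
# M. Hall's theorem on the number of Sylow subgroups: a normal `p'`-subgroup
-/

namespace Cfsg.Agent.Lib.Lead.SylowNum

open scoped Pointwise

open Cfsg.Agent.Lib.Lead Cfsg.Agent.Lib.Lead.HallCount

universe u

variable {G : Type u} [Group G]

/-- conjugation action of a subgroup `A` on a subgroup `R` it normalizes -/
def conjActOn (A R : Subgroup G) (h : A ≤ Subgroup.normalizer (R : Set G)) : MulAction A R where
  smul x r := ⟨x * r * x⁻¹, (Subgroup.mem_normalizer_iff.mp (h x.2) r).mp r.2⟩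
  one_smul r := by
    apply Subtype.ext
    change ((1 : A) : G) * r * ((1 : A) : G)⁻¹ = r
    simp
  mul_smul x y r := by
    apply Subtype.ext
    change ((x * y : A) : G) * r * ((x * y : A) : G)⁻¹ = (x : G) * ((y : G) * r * (y : G)⁻¹) * (x : G)⁻¹
    simp [mul_assoc]

theorem card_modEq_card_inf_centralizer [Finite G] (p : ℕ) [Fact p.Prime] (A R : Subgroup G)
    (hA : IsPGroup p A) (h : A ≤ Subgroup.normalizer (R : Set G)) :
    Nat.card R ≡ Nat.card (R ⊓ Subgroup.centralizer (A : Set G) : Subgroup G) [MOD p] := by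
  letI := conjActOn A R h
  have h1 := hA.card_modEq_card_fixedPoints R
  have hsm : ∀ (x : A) (r : R), ((x • r : R) : G) = x * r * (x : G)⁻¹ := fun _ _ => rfl
  have h2 : Nat.card (MulAction.fixedPoints A R) =
      Nat.card (R ⊓ Subgroup.centralizer (A : Set G) : Subgroup G) := by
    apply Nat.card_congr
    refine ⟨fun r => ⟨r.1.1, ⟨r.1.2, ?_⟩⟩, fun g => ⟨⟨g.1, g.2.1⟩, ?_⟩, fun r => rfl, fun g => rfl⟩
    · change (r.1 : G) ∈ Subgroup.centralizer (A : Set G)
      rw [Subgroup.mem_centralizer_iff]
      intro a ha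
      have := congrArg Subtype.val (r.2 ⟨a, ha⟩)
      rw [hsm] at this
      calc a * (r.1 : G) = a * r.1 * a⁻¹ * a := by group
        _ = r.1 * a := by rw [this]
    · intro x
      apply Subtype.ext
      rw [hsm]
      have := (Subgroup.mem_centralizer_iff.mp g.2.2) x x.2
      change (x : G) * (g : G) * (x : G)⁻¹ = g
      rw [this]; group
  rwa [h2] at h1

/-- the key congruence for a prime `q` -/
theorem prime_pow_modEq [Finite G] (p : ℕ) [Fact p.Prime] (K : Subgroup G) [K.Normal]
    (hK : ¬ p ∣ Nat.card K) (P : Sylow p G) (q : ℕ) [Fact q.Prime] :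
    q ^ (Nat.card K).factorization q ≡
      q ^ (Nat.card (Subgroup.normalizer ((P : Subgroup G) : Set G) ⊓ K :
        Subgroup G)).factorization q [MOD p] := by
  have hp : p.Prime := Fact.out
  have hq : q.Prime := Fact.out
  have hcop : (Nat.card (P : Subgroup G)).Coprime (Nat.card K) := by
    rw [P.card_eq_multiplicity]
    exact Nat.Coprime.pow_left _ ((Nat.Prime.coprime_iff_not_dvd hp).mpr hK)
  have hPK : (P : Subgroup G) ⊓ K = ⊥ := (Subgroup.disjoint_of_coprime_natCard hcop).eq_bot
  have hAK : (P : Subgroup G) ≤ Subgroup.normalizer (K : Set G) := by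
    rw [Subgroup.normalizer_eq_top]; exact le_top
  have hCcent : Subgroup.normalizer ((P : Subgroup G) : Set G) ⊓ K ≤
      Subgroup.centralizer ((P : Subgroup G) : Set G) := by
    rintro c ⟨hcN, hcK⟩
    exact mem_centralizer_of_mem_normalizer P K hAK hPK c hcK
      (fun a ha => (Subgroup.mem_normalizer_iff.mp hcN a).mp ha)
  obtain ⟨S₀⟩ : Nonempty (Sylow q (Subgroup.normalizer ((P : Subgroup G) : Set G) ⊓ K :
    Subgroup G)) := inferInstance
  have hScard := (sylow_card_facts (Subgroup.normalizer ((P : Subgroup G) : Set G) ⊓ K) q S₀).1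
  have hSC : (S₀ : Subgroup _).map (Subgroup.normalizer ((P : Subgroup G) : Set G) ⊓ K).subtype ≤
      Subgroup.normalizer ((P : Subgroup G) : Set G) ⊓ K := Subgroup.map_subtype_le _
  have hSK := hSC.trans inf_le_right
  have hSq : IsPGroup q ((S₀ : Subgroup _).map
      (Subgroup.normalizer ((P : Subgroup G) : Set G) ⊓ K).subtype) := S₀.2.map _
  have hSP : (P : Subgroup G) ≤ Subgroup.normalizer (((S₀ : Subgroup _).map
      (Subgroup.normalizer ((P : Subgroup G) : Set G) ⊓ K).subtype : Subgroup G) : Set G) :=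
    (Subgroup.le_centralizer_iff.mp (hSC.trans hCcent)).trans
      (Subgroup.centralizer_le_normalizer _)
  have hsolv : Group.IsSolvable (P : Subgroup G) := by
    have := P.2.isNilpotent
    infer_instance
  obtain ⟨R₀, hSR, hRP⟩ := coprime_invariant_pgroup_le_sylow P K hAK hcop (Or.inl hsolv) q _
    hSK hSq hSP
  have hRcard := (sylow_card_facts K q R₀).1
  have hRK : (R₀ : Subgroup K).map K.subtype ≤ K := Subgroup.map_subtype_le _
  have key := card_modEq_card_inf_centralizer p (P : Subgroup G) _ P.2 hRP
  rw [hRcard] at key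
  have hcard : Nat.card ((R₀ : Subgroup K).map K.subtype ⊓
      Subgroup.centralizer ((P : Subgroup G) : Set G) : Subgroup G) =
      q ^ (Nat.card (Subgroup.normalizer ((P : Subgroup G) : Set G) ⊓ K :
        Subgroup G)).factorization q := by
    apply le_antisymm
    · have h1 : IsPGroup q ((R₀ : Subgroup K).map K.subtype ⊓
          Subgroup.centralizer ((P : Subgroup G) : Set G) : Subgroup G) :=
        (R₀.2.map K.subtype).to_le inf_le_left
      obtain ⟨n, hn⟩ := IsPGroup.iff_card.mp h1
      have hle : (R₀ : Subgroup K).map K.subtype ⊓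
          Subgroup.centralizer ((P : Subgroup G) : Set G) ≤
          Subgroup.normalizer ((P : Subgroup G) : Set G) ⊓ K :=
        le_inf (inf_le_right.trans (Subgroup.centralizer_le_normalizer _))
          (inf_le_left.trans hRK)
      have h2 := Subgroup.card_dvd_of_le hle
      rw [hn] at h2 ⊢
      exact Nat.pow_le_pow_right hq.pos
        ((hq.pow_dvd_iff_le_factorization Nat.card_pos.ne').mp h2)
    · rw [← hScard]
      exact Subgroup.card_le_of_le (le_inf hSR (hSC.trans hCcent))
  rwa [hcard] at key

/-- (F4) the Sylow number through a normal `p'`-subgroup -/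
theorem card_sylow_pprime_normal [Finite G] (p : ℕ) [Fact p.Prime] (K : Subgroup G) [K.Normal]
    (hK : ¬ p ∣ Nat.card K) :
    ∃ b : ℕ, b ≠ 0 ∧ Nat.card (Sylow p G) = Nat.card (Sylow p (G ⧸ K)) * b ∧
      ∀ q : ℕ, q.Prime → q ^ b.factorization q ≡ 1 [MOD p] := by
  have hp : p.Prime := Fact.out
  obtain ⟨P⟩ : Nonempty (Sylow p G) := inferInstance
  have hcop : (Nat.card (P : Subgroup G)).Coprime (Nat.card K) := by
    rw [P.card_eq_multiplicity]
    exact Nat.Coprime.pow_left _ ((Nat.Prime.coprime_iff_not_dvd hp).mpr hK)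
  have hPK : (P : Subgroup G) ⊓ K = ⊥ := (Subgroup.disjoint_of_coprime_natCard hcop).eq_bot
  have hK0 : Nat.card K ≠ 0 := Nat.card_pos.ne'
  have hQ0 : Nat.card (G ⧸ K) ≠ 0 := Nat.card_pos.ne'
  have hfac : (Nat.card (G ⧸ K)).factorization p = (Nat.card G).factorization p := by
    rw [Subgroup.card_eq_card_quotient_mul_card_subgroup K, Nat.factorization_mul hQ0 hK0,
      Finsupp.add_apply, Nat.factorization_eq_zero_of_not_dvd hK, add_zero]
  have hmul := card_inf_mul_relIndex_sup (Subgroup.normalizer ((P : Subgroup G) : Set G)) K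
  have hC0 : Nat.card (Subgroup.normalizer ((P : Subgroup G) : Set G) ⊓ K : Subgroup G) ≠ 0 :=
    Nat.card_pos.ne'
  have hb0 : (Subgroup.normalizer ((P : Subgroup G) : Set G)).relIndex
      (Subgroup.normalizer ((P : Subgroup G) : Set G) ⊔ K) ≠ 0 := by
    intro h0
    rw [h0, mul_zero] at hmul
    exact hK0 hmul.symm
  refine ⟨(Subgroup.normalizer ((P : Subgroup G) : Set G)).relIndex
      (Subgroup.normalizer ((P : Subgroup G) : Set G) ⊔ K), hb0, ?_, ?_⟩
  · rw [card_sylow_eq_hc, card_sylow_eq_hc, hfac]
    refine count_quotient K P _ P.card_eq_multiplicity hPK (conj_of_card_sylow p _ rfl)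
      (conj_of_card_sylow p _ hfac) ?_
    rw [P.card_eq_multiplicity]
    exact conj_of_card_sylow p _ (factorization_eq_of_le p _ P le_sup_left P.card_eq_multiplicity)
  · intro q hq
    have : Fact q.Prime := ⟨hq⟩
    have key := prime_pow_modEq p K hK P q
    rw [← hmul, Nat.factorization_mul hC0 hb0, Finsupp.add_apply, pow_add] at key
    by_cases hqp : q = p
    · have : ((Subgroup.normalizer ((P : Subgroup G) : Set G)).relIndex
          (Subgroup.normalizer ((P : Subgroup G) : Set G) ⊔ K)).factorization q = 0 := by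
        apply Nat.factorization_eq_zero_of_not_dvd
        intro hd
        apply hK
        rw [← hqp, ← hmul]
        exact Dvd.dvd.mul_left hd _
      rw [this, pow_zero]
    · have hcop' : (q ^ (Nat.card (Subgroup.normalizer ((P : Subgroup G) : Set G) ⊓ K :
          Subgroup G)).factorization q).Coprime p :=
        Nat.Coprime.pow_left _ ((Nat.coprime_primes hq hp).mpr hqp)
      have key' : q ^ (Nat.card (Subgroup.normalizer ((P : Subgroup G) : Set G) ⊓ K :
          Subgroup G)).factorization q * q ^ ((Subgroup.normalizer ((P : Subgroup G) :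
          Set G)).relIndex (Subgroup.normalizer ((P : Subgroup G) : Set G) ⊔ K)).factorization q ≡
          q ^ (Nat.card (Subgroup.normalizer ((P : Subgroup G) : Set G) ⊓ K :
          Subgroup G)).factorization q * 1 [MOD p] := by
        rw [mul_one]; exact key
      exact Nat.ModEq.cancel_left_of_coprime (Nat.Coprime.symm hcop').gcd_eq_one key'
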