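import Mathlib
import Cfsg.Agent.Lib.Helper8.AltPDefs
import Cfsg.Agent.Lib.Lead.AltPGrp
import Cfsg.Agent.Lib.Lead.AltPA5

/-! # S2276 PK-B: single long cycle, the second parity (leader: helper8) -/

set_option autoImplicit false
open Equiv Equiv.Perm
open scoped commutatorElement

namespace Cfsg.Agent.Lib.Helper8.AltP

/-- the model identities in `Perm (Fin 7)`. -/
theorem modelB_cube :
    ((swap (0 : Fin 7) 2 * swap 1 3) * (swap (4 : Fin 7) 5 * swap 5 6)) ^ 3 = swap (0 : Fin 7) 2 * swap 1 3 := by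
  decide +kernel

theorem modelB_sq : (swap (0 : Fin 7) 2 * swap 1 3) * (swap (0 : Fin 7) 2 * swap 1 3) = 1 := by
  decide +kernel

theorem modelB_tau : (swap (0 : Fin 7) 2 * swap 4 5) * (swap (1 : Fin 7) 3 * swap 5 6)⁻¹
    = (swap (0 : Fin 7) 2 * swap 1 3) * (swap (4 : Fin 7) 5 * swap 5 6) := by
  decide +kernel

theorem ppB {α : Type*} [Fintype α] [DecidableEq α] (p : ℕ) (hp : p.Prime) (hp2 : p ≠ 2)
    (x₀ x₁ x₂ x₃ x₄ x₅ x₆ : α) (tl : List α)
    (hnd : (x₀ :: x₁ :: x₂ :: x₃ :: x₄ :: x₅ :: x₆ :: tl).Nodup)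
    (hoddL : Odd (x₀ :: x₁ :: x₂ :: x₃ :: x₄ :: x₅ :: x₆ :: tl).length) :
    PP p (List.formPerm (x₀ :: x₁ :: x₂ :: x₃ :: x₄ :: x₅ :: x₆ :: tl))⁻¹
      ((swap x₁ x₃ * swap x₅ x₆) * List.formPerm (x₀ :: x₁ :: x₂ :: x₃ :: x₄ :: x₅ :: x₆ :: tl) *
        (swap x₁ x₃ * swap x₅ x₆)⁻¹) := by
  set xs := x₀ :: x₁ :: x₂ :: x₃ :: x₄ :: x₅ :: x₆ :: tl with hxs
  set z := List.formPerm xs with hz
  have hlen : xs.length = tl.length + 7 := by simp [hxs]
  -- basic values of z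
  have hz0 : z x₀ = x₁ := List.formPerm_apply_lt_getElem xs hnd 0 (by omega)
  have hz1 : z x₁ = x₂ := List.formPerm_apply_lt_getElem xs hnd 1 (by omega)
  have hz2 : z x₂ = x₃ := List.formPerm_apply_lt_getElem xs hnd 2 (by omega)
  have hz3 : z x₃ = x₄ := List.formPerm_apply_lt_getElem xs hnd 3 (by omega)
  have hz4 : z x₄ = x₅ := List.formPerm_apply_lt_getElem xs hnd 4 (by omega)
  have hz5 : z x₅ = x₆ := List.formPerm_apply_lt_getElem xs hnd 5 (by omega)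
  have hi0 : z⁻¹ x₁ = x₀ := by rw [Perm.inv_eq_iff_eq, hz0]
  have hi2 : z⁻¹ x₃ = x₂ := by rw [Perm.inv_eq_iff_eq, hz2]
  have hi4 : z⁻¹ x₅ = x₄ := by rw [Perm.inv_eq_iff_eq, hz4]
  have hi5 : z⁻¹ x₆ = x₅ := by rw [Perm.inv_eq_iff_eq, hz5]
  -- the embedding of the first seven points
  have hnd7 : [x₀, x₁, x₂, x₃, x₄, x₅, x₆].Nodup := by
    have : List.Sublist [x₀, x₁, x₂, x₃, x₄, x₅, x₆] xs := by
      rw [hxs]
      exact (List.Sublist.cons_cons _ (List.Sublist.cons_cons _ (List.Sublist.cons_cons _ (List.Sublist.cons_cons _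
        (List.Sublist.cons_cons _ (List.Sublist.cons_cons _ (List.Sublist.cons_cons _ (List.nil_sublist _))))))))
    exact hnd.sublist this
  let f : Fin 7 ↪ α := ⟨fun i => [x₀, x₁, x₂, x₃, x₄, x₅, x₆].get i, List.nodup_iff_injective_get.mp hnd7⟩
  have hf0 : f 0 = x₀ := rfl
  have hf1 : f 1 = x₁ := rfl
  have hf2 : f 2 = x₂ := rfl
  have hf3 : f 3 = x₃ := rfl
  have hf4 : f 4 = x₄ := rfl
  have hf5 : f 5 = x₅ := rfl
  have hf6 : f 6 = x₆ := rfl
  have hf : ∀ i j : Fin 7, viaEmbeddingHom f (swap i j) = swap (f i) (f j) := viaEmbedding_swap f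
  set κ₂ := swap x₀ x₂ * swap x₁ x₃ with hκ₂
  set κ₃ := swap x₄ x₅ * swap x₅ x₆ with hκ₃
  have hcube : (κ₂ * κ₃) ^ 3 = κ₂ := by
    have := congrArg (viaEmbeddingHom f) modelB_cube
    simpa only [map_pow, map_mul, hf, hf0, hf1, hf2, hf3, hf4, hf5, hf6] using this
  have hsq : κ₂ * κ₂ = 1 := by
    have := congrArg (viaEmbeddingHom f) modelB_sq
    simpa only [map_mul, map_one, hf, hf0, hf1, hf2, hf3, hf4, hf5, hf6] using this
  have htau : (swap x₀ x₂ * swap x₄ x₅) * (swap x₁ x₃ * swap x₅ x₆)⁻¹ = κ₂ * κ₃ := by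
    have := congrArg (viaEmbeddingHom f) modelB_tau
    simpa only [map_mul, map_inv, hf, hf0, hf1, hf2, hf3, hf4, hf5, hf6] using this
  have hκ₂ne : κ₂ ≠ 1 := by
    intro h
    have h0 := (List.nodup_cons.mp hnd7).1
    have h02 : x₀ ≠ x₂ := fun h' => h0 (by simp [h'])
    have h01 : x₀ ≠ x₁ := fun h' => h0 (by simp [h'])
    have h03 : x₀ ≠ x₃ := fun h' => h0 (by simp [h'])
    have := congrArg (fun σ : Perm α => σ x₀) h
    simp only [hκ₂, Perm.mul_apply, Perm.one_apply] at this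
    rw [swap_apply_of_ne_of_ne h01 h03, swap_apply_left] at this
    exact h02 this.symm
  -- u * w = κ₂ κ₃
  have huw : z⁻¹ * ((swap x₁ x₃ * swap x₅ x₆) * z * (swap x₁ x₃ * swap x₅ x₆)⁻¹) = κ₂ * κ₃ := by
    have e : z⁻¹ * ((swap x₁ x₃ * swap x₅ x₆) * z * (swap x₁ x₃ * swap x₅ x₆)⁻¹)
        = ((z⁻¹ * swap x₁ x₃ * z⁻¹⁻¹) * (z⁻¹ * swap x₅ x₆ * z⁻¹⁻¹)) * (swap x₁ x₃ * swap x₅ x₆)⁻¹ := by
      group
    rw [e, ← swap_apply_apply, ← swap_apply_apply, hi0, hi2, hi4, hi5, htau]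
  refine ⟨?_, ?_⟩
  · rw [huw]
    exact not_ppow_of_pow_eq p hp hp2 (κ₂ * κ₃) κ₂ 3 hcube hsq hκ₂ne
  · set H := Subgroup.closure ({z⁻¹, (swap x₁ x₃ * swap x₅ x₆) * z * (swap x₁ x₃ * swap x₅ x₆)⁻¹} : Set (Perm α))
      with hH
    have hu : z⁻¹ ∈ H := Subgroup.subset_closure (Set.mem_insert _ _)
    have hw : (swap x₁ x₃ * swap x₅ x₆) * z * (swap x₁ x₃ * swap x₅ x₆)⁻¹ ∈ H :=
      Subgroup.subset_closure (Set.mem_insert_of_mem _ rfl)
    have hzH : z ∈ H := by simpa using inv_mem hu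
    have hκH : κ₂ ∈ H := by
      rw [← hcube, ← huw]
      exact pow_mem (mul_mem hu hw) 3
    have hpow : ∀ n (hn : n < xs.length), (z ^ n) x₀ = xs[n] := by
      intro n hn
      have := List.formPerm_pow_apply_getElem xs hnd n 0 (by omega)
      simp only [zero_add, Nat.mod_eq_of_lt hn] at this
      exact this
    have hp1 : z x₀ = x₁ := hz0
    have hp2' : (z ^ 2) x₀ = x₂ := hpow 2 (by omega)
    have hp3 : (z ^ 3) x₀ = x₃ := hpow 3 (by omega)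
    have hp4 : (z ^ (2 * 2)) x₀ = x₄ := hpow 4 (by omega)
    have hp6 : (z ^ (3 * 2)) x₀ = x₆ := hpow 6 (by omega)
    have hκ' : swap x₀ ((z ^ 2) x₀) * swap (z x₀) ((z ^ (2 + 1)) x₀) ∈ H := by
      rw [hp2', hp1, hp3]; exact hκH
    refine not_solvable_of_pattern H z hzH x₀ 2 ?_ hκ'
    rw [hp2', hp4, hp6]
    rcases tl with _ | ⟨x₇, _ | ⟨x₈, tl'⟩⟩
    · -- length 7
      have hz6 : z x₆ = x₀ := by
        exact List.formPerm_apply_getLast x₀ [x₁, x₂, x₃, x₄, x₅, x₆]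
      have h8 : (z ^ (4 * 2)) x₀ = x₁ := by
        have e : z ^ (4 * 2) = z ^ 2 * z ^ (3 * 2) := by rw [← pow_add]
        rw [e, Perm.mul_apply, hp6, pow_two, Perm.mul_apply, hz6, hz0]
      rw [h8]
      simp only [hxs, List.nodup_cons, List.mem_cons, List.not_mem_nil, or_false, not_or,
        List.nodup_nil, and_true, not_false_eq_true] at hnd ⊢
      obtain ⟨⟨h01, h02, h03, h04, h05, h06⟩, ⟨h12, h13, h14, h15, h16⟩, ⟨h23, h24, h25, h26⟩,
        ⟨h34, h35, h36⟩, ⟨h45, h46⟩, h56⟩ := hnd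
      exact ⟨⟨h02, h04, h06, h01⟩, ⟨h24, h26, Ne.symm h12⟩, ⟨h46, Ne.symm h14⟩, Ne.symm h16⟩
    · -- length 8: even
      exfalso
      simp [hxs] at hoddL
      exact absurd hoddL (by decide)
    · -- length ≥ 9
      have h8 : (z ^ (4 * 2)) x₀ = x₈ := hpow 8 (by simp [hxs])
      rw [h8]
      have : List.Sublist [x₀, x₂, x₄, x₆, x₈] xs := by
        rw [hxs]
        exact (List.Sublist.cons_cons _ (List.Sublist.cons _ (List.Sublist.cons_cons _ (List.Sublist.cons _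
          (List.Sublist.cons_cons _ (List.Sublist.cons _ (List.Sublist.cons_cons _ (List.Sublist.cons _
            (List.Sublist.cons_cons _ (List.nil_sublist _))))))))))
      exact hnd.sublist this

end Cfsg.Agent.Lib.Helper8.AltP
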