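import Mathlib
import Cfsg.Agent.Lib.Helper8.AltPDefs

/-! # S2276 PK-GREEDY: sub-multisets of `p`-powers with prescribed sum (leader: helper8) -/

set_option autoImplicit false

namespace Cfsg.Agent.Lib.Helper8.AltP

theorem exists_le_sum_eq (p : ℕ) (hp : p.Prime) (e : ℕ) (s : Multiset ℕ)
    (hs : ∀ x ∈ s, ∃ i, i ≤ e ∧ x = p ^ i) (T : ℕ) (hT : p ^ e ∣ T) (hTs : T ≤ s.sum) :
    ∃ t : Multiset ℕ, t ≤ s ∧ t.sum = T := by
  induction e generalizing s T with
  | zero =>
    -- all elements are 1
    have h1 : ∀ x ∈ s, x = 1 := by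
      intro x hx
      obtain ⟨i, hi, rfl⟩ := hs x hx
      have : i = 0 := by omega
      subst this; simp
    have hs1 : s = Multiset.replicate (Multiset.card s) 1 := Multiset.eq_replicate.mpr ⟨rfl, h1⟩
    have hsum : s.sum = Multiset.card s := by
      conv_lhs => rw [hs1]
      simp
    refine ⟨Multiset.replicate T 1, ?_, by simp⟩
    rw [hs1]
    rw [Multiset.replicate_le_replicate]
    omega
  | succ e ih =>
    classical
    set b := p ^ (e + 1) with hb
    set c := Multiset.count b s with hc
    have hsplit : s = Multiset.filter (fun x => x = b) s + Multiset.filter (fun x => ¬ x = b) s :=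
      (Multiset.filter_add_not _ s).symm
    have htop : Multiset.filter (fun x => x = b) s = Multiset.replicate c b := by
      rw [Multiset.filter_eq']
    have hbpos : 0 < b := pow_pos hp.pos _
    obtain ⟨m, rfl⟩ := hT
    have hsum : s.sum = c * b + (Multiset.filter (fun x => ¬ x = b) s).sum := by
      conv_lhs => rw [hsplit, htop]
      rw [Multiset.sum_add, Multiset.sum_replicate, smul_eq_mul]
    by_cases hmc : m ≤ c
    · refine ⟨Multiset.replicate m b, ?_, ?_⟩
      · exact Multiset.le_count_iff_replicate_le.mp hmc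
      · rw [Multiset.sum_replicate, smul_eq_mul, mul_comm]
    · push_neg at hmc
      have hlow : ∀ x ∈ Multiset.filter (fun x => ¬ x = b) s, ∃ i, i ≤ e ∧ x = p ^ i := by
        intro x hx
        rw [Multiset.mem_filter] at hx
        obtain ⟨i, hi, rfl⟩ := hs x hx.1
        refine ⟨i, ?_, rfl⟩
        by_contra hie
        have : i = e + 1 := by omega
        subst this
        exact hx.2 rfl
      have hT' : p ^ e ∣ b * (m - c) := by
        rw [hb, pow_succ, mul_assoc]
        exact Dvd.intro _ rfl
      have hle : b * (m - c) ≤ (Multiset.filter (fun x => ¬ x = b) s).sum := by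
        have h1 : b * m ≤ c * b + (Multiset.filter (fun x => ¬ x = b) s).sum := by rw [← hsum]; exact hTs
        have h2 : b * (m - c) + c * b = b * m := by
          rw [mul_comm c b, ← mul_add, Nat.sub_add_cancel hmc.le]
        omega
      obtain ⟨t', ht'le, ht'sum⟩ := ih _ hlow _ hT' hle
      refine ⟨Multiset.replicate c b + t', ?_, ?_⟩
      · conv_rhs => rw [hsplit, htop]
        exact add_le_add_right ht'le _
      · rw [Multiset.sum_add, Multiset.sum_replicate, smul_eq_mul, ht'sum, mul_comm c b, ← mul_add,
          Nat.add_sub_cancel' hmc.le]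

end Cfsg.Agent.Lib.Helper8.AltP
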