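import Mathlib
import Cfsg.Agent.Lib.Helper8.AltPDefs
import Cfsg.Agent.Lib.Lead.AltPGrp
import Cfsg.Agent.Lib.Lead.AltPA5

/-! # S2276 PK-SMALL: explicit small atoms (leader: helper8) -/

set_option autoImplicit false
set_option maxRecDepth 100000
open Equiv Equiv.Perm
open scoped commutatorElement

namespace Cfsg.Agent.Lib.Helper8.AltP

/-- `PP` from two 3-cycles with one common point in `⟨u, w⟩`. -/
theorem PP_of_three_cycles {α : Type*} [DecidableEq α] (p : ℕ) (u w t₁ t₂ : Perm α) (a b c d e : α)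
    (hord : ¬ ∃ k : ℕ, orderOf (u * w) = p ^ k)
    (h1 : t₁ ∈ Subgroup.closure ({u, w} : Set (Perm α)))
    (h2 : t₂ ∈ Subgroup.closure ({u, w} : Set (Perm α)))
    (e1 : t₁ = swap a b * swap b c) (e2 : t₂ = swap c d * swap d e) (hnd : [a, b, c, d, e].Nodup) :
    PP p u w :=
  ⟨hord, not_solvable_of_three_cycles _ a b c d e hnd (e1 ▸ h1) (e2 ▸ h2)⟩

/-- an element of prime order `q ≠ p` is not a `p`-element. -/
theorem not_ppow_of_prime_order {G : Type*} [Group G] (p q : ℕ) (hp : p.Prime) (hq : q.Prime) (hpq : p ≠ q)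
    (x : G) (hx : x ^ q = 1) (hx1 : x ≠ 1) : ¬ ∃ k : ℕ, orderOf x = p ^ k := by
  have := Fact.mk hq
  rintro ⟨k, hk⟩
  rw [orderOf_eq_prime hx hx1] at hk
  rcases k with _ | k
  · rw [pow_zero] at hk; exact hq.one_lt.ne' hk
  · have : p ∣ q := by rw [hk, pow_succ]; exact Dvd.intro_left _ rfl
    exact hpq ((Nat.prime_dvd_prime_iff_eq hp hq).mp this)

/-- second parity from an odd `o` commuting with `u`. -/
theorem PP_of_commute (p : ℕ) {G : Type*} [Group G] {u w : G} (o : G) (ho : o * u * o⁻¹ = u)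
    (h : PP p u w) : PP p u (o * w * o⁻¹) := by
  have := PP_conj p o h
  rwa [ho] at this

theorem mem_cl_left {G : Type*} [Group G] (u w : G) : u ∈ Subgroup.closure ({u, w} : Set G) :=
  Subgroup.subset_closure (Set.mem_insert _ _)

theorem mem_cl_right {G : Type*} [Group G] (u w : G) : w ∈ Subgroup.closure ({u, w} : Set G) :=
  Subgroup.subset_closure (Set.mem_insert_of_mem _ rfl)

theorem atom_3_5 : IsAtom2 3 5 {3} {3} := by
  -- u = (2 3 4), w = (0 1 2), o = swap 0 1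
  refine ⟨swap (2 : Fin 5) 3 * swap 3 4, swap (0 : Fin 5) 1 * swap 1 2, swap (0 : Fin 5) 1,
    by decide +kernel, by decide +kernel, by decide +kernel, ?_, ?_⟩
  · exact PP_of_three_cycles 3 _ _ (swap (0 : Fin 5) 1 * swap 1 2) (swap (2 : Fin 5) 3 * swap 3 4)
      0 1 2 3 4
      (not_ppow_of_prime_order 3 5 Nat.prime_three (by norm_num) (by norm_num) _
        (by decide +kernel) (by decide +kernel))
      (mem_cl_right _ _) (mem_cl_left _ _) rfl rfl (by decide)
  · refine PP_of_commute 3 _ (by decide +kernel) ?_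
    exact PP_of_three_cycles 3 _ _ (swap (0 : Fin 5) 1 * swap 1 2) (swap (2 : Fin 5) 3 * swap 3 4)
      0 1 2 3 4
      (not_ppow_of_prime_order 3 5 Nat.prime_three (by norm_num) (by norm_num) _
        (by decide +kernel) (by decide +kernel))
      (mem_cl_right _ _) (mem_cl_left _ _) rfl rfl (by decide)

theorem atom_3_6a : IsAtom2 3 6 {3, 3} {3} := by
  -- u = (0 1 2)(3 4 5), w = (2 3 4), o = (0 3)(1 4)(2 5)
  set u : Perm (Fin 6) := (swap 0 1 * swap 1 2) * (swap 3 4 * swap 4 5) with hu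
  set w : Perm (Fin 6) := swap 2 3 * swap 3 4 with hw
  set o : Perm (Fin 6) := swap 0 3 * swap 1 4 * swap 2 5 with ho
  have hPP : PP 3 u w := by
    refine PP_of_three_cycles 3 u w w (u⁻¹ * w * u) 4 2 3 1 5 ?_ (mem_cl_right _ _)
      (mul_mem (mul_mem (inv_mem (mem_cl_left _ _)) (mem_cl_right _ _)) (mem_cl_left _ _))
      (by rw [hw]; decide +kernel) (by rw [hu, hw]; decide +kernel) (by decide)
    exact not_ppow_of_pow_eq 3 Nat.prime_three (by norm_num) (u * w) ((u * w) ^ 2) 2 rfl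
      (by rw [hu, hw]; decide +kernel) (by rw [hu, hw]; decide +kernel)
  refine ⟨u, w, o, by rw [hu]; decide +kernel, by rw [hw]; decide +kernel, by rw [ho]; decide +kernel,
    hPP, PP_of_commute 3 o (by rw [hu, ho]; decide +kernel) hPP⟩

theorem atom_3_6b : IsAtom2 3 6 {3, 3} {3, 3} := by
  -- u = (0 1 2)(3 4 5), w = (0 5 3)(1 4 2), o = (0 3)(1 4)(2 5)
  set u : Perm (Fin 6) := (swap 0 1 * swap 1 2) * (swap 3 4 * swap 4 5) with hu
  set w : Perm (Fin 6) := (swap 0 5 * swap 5 3) * (swap 1 4 * swap 4 2) with hw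
  set o : Perm (Fin 6) := swap 0 3 * swap 1 4 * swap 2 5 with ho
  have hPP : PP 3 u w := by
    refine ⟨not_ppow_of_prime_order 3 5 Nat.prime_three (by norm_num) (by norm_num) _
        (by rw [hu, hw]; decide +kernel) (by rw [hu, hw]; decide +kernel), ?_⟩
    refine not_solvable_of_comm_conj _ u w (w⁻¹ * u⁻¹ * w) (mem_cl_left _ _) (mem_cl_right _ _)
      (mul_mem (mul_mem (inv_mem (mem_cl_right _ _)) (inv_mem (mem_cl_left _ _))) (mem_cl_right _ _))
      (by rw [hu]; decide +kernel) (by rw [hu, hw]; decide +kernel)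
  refine ⟨u, w, o, by rw [hu]; decide +kernel, by rw [hw]; decide +kernel, by rw [ho]; decide +kernel,
    hPP, PP_of_commute 3 o (by rw [hu, ho]; decide +kernel) hPP⟩

theorem atom_3_9a : IsAtom2 3 9 {3, 3} {9} := by
  -- w = z = (0 1 … 8), u = (0 8 1)(3 7 5), o = (0 3)(8 7)(1 5)
  set z : Perm (Fin 9) := List.formPerm [0, 1, 2, 3, 4, 5, 6, 7, 8] with hz
  set u : Perm (Fin 9) := (swap 0 8 * swap 8 1) * (swap 3 7 * swap 7 5) with hu
  set o : Perm (Fin 9) := swap 0 3 * swap 8 7 * swap 1 5 with ho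
  have hPP : PP 3 u z := by
    refine PP_of_three_cycles 3 u z ((z * u) ^ 2) ((z⁻¹ * u⁻¹) ^ 2) 8 3 2 7 1 ?_
      (pow_mem (mul_mem (mem_cl_right _ _) (mem_cl_left _ _)) 2)
      (pow_mem (mul_mem (inv_mem (mem_cl_right _ _)) (inv_mem (mem_cl_left _ _))) 2)
      (by rw [hu, hz]; decide +kernel) (by rw [hu, hz]; decide +kernel) (by decide)
    exact not_ppow_of_pow_eq 3 Nat.prime_three (by norm_num) (u * z) ((u * z) ^ 3) 3 rfl
      (by rw [hu, hz]; decide +kernel) (by rw [hu, hz]; decide +kernel)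
  refine ⟨u, z, o, by rw [hu]; decide +kernel, by rw [hz]; decide +kernel, by rw [ho]; decide +kernel,
    hPP, PP_of_commute 3 o (by rw [hu, ho]; decide +kernel) hPP⟩

theorem atom_3_9b : IsAtom2 3 9 {3, 3, 3} {9} := by
  -- w = z, u = (0 7 1)(2 6 3)(4 5 8), o = (0 2)(7 6)(1 3)
  set z : Perm (Fin 9) := List.formPerm [0, 1, 2, 3, 4, 5, 6, 7, 8] with hz
  set u : Perm (Fin 9) := (swap 0 7 * swap 7 1) * (swap 2 6 * swap 6 3) * (swap 4 5 * swap 5 8) with hu
  set o : Perm (Fin 9) := swap 0 2 * swap 7 6 * swap 1 3 with ho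
  have hPP : PP 3 u z := by
    refine PP_of_three_cycles 3 u z ((z * u) ^ 2) ((z⁻¹ * u⁻¹) ^ 2) 0 5 8 7 4 ?_
      (pow_mem (mul_mem (mem_cl_right _ _) (mem_cl_left _ _)) 2)
      (pow_mem (mul_mem (inv_mem (mem_cl_right _ _)) (inv_mem (mem_cl_left _ _))) 2)
      (by rw [hu, hz]; decide +kernel) (by rw [hu, hz]; decide +kernel) (by decide)
    exact not_ppow_of_pow_eq 3 Nat.prime_three (by norm_num) (u * z) ((u * z) ^ 3) 3 rfl
      (by rw [hu, hz]; decide +kernel) (by rw [hu, hz]; decide +kernel)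
  refine ⟨u, z, o, by rw [hu]; decide +kernel, by rw [hz]; decide +kernel, by rw [ho]; decide +kernel,
    hPP, PP_of_commute 3 o (by rw [hu, ho]; decide +kernel) hPP⟩

theorem atom_5_5 : IsAtom2 5 5 {5} {5} := by
  -- z = (0 1 2 3 4), u = z⁻¹, w = τ z τ with τ = swap 1 3, o = τ' τ with τ' = (1 2 3)
  set z : Perm (Fin 5) := List.formPerm [0, 1, 2, 3, 4] with hz
  set τ : Perm (Fin 5) := swap 1 3 with hτ
  set τ' : Perm (Fin 5) := swap 1 2 * swap 2 3 with hτ'
  set u : Perm (Fin 5) := z⁻¹ with hu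
  set w : Perm (Fin 5) := τ * z * τ with hw
  have h5 : Nat.Prime 5 := by norm_num
  have hPP1 : PP 5 u w := by
    refine PP_of_three_cycles 5 u w (w⁻¹ * u) (w⁻¹ * u * u) 0 1 4 3 2 ?_
      (mul_mem (inv_mem (mem_cl_right _ _)) (mem_cl_left _ _))
      (mul_mem (mul_mem (inv_mem (mem_cl_right _ _)) (mem_cl_left _ _)) (mem_cl_left _ _))
      (by rw [hu, hw, hz, hτ]; decide +kernel) (by rw [hu, hw, hz, hτ]; decide +kernel) (by decide)
    exact not_ppow_of_pow_eq 5 h5 (by norm_num) (u * w) ((u * w) ^ 1) 1 rfl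
      (by rw [hu, hw, hz, hτ]; decide +kernel) (by rw [hu, hw, hz, hτ]; decide +kernel)
  have hPP2 : PP 5 u ((τ' * τ) * w * (τ' * τ)⁻¹) := by
    set w₂ : Perm (Fin 5) := (τ' * τ) * w * (τ' * τ)⁻¹ with hw₂
    refine PP_of_three_cycles 5 u w₂ (w₂ * u) (w₂⁻¹ * u⁻¹) 2 4 1 0 3 ?_
      (mul_mem (mem_cl_right _ _) (mem_cl_left _ _))
      (mul_mem (inv_mem (mem_cl_right _ _)) (inv_mem (mem_cl_left _ _)))
      (by rw [hw₂, hu, hw, hz, hτ, hτ']; decide +kernel)
      (by rw [hw₂, hu, hw, hz, hτ, hτ']; decide +kernel) (by decide)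
    exact not_ppow_of_prime_order 5 3 h5 Nat.prime_three (by norm_num) _
      (by rw [hw₂, hu, hw, hz, hτ, hτ']; decide +kernel)
      (by rw [hw₂, hu, hw, hz, hτ, hτ']; decide +kernel)
  refine ⟨u, w, τ' * τ, by rw [hu, hz]; decide +kernel, by rw [hw, hz, hτ]; decide +kernel,
    by rw [hτ, hτ']; decide +kernel, hPP1, hPP2⟩

end Cfsg.Agent.Lib.Helper8.AltP
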