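import Mathlib
import Cfsg.Agent.Lib.Helper8.AltPDefs
import Cfsg.Agent.Lib.Lead.AltPGrp

/-! # S2276 PK-YOUNG: symmetry and extension by a disjoint part (leader: helper8) -/

set_option autoImplicit false
open Equiv Equiv.Perm
open scoped commutatorElement

namespace Cfsg.Agent.Lib.Helper8.AltP

theorem IsAtom2.symm {p m : ℕ} {μ ν : Multiset ℕ} (h : IsAtom2 p m μ ν) : IsAtom2 p m ν μ := by
  obtain ⟨u, w, o, hu, hw, ho, h1, h2⟩ := h
  refine ⟨w, u, o⁻¹, hw, hu, by rw [Perm.sign_inv]; exact ho, PP_symm p h1, ?_⟩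
  have h3 := PP_conj p o⁻¹ h2
  have e : o⁻¹ * (o * w * o⁻¹) * o⁻¹⁻¹ = w := by group
  rw [e] at h3
  exact PP_symm p h3

theorem cycleType_viaEmbedding {α β : Type*} [Fintype α] [DecidableEq α] [Fintype β] [DecidableEq β]
    (ι : α ↪ β) (σ : Perm α) : (viaEmbeddingHom ι σ).cycleType = σ.cycleType := by
  classical
  rw [viaEmbeddingHom_apply]
  unfold viaEmbedding
  convert cycleType_extendDomain (ofInjective ι.1 ι.2) (g := σ)

theorem cycleType_permCongr {α β : Type*} [Fintype α] [DecidableEq α] [Fintype β] [DecidableEq β]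
    (e : α ≃ β) (σ : Perm α) : (e.permCongr σ).cycleType = σ.cycleType := by
  have : e.permCongr σ = viaEmbeddingHom e.toEmbedding σ := by
    ext x
    obtain ⟨a, rfl⟩ := e.surjective x
    rw [viaEmbeddingHom_apply]
    have := viaEmbedding_apply σ e.toEmbedding a
    simp only [Equiv.coe_toEmbedding] at this
    rw [this]
    simp [Equiv.permCongr_apply]
  rw [this, cycleType_viaEmbedding]

theorem cycleType_sumCongr_one {α β : Type*} [Fintype α] [DecidableEq α] [Fintype β] [DecidableEq β]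
    (σ : Perm α) : (Perm.sumCongr σ (1 : Perm β)).cycleType = σ.cycleType := by
  have : Perm.sumCongr σ (1 : Perm β) = viaEmbeddingHom (⟨Sum.inl, Sum.inl_injective⟩ : α ↪ α ⊕ β) σ := by
    ext x
    rw [viaEmbeddingHom_apply]
    rcases x with a | b
    · have := viaEmbedding_apply σ (⟨Sum.inl, Sum.inl_injective⟩ : α ↪ α ⊕ β) a
      simp only [Function.Embedding.coeFn_mk] at this
      rw [this]; simp
    · rw [viaEmbedding_apply_of_notMem]
      · simp
      · rintro ⟨a, ha⟩; simp at ha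
  rw [this, cycleType_viaEmbedding]

theorem cycleType_one_sumCongr {α β : Type*} [Fintype α] [DecidableEq α] [Fintype β] [DecidableEq β]
    (τ : Perm β) : (Perm.sumCongr (1 : Perm α) τ).cycleType = τ.cycleType := by
  have : Perm.sumCongr (1 : Perm α) τ = viaEmbeddingHom (⟨Sum.inr, Sum.inr_injective⟩ : β ↪ α ⊕ β) τ := by
    ext x
    rw [viaEmbeddingHom_apply]
    rcases x with a | b
    · rw [viaEmbedding_apply_of_notMem]
      · simp
      · rintro ⟨a', ha⟩; simp at ha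
    · have := viaEmbedding_apply τ (⟨Sum.inr, Sum.inr_injective⟩ : β ↪ α ⊕ β) b
      simp only [Function.Embedding.coeFn_mk] at this
      rw [this]; simp
  rw [this, cycleType_viaEmbedding]

theorem cycleType_sumCongr {α β : Type*} [Fintype α] [DecidableEq α] [Fintype β] [DecidableEq β]
    (σ : Perm α) (τ : Perm β) : (Perm.sumCongr σ τ).cycleType = σ.cycleType + τ.cycleType := by
  have hmul : Perm.sumCongr σ τ = Perm.sumCongr σ (1 : Perm β) * Perm.sumCongr (1 : Perm α) τ := by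
    rw [Perm.sumCongr_mul σ (1 : Perm β) (1 : Perm α) τ, mul_one σ, one_mul τ]
  have hdisj : Perm.Disjoint (Perm.sumCongr σ (1 : Perm β)) (Perm.sumCongr (1 : Perm α) τ) := by
    intro x
    rcases x with a | b
    · right; simp
    · left; simp
  rw [hmul, hdisj.cycleType_mul, cycleType_sumCongr_one, cycleType_one_sumCongr]

/-- the injective hom `Perm (Fin m) × Perm (Fin k) →* Perm (Fin (m + k))`. -/
noncomputable def youngHom (m k : ℕ) : Perm (Fin m) × Perm (Fin k) →* Perm (Fin (m + k)) :=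
  (finSumFinEquiv.permCongrHom : Perm (Fin m ⊕ Fin k) ≃* Perm (Fin (m + k))).toMonoidHom.comp
    (sumCongrHom (Fin m) (Fin k))

theorem youngHom_injective (m k : ℕ) : Function.Injective (youngHom m k) := by
  unfold youngHom
  exact (MulEquiv.injective (finSumFinEquiv.permCongrHom : Perm (Fin m ⊕ Fin k) ≃* Perm (Fin (m + k)))).comp
    sumCongrHom_injective

theorem youngHom_apply (m k : ℕ) (a : Perm (Fin m)) (b : Perm (Fin k)) :
    youngHom m k (a, b) = finSumFinEquiv.permCongr (Perm.sumCongr a b) := rfl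

theorem cycleType_youngHom (m k : ℕ) (a : Perm (Fin m)) (b : Perm (Fin k)) :
    (youngHom m k (a, b)).cycleType = a.cycleType + b.cycleType := by
  rw [youngHom_apply, cycleType_permCongr, cycleType_sumCongr]

theorem sign_youngHom (m k : ℕ) (a : Perm (Fin m)) (b : Perm (Fin k)) :
    Perm.sign (youngHom m k (a, b)) = Perm.sign a * Perm.sign b := by
  rw [youngHom_apply, sign_permCongr, sign_sumCongr]

theorem exists_perm_cycleType (k : ℕ) (μ : Multiset ℕ) (hμ : μ.sum ≤ k) (hμ2 : ∀ a ∈ μ, 2 ≤ a) :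
    ∃ g : Perm (Fin k), g.cycleType = μ :=
  (Equiv.Perm.exists_with_cycleType_iff (α := Fin k)).mpr ⟨by simpa using hμ, hμ2⟩

theorem IsAtom2.extend {p m : ℕ} (hp : p.Prime) {μ₁ ν₁ : Multiset ℕ} (h : IsAtom2 p m μ₁ ν₁) (k : ℕ)
    (μ₂ ν₂ : Multiset ℕ) (hμ : μ₂.sum ≤ k) (hν : ν₂.sum ≤ k) (hμ2 : ∀ a ∈ μ₂, 2 ≤ a)
    (hν2 : ∀ a ∈ ν₂, 2 ≤ a) : IsAtom2 p (m + k) (μ₁ + μ₂) (ν₁ + ν₂) := by
  obtain ⟨u, w, o, hu, hw, ho, h1, h2⟩ := h
  obtain ⟨u₂, hu₂⟩ := exists_perm_cycleType k μ₂ hμ hμ2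
  obtain ⟨w₂, hw₂⟩ := exists_perm_cycleType k ν₂ hν hν2
  refine ⟨youngHom m k (u, u₂), youngHom m k (w, w₂), youngHom m k (o, 1), ?_, ?_, ?_, ?_, ?_⟩
  · rw [cycleType_youngHom, hu, hu₂]
  · rw [cycleType_youngHom, hw, hw₂]
  · rw [sign_youngHom, ho, Perm.sign_one, mul_one]
  · exact (PP_map_iff p (youngHom m k) (youngHom_injective m k) _ _).mpr (PP_prod p hp u₂ w₂ h1)
  · have e : youngHom m k (o, 1) * youngHom m k (w, w₂) * (youngHom m k (o, 1))⁻¹
        = youngHom m k (o * w * o⁻¹, w₂) := by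
      rw [← map_inv, ← map_mul, ← map_mul]
      congr 1
    rw [e]
    exact (PP_map_iff p (youngHom m k) (youngHom_injective m k) _ _).mpr (PP_prod p hp u₂ w₂ h2)

/-- from a model pair in one parity, when at least two further points are available -/
theorem isAtom2_of_model {p m : ℕ} (hp : p.Prime) {μ₁ ν₁ : Multiset ℕ} (u w : Perm (Fin m))
    (hu : u.cycleType = μ₁) (hw : w.cycleType = ν₁) (h : PP p u w) (k : ℕ) (hk : 2 ≤ k)
    (μ₂ ν₂ : Multiset ℕ) (hμ : μ₂.sum ≤ k) (hν : ν₂.sum ≤ k) (hμ2 : ∀ a ∈ μ₂, 2 ≤ a)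
    (hν2 : ∀ a ∈ ν₂, 2 ≤ a) : IsAtom2 p (m + k) (μ₁ + μ₂) (ν₁ + ν₂) := by
  obtain ⟨u₂, hu₂⟩ := exists_perm_cycleType k μ₂ hμ hμ2
  obtain ⟨w₂, hw₂⟩ := exists_perm_cycleType k ν₂ hν hν2
  set o₂ : Perm (Fin k) := swap ⟨0, by omega⟩ ⟨1, by omega⟩ with ho₂
  have ho₂s : Perm.sign o₂ = -1 := by
    rw [ho₂]
    apply Perm.sign_swap
    intro h01
    have := congrArg Fin.val h01
    simp at this
  refine ⟨youngHom m k (u, u₂), youngHom m k (w, w₂), youngHom m k (1, o₂), ?_, ?_, ?_, ?_, ?_⟩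
  · rw [cycleType_youngHom, hu, hu₂]
  · rw [cycleType_youngHom, hw, hw₂]
  · rw [sign_youngHom, ho₂s, Perm.sign_one, one_mul]
  · exact (PP_map_iff p (youngHom m k) (youngHom_injective m k) _ _).mpr (PP_prod p hp u₂ w₂ h)
  · have e : youngHom m k (1, o₂) * youngHom m k (w, w₂) * (youngHom m k (1, o₂))⁻¹
        = youngHom m k (w, o₂ * w₂ * o₂⁻¹) := by
      rw [← map_inv, ← map_mul, ← map_mul]
      congr 1
    rw [e]
    exact (PP_map_iff p (youngHom m k) (youngHom_injective m k) _ _).mpr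
      (PP_prod p hp u₂ (o₂ * w₂ * o₂⁻¹) h)

end Cfsg.Agent.Lib.Helper8.AltP
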