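import Mathlib
import Cfsg.Prelude.Def_Characters
import Cfsg.Agent.Lib.Helper8.BPS7
import Cfsg.Agent.Lib.Helper8.BPS14

set_option autoImplicit false

namespace Cfsg.Agent.Lib.Lead.BPJ

open Cfsg Cfsg.Agent.Lib.Helper8 Cfsg.Agent.Lib.Helper8.BPS

variable {G : Type*} [Group G] [Fintype G] [DecidableEq G]

/-- `ev χ (og u * cj t j) = ev χ (og (t⁻¹ u t) * j)` for a class function `χ`. -/
theorem ev_og_mul_cj {χ : G → ℂ} (hχ : IsClassFunction G χ) (u t : G) (j : GA G) :
    ev χ (og u * cj t j) = ev χ (og (t⁻¹ * u * t) * j) := by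
  have h : og u * cj t j = cj t (og (t⁻¹ * u * t) * j) := by
    rw [cj_mul, cj_og]
    congr 2
    group
  rw [h, ev_cj hχ]

/-- If `cj x j * j = 0` for `x ∈ Q ∖ R` then `ev χ (og w * j) = 0` for `w ∈ Q ∖ R`. -/
theorem ev_og_mul_eq_zero_of_orth {R Q : Subgroup G} {j : GA G} (hjj : j * j = j)
    (horth : ∀ x ∈ Q, x ∉ R → cj x j * j = 0) {χ : G → ℂ} (hχ : IsClassFunction G χ)
    {w : G} (hwQ : w ∈ Q) (hwR : w ∉ R) : ev χ (og w * j) = 0 := by
  have h1 : og w * j = (og w * j) * j := by rw [mul_assoc, hjj]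
  have h2 : j * (og w * j) = og w * (cj w⁻¹ j * j) := by
    unfold cj
    rw [inv_inv]
    simp only [← mul_assoc]
    rw [og_mul_inv, one_mul]
  have h3 : w⁻¹ ∉ R := fun h => hwR (by simpa using R.inv_mem h)
  rw [h1, ev_mul_comm hχ, h2, horth w⁻¹ (Q.inv_mem hwQ) h3, mul_zero, ev_zero]

set_option linter.unusedVariables false in
/-- (J) (the hypothesis `hjR` is not needed) -/
theorem ev_rtr_eq_indFun {R Q : Subgroup G} [Fintype Q] (hRQ : R ≤ Q) {j : GA G}
    (hjj : j * j = j)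
    (hjR : ∀ r ∈ R, cj r j = j) (horth : ∀ x ∈ Q, x ∉ R → cj x j * j = 0)
    {χ : G → ℂ} (hχ : IsClassFunction G χ) (u : Q) :
    ev χ (og (u : G) * rtr R Q j) =
      indFun (R.subgroupOf Q) (fun v : R.subgroupOf Q => ev χ (og ((v : Q) : G) * j)) u := by
  classical
  -- the left-hand side
  have hL : ev χ (og (u : G) * rtr R Q j) =
      (Nat.card R : ℂ)⁻¹ * ∑ t : G, if t ∈ Q then ev χ (og (t⁻¹ * (u : G) * t) * j) else 0 := by
    unfold rtr
    rw [mul_smul_comm, ev_smul, mul_sgSum]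
    unfold sgSum
    rw [ev_sum]
    congr 1
    refine Finset.sum_congr rfl fun t _ => ?_
    split_ifs
    · exact ev_og_mul_cj hχ _ _ _
    · exact ev_zero χ
  -- the right-hand side
  have hcard : Nat.card (R.subgroupOf Q) = Nat.card R :=
    Nat.card_congr (Subgroup.subgroupOfEquivOfLe hRQ).toEquiv
  have hR : indFun (R.subgroupOf Q) (fun v : R.subgroupOf Q => ev χ (og ((v : Q) : G) * j)) u =
      (Nat.card R : ℂ)⁻¹ * ∑ x : Q, ev χ (og ((x : G)⁻¹ * (u : G) * (x : G)) * j) := by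
    unfold indFun
    rw [hcard]
    congr 1
    refine Finset.sum_congr rfl fun x _ => ?_
    unfold extendByZero
    by_cases hx : x⁻¹ * u * x ∈ R.subgroupOf Q
    · have h1 : x⁻¹ * u * x = ((⟨x⁻¹ * u * x, hx⟩ : R.subgroupOf Q) : Q) := rfl
      rw [h1, Subtype.val_injective.extend_apply]
      rfl
    · rw [Function.extend_apply']
      · have hx' : ((x : G)⁻¹ * (u : G) * (x : G)) ∉ R := by
          intro h
          exact hx (Subgroup.mem_subgroupOf.2 (by simpa using h))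
        have hxQ : ((x : G)⁻¹ * (u : G) * (x : G)) ∈ Q :=
          Q.mul_mem (Q.mul_mem (Q.inv_mem x.2) u.2) x.2
        rw [ev_og_mul_eq_zero_of_orth hjj horth hχ hxQ hx']
        rfl
      · rintro ⟨v, hv⟩
        exact hx (by rw [← hv]; exact v.2)
  rw [hL, hR]
  congr 1
  rw [← Finset.sum_filter]
  exact Finset.sum_subtype (p := fun t => t ∈ Q) (F := ‹Fintype Q›)
    (Finset.univ.filter (fun t => t ∈ Q)) (by simp)
    (fun t => ev χ (og (t⁻¹ * (u : G) * t) * j))

end Cfsg.Agent.Lib.Lead.BPJ
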