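import Mathlib
import Cfsg.Prelude.Def_Characters
import Cfsg.Prelude.Def_Blocks
import Cfsg.Prelude.Def_BlockRank
import Cfsg.Prelude.Def_BrauerPairs
import Cfsg.Agent.Lib.Helper8.BPS18
import Cfsg.Agent.Lib.Helper8.BPS19
import Cfsg.Agent.Lib.Helper2.BPR1
import Cfsg.Agent.Lib.Lead.BPJ

/-!
# Carve-out (AL) of the Broué–Puig project, part 1: generic lemmas and the pieces
-/

set_option autoImplicit false
set_option linter.unusedSectionVars false

namespace Cfsg.Agent.Lib.Lead.BPAL

open Cfsg Cfsg.Agent.Lib.Helper8 Cfsg.Agent.Lib.Helper8.BPS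

section generic

variable {Λ : Type*} [Ring Λ]

/-- a sum of pairwise orthogonal idempotents is an idempotent -/
theorem sum_idem_of_orth {ι : Type*} [DecidableEq ι] (s : Finset ι) (a : ι → Λ)
    (hi : ∀ i ∈ s, a i * a i = a i) (ho : ∀ i ∈ s, ∀ j ∈ s, i ≠ j → a i * a j = 0) :
    (∑ i ∈ s, a i) * (∑ i ∈ s, a i) = ∑ i ∈ s, a i := by
  rw [Finset.sum_mul_sum]
  refine Finset.sum_congr rfl fun i hi' => ?_
  rw [Finset.sum_eq_single i]
  · exact hi i hi'
  · intro j hj hji
    exact ho i hi' j hj (Ne.symm hji)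
  · intro h
    exact absurd hi' h

theorem mul_list_sum_eq_zero (l : List Λ) (a : Λ) (h : ∀ b ∈ l, a * b = 0) : a * l.sum = 0 := by
  induction l with
  | nil => simp
  | cons b l ih =>
    rw [List.sum_cons, mul_add, h b (List.mem_cons_self), zero_add]
    exact ih fun c hc => h c (List.mem_cons_of_mem _ hc)

theorem list_sum_mul_eq_zero (l : List Λ) (a : Λ) (h : ∀ b ∈ l, b * a = 0) : l.sum * a = 0 := by
  induction l with
  | nil => simp
  | cons b l ih =>
    rw [List.sum_cons, add_mul, h b (List.mem_cons_self), zero_add]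
    exact ih fun c hc => h c (List.mem_cons_of_mem _ hc)

/-- a list sum of pairwise orthogonal idempotents is an idempotent -/
theorem list_sum_idem (l : List Λ) (hi : ∀ a ∈ l, a * a = a)
    (ho : l.Pairwise (fun a b => a * b = 0 ∧ b * a = 0)) : l.sum * l.sum = l.sum := by
  induction l with
  | nil => simp
  | cons a l ih =>
    rw [List.pairwise_cons] at ho
    have h1 : a * l.sum = 0 := mul_list_sum_eq_zero l a fun b hb => (ho.1 b hb).1
    have h2 : l.sum * a = 0 := list_sum_mul_eq_zero l a fun b hb => (ho.1 b hb).2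
    have h3 := ih (fun b hb => hi b (List.mem_cons_of_mem _ hb)) ho.2
    rw [List.sum_cons, mul_add, add_mul, add_mul, hi a (List.mem_cons_self), h1, h2, h3,
      add_zero, zero_add]

end generic

section piece

variable {M : Ideal AlgInt} {p : ℕ} {G : Type*} [Group G] [Fintype G] [DecidableEq G]

/-- `y` carries `⟨u⟩` into `R` iff `y⁻¹ u y ∈ R` -/
theorem carries_zpowers_iff (u : G) (R : Subgroup G) (y : G) :
    Carries (Subgroup.zpowers u) R y ↔ y⁻¹ * u * y ∈ R := by
  constructor
  · intro h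
    exact h u (Subgroup.mem_zpowers u)
  · intro h x hx
    obtain ⟨n, rfl⟩ := Subgroup.mem_zpowers_iff.1 hx
    have e : y⁻¹ * u ^ n * y = (y⁻¹ * u * y) ^ n := by
      have h1 : y⁻¹ * u ^ n * y = (MulAut.conj y⁻¹) (u ^ n) := by
        rw [MulAut.conj_apply, inv_inv]
      have h2 : y⁻¹ * u * y = (MulAut.conj y⁻¹) u := by
        rw [MulAut.conj_apply, inv_inv]
      rw [h1, h2, map_zpow]
    rw [e]
    exact R.zpow_mem h n

/-- the averaged sum of the conjugates `cj y j` over the `y` satisfying `c` -/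
noncomputable def Jsum (R : Subgroup G) (c : G → Prop) [DecidablePred c] (j : GA G) : GA G :=
  (Nat.card R : ℂ)⁻¹ • ∑ y : G, if c y then cj y j else 0

theorem Jsum_eq_sum_quotient (R : Subgroup G) [Fintype (G ⧸ R)] (c : G → Prop) [DecidablePred c]
    {j : GA G} (hcR : ∀ y : G, ∀ r ∈ R, c (y * r) ↔ c y) (hjR : ∀ r ∈ R, cj r j = j) :
    Jsum R c j = ∑ q : G ⧸ R, if c (Quotient.out q) then cj (Quotient.out q) j else 0 := by
  unfold Jsum
  apply smul_sum_eq_sum_quotient R (fun y => if c y then cj y j else 0)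
  intro y r hr
  rw [if_congr (hcR y r hr) rfl rfl, ← cj_cj, hjR r hr]

theorem out_inv_mul_out_not_mem (R : Subgroup G) {q q' : G ⧸ R} (h : q ≠ q') :
    (Quotient.out q)⁻¹ * Quotient.out q' ∉ R := by
  intro hmem
  apply h
  have := (QuotientGroup.eq (s := R) (a := Quotient.out q) (b := Quotient.out q')).2 hmem
  rwa [QuotientGroup.out_eq', QuotientGroup.out_eq'] at this

theorem Jsum_idem {R Q : Subgroup G} (c : G → Prop) [DecidablePred c] {j : GA G}
    (hcQ : ∀ y, c y → y ∈ Q) (hcR : ∀ y : G, ∀ r ∈ R, c (y * r) ↔ c y)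
    (hjR : ∀ r ∈ R, cj r j = j) (hjj : j * j = j)
    (horth : ∀ x ∈ Q, x ∉ R → cj x j * j = 0) :
    Jsum R c j * Jsum R c j = Jsum R c j := by
  classical
  have : Fintype (G ⧸ R) := Fintype.ofFinite _
  rw [Jsum_eq_sum_quotient R c hcR hjR]
  apply sum_idem_of_orth
  · intro q _
    split_ifs
    · rw [← cj_mul, hjj]
    · rw [mul_zero]
  · intro q _ q' _ hqq'
    split_ifs with h1 h2
    · have h3 : (Quotient.out q)⁻¹ * Quotient.out q' ∈ Q :=
        Q.mul_mem (Q.inv_mem (hcQ _ h1)) (hcQ _ h2)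
      have h4 := Cfsg.Agent.Lib.Helper2.BPR.mul_cj_eq_zero horth _ h3
        (out_inv_mul_out_not_mem R hqq')
      have h5 : cj (Quotient.out q) j * cj (Quotient.out q') j =
          cj (Quotient.out q) (j * cj ((Quotient.out q)⁻¹ * Quotient.out q') j) := by
        rw [cj_mul, cj_cj, mul_inv_cancel_left]
      rw [h5, h4, cj_zero]
    · rw [mul_zero]
    · rw [zero_mul]
    · rw [zero_mul]

theorem corner_Jsum {R Q : Subgroup G} (hRQ : R ≤ Q) (c : G → Prop) [DecidablePred c] {j : GA G}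
    (hcQ : ∀ y, c y → y ∈ Q) (hjR : ∀ r ∈ R, cj r j = j) (hjj : j * j = j)
    (horth : ∀ x ∈ Q, x ∉ R → cj x j * j = 0) :
    Corner (rtr R Q j) (Jsum R c j) := by
  have h1 : ∀ y, c y → rtr R Q j * cj y j = cj y j := by
    intro y hy
    have h2 : rtr R Q j * cj y j = cj y (rtr R Q j * j) := by
      rw [cj_mul, cj_rtr R Q (hcQ y hy)]
    rw [h2, Cfsg.Agent.Lib.Helper2.BPR.rtr_self_mul hRQ hjj hjR horth]
  have h1' : ∀ y, c y → cj y j * rtr R Q j = cj y j := by
    intro y hy
    have h2 : cj y j * rtr R Q j = cj y (j * rtr R Q j) := by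
      rw [cj_mul, cj_rtr R Q (hcQ y hy)]
    rw [h2, Cfsg.Agent.Lib.Helper2.BPR.mul_rtr_self hRQ hjj hjR horth]
  constructor
  · unfold Jsum
    rw [mul_smul_comm, Finset.mul_sum]
    congr 1
    refine Finset.sum_congr rfl fun y _ => ?_
    split_ifs with h
    · exact h1 y h
    · rw [mul_zero]
  · unfold Jsum
    rw [smul_mul_assoc, Finset.sum_mul]
    congr 1
    refine Finset.sum_congr rfl fun y _ => ?_
    split_ifs with h
    · exact h1' y h
    · rw [zero_mul]

theorem Jsum_mem_fixedRing (hMp : M.IsPrime) {R S : Subgroup G} (c : G → Prop) [DecidablePred c]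
    {j : GA G} (hcR : ∀ y : G, ∀ r ∈ R, c (y * r) ↔ c y)
    (hcS : ∀ y : G, ∀ s ∈ S, c (s * y) ↔ c y)
    (hj : j ∈ fixedRing M hMp R) : Jsum R c j ∈ fixedRing M hMp S := by
  classical
  have : Fintype (G ⧸ R) := Fintype.ofFinite _
  constructor
  · intro g
    rw [Jsum_eq_sum_quotient R c hcR hj.2, coeff_sum']
    apply memLocalRing_sum hMp
    intro q _
    split_ifs
    · exact cj_mem_coeff hj.1 _ g
    · simpa using memLocalRing_zero hMp.ne_top
  · intro s hs
    unfold Jsum
    rw [cj_smul, cj_sum]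
    congr 1
    conv_rhs => rw [← Equiv.sum_comp (Equiv.mulLeft s)]
    refine Finset.sum_congr rfl fun y _ => ?_
    rw [Equiv.coe_mulLeft, if_congr (hcS y s hs) rfl rfl]
    split_ifs
    · rw [cj_cj]
    · rw [cj_zero]

theorem Jsum_congr (R : Subgroup G) (c c' : G → Prop) [DecidablePred c] [DecidablePred c']
    (j : GA G) (h : ∀ y, c y ↔ c' y) : Jsum R c j = Jsum R c' j := by
  unfold Jsum
  congr 1
  exact Finset.sum_congr rfl fun y _ => if_congr (h y) rfl rfl

theorem ev_og_mul_Jsum {χ : G → ℂ} (hχ : IsClassFunction G χ) (u : G) (R : Subgroup G)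
    (c : G → Prop) [DecidablePred c] (j : GA G) :
    ev χ (og u * Jsum R c j) =
      (Nat.card R : ℂ)⁻¹ * ∑ y : G, if c y then ev χ (og (y⁻¹ * u * y) * j) else 0 := by
  unfold Jsum
  rw [mul_smul_comm, ev_smul, Finset.mul_sum, ev_sum]
  congr 1
  refine Finset.sum_congr rfl fun y _ => ?_
  split_ifs
  · exact Cfsg.Agent.Lib.Lead.BPJ.ev_og_mul_cj hχ u y j
  · rw [mul_zero, ev_zero]

theorem ev_list_sum (χ : G → ℂ) (l : List (GA G)) :
    ev χ l.sum = (l.map (ev χ)).sum := by
  induction l with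
  | nil => simp [ev_zero]
  | cons a l ih => rw [List.sum_cons, ev_add, ih, List.map_cons, List.sum_cons]

/-- congruences can be added along a list -/
theorem cong_list_sum {Λ : Type*} [Ring Λ] {T : Subring Λ} {K : Set Λ} (hK : IsIdealOf T K)
    {α : Type*} (L : List α) (A B : α → Λ) (h : ∀ m ∈ L, Cong K (A m) (B m)) :
    Cong K (L.map A).sum (L.map B).sum := by
  induction L with
  | nil => simpa using hK.cong_refl 0
  | cons a L ih =>
    rw [List.map_cons, List.map_cons, List.sum_cons, List.sum_cons]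
    exact hK.cong_add (h a List.mem_cons_self) (ih fun m hm => h m (List.mem_cons_of_mem _ hm))

/-- congruences can be added along a finset -/
theorem cong_finset_sum {Λ : Type*} [Ring Λ] {T : Subring Λ} {K : Set Λ} (hK : IsIdealOf T K)
    {ι : Type*} (s : Finset ι) (A B : ι → Λ) (h : ∀ i ∈ s, Cong K (A i) (B i)) :
    Cong K (∑ i ∈ s, A i) (∑ i ∈ s, B i) := by
  classical
  induction s using Finset.induction_on with
  | empty => simpa using hK.cong_refl 0
  | insert a s ha ih =>
    rw [Finset.sum_insert ha, Finset.sum_insert ha]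
    exact hK.cong_add (h a (Finset.mem_insert_self a s))
      (ih fun i hi => h i (Finset.mem_insert_of_mem hi))

end piece

end Cfsg.Agent.Lib.Lead.BPAL
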