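import Mathlib
import Cfsg.Agent.Lib.Lead.BPAL1

/-!
# Carve-out (AL) of the Broué–Puig project, part 2: the condition, the congruence, the assembly
-/

set_option autoImplicit false
set_option linter.unusedSectionVars false

namespace Cfsg.Agent.Lib.Lead.BPAL

open Cfsg Cfsg.Agent.Lib.Helper8 Cfsg.Agent.Lib.Helper8.BPS

universe u

variable {M : Ideal AlgInt} {p : ℕ} {G : Type u} [Group G] [Fintype G] [DecidableEq G]

/-- the condition selecting the conjugates `cj y j` which are `⟨u⟩`-fixed and belong to `b` -/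
def cnd (hMp : M.IsPrime) (Q R : Subgroup G) (u : G) (b : Set (IrrCharacter ↥(cent u)))
    (j : GA G) (y : G) : Prop :=
  y ∈ Q ∧ y⁻¹ * u * y ∈ R ∧ Bel M hMp (Subgroup.zpowers u) b (cj y j)

theorem cj_mul_of_mem {R : Subgroup G} {j : GA G} (hjR : ∀ r ∈ R, cj r j = j) (y : G) {r : G}
    (hr : r ∈ R) : cj (y * r) j = cj y j := by
  rw [← cj_cj, hjR r hr]

theorem cj_mul_left_of_carries {R : Subgroup G} {j : GA G} (hjR : ∀ r ∈ R, cj r j = j) {y s : G}
    (h : y⁻¹ * s * y ∈ R) : cj (s * y) j = cj y j := by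
  have e : s * y = y * (y⁻¹ * s * y) := by group
  rw [e, cj_mul_of_mem hjR y h]

theorem cnd_mul_right (hMp : M.IsPrime) {Q R : Subgroup G} (hRQ : R ≤ Q) (u : G)
    (b : Set (IrrCharacter ↥(cent u))) {j : GA G} (hjR : ∀ r ∈ R, cj r j = j) (y : G) {r : G}
    (hr : r ∈ R) : cnd hMp Q R u b j (y * r) ↔ cnd hMp Q R u b j y := by
  unfold cnd
  rw [Subgroup.mul_mem_cancel_right Q (hRQ hr), cj_mul_of_mem hjR y hr]
  have e : (y * r)⁻¹ * u * (y * r) = r⁻¹ * (y⁻¹ * u * y) * r := by group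
  rw [e]
  have h1 : r⁻¹ * (y⁻¹ * u * y) * r ∈ R ↔ y⁻¹ * u * y ∈ R := by
    constructor
    · intro h
      have := R.mul_mem (R.mul_mem hr h) (R.inv_mem hr)
      have e2 : r * (r⁻¹ * (y⁻¹ * u * y) * r) * r⁻¹ = y⁻¹ * u * y := by group
      rwa [e2] at this
    · intro h
      exact R.mul_mem (R.mul_mem (R.inv_mem hr) h) hr
  rw [h1]

theorem cnd_mul_left (hMp : M.IsPrime) {Q R : Subgroup G} {u : G} (hu : u ∈ Q)
    (b : Set (IrrCharacter ↥(cent u))) {j : GA G} (hjR : ∀ r ∈ R, cj r j = j) (y : G) {s : G}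
    (hs : s ∈ Subgroup.zpowers u) : cnd hMp Q R u b j (s * y) ↔ cnd hMp Q R u b j y := by
  unfold cnd
  have hsQ : s ∈ Q := (Subgroup.zpowers_le.2 hu) hs
  rw [Subgroup.mul_mem_cancel_left Q hsQ]
  have hcomm : s⁻¹ * u * s = u := by
    obtain ⟨n, rfl⟩ := Subgroup.mem_zpowers_iff.1 hs
    have : Commute (u ^ n) u := (Commute.refl u).zpow_left n
    rw [mul_assoc, ← this.eq, inv_mul_cancel_left]
  have e : (s * y)⁻¹ * u * (s * y) = y⁻¹ * (s⁻¹ * u * s) * y := by group
  rw [e, hcomm]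
  constructor
  · rintro ⟨h1, h2, h3⟩
    refine ⟨h1, h2, ?_⟩
    rwa [cj_mul_left_of_carries hjR ((carries_zpowers_iff u R y).2 h2 s hs)] at h3
  · rintro ⟨h1, h2, h3⟩
    refine ⟨h1, h2, ?_⟩
    rwa [cj_mul_left_of_carries hjR ((carries_zpowers_iff u R y).2 h2 s hs)]

open Classical in
/-- the key congruence: `Tr_R^Q(j) e_b ≡ J` modulo `ker Br_u` -/
theorem rtr_mul_bidem_cong [Fact p.Prime] (hM : IsPModular p M) {Q R : Subgroup G}
    (hQ : IsPGroup p Q) (hRQ : R ≤ Q) {u : G} (hu : u ∈ Q) {j : GA G}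
    (hj : j ∈ fixedRing M (isPModular_isPrime hM) R)
    (hbel : ∀ y ∈ Q, y⁻¹ * u * y ∈ R →
      ∃ b' : Set (IrrCharacter ↥(cent u)), IsPBlock M b' ∧
        Bel M (isPModular_isPrime hM) (Subgroup.zpowers u) b' (cj y j))
    {b : Set (IrrCharacter ↥(cent u))} (hb : IsPBlock M b) :
    Cong (KBr M (isPModular_isPrime hM) (Subgroup.zpowers u))
      (rtr R Q j * bidem (cent u) b)
      (Jsum R (cnd (isPModular_isPrime hM) Q R u b j) j) := by
  have hMp := isPModular_isPrime hM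
  have : Fintype (G ⧸ R) := Fintype.ofFinite _
  have hSQ : Subgroup.zpowers u ≤ Q := Subgroup.zpowers_le.2 hu
  have hS : IsPGroup p (Subgroup.zpowers u) := hQ.to_le hSQ
  have hKi := KBr_isIdeal hM (Subgroup.zpowers u) hS
  have heT : bidem (cent u) b ∈ fixedRing M hMp (Subgroup.zpowers u) :=
    bidem_mem_fixedRing hMp (Subgroup.zpowers u) hb
  -- step 1: replace the relative trace by its good part
  have step1 : Cong (KBr M hMp (Subgroup.zpowers u)) (rtr R Q j * bidem (cent u) b)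
      (gtr (Subgroup.zpowers u) R Q j * bidem (cent u) b) :=
    hKi.cong_mul_right _ heT (rtr_sub_gtr_mem_KBr hM hS hSQ hRQ hj)
  refine hKi.cong_trans step1 ?_
  -- step 2: quotient forms
  rw [gtr_eq_sum_quotient (Subgroup.zpowers u) hRQ hj.2,
    Jsum_eq_sum_quotient R _ (fun y r hr => cnd_mul_right hMp hRQ u b hj.2 y hr) hj.2,
    Finset.sum_mul]
  apply cong_finset_sum hKi
  intro q _
  by_cases h0 : Quotient.out q ∈ Q ∧ Carries (Subgroup.zpowers u) R (Quotient.out q)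
  · rw [if_pos h0]
    have h1 : (Quotient.out q)⁻¹ * u * Quotient.out q ∈ R :=
      (carries_zpowers_iff u R _).1 h0.2
    by_cases hB : Bel M hMp (Subgroup.zpowers u) b (cj (Quotient.out q) j)
    · rw [if_pos (show cnd hMp Q R u b j (Quotient.out q) from ⟨h0.1, h1, hB⟩)]
      exact hKi.cong_symm hB
    · rw [if_neg (show ¬ cnd hMp Q R u b j (Quotient.out q) from fun h => hB h.2.2)]
      obtain ⟨b', hb', hBb'⟩ := hbel _ h0.1 h1
      have hne : b' ≠ b := by
        rintro rfl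
        exact hB hBb'
      rw [cong_zero_iff]
      exact Bel.mul_bidem_mem hM hS hb' hb hne hBb'
  · rw [if_neg h0, zero_mul]
    have h1 : ¬ cnd hMp Q R u b j (Quotient.out q) := by
      rintro ⟨h1, h2, -⟩
      exact h0 ⟨h1, (carries_zpowers_iff u R _).2 h2⟩
    rw [if_neg h1]
    exact hKi.cong_refl 0

end Cfsg.Agent.Lib.Lead.BPAL
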