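import Mathlib
import Cfsg.Agent.Lib.Lead.BPAL2

/-!
# Carve-out (AL) of the Broué–Puig project, part 3: the assembly lemma
-/

set_option autoImplicit false
set_option linter.unusedSectionVars false

namespace Cfsg.Agent.Lib.Lead.BPAL

open Cfsg Cfsg.Agent.Lib.Helper8 Cfsg.Agent.Lib.Helper8.BPS

universe u

variable {M : Ideal AlgInt} {p : ℕ} {G : Type u} [Group G] [Fintype G] [DecidableEq G]

open Classical in
/-- (AL) the assembly lemma: Mackey decomposition + rigidity -/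
theorem ev_idem_bidem_eq_sum [Fact p.Prime] (hM : IsPModular p M) {Q : Subgroup G}
    (hQ : IsPGroup p Q) {ε : GA G} (hε : ε ∈ fixedRing M (isPModular_isPrime hM) Q)
    (hεε : ε * ε = ε) {u : G} (hu : u ∈ Q)
    (hcomm : ∀ b : Set (IrrCharacter ↥(cent u)), ε * bidem (cent u) b = bidem (cent u) b * ε)
    (L : List (Subgroup G × GA G))
    (hL : ∀ m ∈ L, m.1 ≤ Q ∧ Prim (fixedRing M (isPModular_isPrime hM) m.1) m.2 ∧
        m.2 ∉ KBr M (isPModular_isPrime hM) m.1 ∧ (∀ x ∈ Q, x ∉ m.1 → cj x m.2 * m.2 = 0) ∧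
        Corner ε m.2)
    (hLo : L.Pairwise (fun m m' => rtr m.1 Q m.2 * rtr m'.1 Q m'.2 = 0 ∧
        rtr m'.1 Q m'.2 * rtr m.1 Q m.2 = 0))
    (hLs : ε = (L.map fun m => rtr m.1 Q m.2).sum)
    (hbel : ∀ m ∈ L, ∀ y ∈ Q, y⁻¹ * u * y ∈ m.1 →
      ∃ b' : Set (IrrCharacter ↥(cent u)), IsPBlock M b' ∧
        Bel M (isPModular_isPrime hM) (Subgroup.zpowers u) b' (cj y m.2))
    {b : Set (IrrCharacter ↥(cent u))} (hb : IsPBlock M b)
    {χ : G → ℂ} (hχ : IsClassFunction G χ) :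
    ev χ (og u * ε * bidem (cent u) b) =
      (L.map fun m => (Nat.card m.1 : ℂ)⁻¹ * ∑ y : G,
        (if y ∈ Q ∧ y⁻¹ * u * y ∈ m.1 ∧
            Bel M (isPModular_isPrime hM) (Subgroup.zpowers u) b (cj y m.2)
          then ev χ (og (y⁻¹ * u * y) * m.2) else 0)).sum := by
  have hMp := isPModular_isPrime hM
  have hSQ : Subgroup.zpowers u ≤ Q := Subgroup.zpowers_le.2 hu
  have hS : IsPGroup p (Subgroup.zpowers u) := hQ.to_le hSQ
  have hu' : ∃ k : ℕ, orderOf u = p ^ k := by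
    obtain ⟨k, hk⟩ := IsPGroup.iff_orderOf.1 hQ ⟨u, hu⟩
    exact ⟨k, by rw [← hk, Subgroup.orderOf_mk]⟩
  have hKi := KBr_isIdeal hM (Subgroup.zpowers u) hS
  have heT : bidem (cent u) b ∈ fixedRing M hMp (Subgroup.zpowers u) :=
    bidem_mem_fixedRing hMp (Subgroup.zpowers u) hb
  -- the pieces
  set J : Subgroup G × GA G → GA G := fun m => Jsum m.1 (cnd hMp Q m.1 u b m.2) m.2 with hJ
  have hcQ : ∀ m : Subgroup G × GA G, ∀ y, cnd hMp Q m.1 u b m.2 y → y ∈ Q := fun m y h => h.1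
  have hJT : ∀ m ∈ L, J m ∈ fixedRing M hMp (Subgroup.zpowers u) := by
    intro m hm
    obtain ⟨h1, h2, -, -, -⟩ := hL m hm
    exact Jsum_mem_fixedRing hMp _ (fun y r hr => cnd_mul_right hMp h1 u b h2.1.2 y hr)
      (fun y s hs => cnd_mul_left hMp hu b h2.1.2 y hs) h2.1
  have hJJ : ∀ m ∈ L, J m * J m = J m := by
    intro m hm
    obtain ⟨h1, h2, -, h4, -⟩ := hL m hm
    exact Jsum_idem _ (hcQ m) (fun y r hr => cnd_mul_right hMp h1 u b h2.1.2 y hr) h2.1.2
      h2.2.1 h4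
  have hJc : ∀ m ∈ L, Corner (rtr m.1 Q m.2) (J m) := by
    intro m hm
    obtain ⟨h1, h2, -, h4, -⟩ := hL m hm
    exact corner_Jsum h1 _ (hcQ m) h2.1.2 h2.2.1 h4
  have hJK : ∀ m ∈ L, Cong (KBr M hMp (Subgroup.zpowers u))
      (rtr m.1 Q m.2 * bidem (cent u) b) (J m) := by
    intro m hm
    obtain ⟨h1, h2, -, -, -⟩ := hL m hm
    exact rtr_mul_bidem_cong hM hQ h1 hu h2.1 (hbel m hm) hb
  -- the two idempotents
  have hf'T : (L.map J).sum ∈ fixedRing M hMp (Subgroup.zpowers u) := by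
    apply list_sum_mem
    intro x hx
    obtain ⟨m, hm, rfl⟩ := List.mem_map.1 hx
    exact hJT m hm
  have hf'f' : (L.map J).sum * (L.map J).sum = (L.map J).sum := by
    apply list_sum_idem
    · intro x hx
      obtain ⟨m, hm, rfl⟩ := List.mem_map.1 hx
      exact hJJ m hm
    · rw [List.pairwise_map]
      refine List.Pairwise.imp_of_mem ?_ hLo
      intro m m' hm hm' h
      have c1 := hJc m hm
      have c2 := hJc m' hm'
      constructor
      · calc J m * J m' = (J m * rtr m.1 Q m.2) * (rtr m'.1 Q m'.2 * J m') := by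
              rw [c1.2, c2.1]
          _ = J m * (rtr m.1 Q m.2 * rtr m'.1 Q m'.2) * J m' := by simp only [mul_assoc]
          _ = 0 := by rw [h.1, mul_zero, zero_mul]
      · calc J m' * J m = (J m' * rtr m'.1 Q m'.2) * (rtr m.1 Q m.2 * J m) := by
              rw [c2.2, c1.1]
          _ = J m' * (rtr m'.1 Q m'.2 * rtr m.1 Q m.2) * J m := by simp only [mul_assoc]
          _ = 0 := by rw [h.2, mul_zero, zero_mul]
  have hfT : ε * bidem (cent u) b ∈ fixedRing M hMp (Subgroup.zpowers u) :=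
    Subring.mul_mem _ (fixedRing_mono hMp hSQ hε) heT
  have hff : ε * bidem (cent u) b * (ε * bidem (cent u) b) = ε * bidem (cent u) b := by
    calc ε * bidem (cent u) b * (ε * bidem (cent u) b)
        = ε * (bidem (cent u) b * ε) * bidem (cent u) b := by simp only [mul_assoc]
      _ = ε * (ε * bidem (cent u) b) * bidem (cent u) b := by rw [hcomm b]
      _ = (ε * ε) * (bidem (cent u) b * bidem (cent u) b) := by simp only [mul_assoc]
      _ = ε * bidem (cent u) b := by rw [hεε, bidem_idem]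
  have hK : ε * bidem (cent u) b - (L.map J).sum ∈ KBr M hMp (Subgroup.zpowers u) := by
    have h1 : ε * bidem (cent u) b =
        (L.map fun m => rtr m.1 Q m.2 * bidem (cent u) b).sum := by
      conv_lhs => rw [hLs]
      rw [List.sum_map_mul_right]
    rw [h1]
    exact cong_list_sum hKi L _ _ hJK
  have key := ev_og_mul_congr hM hu' hfT hf'T hff hf'f' hK hχ
  rw [mul_assoc, key, ← List.sum_map_mul_left, ev_list_sum, List.map_map]
  congr 1
  apply List.map_congr_left
  intro m _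
  rw [Function.comp_apply, hJ, ev_og_mul_Jsum hχ]
  congr 1
  exact Finset.sum_congr rfl fun y _ => if_congr Iff.rfl rfl rfl

end Cfsg.Agent.Lib.Lead.BPAL
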