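import Mathlib
import Cfsg.Prelude.Def_Characters
import Cfsg.Agent.Lib.Helper4.Characters
import Cfsg.Agent.Lib.Helper1.CharFound3
import Cfsg.Agent.Lib.Helper1.CharFound6
import Cfsg.Agent.Lib.Helper1.CharFound7
import Cfsg.Agent.Lib.Lead.BPK

set_option autoImplicit false

namespace Cfsg.Agent.Lib.Lead

open Cfsg Cfsg.Agent.Lib.Helper1 Cfsg.Agent.Lib.Helper4
open scoped ComplexConjugate

universe u

/-- Pulling back a class function along a homomorphism gives a class function. -/
theorem isClassFunction_comp_hom {R D : Type*} [Group R] [Group D] (c : R →* D) {η : D → ℂ}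
    (hη : IsClassFunction D η) : IsClassFunction R (fun v => η (c v)) := by
  intro v h
  show η (c (h * v * h⁻¹)) = η (c v)
  rw [map_mul, map_mul, map_inv]
  exact hη _ _

/-- If all the multiplicities `⟨η, ψ⟩` lie in `S`, so do the multiplicities of the pull-back of
`η` along a homomorphism. -/
theorem classInner_comp_hom_mem {R D : Type u} [Group R] [Fintype R] [Group D] [Fintype D]
    (c : R →* D) (S : AddSubgroup ℂ) (η : D → ℂ) (hη : IsClassFunction D η)
    (hS : ∀ ψ : IrrCharacter D, classInner η (ψ : D → ℂ) ∈ S)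
    (χ : R → ℂ) (hχ : IsCharacter R χ) :
    classInner (fun v => η (c v)) χ ∈ S := by
  classical
  have : Fintype (IrrCharacter D) := Fintype.ofFinite _
  have hexp := class_function_expansion η hη
  have h1 : (fun v => η (c v)) =
      ∑ ψ : IrrCharacter D, classInner η (ψ : D → ℂ) • (fun v => (ψ : D → ℂ) (c v)) := by
    funext v
    have h2 := congrFun hexp (c v)
    rw [Finset.sum_apply] at h2
    rw [Finset.sum_apply]
    conv_lhs => rw [h2]
    refine Finset.sum_congr rfl fun ψ _ => ?_
    simp only [Pi.smul_apply, smul_eq_mul]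
  rw [h1, classInner_sum_left]
  choose m hm using fun ψ : IrrCharacter D =>
    classInner_char_nat (isCharacter_comp_hom (isCharacter_of_irr ψ.2) c) hχ
  have h3 : ∀ ψ : IrrCharacter D,
      classInner (classInner η (ψ : D → ℂ) • (fun v => (ψ : D → ℂ) (c v))) χ =
        classInner η (ψ : D → ℂ) * (m ψ : ℂ) := by
    intro ψ
    rw [classInner_smul_left, hm ψ]
  rw [Finset.sum_congr rfl fun ψ _ => h3 ψ]
  exact sum_mul_nat_mem _ S _ _ fun ψ _ => hS ψ

/-- Conjugation by `g` as a homomorphism `R →* D` when `g R g⁻¹ ≤ D`. -/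
def conjHomInto {G : Type*} [Group G] (D R : Subgroup G) (g : G)
    (hg : ∀ v ∈ R, g * v * g⁻¹ ∈ D) : R →* D where
  toFun v := ⟨g * (v : G) * g⁻¹, hg v v.2⟩
  map_one' := by
    apply Subtype.ext
    simp
  map_mul' a b := by
    apply Subtype.ext
    simp [mul_assoc]

/-- (K2) -/
theorem classInner_conj_restrict_mem {G : Type*} [Group G] [Fintype G] (D R : Subgroup G)
    [Fintype D] [Fintype R] (S : AddSubgroup ℂ) (η : D → ℂ) (hη : IsClassFunction D η)
    (hS : ∀ ψ : IrrCharacter D, classInner η (ψ : D → ℂ) ∈ S) (g : G)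
    (hg : ∀ v ∈ R, g * v * g⁻¹ ∈ D) :
    IsClassFunction R (fun v : R => η ⟨g * (v : G) * g⁻¹, hg v v.2⟩) ∧
      ∀ ξ : IrrCharacter R,
        classInner (fun v : R => η ⟨g * (v : G) * g⁻¹, hg v v.2⟩) (ξ : R → ℂ) ∈ S := by
  refine ⟨isClassFunction_comp_hom (conjHomInto D R g hg) hη, fun ξ => ?_⟩
  exact classInner_comp_hom_mem (conjHomInto D R g hg) S η hη hS _ (isCharacter_of_irr ξ.2)

end Cfsg.Agent.Lib.Lead
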