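import Mathlib
import Cfsg.Prelude.Def_Characters

set_option autoImplicit false

namespace Cfsg.Agent.Lib.Lead

/-- The trace of the action of an element of the group algebra is the linear extension of the
character. -/
theorem trace_asAlgebraHom {G : Type*} [Group G] [Fintype G] {V : Type*} [AddCommGroup V]
    [Module ℂ V] [FiniteDimensional ℂ V] (ρ : Representation ℂ G V) (a : MonoidAlgebra ℂ G) :
    LinearMap.trace ℂ V (ρ.asAlgebraHom a) = ∑ g : G, a.coeff g * ρ.character g := by
  classical
  rw [Representation.asAlgebraHom_def, MonoidAlgebra.lift_apply,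
    Finsupp.sum_fintype _ _ (fun g => by simp), map_sum]
  refine Finset.sum_congr rfl fun g _ => ?_
  rw [map_smul, smul_eq_mul]
  rfl

/-- Trace of `f ∘ e` for an idempotent `e` commuting with `f`: it is the trace of the map induced
by `f` on the range of `e`. -/
theorem trace_comp_idem {V : Type*} [AddCommGroup V] [Module ℂ V] [FiniteDimensional ℂ V]
    (f e : V →ₗ[ℂ] V) (he : e ∘ₗ e = e) (hfe : f ∘ₗ e = e ∘ₗ f)
    (hW : ∀ x ∈ LinearMap.range e, f x ∈ LinearMap.range e) :
    LinearMap.trace ℂ V (f ∘ₗ e) = LinearMap.trace ℂ (LinearMap.range e) (f.restrict hW) := by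
  have h1 : f ∘ₗ e = (f ∘ₗ (LinearMap.range e).subtype) ∘ₗ e.rangeRestrict := by
    ext x
    simp
  have h2 : f.restrict hW = e.rangeRestrict ∘ₗ (f ∘ₗ (LinearMap.range e).subtype) := by
    ext ⟨w, hw⟩
    obtain ⟨v, rfl⟩ := hw
    have h3 : e (f (e v)) = f (e v) := by
      have := LinearMap.congr_fun hfe (e v)
      simp only [LinearMap.comp_apply] at this
      rw [← this]
      have h4 := LinearMap.congr_fun he v
      simp only [LinearMap.comp_apply] at h4
      rw [h4]
    simp [LinearMap.restrict_apply, h3]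
  rw [h1, h2, LinearMap.trace_comp_comm']

/-- Cutting a character with an idempotent of the group algebra commuting with a subgroup `R`:
the function `u ↦ χ (u * j)` (linear extension of `χ`) is a character of `R`. -/
theorem isCharacter_idem_cut {G : Type*} [Group G] [Fintype G] (R : Subgroup G) (χ : G → ℂ)
    (hχ : Cfsg.IsCharacter G χ) (j : MonoidAlgebra ℂ G) (hj : j * j = j)
    (hR : ∀ u ∈ R, MonoidAlgebra.of ℂ G u * j = j * MonoidAlgebra.of ℂ G u) :
    Cfsg.IsCharacter R (fun u : R => ∑ g : G, (MonoidAlgebra.of ℂ G (u : G) * j).coeff g * χ g) := by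
  classical
  obtain ⟨n, ρ, rfl⟩ := hχ
  let e : (Fin n → ℂ) →ₗ[ℂ] (Fin n → ℂ) := ρ.asAlgebraHom j
  have he : e ∘ₗ e = e := by
    show ρ.asAlgebraHom j * ρ.asAlgebraHom j = ρ.asAlgebraHom j
    rw [← map_mul, hj]
  have hcomm : ∀ u ∈ R, ρ u ∘ₗ e = e ∘ₗ ρ u := by
    intro u hu
    show ρ u * ρ.asAlgebraHom j = ρ.asAlgebraHom j * ρ u
    rw [← Representation.asAlgebraHom_of ρ u, ← map_mul, ← map_mul, hR u hu]
  have hW : ∀ u ∈ R, ∀ x ∈ LinearMap.range e, ρ u x ∈ LinearMap.range e := by
    rintro u hu _ ⟨v, rfl⟩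
    refine ⟨ρ u v, ?_⟩
    have := LinearMap.congr_fun (hcomm u hu) v
    simp only [LinearMap.comp_apply] at this
    exact this.symm
  -- the representation of `R` on the range of `e`
  let σ : Representation ℂ R (LinearMap.range e) :=
    { toFun := fun u => (ρ (u : G)).restrict (hW u u.2)
      map_one' := by
        ext ⟨w, hw⟩
        simp [LinearMap.restrict_apply]
      map_mul' := by
        intro u v
        ext ⟨w, hw⟩
        simp [LinearMap.restrict_apply] }
  let k := Module.finrank ℂ (LinearMap.range e)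
  let φ : (LinearMap.range e) ≃ₗ[ℂ] (Fin k → ℂ) := (Module.finBasis ℂ (LinearMap.range e)).equivFun
  let σ' : Representation ℂ R (Fin k → ℂ) :=
    { toFun := fun u => φ.conj (σ u)
      map_one' := by
        rw [map_one]
        exact LinearEquiv.conj_id φ
      map_mul' := by
        intro u v
        rw [map_mul]
        exact LinearEquiv.conj_comp φ (σ v) (σ u) }
  refine ⟨k, σ', ?_⟩
  funext u
  show LinearMap.trace ℂ (Fin k → ℂ) (φ.conj (σ u)) = _
  rw [LinearMap.trace_conj']
  show LinearMap.trace ℂ (LinearMap.range e) ((ρ (u : G)).restrict (hW u u.2)) = _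
  rw [← trace_comp_idem (ρ (u : G)) e he (hcomm u u.2) (hW u u.2), ← trace_asAlgebraHom ρ, map_mul,
    Representation.asAlgebraHom_of]
  rfl

end Cfsg.Agent.Lib.Lead
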