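import Mathlib
import Cfsg.Agent.Lib.Helper1.ConjCount

/-! S4482 package PK-CNT-A (leader helper8): counting pairs of involutions in a group with a
retraction onto a dihedral-like 2-subgroup with kernel of odd order. Defines `RD`. -/

set_option autoImplicit false

namespace Cfsg.Agent.Lib.Helper8.DihB

universe u

section A
variable {H : Type u} [Group H]

/-- `r` is an idempotent endomorphism of `H` with kernel of odd order, whose image (= its set of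
fixed points) is "dihedral-like": `σ` of order `N = 2^k ≥ 4`, `|r(H)| = 2N`, every element of
`r(H)` outside `⟨σ⟩` is an involution inverting `σ`. -/
structure RD (r : H →* H) (σ : H) (N : ℕ) : Prop where
  idem : ∀ x, r (r x) = r x
  odd : Odd (Nat.card r.ker)
  fix : r σ = σ
  ord : orderOf σ = N
  four : 4 ≤ N
  two : ∃ k : ℕ, N = 2 ^ k
  card : Nat.card r.range = 2 * N
  inv : ∀ x, r x = x → x ∉ Subgroup.zpowers σ → x * x = 1 ∧ x * σ * x⁻¹ = σ⁻¹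

variable {r : H →* H} {σ : H} {N : ℕ}

/-! ### elementary consequences -/

theorem RD.cntA_fix_pow (h : RD r σ N) (i : ℕ) : r (σ ^ i) = σ ^ i := by
  rw [map_pow, h.fix]

theorem RD.cntA_sq_ne (h : RD r σ N) : σ * σ ≠ 1 := by
  intro hs
  have : orderOf σ ∣ 2 := orderOf_dvd_of_pow_eq_one (by rw [pow_two, hs])
  rw [h.ord] at this
  have := Nat.le_of_dvd (by norm_num) this
  have := h.four
  omega

section tau
variable {τ : H}

theorem RD.cntA_tau_sq (h : RD r σ N) (hτ : r τ = τ) (hτA : τ ∉ Subgroup.zpowers σ) :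
    τ * τ = 1 := (h.inv τ hτ hτA).1

theorem RD.cntA_tau_inv (h : RD r σ N) (hτ : r τ = τ) (hτA : τ ∉ Subgroup.zpowers σ) :
    τ⁻¹ = τ := inv_eq_of_mul_eq_one_left (h.cntA_tau_sq hτ hτA)

theorem RD.cntA_tau_pow (h : RD r σ N) (hτ : r τ = τ) (hτA : τ ∉ Subgroup.zpowers σ) (m : ℕ) :
    τ * σ ^ m * τ⁻¹ = (σ ^ m)⁻¹ := by
  rw [← conj_pow, (h.inv τ hτ hτA).2, inv_pow]

theorem RD.cntA_tau_mul_pow (h : RD r σ N) (hτ : r τ = τ) (hτA : τ ∉ Subgroup.zpowers σ) (m : ℕ) :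
    τ * σ ^ m = (σ ^ m)⁻¹ * τ := by
  rw [← h.cntA_tau_pow hτ hτA m]; group

theorem RD.cntA_tau_mul_inv_pow (h : RD r σ N) (hτ : r τ = τ) (hτA : τ ∉ Subgroup.zpowers σ)
    (m : ℕ) : τ * (σ ^ m)⁻¹ = σ ^ m * τ := by
  have h1 := congrArg (fun z => z⁻¹) (h.cntA_tau_pow hτ hτA m)
  simp only [mul_inv_rev, inv_inv] at h1
  calc τ * (σ ^ m)⁻¹ = (τ * ((σ ^ m)⁻¹ * τ⁻¹)) * τ := by group
    _ = σ ^ m * τ := by rw [h1]

theorem RD.cntA_pow_tau_fix (h : RD r σ N) (hτ : r τ = τ) (i : ℕ) :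
    r (σ ^ i * τ) = σ ^ i * τ := by
  rw [map_mul, h.cntA_fix_pow, hτ]

theorem RD.cntA_pow_tau_not_mem (hτA : τ ∉ Subgroup.zpowers σ) (i : ℕ) :
    σ ^ i * τ ∉ Subgroup.zpowers σ := by
  intro hm
  exact hτA (((Subgroup.zpowers σ).mul_mem_cancel_left
    (Subgroup.pow_mem _ (Subgroup.mem_zpowers σ) i)).1 hm)

theorem RD.cntA_pow_tau_inv (h : RD r σ N) (hτ : r τ = τ) (hτA : τ ∉ Subgroup.zpowers σ) (i : ℕ) :
    (σ ^ i * τ)⁻¹ = σ ^ i * τ :=
  h.cntA_tau_inv (h.cntA_pow_tau_fix hτ i) (RD.cntA_pow_tau_not_mem hτA i)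

/-- `(σ^i τ)⁻¹ s = σ^(i+e) τ` when `s⁻¹ = σ^e`. -/
theorem RD.cntA_pow_tau_mul (h : RD r σ N) (hτ : r τ = τ) (hτA : τ ∉ Subgroup.zpowers σ)
    (i e : ℕ) (s : H) (hs : s = (σ ^ e)⁻¹) : (σ ^ i * τ)⁻¹ * s = σ ^ (i + e) * τ := by
  rw [h.cntA_pow_tau_inv hτ hτA, hs, mul_assoc, h.cntA_tau_mul_inv_pow hτ hτA, ← mul_assoc,
    ← pow_add]

/-- conjugation by `σ^j` shifts the exponent by `2j`. -/
theorem RD.cntA_conj_pow_tau (h : RD r σ N) (hτ : r τ = τ) (hτA : τ ∉ Subgroup.zpowers σ)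
    (i j : ℕ) : σ ^ j * (σ ^ i * τ) * (σ ^ j)⁻¹ = σ ^ (i + 2 * j) * τ := by
  rw [mul_assoc, mul_assoc, h.cntA_tau_mul_inv_pow hτ hτA, ← mul_assoc, ← mul_assoc, ← pow_add,
    ← pow_add]
  congr 2; ring

/-- a fixed element outside `⟨σ⟩` lies in the coset `⟨σ⟩ τ`. -/
theorem RD.cntA_mem_coset (h : RD r σ N) (hτ : r τ = τ) (hτA : τ ∉ Subgroup.zpowers σ) {x : H}
    (hx : r x = x) (hxA : x ∉ Subgroup.zpowers σ) : x * τ⁻¹ ∈ Subgroup.zpowers σ := by
  by_contra hn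
  have hfix : r (x * τ⁻¹) = x * τ⁻¹ := by rw [map_mul, map_inv, hx, hτ]
  have h1 := (h.inv _ hfix hn).2
  have h2 := (h.inv x hx hxA).2
  have h3 := (h.inv τ hτ hτA).2
  have h4 : x * τ⁻¹ * σ * (x * τ⁻¹)⁻¹ = σ := by
    have e1 : τ⁻¹ * σ * τ = σ⁻¹ := by
      rw [h.cntA_tau_inv hτ hτA]
      nth_rewrite 2 [← h.cntA_tau_inv hτ hτA]
      exact h3
    calc x * τ⁻¹ * σ * (x * τ⁻¹)⁻¹ = x * (τ⁻¹ * σ * τ) * x⁻¹ := by group
      _ = x * σ⁻¹ * x⁻¹ := by rw [e1]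
      _ = (x * σ * x⁻¹)⁻¹ := by group
      _ = σ := by rw [h2, inv_inv]
  rw [h4] at h1
  apply h.cntA_sq_ne
  nth_rewrite 1 [h1]
  exact inv_mul_cancel σ

end tau

/-- an element of order dividing 2 in the kernel is trivial. -/
theorem RD.cntA_ker_triv (h : RD r σ N) {v : H} (hv : v * v = 1) (hr : r v = 1) : v = 1 := by
  have h1 : orderOf v ∣ 2 := orderOf_dvd_of_pow_eq_one (by rw [pow_two, hv])
  have h2 : orderOf v ∣ Nat.card r.ker := Subgroup.orderOf_dvd_natCard _ (MonoidHom.mem_ker.2 hr)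
  have h3 : orderOf v ∣ Nat.gcd 2 (Nat.card r.ker) := Nat.dvd_gcd h1 h2
  have h4 : Nat.gcd 2 (Nat.card r.ker) = 1 := Nat.coprime_two_left.2 h.odd
  rw [h4, Nat.dvd_one, orderOf_eq_one_iff] at h3
  exact h3

/-- the only involution of `⟨σ⟩` is `σ^(N/2)`. -/
theorem RD.cntA_invol_zpowers [Finite H] (h : RD r σ N) {h₂ : ℕ} (hN : N = 2 * h₂) {x : H}
    (hx : x ∈ Subgroup.zpowers σ) (hx2 : x * x = 1) (hx1 : x ≠ 1) : x = σ ^ h₂ := by
  classical
  rw [mem_zpowers_iff_mem_range_orderOf, h.ord] at hx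
  obtain ⟨j, hj, rfl⟩ := Finset.mem_image.1 hx
  have hj' : j < N := Finset.mem_range.1 hj
  have h1 : orderOf σ ∣ 2 * j := orderOf_dvd_of_pow_eq_one (by
    have : σ ^ (2 * j) = σ ^ j * σ ^ j := by rw [two_mul, pow_add]
    rw [this]; exact hx2)
  rw [h.ord, hN] at h1
  have h2 : h₂ ∣ j := Nat.dvd_of_mul_dvd_mul_left (by norm_num) h1
  obtain ⟨t, rfl⟩ := h2
  have ht : t < 2 := by
    by_contra hc
    have : h₂ * 2 ≤ h₂ * t := Nat.mul_le_mul_left _ (by omega)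
    omega
  interval_cases t
  · exact absurd (by simp) hx1
  · simp

theorem RD.cntA_half_sq (h : RD r σ N) {h₂ : ℕ} (hN : N = 2 * h₂) : σ ^ h₂ * σ ^ h₂ = 1 := by
  rw [← pow_add, ← two_mul, ← hN, ← h.ord, pow_orderOf_eq_one]

end A

section A2
variable {H : Type u} [Group H] [Finite H] {r : H →* H} {σ : H} {N : ℕ}

/-- every 2-element is conjugate to its image. -/
theorem RD.conj_r (h : RD r σ N) {v : H} (hv : ∃ k : ℕ, orderOf v = 2 ^ k) :
    ∃ g : H, g * v * g⁻¹ = r v := by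
  classical
  have : Fact (Nat.Prime 2) := ⟨Nat.prime_two⟩
  obtain ⟨k, hk⟩ := h.two
  have hcardH : Nat.card r.ker * Nat.card r.range = Nat.card H := by
    rw [← Subgroup.index_ker]; exact Subgroup.card_mul_index _
  have hkpos : Nat.card r.ker ≠ 0 := Nat.card_pos.ne'
  have hnd : ¬ 2 ∣ Nat.card r.ker := by
    rw [← even_iff_two_dvd, Nat.not_even_iff_odd]; exact h.odd
  have hfac : (Nat.card H).factorization 2 = k + 1 := by
    rw [← hcardH, h.card, hk, ← pow_succ',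
      Nat.factorization_mul hkpos (pow_ne_zero _ two_ne_zero), Finsupp.add_apply,
      Nat.factorization_eq_zero_of_not_dvd hnd, Nat.Prime.factorization_pow Nat.prime_two,
      Finsupp.single_eq_same, zero_add]
  let S : Sylow 2 H := Sylow.ofCard r.range (by rw [h.card, hk, hfac, pow_succ'])
  obtain ⟨k', hk'⟩ := hv
  have hpg : IsPGroup 2 (Subgroup.zpowers v) :=
    IsPGroup.of_card (n := k') (by rw [Nat.card_zpowers, hk'])
  obtain ⟨Q, hQ⟩ := hpg.exists_le_sylow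
  obtain ⟨g, hg⟩ := MulAction.exists_smul_eq H Q S
  have hvQ : v ∈ (Q : Subgroup H) := hQ (Subgroup.mem_zpowers v)
  have hmem : g * v * g⁻¹ ∈ (S : Subgroup H) := by
    rw [← hg, Sylow.coe_subgroup_smul]
    have := Subgroup.smul_mem_pointwise_smul v (MulAut.conj g) (Q : Subgroup H) hvQ
    rwa [MulAut.smul_def, MulAut.conj_apply] at this
  obtain ⟨y, hy⟩ : g * v * g⁻¹ ∈ r.range := hmem
  refine ⟨(r g)⁻¹ * g, ?_⟩
  have h1 : r (g * v * g⁻¹) = g * v * g⁻¹ := by rw [← hy, h.idem]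
  rw [map_mul, map_mul, map_inv] at h1
  calc (r g)⁻¹ * g * v * ((r g)⁻¹ * g)⁻¹ = (r g)⁻¹ * (g * v * g⁻¹) * r g := by group
    _ = (r g)⁻¹ * (r g * r v * (r g)⁻¹) * r g := by rw [h1]
    _ = r v := by group

end A2

/-! ### counting -/

section count
open Finset
variable {H : Type u} [Group H] [Fintype H] [DecidableEq H] {r : H →* H} {σ : H} {N : ℕ}

/-- the number of `v` with `v² = 1` and `r v = x`. -/
def cntA_fib (r : H →* H) (x : H) : ℕ :=
  (univ.filter (fun v : H => v * v = 1 ∧ r v = x)).card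

theorem cntA_fib_conj (p x : H) (hp : r p = p) : cntA_fib r (p * x * p⁻¹) = cntA_fib r x := by
  unfold cntA_fib
  refine Finset.card_nbij' (fun v => p⁻¹ * v * p) (fun v => p * v * p⁻¹) ?_ ?_ ?_ ?_
  · intro v hv
    simp only [coe_filter, mem_univ, true_and, Set.mem_ofPred_eq] at hv ⊢
    refine ⟨?_, ?_⟩
    · calc p⁻¹ * v * p * (p⁻¹ * v * p) = p⁻¹ * (v * v) * p := by group
        _ = 1 := by rw [hv.1]; group
    · rw [map_mul, map_mul, map_inv, hp, hv.2]; group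
  · intro v hv
    simp only [coe_filter, mem_univ, true_and, Set.mem_ofPred_eq] at hv ⊢
    refine ⟨?_, ?_⟩
    · calc p * v * p⁻¹ * (p * v * p⁻¹) = p * (v * v) * p⁻¹ := by group
        _ = 1 := by rw [hv.1]; group
    · rw [map_mul, map_mul, map_inv, hp, hv.2]
  · intro v _; group
  · intro v _; group

variable {τ : H}

theorem RD.cntA_fib_shift (h : RD r σ N) (hτ : r τ = τ) (hτA : τ ∉ Subgroup.zpowers σ) (i j : ℕ) :
    cntA_fib r (σ ^ (i + 2 * j) * τ) = cntA_fib r (σ ^ i * τ) := by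
  rw [← h.cntA_conj_pow_tau hτ hτA i j, cntA_fib_conj _ _ (h.cntA_fix_pow j)]

theorem RD.cntA_fib_even (h : RD r σ N) (hτ : r τ = τ) (hτA : τ ∉ Subgroup.zpowers σ) {i : ℕ}
    (hi : Even i) : cntA_fib r (σ ^ i * τ) = cntA_fib r τ := by
  obtain ⟨j, rfl⟩ := hi
  have := h.cntA_fib_shift hτ hτA 0 j
  rw [pow_zero, one_mul, zero_add, two_mul] at this
  exact this

theorem RD.cntA_fib_odd (h : RD r σ N) (hτ : r τ = τ) (hτA : τ ∉ Subgroup.zpowers σ) {i : ℕ}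
    (hi : Odd i) : cntA_fib r (σ ^ i * τ) = cntA_fib r (σ * τ) := by
  obtain ⟨j, rfl⟩ := hi
  have := h.cntA_fib_shift hτ hτA 1 j
  rw [pow_one, add_comm 1 (2 * j)] at this
  exact this

theorem cntA_sum_parity (g : ℕ → ℕ) (A B : ℕ) (hA : ∀ i, Even i → g i = A)
    (hB : ∀ i, Odd i → g i = B) (m : ℕ) : ∑ i ∈ range (2 * m), g i = m * (A + B) := by
  induction m with
  | zero => simp
  | succ m ih =>
    have : 2 * (m + 1) = 2 * m + 1 + 1 := by ring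
    rw [this, sum_range_succ, sum_range_succ, ih, hA (2 * m) (even_two_mul m),
      hB (2 * m + 1) (odd_two_mul_add_one m)]
    ring

omit [Fintype H] [DecidableEq H] in
theorem RD.cntA_inj (h : RD r σ N) (τ : H) :
    Set.InjOn (fun i : ℕ => σ ^ i * τ) (range N : Set ℕ) := by
  intro i hi j hj hij
  have h1 : σ ^ i = σ ^ j := mul_right_cancel hij
  have hi' : i < N := by simpa using hi
  have hj' : j < N := by simpa using hj
  exact pow_injOn_Iio_orderOf (by rw [h.ord]; exact hi') (by rw [h.ord]; exact hj') h1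

/-- the pairs `(v, w)` of involutions with `r v * r w = s`, counted fibrewise. -/
theorem RD.cntA_card_pairs (h : RD r σ N) (hτ : r τ = τ) (hτA : τ ∉ Subgroup.zpowers σ) (s : H)
    (hs : s ∈ Subgroup.zpowers σ)
    (hgood : ∀ v w : H, v * v = 1 → w * w = 1 → v ≠ 1 → w ≠ 1 → r v * r w = s →
      r v ∉ Subgroup.zpowers σ) :
    (univ.filter (fun vw : H × H => vw.1 * vw.1 = 1 ∧ vw.2 * vw.2 = 1 ∧ vw.1 ≠ 1 ∧ vw.2 ≠ 1 ∧
        r vw.1 * r vw.2 = s)).card =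
      ∑ i ∈ range N, cntA_fib r (σ ^ i * τ) * cntA_fib r ((σ ^ i * τ)⁻¹ * s) := by
  set A := univ.filter (fun vw : H × H => vw.1 * vw.1 = 1 ∧ vw.2 * vw.2 = 1 ∧ vw.1 ≠ 1 ∧
    vw.2 ≠ 1 ∧ r vw.1 * r vw.2 = s) with hA
  have hmaps : ∀ vw ∈ A, r vw.1 ∈ (range N).image (fun i : ℕ => σ ^ i * τ) := by
    intro vw hvw
    obtain ⟨h1, h2, h3, h4, h5⟩ := (mem_filter.1 hvw).2
    have hnot := hgood _ _ h1 h2 h3 h4 h5
    have hc := h.cntA_mem_coset hτ hτA (h.idem vw.1) hnot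
    rw [mem_zpowers_iff_mem_range_orderOf, h.ord] at hc
    obtain ⟨i, hi, hi'⟩ := mem_image.1 hc
    refine mem_image.2 ⟨i, hi, ?_⟩
    change σ ^ i = r vw.1 * τ⁻¹ at hi'
    change σ ^ i * τ = r vw.1
    rw [hi']; group
  rw [card_eq_sum_card_fiberwise hmaps, sum_image (h.cntA_inj τ)]
  refine sum_congr rfl (fun i _ => ?_)
  unfold cntA_fib
  rw [← card_product]
  congr 1
  ext ⟨v, w⟩
  simp only [hA, mem_filter, mem_product, mem_univ, true_and]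
  have hx1 : σ ^ i * τ ≠ 1 := fun h1 => RD.cntA_pow_tau_not_mem hτA i (h1 ▸ Subgroup.one_mem _)
  constructor
  · rintro ⟨⟨h1, h2, _, _, h5⟩, h6⟩
    refine ⟨⟨h1, h6⟩, h2, ?_⟩
    rw [← h5, h6]; group
  · rintro ⟨⟨h1, h6⟩, h2, h7⟩
    refine ⟨⟨h1, h2, ?_, ?_, ?_⟩, h6⟩
    · rintro rfl
      rw [map_one] at h6
      exact hx1 h6.symm
    · rintro rfl
      rw [map_one] at h7
      have : σ ^ i * τ = s := inv_mul_eq_one.1 h7.symm
      exact RD.cntA_pow_tau_not_mem hτA i (this ▸ hs)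
    · rw [h6, h7]; group

/-- `|C(τ)| * (h₂ * F(τ)) = |H|`. -/
theorem RD.cntA_class_count (h : RD r σ N) {h₂ : ℕ} (hN : N = 2 * h₂) (hτ : r τ = τ)
    (hτA : τ ∉ Subgroup.zpowers σ) :
    Nat.card (Subgroup.centralizer ({τ} : Set H)) * (h₂ * cntA_fib r τ) = Nat.card H := by
  have hh₂ : 0 < h₂ := by have := h.four; omega
  rw [← Cfsg.Agent.Lib.Helper1.card_isConj_mul_card_centralizer τ, mul_comm]
  congr 1
  rw [Nat.card_eq_fintype_card, Fintype.card_subtype]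
  have hinj : Set.InjOn (fun j : ℕ => σ ^ (2 * j) * τ) (range h₂ : Set ℕ) := by
    intro i hi j hj hij
    have hi' : i < h₂ := by simpa using hi
    have hj' : j < h₂ := by simpa using hj
    have := h.cntA_inj τ (show 2 * i ∈ (range N : Set ℕ) by simp; omega)
      (show 2 * j ∈ (range N : Set ℕ) by simp; omega) hij
    omega
  have hmaps : ∀ v ∈ univ.filter (fun v : H => IsConj τ v),
      r v ∈ (range h₂).image (fun j : ℕ => σ ^ (2 * j) * τ) := by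
    intro v hv
    obtain ⟨g, rfl⟩ := isConj_iff.1 (mem_filter.1 hv).2
    -- `r g` is fixed; it is in `⟨σ⟩` or in `⟨σ⟩ τ`
    have hpfix : r (r g) = r g := h.idem g
    obtain ⟨c, hc, hconj⟩ : ∃ c ∈ Subgroup.zpowers σ, r g * τ * (r g)⁻¹ = c * τ * c⁻¹ := by
      by_cases hp : r g ∈ Subgroup.zpowers σ
      · exact ⟨r g, hp, rfl⟩
      · refine ⟨r g * τ⁻¹, h.cntA_mem_coset hτ hτA hpfix hp, ?_⟩
        group
    rw [mem_zpowers_iff_mem_range_orderOf, h.ord] at hc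
    obtain ⟨m, _, rfl⟩ := mem_image.1 hc
    refine mem_image.2 ⟨m % h₂, mem_range.2 (Nat.mod_lt _ hh₂), ?_⟩
    change σ ^ (2 * (m % h₂)) * τ = r (g * τ * g⁻¹)
    rw [map_mul, map_mul, map_inv, hτ, hconj]
    have e1 := h.cntA_conj_pow_tau hτ hτA 0 m
    rw [pow_zero, one_mul, zero_add] at e1
    rw [e1]
    congr 1
    have e2 : 2 * m = 2 * (m % h₂) + N * (m / h₂) := by
      rw [hN, mul_assoc, ← mul_add, Nat.mod_add_div]
    have e3 : σ ^ (N * (m / h₂)) = 1 := by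
      rw [pow_mul, ← h.ord, pow_orderOf_eq_one, one_pow]
    rw [e2, pow_add, e3, mul_one]
  rw [card_eq_sum_card_fiberwise hmaps, sum_image hinj]
  have hterm : ∀ j ∈ range h₂,
      ((univ.filter (fun v : H => IsConj τ v)).filter
        (fun v => r v = σ ^ (2 * j) * τ)).card = cntA_fib r τ := by
    intro j _
    rw [← h.cntA_fib_even hτ hτA (even_two_mul j)]
    unfold cntA_fib
    congr 1
    ext v
    simp only [mem_filter, mem_univ, true_and]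
    constructor
    · rintro ⟨hc, hr⟩
      refine ⟨?_, hr⟩
      obtain ⟨g, rfl⟩ := isConj_iff.1 hc
      calc g * τ * g⁻¹ * (g * τ * g⁻¹) = g * (τ * τ) * g⁻¹ := by group
        _ = 1 := by rw [h.cntA_tau_sq hτ hτA]; group
    · rintro ⟨hv, hr⟩
      refine ⟨?_, hr⟩
      have : Finite H := Finite.of_fintype H
      have hord : ∃ k : ℕ, orderOf v = 2 ^ k := by
        have h1 : orderOf v ∣ 2 := orderOf_dvd_of_pow_eq_one (by rw [pow_two, hv])
        rcases (Nat.dvd_prime Nat.prime_two).1 h1 with h2 | h2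
        · exact ⟨0, by rw [h2, pow_zero]⟩
        · exact ⟨1, by rw [h2, pow_one]⟩
      obtain ⟨g, hg⟩ := h.conj_r hord
      rw [hr] at hg
      have e1 := h.cntA_conj_pow_tau hτ hτA 0 j
      rw [pow_zero, one_mul, zero_add] at e1
      rw [← e1] at hg
      -- g v g⁻¹ = σ^j τ σ^-j
      refine isConj_iff.2 ⟨g⁻¹ * σ ^ j, ?_⟩
      calc g⁻¹ * σ ^ j * τ * (g⁻¹ * σ ^ j)⁻¹ = g⁻¹ * (σ ^ j * τ * (σ ^ j)⁻¹) * g := by group
        _ = g⁻¹ * (g * v * g⁻¹) * g := by rw [hg]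
        _ = v := by group
  rw [sum_congr rfl hterm, sum_const, card_range, smul_eq_mul]

omit [DecidableEq H] in
/-- the `hgood` hypothesis of `cntA_card_pairs` for `s` commuting with `σ^(N/2)`, `s² ≠ 1`. -/
theorem RD.cntA_good (h : RD r σ N) {h₂ : ℕ} (hN : N = 2 * h₂) (s : H)
    (hcomm : Commute s (σ ^ h₂)) (hs2 : s * s ≠ 1) :
    ∀ v w : H, v * v = 1 → w * w = 1 → v ≠ 1 → w ≠ 1 → r v * r w = s →
      r v ∉ Subgroup.zpowers σ := by
  intro v w hv hw hv1 _ hvw hmem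
  have : Finite H := Finite.of_fintype H
  have hrv2 : r v * r v = 1 := by rw [← map_mul, hv, map_one]
  have hrv1 : r v ≠ 1 := fun h0 => hv1 (h.cntA_ker_triv hv h0)
  have hrv := h.cntA_invol_zpowers hN hmem hrv2 hrv1
  have hzz := h.cntA_half_sq hN
  rw [hrv] at hvw
  have hrw : r w = σ ^ h₂ * s := by
    apply mul_left_cancel (a := σ ^ h₂)
    rw [hvw, ← mul_assoc, hzz, one_mul]
  have hrw2 : r w * r w = 1 := by rw [← map_mul, hw, map_one]
  rw [hrw, Commute.mul_mul_mul_comm hcomm, hzz, one_mul] at hrw2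
  exact hs2 hrw2

end count

section final
open Finset
variable {H : Type u} [Group H] [Finite H] {r : H →* H} {σ : H} {N : ℕ}

/-- pairs of involutions whose images multiply to the central involution `σ ^ (N/2)`. -/
theorem RD.count_center (h : RD r σ N) {h₂ : ℕ} (hN : N = 2 * h₂) (hev : Even h₂) {τ : H}
    (hτ : r τ = τ) (hτA : τ ∉ Subgroup.zpowers σ) :
    (Nat.card {vw : H × H // vw.1 * vw.1 = 1 ∧ vw.2 * vw.2 = 1 ∧ vw.1 ≠ 1 ∧ vw.2 ≠ 1 ∧
        r vw.1 * r vw.2 = σ ^ h₂} : ℚ) =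
      2 * (Nat.card H : ℚ) ^ 2 *
        (1 / (Nat.card (Subgroup.centralizer ({τ} : Set H)) : ℚ) ^ 2 +
          1 / (Nat.card (Subgroup.centralizer ({σ * τ} : Set H)) : ℚ) ^ 2) / N := by
  classical
  have : Fintype H := Fintype.ofFinite H
  have hh₂ : 0 < h₂ := by have := h.four; omega
  rw [Nat.card_eq_fintype_card, Fintype.card_subtype]
  have hz : σ ^ h₂ ∈ Subgroup.zpowers σ := Subgroup.pow_mem _ (Subgroup.mem_zpowers σ) _
  have hzz := h.cntA_half_sq hN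
  have hgood : ∀ v w : H, v * v = 1 → w * w = 1 → v ≠ 1 → w ≠ 1 → r v * r w = σ ^ h₂ →
      r v ∉ Subgroup.zpowers σ := by
    intro v w hv hw hv1 hw1 hvw hmem
    have hrv2 : r v * r v = 1 := by rw [← map_mul, hv, map_one]
    have hrv1 : r v ≠ 1 := fun h0 => hv1 (h.cntA_ker_triv hv h0)
    have hrv := h.cntA_invol_zpowers hN hmem hrv2 hrv1
    rw [hrv] at hvw
    have : r w = 1 := mul_left_cancel (hvw.trans (mul_one _).symm)
    exact hw1 (h.cntA_ker_triv hw this)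
  rw [h.cntA_card_pairs hτ hτA _ hz hgood]
  have hzinv : σ ^ h₂ = (σ ^ h₂)⁻¹ := eq_inv_of_mul_eq_one_left hzz
  have hsum : ∑ i ∈ range N, cntA_fib r (σ ^ i * τ) * cntA_fib r ((σ ^ i * τ)⁻¹ * σ ^ h₂) =
      h₂ * (cntA_fib r τ * cntA_fib r τ + cntA_fib r (σ * τ) * cntA_fib r (σ * τ)) := by
    rw [hN]
    refine cntA_sum_parity _ _ _ (fun i hi => ?_) (fun i hi => ?_) h₂
    · rw [h.cntA_pow_tau_mul hτ hτA i h₂ _ hzinv, h.cntA_fib_even hτ hτA hi,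
        h.cntA_fib_even hτ hτA (hi.add hev)]
    · rw [h.cntA_pow_tau_mul hτ hτA i h₂ _ hzinv, h.cntA_fib_odd hτ hτA hi,
        h.cntA_fib_odd hτ hτA (hi.add_even hev)]
  rw [hsum]
  have hστ : r (σ * τ) = σ * τ := by rw [map_mul, h.fix, hτ]
  have hστA : σ * τ ∉ Subgroup.zpowers σ := fun hm =>
    hτA (((Subgroup.zpowers σ).mul_mem_cancel_left (Subgroup.mem_zpowers σ)).1 hm)
  have hc0 := h.cntA_class_count hN hτ hτA
  have hc1 := h.cntA_class_count hN hστ hστA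
  have ha : (Nat.card (Subgroup.centralizer ({τ} : Set H)) : ℚ) ≠ 0 :=
    Nat.cast_ne_zero.2 Nat.card_pos.ne'
  have hb : (Nat.card (Subgroup.centralizer ({σ * τ} : Set H)) : ℚ) ≠ 0 :=
    Nat.cast_ne_zero.2 Nat.card_pos.ne'
  have hh : (h₂ : ℚ) ≠ 0 := Nat.cast_ne_zero.2 hh₂.ne'
  have hc0' : (Nat.card (Subgroup.centralizer ({τ} : Set H)) : ℚ) * (h₂ * cntA_fib r τ) =
      Nat.card H := by exact_mod_cast hc0
  have hc1' : (Nat.card (Subgroup.centralizer ({σ * τ} : Set H)) : ℚ) *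
      (h₂ * cntA_fib r (σ * τ)) = Nat.card H := by exact_mod_cast hc1
  have e0 : (cntA_fib r τ : ℚ) =
      Nat.card H / (Nat.card (Subgroup.centralizer ({τ} : Set H)) * h₂) := by
    rw [eq_div_iff (mul_ne_zero ha hh), ← hc0']; ring
  have e1 : (cntA_fib r (σ * τ) : ℚ) =
      Nat.card H / (Nat.card (Subgroup.centralizer ({σ * τ} : Set H)) * h₂) := by
    rw [eq_div_iff (mul_ne_zero hb hh), ← hc1']; ring
  push_cast
  rw [e0, e1, hN]
  push_cast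
  field_simp

/-- pairs of involutions whose images multiply to `σ` or `σ⁻¹`. -/
theorem RD.count_gen (h : RD r σ N) {h₂ : ℕ} (hN : N = 2 * h₂) (hev : Even h₂) {τ : H}
    (hτ : r τ = τ) (hτA : τ ∉ Subgroup.zpowers σ) :
    (Nat.card {vw : H × H // vw.1 * vw.1 = 1 ∧ vw.2 * vw.2 = 1 ∧ vw.1 ≠ 1 ∧ vw.2 ≠ 1 ∧
        (r vw.1 * r vw.2 = σ ∨ r vw.1 * r vw.2 = σ⁻¹)} : ℚ) =
      8 * (Nat.card H : ℚ) ^ 2 /
        ((Nat.card (Subgroup.centralizer ({τ} : Set H)) : ℚ) *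
          (Nat.card (Subgroup.centralizer ({σ * τ} : Set H)) : ℚ) * N) := by
  classical
  have : Fintype H := Fintype.ofFinite H
  have hh₂ : 0 < h₂ := by have := h.four; omega
  have hNodd : Odd (N - 1) := by
    rw [hN]; exact ⟨h₂ - 1, by omega⟩
  rw [Nat.card_eq_fintype_card, Fintype.card_subtype]
  have hsplit : univ.filter (fun vw : H × H => vw.1 * vw.1 = 1 ∧ vw.2 * vw.2 = 1 ∧ vw.1 ≠ 1 ∧
        vw.2 ≠ 1 ∧ (r vw.1 * r vw.2 = σ ∨ r vw.1 * r vw.2 = σ⁻¹)) =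
      univ.filter (fun vw : H × H => vw.1 * vw.1 = 1 ∧ vw.2 * vw.2 = 1 ∧ vw.1 ≠ 1 ∧
        vw.2 ≠ 1 ∧ r vw.1 * r vw.2 = σ) ∪
      univ.filter (fun vw : H × H => vw.1 * vw.1 = 1 ∧ vw.2 * vw.2 = 1 ∧ vw.1 ≠ 1 ∧
        vw.2 ≠ 1 ∧ r vw.1 * r vw.2 = σ⁻¹) := by
    ext vw
    simp only [mem_filter, mem_union, mem_univ, true_and]
    tauto
  have hne : σ ≠ σ⁻¹ := by
    intro he
    apply h.cntA_sq_ne
    nth_rewrite 1 [he]
    exact inv_mul_cancel σ
  have hdisj : Disjoint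
      (univ.filter (fun vw : H × H => vw.1 * vw.1 = 1 ∧ vw.2 * vw.2 = 1 ∧ vw.1 ≠ 1 ∧
        vw.2 ≠ 1 ∧ r vw.1 * r vw.2 = σ))
      (univ.filter (fun vw : H × H => vw.1 * vw.1 = 1 ∧ vw.2 * vw.2 = 1 ∧ vw.1 ≠ 1 ∧
        vw.2 ≠ 1 ∧ r vw.1 * r vw.2 = σ⁻¹)) := by
    rw [disjoint_filter]
    rintro vw _ ⟨_, _, _, _, h5⟩ ⟨_, _, _, _, h6⟩
    exact hne (h5.symm.trans h6)
  rw [hsplit, card_union_of_disjoint hdisj]
  have hcomm1 : Commute σ (σ ^ h₂) := (Commute.refl σ).pow_right h₂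
  have hcomm2 : Commute σ⁻¹ (σ ^ h₂) := hcomm1.inv_left
  have hs2 : σ⁻¹ * σ⁻¹ ≠ 1 := by
    intro he
    apply h.cntA_sq_ne
    have := congrArg (fun z => z⁻¹) he
    simpa using this
  rw [h.cntA_card_pairs hτ hτA σ (Subgroup.mem_zpowers σ)
      (h.cntA_good hN σ hcomm1 h.cntA_sq_ne),
    h.cntA_card_pairs hτ hτA σ⁻¹ (Subgroup.inv_mem _ (Subgroup.mem_zpowers σ))
      (h.cntA_good hN σ⁻¹ hcomm2 hs2)]
  have hσ1 : σ = (σ ^ (N - 1))⁻¹ := by
    apply eq_inv_of_mul_eq_one_left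
    rw [← pow_succ']
    have : N - 1 + 1 = N := by have := h.four; omega
    rw [this, ← h.ord, pow_orderOf_eq_one]
  have hσ2 : σ⁻¹ = (σ ^ 1)⁻¹ := by rw [pow_one]
  have hsum1 : ∑ i ∈ range N, cntA_fib r (σ ^ i * τ) * cntA_fib r ((σ ^ i * τ)⁻¹ * σ) =
      h₂ * (cntA_fib r τ * cntA_fib r (σ * τ) + cntA_fib r (σ * τ) * cntA_fib r τ) := by
    rw [hN]
    refine cntA_sum_parity _ _ _ (fun i hi => ?_) (fun i hi => ?_) h₂
    · rw [h.cntA_pow_tau_mul hτ hτA i (2 * h₂ - 1) σ (hN ▸ hσ1), h.cntA_fib_even hτ hτA hi,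
        h.cntA_fib_odd hτ hτA (hi.add_odd (hN ▸ hNodd))]
    · rw [h.cntA_pow_tau_mul hτ hτA i (2 * h₂ - 1) σ (hN ▸ hσ1), h.cntA_fib_odd hτ hτA hi,
        h.cntA_fib_even hτ hτA (hi.add_odd (hN ▸ hNodd))]
  have hsum2 : ∑ i ∈ range N, cntA_fib r (σ ^ i * τ) * cntA_fib r ((σ ^ i * τ)⁻¹ * σ⁻¹) =
      h₂ * (cntA_fib r τ * cntA_fib r (σ * τ) + cntA_fib r (σ * τ) * cntA_fib r τ) := by
    rw [hN]
    refine cntA_sum_parity _ _ _ (fun i hi => ?_) (fun i hi => ?_) h₂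
    · rw [h.cntA_pow_tau_mul hτ hτA i 1 σ⁻¹ hσ2, h.cntA_fib_even hτ hτA hi,
        h.cntA_fib_odd hτ hτA (hi.add_odd odd_one)]
    · rw [h.cntA_pow_tau_mul hτ hτA i 1 σ⁻¹ hσ2, h.cntA_fib_odd hτ hτA hi,
        h.cntA_fib_even hτ hτA (hi.add_odd odd_one)]
  rw [hsum1, hsum2]
  have hστ : r (σ * τ) = σ * τ := by rw [map_mul, h.fix, hτ]
  have hστA : σ * τ ∉ Subgroup.zpowers σ := fun hm =>
    hτA (((Subgroup.zpowers σ).mul_mem_cancel_left (Subgroup.mem_zpowers σ)).1 hm)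
  have hc0 := h.cntA_class_count hN hτ hτA
  have hc1 := h.cntA_class_count hN hστ hστA
  have ha : (Nat.card (Subgroup.centralizer ({τ} : Set H)) : ℚ) ≠ 0 :=
    Nat.cast_ne_zero.2 Nat.card_pos.ne'
  have hb : (Nat.card (Subgroup.centralizer ({σ * τ} : Set H)) : ℚ) ≠ 0 :=
    Nat.cast_ne_zero.2 Nat.card_pos.ne'
  have hh : (h₂ : ℚ) ≠ 0 := Nat.cast_ne_zero.2 hh₂.ne'
  have hc0' : (Nat.card (Subgroup.centralizer ({τ} : Set H)) : ℚ) * (h₂ * cntA_fib r τ) =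
      Nat.card H := by exact_mod_cast hc0
  have hc1' : (Nat.card (Subgroup.centralizer ({σ * τ} : Set H)) : ℚ) *
      (h₂ * cntA_fib r (σ * τ)) = Nat.card H := by exact_mod_cast hc1
  have e0 : (cntA_fib r τ : ℚ) =
      Nat.card H / (Nat.card (Subgroup.centralizer ({τ} : Set H)) * h₂) := by
    rw [eq_div_iff (mul_ne_zero ha hh), ← hc0']; ring
  have e1 : (cntA_fib r (σ * τ) : ℚ) =
      Nat.card H / (Nat.card (Subgroup.centralizer ({σ * τ} : Set H)) * h₂) := by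
    rw [eq_div_iff (mul_ne_zero hb hh), ← hc1']; ring
  push_cast
  rw [e0, e1, hN]
  push_cast
  field_simp
  ring

end final

end Cfsg.Agent.Lib.Helper8.DihB
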