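import Mathlib
import Cfsg.Prelude.Def_Blocks
import Cfsg.Prelude.Def_BlockRank
import Cfsg.Agent.Lib.Helper8.MJ19
import Cfsg.Agent.Lib.Helper8.QB4
import Cfsg.Agent.Lib.Helper8.QB3
import Cfsg.Agent.Lib.Helper8.HKS_Defs

set_option autoImplicit false

/-!
S4588 swarm, package PK-C4: transfer of a basic set of the principal block from `H ⧸ Z` to `H`
for a central `p`-subgroup `Z`.
-/

namespace Cfsg.Agent.Lib.Helper8.HKS

open Cfsg
open scoped ComplexConjugate
open Cfsg.Agent.Lib.Helper1 Cfsg.Agent.Lib.Helper4 Cfsg.Agent.Lib.Helper8 Cfsg.Agent.Lib.Helper8.MJ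

universe u

namespace PkC4

variable {H : Type u} [Group H] {p : ℕ}

/-- `Φ f = pRegularPart p (f ∘ mk)` as an additive map -/
noncomputable def Phi (Z : Subgroup H) [Z.Normal] (p : ℕ) : (H ⧸ Z → ℂ) →+ (H → ℂ) where
  toFun f := pRegularPart p (fun h : H => f (QuotientGroup.mk h))
  map_zero' := by
    funext h
    by_cases hh : p ∣ orderOf h
    · rw [pRegularPart_of_dvd _ hh]; rfl
    · rw [pRegularPart_of_not_dvd _ hh]; rfl
  map_add' f g := by
    funext h
    by_cases hh : p ∣ orderOf h
    · rw [Pi.add_apply, pRegularPart_of_dvd _ hh, pRegularPart_of_dvd _ hh,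
        pRegularPart_of_dvd _ hh, add_zero]
    · rw [Pi.add_apply, pRegularPart_of_not_dvd _ hh, pRegularPart_of_not_dvd _ hh,
        pRegularPart_of_not_dvd _ hh]
      rfl

theorem Phi_apply (Z : Subgroup H) [Z.Normal] (f : H ⧸ Z → ℂ) :
    Phi Z p f = pRegularPart p (fun h : H => f (QuotientGroup.mk h)) := rfl

theorem not_dvd_mk (Z : Subgroup H) [Z.Normal] {h : H} (hh : ¬ p ∣ orderOf h) :
    ¬ p ∣ orderOf (QuotientGroup.mk h : H ⧸ Z) := by
  intro hd
  apply hh
  have h1 : orderOf (QuotientGroup.mk h : H ⧸ Z) ∣ orderOf h := by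
    have := orderOf_map_dvd (QuotientGroup.mk' Z) h
    exact this
  exact hd.trans h1

/-- `Φ` does not see the `p`-singular part -/
theorem Phi_pRegularPart (Z : Subgroup H) [Z.Normal] (f : H ⧸ Z → ℂ) :
    Phi Z p (pRegularPart p f) = Phi Z p f := by
  funext h
  rw [Phi_apply, Phi_apply]
  by_cases hh : p ∣ orderOf h
  · rw [pRegularPart_of_dvd _ hh, pRegularPart_of_dvd _ hh]
  · rw [pRegularPart_of_not_dvd _ hh, pRegularPart_of_not_dvd _ hh,
      pRegularPart_of_not_dvd _ (not_dvd_mk Z hh)]

end PkC4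

section PkC4
variable {H : Type u} [Group H] [Fintype H] {p : ℕ} [Fact p.Prime] {M : Ideal AlgInt}

open PkC4

theorem basicSet_inflation (hM : IsPModular p M) (Z : Subgroup H) [Z.Normal] [Fintype (H ⧸ Z)]
    (hZc : Z ≤ Subgroup.center H) (hZp : IsPGroup p Z)
    (hdom : ∀ ψ ∈ principalBlock M H, pRegularPart p (ψ : H → ℂ) ∈ AddSubgroup.closure
      ((fun χ : IrrCharacter (H ⧸ Z) =>
        pRegularPart p (fun h : H => (χ : H ⧸ Z → ℂ) (QuotientGroup.mk h))) ''
          principalBlock M (H ⧸ Z)))
    {e : ℕ} (u : Fin e → H ⧸ Z → ℂ)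
    (hu : ∀ i, u i ∈ lat p (principalBlock M (H ⧸ Z)))
    (hspan : ∀ ψ ∈ principalBlock M (H ⧸ Z),
      pRegularPart p (ψ : H ⧸ Z → ℂ) ∈ AddSubgroup.closure (Set.range u)) :
    (∀ i, pRegularPart p (fun h : H => u i (QuotientGroup.mk h)) ∈ lat p (principalBlock M H)) ∧
    (∀ ψ ∈ principalBlock M H, pRegularPart p (ψ : H → ℂ) ∈ AddSubgroup.closure
      (Set.range fun i => pRegularPart p (fun h : H => u i (QuotientGroup.mk h)))) ∧
    ∀ i j, classInner (pRegularPart p (fun h : H => u i (QuotientGroup.mk h)))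
        (pRegularPart p (fun h : H => u j (QuotientGroup.mk h))) =
      (Nat.card Z : ℂ)⁻¹ * classInner (u i) (u j) := by
  classical
  have hp : p.Prime := Fact.out
  -- Φ of the p-regular part of a principal-block character of the quotient
  have hΦirr : ∀ χ ∈ principalBlock M (H ⧸ Z),
      Phi Z p (pRegularPart p (χ : H ⧸ Z → ℂ)) ∈ lat p (principalBlock M H) := by
    intro χ hχ
    rw [Phi_pRegularPart]
    have h1 : inflIrr Z χ ∈ principalBlock M H := (qb_principal_inflation hM Z hZp hZc χ).2 hχ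
    exact pReg_mem_lat h1
  refine ⟨?_, ?_, ?_⟩
  · -- (1)
    intro i
    have hmap : ∀ x ∈ AddSubgroup.closure
        ((fun ψ : IrrCharacter (H ⧸ Z) => pRegularPart p (ψ : H ⧸ Z → ℂ)) ''
          principalBlock M (H ⧸ Z)), Phi Z p x ∈ lat p (principalBlock M H) := by
      intro x hx
      induction hx using AddSubgroup.closure_induction with
      | mem x hx =>
        obtain ⟨χ, hχ, rfl⟩ := hx
        exact hΦirr χ hχ
      | zero => rw [map_zero]; exact AddSubgroup.zero_mem _
      | add x y _ _ ihx ihy => rw [map_add]; exact AddSubgroup.add_mem _ ihx ihy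
      | neg x _ ih => rw [map_neg]; exact AddSubgroup.neg_mem _ ih
    exact hmap (u i) (hu i)
  · -- (2)
    intro ψ hψ
    have h1 := hdom ψ hψ
    have hle : AddSubgroup.closure
        ((fun χ : IrrCharacter (H ⧸ Z) =>
          pRegularPart p (fun h : H => (χ : H ⧸ Z → ℂ) (QuotientGroup.mk h))) ''
            principalBlock M (H ⧸ Z)) ≤
        AddSubgroup.closure
          (Set.range fun i => pRegularPart p (fun h : H => u i (QuotientGroup.mk h))) := by
      rw [AddSubgroup.closure_le]
      rintro _ ⟨χ, hχ, rfl⟩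
      have h2 := hspan χ hχ
      show Phi Z p (χ : H ⧸ Z → ℂ) ∈ _
      rw [← Phi_pRegularPart]
      have hmap : ∀ x ∈ AddSubgroup.closure (Set.range u), Phi Z p x ∈ AddSubgroup.closure
          (Set.range fun i => pRegularPart p (fun h : H => u i (QuotientGroup.mk h))) := by
        intro x hx
        induction hx using AddSubgroup.closure_induction with
        | mem x hx =>
          obtain ⟨i, rfl⟩ := hx
          exact AddSubgroup.subset_closure ⟨i, rfl⟩
        | zero => rw [map_zero]; exact AddSubgroup.zero_mem _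
        | add x y _ _ ihx ihy => rw [map_add]; exact AddSubgroup.add_mem _ ihx ihy
        | neg x _ ih => rw [map_neg]; exact AddSubgroup.neg_mem _ ih
      exact hmap _ h2
    exact hle h1
  · -- (3) Gram matrix
    intro i j
    have hvi := lat_vanish (hu i)
    -- the sum over `H`
    have hsumH : ∑ h : H, pRegularPart p (fun h : H => u i (QuotientGroup.mk h)) h *
          conj (pRegularPart p (fun h : H => u j (QuotientGroup.mk h)) h) =
        ∑ h ∈ Finset.univ.filter (fun h : H => ¬ p ∣ orderOf h),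
          u i (QuotientGroup.mk h) * conj (u j (QuotientGroup.mk h)) := by
      rw [Finset.sum_filter]
      refine Finset.sum_congr rfl (fun h _ => ?_)
      by_cases hh : p ∣ orderOf h
      · rw [pRegularPart_of_dvd _ hh, zero_mul, if_neg (not_not.2 hh)]
      · rw [pRegularPart_of_not_dvd _ hh, pRegularPart_of_not_dvd _ hh, if_pos hh]
    have hsumQ : ∑ q : H ⧸ Z, u i q * conj (u j q) =
        ∑ q ∈ Finset.univ.filter (fun q : H ⧸ Z => ¬ p ∣ orderOf q), u i q * conj (u j q) := by
      rw [Finset.sum_filter]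
      refine Finset.sum_congr rfl (fun q _ => ?_)
      by_cases hq : p ∣ orderOf q
      · rw [hvi q hq, zero_mul, if_neg (not_not.2 hq)]
      · rw [if_pos hq]
    have hbij : ∑ h ∈ Finset.univ.filter (fun h : H => ¬ p ∣ orderOf h),
          u i (QuotientGroup.mk h) * conj (u j (QuotientGroup.mk h)) =
        ∑ q ∈ Finset.univ.filter (fun q : H ⧸ Z => ¬ p ∣ orderOf q), u i q * conj (u j q) := by
      refine Finset.sum_nbij (fun h : H => (QuotientGroup.mk h : H ⧸ Z)) ?_ ?_ ?_ ?_
      · intro h hh
        rw [Finset.mem_filter] at hh ⊢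
        exact ⟨Finset.mem_univ _, not_dvd_mk Z hh.2⟩
      · intro h hh h' hh' heq
        rw [Finset.mem_coe, Finset.mem_filter] at hh hh'
        have heq' : (QuotientGroup.mk h : H ⧸ Z) = QuotientGroup.mk h' := heq
        rw [QuotientGroup.eq] at heq'
        set z : H := h⁻¹ * h' with hz
        have hzc : z ∈ Subgroup.center H := hZc heq'
        have hh'eq : h' = h * z := by rw [hz, mul_inv_cancel_left]
        have hcomm : Commute h z := (Subgroup.mem_center_iff.1 hzc) h
        obtain ⟨k, hk⟩ := (hZp ⟨z, heq'⟩)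
        have hzk : z ^ p ^ k = 1 := by
          have := congrArg Subtype.val hk
          simpa using this
        have hoz : orderOf z ∣ p ^ k := orderOf_dvd_of_pow_eq_one hzk
        obtain ⟨k', _, hk'⟩ := (Nat.dvd_prime_pow hp).1 hoz
        have hcop : (orderOf h).Coprime (orderOf z) := by
          rw [hk']
          exact Nat.Coprime.pow_right _ ((Nat.Prime.coprime_iff_not_dvd hp).2 hh.2).symm
        have hord : orderOf h' = orderOf h * orderOf z := by
          rw [hh'eq]
          exact hcomm.orderOf_mul_eq_mul_orderOf_of_coprime hcop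
        have hk0 : k' = 0 := by
          by_contra hne
          apply hh'.2
          rw [hord, hk']
          exact Dvd.dvd.mul_left (dvd_pow_self p hne) _
        rw [hk0, pow_zero, orderOf_eq_one_iff] at hk'
        rw [hh'eq, hk', mul_one]
      · intro q hq
        rw [Finset.mem_coe, Finset.mem_filter] at hq
        obtain ⟨g, hg, hgr⟩ := exists_regular_lift (p := p) Z q hq.2
        exact ⟨g, by rw [Finset.mem_coe, Finset.mem_filter]; exact ⟨Finset.mem_univ _, hgr⟩, hg⟩
      · intro h _
        rfl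
    unfold classInner
    rw [hsumH, hbij, ← hsumQ]
    have hcard : (Nat.card H : ℂ) = (Nat.card Z : ℂ) * (Nat.card (H ⧸ Z) : ℂ) := by
      rw [← Nat.cast_mul, mul_comm, ← Subgroup.card_eq_card_quotient_mul_card_subgroup Z]
    have hZ0 : (Nat.card Z : ℂ) ≠ 0 := Nat.cast_ne_zero.2 Nat.card_pos.ne'
    have hQ0 : (Nat.card (H ⧸ Z) : ℂ) ≠ 0 := Nat.cast_ne_zero.2 Nat.card_pos.ne'
    rw [hcard, mul_inv, mul_assoc]

end PkC4

end Cfsg.Agent.Lib.Helper8.HKS
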