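import Mathlib
import Cfsg.Agent.Lib.Lead.BG148i
import Cfsg.Agent.Lib.Helper5.BG157d
import Cfsg.Agent.Lib.Helper4.BG23h
import Cfsg.Agent.Lib.Helper2.BG16g2
import Cfsg.Agent.Lib.Helper2.BG16d2
import Cfsg.Agent.S1456
import Cfsg.Agent.S1375
import Cfsg.Agent.S1372
import Cfsg.Agent.S1437
import Cfsg.Agent.S1408
import Cfsg.Agent.S1404
import Cfsg.Agent.S1423
import Cfsg.Agent.S1425
import Cfsg.Agent.S1414
import Cfsg.Agent.S1419
import Cfsg.Agent.S1411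
import Cfsg.Agent.S1431
import Cfsg.Agent.S1430
import Cfsg.Agent.S1434

set_option autoImplicit false
set_option linter.style.haveILetI false
set_option linter.unusedSectionVars false
set_option maxHeartbeats 800000

/-! B and G, Theorem 15.8 (S1376), part 1: the configuration of Corollary 14.8 with `H = M`. -/

namespace Cfsg.Agent.Lib.Lead.BG158

open Cfsg Cfsg.Agent.Lib.Lead Cfsg.Agent.Lib.Lead.BG10 Cfsg.Agent.Lib.Helper7 Cfsg.Agent.Lib.Helper4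
open Cfsg.Agent.Lib.Helper4.BG76 Cfsg.Agent.Lib.Helper4.BG8 Cfsg.Agent.Lib.Helper4.BG9
open Cfsg.Agent.Lib.Helper4.BG7 Cfsg.Agent.Lib.Helper4.BG12 Cfsg.Agent.Lib.Helper4.BGConj
open Cfsg.Agent.Lib.Helper4.BG13 Cfsg.Agent.Lib.Lead.BG95 Cfsg.Agent.Lib.Lead.BG12q
open Cfsg.Agent.Lib.Lead.BG11 Cfsg.Agent.Lib.Lead.BG13q Cfsg.Agent.Lib.Helper4.BG18
open Cfsg.Agent.Lib.Helper2.BG12 Cfsg.Agent.Lib.Helper6 Cfsg.Agent.Lib.Helper2.BG13x
open Cfsg.Agent.Lib.Helper2.BG14y Cfsg.Agent.Lib.Helper5.BG139 Cfsg.Agent.Lib.Lead.BG14n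
open Cfsg.Agent.Lib.Helper2.BG14z Cfsg.Agent.Lib.Helper5.BG143 Cfsg.Agent.Lib.Helper4.BG14
open Cfsg.Agent.Lib.Helper5.BG144 Cfsg.Agent.Lib.Lead.BG148 Cfsg.Agent.Lib.Helper2.BG16g
open Cfsg.Agent.Lib.Helper2.BG16e
open scoped commutatorElement

universe u

variable {G : Type u} [Group G] [Finite G]

/-- swapping the factors of a complement, when the first factor normalizes the second -/
theorem isComplIn_swap' {A B L : Subgroup G} (h : IsComplIn A B L)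
    (hn : A ≤ Subgroup.normalizer (B : Set G)) : IsComplIn B A L := by
  refine ⟨h.2.1, h.1, by rw [inf_comm]; exact h.2.2.1, ?_⟩
  intro m hm
  obtain ⟨a, ha, b, hb, rfl⟩ := h.2.2.2 m hm
  refine ⟨a * b * a⁻¹, (Subgroup.mem_normalizer_iff.mp (hn ha) b).mp hb, a, ha, by group⟩

/-- the configuration of Corollary 14.8 attached to `x ∈ M_σ` with `N[x]` of type `P`: `H = M` -/
theorem exists_cfg_of_partner (hG : IsMinSimpleOddOrder G) {M N : Subgroup G} (hM : IsCoatom M)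
    {x : G} (hx : x ∈ sigmaCore M) (hx1 : x ≠ 1)
    (hxM : ¬ Subgroup.centralizer ({x} : Set G) ≤ M) (hN : IsCoatom N)
    (hxN : Subgroup.centralizer ({x} : Set G) ≤ N) (hκ : (kappa N).Nonempty) :
    ∃ K U Ms : Subgroup G, ∃ r : ℕ, ∃ R : Subgroup G, Cfg N K U Ms r R M ∧ U ⊔ K = M ⊓ N ∧
      r ∣ orderOf x := by
  obtain ⟨N', ⟨hN', hCN'⟩, huniq, -, -, -, hE, hτ, hall⟩ := theorem_14_4_c hG hM hx hx1 hxM
  have e : N = N' := huniq N hN hxN
  subst e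
  obtain ⟨K₀, U₀, hKU₀⟩ := exists_sd hG hN
  have hsolv : Group.IsSolvable ↥N := solvable_of_ne_top hG hN.1
  have hc₀ := Cfsg.Agent.Lib.Helper2.BG12.sd_isComplIn hKU₀
  have hnσ : N ≤ Subgroup.normalizer (sigmaCore N : Set G) := le_normalizer_sigmaCore N
  have h1 := hall_of_compl hG hN le_rfl (isComplIn_swap' hc₀ (hc₀.1.trans hnσ))
  have h2 := hall_of_compl hG hN le_rfl (isComplIn_swap' hE (hE.1.trans hnσ))
  obtain ⟨n, hn, hnE⟩ := hall_conj hsolv _ h1 h2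
  have hKU := sd_cj_of_mem hKU₀ hn
  set K := cj n K₀ with hK
  set U := cj n U₀ with hU
  have hUK : U ⊔ K = M ⊓ N := by rw [hU, hK, ← cj_sup, hnE]
  have hK1 : K ≠ ⊥ := by
    intro h0
    obtain ⟨q, hq⟩ := hκ
    have h3 := hKU.hall.2.2 q hq.1 hq
    rw [h0, Subgroup.relIndex_bot_left] at h3
    exact h3 hq.2.1
  have hU1 : U ≠ ⊥ := (hall K U hKU).1
  obtain ⟨Ms, c⟩ := exists_ctx hG hN hKU hK1 hU1
  obtain ⟨r, hr, hrd⟩ := Nat.exists_prime_and_dvd (fun h => hx1 (orderOf_eq_one_iff.mp h))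
  haveI : Fact r.Prime := ⟨hr⟩
  have hrτ := hτ r hr hrd
  have hrσM : r ∈ sigma M := BG14n.mem_sigma_of_dvd_orderOf hG hM hx hr hrd
  have hrN : r ∣ Nat.card N := by
    by_contra h
    exact hrτ.2.2.2 (Cfsg.Agent.Lib.Helper5.BG157.prankLE_of_not_dvd hr h 1)
  have hrU : r ∣ Nat.card U := by
    rw [Cfsg.Agent.Lib.Helper4.BG14.card_mul_of_isComplIn hKU.compl] at hrN
    rcases (Nat.Prime.dvd_mul hr).mp hrN with h | h
    · exact h
    · exfalso
      have hKn : K ≤ Subgroup.normalizer (sigmaCore N : Set G) := hKU.hall.1.trans hnσ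
      rw [sup_comm] at h
      rcases prime_dvd_card_sup hKn hr h with h | h
      · exact hrτ.2.1 ((sigmaCore_hall hG hN).1.2.1 r hr h)
      · exact not_kappa_of_tau2 hrτ (hKU.hall.2.1 r hr h)
  obtain ⟨R, -, hR⟩ := exists_sylIn_ge (bot_le : (⊥ : Subgroup G) ≤ U) (IsPGroup.of_bot (p := r))
  have hRN : SylIn r N R := c.sylIn_M hG hR hrU
  have hRM : R ≤ M := (hR.1.trans le_sup_left).trans (hUK.le.trans inf_le_left)
  have hRnc : ¬ IsCyclic ↥R := by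
    intro hc
    exact hrτ.2.2.2 (prankLE_of_sylIn hRN (prankLE_one_of_isCyclic r))
  obtain ⟨E, hE', -⟩ := exists_complIn_ge hG hM (A := ⊥) bot_le (by simp)
  have hNR : Subgroup.normalizer (R : Set G) ≤ M :=
    (Cfsg.Agent.S1420.result hG M hM E hE').2.2.1 r R hrσM hR.2.1 hRM hRnc
  exact ⟨K, U, Ms, r, R, ⟨c, hr, hrU, hR, hM, hNR⟩, hUK, hrd⟩

end Cfsg.Agent.Lib.Lead.BG158
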