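import Mathlib
import Cfsg.Agent.Lib.Lead.BG158a

set_option autoImplicit false
set_option linter.style.haveILetI false
set_option linter.unusedSectionVars false
set_option maxHeartbeats 800000

/-! B and G, Theorem 15.8 (S1376), part 2: the complement `E = M ∩ N*` is abelian. -/

namespace Cfsg.Agent.Lib.Lead.BG158

open Cfsg Cfsg.Agent.Lib.Lead Cfsg.Agent.Lib.Lead.BG10 Cfsg.Agent.Lib.Helper7 Cfsg.Agent.Lib.Helper4
open Cfsg.Agent.Lib.Helper4.BG76 Cfsg.Agent.Lib.Helper4.BG8 Cfsg.Agent.Lib.Helper4.BG9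
open Cfsg.Agent.Lib.Helper4.BG7 Cfsg.Agent.Lib.Helper4.BG12 Cfsg.Agent.Lib.Helper4.BGConj
open Cfsg.Agent.Lib.Helper4.BG13 Cfsg.Agent.Lib.Lead.BG95 Cfsg.Agent.Lib.Lead.BG12q
open Cfsg.Agent.Lib.Lead.BG11 Cfsg.Agent.Lib.Lead.BG13q Cfsg.Agent.Lib.Helper4.BG18
open Cfsg.Agent.Lib.Helper2.BG12 Cfsg.Agent.Lib.Helper6 Cfsg.Agent.Lib.Helper2.BG13x
open Cfsg.Agent.Lib.Helper2.BG14y Cfsg.Agent.Lib.Helper5.BG139 Cfsg.Agent.Lib.Lead.BG14n
open Cfsg.Agent.Lib.Helper2.BG14z Cfsg.Agent.Lib.Helper5.BG143 Cfsg.Agent.Lib.Helper4.BG14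
open Cfsg.Agent.Lib.Helper5.BG144 Cfsg.Agent.Lib.Lead.BG148 Cfsg.Agent.Lib.Helper2.BG16g
open Cfsg.Agent.Lib.Helper2.BG16e
open scoped commutatorElement

universe u

variable {G : Type u} [Group G] [Finite G]

/-- the configuration of Theorem 15.8: `x ∈ M_σ` of prime order `r` with `N = N[x]` of type `P₂` -/
structure Ctx8 (M N K U Ms : Subgroup G) (r : ℕ) (R : Subgroup G) (x : G) : Prop where
  f : Cfg N K U Ms r R M
  hUK : U ⊔ K = M ⊓ N
  c : Cfsg.Agent.Lib.Helper5.BG157.Cfg M N x r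

/-- the configuration exists -/
theorem exists_ctx8 (hG : IsMinSimpleOddOrder G) {M N : Subgroup G} (hM : IsCoatom M)
    {x : G} (hx : x ∈ sigmaCore M) (hx1 : x ≠ 1)
    (hxM : ¬ Subgroup.centralizer ({x} : Set G) ≤ M) (hN : IsCoatom N)
    (hxN : Subgroup.centralizer ({x} : Set G) ≤ N) (hκ : (kappa N).Nonempty) :
    ∃ K U Ms : Subgroup G, ∃ r : ℕ, ∃ R : Subgroup G, ∃ k : ℕ, Ctx8 M N K U Ms r R (x ^ k) := by
  obtain ⟨K, U, Ms, r, R, f, hUK, hrd⟩ := exists_cfg_of_partner hG hM hx hx1 hxM hN hxN hκ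
  obtain ⟨k, hk⟩ := exists_pow_of_prime_dvd hrd
  refine ⟨K, U, Ms, r, R, k, f, hUK, ?_⟩
  have hy : x ^ k ∈ sigmaCore M := Subgroup.pow_mem _ hx k
  have hy1 : x ^ k ≠ 1 := by
    intro h
    rw [h, orderOf_one] at hk
    exact f.hr.one_lt.ne hk
  have hle : Subgroup.centralizer ({x} : Set G) ≤ Subgroup.centralizer ({x ^ k} : Set G) := by
    intro a ha
    rw [Subgroup.mem_centralizer_singleton_iff] at ha ⊢
    exact (Commute.pow_right (show Commute a x from ha) k).eq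
  have hyM : ¬ Subgroup.centralizer ({x ^ k} : Set G) ≤ M := fun h => hxM (hle.trans h)
  obtain ⟨N₀, -, huniq₀, -⟩ := theorem_14_4_c hG hM hx hx1 hxM
  have e0 : N = N₀ := huniq₀ N hN hxN
  obtain ⟨N₁, ⟨hN₁, hCN₁⟩, huniq, -⟩ := theorem_14_4_c hG hM hy hy1 hyM
  have e1 : N₁ = N := by rw [e0]; exact huniq₀ N₁ hN₁ (hle.trans hCN₁)
  subst e1
  obtain ⟨N₂, hN₂, hCN₂, hnc, hτ, hE⟩ := exists_coatom_of_prime hG hM hy hyM f.hr (hk ▸ dvd_rfl)
  have e2 : N₂ = N₁ := huniq N₂ hN₂ hCN₂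
  subst e2
  exact ⟨hG, hM, f.nilpotent_sigmaCore hG, hy, f.hr, hk, hyM, hN₁, hCN₁, huniq, hτ, hE, hnc⟩

namespace Ctx8

variable {M N K U Ms R : Subgroup G} {r : ℕ} {x : G}

theorem hG (t : Ctx8 M N K U Ms r R x) : IsMinSimpleOddOrder G := t.c.hG

/-- `E = M ∩ N*` is a complement of `M_σ` in `M` -/
theorem hE (t : Ctx8 M N K U Ms r R x) : IsComplIn (M ⊓ Ms) (sigmaCore M) M :=
  (t.f.step6 t.hG).2

theorem hKE (t : Ctx8 M N K U Ms r R x) : K ≤ M ⊓ Ms := le_inf (t.f.hKH t.hG) t.f.c.hKMs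

/-- `E ∩ N = K` -/
theorem E_inf_N (t : Ctx8 M N K U Ms r R x) : (M ⊓ Ms) ⊓ N ≤ K := by
  intro c hc
  have h1 : c ∈ U ⊔ K := by rw [t.hUK]; exact ⟨hc.1.1, hc.2⟩
  have h2 : c ∈ ((U ⊔ K : Subgroup G) : Set G) := h1
  rw [Subgroup.coe_mul_of_right_le_normalizer_left U K t.f.c.hKU.normal] at h2
  obtain ⟨u, hu, k, hk, rfl⟩ := Set.mem_mul.mp h2
  have hu' : u ∈ U ⊓ Ms := by
    refine ⟨hu, ?_⟩
    have : u = u * k * k⁻¹ := by group
    rw [this]
    exact Ms.mul_mem hc.1.2 (Ms.inv_mem (t.f.c.hKMs hk))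
  rw [t.f.c.U_inf_Mstar, Subgroup.mem_bot] at hu'
  rw [hu', one_mul]
  exact hk

/-- `C_E(M_σ) = 1` -/
theorem cent_eq_bot (t : Ctx8 M N K U Ms r R x) :
    (M ⊓ Ms) ⊓ Subgroup.centralizer (sigmaCore M : Set G) = ⊥ := by
  rw [eq_bot_iff]
  intro c hc
  rw [Subgroup.mem_bot]
  have hcx : c ∈ Subgroup.centralizer ({x} : Set G) := by
    rw [Subgroup.mem_centralizer_singleton_iff]
    exact (Subgroup.mem_centralizer_iff.mp hc.2 x t.c.hx).symm
  have hcK : c ∈ K := t.E_inf_N ⟨hc.1, t.c.hCN hcx⟩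
  by_contra hc1
  obtain ⟨⟨u, hu⟩, hu1'⟩ := (Subgroup.ne_bot_iff_exists_ne_one).mp t.f.c.hU1
  have hu1 : u ≠ 1 := fun h => hu1' (Subtype.ext h)
  apply hu1
  apply t.f.c.fpf t.hG c hcK hc1 u hu
  exact (Subgroup.mem_centralizer_iff.mp hc.2 u (t.f.U_le_sigmaCore t.hG hu)).symm


/-- `M' ≤ F(M)` (B and G, Theorem 15.7(c)), from S1456 -/
theorem comm_le_fittingOf' (t : Ctx8 M N K U Ms r R x) : ⁅M, M⁆ ≤ fittingOf M := by
  have hG := t.hG
  haveI : Fact r.Prime := ⟨t.c.hp⟩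
  haveI : Group.IsSolvable ↥M := solvable_of_ne_top hG t.c.hM.1
  have hodd : Odd (Nat.card ↥M) := odd_card_sub hG M
  have hxM : x ∈ M := sigmaCore_le M t.c.hx
  have hxF : x ∈ fittingOf M :=
    le_fittingOf (sigmaCore_le M) (le_normalizer_sigmaCore M) t.c.hnil t.c.hx
  set y : ↥M := ⟨x, hxM⟩ with hy
  have hyF : y ∈ Cfsg.fittingSubgroup ↥M := by
    obtain ⟨z, hz, hzx⟩ := hxF
    have : z = y := Subtype.ext hzx
    rw [← this]; exact hz
  have hyo : orderOf y = r := by rw [hy, Subgroup.orderOf_mk, t.c.hxp]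
  have hE : Subgroup.zpowers y ≤ Cfsg.fittingSubgroup ↥M := by
    rw [Subgroup.zpowers_le]; exact hyF
  have hEe : IsElementaryAbelian r (Subgroup.zpowers y) := by
    refine ⟨inferInstance, ?_⟩
    intro a ha
    obtain ⟨k, rfl⟩ := Subgroup.mem_zpowers_iff.mp ha
    rw [← zpow_natCast, ← zpow_mul, mul_comm, zpow_mul, zpow_natCast, ← hyo, pow_orderOf_eq_one,
      one_zpow]
  have hr : RankLE 2 ↥(Cfsg.fittingSubgroup ↥M ⊓
      Subgroup.centralizer ((Subgroup.zpowers y : Subgroup ↥M) : Set ↥M)) := by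
    intro q hq
    haveI : Fact q.Prime := ⟨hq⟩
    set A : Subgroup ↥M := Cfsg.fittingSubgroup ↥M ⊓
      Subgroup.centralizer ((Subgroup.zpowers y : Subgroup ↥M) : Set ↥M) with hA
    set Y : Subgroup G := A.map M.subtype with hY
    have hYle : Y ≤ M ⊓ N := by
      rintro _ ⟨a, ha, rfl⟩
      refine ⟨a.2, t.c.hCN ?_⟩
      rw [Subgroup.mem_centralizer_singleton_iff]
      have h1 := Subgroup.mem_centralizer_iff.mp ha.2 y (Subgroup.mem_zpowers y)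
      have h2 := congrArg Subtype.val h1
      simpa [hy] using h2.symm
    have h2 : PRankLE q 2 ↥Y := by
      by_cases hd : q ∣ Nat.card ↥Y
      · exact t.c.prankLE_two hYle hq hd
      · exact Cfsg.Agent.Lib.Helper5.BG157.prankLE_of_not_dvd hq hd 2
    exact Rk2.prankLE_of_injective
      (A.equivMapOfInjective M.subtype M.subtype_injective).toMonoidHom
      (A.equivMapOfInjective M.subtype M.subtype_injective).injective h2
  have h := Cfsg.Agent.S1456.result hodd r (Subgroup.zpowers y) hE hEe hr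
  rw [← Subgroup.map_subtype_commutator]
  exact Subgroup.map_mono h

/-- `E = M ∩ N*` is abelian -/
theorem E_comm (t : Ctx8 M N K U Ms r R x) : ∀ a ∈ M ⊓ Ms, ∀ b ∈ M ⊓ Ms, a * b = b * a := by
  have hG := t.hG
  intro a ha b hb
  have h1 : ⁅a, b⁆ ∈ fittingOf M :=
    t.comm_le_fittingOf' (Subgroup.commutator_mem_commutator ha.1 hb.1)
  have h2 : ⁅a, b⁆ ∈ M ⊓ Ms := (M ⊓ Ms).mul_mem ((M ⊓ Ms).mul_mem ((M ⊓ Ms).mul_mem ha hb)
    ((M ⊓ Ms).inv_mem ha)) ((M ⊓ Ms).inv_mem hb)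
  -- an element of `E ∩ F(M)` centralizes `M_σ`
  have h3 : ⁅a, b⁆ ∈ Subgroup.centralizer (sigmaCore M : Set G) := by
    rw [Subgroup.mem_centralizer_iff]
    intro s hs
    have hsF : s ∈ fittingOf M :=
      le_fittingOf (sigmaCore_le M) (le_normalizer_sigmaCore M) t.c.hnil hs
    haveI : Group.IsNilpotent ↥(fittingOf M) := isNilpotent_fittingOf M
    have hcop : (orderOf (⟨s, hsF⟩ : ↥(fittingOf M))).Coprime
        (orderOf (⟨⁅a, b⁆, h1⟩ : ↥(fittingOf M))) := by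
      rw [Subgroup.orderOf_mk, Subgroup.orderOf_mk]
      have d1 : orderOf s ∣ Nat.card ↥(sigmaCore M) := by
        have := orderOf_dvd_natCard (⟨s, hs⟩ : ↥(sigmaCore M))
        rwa [Subgroup.orderOf_mk] at this
      have d2 : orderOf ⁅a, b⁆ ∣ Nat.card ↥(M ⊓ Ms : Subgroup G) := by
        have := orderOf_dvd_natCard (⟨⁅a, b⁆, h2⟩ : ↥(M ⊓ Ms : Subgroup G))
        rwa [Subgroup.orderOf_mk] at this
      have hc := Cfsg.Agent.Lib.Helper2.BG13x.coprime_card_compl_sigmaCore hG t.c.hM t.hE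
      exact (hc.coprime_dvd_left d2).symm.coprime_dvd_left d1
    have h := Cfsg.Agent.Lib.Helper5.NilSym.commute_of_coprime ↥(fittingOf M) ⟨s, hsF⟩ ⟨⁅a, b⁆, h1⟩
      (isOfFinOrder_of_finite _) (isOfFinOrder_of_finite _) hcop
    exact congrArg Subtype.val h.eq
  have h4 : ⁅a, b⁆ ∈ (M ⊓ Ms) ⊓ Subgroup.centralizer (sigmaCore M : Set G) := ⟨h2, h3⟩
  rw [t.cent_eq_bot, Subgroup.mem_bot, commutatorElement_def] at h4
  calc a * b = (a * b * a⁻¹ * b⁻¹) * b * a := by group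
    _ = b * a := by rw [h4, one_mul]

end Ctx8

end Cfsg.Agent.Lib.Lead.BG158
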