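import Mathlib
import Cfsg.Agent.Lib.Lead.BG158b

set_option autoImplicit false
set_option linter.style.haveILetI false
set_option linter.unusedSectionVars false
set_option maxHeartbeats 800000

/-! B and G, Theorem 15.8 (S1376), part 3: a prime of `τ₂(M)` lies in `σ(N*)`. -/

namespace Cfsg.Agent.Lib.Lead.BG158

open Cfsg Cfsg.Agent.Lib.Lead Cfsg.Agent.Lib.Lead.BG10 Cfsg.Agent.Lib.Helper7 Cfsg.Agent.Lib.Helper4
open Cfsg.Agent.Lib.Helper4.BG76 Cfsg.Agent.Lib.Helper4.BG8 Cfsg.Agent.Lib.Helper4.BG9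
open Cfsg.Agent.Lib.Helper4.BG7 Cfsg.Agent.Lib.Helper4.BG12 Cfsg.Agent.Lib.Helper4.BGConj
open Cfsg.Agent.Lib.Helper4.BG13 Cfsg.Agent.Lib.Lead.BG95 Cfsg.Agent.Lib.Lead.BG12q
open Cfsg.Agent.Lib.Lead.BG11 Cfsg.Agent.Lib.Lead.BG13q Cfsg.Agent.Lib.Helper4.BG18
open Cfsg.Agent.Lib.Helper2.BG12 Cfsg.Agent.Lib.Helper6 Cfsg.Agent.Lib.Helper2.BG13x
open Cfsg.Agent.Lib.Helper2.BG14y Cfsg.Agent.Lib.Helper5.BG139 Cfsg.Agent.Lib.Lead.BG14n
open Cfsg.Agent.Lib.Helper2.BG14z Cfsg.Agent.Lib.Helper5.BG143 Cfsg.Agent.Lib.Helper4.BG14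
open Cfsg.Agent.Lib.Helper5.BG144 Cfsg.Agent.Lib.Lead.BG148 Cfsg.Agent.Lib.Helper2.BG16g
open Cfsg.Agent.Lib.Helper2.BG16e
open scoped commutatorElement

universe u

variable {G : Type u} [Group G] [Finite G]

namespace Ctx8

variable {M N K U Ms R : Subgroup G} {r : ℕ} {x : G}

/-- an element of `E ∩ F(M)` is trivial -/
theorem eq_one_of_mem_fittingOf (t : Ctx8 M N K U Ms r R x) {a : G} (h1 : a ∈ fittingOf M)
    (h2 : a ∈ M ⊓ Ms) : a = 1 := by
  have hG := t.hG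
  have h3 : a ∈ Subgroup.centralizer (sigmaCore M : Set G) := by
    rw [Subgroup.mem_centralizer_iff]
    intro s hs
    have hsF : s ∈ fittingOf M :=
      le_fittingOf (sigmaCore_le M) (le_normalizer_sigmaCore M) t.c.hnil hs
    haveI : Group.IsNilpotent ↥(fittingOf M) := isNilpotent_fittingOf M
    have hcop : (orderOf (⟨s, hsF⟩ : ↥(fittingOf M))).Coprime
        (orderOf (⟨a, h1⟩ : ↥(fittingOf M))) := by
      rw [Subgroup.orderOf_mk, Subgroup.orderOf_mk]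
      have d1 : orderOf s ∣ Nat.card ↥(sigmaCore M) := by
        have := orderOf_dvd_natCard (⟨s, hs⟩ : ↥(sigmaCore M))
        rwa [Subgroup.orderOf_mk] at this
      have d2 : orderOf a ∣ Nat.card ↥(M ⊓ Ms : Subgroup G) := by
        have := orderOf_dvd_natCard (⟨a, h2⟩ : ↥(M ⊓ Ms : Subgroup G))
        rwa [Subgroup.orderOf_mk] at this
      have hc := Cfsg.Agent.Lib.Helper2.BG13x.coprime_card_compl_sigmaCore hG t.c.hM t.hE
      exact (hc.coprime_dvd_left d2).symm.coprime_dvd_left d1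
    have h := Cfsg.Agent.Lib.Helper5.NilSym.commute_of_coprime ↥(fittingOf M) ⟨s, hsF⟩ ⟨a, h1⟩
      (isOfFinOrder_of_finite _) (isOfFinOrder_of_finite _) hcop
    exact congrArg Subtype.val h.eq
  have h4 : a ∈ (M ⊓ Ms) ⊓ Subgroup.centralizer (sigmaCore M : Set G) := ⟨h2, h3⟩
  rw [t.cent_eq_bot, Subgroup.mem_bot] at h4
  exact h4

/-- for `s ∈ τ₂(M)`: the elementary abelian subgroup `A ≤ E` and a subgroup `X ≤ A` of order `s`
with fixed points on `M_σ` -/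
theorem exists_X (t : Ctx8 M N K U Ms r R x) {s : ℕ} [hs : Fact s.Prime] (hsτ : s ∈ tau2 M) :
    ∃ A X : Subgroup G, A ≤ M ⊓ Ms ∧ IsElementaryAbelian s A ∧ Nat.card A = s ^ 2 ∧ X ≤ A ∧
      Nat.card X = s ∧ sigmaCore M ⊓ Subgroup.centralizer (X : Set G) ≠ ⊥ ∧
      Subgroup.centralizer (X : Set G) ≤ M ∧
      ∀ L : Subgroup G, IsCoatom L → Subgroup.centralizer (X : Set G) ≤ L → L = M := by
  have hG := t.hG
  have hM := t.c.hM
  obtain ⟨A, hAE, hAe, hAc⟩ := exists_A_in_compl hG hM t.hE hsτ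
  have hAM : A ≤ M := hAE.trans inf_le_left
  have h17 := Cfsg.Agent.S1417.result hG M hM s hsτ A ⟨hAM, hAe, hAc⟩
  have h18 := Cfsg.Agent.S1418.result hG M hM _ t.hE s hsτ A ⟨hAE, hAe, hAc⟩
  have hσ1 : sigmaCore M ≠ ⊥ := fun h => t.c.hx1 (by
    have := t.c.hx; rwa [h, Subgroup.mem_bot] at this)
  have hcop : ¬ s ∣ Nat.card ↥(sigmaCore M) := fun hd =>
    hsτ.2.1 ((sigmaCore_hall hG hM).1.2.1 s hs.out hd)
  obtain ⟨B, hBA, hBi, hBfix⟩ := exists_hyperplane_fixed hAe (by rw [hAc]) hcop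
    (hAM.trans (le_normalizer_sigmaCore M)) hσ1
  have hBA' : B ≠ A := by
    intro h
    rw [h, h17.2.2.2.1] at hBfix
    exact hBfix rfl
  have hBc : Nat.card B = s := by
    have h1 := BG7.card_mul_relIndex hBA
    rw [hAc] at h1
    have h2 : B.relIndex A ≠ 1 := by
      intro h
      exact hBA' (le_antisymm hBA (Subgroup.relIndex_eq_one.mp h))
    have h3 : B.relIndex A ∣ s ^ 2 := Dvd.intro_left _ h1
    obtain ⟨j, hj, hjs⟩ := (Nat.dvd_prime_pow hs.out).mp h3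
    have hj1 : j = 1 := by
      rcases (by omega : j = 0 ∨ j = 1 ∨ j = 2) with h | h | h
      · rw [h, pow_zero] at hjs; exact absurd hjs h2
      · exact h
      · rw [h] at hjs
        rw [hjs] at hBi
        have := hs.out.one_lt
        nlinarith
    rw [hj1, pow_one] at hjs
    rw [hjs] at h1
    have : Nat.card B * s = s * s := by rw [h1]; ring
    exact Nat.eq_of_mul_eq_mul_right hs.out.pos this
  obtain ⟨h1, h2⟩ := h18.2.2 B hBA hBc hBfix
  exact ⟨A, B, hAE, hAe, hAc, hBA, hBc, hBfix, h1, h2⟩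


/-- for `s ∈ τ₂(M)`: `s ∈ σ(N*)` -/
theorem s_mem_sigma (t : Ctx8 M N K U Ms r R x) {s : ℕ} [hs : Fact s.Prime] {X : Subgroup G}
    (hXE : X ≤ M ⊓ Ms) (hXc : Nat.card X = s)
    (huniq : ∀ L : Subgroup G, IsCoatom L → Subgroup.centralizer (X : Set G) ≤ L → L = M) :
    s ∈ sigma Ms := by
  have hG := t.hG
  have hMs := t.f.c.hMs
  by_contra hsσ
  obtain ⟨e, heX, he1, hez, heo⟩ := Cfsg.Agent.Lib.Helper4.BG20.exists_generator_of_prime_card (X := X) (by rw [hXc]; exact hs.out)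
  rw [hXc] at heo
  obtain ⟨⟨k, hk⟩, hk1'⟩ := (Subgroup.ne_bot_iff_exists_ne_one).mp t.f.c.hK1
  have hk1 : k ≠ 1 := fun h => hk1' (Subtype.ext h)
  have hek : e * k = k * e := t.E_comm e (hXE heX) k (t.hKE hk)
  have hCe : Subgroup.centralizer ({e} : Set G) = Subgroup.centralizer (X : Set G) := by
    rw [← hez, centralizer_zpowers']
  have h32 := Cfsg.Agent.S1432.result hG Ms hMs k (t.f.c.hKσ hk) hk1 e
    ⟨(hXE heX).2, Subgroup.mem_centralizer_singleton_iff.mpr hek⟩ he1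
    (by
      intro p hp hd
      rw [heo] at hd
      rwa [(Nat.prime_dvd_prime_iff_eq hp hs.out).mp hd])
  rcases h32 with ⟨h1, -⟩ | ⟨-, -, h3, -⟩
  · -- `s ∈ κ(N*)`: `X` is conjugate into `K*`
    have hsκ : s ∈ kappa Ms := h1 s hs.out (by rw [heo])
    have hsolv : Group.IsSolvable ↥Ms := solvable_of_ne_top hG hMs.1
    obtain ⟨d, hd, hdX⟩ := exists_cj_le_hall hsolv _ t.f.c.hKstH (hXE.trans inf_le_right) (by
      intro p hp hpd
      rw [hXc] at hpd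
      rwa [(Nat.prime_dvd_prime_iff_eq hp hs.out).mp hpd])
    have h4 := t.f.c.hCKs hG hdX (by rw [card_cj, hXc]; exact hs.out)
    rw [centralizer_cj] at h4
    have h5 : Subgroup.centralizer (X : Set G) ≤ cj d⁻¹ N := by
      have := cj_mono d⁻¹ h4
      rwa [cj_inv_cj] at this
    have h6 := huniq _ (isCoatom_cj t.f.c.hM d⁻¹) h5
    exact t.f.not_conj_M hG d⁻¹ h6.symm
  · -- `𝓜(C(e)) = {N*}`: then `N* = M`
    rw [hCe] at h3
    exact t.f.Ms_ne_H hG (huniq Ms hMs h3)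

end Ctx8

end Cfsg.Agent.Lib.Lead.BG158
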