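import Mathlib
import Cfsg.Agent.Lib.Lead.BG158c
import Cfsg.Agent.S1364

set_option autoImplicit false
set_option linter.style.haveILetI false
set_option linter.unusedSectionVars false
set_option maxHeartbeats 800000

namespace Cfsg.Agent.Lib.Lead.BG158

open Cfsg Cfsg.Agent.Lib.Lead Cfsg.Agent.Lib.Lead.BG10 Cfsg.Agent.Lib.Helper7 Cfsg.Agent.Lib.Helper4
open Cfsg.Agent.Lib.Helper4.BG76 Cfsg.Agent.Lib.Helper4.BG8 Cfsg.Agent.Lib.Helper4.BG9
open Cfsg.Agent.Lib.Helper4.BG7 Cfsg.Agent.Lib.Helper4.BG12 Cfsg.Agent.Lib.Helper4.BGConj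
open Cfsg.Agent.Lib.Helper4.BG13 Cfsg.Agent.Lib.Lead.BG95 Cfsg.Agent.Lib.Lead.BG12q
open Cfsg.Agent.Lib.Lead.BG11 Cfsg.Agent.Lib.Lead.BG13q Cfsg.Agent.Lib.Helper4.BG18
open Cfsg.Agent.Lib.Helper2.BG12 Cfsg.Agent.Lib.Helper6 Cfsg.Agent.Lib.Helper2.BG13x
open Cfsg.Agent.Lib.Helper2.BG14y Cfsg.Agent.Lib.Helper5.BG139 Cfsg.Agent.Lib.Lead.BG14n
open Cfsg.Agent.Lib.Helper2.BG14z Cfsg.Agent.Lib.Helper5.BG143 Cfsg.Agent.Lib.Helper4.BG14
open Cfsg.Agent.Lib.Helper5.BG144 Cfsg.Agent.Lib.Lead.BG148 Cfsg.Agent.Lib.Helper2.BG16g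
open Cfsg.Agent.Lib.Helper2.BG16e
open scoped commutatorElement

universe u

variable {G : Type u} [Group G] [Finite G]

namespace Ctx8

variable {M N K U Ms R : Subgroup G} {r : ℕ} {x : G}

/-- the data for a prime `s ∈ τ₂(M)`: an element `e ∈ E ∩ N*_σ` of order `s` with
`𝓜(C(e)) = {M}` -/
structure T2 (M Ms A : Subgroup G) (s : ℕ) (e : G) : Prop where
  hsτ : s ∈ tau2 M
  hAE : A ≤ M ⊓ Ms
  hAe : IsElementaryAbelian s A
  hAc : Nat.card A = s ^ 2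
  heA : e ∈ A
  heo : orderOf e = s
  hCe : Subgroup.centralizer ({e} : Set G) ≤ M
  huniq : ∀ L : Subgroup G, IsCoatom L → Subgroup.centralizer ({e} : Set G) ≤ L → L = M
  hsσ : s ∈ sigma Ms
  hAσ : A ≤ sigmaCore Ms

theorem exists_t2 (t : Ctx8 M N K U Ms r R x) {s : ℕ} (hsτ : s ∈ tau2 M) :
    ∃ (A : Subgroup G) (e : G), T2 M Ms A s e := by
  have hG := t.hG
  haveI : Fact s.Prime := ⟨hsτ.1⟩
  obtain ⟨A, X, hAE, hAe, hAc, hXA, hXc, -, hCX, huniq⟩ := t.exists_X hsτ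
  have hsσ := t.s_mem_sigma (hXA.trans hAE) hXc huniq
  obtain ⟨e, heX, he1, hez, heo⟩ :=
    Cfsg.Agent.Lib.Helper4.BG20.exists_generator_of_prime_card (X := X) (by rw [hXc]; exact hsτ.1)
  rw [hXc] at heo
  have hCe : Subgroup.centralizer ({e} : Set G) = Subgroup.centralizer (X : Set G) := by
    rw [← hez, centralizer_zpowers']
  refine ⟨A, e, hsτ, hAE, hAe, hAc, hXA heX, heo, hCe ▸ hCX, by rw [hCe]; exact huniq, hsσ, ?_⟩
  apply le_sigmaCore_of_piNum hG t.f.c.hMs (hAE.trans inf_le_right)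
  intro p hp hd
  rw [hAc] at hd
  rwa [(Nat.prime_dvd_prime_iff_eq hp hsτ.1).mp (hp.dvd_of_dvd_pow hd)]

/-- case (i): `N*` is not of type `P₂` -/
theorem U_eq_bot_of_t2 (t : Ctx8 M N K U Ms r R x) {A : Subgroup G} {s : ℕ} {e : G}
    (d : T2 M Ms A s e) {KT UT : Subgroup G} (hKUT : IsSigmaDecomposition Ms KT UT)
    (hKT : KT ≠ ⊥) : UT = ⊥ := by
  have hG := t.hG
  have hMs := t.f.c.hMs
  by_contra hUT
  obtain ⟨-, hTI, hσF⟩ := Cfsg.Agent.S1372.result hG Ms hMs KT UT hKUT hKT hUT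
  have he1 : e ≠ 1 := by
    intro h
    have := d.heo
    rw [h, orderOf_one] at this
    exact d.hsτ.1.one_lt.ne this
  have hnotle : ¬ Subgroup.centralizer ({e} : Set G) ≤ Ms := fun h =>
    t.f.Ms_ne_H hG (d.huniq Ms hMs h)
  obtain ⟨c, hc, hcMs⟩ := SetLike.not_le_iff_exists.mp hnotle
  have hsolv : Group.IsSolvable ↥Ms := solvable_of_ne_top hG hMs.1
  have hMs1 : Ms ≠ ⊥ := Cfsg.Agent.Lib.Helper2.BG11.coatom_ne_bot hG hMs
  have hnorm : Subgroup.normalizer ((fittingOf Ms : Subgroup G) : Set G) = Ms :=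
    normalizer_eq_of_isCoatom hG hMs (fittingOf_ne_bot hsolv hMs1) (fittingOf_le Ms)
      (le_normalizer_fittingOf Ms)
  have heF : e ∈ fittingOf Ms := hσF (d.hAσ d.heA)
  apply he1
  apply hTI c (by rw [hnorm]; exact hcMs) e heF
  have : c * e * c⁻¹ = e := by
    have := Subgroup.mem_centralizer_singleton_iff.mp hc
    rw [this]; group
  rw [this]; exact heF


theorem T2.he1 {A : Subgroup G} {s : ℕ} {e : G} (d : T2 M Ms A s e) : e ≠ 1 := by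
  intro h
  have := d.heo
  rw [h, orderOf_one] at this
  exact d.hsτ.1.one_lt.ne this

/-- case (ii): `N*_σ` is not nilpotent -/
theorem not_nilpotent_of_t2 (t : Ctx8 M N K U Ms r R x) {A : Subgroup G} {s : ℕ} {e : G}
    (d : T2 M Ms A s e) {KT UT : Subgroup G} (hKUT : IsSigmaDecomposition Ms KT UT)
    (hKT : KT ≠ ⊥) : ¬ Group.IsNilpotent ↥(sigmaCore Ms) := by
  have hG := t.hG
  have hMs := t.f.c.hMs
  intro hnil
  have hUT := t.U_eq_bot_of_t2 d hKUT hKT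
  haveI : Fact s.Prime := ⟨d.hsτ.1⟩
  have hnotle : ¬ Subgroup.centralizer ({e} : Set G) ≤ Ms := fun h =>
    t.f.Ms_ne_H hG (d.huniq Ms hMs h)
  have c5 : Cfsg.Agent.Lib.Helper5.BG157.Cfg Ms M e s :=
    ⟨hG, hMs, hnil, d.hAσ d.heA, d.hsτ.1, d.heo, hnotle, t.c.hM, d.hCe, d.huniq, d.hsτ,
      by rw [inf_comm]; exact t.hE, t.f.not_conj_Ms hG⟩
  obtain ⟨P, -, hP⟩ := exists_sylIn_ge (bot_le : (⊥ : Subgroup G) ≤ sigmaCore Ms)
    (IsPGroup.of_bot (p := s))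
  by_cases hPab : ∀ a ∈ P, ∀ b ∈ P, a * b = b * a
  · obtain ⟨hab, -, -⟩ := c5.abelian_case hP hPab
    exact hKT (Cfsg.Agent.Lib.Helper5.BG157.K_eq_bot_of_abelian hG hMs hKUT hUT hab)
  · obtain ⟨-, -, hF⟩ := c5.nonabelian_facts hP hPab
    have heF : e ∈ fittingOf M := by
      rw [hF]; exact (le_sup_right : Subgroup.zpowers e ≤ _) (Subgroup.mem_zpowers e)
    exact d.he1 (t.eq_one_of_mem_fittingOf heF (d.hAE d.heA))

end Ctx8

end Cfsg.Agent.Lib.Lead.BG158
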