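import Mathlib
import Cfsg.Agent.Lib.Lead.BG158d
import Cfsg.Agent.S1364

set_option autoImplicit false
set_option linter.style.haveILetI false
set_option linter.unusedSectionVars false
set_option maxHeartbeats 800000

namespace Cfsg.Agent.Lib.Lead.BG158

open Cfsg Cfsg.Agent.Lib.Lead Cfsg.Agent.Lib.Lead.BG10 Cfsg.Agent.Lib.Helper7 Cfsg.Agent.Lib.Helper4
open Cfsg.Agent.Lib.Helper4.BG76 Cfsg.Agent.Lib.Helper4.BG8 Cfsg.Agent.Lib.Helper4.BG9
open Cfsg.Agent.Lib.Helper4.BG7 Cfsg.Agent.Lib.Helper4.BG12 Cfsg.Agent.Lib.Helper4.BGConj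
open Cfsg.Agent.Lib.Helper4.BG13 Cfsg.Agent.Lib.Lead.BG95 Cfsg.Agent.Lib.Lead.BG12q
open Cfsg.Agent.Lib.Lead.BG11 Cfsg.Agent.Lib.Lead.BG13q Cfsg.Agent.Lib.Helper4.BG18
open Cfsg.Agent.Lib.Helper2.BG12 Cfsg.Agent.Lib.Helper6 Cfsg.Agent.Lib.Helper2.BG13x
open Cfsg.Agent.Lib.Helper2.BG14y Cfsg.Agent.Lib.Helper5.BG139 Cfsg.Agent.Lib.Lead.BG14n
open Cfsg.Agent.Lib.Helper2.BG14z Cfsg.Agent.Lib.Helper5.BG143 Cfsg.Agent.Lib.Helper4.BG14
open Cfsg.Agent.Lib.Helper5.BG144 Cfsg.Agent.Lib.Lead.BG148 Cfsg.Agent.Lib.Helper2.BG16g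
open Cfsg.Agent.Lib.Helper2.BG16e
open scoped commutatorElement Pointwise

universe u

variable {G : Type u} [Group G] [Finite G]


/-- abstract: for an ARBITRARY complement `D` of `Q` in `X`, `C_X(K)` does not centralize `D` -/
theorem fix_inf_centralizer_D' {K X Q D : Subgroup G} {q : ℕ} (c : Cfsg.Agent.Lib.Helper4.BG23.Cfg K X Q q)
    (hD : IsComplIn Q D X) :
    (X ⊓ Subgroup.centralizer (K : Set G)) ⊓ Subgroup.centralizer (D : Set G) = ⊥ := by
  obtain ⟨x, hx, hKD'⟩ := c.exists_invariant_cjs hD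
  have hD' := Cfsg.Agent.Lib.Helper4.BG23.isComplIn_cjs hD hx c.hXQ
  have hXn := c.X_le_normalizer_Q0 hD' hKD'
  have heq : Q ⊓ Subgroup.centralizer (D : Set G) =
      Q ⊓ Subgroup.centralizer ((MulAut.conj x • D : Subgroup G) : Set G) := by
    ext g
    rw [Subgroup.mem_normalizer_iff.mp (hXn hx) g]
    constructor
    · intro hg
      exact ⟨(Subgroup.mem_normalizer_iff.mp (c.hXQ hx) g).mp hg.1,
        (Cfsg.Agent.Lib.Helper4.BG23.conj_mem_centralizer_cjs_iff x g D).mpr hg.2⟩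
    · intro hg
      exact ⟨(Subgroup.mem_normalizer_iff.mp (c.hXQ hx) g).mpr hg.1,
        (Cfsg.Agent.Lib.Helper4.BG23.conj_mem_centralizer_cjs_iff x g D).mp hg.2⟩
  have h0 := c.fix_inf_centralizer_D hD' hKD'
  rw [eq_bot_iff, ← h0]
  refine le_inf inf_le_left ?_
  have : (X ⊓ Subgroup.centralizer (K : Set G)) ⊓ Subgroup.centralizer (D : Set G) ≤
      Q ⊓ Subgroup.centralizer (D : Set G) := le_inf (inf_le_left.trans c.fix_le) inf_le_right
  rw [heq] at this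
  exact this.trans inf_le_right

/-- if some Sylow `s`-subgroup of `G` is abelian, every `s`-subgroup is -/
theorem comm_of_sylow_comm {s : ℕ} [Fact s.Prime] {S : Sylow s G}
    (hS : IsMulCommutative (S : Subgroup G)) {P : Subgroup G} (hP : IsPGroup s P) :
    ∀ a ∈ P, ∀ b ∈ P, a * b = b * a := by
  obtain ⟨S', hS'⟩ := hP.exists_le_sylow
  obtain ⟨g, hg⟩ := MulAction.exists_smul_eq G S S'
  intro a ha b hb
  have ha' : a ∈ ((g • S : Sylow s G) : Subgroup G) := by rw [hg]; exact hS' ha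
  have hb' : b ∈ ((g • S : Sylow s G) : Subgroup G) := by rw [hg]; exact hS' hb
  rw [Sylow.coe_subgroup_smul, Cfsg.Agent.Lib.Helper4.BG23.mem_cjs_iff] at ha' hb'
  have h := hS.is_comm.comm ⟨_, ha'⟩ ⟨_, hb'⟩
  have h2 := congrArg Subtype.val h
  simp only [Subgroup.coe_mul] at h2
  have h3 : g⁻¹ * (a * b) * g = g⁻¹ * (b * a) * g := by
    calc g⁻¹ * (a * b) * g = g⁻¹ * a * g * (g⁻¹ * b * g) := by group
      _ = g⁻¹ * b * g * (g⁻¹ * a * g) := h2
      _ = g⁻¹ * (b * a) * g := by group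
  exact mul_left_cancel (mul_right_cancel h3)

namespace Ctx8

variable {M N K U Ms R : Subgroup G} {r : ℕ} {x : G}

/-- case (iii), concluding: `τ₂(M)` data is contradictory -/
theorem false_of_t2 (t : Ctx8 M N K U Ms r R x) {A : Subgroup G} {s : ℕ} {e : G}
    (d : T2 M Ms A s e) : False := by
  have hG := t.hG
  have hMs := t.f.c.hMs
  have hM := t.c.hM
  haveI : Fact s.Prime := ⟨d.hsτ.1⟩
  obtain ⟨hcyc, hKst1, -, -⟩ := Cfsg.Agent.S1364.result hG N t.f.c.hM K U t.f.c.hKU t.f.c.hK1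
  obtain ⟨UT, hKUT⟩ := Cfsg.Agent.Lib.Helper4.BG19.exists_sigmaDecomposition hG hMs hcyc t.f.c.hKstH
  have hnn := t.not_nilpotent_of_t2 d hKUT hKst1
  have hne : fittingHallOf Ms ≠ sigmaCore Ms := by
    intro h
    apply hnn
    rw [← h]
    exact Cfsg.Agent.Lib.Helper4.isNilpotent_fittingHallOf (M := Ms)
  obtain ⟨Q, hMsQ, c⟩ := Cfsg.Agent.Lib.Helper4.BG23.exists_cfg hG hMs hKUT hne
  have hqβ := Cfsg.Agent.Lib.Helper4.BG23.card_fix_mem_beta hG hMs hKUT hne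
  have hKeq : K = sigmaCore Ms ⊓ Subgroup.centralizer
      ((sigmaCore N ⊓ Subgroup.centralizer (K : Set G) : Subgroup G) : Set G) := t.f.c.hKst
  rw [← hKeq] at c hqβ
  -- `s ≠ q`
  have hsq : s ≠ Nat.card K := by
    intro h
    have h1 := (Cfsg.Agent.S1408.result hG M hM s d.hsτ.2.1 d.hsτ.2.2.1 d.hsτ.2.2.2).1
    rw [h] at h1
    exact h1 hqβ.2
  -- Sylow `s`-subgroups of `G` are abelian
  have hSab : ∃ S : Sylow s G, IsMulCommutative (S : Subgroup G) := by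
    by_contra hS
    push Not at hS
    obtain ⟨-, ⟨h1, -⟩, -⟩ := Cfsg.Agent.S1419.result hG M hM (M ⊓ Ms) t.hE s d.hsτ hS A
      ⟨d.hAE, d.hAe, d.hAc⟩
    have h2 : A ⊓ Subgroup.centralizer (sigmaCore M : Set G) = ⊥ := by
      rw [eq_bot_iff, ← t.cent_eq_bot]
      exact inf_le_inf_right _ d.hAE
    rw [h2, Subgroup.card_bot] at h1
    exact d.hsτ.1.one_lt.ne h1
  obtain ⟨S, hS⟩ := hSab
  have hAp : IsPGroup s ↥A := IsPGroup.of_card (n := 2) d.hAc
  obtain ⟨P, hAP, hP⟩ := exists_sylIn_ge d.hAσ hAp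
  have hPab := comm_of_sylow_comm hS hP.2.1
  have hPM : P ≤ M := by
    intro g hg
    apply d.hCe
    rw [Subgroup.mem_centralizer_singleton_iff]
    exact hPab g hg e (hAP d.heA)
  -- a complement `D` of `Q` containing `P`
  have hXsolv : Group.IsSolvable ↥(sigmaCore Ms) :=
    solvable_of_ne_top hG (ne_top_of_le_ne_top hMs.1 (sigmaCore_le Ms))
  haveI : Fact (Nat.card K).Prime := ⟨c.hq⟩
  obtain ⟨nQ, hnQ⟩ := c.hQ.exists_card_eq
  have hcopQ : (Nat.card Q).Coprime (Q.relIndex (sigmaCore Ms)) := by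
    rw [hnQ]
    exact Nat.Coprime.pow_left _ ((Nat.Prime.coprime_iff_not_dvd c.hq).mpr c.hQs)
  obtain ⟨nP, hnP⟩ := hP.2.1.exists_card_eq
  have hcopPQ : (Nat.card P).Coprime (Nat.card Q) := by
    rw [hnQ, hnP]
    exact Nat.Coprime.pow _ _ ((Nat.coprime_primes d.hsτ.1 c.hq).mpr hsq)
  obtain ⟨D, hD, hPD⟩ := Cfsg.Agent.Lib.Helper2.BG16d.exists_isComplIn_of_normal_hall_ge hXsolv c.hQX c.hXQ
    hcopQ hP.1 hcopPQ
  have hDnil : Group.IsNilpotent ↥D := (c.main hD).1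
  -- `D ≤ M`
  have hPD' : SylIn s D P := by
    refine ⟨hPD, hP.2.1, fun h => hP.2.2 ?_⟩
    rw [← Subgroup.relIndex_mul_relIndex P D (sigmaCore Ms) hPD hD.2.1]
    exact Dvd.dvd.mul_right h _
  have hDP : D ≤ Subgroup.normalizer (P : Set G) := sylIn_normal_of_isNilpotent hDnil hPD'
  have hDM : D ≤ M := by
    rw [← Cfsg.Agent.Lib.Helper5.BG151.nilpotent_sup_piCoreOf hDnil {s}]
    apply sup_le
    · refine le_trans ?_ hPM
      apply hPD'.le_of_normal hDP (piCoreOf_le _ _)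
      have h1 := isPiNum_card_piCoreOf ({s} : Set ℕ) D
      have h2 : Nat.card ↥(piCoreOf ({s} : Set ℕ) D) = s ^ _ :=
        Nat.eq_prime_pow_of_unique_prime_dvd Nat.card_pos.ne' (fun {p} hp hd => h1 p hp hd)
      exact IsPGroup.of_card h2
    · intro y hy
      apply d.hCe
      rw [Subgroup.mem_centralizer_singleton_iff]
      have hyD : y ∈ D := piCoreOf_le _ _ hy
      have heD : e ∈ D := hPD (hAP d.heA)
      have h1 := isPiNum_card_piCoreOf {p : ℕ | p.Prime ∧ p ∉ ({s} : Set ℕ)} D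
      have hco : (orderOf y).Coprime s := by
        rw [Nat.coprime_comm, Nat.Prime.coprime_iff_not_dvd d.hsτ.1]
        intro hd
        have h2 : s ∣ Nat.card ↥(piCoreOf {p : ℕ | p.Prime ∧ p ∉ ({s} : Set ℕ)} D) :=
          hd.trans (Subgroup.orderOf_dvd_natCard _ hy)
        exact (h1 s d.hsτ.1 h2).2 rfl
      haveI := hDnil
      have h3 := Cfsg.Agent.Lib.Helper5.NilSym.commute_of_coprime ↥D ⟨y, hyD⟩ ⟨e, heD⟩
        (isOfFinOrder_of_finite _) (isOfFinOrder_of_finite _)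
        (by rw [Subgroup.orderOf_mk, Subgroup.orderOf_mk, d.heo]; exact hco)
      have h4 := congrArg Subtype.val h3.eq
      simpa using h4
  have hDE : D ≤ M ⊓ Ms := le_inf hDM (hD.2.1.trans (sigmaCore_le Ms))
  have hKD : K ≤ Subgroup.centralizer (D : Set G) := by
    intro k hk
    rw [Subgroup.mem_centralizer_iff]
    intro g hg
    exact t.E_comm g (hDE hg) k (t.hKE hk)
  have h0 := fix_inf_centralizer_D' c hD
  rw [← hKeq] at h0
  apply t.f.c.hK1
  rw [eq_bot_iff, ← h0]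
  exact le_inf le_rfl hKD

end Ctx8
end Cfsg.Agent.Lib.Lead.BG158
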