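import Mathlib
import Cfsg.Agent.Lib.Lead.BG158e
import Cfsg.Agent.Lib.Lead.Frobenius3
import Cfsg.Agent.S1364

set_option autoImplicit false
set_option linter.style.haveILetI false
set_option linter.unusedSectionVars false
set_option maxHeartbeats 800000

namespace Cfsg.Agent.Lib.Lead.BG158

open Cfsg Cfsg.Agent.Lib.Lead Cfsg.Agent.Lib.Lead.BG10 Cfsg.Agent.Lib.Helper7 Cfsg.Agent.Lib.Helper4
open Cfsg.Agent.Lib.Helper4.BG76 Cfsg.Agent.Lib.Helper4.BG8 Cfsg.Agent.Lib.Helper4.BG9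
open Cfsg.Agent.Lib.Helper4.BG7 Cfsg.Agent.Lib.Helper4.BG12 Cfsg.Agent.Lib.Helper4.BGConj
open Cfsg.Agent.Lib.Helper4.BG13 Cfsg.Agent.Lib.Lead.BG95 Cfsg.Agent.Lib.Lead.BG12q
open Cfsg.Agent.Lib.Lead.BG11 Cfsg.Agent.Lib.Lead.BG13q Cfsg.Agent.Lib.Helper4.BG18
open Cfsg.Agent.Lib.Helper2.BG12 Cfsg.Agent.Lib.Helper6 Cfsg.Agent.Lib.Helper2.BG13x
open Cfsg.Agent.Lib.Helper2.BG14y Cfsg.Agent.Lib.Helper5.BG139 Cfsg.Agent.Lib.Lead.BG14n
open Cfsg.Agent.Lib.Helper2.BG14z Cfsg.Agent.Lib.Helper5.BG143 Cfsg.Agent.Lib.Helper4.BG14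
open Cfsg.Agent.Lib.Helper5.BG144 Cfsg.Agent.Lib.Lead.BG148 Cfsg.Agent.Lib.Helper2.BG16g
open Cfsg.Agent.Lib.Helper2.BG16e
open scoped commutatorElement Pointwise

universe u

variable {G : Type u} [Group G] [Finite G]


theorem isComplement'_subgroupOf {A B M : Subgroup G} (h : IsComplIn A B M) :
    Subgroup.IsComplement' (A.subgroupOf M) (B.subgroupOf M) := by
  apply Subgroup.isComplement'_of_disjoint_and_mul_eq_univ
  · rw [disjoint_iff, eq_bot_iff]
    intro m hm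
    rw [Subgroup.mem_bot]
    apply Subtype.ext
    have h1 : (m : G) ∈ A ⊓ B := ⟨Subgroup.mem_subgroupOf.mp hm.1, Subgroup.mem_subgroupOf.mp hm.2⟩
    rw [h.2.2.1, Subgroup.mem_bot] at h1
    exact h1
  · apply Set.eq_univ_of_forall
    intro m
    obtain ⟨a, ha, b, hb, hab⟩ := h.2.2.2 m.1 m.2
    exact Set.mem_mul.mpr ⟨⟨a, h.1 ha⟩, Subgroup.mem_subgroupOf.mpr ha, ⟨b, h.2.1 hb⟩,
      Subgroup.mem_subgroupOf.mpr hb, Subtype.ext hab.symm⟩

namespace Ctx8

variable {M N K U Ms R : Subgroup G} {r : ℕ} {x : G}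

theorem tau2_empty (t : Ctx8 M N K U Ms r R x) : tau2 M = ∅ := by
  rw [Set.eq_empty_iff_forall_notMem]
  intro s hs
  obtain ⟨A, e, d⟩ := t.exists_t2 hs
  exact t.false_of_t2 d

theorem kappa_empty (t : Ctx8 M N K U Ms r R x) : kappa M = ∅ := t.f.kappa_empty t.hG

/-- `E` acts on `M_σ` without fixed points -/
theorem fpf_E (t : Ctx8 M N K U Ms r R x) {a : G} (ha : a ∈ M ⊓ Ms) (ha1 : a ≠ 1) :
    sigmaCore M ⊓ Subgroup.centralizer ({a} : Set G) = ⊥ := by
  have hG := t.hG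
  have hM := t.c.hM
  rw [eq_bot_iff]
  intro y hy
  rw [Subgroup.mem_bot]
  by_contra hy1
  have hay : a ∈ M ⊓ Subgroup.centralizer ({y} : Set G) :=
    Subgroup.mem_inf.mpr ⟨ha.1, Subgroup.mem_centralizer_singleton_iff.mpr
      (Subgroup.mem_centralizer_singleton_iff.mp (Subgroup.mem_inf.mp hy).2).symm⟩
  have hσ : ∀ p : ℕ, p.Prime → p ∣ orderOf a → p ∉ sigma M := by
    intro p hp hd
    exact not_sigma_of_dvd_card_compl hG hM t.hE hp (hd.trans (Subgroup.orderOf_dvd_natCard _ ha))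
  obtain ⟨p, hp, hpd⟩ := Nat.exists_prime_and_dvd (n := orderOf a)
    (fun h => ha1 (orderOf_eq_one_iff.mp h))
  rcases Cfsg.Agent.S1432.result hG M hM y hy.1 hy1 a hay ha1 hσ with ⟨h1, -⟩ | ⟨h1, -⟩
  · have := h1 p hp hpd
    rw [t.kappa_empty] at this
    exact this
  · have := h1 p hp hpd
    rw [t.tau2_empty] at this
    exact this

theorem E_cyclic (t : Ctx8 M N K U Ms r R x) : IsCyclic ↥(M ⊓ Ms) := by
  have hG := t.hG
  have hM := t.c.hM
  have hc : IsMulCommutative ↥(M ⊓ Ms) := by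
    constructor
    constructor
    rintro ⟨a, ha⟩ ⟨b, hb⟩
    exact Subtype.ext (t.E_comm a ha b hb)
  by_contra hnc
  obtain ⟨p, B, hp, hBE, hBe, hBc⟩ := Cfsg.Agent.Lib.Helper5.BG151.exists_sq_of_not_cyclic hc hnc
  haveI : Fact p.Prime := ⟨hp⟩
  have hpE : p ∣ Nat.card ↥(M ⊓ Ms) := by
    have : p ∣ Nat.card B := by rw [hBc]; exact dvd_pow_self p two_ne_zero
    exact this.trans (Subgroup.card_dvd_of_le hBE)
  have hps := not_sigma_of_dvd_card_compl hG hM t.hE hp hpE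
  have := mem_tau2_of_elementary_sq hG hM hps (hBE.trans inf_le_left) hBe hBc
  rw [t.tau2_empty] at this
  exact this

theorem frobenius (t : Ctx8 M N K U Ms r R x) :
    ∃ E : Subgroup ↥M, Cfsg.IsFrobeniusComplement E ∧ IsCyclic E := by
  have hG := t.hG
  have hM := t.c.hM
  have hx1 : x ≠ 1 := by
    intro h
    have := t.c.hxp
    rw [h, orderOf_one] at this
    exact t.c.hp.one_lt.ne this
  haveI : ((sigmaCore M).subgroupOf M).Normal :=
    Subgroup.normal_subgroupOf_of_le_normalizer (le_normalizer_sigmaCore M)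
  have hcompl : Subgroup.IsComplement' ((sigmaCore M).subgroupOf M) ((M ⊓ Ms).subgroupOf M) :=
    (isComplement'_subgroupOf t.hE).symm
  have hK1 : (sigmaCore M).subgroupOf M ≠ ⊥ := by
    intro h
    have : (⟨x, sigmaCore_le M t.c.hx⟩ : ↥M) ∈ (sigmaCore M).subgroupOf M :=
      Subgroup.mem_subgroupOf.mpr t.c.hx
    rw [h, Subgroup.mem_bot] at this
    exact hx1 (congrArg Subtype.val this)
  have hH1 : (M ⊓ Ms).subgroupOf M ≠ ⊥ := by
    intro h
    obtain ⟨⟨k, hk⟩, hk1⟩ := (Subgroup.ne_bot_iff_exists_ne_one.mp t.f.c.hK1)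
    have hkE := t.hKE hk
    have : (⟨k, hkE.1⟩ : ↥M) ∈ (M ⊓ Ms).subgroupOf M := Subgroup.mem_subgroupOf.mpr hkE
    rw [h, Subgroup.mem_bot] at this
    have h6 : k = 1 := congrArg Subtype.val this
    exact hk1 (Subtype.ext h6)
  refine ⟨(M ⊓ Ms).subgroupOf M, ?_, ?_⟩
  · rw [Cfsg.Agent.Lib.Lead.isFrobeniusComplement_iff_fpf _ _ hcompl hK1 hH1]
    intro h hh hh1
    rw [eq_bot_iff]
    intro y hy
    rw [Subgroup.mem_bot]
    have h1 : (h : G) ≠ 1 := fun h0 => hh1 (Subtype.ext h0)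
    have h2 := t.fpf_E (Subgroup.mem_subgroupOf.mp hh) h1
    have h3 : (y : G) ∈ sigmaCore M ⊓ Subgroup.centralizer ({(h : G)} : Set G) := by
      have h4 := Subgroup.mem_centralizer_singleton_iff.mp (Subgroup.mem_inf.mp hy).2
      have h5 := congrArg Subtype.val h4
      exact Subgroup.mem_inf.mpr ⟨Subgroup.mem_subgroupOf.mp (Subgroup.mem_inf.mp hy).1,
        Subgroup.mem_centralizer_singleton_iff.mpr (by simpa using h5)⟩
    rw [h2, Subgroup.mem_bot] at h3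
    exact Subtype.ext h3
  · haveI := t.E_cyclic
    exact isCyclic_of_surjective ((Subgroup.subgroupOfEquivOfLe (inf_le_left : M ⊓ Ms ≤ M)).symm : ↥(M ⊓ Ms) →* ↥((M ⊓ Ms).subgroupOf M))
      (Subgroup.subgroupOfEquivOfLe (inf_le_left : M ⊓ Ms ≤ M)).symm.surjective

theorem not_TI (t : Ctx8 M N K U Ms r R x) : ¬ IsTISubset (fittingHallOf M : Set G) := by
  have hG := t.hG
  have hM := t.c.hM
  intro hTI
  have hx1 : x ≠ 1 := by
    intro h
    have := t.c.hxp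
    rw [h, orderOf_one] at this
    exact t.c.hp.one_lt.ne this
  have hF : sigmaCore M = fittingHallOf M := Cfsg.Agent.Lib.Lead.BG14n.sigmaCore_eq_fittingHallOf hG hM t.c.hnil
  obtain ⟨c, hc, hcM⟩ := SetLike.not_le_iff_exists.mp t.c.hCM
  have hσ1 : sigmaCore M ≠ ⊥ := fun h => hx1 (by
    have := t.c.hx
    rwa [h, Subgroup.mem_bot] at this)
  have hnorm : Subgroup.normalizer ((sigmaCore M : Subgroup G) : Set G) = M :=
    normalizer_eq_of_isCoatom hG hM hσ1 (sigmaCore_le M) (le_normalizer_sigmaCore M)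
  apply hx1
  apply hTI c (by rw [← hF, hnorm]; exact hcM) x (hF ▸ t.c.hx)
  have : c * x * c⁻¹ = x := by
    have := Subgroup.mem_centralizer_singleton_iff.mp hc
    rw [this]; group
  rw [this]; exact hF ▸ t.c.hx

end Ctx8
end Cfsg.Agent.Lib.Lead.BG158
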