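import Mathlib
import Cfsg.Agent.Lib.Lead.BG158f
import Cfsg.Agent.S1366
import Cfsg.Agent.S1367
import Cfsg.Agent.S1368
import Cfsg.Agent.S1378
import Cfsg.Agent.S1418
import Cfsg.Agent.S1417
import Cfsg.Agent.S1426
import Cfsg.Agent.S1432

set_option autoImplicit false
set_option linter.style.haveILetI false
set_option linter.unusedSectionVars false
set_option maxHeartbeats 800000

/-! B and G, Lemmas 14.9/14.10 (S1436). -/

namespace Cfsg.Agent.Lib.Lead.BG149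

open Cfsg Cfsg.Agent.Lib.Lead Cfsg.Agent.Lib.Lead.BG10 Cfsg.Agent.Lib.Helper7 Cfsg.Agent.Lib.Helper4
open Cfsg.Agent.Lib.Helper4.BG76 Cfsg.Agent.Lib.Helper4.BG8 Cfsg.Agent.Lib.Helper4.BG9
open Cfsg.Agent.Lib.Helper4.BG7 Cfsg.Agent.Lib.Helper4.BG12 Cfsg.Agent.Lib.Helper4.BGConj
open Cfsg.Agent.Lib.Helper4.BG13 Cfsg.Agent.Lib.Lead.BG95 Cfsg.Agent.Lib.Lead.BG12q
open Cfsg.Agent.Lib.Lead.BG11 Cfsg.Agent.Lib.Lead.BG13q Cfsg.Agent.Lib.Helper4.BG18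
open Cfsg.Agent.Lib.Helper2.BG12 Cfsg.Agent.Lib.Helper6 Cfsg.Agent.Lib.Helper2.BG13x
open Cfsg.Agent.Lib.Helper2.BG14y Cfsg.Agent.Lib.Helper5.BG139 Cfsg.Agent.Lib.Lead.BG14n
open Cfsg.Agent.Lib.Helper2.BG14z Cfsg.Agent.Lib.Helper5.BG143 Cfsg.Agent.Lib.Helper4.BG14
open Cfsg.Agent.Lib.Helper5.BG144 Cfsg.Agent.Lib.Lead.BG148 Cfsg.Agent.Lib.Helper2.BG16g
open Cfsg.Agent.Lib.Helper2.BG16e Cfsg.Agent.Lib.Lead.BG158
open scoped commutatorElement Pointwise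

universe u

variable {G : Type u} [Group G] [Finite G]

/-- the setting of B and G, 14.4: `x ∈ M_σ`, `C_G(x) ≰ M`, `C_G(x) ≤ N` -/
structure P9 (M N : Subgroup G) (x : G) : Prop where
  hG : IsMinSimpleOddOrder G
  hM : IsCoatom M
  hx : x ∈ sigmaCore M
  hx1 : x ≠ 1
  hCM : ¬ Subgroup.centralizer ({x} : Set G) ≤ M
  hN : IsCoatom N
  hCN : Subgroup.centralizer ({x} : Set G) ≤ N

namespace P9

variable {M N : Subgroup G} {x : G}

theorem uniq (h : P9 M N x) : ∀ L : Subgroup G, IsCoatom L →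
    Subgroup.centralizer ({x} : Set G) ≤ L → L = N := by
  obtain ⟨N', ⟨hN', hCN'⟩, hu, -⟩ := theorem_14_4_c h.hG h.hM h.hx h.hx1 h.hCM
  intro L hL hCL
  rw [hu L hL hCL, hu N h.hN h.hCN]

theorem hE (h : P9 M N x) : IsComplIn (M ⊓ N) (sigmaCore N) N := by
  obtain ⟨N', ⟨hN', hCN'⟩, hu, -, -, -, hE, -⟩ := theorem_14_4_c h.hG h.hM h.hx h.hx1 h.hCM
  rw [hu N h.hN h.hCN]; exact hE

theorem hF (h : P9 M N x) : sigmaCore N = fittingHallOf N := by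
  obtain ⟨N', ⟨hN', hCN'⟩, hu, hF, -⟩ := theorem_14_4_c h.hG h.hM h.hx h.hx1 h.hCM
  rw [hu N h.hN h.hCN]; exact hF

theorem hnil (h : P9 M N x) : Group.IsNilpotent ↥(sigmaCore N) := by
  rw [h.hF]
  exact Cfsg.Agent.Lib.Helper4.isNilpotent_fittingHallOf (M := N)

theorem htau (h : P9 M N x) {q : ℕ} (hq : q.Prime) (hqd : q ∣ orderOf x) : q ∈ tau2 N := by
  obtain ⟨N', ⟨hN', hCN'⟩, hu, -, -, -, -, ht, -⟩ := theorem_14_4_c h.hG h.hM h.hx h.hx1 h.hCM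
  rw [hu N h.hN h.hCN]; exact ht q hq hqd

theorem hxM (h : P9 M N x) : x ∈ M := sigmaCore_le M h.hx

theorem hxN (h : P9 M N x) : x ∈ N := h.hCN (Subgroup.mem_centralizer_singleton_iff.mpr rfl)

theorem not_conj (h : P9 M N x) : ∀ g : G, N ≠ cj g M := by
  obtain ⟨q, hq, hqd⟩ := Nat.exists_prime_and_dvd (n := orderOf x)
    (fun h0 => h.hx1 (orderOf_eq_one_iff.mp h0))
  obtain ⟨N', hN', hCN', hnc, -⟩ := exists_coatom_of_prime h.hG h.hM h.hx h.hCM hq hqd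
  rw [← h.uniq N' hN' hCN']
  exact hnc

theorem hM1 (h : P9 M N x) : M ≠ ⊥ := by
  intro h0
  have := h.hxM
  rw [h0, Subgroup.mem_bot] at this
  exact h.hx1 this

/-- part (b) of S1436 -/
theorem part_b (h : P9 M N x) {y : G} {N' : Subgroup G} (h' : P9 M N' y) {g : G}
    (hg : cj g N' = N) : ∃ m ∈ M, cj m N' = N := by
  have hG := h.hG
  have hsolv : Group.IsSolvable ↥N := solvable_of_ne_top hG h.hN.1
  have h1 : IsComplIn (cj g M ⊓ N) (sigmaCore N) N := by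
    have := isComplIn_cj g h'.hE
    rwa [← sigmaCore_cj, cj_inf', hg] at this
  have hH1 := hall_of_compl hG h.hN le_rfl
    (isComplIn_swap' h1 (inf_le_right.trans (le_normalizer_sigmaCore N)))
  have hH2 := hall_of_compl hG h.hN le_rfl
    (isComplIn_swap' h.hE (inf_le_right.trans (le_normalizer_sigmaCore N)))
  obtain ⟨n, hn, hn2⟩ := hall_conj hsolv _ hH1 hH2
  have hx2 : x ∈ cj (n * g) M := by
    have : x ∈ cj n (cj g M ⊓ N) := by rw [hn2]; exact ⟨h.hxM, h.hxN⟩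
    rw [Helper7.cj_mul]
    exact cj_mono n inf_le_left this
  obtain ⟨c, hc, hc2⟩ := Helper5.BG144.exists_centralizer_cj hG h.hM h.hx hx2
  refine ⟨c⁻¹ * (n * g), ?_, ?_⟩
  · have : cj (c⁻¹ * (n * g)) M = M := by
      rw [Helper7.cj_mul, ← hc2, cj_inv_cj]
    have h2 := mem_normalizer_iff_cj.mpr this
    rwa [normalizer_eq_of_isCoatom hG h.hM h.hM1 le_rfl Subgroup.le_normalizer] at h2
  · rw [Helper7.cj_mul, Helper7.cj_mul, hg, Helper7.cj_eq_self_of_mem hn, Helper7.cj_eq_self_of_mem (N.inv_mem (h.hCN hc))]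

end P9
end Cfsg.Agent.Lib.Lead.BG149
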