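import Mathlib
import Cfsg.Agent.Lib.Lead.BG149a
import Cfsg.Agent.Lib.Helper4.AlperinGold1
import Cfsg.Agent.Lib.Lead.CoprimeSylow5
import Cfsg.Agent.Lib.Lead.BG10m
import Cfsg.Agent.S1366
import Cfsg.Agent.S1367
import Cfsg.Agent.S1368
import Cfsg.Agent.S1378
import Cfsg.Agent.S1418
import Cfsg.Agent.S1417
import Cfsg.Agent.S1426
import Cfsg.Agent.S1432

set_option autoImplicit false
set_option linter.style.haveILetI false
set_option linter.unusedSectionVars false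
set_option maxHeartbeats 800000

/-! B and G, Lemmas 14.9/14.10 (S1436). -/

namespace Cfsg.Agent.Lib.Lead.BG149

open Cfsg Cfsg.Agent.Lib.Lead Cfsg.Agent.Lib.Lead.BG10 Cfsg.Agent.Lib.Helper7 Cfsg.Agent.Lib.Helper4
open Cfsg.Agent.Lib.Helper4.BG76 Cfsg.Agent.Lib.Helper4.BG8 Cfsg.Agent.Lib.Helper4.BG9
open Cfsg.Agent.Lib.Helper4.BG7 Cfsg.Agent.Lib.Helper4.BG12 Cfsg.Agent.Lib.Helper4.BGConj
open Cfsg.Agent.Lib.Helper4.BG13 Cfsg.Agent.Lib.Lead.BG95 Cfsg.Agent.Lib.Lead.BG12q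
open Cfsg.Agent.Lib.Lead.BG11 Cfsg.Agent.Lib.Lead.BG13q Cfsg.Agent.Lib.Helper4.BG18
open Cfsg.Agent.Lib.Helper2.BG12 Cfsg.Agent.Lib.Helper6 Cfsg.Agent.Lib.Helper2.BG13x
open Cfsg.Agent.Lib.Helper2.BG14y Cfsg.Agent.Lib.Helper5.BG139 Cfsg.Agent.Lib.Lead.BG14n
open Cfsg.Agent.Lib.Helper2.BG14z Cfsg.Agent.Lib.Helper5.BG143 Cfsg.Agent.Lib.Helper4.BG14
open Cfsg.Agent.Lib.Helper5.BG144 Cfsg.Agent.Lib.Lead.BG148 Cfsg.Agent.Lib.Helper2.BG16g
open Cfsg.Agent.Lib.Helper2.BG16e Cfsg.Agent.Lib.Lead.BG158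
open scoped commutatorElement Pointwise

universe u

variable {G : Type u} [Group G] [Finite G]

/-- a normal subgroup of `p'`-index contains all `p`-subgroups -/
theorem le_of_normal_of_not_dvd_relIndex {p : ℕ} [hp : Fact p.Prime] {L N P : Subgroup G}
    (hLN : L ≤ N) (hn : N ≤ Subgroup.normalizer (L : Set G)) (hPN : P ≤ N) (hP : IsPGroup p ↥P)
    (h : ¬ p ∣ L.relIndex N) : P ≤ L := by
  have h1 : L.relIndex (L ⊔ P) ∣ Nat.card P :=
    Cfsg.Agent.Lib.Helper2.BG12.relIndex_sup_dvd_card (hPN.trans hn)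
  have h2 : L.relIndex (L ⊔ P) ∣ L.relIndex N := by
    rw [← Subgroup.relIndex_mul_relIndex L (L ⊔ P) N le_sup_left (sup_le hLN hPN)]
    exact Dvd.intro _ rfl
  have h3 : L.relIndex (L ⊔ P) = 1 := by
    obtain ⟨n, hn⟩ := hP.exists_card_eq
    rw [hn] at h1
    obtain ⟨m, -, hm⟩ := (Nat.dvd_prime_pow hp.out).mp h1
    rcases Nat.eq_zero_or_pos m with h0 | h0
    · rw [hm, h0, pow_zero]
    · exfalso
      apply h
      refine dvd_trans ?_ h2
      rw [hm]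
      exact dvd_pow_self p h0.ne'
  have h4 : L ⊔ P ≤ L := Subgroup.relIndex_eq_one.mp h3
  exact le_sup_right.trans h4

theorem relIndex_KG (p : ℕ) (N : Subgroup G) : (KG p N).relIndex N = (pPrimeCore p ↥N).index := by
  unfold Subgroup.relIndex KG Subgroup.subgroupOf
  rw [Subgroup.comap_map_eq_self_of_injective N.subtype_injective]

/-- if `a` normalizes `B`, `b` normalizes `A` and `A ∩ B = 1` then `a ∈ A` and `b ∈ B` commute -/
theorem commute_of_normalizes {A B : Subgroup G} (hAB : A ⊓ B = ⊥) {a b : G} (ha : a ∈ A)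
    (hb : b ∈ B) (haB : a ∈ Subgroup.normalizer (B : Set G))
    (hbA : b ∈ Subgroup.normalizer (A : Set G)) : a * b = b * a := by
  have h1 : a * b * a⁻¹ * b⁻¹ ∈ A ⊓ B := by
    constructor
    · have : b * a⁻¹ * b⁻¹ ∈ A := (Subgroup.mem_normalizer_iff.mp hbA a⁻¹).mp (A.inv_mem ha)
      have h2 := A.mul_mem ha this
      have e : a * (b * a⁻¹ * b⁻¹) = a * b * a⁻¹ * b⁻¹ := by group
      rwa [e] at h2
    · have : a * b * a⁻¹ ∈ B := (Subgroup.mem_normalizer_iff.mp haB b).mp hb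
      exact B.mul_mem this (B.inv_mem hb)
  rw [hAB, Subgroup.mem_bot] at h1
  calc a * b = (a * b * a⁻¹ * b⁻¹) * (b * a) := by group
    _ = b * a := by rw [h1, one_mul]

theorem inf_eq_bot_of_coprime_card {A B : Subgroup G} (h : (Nat.card A).Coprime (Nat.card B)) :
    A ⊓ B = ⊥ := by
  rw [← Subgroup.card_eq_one]
  exact Nat.eq_one_of_dvd_coprimes h (Subgroup.card_dvd_of_le inf_le_left)
    (Subgroup.card_dvd_of_le inf_le_right)

theorem le_normalizer_bot (A : Subgroup G) :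
    A ≤ Subgroup.normalizer (((⊥ : Subgroup G) : Subgroup G) : Set G) := by
  intro a _
  rw [Subgroup.mem_normalizer_iff]
  intro w
  simp only [Subgroup.mem_bot]
  constructor
  · intro h; rw [h]; group
  · intro h
    have : w = a⁻¹ * (a * w * a⁻¹) * a := by group
    rw [this, h]; group

namespace P9

variable {M N : Subgroup G} {x : G}

theorem pow (h : P9 M N x) {k : ℕ} (hk : x ^ k ≠ 1) : P9 M N (x ^ k) := by
  have hle : Subgroup.centralizer ({x} : Set G) ≤ Subgroup.centralizer ({x ^ k} : Set G) := by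
    intro c hc
    rw [Subgroup.mem_centralizer_singleton_iff] at hc ⊢
    exact ((Commute.pow_right (show Commute c x from hc) k)).eq
  have hCM : ¬ Subgroup.centralizer ({x ^ k} : Set G) ≤ M := fun h0 => h.hCM (hle.trans h0)
  have hxk : x ^ k ∈ sigmaCore M := Subgroup.pow_mem _ h.hx k
  obtain ⟨N', ⟨hN', hCN'⟩, -⟩ := theorem_14_4_c h.hG h.hM hxk hk hCM
  have := h.uniq N' hN' (hle.trans hCN')
  exact ⟨h.hG, h.hM, hxk, hk, hCM, h.hN, this ▸ hCN'⟩

theorem not_sigma_of_sigma (h : P9 M N x) {q : ℕ} (hqN : q ∈ sigma N) : q ∉ sigma M := by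
  intro hqM
  obtain ⟨g, hg⟩ := sigma_partition h.hG h.hM h.hN hqM hqN
  exact h.not_conj g hg

theorem not_dvd_card_inf (h : P9 M N x) {q : ℕ} (hqN : q ∈ sigma N) : ¬ q ∣ Nat.card ↥(M ⊓ N) :=
  fun hd => not_sigma_of_dvd_card_compl h.hG h.hN h.hE hqN.1 hd hqN

/-- no `q`-element of `O_{ℓ'}(M)` -/
theorem not_dvd_card_KG (h : P9 M N x) {ℓ : ℕ} [hℓ : Fact ℓ.Prime] (hxo : orderOf x = ℓ) {q : ℕ}
    (hqN : q ∈ sigma N) : ¬ q ∣ Nat.card ↥(KG ℓ M) := by
  have hG := h.hG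
  haveI : Fact q.Prime := ⟨hqN.1⟩
  intro hd
  have hXL : Subgroup.zpowers x ≤ Subgroup.normalizer ((KG ℓ M : Subgroup G) : Set G) :=
    (Subgroup.zpowers_le.mpr h.hxM).trans (le_normalizer_KG M)
  have hcop : (Nat.card ↥(Subgroup.zpowers x)).Coprime (Nat.card ↥(KG ℓ M)) := by
    rw [Nat.card_zpowers, hxo]
    exact (KG_coprime M).symm
  obtain ⟨P, -, hXP⟩ := Cfsg.Agent.Lib.Lead.coprime_invariant_pgroup_le_sylow (Subgroup.zpowers x)
    (KG ℓ M) hXL hcop (Or.inl inferInstance) q ⊥ bot_le IsPGroup.of_bot (le_normalizer_bot _)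
  set Q1 : Subgroup G := (P : Subgroup ↥(KG ℓ M)).map (KG ℓ M).subtype with hQ1
  have hQ1p : IsPGroup q ↥Q1 := P.2.map _
  have hQ1M : Q1 ≤ M := (Subgroup.map_subtype_le _).trans (KG_le M)
  have hqσ : ¬ q ∣ Nat.card ↥(sigmaCore M) := fun hd =>
    h.not_sigma_of_sigma hqN ((sigmaCore_hall hG h.hM).1.2.1 q hqN.1 hd)
  have hinf : Q1 ⊓ sigmaCore M = ⊥ := by
    apply inf_eq_bot_of_coprime_card
    obtain ⟨n, hn⟩ := hQ1p.exists_card_eq
    rw [hn]
    exact Nat.Coprime.pow_left _ ((Nat.Prime.coprime_iff_not_dvd hqN.1).mpr hqσ)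
  have hQ1C : Q1 ≤ M ⊓ N := by
    intro z hz
    refine ⟨hQ1M hz, h.hCN ?_⟩
    rw [Subgroup.mem_centralizer_singleton_iff]
    exact commute_of_normalizes hinf hz h.hx (le_normalizer_sigmaCore M (hQ1M hz))
      (hXP (Subgroup.mem_zpowers x))
  have hQ1d : q ∣ Nat.card ↥Q1 := by
    rw [hQ1, Subgroup.card_map_of_injective (Subgroup.subtype_injective _)]
    exact P.dvd_card_of_dvd_card hd
  exact h.not_dvd_card_inf hqN (hQ1d.trans (Subgroup.card_dvd_of_le hQ1C))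

end P9

namespace P9

variable {M N : Subgroup G} {x : G}

/-- `q < ℓ` -/
theorem lt_of_sigma (h : P9 M N x) {ℓ : ℕ} [hℓ : Fact ℓ.Prime] (hxo : orderOf x = ℓ) {q : ℕ}
    (hqN : q ∈ sigma N) (hqM : q ∣ Nat.card ↥M) : q < ℓ := by
  have hG := h.hG
  have hM := h.hM
  have hℓσ : ℓ ∈ sigma M :=
    Helper5.BG144.mem_sigma_of_dvd_orderOf hG hM h.hx hℓ.out (by rw [hxo])
  have hℓM : ℓ ∣ Nat.card ↥M := hℓσ.2.1
  -- `ℓ ∉ β(M)`
  obtain ⟨c, hc, hcM⟩ := SetLike.not_le_iff_exists.mp h.hCM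
  obtain ⟨E, hE, -⟩ := exists_complIn_ge hG hM (A := ⊥) bot_le (by simp)
  have h26 := ((Cfsg.Agent.S1426.result hG M hM E hE).2.2 c hcM).2.1
  have hℓβ : ℓ ∉ beta M := by
    apply h26 ℓ hℓ.out
    have hx2 : x ∈ sigmaCore M ⊓ M.map (MulAut.conj c).toMonoidHom := by
      refine ⟨h.hx, ?_⟩
      show x ∈ cj c M
      rw [Helper7.mem_cj]
      have := Subgroup.mem_centralizer_singleton_iff.mp hc
      have e : c⁻¹ * x * c = x := by
        calc c⁻¹ * x * c = c⁻¹ * (x * c) := by group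
          _ = c⁻¹ * (c * x) := by rw [this]
          _ = x := by group
      rw [e]; exact h.hxM
    rw [← hxo]
    exact Subgroup.orderOf_dvd_natCard _ hx2
  have h1 := (facts_nonbeta hG hM hℓM hℓβ).1
  have h2 : q ∣ (KG ℓ M).relIndex M := by
    have h3 := Subgroup.relIndex_mul_relIndex ⊥ (KG ℓ M) M bot_le (KG_le M)
    rw [Subgroup.relIndex_bot_left, Subgroup.relIndex_bot_left] at h3
    rw [← h3] at hqM
    rcases (Nat.Prime.dvd_mul hqN.1).mp hqM with h4 | h4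
    · exact absurd h4 (h.not_dvd_card_KG hxo hqN)
    · exact h4
  rw [relIndex_KG] at h2
  have h5 := h1 q hqN.1 h2
  refine lt_of_le_of_ne h5 ?_
  intro h6
  rw [h6] at hqN
  exact h.not_sigma_of_sigma hqN hℓσ

/-- **B and G, Theorem 14.4(d)** for `x` of prime order -/
theorem mem_beta_of_prime (h : P9 M N x) {ℓ : ℕ} [hℓ : Fact ℓ.Prime] (hxo : orderOf x = ℓ) {q : ℕ}
    (hqN : q ∈ sigma N) (hqM : q ∣ Nat.card ↥M) : q ∈ beta N := by
  have hG := h.hG
  have hN := h.hN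
  haveI : Fact q.Prime := ⟨hqN.1⟩
  by_contra hqβ
  have hlt := h.lt_of_sigma hxo hqN hqM
  have hℓτ : ℓ ∈ tau2 N := h.htau hℓ.out (by rw [hxo])
  have h1 := (facts_nonbeta hG hN hqN.2.1 hqβ).1
  have hℓN : ℓ ∣ Nat.card ↥N := by
    rw [← hxo]; exact Subgroup.orderOf_dvd_natCard _ h.hxN
  have h2 : ℓ ∣ (KG q N).relIndex N := by
    by_contra h2
    obtain ⟨B, hBE, hBe, hBc⟩ := exists_A_in_compl hG hN h.hE hℓτ
    have hBp : IsPGroup ℓ ↥B := IsPGroup.of_card (n := 2) hBc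
    have hBL : B ≤ KG q N :=
      le_of_normal_of_not_dvd_relIndex (KG_le N) (le_normalizer_KG N)
        (hBE.trans inf_le_right) hBp h2
    set Q2 : Subgroup G := piCoreOf ({q} : Set ℕ) (sigmaCore N) with hQ2
    have hQ2N : N ≤ Subgroup.normalizer (Q2 : Set G) :=
      (le_normalizer_sigmaCore N).trans
        (Cfsg.Agent.Lib.Helper4.BG14.normalizer_le_normalizer_piCoreOf _ _)
    have hQ2σ : Q2 ≤ sigmaCore N := piCoreOf_le _ _
    have hQ2c : Nat.card ↥Q2 = q ^ _ :=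
      Nat.eq_prime_pow_of_unique_prime_dvd Nat.card_pos.ne'
        (fun {p} hp hd => isPiNum_card_piCoreOf ({q} : Set ℕ) (sigmaCore N) p hp hd)
    have hinf : Q2 ⊓ KG q N = ⊥ := by
      apply inf_eq_bot_of_coprime_card
      rw [hQ2c]
      exact Nat.Coprime.pow_left _ (KG_coprime N).symm
    have hBC : Q2 ≤ sigmaCore N ⊓ Subgroup.centralizer (B : Set G) := by
      intro z hz
      refine Subgroup.mem_inf.mpr ⟨hQ2σ hz, Subgroup.mem_centralizer_iff.mpr ?_⟩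
      intro b hb
      have hbN : b ∈ N := (hBE.trans inf_le_right) hb
      exact (commute_of_normalizes hinf hz (hBL hb) (le_normalizer_KG N (sigmaCore_le N (hQ2σ hz)))
        (hQ2N hbN)).symm
    rw [(Cfsg.Agent.S1417.result hG N hN ℓ hℓτ B ⟨hBE.trans inf_le_right, hBe, hBc⟩).2.2.2.1] at hBC
    -- so `O_q(N_σ) = 1`, but `q` divides `|N_σ|`
    have hQ2b : Q2 = ⊥ := le_bot_iff.mp hBC
    have hsup := Cfsg.Agent.Lib.Helper5.BG151.nilpotent_sup_piCoreOf h.hnil ({q} : Set ℕ)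
    rw [← hQ2, hQ2b, bot_sup_eq] at hsup
    have hqd : q ∣ Nat.card ↥(sigmaCore N) := by
      have h3 := Subgroup.relIndex_mul_relIndex ⊥ (sigmaCore N) N bot_le (sigmaCore_le N)
      rw [Subgroup.relIndex_bot_left, Subgroup.relIndex_bot_left] at h3
      have h4 := hqN.2.1
      rw [← h3] at h4
      rcases (Nat.Prime.dvd_mul hqN.1).mp h4 with h5 | h5
      · exact h5
      · exact absurd h5 ((sigmaCore_hall hG hN).1.2.2 q hqN.1 hqN)
    rw [← hsup] at hqd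
    exact (isPiNum_card_piCoreOf _ _ q hqN.1 hqd).2 rfl
  rw [relIndex_KG] at h2
  exact absurd (h1 ℓ hℓ.out h2) (not_le.mpr hlt)

/-- **B and G, Theorem 14.4(d)** -/
theorem mem_beta (h : P9 M N x) {q : ℕ} (hqN : q ∈ sigma N) (hqM : q ∣ Nat.card ↥M) :
    q ∈ beta N := by
  obtain ⟨ℓ, hℓ, hℓd⟩ := Nat.exists_prime_and_dvd (n := orderOf x)
    (fun h0 => h.hx1 (orderOf_eq_one_iff.mp h0))
  obtain ⟨k, hk⟩ := exists_pow_of_prime_dvd hℓd
  haveI : Fact ℓ.Prime := ⟨hℓ⟩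
  have hk1 : x ^ k ≠ 1 := by
    intro h0
    rw [h0, orderOf_one] at hk
    exact hℓ.one_lt.ne hk
  exact (h.pow hk1).mem_beta_of_prime hk hqN hqM

/-- `τ₂(M) ∩ σ(N) = ∅` -/
theorem not_sigma_of_tau2 (h : P9 M N x) {t : ℕ} (ht : t ∈ tau2 M) : t ∉ sigma N := by
  intro htN
  haveI : Fact t.Prime := ⟨ht.1⟩
  have htM : t ∣ Nat.card ↥M := by
    obtain ⟨A, hAM, -, hAc⟩ := exists_elementary_sq ht.2.2.2
    have : t ∣ Nat.card ↥A := by rw [hAc]; exact dvd_pow_self t two_ne_zero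
    exact this.trans (Subgroup.card_dvd_of_le hAM)
  have h1 := h.mem_beta htN htM
  exact (Cfsg.Agent.S1408.result h.hG M h.hM t ht.2.1 ht.2.2.1 ht.2.2.2).1 h1.2

end P9
end Cfsg.Agent.Lib.Lead.BG149
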