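import Mathlib
import Cfsg.Agent.Lib.Lead.BG149b
import Cfsg.Agent.S1366
import Cfsg.Agent.S1367
import Cfsg.Agent.S1368
import Cfsg.Agent.S1378
import Cfsg.Agent.S1418
import Cfsg.Agent.S1417
import Cfsg.Agent.S1426
import Cfsg.Agent.S1432

set_option autoImplicit false
set_option linter.style.haveILetI false
set_option linter.unusedSectionVars false
set_option maxHeartbeats 800000

/-! B and G, Lemmas 14.9/14.10 (S1436). -/

namespace Cfsg.Agent.Lib.Lead.BG149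

open Cfsg Cfsg.Agent.Lib.Lead Cfsg.Agent.Lib.Lead.BG10 Cfsg.Agent.Lib.Helper7 Cfsg.Agent.Lib.Helper4
open Cfsg.Agent.Lib.Helper4.BG76 Cfsg.Agent.Lib.Helper4.BG8 Cfsg.Agent.Lib.Helper4.BG9
open Cfsg.Agent.Lib.Helper4.BG7 Cfsg.Agent.Lib.Helper4.BG12 Cfsg.Agent.Lib.Helper4.BGConj
open Cfsg.Agent.Lib.Helper4.BG13 Cfsg.Agent.Lib.Lead.BG95 Cfsg.Agent.Lib.Lead.BG12q
open Cfsg.Agent.Lib.Lead.BG11 Cfsg.Agent.Lib.Lead.BG13q Cfsg.Agent.Lib.Helper4.BG18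
open Cfsg.Agent.Lib.Helper2.BG12 Cfsg.Agent.Lib.Helper6 Cfsg.Agent.Lib.Helper2.BG13x
open Cfsg.Agent.Lib.Helper2.BG14y Cfsg.Agent.Lib.Helper5.BG139 Cfsg.Agent.Lib.Lead.BG14n
open Cfsg.Agent.Lib.Helper2.BG14z Cfsg.Agent.Lib.Helper5.BG143 Cfsg.Agent.Lib.Helper4.BG14
open Cfsg.Agent.Lib.Helper5.BG144 Cfsg.Agent.Lib.Lead.BG148 Cfsg.Agent.Lib.Helper2.BG16g
open Cfsg.Agent.Lib.Helper2.BG16e Cfsg.Agent.Lib.Lead.BG158
open scoped commutatorElement Pointwise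

universe u

variable {G : Type u} [Group G] [Finite G]

open Cfsg.Agent.Lib.Helper5.BG147 in
/-- `C_G(y) ≤ M` for `y ∈ K*#` -/
theorem centralizer_le_of_mem_kstar {M K Ms : Subgroup G} (t : T147 M K Ms) {y : G}
    (hy : y ∈ kstar M K) (hy1 : y ≠ 1) : Subgroup.centralizer ({y} : Set G) ≤ M := by
  obtain ⟨n, hn⟩ := Cfsg.Agent.Lib.Helper5.BG143.exists_zpowers_prime hy1
  have h1 : Subgroup.zpowers (y ^ n) ≤ kstar M K :=
    Subgroup.zpowers_le.mpr (Subgroup.pow_mem _ hy n)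
  have h2 := (t.uniqC' _ h1 hn).1
  rw [centralizer_zpowers'] at h2
  exact (centralizer_le_centralizer_pow y n).trans h2

namespace P9

variable {M N : Subgroup G} {x : G}

open Cfsg.Agent.Lib.Helper5.BG147 in
/-- Part 1 of S1436(a), in the case `κ(N) = ∅` -/
theorem kappa_empty_of_not (h : P9 M N x) (hκN : ¬ (kappa N).Nonempty) {q : ℕ}
    (hqN : q ∈ sigma N) (hqM : q ∣ Nat.card ↥M) : kappa M = ∅ := by
  have hG := h.hG
  have hM := h.hM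
  have hN := h.hN
  by_contra hκM
  have hκM' : (kappa M).Nonempty := Set.nonempty_iff_ne_empty.mpr hκM
  obtain ⟨K, U, hKU⟩ := exists_sd hG hM
  have hK1 : K ≠ ⊥ := by
    obtain ⟨p, hp⟩ := hκM'
    intro h0
    have h1 := hKU.hall.2.2 p hp.1 hp
    rw [h0, Subgroup.relIndex_bot_left] at h1
    exact h1 hp.2.1
  obtain ⟨Ms, t⟩ := t147 hG hM hKU.hall hK1
  -- `q ∤ |K|`
  have hqK : ¬ q ∣ Nat.card ↥K := by
    intro hd
    have hqMs : q ∈ sigma Ms := t.hall_sigma'.2.1 q hqN.1 hd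
    obtain ⟨g, hg⟩ := sigma_partition hG t.hMs hN hqMs hqN
    apply hκN
    rw [hg, Cfsg.Agent.Lib.Helper2.BG11.kappa_cj]
    obtain ⟨p, hp, hpd⟩ := Nat.exists_prime_and_dvd (n := Nat.card ↥(kstar M K))
      (fun h0 => t.hKs1 (Subgroup.card_eq_one.mp h0))
    exact ⟨p, t.hKs.2.1 p hp hpd⟩
  have hqσ : ¬ q ∣ Nat.card ↥(sigmaCore M) := fun hd =>
    h.not_sigma_of_sigma hqN ((sigmaCore_hall hG hM).1.2.1 q hqN.1 hd)
  -- `q ∣ |U|`
  have hqU : q ∣ Nat.card ↥U := by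
    have h1 := card_mul_of_isComplIn hKU.compl
    rw [h1] at hqM
    rcases (Nat.Prime.dvd_mul hqN.1).mp hqM with h2 | h2
    · exact h2
    · exfalso
      rw [sup_comm] at h2
      rcases prime_dvd_card_sup (hKU.hall.1.trans (le_normalizer_sigmaCore M)) hqN.1 h2
        with h3 | h3
      · exact hqσ h3
      · exact hqK h3
  have hU1 : U ≠ ⊥ := by
    intro h0
    rw [h0, Subgroup.card_bot] at hqU
    exact hqN.1.one_lt.ne' (Nat.dvd_one.mp hqU)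
  have c : Ctx M K U Ms := Ctx.of_t147 hG hM hKU hK1 hU1 t.hMs t.hKeq t.hKs
  obtain ⟨R, H, f⟩ := BG148.exists_cfg hG c hqN.1 hqU
  have hqH : q ∈ sigma H := f.r_mem_sigma hG
  obtain ⟨g, hg⟩ := sigma_partition hG hN f.hH hqN hqH
  -- the two complements of `H_σ` in `H`
  have hc1 : IsComplIn (cj g M ⊓ H) (sigmaCore H) H := by
    have := isComplIn_cj g h.hE
    rwa [← sigmaCore_cj, cj_inf', ← hg] at this
  have hc2 : IsComplIn (H ⊓ Ms) (sigmaCore H) H := (f.step6 hG).2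
  have hsolvH : Group.IsSolvable ↥H := solvable_of_ne_top hG f.hH.1
  obtain ⟨n, hn, hn2⟩ := hall_conj hsolvH _ (isPiHallOf_of_isComplIn hG f.hH hc1)
    (isPiHallOf_of_isComplIn hG f.hH hc2)
  have hn3 : cj (n * g) M ⊓ H = H ⊓ Ms := by
    rw [← hn2, cj_inf', Helper7.cj_mul, Helper7.cj_eq_self_of_mem hn]
  -- `K ≤ M₁ = cj (n g) M`
  have hKM1 : K ≤ cj (n * g) M := by
    have : K ≤ H ⊓ Ms := le_inf (f.hKH hG) c.hKMs
    rw [← hn3] at this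
    exact this.trans inf_le_left
  -- `x₁ = (n g) x (n g)⁻¹ ∈ M*`
  have hx1Ms : (n * g) * x * (n * g)⁻¹ ∈ Ms := by
    have h1 : (n * g) * x * (n * g)⁻¹ ∈ cj (n * g) (M ⊓ N) := conj_mem_cj ⟨h.hxM, h.hxN⟩
    rw [cj_inf', Helper7.cj_mul (n) g N, ← hg, Helper7.cj_eq_self_of_mem hn, hn3] at h1
    exact h1.2
  -- conjugate `K` back
  have hsolvM : Group.IsSolvable ↥M := solvable_of_ne_top hG hM.1
  have hKa : cj (n * g)⁻¹ K ≤ M := by
    have := cj_mono (n * g)⁻¹ hKM1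
    rwa [cj_inv_cj] at this
  obtain ⟨m, hm, hm2⟩ := exists_cj_le_hall hsolvM (kappa M) hKU.hall hKa (by
    intro p hp hd
    rw [card_cj] at hd
    exact hKU.hall.2.1 p hp hd)
  have hm3 : cj (m * (n * g)⁻¹) K = K := by
    rw [Helper7.cj_mul]
    exact Subgroup.eq_of_le_of_card_ge hm2 (by rw [card_cj, card_cj])
  have hbMs : m * (n * g)⁻¹ ∈ Ms := c.hNK hG (mem_normalizer_iff_cj.mpr hm3)
  -- `x₂ = m x m⁻¹ ∈ M_σ ∩ M*`
  have hx2Ms : m * x * m⁻¹ ∈ Ms := by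
    have := Ms.mul_mem (Ms.mul_mem hbMs hx1Ms) (Ms.inv_mem hbMs)
    have e : m * (n * g)⁻¹ * ((n * g) * x * (n * g)⁻¹) * (m * (n * g)⁻¹)⁻¹ = m * x * m⁻¹ := by
      group
    rwa [e] at this
  have hx2σ : m * x * m⁻¹ ∈ sigmaCore M :=
    (Subgroup.mem_normalizer_iff.mp (le_normalizer_sigmaCore M hm) x).mp h.hx
  have hx2Z : m * x * m⁻¹ ∈ K ⊔ kstar M K := by
    rw [← t.inf_eq]
    exact ⟨sigmaCore_le M hx2σ, hx2Ms⟩
  have hx2K : m * x * m⁻¹ ∈ kstar M K := by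
    refine Subgroup.mem_inf.mpr ⟨hx2σ, Subgroup.mem_centralizer_iff.mpr ?_⟩
    intro k hk
    haveI := t.cycZ
    have hk' : k ∈ K ⊔ kstar M K := (le_sup_left : K ≤ K ⊔ kstar M K) hk
    have := (IsCyclic.commGroup (α := ↥(K ⊔ kstar M K))).mul_comm ⟨k, hk'⟩ ⟨_, hx2Z⟩
    exact congrArg Subtype.val this
  have hx21 : m * x * m⁻¹ ≠ 1 := by
    intro h0
    apply h.hx1
    have : x = m⁻¹ * (m * x * m⁻¹) * m := by group
    rw [this, h0]; group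
  have hC2 := centralizer_le_of_mem_kstar t hx2K hx21
  apply h.hCM
  intro c' hc'
  have h1 : m * c' * m⁻¹ ∈ Subgroup.centralizer ({m * x * m⁻¹} : Set G) := by
    rw [Subgroup.mem_centralizer_singleton_iff] at hc' ⊢
    calc m * c' * m⁻¹ * (m * x * m⁻¹) = m * (c' * x) * m⁻¹ := by group
      _ = m * (x * c') * m⁻¹ := by rw [hc']
      _ = m * x * m⁻¹ * (m * c' * m⁻¹) := by group
  have h2 := hC2 h1
  have h3 := M.mul_mem (M.mul_mem (M.inv_mem hm) h2) hm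
  have e : m⁻¹ * (m * c' * m⁻¹) * m = c' := by group
  rwa [e] at h3

end P9
end Cfsg.Agent.Lib.Lead.BG149
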