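import Mathlib
import Cfsg.Agent.Lib.Lead.BG149c
import Cfsg.Agent.S1366
import Cfsg.Agent.S1367
import Cfsg.Agent.S1368
import Cfsg.Agent.S1378
import Cfsg.Agent.S1418
import Cfsg.Agent.S1417
import Cfsg.Agent.S1426
import Cfsg.Agent.S1432

set_option autoImplicit false
set_option linter.style.haveILetI false
set_option linter.unusedSectionVars false
set_option maxHeartbeats 800000

/-! B and G, Lemmas 14.9/14.10 (S1436). -/

namespace Cfsg.Agent.Lib.Lead.BG149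

open Cfsg Cfsg.Agent.Lib.Lead Cfsg.Agent.Lib.Lead.BG10 Cfsg.Agent.Lib.Helper7 Cfsg.Agent.Lib.Helper4
open Cfsg.Agent.Lib.Helper4.BG76 Cfsg.Agent.Lib.Helper4.BG8 Cfsg.Agent.Lib.Helper4.BG9
open Cfsg.Agent.Lib.Helper4.BG7 Cfsg.Agent.Lib.Helper4.BG12 Cfsg.Agent.Lib.Helper4.BGConj
open Cfsg.Agent.Lib.Helper4.BG13 Cfsg.Agent.Lib.Lead.BG95 Cfsg.Agent.Lib.Lead.BG12q
open Cfsg.Agent.Lib.Lead.BG11 Cfsg.Agent.Lib.Lead.BG13q Cfsg.Agent.Lib.Helper4.BG18
open Cfsg.Agent.Lib.Helper2.BG12 Cfsg.Agent.Lib.Helper6 Cfsg.Agent.Lib.Helper2.BG13x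
open Cfsg.Agent.Lib.Helper2.BG14y Cfsg.Agent.Lib.Helper5.BG139 Cfsg.Agent.Lib.Lead.BG14n
open Cfsg.Agent.Lib.Helper2.BG14z Cfsg.Agent.Lib.Helper5.BG143 Cfsg.Agent.Lib.Helper4.BG14
open Cfsg.Agent.Lib.Helper5.BG144 Cfsg.Agent.Lib.Lead.BG148 Cfsg.Agent.Lib.Helper2.BG16g
open Cfsg.Agent.Lib.Helper2.BG16e Cfsg.Agent.Lib.Lead.BG158
open scoped commutatorElement Pointwise

universe u

variable {G : Type u} [Group G] [Finite G]

open Cfsg.Agent.Lib.Helper5.BG147 in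
/-- a prime of `κ(L) ∩ σ(N)` forces `κ(N) ≠ ∅` -/
theorem kappa_nonempty_of_mem_kappa (hG : IsMinSimpleOddOrder G) {L N : Subgroup G}
    (hL : IsCoatom L) (hN : IsCoatom N) {q : ℕ} (hqL : q ∈ kappa L) (hqN : q ∈ sigma N) :
    (kappa N).Nonempty := by
  obtain ⟨K, U, hKU⟩ := exists_sd hG hL
  have hK1 : K ≠ ⊥ := by
    intro h0
    have h1 := hKU.hall.2.2 q hqL.1 hqL
    rw [h0, Subgroup.relIndex_bot_left] at h1
    exact h1 hqL.2.1
  obtain ⟨Ms, t⟩ := t147 hG hL hKU.hall hK1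
  have hqK : q ∣ Nat.card ↥K := by
    have h3 := Subgroup.relIndex_mul_relIndex ⊥ K L bot_le hKU.hall.1
    rw [Subgroup.relIndex_bot_left, Subgroup.relIndex_bot_left] at h3
    have h4 := hqL.2.1
    rw [← h3] at h4
    rcases (Nat.Prime.dvd_mul hqL.1).mp h4 with h5 | h5
    · exact h5
    · exact absurd h5 (hKU.hall.2.2 q hqL.1 hqL)
  have hqMs : q ∈ sigma Ms := t.hall_sigma'.2.1 q hqL.1 hqK
  obtain ⟨g, hg⟩ := sigma_partition hG t.hMs hN hqMs hqN
  rw [hg, Cfsg.Agent.Lib.Helper2.BG11.kappa_cj]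
  obtain ⟨p, hp, hpd⟩ := Nat.exists_prime_and_dvd (n := Nat.card ↥(kstar L K))
    (fun h0 => t.hKs1 (Subgroup.card_eq_one.mp h0))
  exact ⟨p, t.hKs.2.1 p hp hpd⟩

namespace P9

variable {M N : Subgroup G} {x : G}

theorem kappa_empty (h : P9 M N x) {q : ℕ} (hqN : q ∈ sigma N) (hqM : q ∣ Nat.card ↥M) :
    kappa M = ∅ := by
  by_cases hκN : (kappa N).Nonempty
  · obtain ⟨K, U, Ms, r, R, k, t⟩ := exists_ctx8 h.hG h.hM h.hx h.hx1 h.hCM h.hN h.hCN hκN
    exact t.kappa_empty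
  · exact h.kappa_empty_of_not hκN hqN hqM

/-- Part 2 of S1436(a), in the case `κ(N) = ∅` -/
theorem tau2_empty_of_not (h : P9 M N x) (hκN : ¬ (kappa N).Nonempty) {q : ℕ}
    (hqN : q ∈ sigma N) (hqM : q ∣ Nat.card ↥M) : tau2 M = ∅ := by
  have hG := h.hG
  have hM := h.hM
  have hN := h.hN
  have hκM := h.kappa_empty hqN hqM
  rw [Set.eq_empty_iff_forall_notMem]
  intro t ht
  haveI : Fact t.Prime := ⟨ht.1⟩
  haveI : Fact q.Prime := ⟨hqN.1⟩
  obtain ⟨E, hE, -⟩ := exists_complIn_ge hG hM (A := ⊥) bot_le (by simp)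
  obtain ⟨A, hAE, hAe, hAc⟩ := exists_A_in_compl hG hM hE ht
  have hAM : A ≤ M := hAE.trans hE.1
  have hqσM : q ∉ sigma M := h.not_sigma_of_sigma hqN
  have htσN : t ∉ sigma N := h.not_sigma_of_tau2 ht
  have hqβ : q ∈ beta N := h.mem_beta hqN hqM
  -- `X ≤ E` of order `q`
  have hqE : q ∣ Nat.card ↥E := by
    have h1 := card_mul_of_isComplIn hE
    rw [h1] at hqM
    rcases (Nat.Prime.dvd_mul hqN.1).mp hqM with h2 | h2
    · exact h2
    · exact absurd ((sigmaCore_hall hG hM).1.2.1 q hqN.1 h2) hqσM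
  obtain ⟨⟨e0, he0E⟩, he0o⟩ := exists_prime_orderOf_dvd_card' q hqE
  rw [Subgroup.orderOf_mk] at he0o
  set X : Subgroup G := Subgroup.zpowers e0 with hX
  have hXE : X ≤ E := Subgroup.zpowers_le.mpr he0E
  have hXc : Nat.card ↥X = q := by rw [hX, Nat.card_zpowers, he0o]
  have he01 : e0 ≠ 1 := by
    intro h0
    rw [h0, orderOf_one] at he0o
    exact hqN.1.one_lt.ne he0o
  have hCX : Subgroup.centralizer (X : Set G) = Subgroup.centralizer ({e0} : Set G) :=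
    centralizer_zpowers' e0
  -- the conjugate `N1` of `N` over `C_G(X)`
  have hX1 : X ≠ ⊥ := by
    intro h0
    rw [h0, Subgroup.card_bot] at hXc
    exact hqN.1.one_lt.ne hXc
  obtain ⟨g, hg⟩ := Cfsg.Agent.S1425.result hG N hN X hX1 (by
    intro p hp hd
    rw [hXc] at hd
    rwa [(Nat.prime_dvd_prime_iff_eq hp hqN.1).mp hd])
  have hg' : cj g X ≤ sigmaCore N := hg
  set N1 : Subgroup G := cj g⁻¹ N with hN1def
  have hN1 : IsCoatom N1 := isCoatom_cj hN g⁻¹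
  have hXN1σ : X ≤ sigmaCore N1 := by
    rw [hN1def, sigmaCore_cj]
    have := cj_mono g⁻¹ hg'
    rwa [cj_inv_cj] at this
  have hXN1 : X ≤ N1 := hXN1σ.trans (sigmaCore_le N1)
  have hqN1 : q ∈ sigma N1 := by rw [hN1def, sigma_cj]; exact hqN
  have hqβ1 : q ∈ beta N1 := by rw [hN1def, beta_cj]; exact hqβ
  have htσN1 : t ∉ sigma N1 := by rw [hN1def, sigma_cj]; exact htσN
  obtain ⟨P, -, -⟩ := exists_sylIn_ge (bot_le : (⊥ : Subgroup G) ≤ sigmaCore N1)
    (IsPGroup.of_bot (p := q))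
  have hCXN1 : Subgroup.centralizer (X : Set G) ≤ N1 :=
    ((Cfsg.Agent.S1423.result hG N1 hN1 q hqN1 X hXN1 hXc default (Or.inl hqβ1)).1).1
  -- S1418 and S1417 for `M`, `A`
  obtain ⟨⟨hEA, -⟩, ⟨hCA, hMNA, hNAM⟩, -⟩ :=
    Cfsg.Agent.S1418.result hG M hM E hE t ht A ⟨hAE, hAe, hAc⟩
  have h17 := Cfsg.Agent.S1417.result hG M hM t ht A ⟨hAM, hAe, hAc⟩
  -- `X` acts without fixed points on `M_σ`
  have hfix : sigmaCore M ⊓ Subgroup.centralizer (X : Set G) = ⊥ := by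
    rw [eq_bot_iff]
    intro y hy
    rw [Subgroup.mem_bot]
    by_contra hy1
    have hy2 : y ∈ Subgroup.centralizer ({e0} : Set G) := by rw [← hCX]; exact hy.2
    have he0y : e0 ∈ M ⊓ Subgroup.centralizer ({y} : Set G) :=
      Subgroup.mem_inf.mpr ⟨hE.1 he0E, Subgroup.mem_centralizer_singleton_iff.mpr
        (Subgroup.mem_centralizer_singleton_iff.mp hy2).symm⟩
    have hσ : ∀ p : ℕ, p.Prime → p ∣ orderOf e0 → p ∉ sigma M := by
      intro p hp hd
      rw [he0o] at hd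
      rwa [(Nat.prime_dvd_prime_iff_eq hp hqN.1).mp hd]
    rcases Cfsg.Agent.S1432.result hG M hM y hy.1 hy1 e0 he0y he01 hσ with ⟨h1, -⟩ | ⟨h1, -⟩
    · have := h1 q hqN.1 (by rw [he0o])
      rw [hκM] at this
      exact this
    · exact h.not_sigma_of_tau2 (h1 q hqN.1 (by rw [he0o])) hqN
  -- the three cases
  have hdvd : Nat.card ↥(A ⊓ Subgroup.centralizer (X : Set G)) ∣ t ^ 2 := by
    rw [← hAc]; exact Subgroup.card_dvd_of_le inf_le_left
  obtain ⟨k, hk2, hk⟩ := (Nat.dvd_prime_pow ht.1).mp hdvd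
  interval_cases k
  · -- case (γ): `C_A(X) = 1`
    rw [pow_zero] at hk
    have hAX : A ⊓ Subgroup.centralizer (X : Set G) = ⊥ := Subgroup.card_eq_one.mp hk
    have hsolv : Group.IsSolvable ↥(sigmaCore M) :=
      solvable_of_ne_top hG (ne_top_of_le_ne_top hM.1 (sigmaCore_le M))
    have hcop : (Nat.card ↥(sigmaCore M)).Coprime (Nat.card ↥(A ⊔ X : Subgroup G)) := by
      have h1 := Helper2.BG13x.coprime_card_compl_sigmaCore hG hM hE
      exact (Nat.Coprime.coprime_dvd_left (Subgroup.card_dvd_of_le (sup_le hAE hXE)) h1).symm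
    have h1 := frob_le_centralizer (Q := A) (K := X) (T := sigmaCore M) (hXE.trans hEA)
      (by
        intro e he he1 u hu heu
        have hz : Subgroup.zpowers e = X :=
          Cfsg.Agent.Lib.Helper4.ZP.zpowers_eq_of_prime_card X (by rw [hXc]; exact hqN.1) e he he1
        have : u ∈ A ⊓ Subgroup.centralizer (X : Set G) := by
          refine Subgroup.mem_inf.mpr ⟨hu, ?_⟩
          rw [← hz, centralizer_zpowers', Subgroup.mem_centralizer_singleton_iff]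
          exact heu.symm
        rw [hAX, Subgroup.mem_bot] at this
        exact this)
      (hAM.trans (le_normalizer_sigmaCore M)) ((hXE.trans hE.1).trans (le_normalizer_sigmaCore M))
      hsolv hcop hfix
    have h2 : sigmaCore M ≤ sigmaCore M ⊓ Subgroup.centralizer (A : Set G) := le_inf le_rfl h1
    rw [h17.2.2.2.1] at h2
    have := h2 h.hx
    rw [Subgroup.mem_bot] at this
    exact h.hx1 this
  · -- case (β): `|C_A(X)| = t`
    rw [pow_one] at hk
    have d : BG11.T2 M t A := ⟨hM, ht.2.1, hAM, hAe, hAc⟩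
    obtain ⟨L, hL, hNL⟩ := exists_coatom_ge (d.normalizer_ne_top hG)
    have htL : t ∈ sigma L := d.sigma_of_normalizer_le hG hL hNL
    have hEL : E ≤ L := hEA.trans hNL
    have hA0L : A ⊓ Subgroup.centralizer (X : Set G) ≤ sigmaCore L := by
      apply le_sigmaCore_of_piNum hG hL ((inf_le_left.trans hAE).trans hEL)
      intro p hp hd
      rw [hk] at hd
      rwa [(Nat.prime_dvd_prime_iff_eq hp ht.1).mp hd]
    obtain ⟨a0, ha0, ha01, -, -⟩ := Cfsg.Agent.Lib.Helper4.BG20.exists_generator_of_prime_card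
      (X := A ⊓ Subgroup.centralizer (X : Set G)) (by rw [hk]; exact ht.1)
    have ha0e : a0 ∈ Subgroup.centralizer ({e0} : Set G) := by rw [← hCX]; exact ha0.2
    have he0L : e0 ∈ L ⊓ Subgroup.centralizer ({a0} : Set G) :=
      Subgroup.mem_inf.mpr ⟨hEL he0E, Subgroup.mem_centralizer_singleton_iff.mpr
        (Subgroup.mem_centralizer_singleton_iff.mp ha0e).symm⟩
    have hqL : q ∉ sigma L := by
      intro hqL
      obtain ⟨g2, hg2⟩ := sigma_partition hG hN hL hqN hqL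
      rw [hg2, sigma_cj] at htL
      exact htσN htL
    have hσ : ∀ p : ℕ, p.Prime → p ∣ orderOf e0 → p ∉ sigma L := by
      intro p hp hd
      rw [he0o] at hd
      rwa [(Nat.prime_dvd_prime_iff_eq hp hqN.1).mp hd]
    rcases Cfsg.Agent.S1432.result hG L hL a0 (hA0L ha0) ha01 e0 he0L he01 hσ with
      ⟨h1, -⟩ | ⟨h1, -⟩
    · exact hκN (kappa_nonempty_of_mem_kappa hG hL hN (h1 q hqN.1 (by rw [he0o])) hqN)
    · have hq2 := h1 q hqN.1 (by rw [he0o])
      exact (Cfsg.Agent.S1408.result hG L hL q hq2.2.1 hq2.2.2.1 hq2.2.2.2).1 hqβ.2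
  · -- case (α): `A ≤ C_G(X)`
    have hAX : A ≤ Subgroup.centralizer (X : Set G) := by
      have : A ⊓ Subgroup.centralizer (X : Set G) = A :=
        Subgroup.eq_of_le_of_card_ge inf_le_left (by rw [hk, hAc])
      rw [← this]; exact inf_le_right
    have hAN1 : A ≤ N1 := hAX.trans hCXN1
    have htτ1 : t ∈ tau2 N1 := mem_tau2_of_elementary_sq hG hN1 htσN1 hAN1 hAe hAc
    obtain ⟨E2, hE2, hAE2⟩ := exists_complIn_ge hG hN1 hAN1 (by
      rw [hAc]
      apply Nat.Coprime.pow_left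
      rw [Nat.Prime.coprime_iff_not_dvd ht.1]
      intro hd
      exact htσN1 ((sigmaCore_hall hG hN1).1.2.1 t ht.1 hd))
    obtain ⟨-, ⟨hCA2, hMNA2, -⟩, -⟩ :=
      Cfsg.Agent.S1418.result hG N1 hN1 E2 hE2 t htτ1 A ⟨hAE2, hAe, hAc⟩
    have hXE2 : X ≤ E2 := by
      rw [← hMNA2]
      refine le_trans ?_ hCA2
      intro z hz
      rw [Subgroup.mem_centralizer_iff]
      intro a ha
      exact ((Subgroup.mem_centralizer_iff.mp (hAX ha)) z hz).symm
    exact not_sigma_of_dvd_card_compl hG hN1 hE2 hqN.1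
      (by rw [← hXc]; exact Subgroup.card_dvd_of_le hXE2) hqN1

end P9
end Cfsg.Agent.Lib.Lead.BG149
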