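import Mathlib
import Cfsg.Agent.Lib.Lead.S3Defs
import Cfsg.Agent.Lib.Lead.CoprimeAction

/-!
# S4305: the internal setting passes to quotients and to subgroups
-/

set_option autoImplicit false
set_option linter.unusedSectionVars false
set_option linter.unusedVariables false

namespace Cfsg.Agent.Lib.Lead.S3

universe w

variable {Γ : Type w} [Group Γ] [Finite Γ] {G : Subgroup Γ} {s t : Γ}

/-- an element of `G` of order dividing `6` is trivial. -/
theorem Setting.eq_one_of_pow_six (h : Setting G s t) {x : Γ} (hx : x ∈ G) (h6 : x ^ 6 = 1) :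
    x = 1 := by
  have h1 : orderOf x ∣ 6 := orderOf_dvd_of_pow_eq_one h6
  have h2 : orderOf x ∣ Nat.card G := by
    have := orderOf_dvd_natCard (⟨x, hx⟩ : G)
    rwa [Subgroup.orderOf_mk] at this
  have h3 : orderOf x ∣ 1 := by
    have := Nat.dvd_gcd h2 h1
    rwa [h.hcop] at this
  exact orderOf_eq_one_iff.1 (Nat.dvd_one.1 h3)

theorem Setting.s_not_mem (h : Setting G s t) : s ∉ G := fun hs =>
  h.hs1 (h.eq_one_of_pow_six hs (by rw [show 6 = 3 * 2 by rfl, pow_mul, h.hs3, one_pow]))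

theorem Setting.t_not_mem (h : Setting G s t) : t ∉ G := fun ht =>
  h.ht1 (h.eq_one_of_pow_six ht (by rw [show 6 = 2 * 3 by rfl, pow_mul, h.ht2, one_pow]))

theorem Setting.coprime_closure (h : Setting G s t) :
    (Nat.card (Subgroup.closure ({s, t} : Set Γ))).Coprime (Nat.card G) :=
  Nat.Coprime.coprime_dvd_left (card_closure_dvd h.hs3 h.ht2 h.hts) h.hcop.symm

/-- an element of `G` commuting with `s` and `t` modulo a normal subgroup `N ≤ G` of `Γ` lies
in `N`. -/
theorem Setting.mem_of_comm_mod (h : Setting G s t) (N : Subgroup Γ) [hN : N.Normal] (hNG : N ≤ G)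
    {g : Γ} (hg : g ∈ G) (hs : s * g * s⁻¹ * g⁻¹ ∈ N) (ht : t * g * t⁻¹ * g⁻¹ ∈ N) : g ∈ N := by
  have hGn := h.hGn
  set A : Subgroup Γ := Subgroup.closure ({s, t} : Set Γ) with hA
  -- the elements `a` with `[a,g] ∈ N` form a subgroup
  let C : Subgroup Γ :=
    (Subgroup.centralizer ({QuotientGroup.mk' N g} : Set (Γ ⧸ N))).comap (QuotientGroup.mk' N)
  have hmemC : ∀ a : Γ, a ∈ C ↔ a * g * a⁻¹ * g⁻¹ ∈ N := by
    intro a
    show QuotientGroup.mk' N a ∈ Subgroup.centralizer ({QuotientGroup.mk' N g} : Set (Γ ⧸ N)) ↔ _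
    rw [Subgroup.mem_centralizer_singleton_iff, ← QuotientGroup.eq_one_iff,
      ← QuotientGroup.mk'_apply, map_mul, map_mul, map_mul, map_inv, map_inv]
    constructor
    · intro h1
      rw [h1]; group
    · intro h1
      have h2 : (QuotientGroup.mk' N) a * (QuotientGroup.mk' N) g =
          ((QuotientGroup.mk' N) a * (QuotientGroup.mk' N) g * ((QuotientGroup.mk' N) a)⁻¹ *
            ((QuotientGroup.mk' N) g)⁻¹) * ((QuotientGroup.mk' N) g * (QuotientGroup.mk' N) a) := by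
        group
      rw [h2, h1, one_mul]
  have hAC : A ≤ C := by
    rw [hA, Subgroup.closure_le]
    rintro a (rfl | rfl)
    · exact (hmemC _).2 hs
    · exact (hmemC _).2 ht
  have hfix' : ∀ a ∈ A, a * g * a⁻¹ * g⁻¹ ∈ N := fun a ha => (hmemC a).1 (hAC ha)
  obtain ⟨c, hc, hcN⟩ := Cfsg.Agent.Lib.Lead.coprime_fixed_coset A G
    (by rw [Subgroup.normalizer_eq_top]; exact le_top)
    h.coprime_closure (Or.inr h.hsolv) N hNG
    (by rw [Subgroup.normalizer_eq_top]; exact le_top)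
    (by rw [Subgroup.normalizer_eq_top]; exact le_top) g hg hfix'
  have hc1 : c = 1 := by
    apply h.hfpf c hc.1
    · exact (Subgroup.mem_centralizer_iff.1 hc.2) s (Subgroup.subset_closure (by simp))
    · exact (Subgroup.mem_centralizer_iff.1 hc.2) t (Subgroup.subset_closure (by simp))
  rw [hc1, mul_one] at hcN
  simpa using N.inv_mem hcN

/-- **the setting passes to quotients.** -/
theorem Setting.quot (h : Setting G s t) (N : Subgroup Γ) [N.Normal] (hNG : N ≤ G) :
    Setting (G.map (QuotientGroup.mk' N)) (QuotientGroup.mk' N s) (QuotientGroup.mk' N t) := by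
  have hGn := h.hGn
  have hsolv := h.hsolv
  refine ⟨Subgroup.Normal.map hGn _ (QuotientGroup.mk'_surjective N), ?_, ?_, ?_, ?_, ?_, ?_, ?_,
    ?_, ?_⟩
  · exact Group.isSolvable_of_surjective (MonoidHom.subgroupMap_surjective (QuotientGroup.mk' N) G)
  · have hdvd : Nat.card (G.map (QuotientGroup.mk' N)) ∣ Nat.card G :=
      Subgroup.card_map_dvd G (QuotientGroup.mk' N)
    exact Nat.Coprime.coprime_dvd_left hdvd h.hcop
  · rw [← map_pow, h.hs3, map_one]
  · rw [← map_pow, h.ht2, map_one]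
  · rw [← map_inv, ← map_mul, ← map_mul, h.hts, map_inv]
  · intro h1
    rw [QuotientGroup.mk'_apply, QuotientGroup.eq_one_iff] at h1
    exact h.s_not_mem (hNG h1)
  · intro h1
    rw [QuotientGroup.mk'_apply, QuotientGroup.eq_one_iff] at h1
    exact h.t_not_mem (hNG h1)
  · intro x
    obtain ⟨y, rfl⟩ := QuotientGroup.mk'_surjective N x
    obtain ⟨g, hg, a, ha, rfl⟩ := h.hgen y
    refine ⟨QuotientGroup.mk' N g, Subgroup.mem_map_of_mem _ hg, QuotientGroup.mk' N a, ?_,
      map_mul _ _ _⟩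
    have h2 : QuotientGroup.mk' N a ∈
        (Subgroup.closure ({s, t} : Set Γ)).map (QuotientGroup.mk' N) := ⟨a, ha, rfl⟩
    rw [MonoidHom.map_closure, Set.image_pair] at h2
    exact h2
  · rintro _ ⟨g, hg, rfl⟩ h1 h2
    have key : ∀ a : Γ, QuotientGroup.mk' N a * QuotientGroup.mk' N g =
        QuotientGroup.mk' N g * QuotientGroup.mk' N a → a * g * a⁻¹ * g⁻¹ ∈ N := by
      intro a ha
      rw [← QuotientGroup.eq_one_iff, ← QuotientGroup.mk'_apply, map_mul, map_mul, map_mul,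
        map_inv, map_inv, ha]
      group
    have := h.mem_of_comm_mod N hNG hg (key s h1) (key t h2)
    rw [QuotientGroup.mk'_apply, QuotientGroup.eq_one_iff]
    exact this

/-- **the setting passes to subgroups containing `s` and `t`.** -/
theorem Setting.sub (h : Setting G s t) (Γ₀ : Subgroup Γ) (hs : s ∈ Γ₀) (ht : t ∈ Γ₀) :
    Setting (G.subgroupOf Γ₀) (⟨s, hs⟩ : Γ₀) (⟨t, ht⟩ : Γ₀) := by
  have hGn := h.hGn
  have hsolv := h.hsolv
  -- the inclusion of `G ∩ Γ₀` into `G`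
  let f : ↥(G.subgroupOf Γ₀) →* ↥G :=
    { toFun := fun x => ⟨((x : Γ₀) : Γ), Subgroup.mem_subgroupOf.1 x.2⟩
      map_one' := rfl
      map_mul' := fun _ _ => rfl }
  have hf : Function.Injective f := by
    intro x y hxy
    have : ((f x : G) : Γ) = ((f y : G) : Γ) := congrArg Subtype.val hxy
    exact Subtype.ext (Subtype.ext this)
  refine ⟨Subgroup.Normal.subgroupOf hGn Γ₀, ?_, ?_, ?_, ?_, ?_, ?_, ?_, ?_, ?_⟩
  · exact Group.isSolvable_of_isSolvable_injective hf
  · exact Nat.Coprime.coprime_dvd_left (Subgroup.card_dvd_of_injective f hf) h.hcop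
  · exact Subtype.ext (by rw [Subgroup.coe_pow]; exact h.hs3)
  · exact Subtype.ext (by rw [Subgroup.coe_pow]; exact h.ht2)
  · exact Subtype.ext (by
      rw [Subgroup.coe_mul, Subgroup.coe_mul, Subgroup.coe_inv, Subgroup.coe_inv]; exact h.hts)
  · intro h1
    exact h.hs1 (congrArg Subtype.val h1)
  · intro h1
    exact h.ht1 (congrArg Subtype.val h1)
  · intro x
    obtain ⟨g, hg, a, ha, hx⟩ := h.hgen (x : Γ)
    have hcl : Subgroup.closure ({s, t} : Set Γ) ≤ Γ₀ := by
      rw [Subgroup.closure_le]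
      rintro y (rfl | rfl)
      · exact hs
      · exact ht
    have haΓ : a ∈ Γ₀ := hcl ha
    have hgΓ : g ∈ Γ₀ := by
      have : g = (x : Γ) * a⁻¹ := by rw [hx]; group
      rw [this]
      exact Γ₀.mul_mem x.2 (Γ₀.inv_mem haΓ)
    refine ⟨⟨g, hgΓ⟩, Subgroup.mem_subgroupOf.2 hg, ⟨a, haΓ⟩, ?_, Subtype.ext hx⟩
    -- `a` lies in the closure taken inside `Γ₀`
    have h2 : (Subgroup.closure ({(⟨s, hs⟩ : Γ₀), (⟨t, ht⟩ : Γ₀)} : Set Γ₀)).map Γ₀.subtype =
        Subgroup.closure ({s, t} : Set Γ) := by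
      rw [MonoidHom.map_closure, Set.image_pair]
      rfl
    have h3 : a ∈ (Subgroup.closure ({(⟨s, hs⟩ : Γ₀), (⟨t, ht⟩ : Γ₀)} : Set Γ₀)).map Γ₀.subtype := by
      rw [h2]; exact ha
    obtain ⟨a', ha', ha'a⟩ := h3
    have : a' = ⟨a, haΓ⟩ := Subtype.ext ha'a
    rw [← this]
    exact ha'
  · intro g hg h1 h2
    have hg' : (g : Γ) ∈ G := Subgroup.mem_subgroupOf.1 hg
    have e1 : s * (g : Γ) = (g : Γ) * s := congrArg Subtype.val h1
    have e2 : t * (g : Γ) = (g : Γ) * t := congrArg Subtype.val h2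
    exact Subtype.ext (h.hfpf _ hg' e1 e2)

end Cfsg.Agent.Lib.Lead.S3
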