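import Mathlib
import Cfsg.Agent.Lib.Lead.Frattini
import Cfsg.Agent.Lib.Lead.BurnsideBasis

set_option autoImplicit false

namespace Cfsg.Agent.Lib.Lead.PExpMin

open Subgroup

section Cyc

variable {A : Type*} [Group A] [Finite A] {p : ℕ} [Fact p.Prime]

theorem card_pow_p_le (h : ∀ a b : A, orderOf a = p → orderOf b = p → zpowers a = zpowers b) :
    Nat.card {a : A // a ^ p = 1} ≤ p := by
  classical
  have hp : p.Prime := Fact.out
  by_cases hex : ∃ a0 : A, orderOf a0 = p
  · obtain ⟨a0, h0⟩ := hex
    have hsub : ∀ a : A, a ^ p = 1 → a ∈ zpowers a0 := by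
      intro a ha
      have hd : orderOf a ∣ p := orderOf_dvd_of_pow_eq_one ha
      rcases (Nat.dvd_prime hp).1 hd with h1 | h1
      · rw [orderOf_eq_one_iff] at h1; rw [h1]; exact one_mem _
      · rw [← h a a0 h1 h0]; exact mem_zpowers a
    calc Nat.card {a : A // a ^ p = 1} ≤ Nat.card (zpowers a0) :=
          Nat.card_le_card_of_injective (fun a => ⟨a.1, hsub a.1 a.2⟩) (by
            intro a b hab
            exact Subtype.ext (by simpa using congrArg Subtype.val hab))
      _ = p := by rw [Nat.card_zpowers, h0]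
  · push Not at hex
    have hall : ∀ a : A, a ^ p = 1 → a = 1 := by
      intro a ha
      have hd : orderOf a ∣ p := orderOf_dvd_of_pow_eq_one ha
      rcases (Nat.dvd_prime hp).1 hd with h1 | h1
      · exact orderOf_eq_one_iff.1 h1
      · exact absurd h1 (hex a)
    have : Subsingleton {a : A // a ^ p = 1} :=
      ⟨fun a b => Subtype.ext (by rw [hall a.1 a.2, hall b.1 b.2])⟩
    calc Nat.card {a : A // a ^ p = 1} ≤ 1 := Finite.card_le_one_iff_subsingleton.2 this
      _ ≤ p := hp.one_lt.le

theorem isCyclic_of_unique (hc : ∀ a b : A, a * b = b * a) (hA : IsPGroup p A)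
    (h : ∀ a b : A, orderOf a = p → orderOf b = p → zpowers a = zpowers b) : IsCyclic A := by
  classical
  haveI : Fintype A := Fintype.ofFinite A
  have hp : p.Prime := Fact.out
  have h1 : (Finset.univ.filter (fun a : A => a ^ p = 1)).card ≤ p := by
    have := card_pow_p_le h
    rwa [Nat.card_eq_fintype_card, Fintype.card_subtype] at this
  have hj : ∀ j : ℕ, (Finset.univ.filter (fun a : A => a ^ (p ^ j) = 1)).card ≤ p ^ j := by
    intro j
    induction j with
    | zero =>
      have : Finset.univ.filter (fun a : A => a ^ (p ^ 0) = 1) = {1} := by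
        ext a; simp
      rw [this]; simp
    | succ j ih =>
      have hmaps : ∀ a ∈ Finset.univ.filter (fun a : A => a ^ (p ^ (j + 1)) = 1),
          a ^ p ∈ Finset.univ.filter (fun a : A => a ^ (p ^ j) = 1) := by
        intro a ha
        simp only [Finset.mem_filter, Finset.mem_univ, true_and] at ha ⊢
        rw [← pow_mul, ← pow_succ']; exact ha
      have hfib : ∀ b ∈ Finset.univ.filter (fun a : A => a ^ (p ^ j) = 1),
          ((Finset.univ.filter (fun a : A => a ^ (p ^ (j + 1)) = 1)).filter
            (fun a => a ^ p = b)).card ≤ p := by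
        intro b _
        by_cases hne : ((Finset.univ.filter (fun a : A => a ^ (p ^ (j + 1)) = 1)).filter
            (fun a => a ^ p = b)).Nonempty
        · obtain ⟨a0, ha0⟩ := hne
          simp only [Finset.mem_filter, Finset.mem_univ, true_and] at ha0
          refine le_trans ?_ h1
          apply Finset.card_le_card_of_injOn (fun a => a * a0⁻¹)
          · intro a ha
            simp only [Finset.coe_filter, Finset.mem_filter, Finset.mem_univ, true_and,
              Set.mem_setOf_eq] at ha ⊢
            rw [Commute.mul_pow (show Commute a a0⁻¹ from hc a a0⁻¹), inv_pow, ha.2, ha0.2, mul_inv_cancel]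
          · intro a _ b _ hab
            exact mul_right_cancel hab
        · rw [Finset.not_nonempty_iff_eq_empty] at hne
          rw [hne]; simp
      have := Finset.card_le_mul_card_image_of_maps_to hmaps p hfib
      calc _ ≤ p * _ := this
        _ ≤ p * p ^ j := Nat.mul_le_mul_left _ ih
        _ = p ^ (j + 1) := by rw [pow_succ']
  apply isCyclic_of_card_pow_eq_one_le
  intro n hn
  obtain ⟨m, hm⟩ := IsPGroup.iff_card.1 hA
  obtain ⟨j, _, hj2⟩ := (Nat.dvd_prime_pow hp).1 (Nat.gcd_dvd_right n (p ^ m))
  have hset : Finset.univ.filter (fun a : A => a ^ n = 1) =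
      Finset.univ.filter (fun a : A => a ^ (p ^ j) = 1) := by
    ext a
    simp only [Finset.mem_filter, Finset.mem_univ, true_and]
    constructor
    · intro ha
      rw [← hj2]
      have d1 := orderOf_dvd_of_pow_eq_one ha
      have d2 : orderOf a ∣ p ^ m := by rw [← hm]; exact orderOf_dvd_natCard a
      exact orderOf_dvd_iff_pow_eq_one.1 (Nat.dvd_gcd d1 d2)
    · intro ha
      have d1 := orderOf_dvd_of_pow_eq_one ha
      exact orderOf_dvd_iff_pow_eq_one.1 (d1.trans (hj2 ▸ Nat.gcd_dvd_left n (p ^ m)))
  rw [hset]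
  refine (hj j).trans ?_
  exact Nat.le_of_dvd hn (hj2 ▸ Nat.gcd_dvd_left n (p ^ m))

end Cyc

end Cfsg.Agent.Lib.Lead.PExpMin
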