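import Mathlib
import Cfsg.Agent.Lib.Helper4.NilB16
import Cfsg.Agent.Lib.Helper8.BPS25
import Cfsg.Agent.Lib.Helper8.PairStabConj
import Cfsg.Agent.Lib.Helper8.VK11
import Cfsg.Agent.Lib.Helper6.ChermakDelgado

/-!
# Fusion control for abelian defect groups: carriers and stable homomorphisms

Carve-outs (OT2), (OT3) for helper8's S4644 (Watanabe): consequences of
`Cfsg.Agent.Lib.Helper8.VK.abelian_fusion_factor`.
-/

set_option autoImplicit false
set_option linter.unusedSectionVars false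
set_option maxHeartbeats 1600000

namespace Cfsg.Agent.Lib.Lead.WAOT

open Cfsg Cfsg.Agent.Lib.Helper1 Cfsg.Agent.Lib.Helper4 Cfsg.Agent.Lib.Helper8
  Cfsg.Agent.Lib.Helper8.BPS Cfsg.Agent.Lib.Helper8.BHI Cfsg.Agent.Lib.Helper4.NilB
open scoped ComplexConjugate Pointwise

universe u

variable {G : Type u} [Group G] [Fintype G] {M : Ideal AlgInt} {p : ℕ} [Fact p.Prime]

/-- membership in the stabilizer of a pair, unfolded -/
theorem mem_pairStabOf_mk_iff (P : Subgroup G)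
    (e : Set (IrrCharacter ↥(Subgroup.centralizer (P : Set G)))) (t : G) :
    t ∈ pairStabOf (⟨P, e⟩ : BrauerPairIdx G) ↔
      t ∈ Subgroup.normalizer (P : Set G) ∧
        StabilizesBlock (Subgroup.centralizer (P : Set G)) e t := Iff.rfl

/-- (OT2a) the carrier of the pair on `⟨v⟩` below `(P, e)` is `N_G(P, e) C_G(v)`. -/
theorem mem_carrP_aOf_iff (hM : IsPModular p M) {B : Set (IrrCharacter G)}
    {P : Subgroup G} {e : Set (IrrCharacter ↥(Subgroup.centralizer (P : Set G)))}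
    (hmax : IsMaximalBrauerPair p M B P e) (hab : ∀ x ∈ P, ∀ y ∈ P, x * y = y * x)
    {v : G} (hv : v ∈ P) (g : G) :
    g ∈ carrP p M P e (aOf p M P e v) ↔
      ∃ t ∈ pairStabOf (⟨P, e⟩ : BrauerPairIdx G), ∃ c ∈ cent v, g = t * c := by
  have hQP : Subgroup.zpowers v ≤ P := by
    rw [Subgroup.zpowers_le]; exact hv
  have hle : Relation.ReflTransGen (NormalSubpairRel p M) (aOf p M P e v) ⟨P, e⟩ :=
    aOf_le hM hmax hv
  constructor
  · intro hg
    rw [mem_carrP_iff] at hg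
    obtain ⟨t, htN, htst, c, hc, hgtc⟩ :=
      VK.abelian_fusion_factor hM hmax hab (Q := Subgroup.zpowers v)
        (f := subB p M P e (Subgroup.zpowers v)) hQP hle (g := g) hg
    exact ⟨t, ⟨htN, htst⟩, c, hc, hgtc⟩
  · rintro ⟨t, ht, c, hc, rfl⟩
    rw [mem_carrP_iff, pairConj_mul]
    have h1 : pairConj c (aOf p M P e v) = aOf p M P e v :=
      VK.pairConj_eq_self_of_mem_centralizer (Subgroup.zpowers v)
        (subB p M P e (Subgroup.zpowers v)) hc
    rw [h1]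
    have h2 : pairConj t (⟨P, e⟩ : BrauerPairIdx G) = ⟨P, e⟩ :=
      VK.pairConj_eq_self_of_stab P e ht.1 ht.2
    have h3 := subpairRel_pairConj (p := p) (M := M) t hle
    rw [h2] at h3
    exact h3

/-- (OT2b) the cardinality of the carrier. -/
theorem card_carrP_aOf (hM : IsPModular p M) {B : Set (IrrCharacter G)}
    {P : Subgroup G} {e : Set (IrrCharacter ↥(Subgroup.centralizer (P : Set G)))}
    (hmax : IsMaximalBrauerPair p M B P e) (hab : ∀ x ∈ P, ∀ y ∈ P, x * y = y * x)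
    {v : G} (hv : v ∈ P) :
    Nat.card ↥(carrP p M P e (aOf p M P e v)) *
        Nat.card ↥(pairStabOf (⟨P, e⟩ : BrauerPairIdx G) ⊓ cent v) =
      Nat.card ↥(pairStabOf (⟨P, e⟩ : BrauerPairIdx G)) * Nat.card ↥(cent v) := by
  have hset : carrP p M P e (aOf p M P e v) =
      ((pairStabOf (⟨P, e⟩ : BrauerPairIdx G) : Set G) * ((cent v : Subgroup G) : Set G)) := by
    ext g
    rw [mem_carrP_aOf_iff hM hmax hab hv, Set.mem_mul]
    constructor
    · rintro ⟨t, ht, c, hc, rfl⟩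
      exact ⟨t, ht, c, hc, rfl⟩
    · rintro ⟨t, ht, c, hc, rfl⟩
      exact ⟨t, ht, c, hc, rfl⟩
  rw [hset]
  exact Cfsg.Agent.Lib.Helper6.card_setMul_mul_card_inf _ _

/-- (OT3) homomorphisms stable under the inertial group are fusion stable. -/
theorem isStableFun_chOf_of_inertial (hM : IsPModular p M) {B : Set (IrrCharacter G)}
    {P : Subgroup G} {e : Set (IrrCharacter ↥(Subgroup.centralizer (P : Set G)))}
    (hmax : IsMaximalBrauerPair p M B P e) (hab : ∀ x ∈ P, ∀ y ∈ P, x * y = y * x)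
    (l : P →* ℂˣ)
    (hl : ∀ t ∈ pairStabOf (⟨P, e⟩ : BrauerPairIdx G), ∀ (v : P) (h : t * (v : G) * t⁻¹ ∈ P),
      l ⟨t * (v : G) * t⁻¹, h⟩ = l v) : IsStableFun p M P e (chOf l) := by
  intro a g g' hg hg' q hq
  obtain ⟨Q, f⟩ := a
  have hQgP : Q.map (MulAut.conj g).toMonoidHom ≤ P := map_conj_le_of_mem_carrP hg
  have hle : Relation.ReflTransGen (NormalSubpairRel p M) (pairConj g ⟨Q, f⟩) ⟨P, e⟩ := hg
  have hle' : Relation.ReflTransGen (NormalSubpairRel p M)
      (pairConj (g' * g⁻¹) (pairConj g ⟨Q, f⟩)) ⟨P, e⟩ := by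
    rw [← pairConj_mul, inv_mul_cancel_right]
    exact hg'
  obtain ⟨t, htN, htst, c, hc, hgtc⟩ :=
    VK.abelian_fusion_factor hM hmax hab (Q := Q.map (MulAut.conj g).toMonoidHom)
      (f := conjBlock Q g f) hQgP hle (g := g' * g⁻¹) hle'
  have hw : g * q * g⁻¹ ∈ Q.map (MulAut.conj g).toMonoidHom := ⟨q, hq, rfl⟩
  have hcw : c * (g * q * g⁻¹) = (g * q * g⁻¹) * c := by
    have := (Subgroup.mem_centralizer_iff.1 hc) (g * q * g⁻¹) hw
    exact this.symm
  have hkey : g' * q * g'⁻¹ = t * (g * q * g⁻¹) * t⁻¹ := by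
    have hg'eq : g' = t * c * g := by
      rw [← hgtc]; group
    rw [hg'eq]
    have : t * c * g * q * (t * c * g)⁻¹ = t * (c * (g * q * g⁻¹)) * c⁻¹ * t⁻¹ := by group
    rw [this, hcw]
    group
  have hwP : g * q * g⁻¹ ∈ P := hQgP hw
  have h1 := hl t ⟨htN, htst⟩ ⟨g * q * g⁻¹, hwP⟩ (by
    show t * (g * q * g⁻¹) * t⁻¹ ∈ P
    rw [← hkey]; exact conj_mem_of_mem_carrP hg' hq)
  show chOf l _ = chOf l _
  unfold chOf
  have h2 : (⟨g' * q * g'⁻¹, conj_mem_of_mem_carrP hg' hq⟩ : P) =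
      ⟨t * (g * q * g⁻¹) * t⁻¹, by rw [← hkey]; exact conj_mem_of_mem_carrP hg' hq⟩ :=
    Subtype.ext hkey
  rw [h2, h1]

end Cfsg.Agent.Lib.Lead.WAOT
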