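import Mathlib
import Cfsg.Agent.Lib.Helper4.NilB16
import Cfsg.Agent.Lib.Helper8.BPS25
import Cfsg.Agent.Lib.Helper8.PairStabConj
import Cfsg.Agent.Lib.Helper8.NA6
import Cfsg.Agent.Lib.Helper8.VK11
import Cfsg.Agent.Lib.Helper8.FS3

/-!
# Abelian defect groups: induced blocks below the maximal pair, and the inertial quotient

Carve-outs (OT5), (OT6) for helper8's S4644 (Watanabe).
-/

set_option autoImplicit false
set_option linter.unusedSectionVars false
set_option maxHeartbeats 1600000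

namespace Cfsg.Agent.Lib.Lead.WAOT2

open Cfsg Cfsg.Agent.Lib.Helper1 Cfsg.Agent.Lib.Helper4 Cfsg.Agent.Lib.Helper8
  Cfsg.Agent.Lib.Helper8.BPS Cfsg.Agent.Lib.Helper8.BHI Cfsg.Agent.Lib.Helper4.NilB
open scoped ComplexConjugate

universe u

variable {G : Type u} [Group G] [Fintype G] {M : Ideal AlgInt} {p : ℕ} [Fact p.Prime]

/-- (OT5) the block below `(P, e)` on `Q ≤ P` is the induced block (abelian `P`). -/
theorem subB_eq_of_inducedIn (hM : IsPModular p M) {B : Set (IrrCharacter G)}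
    {P : Subgroup G} {e : Set (IrrCharacter ↥(Subgroup.centralizer (P : Set G)))}
    (hmax : IsMaximalBrauerPair p M B P e) (hab : ∀ x ∈ P, ∀ y ∈ P, x * y = y * x)
    {Q : Subgroup G} (hQP : Q ≤ P)
    {f : Set (IrrCharacter ↥(Subgroup.centralizer (Q : Set G)))}
    (hf : IsInducedBlockIn M (Subgroup.centralizer (Q : Set G))
      (Subgroup.centralizer (P : Set G)) e f) : subB p M P e Q = f :=
  subB_eq hM hmax.1.1 (NA.subpairLE_of_inducedIn hM hmax.1.1 hab hQP hf)

/-- auxiliary: the index statement of `not_dvd_relIndex_stab`, in terms of a pair index -/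
theorem not_dvd_aux (hM : IsPModular p M) {B : Set (IrrCharacter G)}
    {P : Subgroup G} {e : Set (IrrCharacter ↥(Subgroup.centralizer (P : Set G)))}
    (hmax : IsMaximalBrauerPair p M B P e) :
    ∃ a : BrauerPairIdx G, a = ⟨P, e⟩ ∧
      ¬ p ∣ ((P ⊓ Subgroup.normalizer (a.1 : Set G)) ⊔
        Subgroup.centralizer (a.1 : Set G)).relIndex (pairStabOf a) := by
  classical
  have hPe : IsBrauerPair p M P e := hmax.1.1
  have hrefl : SubpairLE p M P e P e := Relation.ReflTransGen.refl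
  obtain ⟨-, x, hlex, hx⟩ := normalizer_defectGroup_of_subpairLE hM hmax le_rfl hPe.2 hrefl
    (pairStab (Subgroup.normalizer (P : Set G)) (Subgroup.centralizer (P : Set G)) e)
    (fun y => mem_pairStab _ _ e y)
  have hQ'P : P.map (MulAut.conj x).toMonoidHom ≤ P := subpairLE_le hlex
  have heq : P.map (MulAut.conj x).toMonoidHom = P :=
    Subgroup.eq_of_le_of_card_ge hQ'P
      (by rw [Subgroup.card_map_of_injective (MulAut.conj x).injective])
  have hxN : x ∈ Subgroup.normalizer (P : Set G) :=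
    Subgroup.mem_normalizer_iff_map_conj_eq.2 heq
  have hxst := (subpairLE_conj_iff_stabilizes hM hPe hrefl hxN).1 hlex
  have hpc : pairConj x (⟨P, e⟩ : BrauerPairIdx G) = ⟨P, e⟩ :=
    VK.pairConj_eq_self_of_stab P e hxN hxst
  obtain ⟨F', hF', hFe, hD⟩ := hx (pairStabOf (pairConj x (⟨P, e⟩ : BrauerPairIdx G)))
    (fun y => mem_pairStab _ _ _ y)
  have hnd := not_dvd_relIndex_stab hM hPe hQ'P hlex
    (pairStabOf (pairConj x (⟨P, e⟩ : BrauerPairIdx G))) (fun y => mem_pairStab _ _ _ y)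
    hF' hFe hD
  exact ⟨pairConj x (⟨P, e⟩ : BrauerPairIdx G), hpc, hnd⟩

/-- (OT6) the inertial quotient is a `p'`-group. -/
theorem not_dvd_relIndex_centralizer_pairStabOf (hM : IsPModular p M) {B : Set (IrrCharacter G)}
    {P : Subgroup G} {e : Set (IrrCharacter ↥(Subgroup.centralizer (P : Set G)))}
    (hmax : IsMaximalBrauerPair p M B P e) (hab : ∀ x ∈ P, ∀ y ∈ P, x * y = y * x) :
    ¬ p ∣ (Subgroup.centralizer (P : Set G)).relIndex (pairStabOf (⟨P, e⟩ : BrauerPairIdx G)) := by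
  obtain ⟨a, rfl, hnd⟩ := not_dvd_aux hM hmax
  have h1 : (P ⊓ Subgroup.normalizer (P : Set G)) ⊔ Subgroup.centralizer (P : Set G) =
      Subgroup.centralizer (P : Set G) := by
    apply sup_eq_right.2
    intro u hu
    rw [Subgroup.mem_centralizer_iff]
    intro q hq
    exact hab q hq u hu.1
  have hnd' : ¬ p ∣ ((P ⊓ Subgroup.normalizer (P : Set G)) ⊔
      Subgroup.centralizer (P : Set G)).relIndex (pairStabOf (⟨P, e⟩ : BrauerPairIdx G)) := hnd
  rw [h1] at hnd'
  exact hnd'

end Cfsg.Agent.Lib.Lead.WAOT2
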