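import Mathlib

/-!
# Fourier inversion and coprime action

Carve-out (FO) for helper8's S4644 (Watanabe): if `E` acts coprimely on the finite abelian group
`P`, `a : P → ℂ` is supported on the fixed points of `E`, and the Fourier coefficients of `a` at the
`E`-stable homomorphisms `P →* ℂˣ` vanish except at the trivial one, then `a` is constant on the
fixed points of `E`.
-/

set_option autoImplicit false
set_option linter.unusedSectionVars false
set_option maxHeartbeats 1600000

namespace Cfsg.Agent.Lib.Lead.WAFO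

open scoped ComplexConjugate

section Dual

variable (A : Type*) [CommGroup A] [Finite A]

theorem finite_dual : Finite (A →* ℂˣ) := by
  have hne : NeZero (Monoid.exponent A) := ⟨Monoid.exponent_ne_zero_of_finite⟩
  apply Nat.finite_of_card_ne_zero
  rw [CommGroup.card_monoidHom_of_hasEnoughRootsOfUnity A ℂ]
  exact Nat.card_pos.ne'

theorem sum_dual_apply [Fintype (A →* ℂˣ)] [DecidableEq A] (a : A) :
    ∑ f : A →* ℂˣ, ((f a : ℂˣ) : ℂ) = if a = 1 then (Nat.card A : ℂ) else 0 := by
  classical
  have hne : NeZero (Monoid.exponent A) := ⟨Monoid.exponent_ne_zero_of_finite⟩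
  by_cases ha : a = 1
  · subst ha
    rw [if_pos rfl]
    simp only [map_one, Units.val_one, Finset.sum_const, Finset.card_univ, nsmul_eq_mul, mul_one]
    rw [← Nat.card_eq_fintype_card, CommGroup.card_monoidHom_of_hasEnoughRootsOfUnity A ℂ]
  · rw [if_neg ha]
    obtain ⟨μ, hμ⟩ := CommGroup.exists_apply_ne_one_of_hasEnoughRootsOfUnity A ℂ ha
    have h1 : ((μ a : ℂˣ) : ℂ) * ∑ f : A →* ℂˣ, ((f a : ℂˣ) : ℂ)
        = ∑ f : A →* ℂˣ, ((f a : ℂˣ) : ℂ) := by
      rw [Finset.mul_sum]
      refine Fintype.sum_equiv (Equiv.mulLeft μ) _ _ fun f => ?_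
      simp
    have h2 : (((μ a : ℂˣ) : ℂ) - 1) * ∑ f : A →* ℂˣ, ((f a : ℂˣ) : ℂ) = 0 := by
      rw [sub_mul, h1, one_mul, sub_self]
    rcases mul_eq_zero.1 h2 with h | h
    · exfalso
      apply hμ
      apply Units.ext
      rw [Units.val_one]
      linear_combination h
    · exact h

end Dual

section Norm

variable {P : Type*} [CommGroup P] {E : Type*} [Group E] [Fintype E] [MulDistribMulAction E P]

/-- the norm map of the action -/
noncomputable def normHom : P →* P where
  toFun v := ∏ x : E, x • v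
  map_one' := by simp
  map_mul' v w := by
    simp only [smul_mul']
    exact Finset.prod_mul_distrib

theorem normHom_apply (v : P) : normHom (E := E) v = ∏ x : E, x • v := rfl

theorem normHom_smul (y : E) (v : P) : normHom (E := E) (y • v) = normHom (E := E) v := by
  rw [normHom_apply, normHom_apply]
  refine Fintype.prod_equiv (Equiv.mulRight y) _ _ fun x => ?_
  rw [Equiv.coe_mulRight, mul_smul]

theorem normHom_of_fixed {v : P} (hv : ∀ x : E, x • v = v) :
    normHom (E := E) v = v ^ Fintype.card E := by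
  rw [normHom_apply]
  simp only [hv]
  rw [Finset.prod_const, Finset.card_univ]

end Norm

/-- (FO) Fourier inversion and coprime action. -/
theorem fourier_coprime {P : Type*} [CommGroup P] [Fintype P] {E : Type*} [Group E] [Fintype E]
    [MulDistribMulAction E P] (hcop : (Fintype.card E).Coprime (Fintype.card P))
    (a : P → ℂ) (A : ℂ)
    (h : ∀ l : P →* ℂˣ, (∀ (x : E) (v : P), l (x • v) = l v) →
      ∑ v : P, ((l v : ℂˣ) : ℂ) * a v = if l = 1 then A else 0)
    (hsupp : ∀ v : P, a v ≠ 0 → ∀ x : E, x • v = v)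
    (u : P) (hu : ∀ x : E, x • u = u) : a u = a 1 := by
  classical
  by_cases hN : Fintype.card P = 1
  · have : Subsingleton P := Fintype.card_le_one_iff_subsingleton.1 hN.le
    rw [Subsingleton.elim u 1]
  have hN1 : 1 < Fintype.card P := by
    have : 0 < Fintype.card P := Fintype.card_pos
    omega
  obtain ⟨m, -, hm⟩ := Nat.exists_mul_mod_eq_one_of_coprime hcop hN1
  -- the projection onto the fixed points
  let π : P →* P := (powMonoidHom m).comp (normHom (E := E))
  have hπsmul : ∀ (y : E) (v : P), π (y • v) = π v := by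
    intro y v
    show (normHom (E := E) (y • v)) ^ m = (normHom (E := E) v) ^ m
    rw [normHom_smul]
  have hπfix : ∀ v : P, (∀ x : E, x • v = v) → π v = v := by
    intro v hv
    show (normHom (E := E) v) ^ m = v
    rw [normHom_of_fixed hv, ← pow_mul, ← pow_mod_card, hm, pow_one]
  have : Finite (P →* ℂˣ) := finite_dual P
  let _ : Fintype (P →* ℂˣ) := Fintype.ofFinite _
  -- Fourier coefficients
  have hhat : ∀ μ : P →* ℂˣ,
      ∑ v : P, ((μ v : ℂˣ) : ℂ) * a v = if μ.comp π = 1 then A else 0 := by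
    intro μ
    have h1 := h (μ.comp π) (fun x v => by
      show μ (π (x • v)) = μ (π v)
      rw [hπsmul])
    rw [← h1]
    refine Finset.sum_congr rfl fun v _ => ?_
    by_cases hv : a v = 0
    · rw [hv, mul_zero, mul_zero]
    · show ((μ v : ℂˣ) : ℂ) * a v = ((μ (π v) : ℂˣ) : ℂ) * a v
      rw [hπfix v (hsupp v hv)]
  -- inversion
  have hinv : ∀ w : P, (Fintype.card P : ℂ) * a w =
      ∑ μ : P →* ℂˣ, ((μ w⁻¹ : ℂˣ) : ℂ) * (if μ.comp π = 1 then A else 0) := by
    intro w
    have h2 : ∑ μ : P →* ℂˣ, ((μ w⁻¹ : ℂˣ) : ℂ) * (if μ.comp π = 1 then A else 0) =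
        ∑ μ : P →* ℂˣ, ∑ v : P, ((μ (w⁻¹ * v) : ℂˣ) : ℂ) * a v := by
      refine Finset.sum_congr rfl fun μ _ => ?_
      rw [← hhat μ, Finset.mul_sum]
      refine Finset.sum_congr rfl fun v _ => ?_
      rw [map_mul, Units.val_mul, mul_assoc]
    rw [h2, Finset.sum_comm]
    have h3 : ∀ v : P, ∑ μ : P →* ℂˣ, ((μ (w⁻¹ * v) : ℂˣ) : ℂ) * a v =
        (if v = w then (Fintype.card P : ℂ) * a w else 0) := by
      intro v
      rw [← Finset.sum_mul, sum_dual_apply P (w⁻¹ * v)]
      by_cases hvw : v = w
      · subst hvw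
        rw [if_pos (inv_mul_cancel v), if_pos rfl, Nat.card_eq_fintype_card]
      · rw [if_neg hvw, if_neg, zero_mul]
        intro hc
        apply hvw
        have := congrArg (fun t => w * t) hc
        simpa using this
    rw [Finset.sum_congr rfl fun v _ => h3 v, Finset.sum_ite_eq' Finset.univ w]
    simp
  -- on fixed points the right-hand side does not depend on the point
  have hconst : ∀ w : P, (∀ x : E, x • w = w) →
      ∑ μ : P →* ℂˣ, ((μ w⁻¹ : ℂˣ) : ℂ) * (if μ.comp π = 1 then A else 0) =
        ∑ μ : P →* ℂˣ, (if μ.comp π = 1 then A else 0) := by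
    intro w hw
    refine Finset.sum_congr rfl fun μ _ => ?_
    by_cases hμ : μ.comp π = 1
    · rw [if_pos hμ]
      have hw' : ∀ x : E, x • w⁻¹ = w⁻¹ := fun x => by rw [smul_inv', hw]
      have h4 : μ w⁻¹ = 1 := by
        have h5 : (μ.comp π) w⁻¹ = 1 := by rw [hμ]; rfl
        have h6 : (μ.comp π) w⁻¹ = μ (π w⁻¹) := rfl
        rw [h6, hπfix _ hw'] at h5
        exact h5
      rw [h4, Units.val_one, one_mul]
    · rw [if_neg hμ, mul_zero]
  have hone : ∀ x : E, x • (1 : P) = 1 := fun x => smul_one x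
  have e1 := hinv u
  have e2 := hinv 1
  rw [hconst u hu] at e1
  rw [hconst 1 hone] at e2
  have hne : (Fintype.card P : ℂ) ≠ 0 := by
    exact_mod_cast Fintype.card_ne_zero
  have : (Fintype.card P : ℂ) * a u = (Fintype.card P : ℂ) * a 1 := by rw [e1, e2]
  exact mul_left_cancel₀ hne this

end Cfsg.Agent.Lib.Lead.WAFO
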