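import Cfsg.Agent.Lib.Helper9.C2Max_G3

set_option autoImplicit false

/-!
S5634, package PK-G (Theorem G), piece G4a: if `L ≥` the monomial group is not monomial, then some
vector `g e_o` (`g ∈ L`) has weight at least two.
-/

namespace Cfsg.Agent.Lib.Helper6.C2Max

open Matrix

namespace PkG

/-- a vector of weight at most one has at most one nonzero coordinate -/
theorem eq_of_wt_le_one {F : Type*} [Field F] {κ : Type*} [Fintype κ] [DecidableEq κ]
    {v : κ → F} (h : wt v ≤ 1) {r r' : κ} (hr : v r ≠ 0) (hr' : v r' ≠ 0) : r = r' := by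
  classical
  rw [wt_eq_card, Finset.card_le_one] at h
  exact h r (Finset.mem_filter.mpr ⟨Finset.mem_univ _, hr⟩) r'
    (Finset.mem_filter.mpr ⟨Finset.mem_univ _, hr'⟩)

theorem colv_mul_pGL_swap {F : Type*} [Field F] {κ : Type*} [Fintype κ] [DecidableEq κ]
    (g : GL κ F) (o c : κ) : colv (g * pGL (Equiv.swap o c)) o = colv g c := by
  unfold colv
  rw [Units.val_mul, ← Matrix.mulVec_mulVec, pGL_mulVec_single, Equiv.swap_apply_left]

theorem exists_isWt_of_not_mono {F : Type*} [Field F] {κ : Type*} [Fintype κ] [DecidableEq κ]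
    {L : Subgroup (GL κ F)} (hL : ∀ g : GL κ F, IsMono (g : Matrix κ κ F) → g ∈ L) (o : κ)
    (h : ¬ ∀ g ∈ L, IsMono (g : Matrix κ κ F)) : ∃ s, 2 ≤ s ∧ PkG.IsWt L o s := by
  by_contra hcon
  apply h
  intro g hg
  -- every column of `g` has weight at most one
  have hw : ∀ c, wt (colv g c) ≤ 1 := by
    intro c
    by_contra hc
    apply hcon
    refine ⟨wt (colv g c), by omega, g * pGL (Equiv.swap o c),
      L.mul_mem hg (hL _ (pGL_isMono _)), ?_⟩
    rw [colv_mul_pGL_swap]
  -- every column has a nonzero entry
  have hex : ∀ c, ∃ r, (g : Matrix κ κ F) r c ≠ 0 := by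
    intro c
    by_contra hc
    push Not at hc
    apply colv_ne_zero g c
    funext r
    rw [colv_apply]
    exact hc r
  choose τ hτ using hex
  have huniq : ∀ r c, (g : Matrix κ κ F) r c ≠ 0 → r = τ c := by
    intro r c hrc
    apply eq_of_wt_le_one (hw c)
    · rw [colv_apply]; exact hrc
    · rw [colv_apply]; exact hτ c
  have hinj : Function.Injective τ := by
    intro c c' hcc
    by_contra hne
    have h1 : (((g⁻¹ : GL κ F) : Matrix κ κ F) * (g : Matrix κ κ F)) c c = 1 := by
      rw [Units.inv_mul, Matrix.one_apply_eq]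
    have h2 : (((g⁻¹ : GL κ F) : Matrix κ κ F) * (g : Matrix κ κ F)) c c' = 0 := by
      rw [Units.inv_mul, Matrix.one_apply_ne hne]
    rw [Matrix.mul_apply, Finset.sum_eq_single (τ c)] at h1
    · rw [Matrix.mul_apply, Finset.sum_eq_single (τ c)] at h2
      · have h3 : ((g⁻¹ : GL κ F) : Matrix κ κ F) c (τ c) ≠ 0 := by
          intro h0
          rw [h0, zero_mul] at h1
          exact zero_ne_one h1
        have h4 : (g : Matrix κ κ F) (τ c) c' = 0 := by
          rcases mul_eq_zero.mp h2 with h5 | h5
          · exact absurd h5 h3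
          · exact h5
        apply hτ c'
        rw [← hcc]
        exact h4
      · intro k _ hk
        have : (g : Matrix κ κ F) k c' = 0 := by
          by_contra hk0
          apply hk
          rw [huniq k c' hk0, hcc]
        rw [this, mul_zero]
      · intro hh
        exact absurd (Finset.mem_univ _) hh
    · intro k _ hk
      have : (g : Matrix κ κ F) k c = 0 := by
        by_contra hk0
        exact hk (huniq k c hk0)
      rw [this, mul_zero]
    · intro hh
      exact absurd (Finset.mem_univ _) hh
  exact ⟨Equiv.ofBijective τ (Finite.injective_iff_bijective.mp hinj), fun r c hrc => by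
    rw [Equiv.ofBijective_apply]
    exact huniq r c hrc⟩

end PkG

end Cfsg.Agent.Lib.Helper6.C2Max
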