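import Mathlib

set_option autoImplicit false

/-!
# Orbit products for quadratic actions (towards Glauberman's Theorem A, odd `p`)

`trace_aux`: if a finite group `A` acts quadratically on an abelian group `M`, `p` is odd and `Ω` is an
`A`-invariant finite subset of `M` all of whose elements have the same `p`-th power `z`, then the
product of `Ω` equals the product of the `A`-fixed points of `Ω` times a power of `z`.
-/

namespace Cfsg.Agent.Lib.Lead.GlaubA

open scoped BigOperators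

/-- the product of all elements of a finite abelian group of odd prime exponent is trivial -/
theorem prod_univ_eq_one_of_exp {U : Type*} [CommGroup U] [Fintype U] {p : ℕ} [hp : Fact p.Prime]
    (hp2 : p ≠ 2) (hexp : ∀ u : U, u ^ p = 1) : ∏ u : U, u = 1 := by
  set π := ∏ u : U, u with hπ
  have h1 : π⁻¹ = π := by
    rw [hπ, ← Finset.prod_inv_distrib]
    exact Equiv.prod_comp (Equiv.inv U) (fun u => u)
  have h2 : π ^ 2 = 1 := by
    rw [pow_two]
    nth_rewrite 1 [← h1]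
    exact inv_mul_cancel π
  have h3 : π ^ (Nat.gcd 2 p) = 1 := pow_gcd_eq_one.mpr ⟨h2, hexp π⟩
  have h4 : Nat.gcd 2 p = 1 := (Nat.coprime_primes Nat.prime_two hp.out).mpr (Ne.symm hp2)
  rwa [h4, pow_one] at h3

section Trace

variable {M : Type*} [CommGroup M] [DecidableEq M] {A : Type*} [Group A] [Finite A]

theorem trace_aux (ρ : A →* MulAut M) {p : ℕ} [hp : Fact p.Prime] (hp2 : p ≠ 2) (z : M)
    [DecidablePred (fun ω : M => ∀ a : A, ρ a ω = ω)]
    (hquad : ∀ a b : A, ∀ m : M, ρ a (ρ b m / m) = ρ b m / m) :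
    ∀ (n : ℕ) (Ω : Finset M), Ω.card = n → (∀ a : A, ∀ ω ∈ Ω, ρ a ω ∈ Ω) → (∀ ω ∈ Ω, ω ^ p = z) →
      ∃ k : ℕ, ∏ ω ∈ Ω, ω = (∏ ω ∈ Ω.filter (fun ω => ∀ a : A, ρ a ω = ω), ω) * z ^ k := by
  intro n
  induction n using Nat.strong_induction_on with
  | _ n ih =>
  intro Ω hn hinv hz
  by_cases hall : ∀ ω ∈ Ω, ∀ a : A, ρ a ω = ω
  · refine ⟨0, ?_⟩
    rw [pow_zero, mul_one, Finset.filter_true_of_mem hall]
  push Not at hall
  obtain ⟨ω, hω, a₀, ha₀⟩ := hall
  -- the homomorphism `a ↦ (a • ω) / ω`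
  have hmulφ : ∀ a b : A, ρ (a * b) ω / ω = (ρ a ω / ω) * (ρ b ω / ω) := by
    intro a b
    have h1 : ρ (a * b) ω = ρ a (ρ b ω) := by rw [map_mul]; rfl
    have h2 : ρ b ω = (ρ b ω / ω) * ω := by rw [div_mul_cancel]
    have h3 : ρ a (ρ b ω) = (ρ b ω / ω) * ρ a ω := by
      conv_lhs => rw [h2]
      rw [map_mul, hquad a b ω]
    rw [h1, h3, mul_div_assoc, mul_comm]
  let φ : A →* M :=
    { toFun := fun a => ρ a ω / ω
      map_one' := by simp
      map_mul' := hmulφ }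
  have hφ : ∀ a : A, φ a = ρ a ω / ω := fun a => rfl
  set U : Subgroup M := φ.range with hU
  haveI : Finite ↥U := Finite.of_surjective φ.rangeRestrict φ.rangeRestrict_surjective
  haveI : Fintype ↥U := Fintype.ofFinite _
  -- elements of `U` are fixed by `A` and have order dividing `p`
  have hUfix : ∀ u ∈ U, ∀ b : A, ρ b u = u := by
    rintro _ ⟨a, rfl⟩ b
    rw [hφ]
    exact hquad b a ω
  have hUexp : ∀ u : ↥U, u ^ p = 1 := by
    rintro ⟨_, ⟨a, rfl⟩⟩
    apply Subtype.ext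
    rw [Subgroup.coe_pow, Subgroup.coe_one]
    show (φ a) ^ p = 1
    rw [hφ, div_pow, hz _ (hinv a ω hω), hz ω hω, div_self']
  have hUnt : Nontrivial ↥U := by
    refine ⟨⟨⟨φ a₀, a₀, rfl⟩, 1, ?_⟩⟩
    intro h
    have h1 : φ a₀ = 1 := congrArg Subtype.val h
    rw [hφ, div_eq_one] at h1
    exact ha₀ h1
  have hUp : IsPGroup p ↥U := fun u => ⟨1, by rw [pow_one]; exact hUexp u⟩
  obtain ⟨j, hj0, hj⟩ := hUp.nontrivial_iff_card.mp hUnt
  obtain ⟨j', rfl⟩ : ∃ j', j = j' + 1 := ⟨j - 1, by omega⟩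
  -- the orbit of `ω`
  set O : Finset M := (Finset.univ : Finset ↥U).image (fun u : ↥U => (u : M) * ω) with hO
  have hOmem : ∀ m : M, m ∈ O ↔ ∃ a : A, m = ρ a ω := by
    intro m
    rw [hO, Finset.mem_image]
    constructor
    · rintro ⟨⟨_, ⟨a, rfl⟩⟩, -, rfl⟩
      exact ⟨a, by show φ a * ω = ρ a ω; rw [hφ, div_mul_cancel]⟩
    · rintro ⟨a, rfl⟩
      exact ⟨⟨φ a, a, rfl⟩, Finset.mem_univ _, by show φ a * ω = ρ a ω; rw [hφ, div_mul_cancel]⟩
  have hOΩ : O ⊆ Ω := by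
    intro m hm
    obtain ⟨a, rfl⟩ := (hOmem m).mp hm
    exact hinv a ω hω
  have hOinv : ∀ b : A, ∀ m ∈ O, ρ b m ∈ O := by
    intro b m hm
    obtain ⟨a, rfl⟩ := (hOmem m).mp hm
    rw [hOmem]
    exact ⟨b * a, by rw [map_mul]; rfl⟩
  have hOnofix : ∀ m ∈ O, ¬ ∀ b : A, ρ b m = m := by
    intro m hm hfix
    obtain ⟨a, rfl⟩ := (hOmem m).mp hm
    apply ha₀
    have h1 := hfix (a * a₀ * a⁻¹)
    have h2 : ρ (a * a₀ * a⁻¹) (ρ a ω) = ρ a (ρ a₀ ω) := by
      rw [map_mul, map_mul, map_inv]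
      simp
    rw [h2] at h1
    exact (ρ a).injective h1
  -- the product over the orbit
  have hprodO : ∏ m ∈ O, m = z ^ (p ^ j') := by
    rw [hO, Finset.prod_image]
    · rw [Finset.prod_mul_distrib, Finset.prod_const, Finset.card_univ]
      have h1 : ∏ u : ↥U, (u : M) = 1 := by
        have := prod_univ_eq_one_of_exp (U := ↥U) hp2 hUexp
        have h2 := congrArg Subtype.val this
        rwa [Subgroup.val_finset_prod] at h2
      rw [h1, one_mul, ← Nat.card_eq_fintype_card, hj, pow_succ, mul_comm, pow_mul, hz ω hω]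
    · intro u _ v _ huv
      exact Subtype.ext (mul_right_cancel huv)
  -- the complement
  have hΩ'inv : ∀ a : A, ∀ m ∈ Ω \ O, ρ a m ∈ Ω \ O := by
    intro a m hm
    rw [Finset.mem_sdiff] at hm ⊢
    refine ⟨hinv a m hm.1, fun h => hm.2 ?_⟩
    have := hOinv a⁻¹ _ h
    rwa [map_inv, MulAut.inv_apply_self] at this
  have hωO : ω ∈ O := (hOmem ω).mpr ⟨1, by simp⟩
  have hcard : (Ω \ O).card < n := by
    rw [← hn]
    apply Finset.card_lt_card
    refine ⟨Finset.sdiff_subset, fun h => ?_⟩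
    have := h hω
    rw [Finset.mem_sdiff] at this
    exact this.2 hωO
  obtain ⟨k, hk⟩ := ih _ hcard (Ω \ O) rfl hΩ'inv (fun m hm => hz m (Finset.mem_sdiff.mp hm).1)
  have hfilt : (Ω \ O).filter (fun ω => ∀ a : A, ρ a ω = ω) = Ω.filter (fun ω => ∀ a : A, ρ a ω = ω) := by
    ext m
    simp only [Finset.mem_filter, Finset.mem_sdiff]
    constructor
    · rintro ⟨⟨h1, _⟩, h3⟩
      exact ⟨h1, h3⟩
    · rintro ⟨h1, h3⟩
      exact ⟨⟨h1, fun h => hOnofix m h h3⟩, h3⟩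
  refine ⟨k + p ^ j', ?_⟩
  rw [← Finset.prod_sdiff hOΩ, hk, hfilt, hprodO, pow_add, mul_assoc]

end Trace

end Cfsg.Agent.Lib.Lead.GlaubA
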