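import Mathlib
import Cfsg.Agent.Lib.Lead.ZJ1

set_option autoImplicit false

/-!
# Chains in `p`-groups generated by an invariant family of subgroups

If a `p`-group `T` is generated by a `T`-invariant family `𝒬` of subgroups, then `T` can be reached from
`⊥` by steps `J ↦ J ⊔ A` with `A ∈ 𝒬` normalising `J`.
-/

namespace Cfsg.Agent.Lib.Lead.GlaubA

open Cfsg.Agent.Lib.Lead.ZJ

variable {G : Type*} [Group G]

/-- in a finite `p`-group `T`, a proper subgroup `N` is normalised by some element of `T` outside `N` -/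
theorem exists_mem_normalizer_not_mem [Finite G] {p : ℕ} [Fact p.Prime] {T N : Subgroup G}
    (hT : IsPGroup p ↥T) (hlt : N < T) :
    ∃ g ∈ T, g ∉ N ∧ g ∈ Subgroup.normalizer (N : Set G) := by
  haveI : Group.IsNilpotent ↥T := hT.isNilpotent
  have hH : N.subgroupOf T < ⊤ := by
    rw [lt_top_iff_ne_top, Ne, Subgroup.subgroupOf_eq_top]
    exact not_le_of_gt hlt
  have h1 := normalizerCondition_of_isNilpotent (G := ↥T) (N.subgroupOf T) hH
  obtain ⟨t, htN, htn⟩ := SetLike.exists_of_lt h1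
  refine ⟨(t : G), t.2, fun h => htn (Subgroup.mem_subgroupOf.mpr h), ?_⟩
  rw [Subgroup.mem_normalizer_iff] at htN ⊢
  intro h
  constructor
  · intro hh
    have := (htN ⟨h, hlt.le hh⟩).mp (Subgroup.mem_subgroupOf.mpr hh)
    exact Subgroup.mem_subgroupOf.mp this
  · intro hh
    have hhT : h ∈ T := by
      have h2 : (t : G)⁻¹ * ((t : G) * h * (t : G)⁻¹) * (t : G) ∈ T :=
        T.mul_mem (T.mul_mem (T.inv_mem t.2) (hlt.le hh)) t.2
      have e : (t : G)⁻¹ * ((t : G) * h * (t : G)⁻¹) * (t : G) = h := by group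
      rwa [e] at h2
    have := (htN ⟨h, hhT⟩).mpr (Subgroup.mem_subgroupOf.mpr hh)
    exact Subgroup.mem_subgroupOf.mp this

/-- an element mapping a finite subgroup into itself by conjugation normalises it -/
theorem mem_normalizer_of_map_conj_le [Finite G] {J : Subgroup G} {g : G}
    (h : J.map (MulAut.conj g).toMonoidHom ≤ J) : g ∈ Subgroup.normalizer (J : Set G) := by
  have hcard : Nat.card ↥(J.map (MulAut.conj g).toMonoidHom) = Nat.card ↥J :=
    Subgroup.card_map_of_injective (MulAut.conj g).injective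
  have heq : J.map (MulAut.conj g).toMonoidHom = J := Subgroup.eq_of_le_of_card_ge h hcard.ge
  rw [Subgroup.mem_normalizer_iff]
  intro y
  constructor
  · intro hy
    rw [← heq]
    exact ⟨y, hy, rfl⟩
  · intro hy
    rw [← heq] at hy
    obtain ⟨y', hy', he⟩ := hy
    have : y' = y := (MulAut.conj g).injective he
    rwa [← this]

theorem chain_reach [Finite G] {p : ℕ} [Fact p.Prime] (𝒬 : Set (Subgroup G))
    (hTp : IsPGroup p ↥(sSup 𝒬))
    (hconj : ∀ A ∈ 𝒬, ∀ g ∈ sSup 𝒬, A.map (MulAut.conj g).toMonoidHom ∈ 𝒬)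
    (Φ : Subgroup G → Prop) (h0 : Φ ⊥)
    (hstep : ∀ J A : Subgroup G, Φ J → A ∈ 𝒬 → A ≤ Subgroup.normalizer (J : Set G) → Φ (J ⊔ A)) :
    Φ (sSup 𝒬) := by
  set T := sSup 𝒬 with hT
  obtain ⟨J, ⟨hJΦ, hJgen⟩, hJmax⟩ := exists_max_subgroup
    (fun J : Subgroup G => Φ J ∧ J = sSup {A | A ∈ 𝒬 ∧ A ≤ J}) (fun J => Nat.card ↥J)
    ⟨⊥, h0, by
      symm
      rw [eq_bot_iff]
      exact sSup_le (fun A hA => hA.2)⟩
  have hJT : J ≤ T := by
    calc J = sSup {A | A ∈ 𝒬 ∧ A ≤ J} := hJgen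
      _ ≤ T := sSup_le_sSup (fun A hA => hA.1)
  by_contra hnot
  have hJne : J ≠ T := fun h => hnot (h ▸ hJΦ)
  have hJlt : J < T := lt_of_le_of_ne hJT hJne
  -- it suffices to find a member of `𝒬` normalising `J` and not contained in it
  have key : ∃ A ∈ 𝒬, A ≤ Subgroup.normalizer (J : Set G) ∧ ¬ A ≤ J := by
    by_cases hTN : T ≤ Subgroup.normalizer (J : Set G)
    · have : ∃ A ∈ 𝒬, ¬ A ≤ J := by
        by_contra h
        push Not at h
        exact not_le_of_gt hJlt (sSup_le h)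
      obtain ⟨A, hA, hAJ⟩ := this
      exact ⟨A, hA, (le_sSup hA).trans hTN, hAJ⟩
    · set N := Subgroup.normalizer (J : Set G) ⊓ T with hN
      have hNlt : N < T := by
        refine lt_of_le_of_ne inf_le_right (fun h => hTN ?_)
        rw [← h]
        exact inf_le_left
      obtain ⟨g, hgT, hgN, hgnorm⟩ := exists_mem_normalizer_not_mem hTp hNlt
      have hgJ : g ∉ Subgroup.normalizer (J : Set G) := fun h => hgN ⟨h, hgT⟩
      have hJN : J ≤ N := le_inf Subgroup.le_normalizer hJT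
      have hmapN : J.map (MulAut.conj g).toMonoidHom ≤ N := by
        rintro _ ⟨y, hy, rfl⟩
        exact (Subgroup.mem_normalizer_iff.mp hgnorm y).mp (hJN hy)
      have : ∃ A ∈ 𝒬, A ≤ J ∧ ¬ A.map (MulAut.conj g).toMonoidHom ≤ J := by
        by_contra h
        push Not at h
        apply hgJ
        apply mem_normalizer_of_map_conj_le
        rw [Subgroup.map_le_iff_le_comap]
        calc J = sSup {A | A ∈ 𝒬 ∧ A ≤ J} := hJgen
          _ ≤ J.comap (MulAut.conj g).toMonoidHom :=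
            sSup_le (fun A hA => Subgroup.map_le_iff_le_comap.mp (h A hA.1 hA.2))
      obtain ⟨A, hA, hAJ, hAg⟩ := this
      refine ⟨_, hconj A hA g hgT, ?_, hAg⟩
      exact ((Subgroup.map_mono hAJ).trans hmapN).trans inf_le_left
  obtain ⟨A, hA, hAN, hAJ⟩ := key
  have h1 : Φ (J ⊔ A) := hstep J A hJΦ hA hAN
  have h2 : J ⊔ A = sSup {B | B ∈ 𝒬 ∧ B ≤ J ⊔ A} := by
    apply le_antisymm
    · apply sup_le
      · calc J = sSup {A | A ∈ 𝒬 ∧ A ≤ J} := hJgen
          _ ≤ sSup {B | B ∈ 𝒬 ∧ B ≤ J ⊔ A} :=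
            sSup_le_sSup (fun B hB => ⟨hB.1, hB.2.trans le_sup_left⟩)
      · exact le_sSup ⟨hA, le_sup_right⟩
    · exact sSup_le (fun B hB => hB.2)
  have h3 := hJmax (J ⊔ A) ⟨h1, h2⟩
  have h4 : J = J ⊔ A := Subgroup.eq_of_le_of_card_ge le_sup_left h3
  exact hAJ (h4 ▸ le_sup_right)

end Cfsg.Agent.Lib.Lead.GlaubA
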