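import Mathlib
import Cfsg.Agent.Lib.Lead.GlaubA1
import Cfsg.Agent.Lib.Lead.GlaubA2

set_option autoImplicit false

/-!
# The trace argument (towards Glauberman's Theorem A, odd `p`)

Let `V` be an abelian normal subgroup of the finite group `G`, `p` odd, `x ∈ V` with `x ^ p ∈ Z(G)`, and
let `T` be a `p`-subgroup generated by a `T`-invariant family of subgroups acting quadratically on `V`.
If `x` is the only `G`-conjugate of `x` centralised by `T`, then `x ∈ Z(G)`.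
-/

namespace Cfsg.Agent.Lib.Lead.GlaubA

open scoped commutatorElement BigOperators

variable {G : Type*} [Group G] [Finite G]

theorem trace_center {p : ℕ} [Fact p.Prime] (hp2 : p ≠ 2)
    (V : Subgroup G) [hVn : V.Normal] (hVab : ∀ a ∈ V, ∀ b ∈ V, a * b = b * a)
    (x : G) (hxV : x ∈ V) (hz : x ^ p ∈ Subgroup.center G)
    (𝒬 : Set (Subgroup G)) (hTp : IsPGroup p ↥(sSup 𝒬))
    (hconj : ∀ A ∈ 𝒬, ∀ g ∈ sSup 𝒬, A.map (MulAut.conj g).toMonoidHom ∈ 𝒬)
    (hquad : ∀ A ∈ 𝒬, ⁅⁅V, A⁆, A⁆ = ⊥)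
    (hTx : ∀ a ∈ sSup 𝒬, a * x = x * a)
    (huniq : ∀ g : G, (∀ a ∈ sSup 𝒬, a * (g * x * g⁻¹) = (g * x * g⁻¹) * a) → g * x * g⁻¹ = x) :
    x ∈ Subgroup.center G := by
  classical
  haveI : Fintype G := Fintype.ofFinite G
  letI : CommGroup ↥V :=
    { (inferInstance : Group ↥V) with mul_comm := fun a b => Subtype.ext (hVab a a.2 b b.2) }
  let ρ : G →* MulAut ↥V := MulAut.conjNormal
  have hρ : ∀ (g : G) (v : ↥V), ((ρ g v : ↥V) : G) = g * v * g⁻¹ :=
    fun g v => MulAut.conjNormal_apply g v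
  set xV : ↥V := ⟨x, hxV⟩ with hxVdef
  set zV : ↥V := xV ^ p with hzV
  have hzVcoe : (zV : G) = x ^ p := by rw [hzV, Subgroup.coe_pow]
  set Ω : Finset ↥V := Finset.univ.image (fun g : G => ρ g xV) with hΩ
  have hΩinv : ∀ g : G, ∀ ω ∈ Ω, ρ g ω ∈ Ω := by
    intro g ω hω
    obtain ⟨h, -, rfl⟩ := Finset.mem_image.mp hω
    exact Finset.mem_image.mpr ⟨g * h, Finset.mem_univ _, by rw [map_mul]; rfl⟩
  have hzfix : ∀ g : G, ρ g zV = zV := by
    intro g
    apply Subtype.ext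
    rw [hρ, hzVcoe]
    have := Subgroup.mem_center_iff.mp hz g
    rw [this, mul_inv_cancel_right]
  have hΩz : ∀ ω ∈ Ω, ω ^ p = zV := by
    intro ω hω
    obtain ⟨h, -, rfl⟩ := Finset.mem_image.mp hω
    rw [← map_pow]
    exact hzfix h
  -- the fixed points and the property `Φ`
  let Fix : Subgroup G → Finset ↥V := fun J => Ω.filter (fun ω => ∀ g ∈ J, ρ g ω = ω)
  have hFix : ∀ (J : Subgroup G) (ω : ↥V), ω ∈ Fix J ↔ ω ∈ Ω ∧ ∀ g ∈ J, ρ g ω = ω :=
    fun J ω => Finset.mem_filter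
  let Φ : Subgroup G → Prop := fun J => ∃ k : ℕ, ∏ ω ∈ Ω, ω = (∏ ω ∈ Fix J, ω) * zV ^ k
  have h0 : Φ ⊥ := by
    refine ⟨0, ?_⟩
    have : Fix ⊥ = Ω := by
      ext ω
      rw [hFix]
      refine ⟨fun h => h.1, fun h => ⟨h, fun g hg => ?_⟩⟩
      rw [Subgroup.mem_bot] at hg
      rw [hg, map_one]
      rfl
    rw [this, pow_zero, mul_one]
  have hstep : ∀ J A : Subgroup G, Φ J → A ∈ 𝒬 → A ≤ Subgroup.normalizer (J : Set G) →
      Φ (J ⊔ A) := by
    rintro J A ⟨k, hk⟩ hA hAN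
    set ρ' : ↥A →* MulAut ↥V := ρ.comp A.subtype with hρ'
    have hq : ∀ a b : ↥A, ∀ m : ↥V, ρ' a (ρ' b m / m) = ρ' b m / m := by
      intro a b m
      have hc : (((ρ' b m / m : ↥V)) : G) = ⁅(b : G), (m : G)⁆ := by
        rw [Subgroup.coe_div, commutatorElement_def, div_eq_mul_inv]
        congr 1
      have hmem : ⁅(b : G), (m : G)⁆ ∈ ⁅V, A⁆ := by
        rw [Subgroup.commutator_comm]
        exact Subgroup.commutator_mem_commutator b.2 m.2
      have h2 : ⁅⁅(b : G), (m : G)⁆, (a : G)⁆ ∈ ⁅⁅V, A⁆, A⁆ :=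
        Subgroup.commutator_mem_commutator hmem a.2
      rw [hquad A hA, Subgroup.mem_bot, commutatorElement_eq_one_iff_commute] at h2
      apply Subtype.ext
      have h3 : ((ρ' a (ρ' b m / m) : ↥V) : G) = (a : G) * ((ρ' b m / m : ↥V) : G) * (a : G)⁻¹ :=
        hρ a _
      rw [h3, hc, ← h2.eq, mul_inv_cancel_right]
    have hinv' : ∀ a : ↥A, ∀ ω ∈ Fix J, ρ' a ω ∈ Fix J := by
      intro a ω hω
      rw [hFix] at hω ⊢
      refine ⟨hΩinv a ω hω.1, fun j hj => ?_⟩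
      have ha : (a : G)⁻¹ ∈ Subgroup.normalizer (J : Set G) := Subgroup.inv_mem _ (hAN a.2)
      have hj' : (a : G)⁻¹ * j * (a : G)⁻¹⁻¹ ∈ J := (Subgroup.mem_normalizer_iff.mp ha j).mp hj
      have h1 := hω.2 _ hj'
      have e : j * (a : G) = (a : G) * ((a : G)⁻¹ * j * (a : G)⁻¹⁻¹) := by group
      show ρ j (ρ (a : G) ω) = ρ (a : G) ω
      calc ρ j (ρ (a : G) ω) = ρ (j * (a : G)) ω := by rw [map_mul]; rfl
        _ = ρ ((a : G) * ((a : G)⁻¹ * j * (a : G)⁻¹⁻¹)) ω := by rw [e]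
        _ = ρ (a : G) (ρ ((a : G)⁻¹ * j * (a : G)⁻¹⁻¹) ω) := by rw [map_mul]; rfl
        _ = ρ (a : G) ω := by rw [h1]
    obtain ⟨k', hk'⟩ := trace_aux ρ' hp2 zV hq _ (Fix J) rfl hinv'
      (fun ω hω => hΩz ω ((hFix J ω).mp hω).1)
    have hfilt : (Fix J).filter (fun ω => ∀ a : ↥A, ρ' a ω = ω) = Fix (J ⊔ A) := by
      ext ω
      rw [Finset.mem_filter, hFix, hFix]
      constructor
      · rintro ⟨⟨h1, h2⟩, h3⟩
        refine ⟨h1, ?_⟩
        -- the stabiliser of `ω`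
        have hle : J ⊔ A ≤ (MulAction.stabilizer (MulAut ↥V) ω).comap ρ := by
          apply sup_le
          · intro g hg
            rw [Subgroup.mem_comap, MulAction.mem_stabilizer_iff]
            exact h2 g hg
          · intro g hg
            rw [Subgroup.mem_comap, MulAction.mem_stabilizer_iff]
            exact h3 ⟨g, hg⟩
        intro g hg
        have := hle hg
        rw [Subgroup.mem_comap, MulAction.mem_stabilizer_iff] at this
        exact this
      · rintro ⟨h1, h2⟩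
        exact ⟨⟨h1, fun g hg => h2 g (le_sup_left (a := J) hg)⟩,
          fun a => h2 a (le_sup_right (a := J) a.2)⟩
    refine ⟨k' + k, ?_⟩
    rw [hk, hk', hfilt, pow_add, mul_assoc]
  obtain ⟨k, hk⟩ := chain_reach 𝒬 hTp hconj Φ h0 hstep
  have hFixT : Fix (sSup 𝒬) = {xV} := by
    ext ω
    rw [hFix, Finset.mem_singleton]
    constructor
    · rintro ⟨hω, hfix⟩
      obtain ⟨g, -, rfl⟩ := Finset.mem_image.mp hω
      apply Subtype.ext
      rw [hρ]
      apply huniq g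
      intro a ha
      have h1 := congrArg Subtype.val (hfix a ha)
      rw [hρ, hρ] at h1
      have h2 : (xV : G) = x := rfl
      rw [h2] at h1
      calc a * (g * x * g⁻¹) = (a * (g * x * g⁻¹) * a⁻¹) * a := by group
        _ = g * x * g⁻¹ * a := by rw [h1]
    · rintro rfl
      refine ⟨Finset.mem_image.mpr ⟨1, Finset.mem_univ _, by rw [map_one]; rfl⟩, fun a ha => ?_⟩
      apply Subtype.ext
      rw [hρ]
      show a * x * a⁻¹ = x
      rw [hTx a ha, mul_inv_cancel_right]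
  rw [hFixT, Finset.prod_singleton] at hk
  have hprodinv : ∀ g : G, ρ g (∏ ω ∈ Ω, ω) = ∏ ω ∈ Ω, ω := by
    intro g
    have himg : Ω.image (ρ g) = Ω := by
      apply Finset.eq_of_subset_of_card_le
      · intro ω hω
        obtain ⟨ω', hω', rfl⟩ := Finset.mem_image.mp hω
        exact hΩinv g ω' hω'
      · rw [Finset.card_image_of_injective _ (ρ g).injective]
    calc ρ g (∏ ω ∈ Ω, ω) = ∏ ω ∈ Ω, ρ g ω := map_prod (ρ g) _ _
      _ = ∏ ω ∈ Ω.image (ρ g), ω :=
        (Finset.prod_image (s := Ω) (g := ρ g) (f := fun ω => ω)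
          (fun a _ b _ h => (ρ g).injective h)).symm
      _ = ∏ ω ∈ Ω, ω := by rw [himg]
  rw [Subgroup.mem_center_iff]
  intro g
  have h1 := hprodinv g
  rw [hk, map_mul, map_pow, hzfix] at h1
  have h2 : ρ g xV = xV := mul_right_cancel h1
  have h3 := congrArg Subtype.val h2
  rw [hρ] at h3
  have h4 : g * x * g⁻¹ = x := h3
  calc g * x = (g * x * g⁻¹) * g := by group
    _ = x * g := by rw [h4]

end Cfsg.Agent.Lib.Lead.GlaubA
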