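import Mathlib
import Cfsg.Prelude.Def_Solvable
import Cfsg.Agent.Lib.Helper9.PCore
import Cfsg.Agent.Lib.Helper9.Hyperfocal1

set_option autoImplicit false

/-!
# A quadratic element and `p`-th powers of central elements (group-local lemma for S5253)

Let `W` be an isomorphism-invariant functor on finite `p`-groups such that in every finite group in which
`W(P)` is not normal some element of `P` outside `O_p(G)` acts quadratically on `Z(O_p(G))`.  If
`C_G(O_p(G)) ≤ O_p(G)`, `x ∈ Z(P)` and `N_G(W(P))` centralises `x ^ p`, then `x ^ p ∈ Z(G)`.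
-/

namespace Cfsg.Agent.Lib.Lead.QuadCenter

open Cfsg Cfsg.Agent.Lib.Helper9
open scoped commutatorElement

universe u

variable {p : ℕ}

/-- transport of `W(P)` to a subgroup `M` containing `P`. -/
theorem W_map_subgroupOf (W : ∀ (Q : Type u) [Group Q], Subgroup Q)
    (hW2 : ∀ (Q R : Type u) [Group Q] [Group R] [Finite Q], IsPGroup p Q → ∀ φ : Q ≃* R,
      (W Q).map φ.toMonoidHom = W R)
    {G : Type u} [Group G] [Finite G] (M P : Subgroup G) (hPM : P ≤ M) (hP : IsPGroup p P) :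
    ((W ↥(P.subgroupOf M)).map (P.subgroupOf M).subtype).map M.subtype = (W ↥P).map P.subtype := by
  have h1 := hW2 ↥(P.subgroupOf M) ↥P hP.comap_subtype (Subgroup.subgroupOfEquivOfLe hPM)
  rw [← h1]
  ext y
  simp only [Subgroup.mem_map]
  constructor
  · rintro ⟨a, ⟨b, hb, rfl⟩, rfl⟩
    exact ⟨_, ⟨b, hb, rfl⟩, rfl⟩
  · rintro ⟨a, ⟨b, hb, rfl⟩, rfl⟩
    exact ⟨_, ⟨b, hb, rfl⟩, rfl⟩

/-- membership in the image of the centre of a subgroup. -/
theorem mem_map_center_iff {G : Type*} [Group G] (Q : Subgroup G) (v : G) :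
    v ∈ (Subgroup.center ↥Q).map Q.subtype ↔ v ∈ Q ∧ ∀ y ∈ Q, y * v = v * y := by
  constructor
  · rintro ⟨w, hw, rfl⟩
    refine ⟨w.2, fun y hy => ?_⟩
    have := Subgroup.mem_center_iff.mp hw ⟨y, hy⟩
    exact congrArg Subtype.val this
  · rintro ⟨hv, hc⟩
    refine Subgroup.mem_map.mpr ⟨⟨v, hv⟩, ?_, rfl⟩
    rw [Subgroup.mem_center_iff]
    intro y
    exact Subtype.ext (hc y y.2)

/-- the image of the centre of a normal subgroup is normal. -/
theorem map_center_conj_mem {G : Type*} [Group G] (Q : Subgroup G) [hQ : Q.Normal] {v : G}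
    (hv : v ∈ (Subgroup.center ↥Q).map Q.subtype) (h : G) :
    h * v * h⁻¹ ∈ (Subgroup.center ↥Q).map Q.subtype := by
  rw [mem_map_center_iff] at hv ⊢
  refine ⟨hQ.conj_mem v hv.1 h, fun y hy => ?_⟩
  have hy' : h⁻¹ * y * h ∈ Q := by simpa using hQ.conj_mem y hy h⁻¹
  have := hv.2 _ hy'
  calc y * (h * v * h⁻¹) = h * ((h⁻¹ * y * h) * v) * h⁻¹ := by group
    _ = h * (v * (h⁻¹ * y * h)) * h⁻¹ := by rw [this]
    _ = h * v * h⁻¹ * y := by group

/-- the key computation: an element `g` with `g ^ p ∈ Q` acting quadratically on `Z(Q)` centralises the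
`p`-th powers of the elements of `Z(Q)`. -/
theorem commute_pow_of_quadratic {G : Type*} [Group G] (Q : Subgroup G) [hQ : Q.Normal] (g : G) (n : ℕ)
    (hgn : g ^ n ∈ Q)
    (hquad : ⁅⁅(Subgroup.center ↥Q).map Q.subtype, Subgroup.zpowers g⁆, Subgroup.zpowers g⁆ = ⊥)
    {v : G} (hv : v ∈ (Subgroup.center ↥Q).map Q.subtype) : g * v ^ n = v ^ n * g := by
  set d := g * v * g⁻¹ * v⁻¹ with hd
  have hvc := hv
  rw [mem_map_center_iff] at hvc
  have hdZ : d ∈ (Subgroup.center ↥Q).map Q.subtype :=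
    Subgroup.mul_mem _ (map_center_conj_mem Q hv g) (Subgroup.inv_mem _ hv)
  have hdc := hdZ
  rw [mem_map_center_iff] at hdc
  -- `d` commutes with `v`
  have hdv : d * v = v * d := hvc.2 d hdc.1
  -- `d` commutes with `g`
  have hdg : g * d = d * g := by
    have h1 : ⁅v, g⁆ ∈ ⁅(Subgroup.center ↥Q).map Q.subtype, Subgroup.zpowers g⁆ :=
      Subgroup.commutator_mem_commutator hv (Subgroup.mem_zpowers g)
    have h2 : ⁅⁅v, g⁆, g⁆ ∈ ⁅⁅(Subgroup.center ↥Q).map Q.subtype, Subgroup.zpowers g⁆, Subgroup.zpowers g⁆ :=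
      Subgroup.commutator_mem_commutator h1 (Subgroup.mem_zpowers g)
    rw [hquad, Subgroup.mem_bot, commutatorElement_eq_one_iff_commute] at h2
    have h3 : d = ⁅v, g⁆⁻¹ := by
      rw [hd, commutatorElement_def]; group
    rw [h3]
    exact (h2.inv_left.symm).eq
  -- conjugation by powers of `g`
  have hconj : ∀ j : ℕ, g ^ j * v * (g ^ j)⁻¹ = d ^ j * v := by
    intro j
    induction j with
    | zero => simp
    | succ j ih =>
      have hgd : ∀ k : ℕ, g * d ^ k = d ^ k * g := fun k => ((show Commute g d from hdg).pow_right k).eq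
      calc g ^ (j + 1) * v * (g ^ (j + 1))⁻¹ = g * (g ^ j * v * (g ^ j)⁻¹) * g⁻¹ := by
            rw [pow_succ']; group
        _ = g * (d ^ j * v) * g⁻¹ := by rw [ih]
        _ = (g * d ^ j) * (v * g⁻¹) := by group
        _ = (d ^ j * g) * (v * g⁻¹) := by rw [hgd j]
        _ = d ^ j * (g * v * g⁻¹ * v⁻¹) * v := by group
        _ = d ^ (j + 1) * v := by rw [← hd, pow_succ]
  -- `d ^ n = 1`
  have hdn : d ^ n = 1 := by
    have h1 := hconj n
    have h2 : g ^ n * v = v * g ^ n := hvc.2 _ hgn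
    have h3 : g ^ n * v * (g ^ n)⁻¹ = v := by rw [h2]; group
    rw [h3] at h1
    exact (mul_eq_right.mp h1.symm)
  -- conclusion
  have h4 : g * v ^ n * g⁻¹ = v ^ n := by
    have h5 : g * v * g⁻¹ = d * v := by rw [hd]; group
    rw [← conj_pow, h5, (show Commute d v from hdv).mul_pow, hdn, one_mul]
  calc g * v ^ n = (g * v ^ n * g⁻¹) * g := by group
    _ = v ^ n * g := by rw [h4]

section main

variable [hp : Fact p.Prime]

theorem quad_center_aux (W : ∀ (Q : Type u) [Group Q], Subgroup Q)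
    (hW2 : ∀ (Q R : Type u) [Group Q] [Group R] [Finite Q], IsPGroup p Q → ∀ φ : Q ≃* R,
      (W Q).map φ.toMonoidHom = W R)
    (hq : ∀ (G : Type u) [Group G] [Finite G] (P : Sylow p G),
      ¬ (((W ↥(P : Subgroup G)).map (P : Subgroup G).subtype : Subgroup G)).Normal →
      ∃ g : G, g ∈ (P : Subgroup G) ∧ g ∉ Cfsg.pCore p G ∧
        ⁅⁅Subgroup.center ↥(Cfsg.pCore p G) |>.map (Cfsg.pCore p G).subtype, Subgroup.zpowers g⁆,
          Subgroup.zpowers g⁆ = ⊥) :
    ∀ (n : ℕ) (G : Type u) [Group G] [Finite G] (P : Sylow p G), Nat.card G = n →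
      Subgroup.centralizer ((Cfsg.pCore p G : Subgroup G) : Set G) ≤ Cfsg.pCore p G →
      ∀ x : G, x ∈ (P : Subgroup G) → (∀ y ∈ (P : Subgroup G), y * x = x * y) →
      (∀ g ∈ Subgroup.normalizer ((((W ↥(P : Subgroup G)).map (P : Subgroup G).subtype : Subgroup G)) : Set G),
        g * x ^ p = x ^ p * g) →
      x ^ p ∈ Subgroup.center G := by
  intro n
  induction n using Nat.strong_induction_on with
  | _ n ih =>
  intro G _ _ P hn hcent x hxP hxc hN
  by_cases hnorm : (((W ↥(P : Subgroup G)).map (P : Subgroup G).subtype : Subgroup G)).Normal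
  · rw [Subgroup.mem_center_iff]
    intro g
    apply hN g
    rw [Subgroup.normalizer_eq_top_iff.mpr hnorm]
    trivial
  obtain ⟨g₀, hg₀P, hg₀Q, hquad₀⟩ := hq G P hnorm
  set Q := Cfsg.pCore p G with hQdef
  haveI hQn : Q.Normal := pCore_normal' p
  have hQp : IsPGroup p Q := pCore_isPGroup' p
  have hQP : Q ≤ (P : Subgroup G) := pCore_le_sylow P
  set ZQ := (Subgroup.center ↥Q).map Q.subtype with hZQ
  -- `x ∈ Z(Q)`
  have hxQ : x ∈ Q := by
    apply hcent
    rw [Subgroup.mem_centralizer_iff]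
    intro y hy
    exact hxc y (hQP hy)
  have hxZ : x ∈ ZQ := by
    rw [hZQ, mem_map_center_iff]
    exact ⟨hxQ, fun y hy => hxc y (hQP hy)⟩
  -- choose a power `g` of `g₀` with `g ∉ Q` and `g ^ p ∈ Q`
  have hex : ∃ k : ℕ, g₀ ^ (p ^ k) ∈ Q := by
    obtain ⟨k, hk⟩ := P.isPGroup' ⟨g₀, hg₀P⟩
    refine ⟨k, ?_⟩
    have : g₀ ^ (p ^ k) = 1 := by
      have := congrArg Subtype.val hk
      simpa using this
    rw [this]
    exact Subgroup.one_mem _
  classical
  set k := Nat.find hex with hk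
  have hk0 : k ≠ 0 := by
    intro h0
    have := Nat.find_spec hex
    rw [← hk, h0, pow_zero, pow_one] at this
    exact hg₀Q this
  obtain ⟨k', hk'⟩ := Nat.exists_eq_succ_of_ne_zero hk0
  set g := g₀ ^ (p ^ k') with hg
  have hgQ : g ∉ Q := by
    have := Nat.find_min hex (m := k') (by omega)
    exact this
  have hgp : g ^ p ∈ Q := by
    have := Nat.find_spec hex
    rw [← hk, hk', pow_succ, pow_mul] at this
    exact this
  have hgP : g ∈ (P : Subgroup G) := Subgroup.pow_mem _ hg₀P _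
  have hzle : Subgroup.zpowers g ≤ Subgroup.zpowers g₀ :=
    Subgroup.zpowers_le.mpr (Subgroup.pow_mem _ (Subgroup.mem_zpowers g₀) _)
  have hquad : ⁅⁅ZQ, Subgroup.zpowers g⁆, Subgroup.zpowers g⁆ = ⊥ := by
    rw [eq_bot_iff, ← hquad₀]
    exact Subgroup.commutator_mono (Subgroup.commutator_mono le_rfl hzle) hzle
  -- `g` centralises all conjugates of `z = x ^ p`
  have hgz : ∀ h : G, g * (h * x ^ p * h⁻¹) = (h * x ^ p * h⁻¹) * g := by
    intro h
    have h1 : h * x * h⁻¹ ∈ ZQ := map_center_conj_mem Q hxZ h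
    have h2 := commute_pow_of_quadratic Q g p hgp hquad h1
    rwa [conj_pow] at h2
  -- the centraliser of the conjugates of `z`
  set T : Set G := Set.range (fun h : G => h * x ^ p * h⁻¹) with hT
  set C₁ := Subgroup.centralizer T with hC₁
  have hC₁mem : ∀ c : G, c ∈ C₁ ↔ ∀ h : G, (h * x ^ p * h⁻¹) * c = c * (h * x ^ p * h⁻¹) := by
    intro c
    rw [hC₁, Subgroup.mem_centralizer_iff]
    constructor
    · intro H h
      exact H _ ⟨h, rfl⟩
    · rintro H _ ⟨h, rfl⟩
      exact H h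
  haveI hC₁n : C₁.Normal := by
    constructor
    intro c hc u
    rw [hC₁mem] at hc ⊢
    intro h
    have := hc (u⁻¹ * h)
    calc h * x ^ p * h⁻¹ * (u * c * u⁻¹)
        = u * ((u⁻¹ * h) * x ^ p * (u⁻¹ * h)⁻¹ * c) * u⁻¹ := by group
      _ = u * (c * ((u⁻¹ * h) * x ^ p * (u⁻¹ * h)⁻¹)) * u⁻¹ := by rw [this]
      _ = u * c * u⁻¹ * (h * x ^ p * h⁻¹) := by group
  have hgC₁ : g ∈ C₁ := by
    rw [hC₁mem]
    intro h
    exact (hgz h).symm
  -- Frattini
  obtain ⟨T₀, hT₀⟩ := exists_sylow_map_eq_inf P C₁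
  have hfr := Sylow.normalizer_sup_eq_top T₀
  rw [hT₀] at hfr
  set M := Subgroup.normalizer ((((P : Subgroup G) ⊓ C₁ : Subgroup G)) : Set G) with hM
  have hPM : (P : Subgroup G) ≤ M := by
    intro y hy
    rw [hM, Subgroup.mem_normalizer_iff]
    intro w
    constructor
    · rintro ⟨hw1, hw2⟩
      exact ⟨Subgroup.mul_mem _ (Subgroup.mul_mem _ hy hw1) (Subgroup.inv_mem _ hy), hC₁n.conj_mem w hw2 y⟩
    · rintro ⟨hw1, hw2⟩
      have e : w = y⁻¹ * (y * w * y⁻¹) * y⁻¹⁻¹ := by group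
      rw [e]
      exact ⟨Subgroup.mul_mem _ (Subgroup.mul_mem _ (Subgroup.inv_mem _ hy) hw1) (Subgroup.inv_mem _ (Subgroup.inv_mem _ hy)),
        hC₁n.conj_mem _ hw2 y⁻¹⟩
  have hMtop : M ≠ ⊤ := by
    intro htop
    have hnorm' : ((P : Subgroup G) ⊓ C₁).Normal := Subgroup.normalizer_eq_top_iff.mp htop
    have hle : (P : Subgroup G) ⊓ C₁ ≤ Q := le_pCore hnorm' (P.isPGroup'.to_le inf_le_left)
    exact hgQ (hle ⟨hgP, hgC₁⟩)
  have hcardM : Nat.card M < n := by
    rw [← hn]
    have hle : Nat.card M ≤ Nat.card G := Subgroup.card_le_card_group M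
    rcases hle.lt_or_eq with h | h
    · exact h
    · exact absurd ((Subgroup.card_eq_iff_eq_top M).mp h) hMtop
  -- the induction hypothesis for `M`
  have hQM : Q ≤ M := hQP.trans hPM
  have hcentM : Subgroup.centralizer ((Cfsg.pCore p ↥M : Subgroup ↥M) : Set ↥M) ≤ Cfsg.pCore p ↥M := by
    have hQ' : Q.subgroupOf M ≤ Cfsg.pCore p ↥M := by
      apply le_pCore
      · exact Subgroup.Normal.subgroupOf hQn M
      · exact hQp.comap_subtype
    intro m hm
    apply hQ'
    rw [Subgroup.mem_subgroupOf]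
    apply hcent
    rw [Subgroup.mem_centralizer_iff]
    intro y hy
    rw [Subgroup.mem_centralizer_iff] at hm
    have := hm ⟨y, hQM hy⟩ (hQ' (Subgroup.mem_subgroupOf.mpr hy))
    exact congrArg Subtype.val this
  have hIH := ih (Nat.card M) hcardM ↥M (P.subtype hPM) rfl hcentM ⟨x, hPM hxP⟩
    (by rw [Sylow.coe_subtype, Subgroup.mem_subgroupOf]; exact hxP)
    (by
      intro y hy
      rw [Sylow.coe_subtype, Subgroup.mem_subgroupOf] at hy
      exact Subtype.ext (hxc y hy))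
    (by
      intro m hm
      apply Subtype.ext
      simp only [Subgroup.coe_mul, Subgroup.coe_pow]
      apply hN
      -- transport the normalizer
      have hmap := W_map_subgroupOf W hW2 M (P : Subgroup G) hPM P.isPGroup'
      have hm' : m ∈ Subgroup.normalizer
          (((W ↥((P : Subgroup G).subgroupOf M)).map ((P : Subgroup G).subgroupOf M).subtype : Subgroup ↥M) : Set ↥M) := hm
      rw [← hmap, Subgroup.mem_normalizer_iff]
      have hmi : m⁻¹ ∈ Subgroup.normalizer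
          (((W ↥((P : Subgroup G).subgroupOf M)).map ((P : Subgroup G).subgroupOf M).subtype : Subgroup ↥M) : Set ↥M) :=
        Subgroup.inv_mem _ hm'
      rw [Subgroup.mem_normalizer_iff] at hm' hmi
      intro w
      constructor
      · rintro ⟨a, ha, rfl⟩
        exact ⟨m * a * m⁻¹, (hm' a).mp ha, by simp⟩
      · rintro ⟨a, ha, hae⟩
        have hw : w = ((m⁻¹ * a * m⁻¹⁻¹ : ↥M) : G) := by
          have : ((a : ↥M) : G) = (m : G) * w * (m : G)⁻¹ := hae
          simp only [Subgroup.coe_mul, Subgroup.coe_inv, this]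
          group
        rw [hw]
        exact ⟨m⁻¹ * a * m⁻¹⁻¹, (hmi a).mp ha, rfl⟩)
  -- conclusion
  rw [Subgroup.mem_center_iff]
  intro u
  have hu : u ∈ M ⊔ C₁ := by rw [hfr]; trivial
  obtain ⟨m, hm, c, hc, rfl⟩ := Subgroup.mem_sup_of_normal_right.mp hu
  have h1 : m * x ^ p = x ^ p * m := by
    have := Subgroup.mem_center_iff.mp hIH ⟨m, hm⟩
    have := congrArg Subtype.val this
    simpa using this
  have h2 : c * x ^ p = x ^ p * c := by
    have := (hC₁mem c).mp hc 1
    simpa using this.symm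
  calc m * c * x ^ p = m * (c * x ^ p) := by group
    _ = m * (x ^ p * c) := by rw [h2]
    _ = (m * x ^ p) * c := by group
    _ = x ^ p * m * c := by rw [h1]
    _ = x ^ p * (m * c) := by group

/-- **Group-local lemma for S5253.** -/
theorem quad_center (W : ∀ (Q : Type u) [Group Q], Subgroup Q)
    (hW2 : ∀ (Q R : Type u) [Group Q] [Group R] [Finite Q], IsPGroup p Q → ∀ φ : Q ≃* R,
      (W Q).map φ.toMonoidHom = W R)
    (hq : ∀ (G : Type u) [Group G] [Finite G] (P : Sylow p G),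
      ¬ (((W ↥(P : Subgroup G)).map (P : Subgroup G).subtype : Subgroup G)).Normal →
      ∃ g : G, g ∈ (P : Subgroup G) ∧ g ∉ Cfsg.pCore p G ∧
        ⁅⁅Subgroup.center ↥(Cfsg.pCore p G) |>.map (Cfsg.pCore p G).subtype, Subgroup.zpowers g⁆,
          Subgroup.zpowers g⁆ = ⊥)
    (G : Type u) [Group G] [Finite G] (P : Sylow p G)
    (hcent : Subgroup.centralizer ((Cfsg.pCore p G : Subgroup G) : Set G) ≤ Cfsg.pCore p G)
    (x : G) (hxP : x ∈ (P : Subgroup G)) (hxc : ∀ y ∈ (P : Subgroup G), y * x = x * y)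
    (hN : ∀ g ∈ Subgroup.normalizer ((((W ↥(P : Subgroup G)).map (P : Subgroup G).subtype : Subgroup G)) : Set G),
      g * x ^ p = x ^ p * g) :
    x ^ p ∈ Subgroup.center G :=
  quad_center_aux W hW2 hq (Nat.card G) G P rfl hcent x hxP hxc hN

end main

end Cfsg.Agent.Lib.Lead.QuadCenter
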