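import Mathlib
import Cfsg.Prelude.Def_Solvable
import Cfsg.Agent.Lib.Helper9.PCore
import Cfsg.Agent.Lib.Helper9.Hyperfocal1
import Cfsg.Agent.Lib.Lead.QuadCenter

set_option autoImplicit false

/-!
# Generation by the centraliser of the `p`-th powers of `Z(P)` and the normaliser of `W(P)`
(group-local lemma for S5220)

Let `W` be an isomorphism-invariant functor on finite `p`-groups such that in every finite group in which
`W(P)` is not normal some element of `P` outside `O_p(G)` acts quadratically on `Z(O_p(G))`.  If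
`C_G(O_p(G)) ≤ O_p(G)`, then `G` is generated by the centraliser of the `p`-th powers of the elements of
`Z(P)` and the normaliser of `W(P)`.
-/

namespace Cfsg.Agent.Lib.Lead.QuadGen

open Cfsg Cfsg.Agent.Lib.Helper9 Cfsg.Agent.Lib.Lead.QuadCenter
open scoped commutatorElement

universe u

variable {p : ℕ} [hp : Fact p.Prime]

theorem quad_gen_aux (W : ∀ (Q : Type u) [Group Q], Subgroup Q)
    (hW2 : ∀ (Q R : Type u) [Group Q] [Group R] [Finite Q], IsPGroup p Q → ∀ φ : Q ≃* R,
      (W Q).map φ.toMonoidHom = W R)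
    (hq : ∀ (G : Type u) [Group G] [Finite G] (P : Sylow p G),
      ¬ (((W ↥(P : Subgroup G)).map (P : Subgroup G).subtype : Subgroup G)).Normal →
      ∃ g : G, g ∈ (P : Subgroup G) ∧ g ∉ Cfsg.pCore p G ∧
        ⁅⁅Subgroup.center ↥(Cfsg.pCore p G) |>.map (Cfsg.pCore p G).subtype, Subgroup.zpowers g⁆,
          Subgroup.zpowers g⁆ = ⊥) :
    ∀ (n : ℕ) (G : Type u) [Group G] [Finite G] (P : Sylow p G), Nat.card G = n →
      Subgroup.centralizer ((Cfsg.pCore p G : Subgroup G) : Set G) ≤ Cfsg.pCore p G →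
      ∀ H : Subgroup G,
      (∀ g : G, (∀ x ∈ (P : Subgroup G), (∀ y ∈ (P : Subgroup G), y * x = x * y) →
        g * x ^ p = x ^ p * g) → g ∈ H) →
      Subgroup.normalizer ((((W ↥(P : Subgroup G)).map (P : Subgroup G).subtype : Subgroup G)) : Set G) ≤ H →
      H = ⊤ := by
  intro n
  induction n using Nat.strong_induction_on with
  | _ n ih =>
  intro G _ _ P hn hcent H hC hN
  by_cases hnorm : (((W ↥(P : Subgroup G)).map (P : Subgroup G).subtype : Subgroup G)).Normal
  · rw [Subgroup.normalizer_eq_top_iff.mpr hnorm] at hN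
    exact top_le_iff.mp hN
  obtain ⟨g₀, hg₀P, hg₀Q, hquad₀⟩ := hq G P hnorm
  set Q := Cfsg.pCore p G with hQdef
  haveI hQn : Q.Normal := pCore_normal' p
  have hQp : IsPGroup p Q := pCore_isPGroup' p
  have hQP : Q ≤ (P : Subgroup G) := pCore_le_sylow P
  set ZQ := (Subgroup.center ↥Q).map Q.subtype with hZQ
  -- `Z(P) ≤ Z(Q)`
  have hZPQ : ∀ x ∈ (P : Subgroup G), (∀ y ∈ (P : Subgroup G), y * x = x * y) → x ∈ ZQ := by
    intro x hxP hxc
    have hxQ : x ∈ Q := by
      apply hcent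
      rw [Subgroup.mem_centralizer_iff]
      intro y hy
      exact hxc y (hQP hy)
    rw [hZQ, mem_map_center_iff]
    exact ⟨hxQ, fun y hy => hxc y (hQP hy)⟩
  -- choose a power `g` of `g₀` with `g ∉ Q` and `g ^ p ∈ Q`
  have hex : ∃ k : ℕ, g₀ ^ (p ^ k) ∈ Q := by
    obtain ⟨k, hk⟩ := P.isPGroup' ⟨g₀, hg₀P⟩
    refine ⟨k, ?_⟩
    have : g₀ ^ (p ^ k) = 1 := by
      have := congrArg Subtype.val hk
      simpa using this
    rw [this]
    exact Subgroup.one_mem _
  classical
  set k := Nat.find hex with hk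
  have hk0 : k ≠ 0 := by
    intro h0
    have := Nat.find_spec hex
    rw [← hk, h0, pow_zero, pow_one] at this
    exact hg₀Q this
  obtain ⟨k', hk'⟩ := Nat.exists_eq_succ_of_ne_zero hk0
  set g := g₀ ^ (p ^ k') with hg
  have hgQ : g ∉ Q := by
    have := Nat.find_min hex (m := k') (by omega)
    exact this
  have hgp : g ^ p ∈ Q := by
    have := Nat.find_spec hex
    rw [← hk, hk', pow_succ, pow_mul] at this
    exact this
  have hgP : g ∈ (P : Subgroup G) := Subgroup.pow_mem _ hg₀P _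
  have hzle : Subgroup.zpowers g ≤ Subgroup.zpowers g₀ :=
    Subgroup.zpowers_le.mpr (Subgroup.pow_mem _ (Subgroup.mem_zpowers g₀) _)
  have hquad : ⁅⁅ZQ, Subgroup.zpowers g⁆, Subgroup.zpowers g⁆ = ⊥ := by
    rw [eq_bot_iff, ← hquad₀]
    exact Subgroup.commutator_mono (Subgroup.commutator_mono le_rfl hzle) hzle
  -- the centraliser of the `p`-th powers of the elements of `Z(Q)`
  set T : Set G := {z | ∃ v ∈ ZQ, z = v ^ p} with hT
  set C₁ := Subgroup.centralizer T with hC₁
  have hC₁mem : ∀ c : G, c ∈ C₁ ↔ ∀ v ∈ ZQ, v ^ p * c = c * v ^ p := by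
    intro c
    rw [hC₁, Subgroup.mem_centralizer_iff]
    constructor
    · intro H' v hv
      exact H' _ ⟨v, hv, rfl⟩
    · rintro H' _ ⟨v, hv, rfl⟩
      exact H' v hv
  haveI hC₁n : C₁.Normal := by
    constructor
    intro c hc u
    rw [hC₁mem] at hc ⊢
    intro v hv
    have hv' : u⁻¹ * v * u⁻¹⁻¹ ∈ ZQ := map_center_conj_mem Q hv u⁻¹
    have := hc _ hv'
    rw [conj_pow] at this
    calc v ^ p * (u * c * u⁻¹)
        = u * ((u⁻¹ * v ^ p * u⁻¹⁻¹) * c) * u⁻¹ := by group
      _ = u * (c * (u⁻¹ * v ^ p * u⁻¹⁻¹)) * u⁻¹ := by rw [this]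
      _ = u * c * u⁻¹ * v ^ p := by group
  have hgC₁ : g ∈ C₁ := by
    rw [hC₁mem]
    intro v hv
    exact (commute_pow_of_quadratic Q g p hgp hquad hv).symm
  have hC₁H : C₁ ≤ H := by
    intro c hc
    apply hC
    intro x hxP hxc
    exact ((hC₁mem c).mp hc x (hZPQ x hxP hxc)).symm
  -- Frattini
  obtain ⟨T₀, hT₀⟩ := exists_sylow_map_eq_inf P C₁
  have hfr := Sylow.normalizer_sup_eq_top T₀
  rw [hT₀] at hfr
  set M := Subgroup.normalizer ((((P : Subgroup G) ⊓ C₁ : Subgroup G)) : Set G) with hM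
  have hPM : (P : Subgroup G) ≤ M := by
    intro y hy
    rw [hM, Subgroup.mem_normalizer_iff]
    intro w
    constructor
    · rintro ⟨hw1, hw2⟩
      exact ⟨Subgroup.mul_mem _ (Subgroup.mul_mem _ hy hw1) (Subgroup.inv_mem _ hy), hC₁n.conj_mem w hw2 y⟩
    · rintro ⟨hw1, hw2⟩
      have e : w = y⁻¹ * (y * w * y⁻¹) * y⁻¹⁻¹ := by group
      rw [e]
      exact ⟨Subgroup.mul_mem _ (Subgroup.mul_mem _ (Subgroup.inv_mem _ hy) hw1) (Subgroup.inv_mem _ (Subgroup.inv_mem _ hy)),
        hC₁n.conj_mem _ hw2 y⁻¹⟩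
  have hMtop : M ≠ ⊤ := by
    intro htop
    have hnorm' : ((P : Subgroup G) ⊓ C₁).Normal := Subgroup.normalizer_eq_top_iff.mp htop
    have hle : (P : Subgroup G) ⊓ C₁ ≤ Q := le_pCore hnorm' (P.isPGroup'.to_le inf_le_left)
    exact hgQ (hle ⟨hgP, hgC₁⟩)
  have hcardM : Nat.card M < n := by
    rw [← hn]
    have hle : Nat.card M ≤ Nat.card G := Subgroup.card_le_card_group M
    rcases hle.lt_or_eq with h | h
    · exact h
    · exact absurd ((Subgroup.card_eq_iff_eq_top M).mp h) hMtop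
  -- the induction hypothesis for `M`
  have hQM : Q ≤ M := hQP.trans hPM
  have hcentM : Subgroup.centralizer ((Cfsg.pCore p ↥M : Subgroup ↥M) : Set ↥M) ≤ Cfsg.pCore p ↥M := by
    have hQ' : Q.subgroupOf M ≤ Cfsg.pCore p ↥M := by
      apply le_pCore
      · exact Subgroup.Normal.subgroupOf hQn M
      · exact hQp.comap_subtype
    intro m hm
    apply hQ'
    rw [Subgroup.mem_subgroupOf]
    apply hcent
    rw [Subgroup.mem_centralizer_iff]
    intro y hy
    rw [Subgroup.mem_centralizer_iff] at hm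
    have := hm ⟨y, hQM hy⟩ (hQ' (Subgroup.mem_subgroupOf.mpr hy))
    exact congrArg Subtype.val this
  have hIH := ih (Nat.card M) hcardM ↥M (P.subtype hPM) rfl hcentM (H.subgroupOf M)
    (by
      intro m hm
      rw [Subgroup.mem_subgroupOf]
      apply hC
      intro x hxP hxc
      have := hm ⟨x, hPM hxP⟩
        (by rw [Sylow.coe_subtype, Subgroup.mem_subgroupOf]; exact hxP)
        (by
          intro y hy
          rw [Sylow.coe_subtype, Subgroup.mem_subgroupOf] at hy
          exact Subtype.ext (hxc y hy))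
      have := congrArg Subtype.val this
      simpa using this)
    (by
      intro m hm
      rw [Subgroup.mem_subgroupOf]
      apply hN
      -- transport the normalizer
      have hmap := W_map_subgroupOf W hW2 M (P : Subgroup G) hPM P.isPGroup'
      have hm' : m ∈ Subgroup.normalizer
          (((W ↥((P : Subgroup G).subgroupOf M)).map ((P : Subgroup G).subgroupOf M).subtype : Subgroup ↥M) : Set ↥M) := hm
      rw [← hmap, Subgroup.mem_normalizer_iff]
      have hmi : m⁻¹ ∈ Subgroup.normalizer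
          (((W ↥((P : Subgroup G).subgroupOf M)).map ((P : Subgroup G).subgroupOf M).subtype : Subgroup ↥M) : Set ↥M) :=
        Subgroup.inv_mem _ hm'
      rw [Subgroup.mem_normalizer_iff] at hm' hmi
      intro w
      constructor
      · rintro ⟨a, ha, rfl⟩
        exact ⟨m * a * m⁻¹, (hm' a).mp ha, by simp⟩
      · rintro ⟨a, ha, hae⟩
        have hw : w = ((m⁻¹ * a * m⁻¹⁻¹ : ↥M) : G) := by
          have : ((a : ↥M) : G) = (m : G) * w * (m : G)⁻¹ := hae
          simp only [Subgroup.coe_mul, Subgroup.coe_inv, this]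
          group
        rw [hw]
        exact ⟨m⁻¹ * a * m⁻¹⁻¹, (hmi a).mp ha, rfl⟩)
  -- conclusion
  have hMH : M ≤ H := by
    intro m hm
    have : (⟨m, hm⟩ : ↥M) ∈ H.subgroupOf M := by rw [hIH]; trivial
    exact Subgroup.mem_subgroupOf.mp this
  rw [eq_top_iff, ← hfr]
  exact sup_le hMH hC₁H

/-- **Group-local lemma for S5220.** -/
theorem quad_gen (W : ∀ (Q : Type u) [Group Q], Subgroup Q)
    (hW2 : ∀ (Q R : Type u) [Group Q] [Group R] [Finite Q], IsPGroup p Q → ∀ φ : Q ≃* R,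
      (W Q).map φ.toMonoidHom = W R)
    (hq : ∀ (G : Type u) [Group G] [Finite G] (P : Sylow p G),
      ¬ (((W ↥(P : Subgroup G)).map (P : Subgroup G).subtype : Subgroup G)).Normal →
      ∃ g : G, g ∈ (P : Subgroup G) ∧ g ∉ Cfsg.pCore p G ∧
        ⁅⁅Subgroup.center ↥(Cfsg.pCore p G) |>.map (Cfsg.pCore p G).subtype, Subgroup.zpowers g⁆,
          Subgroup.zpowers g⁆ = ⊥)
    (G : Type u) [Group G] [Finite G] (P : Sylow p G)
    (hcent : Subgroup.centralizer ((Cfsg.pCore p G : Subgroup G) : Set G) ≤ Cfsg.pCore p G)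
    (H : Subgroup G)
    (hC : ∀ g : G, (∀ x ∈ (P : Subgroup G), (∀ y ∈ (P : Subgroup G), y * x = x * y) →
        g * x ^ p = x ^ p * g) → g ∈ H)
    (hN : Subgroup.normalizer ((((W ↥(P : Subgroup G)).map (P : Subgroup G).subtype : Subgroup G)) : Set G) ≤ H) :
    H = ⊤ :=
  quad_gen_aux W hW2 hq (Nat.card G) G P rfl hcent H hC hN

end Cfsg.Agent.Lib.Lead.QuadGen
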