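import Mathlib
import Cfsg.Prelude.Def_PLocal
import Cfsg.Agent.Lib.Lead.Thom8
import Cfsg.Agent.Lib.Lead.ZJFun
import Cfsg.Agent.Lib.Lead.QuadGen

set_option autoImplicit false

/-!
# The quadratic-element condition for the Thompson subgroup `J` (abelian version)

For every finite group `G` and Sylow `p`-subgroup `P` with `J(P)` not normal in `G`, some element of `P`
outside `O_p(G)` acts quadratically on `Z(O_p(G))` (Thompson/Timmesfeld replacement).  Consequently the
lemmas `quad_center` and `quad_gen` apply with `W = J`.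
-/

namespace Cfsg.Agent.Lib.Lead.QuadJ

open Cfsg Cfsg.Agent.Lib.Helper9 Cfsg.Agent.Lib.Lead Cfsg.Agent.Lib.Lead.Thom Cfsg.Agent.Lib.Lead.ZJ
open Cfsg.Agent.Lib.Lead.QuadCenter
open scoped commutatorElement

universe u

variable {p : ℕ} [hp : Fact p.Prime]

/-- the functor `J` (abelian version) as a functor on types -/
def WJ : ∀ (Q : Type u) [Group Q], Subgroup Q := fun Q _ => Cfsg.thompsonSubgroupA Q

theorem WJ_map_eq {G : Type u} [Group G] (P : Subgroup G) :
    (WJ ↥P).map P.subtype = Cfsg.thompsonSubgroupAOf P := rfl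

theorem hW2_WJ : ∀ (Q R : Type u) [Group Q] [Group R] [Finite Q], IsPGroup p Q → ∀ φ : Q ≃* R,
    (WJ Q).map φ.toMonoidHom = WJ R := by
  intro Q R _ _ _ _ φ
  exact ZJFun.map_thompsonSubgroupA φ

theorem hq_WJ : ∀ (G : Type u) [Group G] [Finite G] (P : Sylow p G),
    ¬ (((WJ ↥(P : Subgroup G)).map (P : Subgroup G).subtype : Subgroup G)).Normal →
    ∃ g : G, g ∈ (P : Subgroup G) ∧ g ∉ Cfsg.pCore p G ∧
      ⁅⁅Subgroup.center ↥(Cfsg.pCore p G) |>.map (Cfsg.pCore p G).subtype, Subgroup.zpowers g⁆,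
        Subgroup.zpowers g⁆ = ⊥ := by
  intro G _ _ P hnn
  rw [WJ_map_eq, thompsonSubgroupAOf_eq] at hnn
  set Q := Cfsg.pCore p G with hQdef
  haveI hQn : Q.Normal := pCore_normal' p
  have hQp : IsPGroup p Q := pCore_isPGroup' p
  have hQP : Q ≤ (P : Subgroup G) := pCore_le_sylow P
  set ZQ := (Subgroup.center ↥Q).map Q.subtype with hZQ
  haveI hZQn : ZQ.Normal := ⟨fun v hv h => map_center_conj_mem Q hv h⟩
  have hZQQ : ZQ ≤ Q := by
    intro v hv
    exact ((mem_map_center_iff Q v).mp hv).1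
  have hZQP : ZQ ≤ (P : Subgroup G) := hZQQ.trans hQP
  have hZQab : AbelExp 0 ZQ := by
    refine ⟨fun x hx y hy => ?_, fun a _ => pow_zero a⟩
    exact ((mem_map_center_iff Q y).mp hy).2 x (hZQQ hx)
  have hQcent : Q ≤ Subgroup.centralizer (ZQ : Set G) := by
    intro y hy
    rw [Subgroup.mem_centralizer_iff]
    intro v hv
    exact (((mem_map_center_iff Q v).mp hv).2 y hy).symm
  -- `J(P) ≰ Q`
  have hJQ : ¬ Jn 0 G (P : Subgroup G) ≤ Q := by
    intro hle
    have hmid := Jn_mid 0 (P : Subgroup G) Q hle hQP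
    have h1 := (isJFunctor_Jn (p := p) (n := 0) (dvd_zero p)).sec.normalizer_le Q hQp
    rw [Subgroup.normalizer_eq_top_iff.mpr hQn, hmid] at h1
    exact hnn (Subgroup.normalizer_eq_top_iff.mp (top_le_iff.mp h1))
  by_cases hall : ∀ A ∈ maxIn 0 (P : Subgroup G), A ≤ Subgroup.centralizer (ZQ : Set G)
  · have hex : ∃ A ∈ maxIn 0 (P : Subgroup G), ¬ A ≤ Q := by
      by_contra h
      push Not at h
      exact hJQ (sSup_le h)
    obtain ⟨A, hA, hAQ⟩ := hex
    obtain ⟨g, hgA, hgQ⟩ := SetLike.not_le_iff_exists.mp hAQ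
    refine ⟨g, hA.1 hgA, hgQ, ?_⟩
    have h0 : ⁅ZQ, Subgroup.zpowers g⁆ = ⊥ := by
      rw [Subgroup.commutator_comm, Subgroup.commutator_eq_bot_iff_le_centralizer]
      exact Subgroup.zpowers_le.mpr (hall A hA hgA)
    rw [h0]
    exact Subgroup.commutator_bot_left _
  · push Not at hall
    obtain ⟨A, hA, hAW⟩ := hall
    obtain ⟨h1, h2, h3⟩ := replacement_maxIn P.isPGroup' hZQP hZQab hA
    set A' := ⁅ZQ, A⁆ ⊔ (A ⊓ Subgroup.centralizer ((⁅ZQ, A⁆ : Subgroup G) : Set G)) with hA'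
    have hne : ⁅ZQ, A'⁆ ≠ ⊥ := by
      apply h3
      intro hbot
      apply hAW
      rw [Subgroup.commutator_comm, Subgroup.commutator_eq_bot_iff_le_centralizer] at hbot
      exact hbot
    have hex : ∃ g ∈ A', g ∉ Subgroup.centralizer (ZQ : Set G) := by
      by_contra h
      push Not at h
      apply hne
      rw [Subgroup.commutator_comm, Subgroup.commutator_eq_bot_iff_le_centralizer]
      exact h
    obtain ⟨g, hgA', hgC⟩ := hex
    refine ⟨g, h1.1 hgA', fun hgQ => hgC (hQcent hgQ), ?_⟩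
    rw [eq_bot_iff, ← h2]
    exact Subgroup.commutator_mono (Subgroup.commutator_mono le_rfl (Subgroup.zpowers_le.mpr hgA'))
      (Subgroup.zpowers_le.mpr hgA')

/-- `quad_center` for `W = J`: if `C_G(O_p(G)) ≤ O_p(G)`, `x ∈ Z(P)` and `N_G(J(P))` centralises `x ^ p`,
then `x ^ p ∈ Z(G)`. -/
theorem thompsonA_center (G : Type u) [Group G] [Finite G] (P : Sylow p G)
    (hcent : Subgroup.centralizer ((Cfsg.pCore p G : Subgroup G) : Set G) ≤ Cfsg.pCore p G)
    (x : G) (hxP : x ∈ (P : Subgroup G)) (hxc : ∀ y ∈ (P : Subgroup G), y * x = x * y)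
    (hN : ∀ g ∈ Subgroup.normalizer ((Cfsg.thompsonSubgroupAOf (P : Subgroup G) : Subgroup G) : Set G),
      g * x ^ p = x ^ p * g) :
    x ^ p ∈ Subgroup.center G :=
  quad_center WJ hW2_WJ hq_WJ G P hcent x hxP hxc hN

/-- `quad_gen` for `W = J`: if `C_G(O_p(G)) ≤ O_p(G)` then `G` is generated by the centraliser of the
`p`-th powers of the elements of `Z(P)` and `N_G(J(P))`. -/
theorem thompsonA_gen (G : Type u) [Group G] [Finite G] (P : Sylow p G)
    (hcent : Subgroup.centralizer ((Cfsg.pCore p G : Subgroup G) : Set G) ≤ Cfsg.pCore p G)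
    (H : Subgroup G)
    (hC : ∀ g : G, (∀ x ∈ (P : Subgroup G), (∀ y ∈ (P : Subgroup G), y * x = x * y) →
        g * x ^ p = x ^ p * g) → g ∈ H)
    (hN : Subgroup.normalizer ((Cfsg.thompsonSubgroupAOf (P : Subgroup G) : Subgroup G) : Set G) ≤ H) :
    H = ⊤ :=
  Cfsg.Agent.Lib.Lead.QuadGen.quad_gen WJ hW2_WJ hq_WJ G P hcent H hC hN

end Cfsg.Agent.Lib.Lead.QuadJ
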