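import Mathlib
import Cfsg.Prelude.Def_PLocal
import Cfsg.Agent.Lib.Helper9.SylowAux
import Cfsg.Agent.Lib.Helper9.GroupFusion
import Cfsg.Agent.Lib.Lead.QuadJ
import Cfsg.Agent.Lib.Lead.GlaubA3

set_option autoImplicit false

/-!
# Glauberman's Theorem A for odd `p` (constrained case, for the Thompson subgroup `J`)

If `p` is odd, `C_G(O_p(G)) ≤ O_p(G)`, `x ∈ Z(P)` for a Sylow `p`-subgroup `P`, and `N_G(J(P))`
centralises `x`, then `x ∈ Z(G)`.
-/

namespace Cfsg.Agent.Lib.Lead.GlaubA

open Cfsg Cfsg.Agent.Lib.Helper9 Cfsg.Agent.Lib.Lead Cfsg.Agent.Lib.Lead.Thom Cfsg.Agent.Lib.Lead.ZJ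
open Cfsg.Agent.Lib.Lead.QuadCenter Cfsg.Agent.Lib.Lead.QuadJ
open scoped commutatorElement

universe u

variable {p : ℕ} [hp : Fact p.Prime]

theorem map_conj_normal {G : Type*} [Group G] (V : Subgroup G) [hVn : V.Normal] (c : G) :
    V.map (MulAut.conj c).toMonoidHom = V := by
  apply le_antisymm
  · rintro _ ⟨v, hv, rfl⟩
    exact hVn.conj_mem v hv c
  · intro v hv
    refine ⟨c⁻¹ * v * c, ?_, ?_⟩
    · have := hVn.conj_mem v hv c⁻¹
      rwa [inv_inv] at this
    · show c * (c⁻¹ * v * c) * c⁻¹ = v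
      group

theorem glauberman_center_odd_aux (hp2 : p ≠ 2) :
    ∀ (n : ℕ) (G : Type u) [Group G] [Finite G] (P : Sylow p G), Nat.card G = n →
      Subgroup.centralizer ((Cfsg.pCore p G : Subgroup G) : Set G) ≤ Cfsg.pCore p G →
      ∀ x : G, x ∈ (P : Subgroup G) → (∀ y ∈ (P : Subgroup G), y * x = x * y) →
      (∀ g ∈ Subgroup.normalizer ((Cfsg.thompsonSubgroupAOf (P : Subgroup G) : Subgroup G) : Set G),
        g * x = x * g) →
      x ∈ Subgroup.center G := by
  intro n
  induction n using Nat.strong_induction_on with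
  | _ n ih =>
  intro G _ _ P hn hcent x hxP hxc hN
  -- `z = x ^ p` is central
  have hz : x ^ p ∈ Subgroup.center G := thompsonA_center G P hcent x hxP hxc (fun g hg =>
    ((show Commute g x from hN g hg).pow_right p).eq)
  set Q := Cfsg.pCore p G with hQdef
  haveI hQn : Q.Normal := pCore_normal' p
  have hQp : IsPGroup p Q := pCore_isPGroup' p
  have hQP : Q ≤ (P : Subgroup G) := pCore_le_sylow P
  set ZQ := (Subgroup.center ↥Q).map Q.subtype with hZQ
  haveI hZQn : ZQ.Normal := ⟨fun v hv h => map_center_conj_mem Q hv h⟩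
  have hZQQ : ZQ ≤ Q := fun v hv => ((mem_map_center_iff Q v).mp hv).1
  have hxQ : x ∈ Q := by
    apply hcent
    rw [Subgroup.mem_centralizer_iff]
    intro y hy
    exact hxc y (hQP hy)
  have hxZ : x ∈ ZQ := by
    rw [hZQ, mem_map_center_iff]
    exact ⟨hxQ, fun y hy => hxc y (hQP hy)⟩
  -- the normal closure of `x`
  set V := Subgroup.normalClosure ({x} : Set G) with hV
  haveI hVn : V.Normal := Subgroup.normalClosure_normal
  have hVZ : V ≤ ZQ := Subgroup.normalClosure_le_normal (Set.singleton_subset_iff.mpr hxZ)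
  have hVP : V ≤ (P : Subgroup G) := hVZ.trans (hZQQ.trans hQP)
  have hVab : ∀ a ∈ V, ∀ b ∈ V, a * b = b * a := fun a ha b hb =>
    ((mem_map_center_iff Q b).mp (hVZ hb)).2 a (hZQQ (hVZ ha))
  have hxV : x ∈ V := Subgroup.subset_normalClosure (Set.mem_singleton x)
  have hVexp : AbelExp 0 V := ⟨hVab, fun a _ => pow_zero a⟩
  set C := Subgroup.centralizer (V : Set G) with hC
  haveI hCn : C.Normal := Subgroup.normal_centralizer
  have hQC : Q ≤ C := by
    intro y hy
    rw [Subgroup.mem_centralizer_iff]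
    intro v hv
    exact (((mem_map_center_iff Q v).mp (hVZ hv)).2 y hy).symm
  have hCx : ∀ c ∈ C, c * x = x * c := fun c hc =>
    ((Subgroup.mem_centralizer_iff.mp hc) x hxV).symm
  by_cases hall : ∀ A ∈ maxIn 0 (P : Subgroup G), A ≤ C
  · -- `J(P)` centralises `V`: Frattini argument
    have hJC : Jn 0 G (P : Subgroup G) ≤ C := sSup_le hall
    obtain ⟨T₀, hT₀⟩ := exists_sylow_map_eq_inf P C
    have hfr := Sylow.normalizer_sup_eq_top T₀
    rw [hT₀] at hfr
    have hmid := Jn_mid 0 (P : Subgroup G) ((P : Subgroup G) ⊓ C) (le_inf (Jn_le 0 _) hJC)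
      inf_le_left
    have h1 := (isJFunctor_Jn (p := p) (n := 0) (dvd_zero p)).sec.normalizer_le
      ((P : Subgroup G) ⊓ C) (P.isPGroup'.to_le inf_le_left)
    rw [hmid, ← thompsonSubgroupAOf_eq] at h1
    rw [Subgroup.mem_center_iff]
    intro u
    have hu : u ∈ Subgroup.normalizer ((((P : Subgroup G) ⊓ C : Subgroup G)) : Set G) ⊔ C := by
      rw [hfr]; trivial
    obtain ⟨m, hm, c, hc, rfl⟩ := Subgroup.mem_sup_of_normal_right.mp hu
    have h2 : m * x = x * m := hN m (h1 hm)
    have h3 : c * x = x * c := hCx c hc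
    calc m * c * x = m * (c * x) := by group
      _ = m * (x * c) := by rw [h3]
      _ = (m * x) * c := by group
      _ = x * m * c := by rw [h2]
      _ = x * (m * c) := by group
  · push Not at hall
    obtain ⟨A₀, hA₀, hA₀C⟩ := hall
    obtain ⟨h1, h2, h3⟩ := replacement_maxIn P.isPGroup' hVP hVexp hA₀
    set A' := ⁅V, A₀⁆ ⊔ (A₀ ⊓ Subgroup.centralizer ((⁅V, A₀⁆ : Subgroup G) : Set G)) with hA'
    have hne : ⁅V, A'⁆ ≠ ⊥ := by
      apply h3
      intro hbot
      apply hA₀C
      rw [Subgroup.commutator_comm, Subgroup.commutator_eq_bot_iff_le_centralizer] at hbot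
      exact hbot
    -- the quadratic members of `𝒜(P)`
    set 𝒬 : Set (Subgroup G) := {A | A ∈ maxIn 0 (P : Subgroup G) ∧ ⁅⁅V, A⁆, A⁆ = ⊥} with h𝒬
    have hA'𝒬 : A' ∈ 𝒬 := ⟨h1, h2⟩
    set Jq := sSup 𝒬 with hJq
    have hJqP : Jq ≤ (P : Subgroup G) := sSup_le (fun A hA => hA.1.1)
    have hJqp : IsPGroup p ↥Jq := P.isPGroup'.to_le hJqP
    have hJqC : ¬ Jq ≤ C := by
      intro hle
      apply hne
      rw [Subgroup.commutator_comm, Subgroup.commutator_eq_bot_iff_le_centralizer]
      exact (le_sSup hA'𝒬).trans hle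
    -- conjugates of members of `𝒬` inside `P` are members of `𝒬`
    have hconj𝒬 : ∀ A ∈ 𝒬, ∀ c : G, A.map (MulAut.conj c).toMonoidHom ≤ (P : Subgroup G) →
        A.map (MulAut.conj c).toMonoidHom ∈ 𝒬 := by
      intro A hA c hle
      refine ⟨⟨hle, hA.1.2.1.map (MulAut.conj c), fun B hBP hB => ?_⟩, ?_⟩
      · rw [card_map_conj]
        exact hA.1.2.2 B hBP hB
      · calc ⁅⁅V, A.map (MulAut.conj c).toMonoidHom⁆, A.map (MulAut.conj c).toMonoidHom⁆
            = ⁅⁅V.map (MulAut.conj c).toMonoidHom, A.map (MulAut.conj c).toMonoidHom⁆,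
                A.map (MulAut.conj c).toMonoidHom⁆ := by rw [map_conj_normal V c]
          _ = (⁅⁅V, A⁆, A⁆).map (MulAut.conj c).toMonoidHom := by
            rw [Subgroup.map_commutator, Subgroup.map_commutator]
          _ = ⊥ := by rw [hA.2, Subgroup.map_bot]
    have hconjP : ∀ A ∈ 𝒬, ∀ g ∈ (P : Subgroup G), A.map (MulAut.conj g).toMonoidHom ∈ 𝒬 := by
      intro A hA g hg
      apply hconj𝒬 A hA g
      rintro _ ⟨a, ha, rfl⟩
      exact Subgroup.mul_mem _ (Subgroup.mul_mem _ hg (hA.1.1 ha)) (Subgroup.inv_mem _ hg)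
    -- if `k` conjugates `Jq` into `P` then `k` normalises `Jq`
    have hnormJq : ∀ k : G, Jq.map (MulAut.conj k).toMonoidHom ≤ (P : Subgroup G) →
        k ∈ Subgroup.normalizer (Jq : Set G) := by
      intro k hk
      apply mem_normalizer_of_map_conj_le
      rw [Subgroup.map_le_iff_le_comap]
      apply sSup_le
      intro A hA
      rw [← Subgroup.map_le_iff_le_comap]
      exact le_sSup (hconj𝒬 A hA k ((Subgroup.map_mono (le_sSup hA)).trans hk))
    -- `H = N_G(Jq)`
    set H := Subgroup.normalizer (Jq : Set G) with hH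
    have hPH : (P : Subgroup G) ≤ H := by
      intro y hy
      apply hnormJq
      rintro _ ⟨a, ha, rfl⟩
      exact Subgroup.mul_mem _ (Subgroup.mul_mem _ hy (hJqP ha)) (Subgroup.inv_mem _ hy)
    have hHtop : H ≠ ⊤ := by
      intro htop
      have hnorm' : Jq.Normal := Subgroup.normalizer_eq_top_iff.mp htop
      have hle : Jq ≤ Q := le_pCore hnorm' hJqp
      exact hJqC (hle.trans hQC)
    have hcardH : Nat.card H < n := by
      rw [← hn]
      have hle : Nat.card H ≤ Nat.card G := Subgroup.card_le_card_group H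
      rcases hle.lt_or_eq with h | h
      · exact h
      · exact absurd ((Subgroup.card_eq_iff_eq_top H).mp h) hHtop
    have hQH : Q ≤ H := hQP.trans hPH
    have hcentH : Subgroup.centralizer ((Cfsg.pCore p ↥H : Subgroup ↥H) : Set ↥H) ≤
        Cfsg.pCore p ↥H := by
      have hQ' : Q.subgroupOf H ≤ Cfsg.pCore p ↥H := by
        apply le_pCore
        · exact Subgroup.Normal.subgroupOf hQn H
        · exact hQp.comap_subtype
      intro m hm
      apply hQ'
      rw [Subgroup.mem_subgroupOf]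
      apply hcent
      rw [Subgroup.mem_centralizer_iff]
      intro y hy
      rw [Subgroup.mem_centralizer_iff] at hm
      have := hm ⟨y, hQH hy⟩ (hQ' (Subgroup.mem_subgroupOf.mpr hy))
      exact congrArg Subtype.val this
    have hIH := ih (Nat.card H) hcardH ↥H (P.subtype hPH) rfl hcentH ⟨x, hPH hxP⟩
      (by rw [Sylow.coe_subtype, Subgroup.mem_subgroupOf]; exact hxP)
      (by
        intro y hy
        rw [Sylow.coe_subtype, Subgroup.mem_subgroupOf] at hy
        exact Subtype.ext (hxc y hy))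
      (by
        intro m hm
        apply Subtype.ext
        simp only [Subgroup.coe_mul]
        apply hN
        have hmap := W_map_subgroupOf WJ hW2_WJ H (P : Subgroup G) hPH P.isPGroup'
        have hm' : m ∈ Subgroup.normalizer
            (((WJ ↥((P : Subgroup G).subgroupOf H)).map ((P : Subgroup G).subgroupOf H).subtype :
              Subgroup ↥H) : Set ↥H) := hm
        rw [← WJ_map_eq, ← hmap, Subgroup.mem_normalizer_iff]
        have hmi : m⁻¹ ∈ Subgroup.normalizer
            (((WJ ↥((P : Subgroup G).subgroupOf H)).map ((P : Subgroup G).subgroupOf H).subtype :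
              Subgroup ↥H) : Set ↥H) :=
          Subgroup.inv_mem _ hm'
        rw [Subgroup.mem_normalizer_iff] at hm' hmi
        intro w
        constructor
        · rintro ⟨a, ha, rfl⟩
          exact ⟨m * a * m⁻¹, (hm' a).mp ha, by simp⟩
        · rintro ⟨a, ha, hae⟩
          have hw : w = ((m⁻¹ * a * m⁻¹⁻¹ : ↥H) : G) := by
            have : ((a : ↥H) : G) = (m : G) * w * (m : G)⁻¹ := hae
            simp only [Subgroup.coe_mul, Subgroup.coe_inv, this]
            group
          rw [hw]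
          exact ⟨m⁻¹ * a * m⁻¹⁻¹, (hmi a).mp ha, rfl⟩)
    have hHx : ∀ h ∈ H, h * x = x * h := by
      intro h hh
      have := Subgroup.mem_center_iff.mp hIH ⟨h, hh⟩
      exact congrArg Subtype.val this
    -- the trace argument
    apply trace_center hp2 V hVab x hxV hz 𝒬 hJqp (fun A hA g hg => hconjP A hA g (hJqP hg))
      (fun A hA => hA.2) (fun a ha => hxc a (hJqP ha))
    intro g hg
    -- `R = g⁻¹ Jq g` centralises `x`
    set K := Subgroup.centralizer ({x} : Set G) with hK
    have hKmem : ∀ c : G, c ∈ K ↔ x * c = c * x := by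
      intro c
      rw [hK, Subgroup.mem_centralizer_iff]
      constructor
      · intro h
        exact h x (Set.mem_singleton x)
      · intro h y hy
        rw [Set.mem_singleton_iff] at hy
        rw [hy]; exact h
    have hPK : (P : Subgroup G) ≤ K := fun y hy => (hKmem y).mpr (hxc y hy).symm
    set R := Jq.map (MulAut.conj g⁻¹).toMonoidHom with hR
    have hRK : R ≤ K := by
      rintro _ ⟨a, ha, rfl⟩
      rw [hKmem]
      show x * (g⁻¹ * a * g⁻¹⁻¹) = g⁻¹ * a * g⁻¹⁻¹ * x
      have := hg a ha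
      calc x * (g⁻¹ * a * g⁻¹⁻¹) = g⁻¹ * ((g * x * g⁻¹) * a) * g := by group
        _ = g⁻¹ * (a * (g * x * g⁻¹)) * g := by rw [this]
        _ = g⁻¹ * a * g⁻¹⁻¹ * x := by group
    have hRp : IsPGroup p ↥R := hJqp.map _
    obtain ⟨m, hmK, hm⟩ := exists_conj_mem_sylow_of_le P K hPK R hRp hRK
    set k := m * g⁻¹ with hk
    have hkP : Jq.map (MulAut.conj k).toMonoidHom ≤ (P : Subgroup G) := by
      rintro _ ⟨a, ha, rfl⟩
      have h4 := hm (g⁻¹ * a * g⁻¹⁻¹) ⟨a, ha, rfl⟩
      have e : m * (g⁻¹ * a * g⁻¹⁻¹) * m⁻¹ = k * a * k⁻¹ := by rw [hk]; group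
      rw [e] at h4
      exact h4
    have hkH : k ∈ H := hnormJq k hkP
    have h5 : k * x = x * k := hHx k hkH
    have h6 : x * m = m * x := (hKmem m).mp hmK
    have h7 : g = k⁻¹ * m := by rw [hk]; group
    have h8 : k⁻¹ * x = x * k⁻¹ := by
      calc k⁻¹ * x = k⁻¹ * (x * k) * k⁻¹ := by group
        _ = k⁻¹ * (k * x) * k⁻¹ := by rw [h5]
        _ = x * k⁻¹ := by group
    calc g * x * g⁻¹ = k⁻¹ * (m * x) * m⁻¹ * k := by rw [h7]; group
      _ = k⁻¹ * (x * m) * m⁻¹ * k := by rw [h6]
      _ = (k⁻¹ * x) * k := by group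
      _ = x * k⁻¹ * k := by rw [h8]
      _ = x := by group

/-- **Glauberman's Theorem A, constrained case, `p` odd, for `J`.** -/
theorem glauberman_center_odd {p : ℕ} [Fact p.Prime] (hp : p ≠ 2) (G : Type u) [Group G] [Finite G]
    (P : Sylow p G)
    (hcent : Subgroup.centralizer ((Cfsg.pCore p G : Subgroup G) : Set G) ≤ Cfsg.pCore p G)
    (x : G) (hxP : x ∈ (P : Subgroup G)) (hxc : ∀ y ∈ (P : Subgroup G), y * x = x * y)
    (hN : ∀ g ∈ Subgroup.normalizer
      ((Cfsg.thompsonSubgroupAOf (P : Subgroup G) : Subgroup G) : Set G), g * x = x * g) :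
    x ∈ Subgroup.center G :=
  glauberman_center_odd_aux hp (Nat.card G) G P rfl hcent x hxP hxc hN

end Cfsg.Agent.Lib.Lead.GlaubA
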