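import Mathlib

set_option autoImplicit false

/-!
# A bound for the number of partitions: `p(n) ≤ 2 ^ (n - 2)` for `n ≥ 5`
-/

namespace Cfsg.Agent.Lib.Lead.ClassNum

theorem partition_parts_ne_zero {n : ℕ} (l : Nat.Partition (n + 2)) : l.parts ≠ 0 := by
  intro h
  have := l.parts_sum
  rw [h, Multiset.sum_zero] at this
  omega

/-- a chosen part -/
noncomputable def pick (s : Multiset ℕ) (h : s ≠ 0) : ℕ :=
  Classical.choose (Multiset.exists_mem_of_ne_zero h)

theorem pick_mem (s : Multiset ℕ) (h : s ≠ 0) : pick s h ∈ s :=
  Classical.choose_spec (Multiset.exists_mem_of_ne_zero h)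

/-- the reconstruction map -/
def recon (μ : Multiset ℕ) : Multiset ℕ := (μ.count 1 + 2) ::ₘ μ.filter (· ≠ 1)

theorem recon_eq {s : Multiset ℕ} (h1 : 1 ∉ s) {m : ℕ} (hm : m ∈ s) (hm2 : 2 ≤ m) :
    recon (s.erase m + Multiset.replicate (m - 2) 1) = s := by
  unfold recon
  have h1' : 1 ∉ s.erase m := fun h => h1 (Multiset.mem_of_mem_erase h)
  have hc : (s.erase m + Multiset.replicate (m - 2) 1).count 1 = m - 2 := by
    rw [Multiset.count_add, Multiset.count_eq_zero_of_notMem h1', Multiset.count_replicate_self,
      zero_add]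
  have hf : (s.erase m + Multiset.replicate (m - 2) 1).filter (· ≠ 1) = s.erase m := by
    rw [Multiset.filter_add]
    have e1 : (s.erase m).filter (· ≠ 1) = s.erase m := by
      apply Multiset.filter_eq_self.mpr
      intro a ha h
      exact h1' (h ▸ ha)
    have e2 : (Multiset.replicate (m - 2) 1).filter (· ≠ 1) = 0 := by
      apply Multiset.filter_eq_nil.mpr
      intro a ha h
      exact h (Multiset.eq_of_mem_replicate ha)
    rw [e1, e2, add_zero]
  rw [hc, hf]
  have : m - 2 + 2 = m := by omega
  rw [this]
  exact Multiset.cons_erase hm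

theorem two_le_of_mem {n : ℕ} (l : Nat.Partition n) (h1 : 1 ∉ l.parts) {m : ℕ}
    (hm : m ∈ l.parts) : 2 ≤ m := by
  have := l.parts_pos hm
  by_contra hlt
  have : m = 1 := by omega
  exact h1 (this ▸ hm)

/-- the injection -/
noncomputable def Φ (n : ℕ) (l : Nat.Partition (n + 2)) :
    Nat.Partition (n + 1) ⊕ Nat.Partition n :=
  if h : 1 ∈ l.parts then
    Sum.inl
      { parts := l.parts.erase 1
        parts_pos := fun {i} hi => l.parts_pos (Multiset.mem_of_mem_erase hi)
        parts_sum := by
          have := l.parts_sum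
          rw [← Multiset.cons_erase h, Multiset.sum_cons] at this
          omega }
  else
    Sum.inr
      { parts := l.parts.erase (pick l.parts (partition_parts_ne_zero l)) +
          Multiset.replicate (pick l.parts (partition_parts_ne_zero l) - 2) 1
        parts_pos := fun {i} hi => by
          rcases Multiset.mem_add.mp hi with hi | hi
          · exact l.parts_pos (Multiset.mem_of_mem_erase hi)
          · rw [Multiset.eq_of_mem_replicate hi]; exact Nat.one_pos
        parts_sum := by
          have hm := pick_mem l.parts (partition_parts_ne_zero l)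
          have hm2 := two_le_of_mem l h hm
          have := l.parts_sum
          rw [← Multiset.cons_erase hm, Multiset.sum_cons] at this
          rw [Multiset.sum_add, Multiset.sum_replicate, smul_eq_mul, mul_one]
          omega }

theorem Φ_injective (n : ℕ) : Function.Injective (Φ n) := by
  intro l l' h
  unfold Φ at h
  by_cases h1 : 1 ∈ l.parts <;> by_cases h1' : 1 ∈ l'.parts
  · rw [dif_pos h1, dif_pos h1'] at h
    have h2 := Sum.inl.inj h
    have h3 : l.parts.erase 1 = l'.parts.erase 1 := congrArg Nat.Partition.parts h2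
    apply Nat.Partition.ext
    rw [← Multiset.cons_erase h1, ← Multiset.cons_erase h1', h3]
  · rw [dif_pos h1, dif_neg h1'] at h
    exact absurd h (by simp)
  · rw [dif_neg h1, dif_pos h1'] at h
    exact absurd h (by simp)
  · rw [dif_neg h1, dif_neg h1'] at h
    have h2 := Sum.inr.inj h
    have h3 := congrArg Nat.Partition.parts h2
    simp only at h3
    have hm := pick_mem l.parts (partition_parts_ne_zero l)
    have hm' := pick_mem l'.parts (partition_parts_ne_zero l')
    have e1 := recon_eq h1 hm (two_le_of_mem l h1 hm)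
    have e2 := recon_eq h1' hm' (two_le_of_mem l' h1' hm')
    apply Nat.Partition.ext
    rw [← e1, ← e2, h3]

theorem card_partition_succ_succ_le (n : ℕ) :
    Fintype.card (Nat.Partition (n + 2)) ≤
      Fintype.card (Nat.Partition (n + 1)) + Fintype.card (Nat.Partition n) := by
  rw [← Fintype.card_sum]
  exact Fintype.card_le_of_injective (Φ n) (Φ_injective n)

theorem card_partition_zero : Fintype.card (Nat.Partition 0) = 1 := by
  rw [Fintype.card_eq_one_iff]
  refine ⟨⟨0, fun {i} hi => absurd hi (Multiset.notMem_zero i), rfl⟩, fun l => ?_⟩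
  apply Nat.Partition.ext
  have h := l.parts_sum
  by_contra hne
  obtain ⟨a, ha⟩ := Multiset.exists_mem_of_ne_zero hne
  have hpos := l.parts_pos ha
  have hle := Multiset.single_le_sum (fun x _ => Nat.zero_le x) a ha
  omega

theorem card_partition_one : Fintype.card (Nat.Partition 1) = 1 := by
  rw [Fintype.card_eq_one_iff]
  refine ⟨⟨{1}, fun {i} hi => by rw [Multiset.mem_singleton] at hi; omega, by simp⟩, fun l => ?_⟩
  apply Nat.Partition.ext
  have h := l.parts_sum
  have hne : l.parts ≠ 0 := by
    intro h0; rw [h0, Multiset.sum_zero] at h; omega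
  obtain ⟨a, ha⟩ := Multiset.exists_mem_of_ne_zero hne
  have hpos := l.parts_pos ha
  have hcons := Multiset.cons_erase ha
  rw [← hcons, Multiset.sum_cons] at h
  have ha1 : a = 1 := by omega
  have hs0 : (l.parts.erase a).sum = 0 := by omega
  have he : l.parts.erase a = 0 := by
    by_contra hne'
    obtain ⟨b, hb⟩ := Multiset.exists_mem_of_ne_zero hne'
    have hbpos := l.parts_pos (Multiset.mem_of_mem_erase hb)
    have hle := Multiset.single_le_sum (fun x _ => Nat.zero_le x) b hb
    omega
  rw [← hcons, he, ha1]
  rfl

/-- Fibonacci-type bound -/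
theorem card_partition_le_fib (n : ℕ) : Fintype.card (Nat.Partition n) ≤ Nat.fib (n + 1) := by
  induction n using Nat.strong_induction_on with
  | _ n ih =>
    match n with
    | 0 => rw [card_partition_zero]; simp
    | 1 => rw [card_partition_one]; simp
    | (k + 2) =>
      have h1 : Fintype.card (Nat.Partition (k + 1)) ≤ Nat.fib (k + 2) := ih (k + 1) (by omega)
      have h2 : Fintype.card (Nat.Partition k) ≤ Nat.fib (k + 1) := ih k (by omega)
      have h3 := card_partition_succ_succ_le k
      have h4 : Nat.fib (k + 2 + 1) = Nat.fib (k + 1) + Nat.fib (k + 2) := Nat.fib_add_two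
      omega

theorem fib_succ_le_two_pow (n : ℕ) (hn : 5 ≤ n) : Nat.fib (n + 1) ≤ 2 ^ (n - 2) := by
  induction n using Nat.strong_induction_on with
  | _ n ih =>
    rcases Nat.lt_or_ge n 7 with h | h
    · interval_cases n <;> decide
    · have h1 := ih (n - 1) (by omega) (by omega)
      have h2 := ih (n - 2) (by omega) (by omega)
      have e1 : n - 1 + 1 = n := by omega
      have e2 : n - 2 + 1 = n - 1 := by omega
      rw [e1] at h1
      rw [e2] at h2
      have h4 : Nat.fib (n + 1) = Nat.fib (n - 1) + Nat.fib n := by
        have := Nat.fib_add_two (n := n - 1)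
        rw [show n - 1 + 2 = n + 1 by omega, show n - 1 + 1 = n by omega] at this
        exact this
      have e3 : 2 ^ (n - 2) = 2 * 2 ^ (n - 3) := by
        rw [show n - 2 = (n - 3) + 1 by omega, pow_succ]; ring
      have e4 : 2 ^ (n - 1 - 2) = 2 ^ (n - 3) := by congr 1
      have e5 : 2 ^ (n - 2 - 2) ≤ 2 ^ (n - 3) := Nat.pow_le_pow_right (by norm_num) (by omega)
      rw [e4] at h1
      omega

theorem card_partition_le (n : ℕ) (hn : 5 ≤ n) : Fintype.card (Nat.Partition n) ≤ 2 ^ (n - 2) :=
  (card_partition_le_fib n).trans (fib_succ_le_two_pow n hn)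

end Cfsg.Agent.Lib.Lead.ClassNum
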