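import Mathlib
import Cfsg.Agent.Lib.Lead.ClassNum1

set_option autoImplicit false

/-!
# Class numbers of symmetric and alternating groups
-/

namespace Cfsg.Agent.Lib.Lead.ClassNum

open Equiv

section
variable {α : Type*} [Fintype α] [DecidableEq α]

/-- the class number of the symmetric group is at most the number of partitions -/
theorem card_conjClasses_perm_le :
    Nat.card (ConjClasses (Perm α)) ≤ Fintype.card (Nat.Partition (Fintype.card α)) := by
  classical
  rw [Nat.card_eq_fintype_card]
  let f : ConjClasses (Perm α) → Nat.Partition (Fintype.card α) :=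
    Quotient.lift (fun σ : Perm α => σ.partition)
      (fun a b h => Equiv.Perm.partition_eq_of_isConj.mp h)
  apply Fintype.card_le_of_injective f
  intro x y
  induction x using Quotient.inductionOn with
  | _ a =>
  induction y using Quotient.inductionOn with
  | _ b =>
  intro h
  exact Quotient.sound (Equiv.Perm.partition_eq_of_isConj.mpr h)

/-- parity of a cycle type -/
def evenType (m : Multiset ℕ) : Prop := Even (m.sum + Multiset.card m)

instance : DecidablePred evenType := fun m => by unfold evenType; infer_instance

theorem mem_alt_iff (σ : Perm α) : σ ∈ alternatingGroup α ↔ evenType σ.cycleType := by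
  rw [Equiv.Perm.mem_alternatingGroup, Equiv.Perm.sign_of_cycleType]
  exact neg_one_pow_eq_one_iff_even (by decide)

/-- the split condition -/
def splitType (α : Type*) [Fintype α] (m : Multiset ℕ) : Prop :=
  (∀ c ∈ m, Odd c) ∧ Fintype.card α ≤ m.sum + 1 ∧ ∀ i, m.count i ≤ 1

theorem evenType_of_odd {m : Multiset ℕ} (h : ∀ c ∈ m, Odd c) : evenType m := by
  unfold evenType
  induction m using Multiset.induction_on with
  | empty => simp
  | cons a s ih =>
    rw [Multiset.sum_cons, Multiset.card_cons]
    have ha : Odd a := h a (Multiset.mem_cons_self a s)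
    have hs := ih (fun c hc => h c (Multiset.mem_cons_of_mem hc))
    have : a + s.sum + (Multiset.card s + 1) = (a + 1) + (s.sum + Multiset.card s) := by ring
    rw [this]
    exact Even.add ha.add_one hs

theorem sign_eq_neg_one_of_not_mem {g : Perm α} (h : g ∉ alternatingGroup α) :
    Perm.sign g = -1 := by
  rw [Equiv.Perm.mem_alternatingGroup] at h
  rcases Int.units_eq_one_or (Perm.sign g) with h1 | h1
  · exact absurd h1 h
  · exact h1

theorem mul_mem_alt_of_not_mem {g c : Perm α} (hg : g ∉ alternatingGroup α)
    (hc : c ∉ alternatingGroup α) : g * c ∈ alternatingGroup α := by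
  rw [Equiv.Perm.mem_alternatingGroup, map_mul, sign_eq_neg_one_of_not_mem hg,
    sign_eq_neg_one_of_not_mem hc]
  decide

theorem inv_not_mem_alt {c : Perm α} (hc : c ∉ alternatingGroup α) :
    c⁻¹ ∉ alternatingGroup α := fun h => hc (by simpa using (alternatingGroup α).inv_mem h)

/-- the set of all cycle types -/
def types (α : Type*) [Fintype α] [DecidableEq α] : Finset (Multiset ℕ) :=
  Finset.univ.image (fun σ : Perm α => σ.cycleType)

theorem mem_types {m : Multiset ℕ} :
    m ∈ types α ↔ m.sum ≤ Fintype.card α ∧ ∀ a ∈ m, 2 ≤ a := by
  unfold types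
  rw [Finset.mem_image, ← Equiv.Perm.exists_with_cycleType_iff α]
  simp

/-- the class number of the symmetric group is at least the number of cycle types -/
theorem card_types_le : (types α).card ≤ Nat.card (ConjClasses (Perm α)) := by
  classical
  rw [Nat.card_eq_fintype_card, ← Fintype.card_coe]
  have hex : ∀ m : types α, ∃ σ : Perm α, σ.cycleType = m.1 := by
    intro m
    have := m.2
    unfold types at this
    rw [Finset.mem_image] at this
    obtain ⟨σ, _, hσ⟩ := this
    exact ⟨σ, hσ⟩
  choose rep hrep using hex
  apply Fintype.card_le_of_injective (fun m => ConjClasses.mk (rep m))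
  intro m m' h
  rw [ConjClasses.mk_eq_mk_iff_isConj, Equiv.Perm.isConj_iff_cycleType_eq, hrep, hrep] at h
  exact Subtype.ext h

end

end Cfsg.Agent.Lib.Lead.ClassNum
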