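import Mathlib
import Cfsg.Prelude.Def_Local
import Cfsg.Agent.Lib.Helper7.Bender2
import Cfsg.Agent.Lib.Helper3.Components9
import Cfsg.Agent.Lib.Helper3.PComp1
import Cfsg.Agent.Lib.Helper9.PCore
import Cfsg.Agent.Lib.Lead.Core

set_option autoImplicit false

/-! Groups with a cyclic Sylow `p`-subgroup and `O_{p'} = 1`: the case `E(K) = 1`. -/

namespace Cfsg.Agent.Lib.Lead.CycSyl

open Cfsg

variable {K : Type*} [Group K] [Finite K] {p : ℕ} [Fact p.Prime]

theorem fitting_eq_pCore (hO : Cfsg.pPrimeCore p K = ⊥) :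
    Cfsg.fittingSubgroup K = Cfsg.pCore p K := by
  rw [Cfsg.Agent.Lib.Helper7.Bender.fitting_eq p]
  have h1 : Cfsg.Agent.Lib.Helper7.Bender.Rp p K ≤ Cfsg.pPrimeCore p K :=
    Cfsg.Agent.Lib.Helper6.le_pPrimeCore inferInstance (Cfsg.Agent.Lib.Helper7.Bender.Rp_coprime p)
  rw [hO, le_bot_iff] at h1
  rw [h1, sup_bot_eq]

/-- the automorphism group of a cyclic group is commutative -/
theorem mulAut_comm_of_isCyclic {R : Type*} [Group R] [hR : IsCyclic R] (a b : MulAut R) :
    a * b = b * a := by
  have e := hR.mulAutMulEquiv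
  apply e.injective
  rw [map_mul, map_mul, mul_comm]

/-- if `R` is a cyclic normal self-centralizing subgroup then `K/R` is abelian -/
theorem commutator_mem_of_cyclic_self_centralizing (R : Subgroup K) [hRn : R.Normal]
    (hR : IsCyclic ↥R) (hc : Subgroup.centralizer (R : Set K) ≤ R) (a b : K) :
    a * b * a⁻¹ * b⁻¹ ∈ R := by
  apply hc
  rw [Subgroup.mem_centralizer_iff]
  intro r hr
  have h1 : (MulAut.conjNormal (H := R) (a * b * a⁻¹ * b⁻¹)) = 1 := by
    rw [map_mul, map_mul, map_mul, map_inv, map_inv]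
    rw [mulAut_comm_of_isCyclic (MulAut.conjNormal a) (MulAut.conjNormal b)]
    group
  have h2 := MulAut.conjNormal_apply (H := R) (a * b * a⁻¹ * b⁻¹) ⟨r, hr⟩
  rw [h1] at h2
  simp only [MulAut.one_apply] at h2
  -- h2 : r = c * r * c⁻¹
  have h3 : r * (a * b * a⁻¹ * b⁻¹) = (a * b * a⁻¹ * b⁻¹) * r := by
    calc r * (a * b * a⁻¹ * b⁻¹) = (a * b * a⁻¹ * b⁻¹ * r * (a * b * a⁻¹ * b⁻¹)⁻¹) * (a * b * a⁻¹ * b⁻¹) := by
          rw [← h2]
      _ = (a * b * a⁻¹ * b⁻¹) * r := by group
  exact h3

theorem case_one (hp : p ∣ Nat.card K) (hO : Cfsg.pPrimeCore p K = ⊥) (P : Sylow p K)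
    (hP : IsCyclic ↥(P : Subgroup K)) (hL : Cfsg.layer K = ⊥) :
    (P : Subgroup K).Normal ∧ Subgroup.centralizer ((P : Subgroup K) : Set K) = (P : Subgroup K) ∧
      (∀ (_ : (P : Subgroup K).Normal), IsCyclic (K ⧸ (P : Subgroup K))) ∧
      (P : Subgroup K).index ∣ p - 1 := by
  classical
  have hpp : p.Prime := Fact.out
  set R := Cfsg.pCore p K with hRdef
  haveI hRn : R.Normal := Cfsg.Agent.Lib.Lead.pCore_normal p
  have hFs : Cfsg.generalizedFittingSubgroup K = R := by
    unfold Cfsg.generalizedFittingSubgroup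
    rw [hL, bot_sup_eq, fitting_eq_pCore hO]
  have hcent : Subgroup.centralizer (R : Set K) ≤ R := by
    have := Cfsg.Agent.Lib.Helper3.centralizer_generalizedFittingSubgroup_le (G := K)
    rwa [hFs] at this
  have hRP : R ≤ (P : Subgroup K) := Cfsg.Agent.Lib.Helper9.pCore_le_sylow P
  have hRc : IsCyclic ↥R := by
    haveI : IsCyclic ↥(R.subgroupOf (P : Subgroup K)) := inferInstance
    exact isCyclic_of_surjective (Subgroup.subgroupOfEquivOfLe hRP).toMonoidHom
      (Subgroup.subgroupOfEquivOfLe hRP).surjective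
  have hcomm : ∀ a b : K, a * b * a⁻¹ * b⁻¹ ∈ R :=
    commutator_mem_of_cyclic_self_centralizing R hRc hcent
  have hPn : (P : Subgroup K).Normal := by
    constructor
    intro x hx g
    have h1 : g * x * g⁻¹ * x⁻¹ ∈ (P : Subgroup K) := hRP (hcomm g x)
    have h2 := Subgroup.mul_mem _ h1 hx
    simpa using h2
  have hPR : (P : Subgroup K) = R :=
    le_antisymm (Cfsg.Agent.Lib.Lead.le_pCore hPn P.isPGroup') hRP
  have hPcomm : ∀ x ∈ (P : Subgroup K), ∀ y ∈ (P : Subgroup K), x * y = y * x := by
    intro x hx y hy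
    haveI := hP
    have hc : IsMulCommutative ↥(P : Subgroup K) := IsCyclic.commutative
    have h := hc.is_comm.comm (⟨x, hx⟩ : ↥(P : Subgroup K)) ⟨y, hy⟩
    have h2 := congrArg Subtype.val h
    simp only [Subgroup.coe_mul] at h2
    exact h2
  have hcentP : Subgroup.centralizer ((P : Subgroup K) : Set K) = (P : Subgroup K) := by
    apply le_antisymm
    · rw [hPR]; exact hcent
    · intro x hx
      rw [Subgroup.mem_centralizer_iff]
      intro y hy
      exact hPcomm y hy x hx
  -- the conjugation map into Aut(P)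
  haveI := hPn
  let ψ : K →* MulAut ↥(P : Subgroup K) := MulAut.conjNormal
  have hker0 : ψ.ker = Subgroup.centralizer ((P : Subgroup K) : Set K) := by
    ext g
    rw [MonoidHom.mem_ker, Subgroup.mem_centralizer_iff]
    constructor
    · intro h y hy
      have h2 := MulAut.conjNormal_apply (H := (P : Subgroup K)) g ⟨y, hy⟩
      have h3 : (MulAut.conjNormal (H := (P : Subgroup K)) g) = 1 := h
      rw [h3] at h2
      simp only [MulAut.one_apply] at h2
      calc y * g = (g * y * g⁻¹) * g := by rw [← h2]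
        _ = g * y := by group
    · intro h
      apply MulEquiv.ext
      intro y
      apply Subtype.ext
      have h2 := MulAut.conjNormal_apply (H := (P : Subgroup K)) g y
      show ((MulAut.conjNormal (H := (P : Subgroup K)) g) y : K) = _
      rw [h2, MulAut.one_apply]
      have := h y y.2
      calc g * y * g⁻¹ = (y * g) * g⁻¹ := by rw [this]
        _ = y := by group
  have hker : ψ.ker = (P : Subgroup K) := hker0.trans hcentP
  obtain ⟨n, hn⟩ := IsPGroup.iff_card.mp P.isPGroup'
  have hn0 : n ≠ 0 := by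
    intro h0
    rw [h0, pow_zero] at hn
    have hbot : (P : Subgroup K) = ⊥ := Subgroup.card_eq_one.mp hn
    exact P.ne_bot_of_dvd_card hp hbot
  have hidx : (P : Subgroup K).index ∣ p ^ (n - 1) * (p - 1) := by
    have h1 : (P : Subgroup K).index = Nat.card ψ.range := by
      have := Subgroup.index_ker ψ
      rw [hker] at this
      exact this
    rw [h1]
    have h2 : Nat.card ψ.range ∣ Nat.card (MulAut ↥(P : Subgroup K)) :=
      Subgroup.card_subgroup_dvd_card _
    haveI := hP
    rw [IsCyclic.card_mulAut, hn, Nat.totient_prime_pow hpp (Nat.pos_of_ne_zero hn0)] at h2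
    exact h2
  have hcop : Nat.Coprime (P : Subgroup K).index (p ^ (n - 1)) := by
    apply Nat.Coprime.pow_right
    rw [Nat.coprime_comm]
    exact (Nat.Prime.coprime_iff_not_dvd hpp).mpr P.not_dvd_index
  have hdvd : (P : Subgroup K).index ∣ p - 1 := Nat.Coprime.dvd_of_dvd_mul_left hcop hidx
  refine ⟨hPn, hcentP, ?_, hdvd⟩
  intro hPn'
  by_cases hp2 : p = 2
  · have h1 : (P : Subgroup K).index = 1 := by
      have h21 : p - 1 = 1 := by omega
      rw [h21] at hdvd
      exact Nat.dvd_one.mp hdvd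
    have htop : (P : Subgroup K) = ⊤ := Subgroup.index_eq_one.mp h1
    haveI : Subsingleton (K ⧸ (P : Subgroup K)) := by
      constructor
      intro a b
      obtain ⟨a, rfl⟩ := QuotientGroup.mk_surjective a
      obtain ⟨b, rfl⟩ := QuotientGroup.mk_surjective b
      rw [QuotientGroup.eq, htop]
      exact Subgroup.mem_top _
    exact isCyclic_of_subsingleton
  · haveI := hP
    have hcycU : IsCyclic (ZMod (Nat.card ↥(P : Subgroup K)))ˣ := by
      rw [hn]
      exact ZMod.isCyclic_units_of_prime_pow p hpp hp2 n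
    have e := hP.mulAutMulEquiv
    haveI hcycA : IsCyclic (MulAut ↥(P : Subgroup K)) :=
      isCyclic_of_surjective e.symm.toMonoidHom e.symm.surjective
    haveI : IsCyclic ψ.range := inferInstance
    have e2 : K ⧸ (P : Subgroup K) ≃* ψ.range :=
      (QuotientGroup.quotientMulEquivOfEq hker.symm).trans (QuotientGroup.quotientKerEquivRange ψ)
    exact isCyclic_of_surjective e2.symm.toMonoidHom e2.symm.surjective

end Cfsg.Agent.Lib.Lead.CycSyl
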