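import Mathlib
import Cfsg.Prelude.Def_Local
import Cfsg.Agent.Lib.Lead.CycSyl1
import Cfsg.Agent.Lib.Lead.Residual2
import Cfsg.Agent.Lib.Lead.AbelianSylow
import Cfsg.Agent.Lib.Lead.AbelianSylowB
import Cfsg.Agent.Lib.Helper6.PRes
import Cfsg.Agent.Lib.Lead.CyclicP
import Cfsg.Agent.Lib.Lead.CoprimeAction

set_option autoImplicit false

/-! Groups with a cyclic Sylow `p`-subgroup and `O_{p'} = 1`: the case `E(K) ≠ 1`, part 1. -/

namespace Cfsg.Agent.Lib.Lead.CycSyl

open Cfsg Cfsg.Agent.Lib.Helper3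

variable {K : Type*} [Group K] [Finite K] {p : ℕ} [Fact p.Prime]

/-- (A) every component has order divisible by `p` when `O_{p'}(K) = 1` -/
theorem component_dvd (hO : Cfsg.pPrimeCore p K = ⊥) {L : Subgroup K} (hL : Cfsg.IsComponent L) :
    p ∣ Nat.card L := by
  by_contra h
  have hc : (Nat.card L).Coprime p := by
    rw [Nat.coprime_comm]
    exact (Nat.Prime.coprime_iff_not_dvd Fact.out).mpr h
  have h1 := le_pPrimeCore_of_isSubnormal hL.1 hc
  rw [hO, le_bot_iff] at h1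
  exact IsQuasisimple.ne_bot hL.2 h1

/-- existence of an element of order `p` in a subgroup of order divisible by `p` -/
theorem exists_orderOf_eq (L : Subgroup K) (h : p ∣ Nat.card L) : ∃ x ∈ L, orderOf x = p := by
  obtain ⟨x, hx⟩ := exists_prime_orderOf_dvd_card' (G := ↥L) p h
  exact ⟨x, x.2, by rw [← hx, Subgroup.orderOf_coe]⟩

/-- (B) in a cyclic Sylow subgroup, elements of order `p` generate the same subgroup -/
theorem mem_zpowers_of_orderOf_eq (P : Sylow p K) (hP : IsCyclic ↥(P : Subgroup K)) {x y : K}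
    (hx : x ∈ (P : Subgroup K)) (hy : y ∈ (P : Subgroup K)) (hox : orderOf x = p)
    (hoy : orderOf y = p) : x ∈ Subgroup.zpowers y := by
  haveI := hP
  set A : Subgroup ↥(P : Subgroup K) := Subgroup.zpowers ⟨x, hx⟩ with hA
  set B : Subgroup ↥(P : Subgroup K) := Subgroup.zpowers ⟨y, hy⟩ with hB
  have hcA : Nat.card A = p := by
    rw [hA, Nat.card_zpowers]
    exact (Subgroup.orderOf_mk x hx).trans hox
  have hcB : Nat.card B = p := by
    rw [hB, Nat.card_zpowers]
    exact (Subgroup.orderOf_mk y hy).trans hoy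
  have hAB : A ≤ B := by
    rcases le_total_of_isCyclic_of_isPGroup P.isPGroup' A B with h | h
    · exact h
    · have : B = A := Subgroup.eq_of_le_of_card_ge h (by rw [hcA, hcB])
      rw [this]
  have h1 : (⟨x, hx⟩ : ↥(P : Subgroup K)) ∈ B := hAB (Subgroup.mem_zpowers _)
  obtain ⟨k, hk⟩ := Subgroup.mem_zpowers_iff.mp h1
  refine Subgroup.mem_zpowers_iff.mpr ⟨k, ?_⟩
  have := congrArg Subtype.val hk
  simpa using this

/-- (D) any `p`-subgroup is commutative when a Sylow `p`-subgroup is cyclic -/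
theorem commute_of_isPGroup (P : Sylow p K) (hP : IsCyclic ↥(P : Subgroup K)) (H : Subgroup K)
    (hH : IsPGroup p H) {a b : K} (ha : a ∈ H) (hb : b ∈ H) : a * b = b * a := by
  obtain ⟨Q, hQ⟩ := hH.exists_le_sylow
  obtain ⟨g, hg⟩ := MulAction.exists_smul_eq K P Q
  have haQ : a ∈ (Q : Subgroup K) := hQ ha
  have hbQ : b ∈ (Q : Subgroup K) := hQ hb
  rw [← hg, Sylow.coe_subgroup_smul, Cfsg.Agent.Lib.Lead.mem_conj_smul_iff'] at haQ hbQ
  have hc : IsMulCommutative ↥(P : Subgroup K) := IsCyclic.commutative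
  have h := hc.is_comm.comm (⟨_, haQ⟩ : ↥(P : Subgroup K)) ⟨_, hbQ⟩
  have h2 := congrArg Subtype.val h
  simp only [Subgroup.coe_mul] at h2
  -- h2 : g⁻¹ a g * (g⁻¹ b g) = ...
  have h3 : g * (g⁻¹ * a * g * (g⁻¹ * b * g)) * g⁻¹ = g * (g⁻¹ * b * g * (g⁻¹ * a * g)) * g⁻¹ := by
    rw [h2]
  have e1 : g * (g⁻¹ * a * g * (g⁻¹ * b * g)) * g⁻¹ = a * b := by group
  have e2 : g * (g⁻¹ * b * g * (g⁻¹ * a * g)) * g⁻¹ = b * a := by group
  rw [e1, e2] at h3
  exact h3

/-- a perfect finite group equals its `p`-residual -/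
theorem pResidual_eq_top_of_isPerfect {L : Type*} [Group L] [Finite L] (hL : Group.IsPerfect L) :
    Cfsg.pResidual p L = ⊤ := by
  by_contra hne
  haveI hn : (Cfsg.pResidual p L).Normal := Cfsg.Agent.Lib.Lead.pResidual_normal p
  have hpg : IsPGroup p (L ⧸ Cfsg.pResidual p L) := Cfsg.Agent.Lib.Helper6.isPGroup_quotient_pResidual p
  haveI : Group.IsNilpotent (L ⧸ Cfsg.pResidual p L) := hpg.isNilpotent
  haveI : Group.IsSolvable (L ⧸ Cfsg.pResidual p L) := inferInstance
  haveI : Group.IsPerfect (L ⧸ Cfsg.pResidual p L) :=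
    Group.IsPerfect.ofSurjective (f := QuotientGroup.mk' (Cfsg.pResidual p L))
      (QuotientGroup.mk'_surjective _)
  haveI : Nontrivial (L ⧸ Cfsg.pResidual p L) := by
    rw [QuotientGroup.nontrivial_iff]
    exact hne
  exact Group.IsPerfect.not_isSolvable (L ⧸ Cfsg.pResidual p L) inferInstance

/-- a central element of order `p` in a perfect group with abelian Sylow `p`-subgroups: impossible -/
theorem no_central_order_p {L : Type*} [Group L] [Finite L] (hL : Group.IsPerfect L)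
    (hab : ∀ Q : Sylow p L, ∀ a ∈ (Q : Subgroup L), ∀ b ∈ (Q : Subgroup L), a * b = b * a)
    (z : L) (hz : z ∈ Subgroup.center L) (hpz : ∃ k : ℕ, z ^ p ^ k = 1) : z = 1 := by
  have hpg : IsPGroup p (Subgroup.zpowers z) := by
    obtain ⟨k, hk⟩ := hpz
    rintro ⟨x, hx⟩
    obtain ⟨n, rfl⟩ := Subgroup.mem_zpowers_iff.mp hx
    refine ⟨k, ?_⟩
    apply Subtype.ext
    show (z ^ n) ^ p ^ k = 1
    rw [← zpow_natCast, ← zpow_mul, mul_comm, zpow_mul, zpow_natCast, hk, one_zpow]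
  obtain ⟨Q, hQ⟩ := hpg.exists_le_sylow
  haveI hQc : IsMulCommutative (Q : Subgroup L) :=
    ⟨⟨fun a b => Subtype.ext (hab Q a a.2 b b.2)⟩⟩
  have hzQ : z ∈ (Q : Subgroup L) := hQ (Subgroup.mem_zpowers z)
  apply Cfsg.Agent.Lib.Lead.eq_one_of_mem_pResidual_of_central Q z hzQ
  · rw [Subgroup.mem_centralizer_iff]
    intro h _
    exact (Subgroup.mem_center_iff.mp hz h)
  · rw [pResidual_eq_top_of_isPerfect hL]
    exact Subgroup.mem_top _

end Cfsg.Agent.Lib.Lead.CycSyl
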