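import Mathlib
import Cfsg.Prelude.Def_Local
import Cfsg.Agent.Lib.Lead.CycSyl2

set_option autoImplicit false

/-! Groups with a cyclic Sylow `p`-subgroup and `O_{p'} = 1`: the case `E(K) ≠ 1`, part 2. -/

namespace Cfsg.Agent.Lib.Lead.CycSyl

open Cfsg Cfsg.Agent.Lib.Helper3
open scoped commutatorElement

variable {K : Type*} [Group K] [Finite K] {p : ℕ} [Fact p.Prime]

theorem orderOf_conj_eq (g x : K) : orderOf (g⁻¹ * x * g) = orderOf x := by
  have := Cfsg.Agent.Lib.Lead.orderOf_conj' g⁻¹ x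
  simpa using this

/-- Sylow subgroups of a subgroup are commutative when a Sylow subgroup of `K` is cyclic -/
theorem sylow_subgroup_comm (P : Sylow p K) (hP : IsCyclic ↥(P : Subgroup K)) (L : Subgroup K)
    (Q : Sylow p ↥L) : ∀ a ∈ (Q : Subgroup ↥L), ∀ b ∈ (Q : Subgroup ↥L), a * b = b * a := by
  intro a ha b hb
  have hpg : IsPGroup p ((Q : Subgroup ↥L).map L.subtype) := Q.isPGroup'.map _
  have h := commute_of_isPGroup P hP _ hpg (Subgroup.mem_map_of_mem L.subtype ha)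
    (Subgroup.mem_map_of_mem L.subtype hb)
  apply Subtype.ext
  simpa using h

/-- (C) if `K` has a component then `O_p(K) = 1` -/
theorem pCore_eq_bot_of_component (hO : Cfsg.pPrimeCore p K = ⊥) (P : Sylow p K)
    (hP : IsCyclic ↥(P : Subgroup K)) {L : Subgroup K} (hL : Cfsg.IsComponent L) :
    Cfsg.pCore p K = ⊥ := by
  classical
  have hpp : p.Prime := Fact.out
  by_contra hne
  set R := Cfsg.pCore p K with hRdef
  haveI hRn : R.Normal := Cfsg.Agent.Lib.Lead.pCore_normal p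
  have hRp : IsPGroup p R := Cfsg.Agent.Lib.Lead.pCore_isPGroup p
  have hRP : R ≤ (P : Subgroup K) := Cfsg.Agent.Lib.Helper9.pCore_le_sylow P
  -- an element of order p in R
  have hpR : p ∣ Nat.card R := by
    obtain ⟨n, hn⟩ := IsPGroup.iff_card.mp hRp
    have hn0 : n ≠ 0 := by
      intro h0
      rw [h0, pow_zero] at hn
      exact hne (Subgroup.card_eq_one.mp hn)
    rw [hn]
    exact dvd_pow_self p hn0
  obtain ⟨y, hyR, hoy⟩ := exists_orderOf_eq R hpR
  obtain ⟨x, hxL, hox⟩ := exists_orderOf_eq L (component_dvd hO hL)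
  have hxp : ∃ k : ℕ, x ^ p ^ k = 1 := ⟨1, by rw [pow_one, ← hox]; exact pow_orderOf_eq_one x⟩
  obtain ⟨h, hh⟩ := Cfsg.Agent.Lib.Lead.exists_conj_mem_sylow P x hxp
  have hoh : orderOf (h⁻¹ * x * h) = p := by rw [orderOf_conj_eq]; exact hox
  have h1 : h⁻¹ * x * h ∈ Subgroup.zpowers y :=
    mem_zpowers_of_orderOf_eq P hP hh (hRP hyR) hoh hoy
  have h2 : h⁻¹ * x * h ∈ R := (Subgroup.zpowers_le.mpr hyR) h1
  have hxR : x ∈ R := by
    have := hRn.conj_mem _ h2 h
    have e : h * (h⁻¹ * x * h) * h⁻¹ = x := by group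
    rwa [e] at this
  -- x centralizes L
  have hcomm : ⁅L, Cfsg.fittingSubgroup K⁆ = ⊥ := IsComponent.commutator_fittingSubgroup hL
  rw [fitting_eq_pCore hO, Subgroup.commutator_eq_bot_iff_le_centralizer] at hcomm
  -- work in L
  have hz : (⟨x, hxL⟩ : ↥L) ∈ Subgroup.center ↥L := by
    rw [Subgroup.mem_center_iff]
    rintro ⟨l, hl⟩
    apply Subtype.ext
    have := hcomm hl
    rw [Subgroup.mem_centralizer_iff] at this
    have h3 := this x hxR
    simp only [Subgroup.coe_mul]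
    exact h3.symm
  have hperf : Group.IsPerfect ↥L := hL.2.1
  have h4 := no_central_order_p (p := p) hperf (sylow_subgroup_comm P hP L) ⟨x, hxL⟩ hz
    ⟨1, by
      apply Subtype.ext
      show x ^ p ^ 1 = 1
      rw [pow_one, ← hox]; exact pow_orderOf_eq_one x⟩
  have hx1 : x = 1 := congrArg Subtype.val h4
  rw [hx1, orderOf_one] at hox
  exact hpp.one_lt.ne hox

/-- (E) components have trivial centre when `F(K) = 1` -/
theorem component_center_eq_bot (hF : Cfsg.fittingSubgroup K = ⊥) {L : Subgroup K}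
    (hL : Cfsg.IsComponent L) : Subgroup.center ↥L = ⊥ := by
  have hsn : ((Subgroup.center ↥L).map L.subtype).IsSubnormal :=
    (Subgroup.Normal.isSubnormal inferInstance).trans' hL.1
  have hnil : Group.IsNilpotent ↥((Subgroup.center ↥L).map L.subtype) := by
    apply isNilpotent_of_commutator_le_centralizer
    rw [Subgroup.commutator_le]
    rintro _ ⟨a, ha, rfl⟩ _ ⟨b, hb, rfl⟩
    have hab : a * b = b * a := (Subgroup.mem_center_iff.mp ha b).symm
    have : ⁅L.subtype a, L.subtype b⁆ = 1 := by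
      rw [commutatorElement_eq_one_iff_mul_comm, ← map_mul, ← map_mul, hab]
    rw [this]
    exact Subgroup.one_mem _
  have h1 := le_fittingSubgroup_of_isSubnormal hsn hnil
  rw [hF, le_bot_iff] at h1
  exact (Subgroup.map_eq_bot_iff_of_injective _ L.subtype_injective).mp h1

/-- a component with trivial centre is a nonabelian simple group -/
theorem component_simple {L : Subgroup K} (hL : Cfsg.IsComponent L)
    (hZ : Subgroup.center ↥L = ⊥) : IsSimpleGroup ↥L ∧ ¬ IsMulCommutative ↥L := by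
  refine ⟨?_, IsQuasisimple.not_isMulCommutative hL.2⟩
  haveI := hL.2.2
  haveI : Nontrivial ↥L := IsQuasisimple.nontrivial hL.2
  let e : (↥L ⧸ Subgroup.center ↥L) ≃* ↥L :=
    (QuotientGroup.quotientMulEquivOfEq hZ).trans (QuotientGroup.quotientBot)
  exact e.symm.isSimpleGroup

/-- (F) uniqueness of the component -/
theorem component_unique (hO : Cfsg.pPrimeCore p K = ⊥) (P : Sylow p K)
    (hP : IsCyclic ↥(P : Subgroup K)) {L₁ L₂ : Subgroup K} (h1 : Cfsg.IsComponent L₁)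
    (h2 : Cfsg.IsComponent L₂) : L₁ = L₂ := by
  classical
  have hpp : p.Prime := Fact.out
  by_contra hne
  have hR : Cfsg.pCore p K = ⊥ := pCore_eq_bot_of_component hO P hP h1
  have hF : Cfsg.fittingSubgroup K = ⊥ := by rw [fitting_eq_pCore hO, hR]
  obtain ⟨x₁, hx₁, ho₁⟩ := exists_orderOf_eq L₁ (component_dvd hO h1)
  obtain ⟨x₂, hx₂, ho₂⟩ := exists_orderOf_eq L₂ (component_dvd hO h2)
  have hcomm : ⁅L₁, L₂⁆ = ⊥ := IsComponent.commutator_eq_bot_of_ne h1 h2 hne
  rw [Subgroup.commutator_eq_bot_iff_le_centralizer] at hcomm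
  have hc : ∀ a ∈ L₁, ∀ b ∈ L₂, a * b = b * a := by
    intro a ha b hb
    have := hcomm ha
    rw [Subgroup.mem_centralizer_iff] at this
    exact (this b hb).symm
  -- the subgroup generated by x₁, x₂ is a p-group
  set H := Subgroup.zpowers x₁ ⊔ Subgroup.zpowers x₂ with hH
  have hcz : ∀ y ∈ Subgroup.zpowers x₁, ∀ z ∈ Subgroup.zpowers x₂, y * z = z * y := by
    intro y hy z hz
    exact hc y ((Subgroup.zpowers_le.mpr hx₁) hy) z ((Subgroup.zpowers_le.mpr hx₂) hz)
  have hHp : IsPGroup p H := by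
    rintro ⟨w, hw⟩
    obtain ⟨y, hy, z, hz, rfl⟩ := Cfsg.Agent.Lib.Lead.mem_sup_of_commute _ _ hcz hw
    refine ⟨1, ?_⟩
    apply Subtype.ext
    show (y * z) ^ p ^ 1 = 1
    rw [pow_one, (show Commute y z from hcz y hy z hz).mul_pow]
    have hy1 : y ^ p = 1 := by
      obtain ⟨n, rfl⟩ := Subgroup.mem_zpowers_iff.mp hy
      rw [← zpow_natCast, ← zpow_mul, mul_comm, zpow_mul, zpow_natCast, ← ho₁, pow_orderOf_eq_one,
        one_zpow]
    have hz1 : z ^ p = 1 := by
      obtain ⟨n, rfl⟩ := Subgroup.mem_zpowers_iff.mp hz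
      rw [← zpow_natCast, ← zpow_mul, mul_comm, zpow_mul, zpow_natCast, ← ho₂, pow_orderOf_eq_one,
        one_zpow]
    rw [hy1, hz1, one_mul]
  obtain ⟨Q, hQ⟩ := hHp.exists_le_sylow
  obtain ⟨g, hg⟩ := MulAction.exists_smul_eq K P Q
  have hx₁Q : x₁ ∈ (Q : Subgroup K) := hQ (le_sup_left (a := Subgroup.zpowers x₁) (Subgroup.mem_zpowers x₁))
  have hx₂Q : x₂ ∈ (Q : Subgroup K) := hQ (le_sup_right (b := Subgroup.zpowers x₂) (Subgroup.mem_zpowers x₂))
  rw [← hg, Sylow.coe_subgroup_smul, Cfsg.Agent.Lib.Lead.mem_conj_smul_iff'] at hx₁Q hx₂Q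
  have h3 : g⁻¹ * x₁ * g ∈ Subgroup.zpowers (g⁻¹ * x₂ * g) :=
    mem_zpowers_of_orderOf_eq P hP hx₁Q hx₂Q (by rw [orderOf_conj_eq]; exact ho₁)
      (by rw [orderOf_conj_eq]; exact ho₂)
  obtain ⟨n, hn⟩ := Subgroup.mem_zpowers_iff.mp h3
  have h4 : x₁ = x₂ ^ n := by
    have e : (g⁻¹ * x₂ * g) ^ n = g⁻¹ * x₂ ^ n * g := by
      have := (MulAut.conj g⁻¹).toMonoidHom.map_zpow x₂ n
      simpa [MulAut.conj_apply] using this.symm
    rw [e] at hn
    have h5 : g * (g⁻¹ * x₂ ^ n * g) * g⁻¹ = g * (g⁻¹ * x₁ * g) * g⁻¹ := by rw [hn]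
    have e1 : g * (g⁻¹ * x₂ ^ n * g) * g⁻¹ = x₂ ^ n := by group
    have e2 : g * (g⁻¹ * x₁ * g) * g⁻¹ = x₁ := by group
    rw [e1, e2] at h5
    exact h5.symm
  have hx₁L₂ : x₁ ∈ L₂ := by rw [h4]; exact Subgroup.zpow_mem _ hx₂ n
  -- x₁ is central in L₁
  have hz : (⟨x₁, hx₁⟩ : ↥L₁) ∈ Subgroup.center ↥L₁ := by
    rw [Subgroup.mem_center_iff]
    rintro ⟨l, hl⟩
    apply Subtype.ext
    simp only [Subgroup.coe_mul]
    exact hc l hl x₁ hx₁L₂
  rw [component_center_eq_bot hF h1, Subgroup.mem_bot] at hz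
  have hx1 : x₁ = 1 := congrArg Subtype.val hz
  rw [hx1, orderOf_one] at ho₁
  exact hpp.one_lt.ne ho₁

/-- (G) the layer equals the unique component -/
theorem layer_eq_component (hO : Cfsg.pPrimeCore p K = ⊥) (P : Sylow p K)
    (hP : IsCyclic ↥(P : Subgroup K)) {L : Subgroup K} (hL : Cfsg.IsComponent L) :
    Cfsg.layer K = L := by
  apply le_antisymm
  · rw [layer_le_iff]
    intro M hM
    rw [component_unique hO P hP hM hL]
  · exact IsComponent.le_layer hL

end Cfsg.Agent.Lib.Lead.CycSyl
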