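import Mathlib
import Cfsg.Agent.Lib.Lead.TwoAdic2
import Cfsg.Agent.Lib.Lead.QuatRecog

set_option autoImplicit false

namespace Cfsg.Agent.Lib.Lead

section
variable {G : Type*} [Group G] [Finite G]

/-- **Non-abelian `2`-groups with a cyclic maximal subgroup.** -/
theorem exists_generators_of_cyclic_maximal_two (n : ℕ) (hn : 3 ≤ n) (hG : Nat.card G = 2 ^ n)
    (C : Subgroup G) (hC : IsCyclic C) (hCi : C.index = 2) (hna : ∃ x y : G, x * y ≠ y * x) :
    ∃ a b : G, orderOf a = 2 ^ (n - 1) ∧ b ∉ Subgroup.zpowers a ∧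
      ((b ^ 2 = 1 ∧ b * a * b⁻¹ = a⁻¹) ∨ (b ^ 2 = a ^ (2 ^ (n - 2)) ∧ b * a * b⁻¹ = a⁻¹) ∨
        (4 ≤ n ∧ b ^ 2 = 1 ∧ b * a * b⁻¹ = a ^ (1 + 2 ^ (n - 2))) ∨
        (4 ≤ n ∧ b ^ 2 = 1 ∧ b * a * b⁻¹ = a ^ (2 ^ (n - 2) - 1))) := by
  classical
  obtain ⟨k, hk⟩ : ∃ k : ℕ, k = n - 1 := ⟨_, rfl⟩
  have hk2 : 2 ≤ k := by omega
  have hk1 : n - 2 = k - 1 := by omega
  have hnk : n = k + 1 := by omega
  haveI : NeZero (2 ^ k) := ⟨by positivity⟩
  haveI hCn : C.Normal := Subgroup.normal_of_index_eq_two hCi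
  have hCcard : Nat.card C = 2 ^ k := by
    have h1 := C.card_mul_index
    rw [hCi, hG, hnk, pow_succ] at h1
    exact Nat.eq_of_mul_eq_mul_right (by norm_num) h1
  -- a generator of `C`
  obtain ⟨a', ha'⟩ := IsCyclic.exists_generator (α := C)
  set a : G := (a' : G) with ha
  have haC : a ∈ C := a'.2
  have hao : orderOf a = 2 ^ k := by
    rw [ha, Subgroup.orderOf_coe, orderOf_eq_card_of_forall_mem_zpowers ha', hCcard]
  have hCa : Subgroup.zpowers a = C := by
    apply Subgroup.eq_of_le_of_card_ge (Subgroup.zpowers_le.mpr haC)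
    rw [Nat.card_zpowers, hao, hCcard]
  have hapow : a ^ (2 ^ k) = 1 := by rw [← hao]; exact pow_orderOf_eq_one a
  -- the exponent map
  set e : ZMod (2 ^ k) → G := fun i => (zmodPow (2 ^ k) a hapow i).toMul with he
  have he_add : ∀ i j, e (i + j) = e i * e j := fun i j => zmodPow_add _ a hapow i j
  have he_nat : ∀ j : ℕ, e (j : ZMod (2 ^ k)) = a ^ j := fun j => zmodPow_natCast _ a hapow j
  have he_int : ∀ j : ℤ, e (j : ZMod (2 ^ k)) = a ^ j := fun j => zmodPow_intCast _ a hapow j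
  have he_neg : ∀ i, e (-i) = (e i)⁻¹ := fun i => zmodPow_neg _ a hapow i
  have he_zero : e 0 = 1 := by
    have := he_nat 0
    rwa [Nat.cast_zero, pow_zero] at this
  have he_one : e 1 = a := by
    have := he_nat 1
    rwa [Nat.cast_one, pow_one] at this
  have he_inj : ∀ i j, e i = e j → i = j := by
    intro i j hij
    have h1 : e (i - j) = 1 := by
      rw [sub_eq_add_neg, he_add, he_neg, hij, mul_inv_cancel]
    have := zmodPow_eq_one (2 ^ k) a hapow hao (i - j) h1
    exact sub_eq_zero.mp this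
  have he_surj : ∀ c ∈ C, ∃ i, e i = c := by
    intro c hc
    rw [← hCa] at hc
    obtain ⟨j, hj⟩ := Subgroup.mem_zpowers_iff.mp hc
    exact ⟨(j : ZMod (2 ^ k)), by rw [he_int, hj]⟩
  have he_comm : ∀ i j, e i * e j = e j * e i := by
    intro i j
    rw [← he_add, ← he_add, add_comm]
  -- an element outside `C`
  obtain ⟨b₀, hb₀C⟩ : ∃ b₀ : G, b₀ ∉ C := by
    by_contra hall
    push Not at hall
    have : C = ⊤ := eq_top_iff.mpr (fun x _ => hall x)
    rw [this, Subgroup.index_top] at hCi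
    norm_num at hCi
  obtain ⟨r, hr⟩ := he_surj (b₀ * a * b₀⁻¹) (hCn.conj_mem a haC b₀)
  obtain ⟨s, hs⟩ := he_surj (b₀ * b₀) (Subgroup.mul_self_mem_of_index_two hCi b₀)
  -- conjugation by `b₀` on `C`
  have hconj : ∀ i, b₀ * e i * b₀⁻¹ = e (r * i) := by
    intro i
    obtain ⟨j, rfl⟩ := ZMod.intCast_surjective i
    rw [he_int]
    have h1 : b₀ * a ^ j * b₀⁻¹ = (b₀ * a * b₀⁻¹) ^ j := by
      rw [← MulAut.conj_apply, map_zpow, MulAut.conj_apply]
    rw [h1, ← hr]
    have h2 : e (r * (j : ZMod (2 ^ k))) = e r ^ j := by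
      have h3 : r * (j : ZMod (2 ^ k)) = j • r := by rw [zsmul_eq_mul, mul_comm]
      rw [h3]
      show (zmodPow (2 ^ k) a hapow (j • r)).toMul = _
      rw [map_zsmul]
      rfl
    rw [h2]
  have hrr : r * r = 1 := by
    apply he_inj
    rw [← hconj r, hr, he_one]
    have h1 : b₀ * (b₀ * a * b₀⁻¹) * b₀⁻¹ = (b₀ * b₀) * a * (b₀ * b₀)⁻¹ := by group
    rw [h1, ← hs, ← he_one, he_comm s 1, mul_assoc, mul_inv_cancel, mul_one]
  have hrs : r * s = s := by
    apply he_inj
    rw [← hconj s, hs]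
    group
  have hr1 : r ≠ 1 := by
    intro h1
    have hab : b₀ * a = a * b₀ := by
      have h2 : b₀ * a * b₀⁻¹ = a := by rw [← hr, h1, he_one]
      calc b₀ * a = (b₀ * a * b₀⁻¹) * b₀ := by group
        _ = a * b₀ := by rw [h2]
    obtain ⟨x, y, hxy⟩ := hna
    apply hxy
    have hcoatom : IsCoatom C := isCoatom_of_index_prime (by rw [hCi]; exact Nat.prime_two)
    have htop : Subgroup.closure ({a, b₀} : Set G) = ⊤ := by
      apply hcoatom.2
      refine lt_of_le_of_ne ?_ ?_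
      · rw [← hCa, Subgroup.zpowers_le]
        exact Subgroup.subset_closure (by simp)
      · intro h2
        apply hb₀C
        rw [h2]
        exact Subgroup.subset_closure (by simp)
    have hcl : IsMulCommutative (Subgroup.closure ({a, b₀} : Set G)) := by
      apply Subgroup.isMulCommutative_closure
      intro u hu v hv
      simp only [Set.mem_insert_iff, Set.mem_singleton_iff] at hu hv
      rcases hu with rfl | rfl <;> rcases hv with rfl | rfl
      · rfl
      · exact hab.symm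
      · exact hab
      · rfl
    have hx : x ∈ Subgroup.closure ({a, b₀} : Set G) := by rw [htop]; exact Subgroup.mem_top x
    have hy : y ∈ Subgroup.closure ({a, b₀} : Set G) := by rw [htop]; exact Subgroup.mem_top y
    exact congrArg Subtype.val (hcl.is_comm.comm (⟨x, hx⟩ : Subgroup.closure ({a, b₀} : Set G))
      ⟨y, hy⟩)
  obtain ⟨i, hi⟩ := exists_normal_form k hk2 r s hrr hrs hr1
  set b : G := b₀ * e i with hb
  have heC : ∀ j, e j ∈ C := by
    intro j
    rw [← hCa]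
    exact zmodPow_mem_zpowers _ a hapow j
  have hbC : b ∉ Subgroup.zpowers a := by
    rw [hCa]
    intro hbC
    apply hb₀C
    have : b₀ = b * (e i)⁻¹ := by rw [hb]; group
    rw [this]
    exact C.mul_mem hbC (C.inv_mem (heC i))
  have hbb : b ^ 2 = e ((r + 1) * i + s) := by
    have h1 : b ^ 2 = (b₀ * e i * b₀⁻¹) * (b₀ * b₀) * e i := by rw [hb, sq]; group
    rw [h1, hconj, ← hs, ← he_add, ← he_add]
    congr 1
    ring
  have hba : b * a * b⁻¹ = e r := by
    have h1 : b * a * b⁻¹ = b₀ * (e i * a * (e i)⁻¹) * b₀⁻¹ := by rw [hb]; group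
    have h2 : e i * a * (e i)⁻¹ = a := by
      rw [← he_one, he_comm i 1, mul_assoc, mul_inv_cancel, mul_one]
    rw [h1, h2, hr]
  have hz : e (2 ^ (k - 1)) = a ^ (2 ^ (n - 2)) := by
    have := he_nat (2 ^ (k - 1))
    rw [hk1, ← this]
    congr 1
    push_cast
    rfl
  have hneg1 : e (-1) = a⁻¹ := by rw [he_neg, he_one]
  refine ⟨a, b, by rw [hao, hk], hbC, ?_⟩
  rcases hi with ⟨h1, h2⟩ | ⟨h1, h2⟩ | ⟨h0, h1, h2⟩ | ⟨h0, h1, h2⟩
  · left
    exact ⟨by rw [hbb, h2, he_zero], by rw [hba, h1, hneg1]⟩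
  · right; left
    exact ⟨by rw [hbb, h2, hz], by rw [hba, h1, hneg1]⟩
  · right; right; left
    refine ⟨by omega, by rw [hbb, h2, he_zero], ?_⟩
    rw [hba, h1, hk1, ← he_nat]
    congr 1
    push_cast
    rfl
  · right; right; right
    refine ⟨by omega, by rw [hbb, h2, he_zero], ?_⟩
    rw [hba, h1, hk1, ← he_nat]
    congr 1
    rw [Nat.cast_sub (Nat.one_le_two_pow)]
    push_cast
    rfl

end

end Cfsg.Agent.Lib.Lead
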