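import Mathlib
import Cfsg.Agent.Lib.Lead.CyclicMaxTwo

set_option autoImplicit false

namespace Cfsg.Agent.Lib.Lead

universe u

section
variable {X : Type u} [Group X] [Finite X]

/-- bound for the subgroup `D` of elements moving `a` inside its coset of a central subgroup,
relative version -/
theorem card_le_of_commutator_mem_central' (Z : Subgroup X) (hZ : Z ≤ Subgroup.center X)
    (A D : Subgroup X) (a : X) (hA : ∀ x ∈ D, x * a = a * x → x ∈ A)
    (hD : ∀ x ∈ D, x * a * x⁻¹ * a⁻¹ ∈ Z) : Nat.card D ≤ Nat.card A * Nat.card Z := by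
  classical
  let θ : D →* Z :=
    { toFun := fun x => ⟨(x : X) * a * (x : X)⁻¹ * a⁻¹, hD x x.2⟩
      map_one' := by apply Subtype.ext; simp
      map_mul' := by
        intro x y
        apply Subtype.ext
        have hc : ∀ g : X, g * ((y : X) * a * (y : X)⁻¹ * a⁻¹) = ((y : X) * a * (y : X)⁻¹ * a⁻¹) * g :=
          fun g => Subgroup.mem_center_iff.mp (hZ (hD y y.2)) g
        simp only [Subgroup.coe_mul, mul_inv_rev]
        calc (x : X) * y * a * ((y : X)⁻¹ * (x : X)⁻¹) * a⁻¹
            = (x : X) * ((y : X) * a * (y : X)⁻¹ * a⁻¹) * (a * (x : X)⁻¹ * a⁻¹) := by group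
          _ = ((y : X) * a * (y : X)⁻¹ * a⁻¹) * (x : X) * (a * (x : X)⁻¹ * a⁻¹) := by rw [hc]
          _ = ((y : X) * a * (y : X)⁻¹ * a⁻¹) * ((x : X) * a * (x : X)⁻¹ * a⁻¹) := by group
          _ = ((x : X) * a * (x : X)⁻¹ * a⁻¹) * ((y : X) * a * (y : X)⁻¹ * a⁻¹) := (hc _).symm }
  have h1 : Nat.card θ.ker * Nat.card θ.range = Nat.card D := by
    rw [← Subgroup.index_ker]; exact Subgroup.card_mul_index _
  have h2 : Nat.card θ.range ≤ Nat.card Z := Subgroup.card_le_card_group _
  have h3 : Nat.card θ.ker ≤ Nat.card A := by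
    have hmem : ∀ x : θ.ker, ((x : D) : X) ∈ A := by
      intro x
      apply hA _ (x : D).2
      have h4 : θ (x : D) = 1 := x.2
      have h5 : ((x : D) : X) * a * ((x : D) : X)⁻¹ * a⁻¹ = 1 := congrArg Subtype.val h4
      calc ((x : D) : X) * a = (((x : D) : X) * a * ((x : D) : X)⁻¹ * a⁻¹) * (a * ((x : D) : X)) := by
            group
        _ = a * ((x : D) : X) := by rw [h5, one_mul]
    apply Nat.card_le_card_of_injective (fun x : θ.ker => (⟨((x : D) : X), hmem x⟩ : A))
    intro x y hxy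
    have := congrArg Subtype.val hxy
    exact Subtype.ext (Subtype.ext this)
  calc Nat.card D = Nat.card θ.ker * Nat.card θ.range := h1.symm
    _ ≤ Nat.card A * Nat.card Z := Nat.mul_le_mul h3 h2

end

end Cfsg.Agent.Lib.Lead
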