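import Mathlib

set_option autoImplicit false

/-! S2493, packages K2c + K2d: the conclusion of the refined Ore theorem, conjugacy under an even
permutation, and the passage from a product of two conjugate permutations to a commutator. -/

namespace Cfsg.Agent.Lib.Lead.Ore

open Equiv Equiv.Perm

variable {α : Type*} [Fintype α] [DecidableEq α]

/-- **K2c**. conjugacy under an even permutation, when a transposition centralizes. -/
theorem even_conj_of_cycleType (β β₁ : Perm α) (hct : β.cycleType = β₁.cycleType) (a b : α)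
    (hab : a ≠ b) (h1 : β a = b) (h2 : β b = a) :
    ∃ g : Perm α, Perm.sign g = 1 ∧ g * β * g⁻¹ = β₁ := by
  have hconj : IsConj β β₁ := Perm.isConj_iff_cycleType_eq.mpr hct
  obtain ⟨g, hg⟩ := isConj_iff.mp hconj
  rcases Int.units_eq_one_or (Perm.sign g) with h | h
  · exact ⟨g, h, hg⟩
  · have hcomm : swap a b * β * (swap a b)⁻¹ = β := by
      have h' : β * swap a b = swap (β a) (β b) * β := by
        rw [Equiv.swap_apply_apply]; group
      rw [h1, h2, swap_comm b a] at h'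
      rw [swap_inv, mul_assoc, h', ← mul_assoc, swap_mul_self, one_mul]
    refine ⟨g * swap a b, ?_, ?_⟩
    · rw [map_mul, h, sign_swap hab]; rfl
    · rw [mul_inv_rev, ← hg]
      calc g * swap a b * β * ((swap a b)⁻¹ * g⁻¹)
          = g * (swap a b * β * (swap a b)⁻¹) * g⁻¹ := by group
        _ = g * β * g⁻¹ := by rw [hcomm]

/-- the conclusion of the refined Ore theorem -/
def OreConcl (σ : Perm α) : Prop :=
  ∃ (g β : Perm α) (a b c d : α), Perm.sign g = 1 ∧ Perm.sign β = 1 ∧ g * β * g⁻¹ * β⁻¹ = σ ∧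
    a ≠ b ∧ a ≠ c ∧ a ≠ d ∧ b ≠ c ∧ b ≠ d ∧ c ≠ d ∧ β a = b ∧ β b = a ∧ β c = d ∧ β d = c

/-- **K2d**. from a product of two conjugate even `β`'s. -/
theorem oreConcl_of_prod (σ β₁ β₂ : Perm α) (hprod : β₁ * β₂ = σ)
    (hct : β₁.cycleType = β₂.cycleType) (hs : Perm.sign β₂ = 1) (a b c d : α)
    (hab : a ≠ b) (hac : a ≠ c) (had : a ≠ d) (hbc : b ≠ c) (hbd : b ≠ d) (hcd : c ≠ d)
    (h1 : β₂ a = b) (h2 : β₂ b = a) (h3 : β₂ c = d) (h4 : β₂ d = c) : OreConcl σ := by
  have i1 : β₂⁻¹ a = b := by rw [Perm.inv_eq_iff_eq]; exact h2.symm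
  have i2 : β₂⁻¹ b = a := by rw [Perm.inv_eq_iff_eq]; exact h1.symm
  have i3 : β₂⁻¹ c = d := by rw [Perm.inv_eq_iff_eq]; exact h4.symm
  have i4 : β₂⁻¹ d = c := by rw [Perm.inv_eq_iff_eq]; exact h3.symm
  obtain ⟨g, hg, hconj⟩ := even_conj_of_cycleType β₂⁻¹ β₁ (by rw [cycleType_inv, hct]) a b hab i1 i2
  refine ⟨g, β₂⁻¹, a, b, c, d, hg, by rw [sign_inv, hs], ?_, hab, hac, had, hbc, hbd, hcd,
    i1, i2, i3, i4⟩
  rw [hconj, inv_inv, hprod]

end Cfsg.Agent.Lib.Lead.Ore
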