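import Mathlib
import Cfsg.Agent.Lib.Lead.ExtraModel1

set_option autoImplicit false

/-!
An explicit model of the extraspecial 2-groups of both types.
-/

namespace Cfsg.Agent.Lib.Lead.Extra

open scoped commutatorElement
open Cfsg.Agent.Lib.Lead

abbrev V2 (n : ℕ) := Fin n → ZMod 2 × ZMod 2

theorem z2_add_self (a : ZMod 2) : a + a = 0 := CharTwo.add_self_eq_zero a

theorem z2_mul_self : ∀ a : ZMod 2, a * a = a := by decide

theorem z2_cases : ∀ a : ZMod 2, a = 0 ∨ a = 1 := by decide

theorem v2_add_self {n : ℕ} (x : V2 n) : x + x = 0 := by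
  funext i
  ext
  · exact z2_add_self _
  · exact z2_add_self _

def wt (n : ℕ) (ε : ZMod 2) (i : Fin n) : ZMod 2 := if (i : ℕ) = 0 then ε else 0

def bet {n : ℕ} (ε : ZMod 2) (x y : V2 n) : ZMod 2 :=
  ∑ i, ((x i).2 * (y i).1 + wt n ε i * ((x i).1 * (y i).1 + (x i).2 * (y i).2))

section bet

variable {n : ℕ} (ε : ZMod 2)

theorem bet_add_left (x x' y : V2 n) : bet ε (x + x') y = bet ε x y + bet ε x' y := by
  unfold bet
  rw [← Finset.sum_add_distrib]
  apply Finset.sum_congr rfl
  intro i _
  simp only [Pi.add_apply, Prod.fst_add, Prod.snd_add]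
  ring

theorem bet_add_right (x y y' : V2 n) : bet ε x (y + y') = bet ε x y + bet ε x y' := by
  unfold bet
  rw [← Finset.sum_add_distrib]
  apply Finset.sum_congr rfl
  intro i _
  simp only [Pi.add_apply, Prod.fst_add, Prod.snd_add]
  ring

theorem bet_zero_left (y : V2 n) : bet ε 0 y = 0 := by
  unfold bet
  apply Finset.sum_eq_zero
  intro i _
  simp

theorem bet_zero_right (x : V2 n) : bet ε x 0 = 0 := by
  unfold bet
  apply Finset.sum_eq_zero
  intro i _
  simp

end bet

/-- the model group -/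
@[ext] structure MG (n : ℕ) (ε : ZMod 2) where
  v : V2 n
  c : ZMod 2

namespace MG

variable {n : ℕ} {ε : ZMod 2}

instance : Mul (MG n ε) := ⟨fun x y => ⟨x.v + y.v, x.c + y.c + bet ε x.v y.v⟩⟩
instance : One (MG n ε) := ⟨⟨0, 0⟩⟩
instance : Inv (MG n ε) := ⟨fun x => ⟨x.v, x.c + bet ε x.v x.v⟩⟩

@[simp] theorem mul_v (x y : MG n ε) : (x * y).v = x.v + y.v := rfl
@[simp] theorem mul_c (x y : MG n ε) : (x * y).c = x.c + y.c + bet ε x.v y.v := rfl
@[simp] theorem one_v : (1 : MG n ε).v = 0 := rfl
@[simp] theorem one_c : (1 : MG n ε).c = 0 := rfl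
@[simp] theorem inv_v (x : MG n ε) : (x⁻¹).v = x.v := rfl
@[simp] theorem inv_c (x : MG n ε) : (x⁻¹).c = x.c + bet ε x.v x.v := rfl

instance : Group (MG n ε) :=
  Group.ofLeftAxioms
    (by
      intro x y w
      ext1
      · simp only [mul_v]; rw [add_assoc]
      · simp only [mul_c, mul_v, bet_add_left, bet_add_right]; ring)
    (by
      intro x
      ext1
      · simp
      · simp [bet_zero_left])
    (by
      intro x
      ext1
      · simp only [mul_v, inv_v, one_v]; exact v2_add_self _
      · simp only [mul_c, inv_c, inv_v, one_c]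
        have h1 := z2_add_self x.c
        have h2 := z2_add_self (bet ε x.v x.v)
        calc x.c + bet ε x.v x.v + x.c + bet ε x.v x.v
            = (x.c + x.c) + (bet ε x.v x.v + bet ε x.v x.v) := by ring
          _ = 0 := by rw [h1, h2, add_zero])

/-- the central involution -/
def zz : MG n ε := ⟨0, 1⟩

theorem eq_one_or_zz (g : MG n ε) (hg : g.v = 0) : g = 1 ∨ g = zz := by
  rcases z2_cases g.c with h | h
  · left; ext1
    · exact hg
    · exact h
  · right; ext1
    · exact hg
    · exact h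

theorem comm_v (x y : MG n ε) : (⁅x, y⁆).v = 0 := by
  rw [commutatorElement_def]
  simp only [mul_v, inv_v]
  have : x.v + y.v + x.v + y.v = (x.v + x.v) + (y.v + y.v) := by abel
  rw [this, v2_add_self, v2_add_self, add_zero]

theorem sq_v (x : MG n ε) : (x ^ 2).v = 0 := by
  rw [pow_two]
  simp only [mul_v]
  exact v2_add_self _

theorem sq_c (x : MG n ε) : (x ^ 2).c = bet ε x.v x.v := by
  rw [pow_two]
  simp only [mul_c]
  rw [z2_add_self, zero_add]

/-- the two basis vectors at coordinate `i` -/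
def e1 (i : Fin n) : V2 n := Pi.single i (1, 0)
def e2 (i : Fin n) : V2 n := Pi.single i (0, 1)

theorem bet_e1_right (w : V2 n) (i : Fin n) : bet ε w (e1 i) = (w i).2 + wt n ε i * (w i).1 := by
  unfold bet
  rw [Fintype.sum_eq_single i]
  · simp [e1]
  · intro j hj
    simp [e1, Pi.single_eq_of_ne hj]

theorem bet_e1_left (w : V2 n) (i : Fin n) : bet ε (e1 i) w = wt n ε i * (w i).1 := by
  unfold bet
  rw [Fintype.sum_eq_single i]
  · simp [e1]
  · intro j hj
    simp [e1, Pi.single_eq_of_ne hj]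

theorem bet_e2_right (w : V2 n) (i : Fin n) : bet ε w (e2 i) = wt n ε i * (w i).2 := by
  unfold bet
  rw [Fintype.sum_eq_single i]
  · simp [e2]
  · intro j hj
    simp [e2, Pi.single_eq_of_ne hj]

theorem bet_e2_left (w : V2 n) (i : Fin n) : bet ε (e2 i) w = (w i).1 + wt n ε i * (w i).2 := by
  unfold bet
  rw [Fintype.sum_eq_single i]
  · simp [e2]
  · intro j hj
    simp [e2, Pi.single_eq_of_ne hj]

theorem v_eq_zero_of_central (w : MG n ε) (hw : w ∈ Subgroup.center (MG n ε)) : w.v = 0 := by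
  have key : ∀ y : V2 n, bet ε w.v y = bet ε y w.v := by
    intro y
    have h1 := Subgroup.mem_center_iff.mp hw ⟨y, 0⟩
    have h2 := congrArg MG.c h1
    simp only [mul_c] at h2
    have h3 : bet ε y w.v = bet ε w.v y := by
      have : (0 : ZMod 2) + w.c + bet ε y w.v = w.c + 0 + bet ε w.v y := h2
      rw [zero_add, add_zero] at this
      exact add_left_cancel this
    exact h3.symm
  funext i
  have h1 := key (e1 i)
  have h2 := key (e2 i)
  rw [bet_e1_right, bet_e1_left] at h1
  rw [bet_e2_right, bet_e2_left] at h2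
  ext
  · show (w.v i).1 = 0
    have : (w.v i).1 + wt n ε i * (w.v i).2 = 0 + wt n ε i * (w.v i).2 := by rw [zero_add, ← h2]
    exact add_right_cancel this
  · show (w.v i).2 = 0
    have : (w.v i).2 + wt n ε i * (w.v i).1 = 0 + wt n ε i * (w.v i).1 := by rw [zero_add, h1]
    exact add_right_cancel this

theorem zz_central : (zz : MG n ε) ∈ Subgroup.center (MG n ε) := by
  rw [Subgroup.mem_center_iff]
  intro g
  ext1
  · simp [zz]
  · simp only [mul_c, zz, bet_zero_left, bet_zero_right]; ring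

theorem isES : ES (MG n ε) zz where
  z_ne := by
    intro h
    have := congrArg MG.c h
    simp [zz] at this
  z_mem := zz_central
  comm := fun x y => eq_one_or_zz _ (comm_v x y)
  sq := fun x => eq_one_or_zz _ (sq_v x)
  cen := fun w hw => eq_one_or_zz _ (v_eq_zero_of_central w hw)

theorem nonabelian (i : Fin n) : ∃ a b : MG n ε, ⁅a, b⁆ ≠ 1 := by
  refine ⟨⟨e1 i, 0⟩, ⟨e2 i, 0⟩, ?_⟩
  rw [Ne, commutatorElement_eq_one_iff_mul_comm]
  intro h
  have h2 := congrArg MG.c h
  simp only [mul_c, bet_e2_right, bet_e2_left] at h2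
  simp [e1, e2] at h2

/-- the underlying equivalence -/
def equivProd : MG n ε ≃ (V2 n) × ZMod 2 where
  toFun := fun g => (g.v, g.c)
  invFun := fun p => ⟨p.1, p.2⟩
  left_inv := fun _ => rfl
  right_inv := fun _ => rfl

instance : Finite (MG n ε) := Finite.of_equiv _ equivProd.symm

theorem card_eq : Nat.card (MG n ε) = 2 ^ (2 * n + 1) := by
  rw [Nat.card_congr equivProd, Nat.card_prod, Nat.card_pi]
  simp only [Nat.card_prod, Nat.card_zmod, Finset.prod_const, Finset.card_univ, Fintype.card_fin]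
  rw [pow_succ, pow_mul]
  norm_num

theorem isExtraspecial (hn : 1 ≤ n) : Cfsg.IsExtraspecial 2 (MG n ε) :=
  isES.isExtraspecial (nonabelian ⟨0, hn⟩)

end MG

end Cfsg.Agent.Lib.Lead.Extra
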