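import Mathlib
import Cfsg.Agent.Lib.Lead.ExtraModel2

set_option autoImplicit false

/-!
Ranks of the model groups.
-/

namespace Cfsg.Agent.Lib.Lead.Extra

open scoped commutatorElement
open Cfsg.Agent.Lib.Lead

namespace MG

section plus

variable {n : ℕ}

theorem bet_plus_eq_zero (x y : V2 n) (hx : ∀ i, (x i).2 = 0) : bet 0 x y = 0 := by
  unfold bet
  apply Finset.sum_eq_zero
  intro i _
  simp [hx i, wt]

/-- a large elementary abelian subgroup in the plus type model -/
def plusA (n : ℕ) : Subgroup (MG n 0) where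
  carrier := {g | ∀ i, (g.v i).2 = 0}
  mul_mem' := by
    intro a b ha hb i
    simp only [mul_v, Pi.add_apply, Prod.snd_add]
    rw [ha i, hb i, add_zero]
  one_mem' := by intro i; rfl
  inv_mem' := by intro a ha i; exact ha i

theorem plusA_elementary : Cfsg.IsElementaryAbelian 2 (plusA n) := by
  constructor
  · refine ⟨⟨fun a b => ?_⟩⟩
    apply Subtype.ext
    show (a : MG n 0) * b = b * a
    ext1
    · simp only [mul_v]; rw [add_comm]
    · simp only [mul_c]
      rw [bet_plus_eq_zero _ _ a.2, bet_plus_eq_zero _ _ b.2]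
      ring
  · intro a ha
    ext1
    · exact sq_v a
    · rw [sq_c, bet_plus_eq_zero _ _ ha]; rfl

def plusAEquiv : plusA n ≃ (Fin n → ZMod 2) × ZMod 2 where
  toFun := fun g => (fun i => ((g : MG n 0).v i).1, (g : MG n 0).c)
  invFun := fun p => ⟨⟨fun i => (p.1 i, 0), p.2⟩, fun _ => rfl⟩
  left_inv := by
    intro g
    apply Subtype.ext
    ext1
    · funext i
      ext
      · rfl
      · exact (g.2 i).symm
    · rfl
  right_inv := fun _ => rfl

theorem card_plusA : Nat.card (plusA n) = 2 ^ (n + 1) := by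
  rw [Nat.card_congr plusAEquiv, Nat.card_prod, Nat.card_pi]
  simp only [Nat.card_zmod, Finset.prod_const, Finset.card_univ, Fintype.card_fin]
  rw [pow_succ]

end plus

section minus

/-- the sign character -/
def sg (t : ZMod 2) : ℤ := if t = 0 then 1 else -1

theorem sg_add : ∀ a b : ZMod 2, sg (a + b) = sg a * sg b := by decide

theorem sg_sum {ι : Type*} (s : Finset ι) (f : ι → ZMod 2) :
    sg (∑ i ∈ s, f i) = ∏ i ∈ s, sg (f i) := by
  classical
  induction s using Finset.induction_on with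
  | empty => simp [sg]
  | insert a s ha ih => rw [Finset.sum_insert ha, Finset.prod_insert ha, sg_add, ih]

/-- the local quadratic form at coordinate `i` -/
def ql (w : ZMod 2) (t : ZMod 2 × ZMod 2) : ZMod 2 := t.2 * t.1 + w * (t.1 * t.1 + t.2 * t.2)

theorem sum_sg_ql_zero : ∑ t : ZMod 2 × ZMod 2, sg (ql 0 t) = 2 := by decide

theorem sum_sg_ql_one : ∑ t : ZMod 2 × ZMod 2, sg (ql 1 t) = -2 := by decide

variable {n : ℕ}

theorem bet_self (ε : ZMod 2) (x : V2 n) : bet ε x x = ∑ i, ql (wt n ε i) (x i) := rfl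

theorem sum_sg_bet (m : ℕ) : ∑ x : V2 (m + 1), sg (bet 1 x x) = -(2 : ℤ) ^ (m + 1) := by
  have h1 : ∀ x : V2 (m + 1), sg (bet 1 x x) = ∏ i, sg (ql (wt (m + 1) 1 i) (x i)) := by
    intro x
    rw [bet_self, sg_sum]
  simp_rw [h1]
  rw [← Fintype.prod_sum (fun i t => sg (ql (wt (m + 1) 1 i) t))]
  rw [Fin.prod_univ_succ]
  have h2 : wt (m + 1) 1 (0 : Fin (m + 1)) = 1 := by simp [wt]
  have h3 : ∀ i : Fin m, wt (m + 1) 1 i.succ = 0 := by
    intro i
    simp [wt]
  rw [h2, sum_sg_ql_one]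
  simp_rw [h3, sum_sg_ql_zero]
  rw [Finset.prod_const, Finset.card_univ, Fintype.card_fin, pow_succ]
  ring

theorem card_zeros (m : ℕ) :
    2 * ((Finset.univ.filter (fun x : V2 (m + 1) => bet 1 x x = 0)).card : ℤ) =
      (4 : ℤ) ^ (m + 1) - 2 ^ (m + 1) := by
  have h1 := sum_sg_bet m
  have h2 : ∀ x : V2 (m + 1), sg (bet 1 x x) = if bet 1 x x = 0 then 1 else -1 := fun x => rfl
  simp_rw [h2] at h1
  rw [Finset.sum_ite] at h1
  simp only [Finset.sum_const, nsmul_eq_mul, mul_one, mul_neg] at h1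
  have h3 := Finset.card_filter_add_card_filter_not (s := (Finset.univ : Finset (V2 (m + 1))))
    (fun x => bet 1 x x = 0)
  have h4 : (Finset.univ : Finset (V2 (m + 1))).card = 4 ^ (m + 1) := by
    rw [Finset.card_univ, Fintype.card_pi]
    simp only [Fintype.card_prod, ZMod.card, Finset.prod_const, Finset.card_univ, Fintype.card_fin]
  rw [h4] at h3
  have h5 : ((Finset.univ.filter (fun x : V2 (m + 1) => bet 1 x x = 0)).card : ℤ) +
      ((Finset.univ.filter (fun x : V2 (m + 1) => ¬ bet 1 x x = 0)).card : ℤ) = 4 ^ (m + 1) := by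
    exact_mod_cast h3
  linarith

/-- elements of square one -/
def sqEquiv (m : ℕ) : {g : MG (m + 1) 1 // g ^ 2 = 1} ≃
    {x : V2 (m + 1) // bet 1 x x = 0} × ZMod 2 where
  toFun := fun g => (⟨g.1.v, by
    have := congrArg MG.c g.2
    rw [sq_c] at this
    exact this⟩, g.1.c)
  invFun := fun p => ⟨⟨p.1.1, p.2⟩, by
    ext1
    · exact sq_v _
    · rw [sq_c]; exact p.1.2⟩
  left_inv := fun _ => rfl
  right_inv := fun _ => rfl

theorem inv2_minus (m : ℕ) : inv2 (MG (m + 1) 1) = 2 ^ (2 * (m + 1)) - 2 ^ (m + 1) := by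
  unfold inv2
  rw [Nat.card_congr (sqEquiv m), Nat.card_prod, Nat.card_zmod, Nat.card_eq_fintype_card,
    Fintype.card_subtype]
  have h := card_zeros m
  have hle : (2 : ℕ) ^ (m + 1) ≤ 2 ^ (2 * (m + 1)) := Nat.pow_le_pow_right (by norm_num) (by omega)
  zify [hle]
  rw [mul_comm, h, pow_mul]
  norm_num

end minus

end MG

end Cfsg.Agent.Lib.Lead.Extra
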