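import Mathlib
import Cfsg.Agent.Lib.Lead.ExtraModel3

set_option autoImplicit false

namespace Cfsg.Agent.Lib.Lead.Extra

open scoped commutatorElement
open Cfsg.Agent.Lib.Lead

theorem sSup_rank {E : Type} [Group E] (m : ℕ) (hle : Cfsg.PRankLE 2 m E)
    (hex : ∃ A : Subgroup E, Cfsg.IsElementaryAbelian 2 A ∧ Nat.card A = 2 ^ m) :
    sSup {k : ℕ | ∃ A : Subgroup E, Cfsg.IsElementaryAbelian 2 A ∧ Nat.card A = 2 ^ k} = m := by
  apply IsGreatest.csSup_eq
  refine ⟨hex, ?_⟩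
  rintro k ⟨A, hA, hAk⟩
  have := hle A hA.1 hA.2
  rw [hAk] at this
  exact (Nat.pow_le_pow_iff_right (by norm_num)).mp this

theorem both_ranks (n : ℕ) (hn : 1 ≤ n) : ∀ r ∈ ({n, n + 1} : Set ℕ),
    ∃ (E : Type) (_ : Group E) (_ : Finite E), Cfsg.IsExtraspecial 2 E ∧
      Nat.card E = 2 ^ (2 * n + 1) ∧
      sSup {k : ℕ | ∃ A : Subgroup E, Cfsg.IsElementaryAbelian 2 A ∧ Nat.card A = 2 ^ k} = r := by
  intro r hr
  rcases hr with rfl | hr
  · -- minus type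
    obtain ⟨m, rfl⟩ : ∃ m, r = m + 1 := ⟨r - 1, by omega⟩
    refine ⟨MG (m + 1) 1, inferInstance, inferInstance, MG.isExtraspecial hn, MG.card_eq, ?_⟩
    obtain ⟨-, hle1, hnle, hcase⟩ := rank_facts (MG.isExtraspecial (n := m + 1) (ε := 1) hn) (m + 1)
      MG.card_eq
    have hinv := MG.inv2_minus m
    have hpos : 0 < 2 ^ (m + 1) := by positivity
    have hle2 : (2 : ℕ) ^ (m + 1) ≤ 2 ^ (2 * (m + 1)) :=
      Nat.pow_le_pow_right (by norm_num) (by omega)
    have hP : Cfsg.PRankLE 2 (m + 1) (MG (m + 1) 1) := by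
      rcases hcase with ⟨h1, -⟩ | ⟨-, h2⟩
      · exfalso
        rw [hinv] at h1
        omega
      · exact h2
    apply sSup_rank _ hP
    unfold Cfsg.PRankLE at hnle
    push Not at hnle
    obtain ⟨A, hA1, hA2, hA3⟩ := hnle
    refine ⟨A, ⟨hA1, hA2⟩, ?_⟩
    have hdvd : Nat.card A ∣ 2 ^ (2 * (m + 1) + 1) := by
      rw [← MG.card_eq (n := m + 1) (ε := 1)]; exact Subgroup.card_subgroup_dvd_card A
    obtain ⟨j, -, hj⟩ := (Nat.dvd_prime_pow Nat.prime_two).mp hdvd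
    have h1 := hP A hA1 hA2
    rw [hj] at h1 hA3
    have h2 : j ≤ m + 1 := (Nat.pow_le_pow_iff_right (by norm_num)).mp h1
    have h3 : m + 1 - 1 < j := (Nat.pow_lt_pow_iff_right (by norm_num)).mp hA3
    have : j = m + 1 := by omega
    rw [hj, this]
  · -- plus type
    rw [Set.mem_singleton_iff] at hr
    subst hr
    refine ⟨MG n 0, inferInstance, inferInstance, MG.isExtraspecial hn, MG.card_eq, ?_⟩
    obtain ⟨-, hle1, -, -⟩ := rank_facts (MG.isExtraspecial (n := n) (ε := 0) hn) n MG.card_eq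
    exact sSup_rank _ hle1 ⟨MG.plusA n, MG.plusA_elementary, MG.card_plusA⟩

end Cfsg.Agent.Lib.Lead.Extra
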