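import Mathlib
import Cfsg.Agent.Lib.Lead.KS9310a
import Cfsg.Agent.Lib.Helper2.Replacement
import Cfsg.Agent.Lib.Helper2.Basic
import Cfsg.Agent.Lib.Lead.CoprimeTools
import Cfsg.Agent.Lib.Lead.CoprimeAction2

set_option autoImplicit false

/-!
Abelian "weak best offenders" (no elementary abelian hypothesis) in the situation of the
failure-of-factorization structure theorem for `p = 2`: they decompose along the blocks.
-/

namespace Cfsg.Agent.Lib.Lead.KS94

open scoped commutatorElement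
open Cfsg.Agent.Lib.Lead Cfsg.Agent.Lib.Lead.KS93 Cfsg.Agent.Lib.Helper2.Replacement

section basic
variable {G : Type*} [Group G]

theorem card_lt_of_lt [Finite G] {H K : Subgroup G} (h : H < K) : Nat.card H < Nat.card K := by
  by_contra hc
  push Not at hc
  exact h.ne (Subgroup.eq_of_le_of_card_ge h.le hc)

/-- a `p`-group acting on a nontrivial `p`-group moves its commutator strictly down -/
theorem comm_ne_self [Finite G] {p : ℕ} [Fact p.Prime] {W A : Subgroup G} (hA : IsPGroup p A)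
    (hW : IsPGroup p W) (hAW : A ≤ Subgroup.normalizer (W : Set G)) (hW1 : W ≠ ⊥) :
    ⁅W, A⁆ ≠ W := by
  intro heq
  have hPp : IsPGroup p (W ⊔ A : Subgroup G) := IsPGroup.to_sup_of_normal_left' hW hA hAW
  have hnil : Group.IsNilpotent ↥(W ⊔ A : Subgroup G) := hPp.isNilpotent
  have hle : ∀ n, W ≤ (W ⊔ A : Subgroup G).lowerCentralSeries n := by
    intro n
    induction n with
    | zero => exact le_sup_left
    | succ n ih =>
      rw [Subgroup.lowerCentralSeries_succ]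
      calc W = ⁅W, A⁆ := heq.symm
        _ ≤ _ := Subgroup.commutator_mono ih le_sup_right
  obtain ⟨n, hn⟩ := (Subgroup.isNilpotent_iff_lowerCentralSeries (W ⊔ A)).mp hnil
  apply hW1
  rw [eq_bot_iff, ← hn]
  exact hle n

/-- quadratic action on an abelian group of exponent `2`: squares act trivially -/
theorem sq_mem_centralizer_of_quad {V : Subgroup G} (hVc : ∀ x ∈ V, ∀ y ∈ V, x * y = y * x)
    (hV2 : ∀ v ∈ V, v ^ 2 = 1) {a : G} (haV : a ∈ Subgroup.normalizer (V : Set G))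
    (hq : ∀ v ∈ V, a * ⁅v, a⁆ = ⁅v, a⁆ * a) : a ^ 2 ∈ Subgroup.centralizer (V : Set G) := by
  rw [Subgroup.mem_centralizer_iff]
  intro v hv
  have hv' : a * v * a⁻¹ ∈ V := (Subgroup.mem_normalizer_iff.mp haV v).mp hv
  have hinv : ∀ x ∈ V, x⁻¹ = x := fun x hx => by
    have := hV2 x hx
    rw [pow_two] at this
    exact inv_eq_of_mul_eq_one_left this
  have hc : ⁅v, a⁆ = v * (a * v * a⁻¹) := by
    rw [commutatorElement_def]
    have : v * a * v⁻¹ * a⁻¹ = v * (a * v⁻¹ * a⁻¹) := by group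
    rw [this, hinv v hv]
  have h1 := hq v hv
  rw [hc] at h1
  have h2 : (a * v * a⁻¹) * (a * (a * v * a⁻¹) * a⁻¹) = v * (a * v * a⁻¹) := by
    have : (a * v * a⁻¹) * (a * (a * v * a⁻¹) * a⁻¹) = a * (v * (a * v * a⁻¹)) * a⁻¹ := by group
    rw [this, h1]; group
  have h3 : a * (a * v * a⁻¹) * a⁻¹ = v := by
    have hcm := hVc v hv _ hv'
    rw [hcm] at h2
    exact mul_left_cancel h2
  have h4 : a ^ 2 * v = (a * (a * v * a⁻¹) * a⁻¹) * a ^ 2 := by
    rw [pow_two]; group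
  rw [h3] at h4
  exact h4.symm

end basic

section main
variable {G : Type*} [Group G] [Finite G] {V H Q : Subgroup G}

/-- weak best offender: the counting condition only -/
def WB (V A : Subgroup G) : Prop := ∀ B : Subgroup G, B ≤ A → ff V B ≤ ff V A

/-- abelian weak best offenders decompose along the blocks -/
theorem le_comp (S : Setup 2 V H Q)
    (hS3 : H = ⨆ A : {A : Subgroup G // A ≤ H ∧ Cfsg.IsBestOffenderOn 2 V A}, (A : Subgroup G)) :
    ∀ (n : ℕ) (A : Subgroup G), Nat.card A = n → IsPGroup 2 A →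
      (∀ a ∈ A, ∀ b ∈ A, a * b = b * a) →
      A ≤ Subgroup.normalizer (V : Set G) → A ≤ Subgroup.normalizer (H : Set G) →
      A ⊓ Subgroup.centralizer (V : Set G) = ⊥ → WB V A →
      (∀ B : Subgroup G, B ≤ A → Cfsg.IsBestOffenderOn 2 V B → B ≤ H) →
      A ≤ ⨆ (D : Subgroup G) (_ : MinOff 2 V H D), A ⊓ (⁅Q, D⁆ ⊔ D) := by
  intro n
  induction n using Nat.strong_induction_on with
  | _ n ih =>
  intro A hn hA2 hAc hAV hAH hAf hWB hHb
  by_cases hA1 : A = ⊥
  · rw [hA1]; exact bot_le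
  haveI : Fact (Nat.Prime 2) := ⟨Nat.prime_two⟩
  have hVc := S.hVab
  have hV2 : ∀ v ∈ V, v ^ 2 = 1 := S.hV.2
  have hVA : ⁅V, A⁆ ≠ ⊥ := by
    intro h
    apply hA1
    rw [eq_bot_iff, ← hAf]
    refine le_inf le_rfl ?_
    rw [Subgroup.commutator_comm] at h
    exact Subgroup.commutator_eq_bot_iff_le_centralizer.mp h
  have hab : ⁅A, A⁆ ≤ Subgroup.centralizer (V : Set G) := by
    have : ⁅A, A⁆ = ⊥ := by
      rw [Subgroup.commutator_eq_bot_iff_le_centralizer]
      intro a ha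
      rw [Subgroup.mem_centralizer_iff]
      intro b hb
      exact hAc b hb a ha
    rw [this]; exact bot_le
  obtain ⟨h1, h2⟩ := core V A hVc hAV hab hWB V le_rfl
  obtain ⟨As, hAs⟩ : ∃ As : Subgroup G,
      As = A ⊓ Subgroup.centralizer ((⁅V, A⁆ : Subgroup G) : Set G) := ⟨_, rfl⟩
  rw [← hAs] at h1 h2
  have hAsA : As ≤ A := by rw [hAs]; exact inf_le_left
  have hAsB : Cfsg.IsBestOffenderOn 2 V As := by
    refine ⟨?_, ?_, ?_⟩
    · intro B hB
      have := hWB B (hB.trans hAsA)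
      unfold ff at this h1
      rw [h1]; exact this
    · exact (Subgroup.commutator_mono hAsA hAsA).trans hab
    · intro a ha
      apply sq_mem_centralizer_of_quad hVc hV2 (hAV (hAsA ha))
      intro v hv
      have hc : ⁅v, a⁆ ∈ ⁅V, A⁆ := Subgroup.commutator_mem_commutator hv (hAsA ha)
      have ha' : a ∈ Subgroup.centralizer ((⁅V, A⁆ : Subgroup G) : Set G) := by
        rw [hAs] at ha; exact ha.2
      exact (Subgroup.mem_centralizer_iff.mp ha' _ hc).symm
  have hWV : ⁅V, A⁆ ≤ V := by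
    rw [Subgroup.commutator_le]
    intro v hv a ha
    exact comm_mem V A hAV ha hv
  have hVAs : ⁅V, As⁆ ≠ ⊥ := by
    intro hbot
    have hVB : As ≤ Subgroup.centralizer (V : Set G) := by
      rw [Subgroup.commutator_comm] at hbot
      exact Subgroup.commutator_eq_bot_iff_le_centralizer.mp hbot
    have hV2' : V = ⁅V, A⁆ ⊔ (V ⊓ Subgroup.centralizer (A : Set G)) := by
      rw [← h2]
      exact (inf_eq_left.mpr (Subgroup.le_centralizer_iff.mp hVB)).symm
    have hAW : A ≤ Subgroup.normalizer ((⁅V, A⁆ : Subgroup G) : Set G) :=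
      le_normalizer_commutator_right V A hAV
    have hWp : IsPGroup 2 ↥(⁅V, A⁆ : Subgroup G) := by
      intro w
      refine ⟨1, ?_⟩
      rw [pow_one]
      apply Subtype.ext
      rw [Subgroup.coe_pow, Subgroup.coe_one]
      exact hV2 _ (hWV w.2)
    have hWW : ⁅⁅V, A⁆, A⁆ = ⁅V, A⁆ := by
      apply le_antisymm (Subgroup.commutator_mono hWV le_rfl)
      rw [Subgroup.commutator_le]
      intro v hv a ha
      have hnorm : (V ⊓ Subgroup.centralizer (A : Set G)) ≤
          Subgroup.normalizer ((⁅V, A⁆ : Subgroup G) : Set G) := by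
        intro c hc
        apply Cfsg.Agent.Lib.Helper2.mem_normalizer_of_commute
        intro y hy
        exact hVc c hc.1 y (hWV hy)
      have hv' : v ∈ ((⁅V, A⁆ ⊔ (V ⊓ Subgroup.centralizer (A : Set G)) : Subgroup G) : Set G) := by
        rw [← hV2']; exact hv
      rw [Subgroup.coe_mul_of_right_le_normalizer_left _ _ hnorm] at hv'
      obtain ⟨w, hw, c, hc, rfl⟩ := hv'
      have hca : a * c = c * a := Subgroup.mem_centralizer_iff.mp hc.2 a ha
      have h3 : ⁅w * c, a⁆ = ⁅w, a⁆ := by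
        rw [commutatorElement_def, commutatorElement_def]
        have : w * c * a * (w * c)⁻¹ * a⁻¹ = w * (c * a) * c⁻¹ * w⁻¹ * a⁻¹ := by group
        rw [this, ← hca]
        group
      rw [h3]
      exact Subgroup.commutator_mem_commutator hw ha
    exact comm_ne_self hA2 hWp hAW hVA hWW
  have hAs1 : As ≠ ⊥ := by
    intro h
    apply hVAs
    rw [h, Subgroup.commutator_bot_right]
  -- a minimal offender inside `As`
  obtain ⟨D, hDmin⟩ : ∃ D : Subgroup G,
      Minimal (· ∈ {D : Subgroup G | D ≤ As ∧ Cfsg.IsBestOffenderOn 2 V D ∧ D ≠ ⊥}) D :=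
    Set.Finite.exists_minimal (Set.toFinite _) ⟨As, le_rfl, hAsB, hAs1⟩
  obtain ⟨⟨hDAs, hDB, hD1⟩, hDmin'⟩ := hDmin
  have hDH : D ≤ H := hHb D (hDAs.trans hAsA) hDB
  have M : MinOff 2 V H D := ⟨hDH, hDB, hD1, fun B hBD hB hB1 =>
    le_antisymm hBD (hDmin' ⟨hBD.trans hDAs, hB, hB1⟩ hBD)⟩
  obtain ⟨t, htD, ht1⟩ : ∃ t ∈ D, t ≠ 1 := by
    by_contra h
    push Not at h
    exact hD1 ((Subgroup.eq_bot_iff_forall D).mpr h)
  have htE : t ∈ ⁅Q, D⁆ ⊔ D := (le_sup_right : D ≤ ⁅Q, D⁆ ⊔ D) htD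
  have htA : t ∈ A := hAsA (hDAs htD)
  have htW : t ∉ Subgroup.centralizer ((⁅V, ⁅Q, D⁆ ⊔ D⁆ : Subgroup G) : Set G) := by
    intro h
    have h4 : t ∈ (⁅Q, D⁆ ⊔ D) ⊓
        Subgroup.centralizer ((⁅V, ⁅Q, D⁆ ⊔ D⁆ : Subgroup G) : Set G) := ⟨htE, h⟩
    rw [M.faithful S, Subgroup.mem_bot] at h4
    exact ht1 h4
  -- `A` normalizes the block of `D`
  have hAE : A ≤ Subgroup.normalizer ((⁅Q, D⁆ ⊔ D : Subgroup G) : Set G) := by
    intro a ha
    apply mem_normalizer_of_map_conj_eq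
    have hxV := hAV ha
    have hxH := hAH ha
    have M' := M.conj' hxV hxH
    have hconj := M.EA_conj hS3 S hxV hxH
    by_contra hne
    have hne' : ⁅Q, D.map (MulAut.conj a).toMonoidHom⁆ ⊔ D.map (MulAut.conj a).toMonoidHom ≠
        ⁅Q, D⁆ ⊔ D := by
      rw [← hconj]; exact hne
    have h3 := M.block_le_CW hS3 S M' hne'
    have ht' : t ∈ (⁅Q, D⁆ ⊔ D).map (MulAut.conj a).toMonoidHom := by
      refine ⟨t, htE, ?_⟩
      simp only [MulEquiv.coe_toMonoidHom, MulAut.conj_apply]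
      rw [hAc a ha t htA]; group
    rw [hconj] at ht'
    exact htW (h3 ht').2
  have hAW : A ≤ Subgroup.normalizer ((⁅V, ⁅Q, D⁆ ⊔ D⁆ : Subgroup G) : Set G) := by
    intro a ha
    apply mem_normalizer_of_map_conj_eq
    rw [Subgroup.map_commutator, map_conj_eq_of_mem_normalizer (hAV ha),
      map_conj_eq_of_mem_normalizer (hAE ha)]
  have hWcard := M.card_W S
  obtain ⟨AE, hAEdef⟩ : ∃ AE : Subgroup G,
      AE = A ⊓ Subgroup.centralizer ((⁅V, ⁅Q, D⁆ ⊔ D⁆ : Subgroup G) : Set G) := ⟨_, rfl⟩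
  have hidx : Nat.card A ≤ 2 * Nat.card AE := by
    rw [hAEdef]; exact card_le_mul_of_plane hA2 hWcard hAW
  have hAEA : AE ≤ A := by rw [hAEdef]; exact inf_le_left
  have hAEW : AE ≤ Subgroup.centralizer ((⁅V, ⁅Q, D⁆ ⊔ D⁆ : Subgroup G) : Set G) := by
    rw [hAEdef]; exact inf_le_right
  have htAE : t ∉ AE := fun h => htW (hAEW h)
  have hAElt : AE < A := lt_of_le_of_ne hAEA (fun h => htAE (h ▸ htA))
  have hWV' : ⁅V, ⁅Q, D⁆ ⊔ D⁆ ≤ V := M.W_le S
  have hWFE : ⁅V, ⁅Q, D⁆ ⊔ D⁆ ≤ V ⊓ Subgroup.centralizer (AE : Set G) :=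
    le_inf hWV' (Subgroup.le_centralizer_iff.mp hAEW)
  have hFFE : V ⊓ Subgroup.centralizer (A : Set G) ≤ V ⊓ Subgroup.centralizer (AE : Set G) :=
    inf_le_inf_left V (Subgroup.centralizer_le (SetLike.coe_subset_coe.mpr hAEA))
  -- the intersection of the plane with the fixed points of `A` is small
  obtain ⟨m, hm⟩ : ∃ m : ℕ, m = Nat.card ↥(⁅V, ⁅Q, D⁆ ⊔ D⁆ ⊓
      (V ⊓ Subgroup.centralizer (A : Set G)) : Subgroup G) := ⟨_, rfl⟩
  have hm2 : m ≤ 2 := by
    have hlt : ⁅V, ⁅Q, D⁆ ⊔ D⁆ ⊓ (V ⊓ Subgroup.centralizer (A : Set G)) < ⁅V, ⁅Q, D⁆ ⊔ D⁆ := by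
      refine lt_of_le_of_ne inf_le_left (fun h => ?_)
      have hWA : ⁅V, ⁅Q, D⁆ ⊔ D⁆ ≤ Subgroup.centralizer (A : Set G) := by
        rw [← h]; exact inf_le_right.trans inf_le_right
      exact htW ((Subgroup.le_centralizer_iff.mp hWA) htA)
    have hdvd := Subgroup.card_dvd_of_le hlt.le
    have hlt' := card_lt_of_lt hlt
    rw [hWcard, ← hm] at hdvd hlt'
    have h4 : m ≤ 4 := Nat.le_of_dvd (by norm_num) (by simpa using hdvd)
    have h3 : m ≠ 3 := by
      intro h
      rw [h] at hdvd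
      norm_num at hdvd
    have : m < 4 := by simpa using hlt'
    omega
  have hprod := card_sup_mul_card_inf (⁅V, ⁅Q, D⁆ ⊔ D⁆ : Subgroup G)
    (V ⊓ Subgroup.centralizer (A : Set G)) (by
      intro w hw
      apply Cfsg.Agent.Lib.Helper2.mem_normalizer_of_commute
      intro y hy
      exact hVc w (hWV' hw) y hy.1)
  rw [← hm, hWcard] at hprod
  have hsup : Nat.card ↥(⁅V, ⁅Q, D⁆ ⊔ D⁆ ⊔ (V ⊓ Subgroup.centralizer (A : Set G)) : Subgroup G) ≤
      Nat.card ↥(V ⊓ Subgroup.centralizer (AE : Set G) : Subgroup G) :=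
    Subgroup.card_le_of_le (sup_le hWFE hFFE)
  have h2F : 2 * Nat.card ↥(V ⊓ Subgroup.centralizer (A : Set G) : Subgroup G) ≤
      Nat.card ↥(V ⊓ Subgroup.centralizer (AE : Set G) : Subgroup G) := by
    have h5 : 2 ^ 2 * Nat.card ↥(V ⊓ Subgroup.centralizer (A : Set G) : Subgroup G) ≤
        Nat.card ↥(V ⊓ Subgroup.centralizer (AE : Set G) : Subgroup G) * 2 := by
      rw [← hprod]
      exact Nat.mul_le_mul hsup hm2
    omega
  have hff : ff V A ≤ ff V AE := by
    unfold ff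
    have h5 := Nat.mul_le_mul hidx h2F
    have h6 : 2 * (Nat.card A * Nat.card ↥(V ⊓ Subgroup.centralizer (A : Set G) : Subgroup G)) ≤
        2 * (Nat.card AE * Nat.card ↥(V ⊓ Subgroup.centralizer (AE : Set G) : Subgroup G)) := by
      calc _ = Nat.card A * (2 * Nat.card ↥(V ⊓ Subgroup.centralizer (A : Set G) : Subgroup G)) := by
            ring
        _ ≤ _ := h5
        _ = _ := by ring
    exact Nat.le_of_mul_le_mul_left h6 (by norm_num)
  have hWBE : WB V AE := fun B hB => (hWB B (hB.trans hAEA)).trans hff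
  have hih := ih (Nat.card AE) (by rw [← hn]; exact card_lt_of_lt hAElt) AE rfl
    (hA2.to_le hAEA) (fun a ha b hb => hAc a (hAEA ha) b (hAEA hb)) (hAEA.trans hAV)
    (hAEA.trans hAH) (by
      rw [eq_bot_iff, ← hAf]
      exact inf_le_inf_right _ hAEA) hWBE (fun B hB => hHb B (hB.trans hAEA))
  -- `A = AE ⊔ ⟨t⟩`
  have hgen : A ≤ AE ⊔ Subgroup.zpowers t := by
    have hle : AE ⊔ Subgroup.zpowers t ≤ A := sup_le hAEA (Subgroup.zpowers_le.mpr htA)
    have hlt : AE < AE ⊔ Subgroup.zpowers t := by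
      refine lt_of_le_of_ne le_sup_left (fun h => htAE ?_)
      rw [h]
      exact (le_sup_right : Subgroup.zpowers t ≤ AE ⊔ Subgroup.zpowers t)
        (Subgroup.mem_zpowers t)
    obtain ⟨k, hk⟩ := Subgroup.card_dvd_of_le hlt.le
    have hlt' := card_lt_of_lt hlt
    have hpos : 0 < Nat.card AE := Nat.card_pos
    have hk2 : 2 ≤ k := by
      by_contra hc
      push Not at hc
      interval_cases k
      · rw [mul_zero] at hk; rw [hk] at hlt'; omega
      · rw [mul_one] at hk; rw [hk] at hlt'; omega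
    have hge : Nat.card A ≤ Nat.card ↥(AE ⊔ Subgroup.zpowers t : Subgroup G) := by
      rw [hk]
      calc Nat.card A ≤ 2 * Nat.card AE := hidx
        _ = Nat.card AE * 2 := by ring
        _ ≤ Nat.card AE * k := Nat.mul_le_mul_left _ hk2
    exact le_of_eq (Subgroup.eq_of_le_of_card_ge hle hge).symm
  refine hgen.trans (sup_le ?_ ?_)
  · refine hih.trans ?_
    exact iSup₂_mono (fun D' _ => inf_le_inf_right _ hAEA)
  · exact le_iSup₂_of_le D M (le_inf (Subgroup.zpowers_le.mpr htA) (Subgroup.zpowers_le.mpr htE))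

end main

end Cfsg.Agent.Lib.Lead.KS94
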