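import Mathlib
import Cfsg.Agent.Lib.Lead.KS94a
import Cfsg.Agent.Lib.Lead.KS93x

set_option autoImplicit false

/-!
`SL(2, 2) ≅ S₃`, and the structure of a normal subgroup generated by abelian weak best offenders.
-/

namespace Cfsg.Agent.Lib.Lead.KS94

open scoped commutatorElement
open Cfsg.Agent.Lib.Lead Cfsg.Agent.Lib.Lead.KS93 Cfsg.Agent.Lib.Helper2.Replacement

/-- `SL(2, 2)` -/
abbrev M2 := Matrix.SpecialLinearGroup (Fin 2) (ZMod 2)

theorem sl22_gen : ∀ x g : M2, x ≠ 1 → x * x = 1 →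
    (∃ a b : M2, g = a * x * a⁻¹ * (b * x * b⁻¹)) ∨ (∃ a : M2, g = a * x * a⁻¹) := by
  decide +kernel

theorem sl22_orders : ∀ x : M2, x * x = 1 ∨ x * x * x = 1 := by
  decide +kernel

/-- the three nonzero vectors of `F₂²` -/
def vec3 : Fin 3 → (Fin 2 → ZMod 2) := ![![1, 0], ![0, 1], ![1, 1]]

/-- the index of a nonzero vector -/
def idx3 (v : Fin 2 → ZMod 2) : Fin 3 :=
  if v = ![1, 0] then 0 else if v = ![0, 1] then 1 else 2

/-- the action of `SL(2, 2)` on the three nonzero vectors -/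
def act3 (g : M2) (i : Fin 3) : Fin 3 := idx3 (g.1.mulVec (vec3 i))

theorem act3_inv : ∀ (g : M2) (i : Fin 3), act3 g⁻¹ (act3 g i) = i := by
  decide +kernel

theorem act3_mul : ∀ (g h : M2) (i : Fin 3), act3 (g * h) i = act3 g (act3 h i) := by
  decide +kernel

theorem act3_inj : ∀ g h : M2, (∀ i, act3 g i = act3 h i) → g = h := by
  decide +kernel

theorem card_M2 : Fintype.card M2 = 6 := by
  decide +kernel

/-- the permutation induced by an element of `SL(2, 2)` -/
def toPerm3 (g : M2) : Equiv.Perm (Fin 3) :=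
  ⟨act3 g, act3 g⁻¹, act3_inv g, fun i => by
    have := act3_inv g⁻¹ i
    rwa [inv_inv] at this⟩

/-- the permutation representation of `SL(2, 2)` -/
def toPermHom3 : M2 →* Equiv.Perm (Fin 3) :=
  MonoidHom.mk' toPerm3 (fun g h => Equiv.ext (act3_mul g h))

theorem toPermHom3_bijective : Function.Bijective toPermHom3 := by
  rw [Fintype.bijective_iff_injective_and_card]
  refine ⟨?_, ?_⟩
  · intro g h hgh
    apply act3_inj
    intro i
    exact congrArg (fun σ : Equiv.Perm (Fin 3) => σ i) hgh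
  · rw [card_M2, Fintype.card_perm, Fintype.card_fin]
    rfl

/-- `SL(2, 2) ≅ S₃` -/
noncomputable def sl22EquivPerm : M2 ≃* Equiv.Perm (Fin 3) :=
  MulEquiv.ofBijective toPermHom3 toPermHom3_bijective

/-- a normal subgroup of a copy of `SL(2, 2)` containing a nontrivial `2`-element is everything -/
theorem eq_top_of_normal_of_two_element {E : Type*} [Group E] (e : E ≃* M2) (N : Subgroup E)
    [hN : N.Normal] {x : E} (hxN : x ∈ N) (hx1 : x ≠ 1) (hx2 : ∃ k : ℕ, x ^ 2 ^ k = 1) : N = ⊤ := by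
  have hx1' : e x ≠ 1 := fun h => hx1 (by simpa using h)
  have hxx : e x * e x = 1 := by
    rcases sl22_orders (e x) with h | h
    · exact h
    · exfalso
      obtain ⟨k, hk⟩ := hx2
      have h3 : orderOf (e x) ∣ 3 := by
        apply orderOf_dvd_of_pow_eq_one
        rw [pow_succ, pow_two]; exact h
      have h2 : orderOf (e x) ∣ 2 ^ k := by
        apply orderOf_dvd_of_pow_eq_one
        rw [← map_pow, hk, map_one]
      have h1 : orderOf (e x) ∣ 1 := by
        have := Nat.dvd_gcd h3 h2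
        have hg : Nat.gcd 3 (2 ^ k) = 1 := Nat.Coprime.pow_right k (by norm_num)
        rwa [hg] at this
      exact hx1' (orderOf_eq_one_iff.mp (Nat.dvd_one.mp h1))
  rw [eq_top_iff]
  intro g _
  have key : ∀ a : M2, e.symm (a * e x * a⁻¹) ∈ N := by
    intro a
    have : e.symm (a * e x * a⁻¹) = e.symm a * x * (e.symm a)⁻¹ := by
      rw [map_mul, map_mul, map_inv, MulEquiv.symm_apply_apply]
    rw [this]
    exact hN.conj_mem x hxN _
  rcases sl22_gen (e x) (e g) hx1' hxx with ⟨a, b, hab⟩ | ⟨a, ha⟩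
  · have : g = e.symm (a * e x * a⁻¹) * e.symm (b * e x * b⁻¹) := by
      rw [← map_mul, ← hab, MulEquiv.symm_apply_apply]
    rw [this]
    exact N.mul_mem (key a) (key b)
  · have : g = e.symm (a * e x * a⁻¹) := by
      rw [← ha, MulEquiv.symm_apply_apply]
    rw [this]
    exact key a

section pi
variable {G : Type*} [Group G]

/-- an internal direct product of copies of `K` -/
theorem iso_pi_of_indep {ι : Type*} [Fintype ι] (E : ι → Subgroup G)
    (hcomm : Pairwise fun i j => ∀ x y : G, x ∈ E i → y ∈ E j → Commute x y)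
    (hind : iSupIndep E) {K : Type*} [Group K] (e : ∀ i, Nonempty (↥(E i) ≃* K)) :
    Nonempty (↥(⨆ i, E i) ≃* (Fin (Fintype.card ι) → K)) := by
  classical
  have hinj : Function.Injective (Subgroup.noncommPiCoprod hcomm) :=
    Subgroup.injective_noncommPiCoprod_of_iSupIndep hind
  have hrange : (Subgroup.noncommPiCoprod hcomm).range = ⨆ i, E i :=
    Subgroup.noncommPiCoprod_range
  let e1 : (∀ i, ↥(E i)) ≃* ↥(Subgroup.noncommPiCoprod hcomm).range := MonoidHom.ofInjective hinj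
  let e2 : ↥(Subgroup.noncommPiCoprod hcomm).range ≃* ↥(⨆ i, E i) := MulEquiv.subgroupCongr hrange
  let e3 : (∀ i, ↥(E i)) ≃* (ι → K) := MulEquiv.piCongrRight (fun i => (e i).some)
  let e4 : (ι → K) ≃* (Fin (Fintype.card ι) → K) :=
    MulEquiv.arrowCongr (Fintype.equivFin ι) (MulEquiv.refl K)
  exact ⟨((e2.symm.trans e1.symm).trans e3).trans e4⟩

end pi

section family
variable {G : Type*} [Group G] [Finite G] {V H Q : Subgroup G}

/-- the hypotheses on a member of the generating family -/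
def Good (V H A : Subgroup G) : Prop :=
  IsPGroup 2 A ∧ (∀ a ∈ A, ∀ b ∈ A, a * b = b * a) ∧
    A ≤ Subgroup.normalizer (V : Set G) ∧ A ≤ Subgroup.normalizer (H : Set G) ∧
    A ⊓ Subgroup.centralizer (V : Set G) = ⊥ ∧ WB V A ∧
    ∀ B : Subgroup G, B ≤ A → Cfsg.IsBestOffenderOn 2 V B → B ≤ H

/-- a subgroup generated by good subgroups and normalized by `H` is a direct product of
copies of `S₃` -/
theorem structure_of_family (S : Setup 2 V H Q)
    (hS3 : H = ⨆ A : {A : Subgroup G // A ≤ H ∧ Cfsg.IsBestOffenderOn 2 V A}, (A : Subgroup G))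
    (F : Set (Subgroup G)) (hF : ∀ A ∈ F, Good V H A)
    (hHY : H ≤ Subgroup.normalizer ((sSup F : Subgroup G) : Set G)) (hY1 : sSup F ≠ ⊥) :
    ∃ n : ℕ, 1 ≤ n ∧ Nonempty (↥(sSup F) ≃* (Fin n → Equiv.Perm (Fin 3))) := by
  classical
  haveI : Fact (Nat.Prime 2) := ⟨Nat.prime_two⟩
  obtain ⟨Y, hY⟩ : ∃ Y : Subgroup G, Y = sSup F := ⟨_, rfl⟩
  rw [← hY] at hHY hY1 ⊢
  -- the index type of blocks inside `Y`
  let ι := {E : Subgroup G // (∃ D : Subgroup G, MinOff 2 V H D ∧ E = ⁅Q, D⁆ ⊔ D) ∧ E ≤ Y}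
  haveI : Fintype ι := Fintype.ofFinite ι
  let E : ι → Subgroup G := fun i => i.1
  have hE : ∀ i, ∃ A : Subgroup G, MinOff 2 V H A ∧ E i = ⁅Q, A⁆ ⊔ A := fun i => i.2.1
  have hinj : Function.Injective E := Subtype.val_injective
  have hind : iSupIndep E := blocks_iSupIndep hS3 E hE hinj S
  have hcomm : Pairwise fun i j => ∀ x y : G, x ∈ E i → y ∈ E j → Commute x y := by
    intro i j hij x y hx hy
    obtain ⟨A, MA, hA⟩ := hE i
    obtain ⟨D, MD, hD⟩ := hE j
    have hne : ⁅Q, D⁆ ⊔ D ≠ ⁅Q, A⁆ ⊔ A := by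
      rw [← hA, ← hD]
      exact fun h => hij (hinj h.symm)
    have h1 := MA.block_commute hS3 S MD hne
    rw [hD] at hy
    rw [hA] at hx
    exact (Subgroup.mem_centralizer_iff.mp (h1 hy) x hx)
  have hiso : ∀ i, Nonempty (↥(E i) ≃* Equiv.Perm (Fin 3)) := by
    intro i
    obtain ⟨A, MA, hA⟩ := hE i
    obtain ⟨-, ⟨e⟩⟩ := MA.iso S
    exact ⟨(MulEquiv.subgroupCongr hA).trans (e.trans sl22EquivPerm)⟩
  -- `Y` is the join of the blocks it contains
  have hYE : Y = ⨆ i, E i := by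
    apply le_antisymm
    · rw [hY]
      apply sSup_le
      intro A hAF
      obtain ⟨hA2, hAc, hAV, hAH, hAf, hWB, hHb⟩ := hF A hAF
      have hAY : A ≤ Y := by rw [hY]; exact le_sSup hAF
      refine (le_comp S hS3 _ A rfl hA2 hAc hAV hAH hAf hWB hHb).trans ?_
      apply iSup₂_le
      intro D MD
      by_cases hbot : A ⊓ (⁅Q, D⁆ ⊔ D) = ⊥
      · rw [hbot]; exact bot_le
      · -- then the block lies in `Y`
        obtain ⟨x, hx, hx1⟩ : ∃ x ∈ A ⊓ (⁅Q, D⁆ ⊔ D), x ≠ 1 := by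
          by_contra h
          push Not at h
          exact hbot ((Subgroup.eq_bot_iff_forall _).mpr h)
        obtain ⟨-, ⟨e⟩⟩ := MD.iso S
        have hEn : ⁅Q, D⁆ ⊔ D ≤ Subgroup.normalizer (Y : Set G) := (MD.EA_le S).trans hHY
        haveI hNn : (Y.subgroupOf (⁅Q, D⁆ ⊔ D)).Normal :=
          Subgroup.normal_subgroupOf_of_le_normalizer hEn
        have hx2 : ∃ k : ℕ, x ^ 2 ^ k = 1 := by
          obtain ⟨k, hk⟩ := hA2 ⟨x, hx.1⟩
          refine ⟨k, ?_⟩
          have := congrArg Subtype.val hk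
          simpa using this
        have htop := eq_top_of_normal_of_two_element e (Y.subgroupOf (⁅Q, D⁆ ⊔ D))
          (x := ⟨x, hx.2⟩) (by
            rw [Subgroup.mem_subgroupOf]; exact hAY hx.1)
          (fun h => hx1 (congrArg Subtype.val h))
          (by
            obtain ⟨k, hk⟩ := hx2
            exact ⟨k, Subtype.ext (by simpa using hk)⟩)
        have hEY : ⁅Q, D⁆ ⊔ D ≤ Y := Subgroup.subgroupOf_eq_top.mp htop
        exact inf_le_right.trans (le_iSup E ⟨⁅Q, D⁆ ⊔ D, ⟨D, MD, rfl⟩, hEY⟩)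
    · exact iSup_le fun i => i.2.2
  have hne : Nonempty ι := by
    by_contra h
    rw [not_nonempty_iff] at h
    apply hY1
    rw [hYE, iSup_of_empty]
  obtain ⟨e⟩ := iso_pi_of_indep E hcomm hind hiso
  refine ⟨Fintype.card ι, Fintype.card_pos, ?_⟩
  exact ⟨(MulEquiv.subgroupCongr hYE).trans e⟩

end family

end Cfsg.Agent.Lib.Lead.KS94
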