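import Mathlib
import Cfsg.Agent.Lib.Lead.KS94b
import Cfsg.Agent.Lib.Lead.Thom8
import Cfsg.Agent.Lib.Lead.Holo3
import Cfsg.Agent.Lib.Helper9.PCore
import Cfsg.Agent.S0044

set_option autoImplicit false

/-!
Group-theoretic preparations for the Thompson factorization dichotomy in solvable groups
with `F(X) = O₂(X)`.
-/

namespace Cfsg.Agent.Lib.Lead.KS94

open scoped commutatorElement Pointwise
open Cfsg.Agent.Lib.Lead Cfsg.Agent.Lib.Lead.KS93 Cfsg.Agent.Lib.Helper2.Replacement

universe u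

section X
variable {X : Type u} [Group X]

/-- the normal core of the centralizer is the centralizer of the normal closure -/
theorem normalCore_centralizer (Z : Subgroup X) :
    (Subgroup.centralizer (Z : Set X)).normalCore =
      Subgroup.centralizer ((Subgroup.normalClosure (Z : Set X) : Subgroup X) : Set X) := by
  apply le_antisymm
  · rw [Subgroup.le_centralizer_iff]
    apply Subgroup.normalClosure_le_normal
    intro z hz
    exact (Subgroup.le_centralizer_iff.mp (Subgroup.normalCore_le _)) hz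
  · rw [Subgroup.normal_le_normalCore]
    exact Subgroup.centralizer_le Subgroup.subset_normalClosure

/-- the elements of order at most `2` of an abelian subgroup -/
theorem exists_Om1 (V : Subgroup X) (hVc : ∀ x ∈ V, ∀ y ∈ V, x * y = y * x) :
    ∃ V1 : Subgroup X, ∀ v, v ∈ V1 ↔ v ∈ V ∧ v ^ 2 = 1 := by
  refine ⟨{ carrier := {v | v ∈ V ∧ v ^ 2 = 1}
            mul_mem' := ?_
            one_mem' := ⟨V.one_mem, one_pow 2⟩
            inv_mem' := ?_ }, fun v => Iff.rfl⟩
  · rintro a b ⟨ha, ha2⟩ ⟨hb, hb2⟩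
    refine ⟨V.mul_mem ha hb, ?_⟩
    have h1 : (a * b) ^ 2 = a ^ 2 * b ^ 2 := by
      rw [pow_two, pow_two, pow_two]
      calc a * b * (a * b) = a * (b * a) * b := by group
        _ = a * (a * b) * b := by rw [hVc b hb a ha]
        _ = a * a * (b * b) := by group
    rw [h1, ha2, hb2, one_mul]
  · rintro a ⟨ha, ha2⟩
    exact ⟨V.inv_mem ha, by rw [inv_pow, ha2, inv_one]⟩

/-- an element of odd order centralizing `Ω₁(V)` centralizes the abelian `2`-group `V` -/
theorem mem_centralizer_of_odd {V V1 : Subgroup X} (hVc : ∀ x ∈ V, ∀ y ∈ V, x * y = y * x)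
    (hV1 : ∀ v, v ∈ V1 ↔ v ∈ V ∧ v ^ 2 = 1) (hV2 : IsPGroup 2 V) {x : X}
    (hxV : x ∈ Subgroup.normalizer (V : Set X)) {m : ℕ} (hm : Odd m) (hxm : x ^ m = 1)
    (hx1 : x ∈ Subgroup.centralizer (V1 : Set X)) : x ∈ Subgroup.centralizer (V : Set X) := by
  have key : ∀ k : ℕ, ∀ v ∈ V, v ^ 2 ^ k = 1 → x * v * x⁻¹ = v := by
    intro k
    induction k with
    | zero =>
      intro v _ hv1
      rw [pow_zero, pow_one] at hv1
      rw [hv1]; group
    | succ k ih =>
      intro v hv hvk
      have hv2 : (v ^ 2) ^ 2 ^ k = 1 := by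
        rw [← pow_mul, ← pow_succ']; exact hvk
      have h1 := ih (v ^ 2) (V.pow_mem hv 2) hv2
      have hu : x * v * x⁻¹ ∈ V := (Subgroup.mem_normalizer_iff.mp hxV v).mp hv
      obtain ⟨w, hw⟩ : ∃ w, w = v⁻¹ * (x * v * x⁻¹) := ⟨_, rfl⟩
      have hwV : w ∈ V := by rw [hw]; exact V.mul_mem (V.inv_mem hv) hu
      have hw2 : w ^ 2 = 1 := by
        have e1 : (x * v * x⁻¹) ^ 2 = x * v ^ 2 * x⁻¹ := by
          rw [pow_two, pow_two]; group
        have e2 : w ^ 2 = (v⁻¹) ^ 2 * (x * v * x⁻¹) ^ 2 := by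
          rw [hw, pow_two, pow_two, pow_two]
          calc v⁻¹ * (x * v * x⁻¹) * (v⁻¹ * (x * v * x⁻¹))
              = v⁻¹ * ((x * v * x⁻¹) * v⁻¹) * (x * v * x⁻¹) := by group
            _ = v⁻¹ * (v⁻¹ * (x * v * x⁻¹)) * (x * v * x⁻¹) := by
                rw [hVc _ hu _ (V.inv_mem hv)]
            _ = v⁻¹ * v⁻¹ * ((x * v * x⁻¹) * (x * v * x⁻¹)) := by group
        rw [e2, e1, h1, inv_pow, inv_mul_cancel]
      have hwx : x * w * x⁻¹ = w := by
        have h2 := Subgroup.mem_centralizer_iff.mp hx1 w ((hV1 w).mpr ⟨hwV, hw2⟩)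
        rw [← h2]; group
      have hxv : x * v * x⁻¹ = v * w := by rw [hw]; group
      have hpow : ∀ j : ℕ, x ^ j * v * (x ^ j)⁻¹ = v * w ^ j := by
        intro j
        induction j with
        | zero => simp
        | succ j ihj =>
          calc x ^ (j + 1) * v * (x ^ (j + 1))⁻¹
              = x * (x ^ j * v * (x ^ j)⁻¹) * x⁻¹ := by rw [pow_succ']; group
            _ = x * (v * w ^ j) * x⁻¹ := by rw [ihj]
            _ = (x * v * x⁻¹) * (x * w * x⁻¹) ^ j := by rw [conj_pow]; group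
            _ = v * w * w ^ j := by rw [hxv, hwx]
            _ = v * w ^ (j + 1) := by rw [pow_succ']; group
      have h3 := hpow m
      rw [hxm] at h3
      have h4 : w ^ m = 1 := by
        have : v = v * w ^ m := by simpa using h3
        exact (mul_eq_left (a := v)).mp this.symm
      obtain ⟨r, hr⟩ := hm
      have h5 : w = 1 := by
        rw [hr, pow_succ, pow_mul, hw2, one_pow, one_mul] at h4
        exact h4
      rw [hxv, h5, mul_one]
  rw [Subgroup.mem_centralizer_iff]
  intro v hv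
  obtain ⟨k, hk⟩ := hV2 ⟨v, hv⟩
  have hk' : v ^ 2 ^ k = 1 := by
    have := congrArg Subtype.val hk
    simpa using this
  have := key k v hv hk'
  calc v * x = (x * v * x⁻¹) * x := by rw [this]
    _ = x * v := by group

end X

section XF
variable {X : Type u} [Group X] [Finite X]

/-- `O_p(X / C_X(V)) = 1` when `V` is generated by its subgroups centralized by Sylow subgroups -/
theorem pCore_quotient_eq_bot {p : ℕ} [Fact p.Prime] (V : Subgroup X) [V.Normal]
    [hn : (Subgroup.centralizer (V : Set X)).Normal]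
    (hgen : V ≤ ⨆ S : Sylow p X, V ⊓ Subgroup.centralizer ((S : Subgroup X) : Set X)) :
    Cfsg.pCore p (X ⧸ Subgroup.centralizer (V : Set X)) = ⊥ := by
  obtain ⟨C, hC⟩ : ∃ C : Subgroup X, C = Subgroup.centralizer (V : Set X) := ⟨_, rfl⟩
  subst hC
  unfold Cfsg.pCore
  rw [sSup_eq_bot]
  rintro N ⟨hNn, hNp⟩
  haveI := hNn
  rw [eq_bot_iff]
  intro q hq
  rw [Subgroup.mem_bot]
  obtain ⟨x, rfl⟩ := QuotientGroup.mk'_surjective (Subgroup.centralizer (V : Set X)) q
  rw [QuotientGroup.mk'_apply, QuotientGroup.eq_one_iff]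
  have hVx : V ≤ Subgroup.centralizer ({x} : Set X) := by
    refine hgen.trans (iSup_le fun S => ?_)
    intro w hw
    obtain ⟨hwV, hwS⟩ := Subgroup.mem_inf.mp hw
    have hNS : N ≤ (S.mapSurjective (QuotientGroup.mk'_surjective
        (Subgroup.centralizer (V : Set X))) : Sylow p (X ⧸ Subgroup.centralizer (V : Set X))) :=
      hNp.le_sylow_of_normal _
    have h0 : (QuotientGroup.mk' (Subgroup.centralizer (V : Set X)) x) ∈
        ((S.mapSurjective (QuotientGroup.mk'_surjective (Subgroup.centralizer (V : Set X))) :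
          Sylow p (X ⧸ Subgroup.centralizer (V : Set X))) :
          Subgroup (X ⧸ Subgroup.centralizer (V : Set X))) := hNS hq
    rw [Sylow.coe_mapSurjective] at h0
    obtain ⟨s, hs, hsx⟩ := h0
    have hc : s⁻¹ * x ∈ Subgroup.centralizer (V : Set X) := by
      rw [← QuotientGroup.eq]; exact hsx
    rw [Subgroup.mem_centralizer_iff]
    intro y hy
    rw [Set.mem_singleton_iff] at hy
    subst hy
    rw [Subgroup.mem_centralizer_iff] at hwS hc
    have h1 : s * w = w * s := hwS s hs
    have h2 : w * (s⁻¹ * y) = (s⁻¹ * y) * w := hc w hwV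
    calc y * w = s * ((s⁻¹ * y) * w) := by group
      _ = s * (w * (s⁻¹ * y)) := by rw [h2]
      _ = (s * w) * (s⁻¹ * y) := by group
      _ = (w * s) * (s⁻¹ * y) := by rw [h1]
      _ = w * y := by group
  rw [Subgroup.mem_centralizer_iff]
  intro v hv
  have := hVx hv
  rw [Subgroup.mem_centralizer_iff] at this
  exact (this x rfl).symm

/-- the normal closure of the centre of a Sylow subgroup is generated by subgroups centralized
by Sylow subgroups -/
theorem normalClosure_center_le {p : ℕ} [Fact p.Prime] (T : Sylow p X) :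
    Subgroup.normalClosure
        ((((T : Subgroup X) ⊓ Subgroup.centralizer ((T : Subgroup X) : Set X) : Subgroup X)) : Set X) ≤
      ⨆ S : Sylow p X, Subgroup.normalClosure
        ((((T : Subgroup X) ⊓ Subgroup.centralizer ((T : Subgroup X) : Set X) : Subgroup X)) : Set X) ⊓
          Subgroup.centralizer ((S : Subgroup X) : Set X) := by
  unfold Subgroup.normalClosure
  rw [Subgroup.closure_le]
  intro a ha
  rw [Group.mem_conjugatesOfSet_iff] at ha
  obtain ⟨z, hz, hconj⟩ := ha
  rw [isConj_iff] at hconj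
  obtain ⟨c, rfl⟩ := hconj
  refine (le_iSup (fun S : Sylow p X => Subgroup.closure (Group.conjugatesOfSet
    ((((T : Subgroup X) ⊓ Subgroup.centralizer ((T : Subgroup X) : Set X) : Subgroup X)) : Set X)) ⊓
      Subgroup.centralizer ((S : Subgroup X) : Set X)) (c • T)) ?_
  refine Subgroup.mem_inf.mpr ⟨?_, ?_⟩
  · apply Subgroup.subset_closure
    rw [Group.mem_conjugatesOfSet_iff]
    exact ⟨z, hz, isConj_iff.mpr ⟨c, rfl⟩⟩
  · rw [Subgroup.mem_centralizer_iff]
    intro s hs
    rw [SetLike.mem_coe, Sylow.coe_subgroup_smul,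
      Subgroup.mem_pointwise_smul_iff_inv_smul_mem] at hs
    have hs' : c⁻¹ * s * c ∈ (T : Subgroup X) := by
      simpa [MulAut.smul_def, map_inv] using hs
    have hz2 := Subgroup.mem_centralizer_iff.mp hz.2 _ hs'
    calc s * (c * z * c⁻¹) = c * ((c⁻¹ * s * c) * z) * c⁻¹ := by group
      _ = c * (z * (c⁻¹ * s * c)) * c⁻¹ := by rw [hz2]
      _ = c * z * c⁻¹ * s := by group

/-- `T ⊓ Y` is a Sylow subgroup of the normal subgroup `Y` -/
theorem exists_sylow_map_eq_inf {p : ℕ} [hp : Fact p.Prime] (T : Sylow p X) (Y : Subgroup X)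
    [hY : Y.Normal] :
    ∃ R : Sylow p ↥Y, (R : Subgroup ↥Y).map Y.subtype = (T : Subgroup X) ⊓ Y := by
  have hP : IsPGroup p (((T : Subgroup X) ⊓ Y).subgroupOf Y) :=
    (T.2.to_le inf_le_left).comap_subtype
  have hidx : ¬ p ∣ (((T : Subgroup X) ⊓ Y).subgroupOf Y).index := by
    intro hdvd
    have h1 : Nat.card ↥((T : Subgroup X) ⊓ Y : Subgroup X) *
        (((T : Subgroup X) ⊓ Y).subgroupOf Y).index = Nat.card Y := by
      rw [← card_subgroupOf_of_le (inf_le_right : (T : Subgroup X) ⊓ Y ≤ Y)]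
      exact Subgroup.card_mul_index _
    have h2 := card_sup_mul_card_inf (T : Subgroup X) Y
      (by rw [Subgroup.normalizer_eq_top]; exact le_top)
    have hpos : 0 < Nat.card ↥((T : Subgroup X) ⊓ Y : Subgroup X) := Nat.card_pos
    have h3 : Nat.card ↥((T : Subgroup X) ⊔ Y : Subgroup X) =
        Nat.card (T : Subgroup X) * (((T : Subgroup X) ⊓ Y).subgroupOf Y).index := by
      apply Nat.eq_of_mul_eq_mul_right hpos
      rw [h2, ← h1]; ring
    have h4 : Nat.card ↥((T : Subgroup X) ⊔ Y : Subgroup X) ∣ Nat.card X :=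
      Subgroup.card_subgroup_dvd_card _
    rw [h3, Sylow.card_eq_multiplicity] at h4
    obtain ⟨k, hk⟩ := hdvd
    rw [hk] at h4
    have h5 : p ^ ((Nat.card X).factorization p + 1) ∣ Nat.card X := by
      refine Dvd.dvd.trans ?_ h4
      rw [pow_succ]
      exact ⟨k, by ring⟩
    exact Nat.pow_succ_factorization_not_dvd Nat.card_pos.ne' hp.out h5
  refine ⟨hP.toSylow hidx, ?_⟩
  rw [IsPGroup.toSylow_coe, Subgroup.subgroupOf_map_subtype, inf_assoc, inf_idem]

end XF

end Cfsg.Agent.Lib.Lead.KS94
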