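import Mathlib
import Cfsg.Agent.Lib.Lead.KS94c
import Cfsg.Agent.Lib.Lead.SolvPSolv

set_option autoImplicit false

/-!
The Thompson factorization dichotomy in solvable groups with `F(X) = O₂(X)`: the holomorph part.
-/

namespace Cfsg.Agent.Lib.Lead.KS94

open scoped commutatorElement Pointwise
open Cfsg.Agent.Lib.Lead Cfsg.Agent.Lib.Lead.KS93 Cfsg.Agent.Lib.Helper2.Replacement
open Cfsg.Agent.Lib.Lead.Holo

universe u

section X
variable {X : Type u} [Group X] [Finite X]

/-- Frattini argument for the Thompson subgroup -/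
theorem frattini_J {p : ℕ} [Fact p.Prime] (T : Sylow p X) :
    Subgroup.normalClosure ((Thom.Jn 0 X (T : Subgroup X) : Subgroup X) : Set X) ⊔
      Subgroup.normalizer ((Thom.Jn 0 X (T : Subgroup X) : Subgroup X) : Set X) = ⊤ := by
  obtain ⟨J, hJ⟩ : ∃ J : Subgroup X, J = Thom.Jn 0 X (T : Subgroup X) := ⟨_, rfl⟩
  obtain ⟨Y, hY⟩ : ∃ Y : Subgroup X, Y = Subgroup.normalClosure (J : Set X) := ⟨_, rfl⟩
  have hJT : J ≤ (T : Subgroup X) := by rw [hJ]; exact Thom.Jn_le 0 _
  have hJY : J ≤ Y := by rw [hY]; exact Subgroup.le_normalClosure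
  haveI hYn : Y.Normal := by rw [hY]; exact Subgroup.normalClosure_normal
  have hle : Thom.Jn 0 X (T : Subgroup X) ≤ (T : Subgroup X) ⊓ Y := by
    rw [← hJ]; exact le_inf hJT hJY
  have hmid : Thom.Jn 0 X ((T : Subgroup X) ⊓ Y) = J := by
    rw [hJ]
    exact Thom.Jn_mid 0 (T : Subgroup X) ((T : Subgroup X) ⊓ Y) hle inf_le_left
  have hN : Subgroup.normalizer (((T : Subgroup X) ⊓ Y : Subgroup X) : Set X) ≤
      Subgroup.normalizer (J : Set X) := by
    intro x hx
    apply mem_normalizer_of_map_conj_eq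
    have h2 := Thom.Jn_map 0 (MulAut.conj x).toMonoidHom ((T : Subgroup X) ⊓ Y)
      ((MulAut.conj x).injective.injOn)
    rw [map_conj_eq_of_mem_normalizer hx, hmid] at h2
    exact h2.symm
  obtain ⟨R, hR⟩ := exists_sylow_map_eq_inf T Y
  have h1 : Subgroup.normalizer (((R : Subgroup ↥Y).map Y.subtype : Subgroup X) : Set X) ⊔ Y = ⊤ :=
    Sylow.normalizer_sup_eq_top R
  rw [hR] at h1
  have hgoal : Y ⊔ Subgroup.normalizer (J : Set X) = ⊤ := by
    have h3 : Subgroup.normalizer (((T : Subgroup X) ⊓ Y : Subgroup X) : Set X) ⊔ Y ≤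
        Y ⊔ Subgroup.normalizer (J : Set X) :=
      sup_le (hN.trans le_sup_right) le_sup_left
    exact top_unique (h1.ge.trans h3)
  rw [hY, hJ] at hgoal
  exact hgoal

/-- an abelian subgroup of largest order is a weak best offender on a normal abelian subgroup -/
theorem wb_of_maxIn {V1 D A : Subgroup X} (hV1c : ∀ x ∈ V1, ∀ y ∈ V1, x * y = y * x)
    (hV1D : V1 ≤ D) (hA : A ∈ ZJ.maxIn 0 D) : WB V1 A := by
  intro B hB
  unfold ff
  obtain ⟨hAD, ⟨hAc, -⟩, hmax⟩ := hA
  obtain ⟨F, hF⟩ : ∃ F : Subgroup X, F = V1 ⊓ Subgroup.centralizer (B : Set X) := ⟨_, rfl⟩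
  rw [← hF]
  have hFV : F ≤ V1 := by rw [hF]; exact inf_le_left
  have hFC : F ≤ Subgroup.centralizer (B : Set X) := by rw [hF]; exact inf_le_right
  have hBF : B ≤ Subgroup.normalizer (F : Set X) := by
    intro b hb
    apply Cfsg.Agent.Lib.Helper2.mem_normalizer_of_commute
    intro y hy
    exact Subgroup.mem_centralizer_iff.mp (hFC hy) b hb
  have hab : ZJ.AbelExp 0 (B ⊔ F) := by
    constructor
    · intro x hx y hy
      have hx' : x ∈ ((B ⊔ F : Subgroup X) : Set X) := hx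
      have hy' : y ∈ ((B ⊔ F : Subgroup X) : Set X) := hy
      rw [Subgroup.coe_mul_of_left_le_normalizer_right _ _ hBF] at hx' hy'
      obtain ⟨b1, hb1, f1, hf1, rfl⟩ := hx'
      obtain ⟨b2, hb2, f2, hf2, rfl⟩ := hy'
      have c1 : b1 * b2 = b2 * b1 := hAc b1 (hB hb1) b2 (hB hb2)
      have c2 : f1 * f2 = f2 * f1 := hV1c f1 (hFV hf1) f2 (hFV hf2)
      have c3 : b1 * f2 = f2 * b1 := Subgroup.mem_centralizer_iff.mp (hFC hf2) b1 hb1
      have c4 : b2 * f1 = f1 * b2 := Subgroup.mem_centralizer_iff.mp (hFC hf1) b2 hb2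
      calc b1 * f1 * (b2 * f2) = b1 * (f1 * b2) * f2 := by group
        _ = b1 * (b2 * f1) * f2 := by rw [c4]
        _ = (b1 * b2) * (f1 * f2) := by group
        _ = (b2 * b1) * (f2 * f1) := by rw [c1, c2]
        _ = b2 * (b1 * f2) * f1 := by group
        _ = b2 * (f2 * b1) * f1 := by rw [c3]
        _ = b2 * f2 * (b1 * f1) := by group
    · intro a _; exact pow_zero a
  have hle : B ⊔ F ≤ D := sup_le (hB.trans hAD) (hFV.trans hV1D)
  have hcard := hmax (B ⊔ F) hle hab
  have hprod := card_sup_mul_card_inf B F hBF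
  have hinf : B ⊓ F ≤ V1 ⊓ Subgroup.centralizer (A : Set X) := by
    intro x hx
    refine Subgroup.mem_inf.mpr ⟨hFV hx.2, ?_⟩
    rw [Subgroup.mem_centralizer_iff]
    intro a ha
    exact hAc a ha x (hB hx.1)
  have hc2 := Subgroup.card_le_of_le hinf
  calc Nat.card B * Nat.card F = Nat.card ↥(B ⊔ F) * Nat.card ↥(B ⊓ F) := hprod.symm
    _ ≤ Nat.card A * Nat.card ↥(V1 ⊓ Subgroup.centralizer (A : Set X)) := Nat.mul_le_mul hcard hc2

/-- weak best offenders map to weak best offenders in the holomorph -/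
theorem weak_map (V : Subgroup X) [V.Normal] {A : Subgroup X} (hA : WB V A) :
    WB (VH V) (A.map (psi V)) := by
  intro B' hB'
  unfold ff
  set B : Subgroup X := A ⊓ B'.comap (psi V) with hB
  have hBA : B ≤ A := inf_le_left
  have hBB' : B.map (psi V) = B' := by
    apply le_antisymm
    · rintro _ ⟨b, hb, rfl⟩
      exact hb.2
    · intro b' hb'
      obtain ⟨a, ha, rfl⟩ := hB' hb'
      exact ⟨a, ⟨ha, hb'⟩, rfl⟩
  have hker : B ⊓ (psi V).ker = A ⊓ (psi V).ker := by
    apply le_antisymm (inf_le_inf_right _ hBA)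
    rintro x ⟨hxA, hxk⟩
    refine ⟨⟨hxA, ?_⟩, hxk⟩
    show psi V x ∈ B'
    rw [MonoidHom.mem_ker.mp hxk]
    exact B'.one_mem
  have e1 := card_map_mul_card_inf_ker (psi V) B
  have e2 := card_map_mul_card_inf_ker (psi V) A
  rw [hker, hBB'] at e1
  have hk : 0 < Nat.card ↥(A ⊓ (psi V).ker : Subgroup X) := Nat.card_pos
  have h4 := hA B hBA
  unfold ff at h4
  rw [← e1, ← e2, ← card_fix V B, ← card_fix V A, hBB'] at h4
  have h5 : Nat.card ↥(A ⊓ (psi V).ker : Subgroup X) * (Nat.card B' *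
      Nat.card ↥(VH V ⊓ Subgroup.centralizer ((B' : Subgroup (Hol V)) : Set (Hol V)))) ≤
      Nat.card ↥(A ⊓ (psi V).ker : Subgroup X) * (Nat.card ↥(A.map (psi V)) *
      Nat.card ↥(VH V ⊓ Subgroup.centralizer (((A.map (psi V) : Subgroup (Hol V))) : Set (Hol V)))) := by
    calc _ = Nat.card B' * Nat.card ↥(A ⊓ (psi V).ker : Subgroup X) *
          Nat.card ↥(VH V ⊓ Subgroup.centralizer ((B' : Subgroup (Hol V)) : Set (Hol V))) := by ring
      _ ≤ _ := h4
      _ = _ := by ring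
  exact Nat.le_of_mul_le_mul_left h5 hk

/-- the conjugates of the abelian subgroups of largest order -/
def conjFam (T : Subgroup X) : Set (Subgroup X) :=
  {B | ∃ g : X, ∃ A ∈ ZJ.maxIn 0 T, B = A.map (MulAut.conj g).toMonoidHom}

theorem normalClosure_Jn_eq (T : Subgroup X) :
    Subgroup.normalClosure ((Thom.Jn 0 X T : Subgroup X) : Set X) = sSup (conjFam T) := by
  apply le_antisymm
  · haveI : (sSup (conjFam T)).Normal := by
      constructor
      intro n hn g
      have hmap : (sSup (conjFam T)).map (MulAut.conj g).toMonoidHom ≤ sSup (conjFam T) := by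
        rw [(Subgroup.gc_map_comap (MulAut.conj g).toMonoidHom).l_sSup]
        apply iSup₂_le
        rintro B ⟨h, A, hA, rfl⟩
        apply le_sSup
        exact ⟨g * h, A, hA, (map_conj_mul g h A).symm⟩
      exact hmap ⟨n, hn, by simp [MulAut.conj_apply]⟩
    apply Subgroup.normalClosure_le_normal
    show Thom.Jn 0 X T ≤ sSup (conjFam T)
    unfold Thom.Jn
    apply sSup_le
    intro A hA
    apply le_sSup
    refine ⟨1, A, hA, ?_⟩
    ext x
    simp [MulAut.conj_apply]
  · apply sSup_le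
    rintro B ⟨g, A, hA, rfl⟩
    rintro _ ⟨a, ha, rfl⟩
    have h1 : a ∈ Subgroup.normalClosure ((Thom.Jn 0 X T : Subgroup X) : Set X) :=
      Subgroup.le_normalClosure (Thom.le_Jn hA ha)
    simp only [MulEquiv.coe_toMonoidHom, MulAut.conj_apply]
    exact Subgroup.normalClosure_normal.conj_mem a h1 g

end X

end Cfsg.Agent.Lib.Lead.KS94
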