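import Mathlib
import Cfsg.Agent.Lib.Lead.KS94d
import Cfsg.Agent.Lib.Lead.SolvPSolv

set_option autoImplicit false

/-!
The Thompson factorization dichotomy in solvable groups with `F(X) = O₂(X)`: the holomorph part.
-/

namespace Cfsg.Agent.Lib.Lead.KS94

open scoped commutatorElement Pointwise
open Cfsg.Agent.Lib.Lead Cfsg.Agent.Lib.Lead.KS93 Cfsg.Agent.Lib.Helper2.Replacement
open Cfsg.Agent.Lib.Lead.Holo

universe u

section main
variable {X : Type u} [Group X] [Finite X] [Group.IsSolvable X]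

/-- the holomorph part of the dichotomy -/
theorem hol_part (V1 : Subgroup X) [hVn : V1.Normal] (hV1 : Cfsg.IsElementaryAbelian 2 V1)
    [hn : (Subgroup.centralizer (V1 : Set X)).Normal]
    (hO : Cfsg.pCore 2 (X ⧸ Subgroup.centralizer (V1 : Set X)) = ⊥) (T : Sylow 2 X)
    (hV1T : V1 ≤ (T : Subgroup X))
    (hY : ¬ Subgroup.normalClosure ((Thom.Jn 0 X (T : Subgroup X) : Subgroup X) : Set X) ≤
      Subgroup.centralizer (V1 : Set X)) :
    ∃ n : ℕ, 1 ≤ n ∧ Nonempty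
      (↥(Subgroup.normalClosure ((Thom.Jn 0 X (T : Subgroup X) : Subgroup X) : Set X)) ⧸
        (Subgroup.centralizer (V1 : Set X)).subgroupOf
          (Subgroup.normalClosure ((Thom.Jn 0 X (T : Subgroup X) : Subgroup X) : Set X)) ≃*
        (Fin n → Equiv.Perm (Fin 3))) := by
  classical
  haveI : Fact (Nat.Prime 2) := ⟨Nat.prime_two⟩
  obtain ⟨Y, hYdef⟩ : ∃ Y : Subgroup X,
      Y = Subgroup.normalClosure ((Thom.Jn 0 X (T : Subgroup X) : Subgroup X) : Set X) := ⟨_, rfl⟩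
  rw [← hYdef] at hY ⊢
  haveI hYn : Y.Normal := by rw [hYdef]; exact Subgroup.normalClosure_normal
  have hV1c : ∀ x ∈ V1, ∀ y ∈ V1, x * y = y * x := fun x hx y hy => by
    haveI := hV1.1
    exact Subgroup.mul_comm_of_mem_isMulCommutative V1 hx hy
  have hsep : Cfsg.IsPSolvable 2 X := SolvPSolv.isPSolvable_of_isSolvable' 2 X
  -- the group generated by the best offenders in the image of `X`
  obtain ⟨Γ, hΓ⟩ : ∃ Γ : Subgroup (Hol V1), Γ = (psi V1).range := ⟨_, rfl⟩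
  obtain ⟨H', hH'⟩ : ∃ H' : Subgroup (Hol V1), H' = ⨆ A' : {A' : Subgroup (Hol V1) //
      A' ≤ Γ ∧ Cfsg.IsBestOffenderOn 2 (VH V1) A'}, (A' : Subgroup (Hol V1)) := ⟨_, rfl⟩
  have hH'Γ : H' ≤ Γ := by
    rw [hH']
    exact iSup_le fun A' => A'.2.1
  have hle_H' : ∀ A' : Subgroup (Hol V1), A' ≤ Γ → Cfsg.IsBestOffenderOn 2 (VH V1) A' →
      A' ≤ H' := by
    intro A' h1 h2
    rw [hH']
    exact le_iSup (fun A' : {A' : Subgroup (Hol V1) // A' ≤ Γ ∧
      Cfsg.IsBestOffenderOn 2 (VH V1) A'} => (A' : Subgroup (Hol V1))) ⟨A', h1, h2⟩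
  have hΓn : ∀ γ ∈ Γ, ∀ K : Subgroup (Hol V1), K ≤ Γ →
      K.map (MulAut.conj γ).toMonoidHom ≤ Γ := by
    intro γ hγ K hK
    rintro _ ⟨k, hk, rfl⟩
    simp only [MulEquiv.coe_toMonoidHom, MulAut.conj_apply]
    exact Γ.mul_mem (Γ.mul_mem hγ (hK hk)) (Γ.inv_mem hγ)
  have hΓH' : Γ ≤ Subgroup.normalizer (H' : Set (Hol V1)) := by
    apply ExpSec.le_normalizer_of_conj_mem
    intro γ hγ y hy
    have hmap : H'.map (MulAut.conj γ).toMonoidHom ≤ H' := by
      rw [hH', Subgroup.map_iSup]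
      apply iSup_le
      rintro ⟨A', h1, h2⟩
      rw [← hH']
      exact hle_H' _ (hΓn γ hγ A' h1)
        (bestOffender_conj (le_normalizer_VH V1 Γ hγ) h2)
    exact hmap ⟨y, hy, by simp [MulAut.conj_apply]⟩
  have hS3' : H' = ⨆ A' : {A' : Subgroup (Hol V1) // A' ≤ H' ∧
      Cfsg.IsBestOffenderOn 2 (VH V1) A'}, (A' : Subgroup (Hol V1)) := by
    apply le_antisymm
    · conv_lhs => rw [hH']
      apply iSup_le
      rintro ⟨A', h1, h2⟩
      exact le_iSup (fun A' : {A' : Subgroup (Hol V1) // A' ≤ H' ∧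
        Cfsg.IsBestOffenderOn 2 (VH V1) A'} => (A' : Subgroup (Hol V1)))
        ⟨A', hle_H' A' h1 h2, h2⟩
    · exact iSup_le fun A' => A'.2.1
  -- the pullback of `H'`
  obtain ⟨J', hJ'⟩ : ∃ J' : Subgroup X, J' = H'.comap (psi V1) := ⟨_, rfl⟩
  have hJ'map : H' = J'.map (psi V1) := by
    rw [hJ', Subgroup.map_comap_eq_self]
    rw [← hΓ]; exact hH'Γ
  haveI hJ'n : J'.Normal := by
    constructor
    intro n hn' g
    rw [hJ', Subgroup.mem_comap] at hn' ⊢
    rw [map_mul, map_mul, map_inv]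
    exact (Subgroup.mem_normalizer_iff.mp (hΓH' (by rw [hΓ]; exact ⟨g, rfl⟩)) _).mp hn'
  have hS1' := hS1_of V1 J' hsep hO H' hJ'map
  have hf' : H' ⊓ Subgroup.centralizer ((VH V1 : Subgroup (Hol V1)) : Set (Hol V1)) = ⊥ := by
    rw [eq_bot_iff, ← range_psi_inf_centralizer V1, ← hΓ]
    exact inf_le_inf_right _ hH'Γ
  have S := setup_of_hyps (VH V1) H' (VH_isEA V1 hV1) (le_normalizer_VH V1 H') hf' hS1'
  -- the generating family
  obtain ⟨F, hFdef⟩ : ∃ F : Set (Subgroup (Hol V1)),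
      F = {B' | ∃ B ∈ conjFam (T : Subgroup X), B' = B.map (psi V1)} := ⟨_, rfl⟩
  have hFgood : ∀ B' ∈ F, Good (VH V1) H' B' := by
    intro B' hB'
    rw [hFdef] at hB'
    obtain ⟨B, ⟨g, A, hA, rfl⟩, rfl⟩ := hB'
    have hAg : A.map (MulAut.conj g).toMonoidHom ∈
        ZJ.maxIn 0 ((T : Subgroup X).map (MulAut.conj g).toMonoidHom) :=
      ZJ.map_mem_maxIn_of_injOn _ ((MulAut.conj g).injective.injOn) hA
    have hV1Tg : V1 ≤ (T : Subgroup X).map (MulAut.conj g).toMonoidHom := by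
      have h1 : V1.map (MulAut.conj g).toMonoidHom = V1 := by
        apply map_conj_eq_of_mem_normalizer
        rw [Subgroup.normalizer_eq_top]; exact Subgroup.mem_top g
      rw [← h1]
      exact Subgroup.map_mono hV1T
    have hwb := wb_of_maxIn hV1c hV1Tg hAg
    have hBΓ : (A.map (MulAut.conj g).toMonoidHom).map (psi V1) ≤ Γ := by
      rw [hΓ]; exact Subgroup.map_le_range _ _
    have h2grp : IsPGroup 2 ↥(A.map (MulAut.conj g).toMonoidHom) :=
      ((T.2.to_le hA.1).map (MulAut.conj g).toMonoidHom)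
    refine ⟨h2grp.map (psi V1), ?_, le_normalizer_VH V1 _, hBΓ.trans hΓH', ?_,
      weak_map V1 hwb, ?_⟩
    · rintro _ ⟨a, ha, rfl⟩ _ ⟨b, hb, rfl⟩
      rw [← map_mul, ← map_mul]
      congr 1
      exact hAg.2.1.1 a ha b hb
    · rw [eq_bot_iff, ← range_psi_inf_centralizer V1, ← hΓ]
      exact inf_le_inf_right _ hBΓ
    · intro B'' hB'' hbest
      exact hle_H' B'' (hB''.trans hBΓ) hbest
  have hsSup : sSup F = Y.map (psi V1) := by
    rw [hYdef, normalClosure_Jn_eq, (Subgroup.gc_map_comap (psi V1)).l_sSup, hFdef]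
    apply le_antisymm
    · apply sSup_le
      rintro B' ⟨B, hB, rfl⟩
      exact le_iSup₂_of_le B hB le_rfl
    · apply iSup₂_le
      intro B hB
      apply le_sSup
      exact ⟨B, hB, rfl⟩
  have hHY : H' ≤ Subgroup.normalizer ((sSup F : Subgroup (Hol V1)) : Set (Hol V1)) := by
    rw [hsSup]
    refine hH'Γ.trans ?_
    rw [hΓ]
    rintro _ ⟨g, rfl⟩
    apply mem_normalizer_of_map_conj_eq
    ext y
    constructor
    · rintro ⟨_, ⟨x, hx, rfl⟩, rfl⟩
      refine ⟨g * x * g⁻¹, hYn.conj_mem x hx g, ?_⟩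
      simp [MulAut.conj_apply]
    · rintro ⟨x, hx, rfl⟩
      refine ⟨psi V1 (g⁻¹ * x * g), ⟨g⁻¹ * x * g, ?_, rfl⟩, ?_⟩
      · have := hYn.conj_mem x hx g⁻¹
        simpa using this
      · simp only [MulEquiv.coe_toMonoidHom, MulAut.conj_apply, map_mul, map_inv]
        group
  have hY1 : sSup F ≠ ⊥ := by
    rw [hsSup]
    intro h
    apply hY
    rw [Subgroup.map_eq_bot_iff, ker_psi] at h
    exact h
  obtain ⟨n, hn1, ⟨e⟩⟩ := structure_of_family S hS3' F hFgood hHY hY1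
  refine ⟨n, hn1, ?_⟩
  -- the isomorphism `Y / C_Y(V1) ≃ ψ(Y)`
  let f : ↥Y →* Hol V1 := (psi V1).comp Y.subtype
  have hker : f.ker = (Subgroup.centralizer (V1 : Set X)).subgroupOf Y := by
    ext y
    rw [MonoidHom.mem_ker, Subgroup.mem_subgroupOf, ← psi_eq_one_iff]
    rfl
  have hrange : f.range = Y.map (psi V1) := by
    ext γ
    constructor
    · rintro ⟨y, rfl⟩
      exact ⟨y, y.2, rfl⟩
    · rintro ⟨y, hy, rfl⟩
      exact ⟨⟨y, hy⟩, rfl⟩
  let e1 : ↥Y ⧸ f.ker ≃* ↥f.range := QuotientGroup.quotientKerEquivRange f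
  let e2 : ↥f.range ≃* ↥(sSup F) := MulEquiv.subgroupCongr (hrange.trans hsSup.symm)
  exact ⟨((QuotientGroup.quotientMulEquivOfEq hker).symm.trans e1).trans (e2.trans e)⟩

end main

end Cfsg.Agent.Lib.Lead.KS94
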