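import Mathlib
import Cfsg.Agent.Lib.Lead.KS94e
import Cfsg.Agent.S0044
import Cfsg.Agent.Lib.Helper9.PCore

set_option autoImplicit false

/-!
The Thompson factorization dichotomy in solvable groups with `F(X) = O₂(X)`: final assembly.
-/

namespace Cfsg.Agent.Lib.Lead.KS94

open Cfsg.Agent.Lib.Lead Cfsg.Agent.Lib.Lead.KS93 Cfsg.Agent.Lib.Lead.Holo

universe u

section
variable {X : Type u} [Group X] [Finite X]

theorem pCore_quotient_congr {C C' : Subgroup X} [hC : C.Normal] [hC' : C'.Normal] (h : C = C')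
    (hO : Cfsg.pCore 2 (X ⧸ C) = ⊥) : Cfsg.pCore 2 (X ⧸ C') = ⊥ := by
  subst h
  exact hO

/-- `C(Ω₁(V)) = C(V)` when `O₂(X/C(V)) = 1` -/
theorem centralizer_Om1_eq {V V1 : Subgroup X} [hVn : V.Normal] [hV1n : V1.Normal]
    (hVc : ∀ x ∈ V, ∀ y ∈ V, x * y = y * x)
    (hV1 : ∀ v, v ∈ V1 ↔ v ∈ V ∧ v ^ 2 = 1) (hV2 : IsPGroup 2 V)
    (hO : Cfsg.pCore 2 (X ⧸ Subgroup.centralizer (V : Set X)) = ⊥) :
    Subgroup.centralizer (V1 : Set X) = Subgroup.centralizer (V : Set X) := by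
  have hV1V : V1 ≤ V := fun v hv => ((hV1 v).mp hv).1
  apply le_antisymm
  · obtain ⟨N, hN⟩ : ∃ N : Subgroup (X ⧸ Subgroup.centralizer (V : Set X)),
        N = (Subgroup.centralizer (V1 : Set X)).map
          (QuotientGroup.mk' (Subgroup.centralizer (V : Set X))) := ⟨_, rfl⟩
    have hNn : N.Normal := by
      rw [hN]
      exact Subgroup.Normal.map inferInstance _ (QuotientGroup.mk'_surjective _)
    have hNp : IsPGroup 2 N := by
      rintro ⟨y, hy⟩
      rw [hN] at hy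
      obtain ⟨x, hx, rfl⟩ := hy
      obtain ⟨k, m, hm, hkm⟩ := Nat.exists_eq_two_pow_mul_odd (orderOf_pos x).ne'
      refine ⟨k, ?_⟩
      apply Subtype.ext
      show (QuotientGroup.mk' (Subgroup.centralizer (V : Set X)) x) ^ 2 ^ k = 1
      rw [← map_pow, QuotientGroup.mk'_apply, QuotientGroup.eq_one_iff]
      refine mem_centralizer_of_odd hVc hV1 hV2 ?_ hm ?_ (Subgroup.pow_mem _ hx _)
      · rw [Subgroup.normalizer_eq_top]; exact Subgroup.mem_top _
      · rw [← pow_mul, ← hkm, pow_orderOf_eq_one]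
    have hNbot : N ≤ ⊥ := by rw [← hO]; exact le_pCore hNn hNp
    intro x hx
    have h1 : QuotientGroup.mk' (Subgroup.centralizer (V : Set X)) x ∈ N := by
      rw [hN]; exact ⟨x, hx, rfl⟩
    have h2 := hNbot h1
    rw [Subgroup.mem_bot, QuotientGroup.mk'_apply, QuotientGroup.eq_one_iff] at h2
    exact h2
  · exact Subgroup.centralizer_le (SetLike.coe_subset_coe.mpr hV1V)

theorem main_aux [Group.IsSolvable X] (T : Sylow 2 X) (C0 J V1 : Subgroup X) [hC0n : C0.Normal]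
    [hV1n : V1.Normal] (hV1 : Cfsg.IsElementaryAbelian 2 V1)
    [hn : (Subgroup.centralizer (V1 : Set X)).Normal]
    (hO : Cfsg.pCore 2 (X ⧸ Subgroup.centralizer (V1 : Set X)) = ⊥)
    (hV1T : V1 ≤ (T : Subgroup X))
    (hC0 : C0 = Subgroup.centralizer (V1 : Set X)) (hJ : J = Thom.Jn 0 X (T : Subgroup X)) :
    (C0 ⊔ Subgroup.normalClosure (J : Set X) ⊔ Subgroup.normalizer (J : Set X) = ⊤) ∧
    (Subgroup.normalClosure (J : Set X) ≤ C0 ∨ ∃ n : ℕ, 1 ≤ n ∧
        Nonempty (↥(Subgroup.normalClosure (J : Set X)) ⧸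
            C0.subgroupOf (Subgroup.normalClosure (J : Set X)) ≃*
              (Fin n → Equiv.Perm (Fin 3)))) := by
  subst hC0 hJ
  haveI : Fact (Nat.Prime 2) := ⟨Nat.prime_two⟩
  constructor
  · exact top_unique ((frattini_J T).ge.trans
      (sup_le (le_sup_of_le_left le_sup_right) le_sup_right))
  · by_cases hY : Subgroup.normalClosure ((Thom.Jn 0 X (T : Subgroup X) : Subgroup X) : Set X) ≤
        Subgroup.centralizer (V1 : Set X)
    · exact Or.inl hY
    · exact Or.inr (hol_part V1 hV1 hO T hV1T hY)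

theorem main [Group.IsSolvable X] (hF : Cfsg.fittingSubgroup X = Cfsg.pCore 2 X)
    (T : Sylow 2 X) :
    ((Subgroup.centralizer (((T : Subgroup X) ⊓ Subgroup.centralizer ((T : Subgroup X) : Set X) : Subgroup X) : Set X)).normalCore
        ⊔ Subgroup.normalClosure (Cfsg.thompsonSubgroupAOf (T : Subgroup X) : Set X)
        ⊔ Subgroup.normalizer (Cfsg.thompsonSubgroupAOf (T : Subgroup X) : Set X) = ⊤) ∧
    (Subgroup.normalClosure (Cfsg.thompsonSubgroupAOf (T : Subgroup X) : Set X)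
        ≤ (Subgroup.centralizer (((T : Subgroup X) ⊓ Subgroup.centralizer ((T : Subgroup X) : Set X) : Subgroup X) : Set X)).normalCore
      ∨ ∃ n : ℕ, 1 ≤ n ∧
        Nonempty (↥(Subgroup.normalClosure (Cfsg.thompsonSubgroupAOf (T : Subgroup X) : Set X)) ⧸
            ((Subgroup.centralizer (((T : Subgroup X) ⊓ Subgroup.centralizer ((T : Subgroup X) : Set X) : Subgroup X) : Set X)).normalCore).subgroupOf
              (Subgroup.normalClosure (Cfsg.thompsonSubgroupAOf (T : Subgroup X) : Set X))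
          ≃* (Fin n → Equiv.Perm (Fin 3)))) := by
  haveI : Fact (Nat.Prime 2) := ⟨Nat.prime_two⟩
  have hQn : (Cfsg.pCore 2 X).Normal := pCore_normal 2
  have hQp : IsPGroup 2 (Cfsg.pCore 2 X) := pCore_isPGroup 2
  have hQT : Cfsg.pCore 2 X ≤ (T : Subgroup X) := Cfsg.Agent.Lib.Helper9.pCore_le_sylow T
  have hCQ : Subgroup.centralizer ((Cfsg.pCore 2 X : Subgroup X) : Set X) ≤ Cfsg.pCore 2 X := by
    have h := Cfsg.Agent.S0044.result (G := X)
    rw [hF] at h
    exact h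
  obtain ⟨V, hVdef⟩ : ∃ V : Subgroup X, V = Subgroup.normalClosure
      ((((T : Subgroup X) ⊓ Subgroup.centralizer ((T : Subgroup X) : Set X) : Subgroup X)) : Set X) :=
    ⟨_, rfl⟩
  haveI hVn : V.Normal := by rw [hVdef]; exact Subgroup.normalClosure_normal
  have hZQ : (T : Subgroup X) ⊓ Subgroup.centralizer ((T : Subgroup X) : Set X) ≤
      Cfsg.pCore 2 X ⊓ Subgroup.centralizer ((Cfsg.pCore 2 X : Subgroup X) : Set X) := by
    intro z hz
    have hzc : z ∈ Subgroup.centralizer ((Cfsg.pCore 2 X : Subgroup X) : Set X) :=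
      Subgroup.centralizer_le (SetLike.coe_subset_coe.mpr hQT) (Subgroup.mem_inf.mp hz).2
    exact Subgroup.mem_inf.mpr ⟨hCQ hzc, hzc⟩
  haveI hQCn : (Cfsg.pCore 2 X ⊓
      Subgroup.centralizer ((Cfsg.pCore 2 X : Subgroup X) : Set X)).Normal := by
    haveI := hQn
    exact Subgroup.normal_inf_normal _ _
  have hVQ : V ≤ Cfsg.pCore 2 X ⊓
      Subgroup.centralizer ((Cfsg.pCore 2 X : Subgroup X) : Set X) := by
    rw [hVdef]
    apply Subgroup.normalClosure_le_normal
    intro z hz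
    exact hZQ hz
  have hVc : ∀ x ∈ V, ∀ y ∈ V, x * y = y * x := by
    intro x hx y hy
    have h1 := (Subgroup.mem_inf.mp (hVQ hx)).1
    have h2 := (Subgroup.mem_inf.mp (hVQ hy)).2
    exact Subgroup.mem_centralizer_iff.mp h2 x h1
  have hV2 : IsPGroup 2 V := hQp.to_le (hVQ.trans inf_le_left)
  have hVT : V ≤ (T : Subgroup X) := (hVQ.trans inf_le_left).trans hQT
  have hO : Cfsg.pCore 2 (X ⧸ Subgroup.centralizer (V : Set X)) = ⊥ := by
    apply pCore_quotient_eq_bot V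
    rw [hVdef]
    exact normalClosure_center_le T
  obtain ⟨V1, hV1⟩ := exists_Om1 V hVc
  have hV1V : V1 ≤ V := fun v hv => ((hV1 v).mp hv).1
  haveI hV1n : V1.Normal := by
    constructor
    intro v hv g
    rw [hV1] at hv ⊢
    refine ⟨hVn.conj_mem v hv.1 g, ?_⟩
    rw [conj_pow, hv.2, mul_one, mul_inv_cancel]
  have hV1EA : Cfsg.IsElementaryAbelian 2 V1 := by
    refine ⟨⟨⟨fun a b => Subtype.ext (hVc (a : X) (hV1V a.2) (b : X) (hV1V b.2))⟩⟩,
      fun a ha => ((hV1 a).mp ha).2⟩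
  have hEq := centralizer_Om1_eq hVc hV1 hV2 hO
  have hO1 : Cfsg.pCore 2 (X ⧸ Subgroup.centralizer (V1 : Set X)) = ⊥ :=
    pCore_quotient_congr hEq.symm hO
  have hC0 : (Subgroup.centralizer (((T : Subgroup X) ⊓
      Subgroup.centralizer ((T : Subgroup X) : Set X) : Subgroup X) : Set X)).normalCore =
      Subgroup.centralizer (V1 : Set X) := by
    rw [normalCore_centralizer, ← hVdef, hEq]
  exact main_aux T _ _ V1 hV1EA hO1 (hV1V.trans hVT) hC0 (Thom.thompsonSubgroupAOf_eq _)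

end

end Cfsg.Agent.Lib.Lead.KS94
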