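import Mathlib
import Cfsg.Prelude.Def_CaseTheorems

set_option autoImplicit false

/-! 2-groups of sectional rank at most 2: sections of rank 3. -/

namespace Cfsg.Agent.Lib.Lead

namespace SecRankTwo

section
variable {S : Type*} [Group S] [Finite S]

theorem mem_zpowers_of_sq_one {z m : S} (hz : z ^ 2 = 1) (hm : m ∈ Subgroup.zpowers z) :
    m = 1 ∨ m = z := by
  obtain ⟨i, hi⟩ := Subgroup.mem_zpowers_iff.mp hm
  rcases Int.emod_two_eq_zero_or_one i with h | h
  · left
    have : i = 2 * (i / 2) := by omega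
    rw [← hi, this, zpow_mul, zpow_ofNat, hz, one_zpow]
  · right
    have : i = 2 * (i / 2) + 1 := by omega
    rw [← hi, this, zpow_add, zpow_mul, zpow_ofNat, hz, one_zpow, one_mul, zpow_one]

/-- a generating set of pairwise commuting involutions modulo a central subgroup `M` gives an
elementary abelian section -/
theorem false_of_section (hr : Cfsg.SectionalPRankLE 2 2 S) (X : Set S) (M : Subgroup S)
    (hM : M ≤ Subgroup.closure X)
    (hMc : ∀ m ∈ M, ∀ x ∈ X, x * m = m * x)
    (hcomm : ∀ a ∈ X, ∀ b ∈ X, a * b * a⁻¹ * b⁻¹ ∈ M) (hsq : ∀ a ∈ X, a ^ 2 ∈ M)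
    (hcard : 4 * Nat.card M < Nat.card (Subgroup.closure X)) : False := by
  classical
  obtain ⟨K, hK⟩ : ∃ K : Subgroup S, K = Subgroup.closure X := ⟨_, rfl⟩
  -- `M` is central in `K`
  have hcent : ∀ m ∈ M, ∀ k ∈ K, k * m = m * k := by
    intro m hm k hk
    have hle : K ≤ Subgroup.centralizer {m} := by
      rw [hK, Subgroup.closure_le]
      intro x hx
      rw [SetLike.mem_coe, Subgroup.mem_centralizer_singleton_iff]
      exact hMc m hm x hx
    have := hle hk
    rw [Subgroup.mem_centralizer_singleton_iff] at this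
    exact this
  set N' : Subgroup K := M.subgroupOf K with hN'
  haveI hN'n : N'.Normal := by
    constructor
    intro n hn k
    rw [hN', Subgroup.mem_subgroupOf] at hn ⊢
    have h1 : ((k * n * k⁻¹ : K) : S) = (n : S) := by
      rw [Subgroup.coe_mul, Subgroup.coe_mul, Subgroup.coe_inv, hcent _ hn _ k.2, mul_assoc,
        mul_inv_cancel, mul_one]
    rw [h1]; exact hn
  have hP := hr K N'
  -- generators of the quotient
  set X' : Set K := Subtype.val ⁻¹' X with hX'
  have hX'top : Subgroup.closure X' = ⊤ := by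
    subst hK
    exact Subgroup.closure_closure_coe_preimage
  set f : K →* K ⧸ N' := QuotientGroup.mk' N' with hf
  set Y : Set (K ⧸ N') := f '' X' with hY
  have hYtop : Subgroup.closure Y = ⊤ := by
    rw [hY, ← MonoidHom.map_closure, hX'top, Subgroup.map_top_of_surjective]
    exact QuotientGroup.mk'_surjective N'
  have hker : ∀ k : K, (k : S) ∈ M → f k = 1 := by
    intro k hk
    rw [hf, QuotientGroup.mk'_apply, QuotientGroup.eq_one_iff, hN', Subgroup.mem_subgroupOf]
    exact hk
  have hYcomm : ∀ a ∈ Y, ∀ b ∈ Y, a * b = b * a := by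
    rintro _ ⟨a, ha, rfl⟩ _ ⟨b, hb, rfl⟩
    have h1 : a * b = (a * b * a⁻¹ * b⁻¹) * (b * a) := by group
    have h2 : f (a * b * a⁻¹ * b⁻¹) = 1 := by
      apply hker
      have := hcomm _ ha _ hb
      simpa using this
    rw [← map_mul, ← map_mul, h1, map_mul, h2, one_mul]
  have hYsq : ∀ a ∈ Y, a ^ 2 = 1 := by
    rintro _ ⟨a, ha, rfl⟩
    rw [← map_pow]
    apply hker
    have := hsq _ ha
    simpa using this
  haveI hcommI : IsMulCommutative (Subgroup.closure Y) := Subgroup.isMulCommutative_closure hYcomm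
  have hcommQ : ∀ a b : K ⧸ N', a * b = b * a := by
    intro a b
    have ha : a ∈ Subgroup.closure Y := by rw [hYtop]; exact Subgroup.mem_top _
    have hb : b ∈ Subgroup.closure Y := by rw [hYtop]; exact Subgroup.mem_top _
    have := hcommI.is_comm.comm (⟨a, ha⟩ : Subgroup.closure Y) ⟨b, hb⟩
    exact congrArg Subtype.val this
  -- all squares are trivial
  let T : Subgroup (K ⧸ N') :=
    { carrier := {q | q ^ 2 = 1}
      mul_mem' := by
        intro a b ha hb
        have ha' : a ^ 2 = 1 := ha
        have hb' : b ^ 2 = 1 := hb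
        show (a * b) ^ 2 = 1
        have hc : Commute a b := hcommQ a b
        rw [hc.mul_pow, ha', hb', one_mul]
      one_mem' := one_pow 2
      inv_mem' := by
        intro a ha
        have ha' : a ^ 2 = 1 := ha
        show a⁻¹ ^ 2 = 1
        rw [inv_pow, ha', inv_one] }
  have hT : ∀ q : K ⧸ N', q ^ 2 = 1 := by
    intro q
    have h1 : Subgroup.closure Y ≤ T := by
      rw [Subgroup.closure_le]
      intro y hy
      exact hYsq y hy
    have : q ∈ Subgroup.closure Y := by rw [hYtop]; exact Subgroup.mem_top _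
    exact h1 this
  have hle := hP ⊤ ⟨⟨fun a b => Subtype.ext (hcommQ a.1 b.1)⟩⟩ (fun a _ => hT a)
  rw [Subgroup.card_top] at hle
  have h1 := Subgroup.card_eq_card_quotient_mul_card_subgroup N'
  have h2 : Nat.card N' = Nat.card M := by
    rw [hN']
    exact Nat.card_congr (Subgroup.subgroupOfEquivOfLe (by rw [hK]; exact hM)).toEquiv
  rw [h2] at h1
  rw [← hK, h1] at hcard
  have hMpos : 0 < Nat.card M := Nat.card_pos
  have : 4 < Nat.card (K ⧸ N') := by
    by_contra hle'
    push_neg at hle'
    have := Nat.mul_le_mul_right (Nat.card M) hle'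
    omega
  omega

end

end SecRankTwo

end Cfsg.Agent.Lib.Lead
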