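import Mathlib

/-!
S5877 package M1 (for helper9): bimultiplicative commutator calculus in a class-2-like subgroup.
-/

set_option autoImplicit false

namespace Cfsg.Agent.Lib.Carve.Xsp

section Pairing
variable {G : Type*} [Group G] {Zc : Subgroup G} {Q : Subgroup G}

/-- the central commutator pairing on `Q` -/
def cc (hZc : Zc ≤ Subgroup.center G)
    (hcomm : ∀ a ∈ Q, ∀ b ∈ Q, a * b * a⁻¹ * b⁻¹ ∈ Zc) (a b : Q) : Subgroup.center G :=
  ⟨(a : G) * b * (a : G)⁻¹ * (b : G)⁻¹, hZc (hcomm a a.2 b b.2)⟩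

variable (hZc : Zc ≤ Subgroup.center G)
  (hcomm : ∀ a ∈ Q, ∀ b ∈ Q, a * b * a⁻¹ * b⁻¹ ∈ Zc)

theorem cc_val (a b : Q) :
    ((cc hZc hcomm a b : Subgroup.center G) : G) = (a : G) * b * (a : G)⁻¹ * (b : G)⁻¹ := rfl

include hZc hcomm in
theorem cc_central (a b : Q) (x : G) :
    x * ((a : G) * b * (a : G)⁻¹ * (b : G)⁻¹) = ((a : G) * b * (a : G)⁻¹ * (b : G)⁻¹) * x :=
  Subgroup.mem_center_iff.mp (hZc (hcomm a a.2 b b.2)) x

theorem cc_mul_left (a a' b : Q) :
    cc hZc hcomm (a * a') b = cc hZc hcomm a b * cc hZc hcomm a' b := by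
  apply Subtype.ext
  rw [Subgroup.coe_mul, cc_val, cc_val, cc_val, Subgroup.coe_mul]
  have hz := cc_central hZc hcomm a' b
  calc (a : G) * a' * b * ((a : G) * a')⁻¹ * (b : G)⁻¹
      = (a : G) * (((a' : G) * b * (a' : G)⁻¹ * (b : G)⁻¹) * ((b : G) * (a : G)⁻¹ * (b : G)⁻¹)) := by
        group
    _ = (a : G) * (((b : G) * (a : G)⁻¹ * (b : G)⁻¹) * ((a' : G) * b * (a' : G)⁻¹ * (b : G)⁻¹)) := by
        rw [hz]
    _ = (a : G) * b * (a : G)⁻¹ * (b : G)⁻¹ * ((a' : G) * b * (a' : G)⁻¹ * (b : G)⁻¹) := by group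

theorem cc_mul_right (a b b' : Q) :
    cc hZc hcomm a (b * b') = cc hZc hcomm a b * cc hZc hcomm a b' := by
  apply Subtype.ext
  rw [Subgroup.coe_mul, cc_val, cc_val, cc_val, Subgroup.coe_mul]
  have hz := cc_central hZc hcomm a b' ((b : G)⁻¹)
  calc (a : G) * ((b : G) * b') * (a : G)⁻¹ * ((b : G) * b')⁻¹
      = (a : G) * b * (a : G)⁻¹ * (((a : G) * b' * (a : G)⁻¹ * (b' : G)⁻¹) * (b : G)⁻¹) := by
        group
    _ = (a : G) * b * (a : G)⁻¹ * ((b : G)⁻¹ * ((a : G) * b' * (a : G)⁻¹ * (b' : G)⁻¹)) := by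
        rw [← hz]
    _ = (a : G) * b * (a : G)⁻¹ * (b : G)⁻¹ * ((a : G) * b' * (a : G)⁻¹ * (b' : G)⁻¹) := by
        group

theorem cc_self (a : Q) : cc hZc hcomm a a = 1 := by
  apply Subtype.ext
  rw [cc_val, Subgroup.coe_one]
  group

theorem cc_symm (a b : Q) : cc hZc hcomm b a = (cc hZc hcomm a b)⁻¹ := by
  apply Subtype.ext
  rw [Subgroup.coe_inv, cc_val, cc_val]
  group

theorem cc_one_left (b : Q) : cc hZc hcomm 1 b = 1 := by
  apply Subtype.ext
  rw [cc_val]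
  simp

theorem cc_one_right (a : Q) : cc hZc hcomm a 1 = 1 := by
  apply Subtype.ext
  rw [cc_val]
  simp

theorem cc_inv_left (a b : Q) : cc hZc hcomm a⁻¹ b = (cc hZc hcomm a b)⁻¹ := by
  apply eq_inv_of_mul_eq_one_left
  rw [← cc_mul_left, inv_mul_cancel, cc_one_left]

theorem cc_inv_right (a b : Q) : cc hZc hcomm a b⁻¹ = (cc hZc hcomm a b)⁻¹ := by
  apply eq_inv_of_mul_eq_one_left
  rw [← cc_mul_right, inv_mul_cancel, cc_one_right]

theorem cc_eq_one_iff (a b : Q) : cc hZc hcomm a b = 1 ↔ (a : G) * b = b * a := by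
  constructor
  · intro h
    have := congrArg Subtype.val h
    rw [cc_val, Subgroup.coe_one] at this
    calc (a : G) * b = ((a : G) * b * (a : G)⁻¹ * (b : G)⁻¹) * (b * a) := by group
      _ = b * a := by rw [this, one_mul]
  · intro h
    apply Subtype.ext
    rw [cc_val, Subgroup.coe_one, h]
    group

end Pairing

section Sigma
variable {G : Type*} [Group G] {Q : Subgroup G}

/-- conjugation by `g⁻¹` on `Q` -/
def sg (g : G) (hg : g ∈ Subgroup.normalizer (Q : Set G)) (x : Q) : Q :=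
  ⟨g⁻¹ * x * g, by
    have := (Subgroup.mem_normalizer_iff.mp (Subgroup.inv_mem _ hg) x).mp x.2
    rwa [inv_inv] at this⟩

variable (g : G) (hg : g ∈ Subgroup.normalizer (Q : Set G))

theorem sg_val (x : Q) : ((sg g hg x : Q) : G) = g⁻¹ * x * g := rfl

theorem sg_mul (a b : Q) : sg g hg (a * b) = sg g hg a * sg g hg b := by
  apply Subtype.ext
  rw [Subgroup.coe_mul, sg_val, sg_val, sg_val, Subgroup.coe_mul]
  group

theorem sg_iter_val (k : ℕ) (x : Q) : (((sg g hg)^[k] x : Q) : G) = (g ^ k)⁻¹ * x * g ^ k := by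
  induction k with
  | zero => simp
  | succ k ih =>
    rw [Function.iterate_succ_apply', sg_val, ih, pow_succ]
    group

end Sigma

theorem all_comm_central {G : Type*} [Group G] (Zc : Subgroup G) (hZc : Zc ≤ Subgroup.center G)
    (Q : Subgroup G) (r ϖ : ℕ) (hcop : Nat.Coprime ϖ r) (hodd : Odd ϖ)
    (hcomm : ∀ a ∈ Q, ∀ b ∈ Q, a * b * a⁻¹ * b⁻¹ ∈ Zc)
    (hpow : ∀ a ∈ Q, ∀ b ∈ Q, (a * b * a⁻¹ * b⁻¹) ^ r = 1)
    (hns : ∀ x ∈ Q, (∀ y ∈ Q, x * y = y * x) → x ∈ Zc)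
    (g : G) (hg : g ∈ Subgroup.normalizer (Q : Set G)) (hgw : g ^ ϖ = 1)
    (hfix : ∀ x ∈ Q, ∀ i j : ℕ,
      Commute (x⁻¹ * (g ^ i)⁻¹ * x * g ^ i) (x⁻¹ * (g ^ j)⁻¹ * x * g ^ j)) :
    ∀ b ∈ Q, b⁻¹ * g⁻¹ * b * g ∈ Zc := by
  -- invariance of the pairing under `sg`
  have cc_sg : ∀ a b : Q, cc hZc hcomm (sg g hg a) (sg g hg b) = cc hZc hcomm a b := by
    intro a b
    apply Subtype.ext
    rw [cc_val, cc_val, sg_val, sg_val]
    have hz := cc_central hZc hcomm a b g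
    calc g⁻¹ * (a : G) * g * (g⁻¹ * (b : G) * g) * (g⁻¹ * (a : G) * g)⁻¹ * (g⁻¹ * (b : G) * g)⁻¹
        = g⁻¹ * (((a : G) * b * (a : G)⁻¹ * (b : G)⁻¹) * g) := by group
      _ = g⁻¹ * (g * ((a : G) * b * (a : G)⁻¹ * (b : G)⁻¹)) := by rw [hz]
      _ = (a : G) * b * (a : G)⁻¹ * (b : G)⁻¹ := by group
  -- Step 1
  have step1 : ∀ x : Q, cc hZc hcomm x (sg g hg x) = 1 := by
    intro x
    have hrec : ∀ k : ℕ, cc hZc hcomm x ((sg g hg)^[k + 1] x) =
        cc hZc hcomm x ((sg g hg)^[1] x) * cc hZc hcomm x ((sg g hg)^[k] x) := by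
      intro k
      have hcom := hfix x x.2 1 (k + 1)
      have h1 : cc hZc hcomm (x⁻¹ * (sg g hg)^[1] x) (x⁻¹ * (sg g hg)^[k + 1] x) = 1 := by
        rw [cc_eq_one_iff]
        rw [Subgroup.coe_mul, Subgroup.coe_mul, Subgroup.coe_inv, sg_iter_val, sg_iter_val]
        have := hcom.eq
        simpa only [mul_assoc] using this
      rw [cc_mul_left, cc_mul_right, cc_mul_right, cc_self, one_mul, cc_inv_left, cc_inv_right,
        cc_symm hZc hcomm x ((sg g hg)^[1] x), inv_inv] at h1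
      have h2 : cc hZc hcomm ((sg g hg)^[1] x) ((sg g hg)^[k + 1] x) =
          cc hZc hcomm x ((sg g hg)^[k] x) := by
        rw [Function.iterate_one, Function.iterate_succ_apply', cc_sg]
      rw [h2] at h1
      exact inv_mul_eq_one.mp h1
    have hpw : ∀ k : ℕ, cc hZc hcomm x ((sg g hg)^[k] x) =
        (cc hZc hcomm x ((sg g hg)^[1] x)) ^ k := by
      intro k
      induction k with
      | zero => rw [Function.iterate_zero, id, cc_self, pow_zero]
      | succ k ih => rw [hrec, ih, pow_succ']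
    have hw : (sg g hg)^[ϖ] x = x := by
      apply Subtype.ext
      rw [sg_iter_val, hgw, inv_one, one_mul, mul_one]
    have e1 : (cc hZc hcomm x ((sg g hg)^[1] x)) ^ ϖ = 1 := by
      rw [← hpw, hw, cc_self]
    have e2 : (cc hZc hcomm x ((sg g hg)^[1] x)) ^ r = 1 := by
      apply Subtype.ext
      rw [Subgroup.coe_pow, cc_val, Subgroup.coe_one]
      exact hpow x x.2 _ ((sg g hg)^[1] x).2
    have h1 := orderOf_dvd_of_pow_eq_one e1
    have h2 := orderOf_dvd_of_pow_eq_one e2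
    have h3 := Nat.dvd_gcd h1 h2
    rw [hcop.gcd_eq_one, Nat.dvd_one] at h3
    have := orderOf_eq_one_iff.mp h3
    rwa [Function.iterate_one] at this
  -- Step 2
  have step2 : ∀ a b : Q, cc hZc hcomm a (sg g hg b) = cc hZc hcomm (sg g hg a) b := by
    intro a b
    have := step1 (a * b)
    rw [sg_mul, cc_mul_left, cc_mul_right, cc_mul_right, step1 a, step1 b, one_mul, mul_one] at this
    rw [cc_symm hZc hcomm b (sg g hg a)]
    exact eq_inv_of_mul_eq_one_left this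
  -- Step 3
  have step3 : ∀ b : Q, ((b⁻¹ * sg g hg (sg g hg b) : Q) : G) ∈ Zc := by
    intro b
    apply hns _ (b⁻¹ * sg g hg (sg g hg b) : Q).2
    intro y hy
    have h1 : cc hZc hcomm ⟨y, hy⟩ (b⁻¹ * sg g hg (sg g hg b)) = 1 := by
      rw [cc_mul_right, cc_inv_right, step2, cc_sg, inv_mul_cancel]
    exact ((cc_eq_one_iff hZc hcomm _ _).mp h1).symm
  -- Step 4
  have step4 : ∀ m : ℕ, ∀ b : Q, ((b⁻¹ * (sg g hg)^[2 * m] b : Q) : G) ∈ Zc := by
    intro m
    induction m with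
    | zero =>
      intro b
      rw [Nat.mul_zero, Function.iterate_zero, id, inv_mul_cancel, Subgroup.coe_one]
      exact Zc.one_mem
    | succ m ih =>
      intro b
      have e : 2 * (m + 1) = (2 * m + 1) + 1 := by ring
      rw [e, Function.iterate_succ_apply', Function.iterate_succ_apply']
      have h1 := ih b
      have h2 := step3 ((sg g hg)^[2 * m] b)
      have e2 : (b⁻¹ * sg g hg (sg g hg ((sg g hg)^[2 * m] b)) : Q) =
          (b⁻¹ * (sg g hg)^[2 * m] b) *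
            (((sg g hg)^[2 * m] b)⁻¹ * sg g hg (sg g hg ((sg g hg)^[2 * m] b))) := by group
      rw [e2, Subgroup.coe_mul]
      exact Zc.mul_mem h1 h2
  intro b hb
  obtain ⟨m, hm⟩ := hodd
  have h1 := step4 (m + 1) ⟨b, hb⟩
  have e : 2 * (m + 1) = ϖ + 1 := by omega
  have hw : (sg g hg)^[ϖ] (⟨b, hb⟩ : Q) = ⟨b, hb⟩ := by
    apply Subtype.ext
    rw [sg_iter_val, hgw, inv_one, one_mul, mul_one]
  rw [e, Function.iterate_succ_apply', hw, Subgroup.coe_mul, Subgroup.coe_inv, sg_val] at h1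
  have e3 : b⁻¹ * g⁻¹ * b * g = b⁻¹ * (g⁻¹ * b * g) := by group
  rw [e3]
  exact h1

end Cfsg.Agent.Lib.Carve.Xsp
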