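import Mathlib

/-!
S5877 package NIL (for helper9): iterated commutators with an `r`-element `g` normalising a
subgroup `Q` that is an `r`-group modulo `Zc` eventually fall into `Zc`.
-/

set_option autoImplicit false

namespace Cfsg.Agent.Lib.Carve.Xsp

open scoped commutatorElement

theorem exists_depth_two {G : Type*} [Group G] [Finite G] (Zc : Subgroup G) [Zc.Normal]
    (Q : Subgroup G) (r : ℕ) (hr : r.Prime)
    (hQ : IsPGroup r (Q.map (QuotientGroup.mk' Zc)))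
    (g : G) (hg : g ∈ Subgroup.normalizer (Q : Set G)) (hgr : g ^ r = 1)
    (x₀ : G) (hx₀ : x₀ ∈ Q) (hx₀' : x₀⁻¹ * g⁻¹ * x₀ * g ∉ Zc) :
    ∃ u ∈ Q, u⁻¹ * g⁻¹ * u * g ∉ Zc ∧
      (u⁻¹ * g⁻¹ * u * g)⁻¹ * g⁻¹ * (u⁻¹ * g⁻¹ * u * g) * g ∈ Zc := by
  classical
  haveI : Fact r.Prime := ⟨hr⟩
  obtain ⟨π, hπ⟩ : ∃ π : G →* G ⧸ Zc, π = QuotientGroup.mk' Zc := ⟨_, rfl⟩
  rw [← hπ] at hQ
  have hgbr : (π g) ^ r = 1 := by rw [← map_pow, hgr, map_one]
  have hZp : IsPGroup r (Subgroup.zpowers (π g)) := by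
    rintro ⟨y, hy⟩
    obtain ⟨k, rfl⟩ := Subgroup.mem_zpowers_iff.mp hy
    refine ⟨1, Subtype.ext ?_⟩
    rw [pow_one, Subgroup.coe_pow, Subgroup.coe_one]
    show ((π g) ^ k) ^ r = 1
    rw [← zpow_natCast, ← zpow_mul, mul_comm, zpow_mul, zpow_natCast, hgbr, one_zpow]
  have hnorm : Subgroup.zpowers (π g) ≤ Subgroup.normalizer ((Q.map π : Subgroup (G ⧸ Zc)) : Set (G ⧸ Zc)) := by
    rw [Subgroup.zpowers_le]
    exact Subgroup.le_normalizer_map π ⟨g, hg, rfl⟩
  have hK : IsPGroup r (Subgroup.zpowers (π g) ⊔ Q.map π : Subgroup (G ⧸ Zc)) :=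
    hZp.to_sup_of_normal_right' hQ hnorm
  obtain ⟨K, hKdef⟩ : ∃ K : Subgroup (G ⧸ Zc), K = Subgroup.zpowers (π g) ⊔ Q.map π := ⟨_, rfl⟩
  rw [← hKdef] at hK
  haveI : Group.IsNilpotent K := hK.isNilpotent
  obtain ⟨m, hm⟩ := (Subgroup.isNilpotent_iff_lowerCentralSeries K).mp inferInstance
  have hgK : π g ∈ K := by rw [hKdef]; exact Subgroup.mem_sup_left (Subgroup.mem_zpowers _)
  have hQK : ∀ x ∈ Q, π x ∈ K := by
    intro x hx; rw [hKdef]; exact Subgroup.mem_sup_right (Subgroup.mem_map_of_mem π hx)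
  obtain ⟨κ, hκ⟩ : ∃ κ : G → G, κ = fun x => x⁻¹ * g⁻¹ * x * g := ⟨_, rfl⟩
  have hκapp : ∀ x, κ x = x⁻¹ * g⁻¹ * x * g := fun x => by rw [hκ]
  have hκQ : ∀ x ∈ Q, κ x ∈ Q := by
    intro x hx
    have h1 : g⁻¹ * x * g ∈ Q := by
      have := (Subgroup.mem_normalizer_iff.mp (Subgroup.inv_mem _ hg) x).mp hx
      rwa [inv_inv] at this
    have e : κ x = x⁻¹ * (g⁻¹ * x * g) := by rw [hκapp]; group
    rw [e]
    exact Q.mul_mem (Q.inv_mem hx) h1
  have hκZ : ∀ x ∈ Zc, κ x ∈ Zc := by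
    intro x hx
    have h1 : g⁻¹ * x * g ∈ Zc := by
      have := (inferInstance : Zc.Normal).conj_mem x hx g⁻¹
      rwa [inv_inv] at this
    have e : κ x = x⁻¹ * (g⁻¹ * x * g) := by rw [hκapp]; group
    rw [e]
    exact Zc.mul_mem (Zc.inv_mem hx) h1
  have hiterQ : ∀ k : ℕ, κ^[k] x₀ ∈ Q := by
    intro k
    induction k with
    | zero => exact hx₀
    | succ k ih => rw [Function.iterate_succ_apply']; exact hκQ _ ih
  have hiterL : ∀ k : ℕ, π (κ^[k] x₀) ∈ K.lowerCentralSeries k := by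
    intro k
    induction k with
    | zero => exact hQK _ hx₀
    | succ k ih =>
      rw [Function.iterate_succ_apply', Subgroup.lowerCentralSeries_succ]
      have e : π (κ (κ^[k] x₀)) = ⁅(π (κ^[k] x₀))⁻¹, (π g)⁻¹⁆ := by
        rw [hκapp, commutatorElement_def]
        simp
      rw [e]
      exact Subgroup.commutator_mem_commutator (inv_mem ih) (inv_mem hgK)
  have hex : ∃ k : ℕ, κ^[k] x₀ ∈ Zc := by
    refine ⟨m, ?_⟩
    have := hiterL m
    rw [hm, Subgroup.mem_bot, hπ, QuotientGroup.mk'_apply, QuotientGroup.eq_one_iff] at this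
    exact this
  have h0 : Nat.find hex ≠ 0 := by
    intro h
    have := Nat.find_spec hex
    rw [h, Function.iterate_zero, id] at this
    apply hx₀'
    have := hκZ _ this
    rwa [hκapp] at this
  have h1 : Nat.find hex ≠ 1 := by
    intro h
    have := Nat.find_spec hex
    rw [h, Function.iterate_one, hκapp] at this
    exact hx₀' this
  obtain ⟨k, hk⟩ : ∃ k, Nat.find hex = k + 2 := ⟨Nat.find hex - 2, by omega⟩
  refine ⟨κ^[k] x₀, hiterQ k, ?_, ?_⟩
  · have := Nat.find_min hex (show k + 1 < Nat.find hex by omega)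
    rw [Function.iterate_succ_apply', hκapp] at this
    exact this
  · have := Nat.find_spec hex
    rw [hk, Function.iterate_succ_apply', Function.iterate_succ_apply', hκapp, hκapp] at this
    exact this

end Cfsg.Agent.Lib.Carve.Xsp
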