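import Mathlib

set_option autoImplicit false
open MulAction Function

namespace Cfsg.Agent.Lib.Lead

universe u

namespace Yoshida

section
variable {G : Type u} [Group G] {A : Type*} [CommGroup A]

/-- extension by `1` of a homomorphism defined on a subgroup -/
noncomputable def ext1 (H : Subgroup G) (ϕ : H →* A) (y : G) : A := by
  classical exact if h : y ∈ H then ϕ ⟨y, h⟩ else 1

theorem ext1_of_mem (H : Subgroup G) (ϕ : H →* A) {y : G} (h : y ∈ H) :
    ext1 H ϕ y = ϕ ⟨y, h⟩ := by
  unfold ext1; rw [dif_pos h]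

theorem ext1_of_not_mem (H : Subgroup G) (ϕ : H →* A) {y : G} (h : y ∉ H) :
    ext1 H ϕ y = 1 := by
  unfold ext1; rw [dif_neg h]

theorem ext1_conj (H : Subgroup G) (ϕ : H →* A) (y : G) {h : G} (hh : h ∈ H) :
    ext1 H ϕ (h⁻¹ * y * h) = ext1 H ϕ y := by
  by_cases hy : y ∈ H
  · have h1 : h⁻¹ * y * h ∈ H := H.mul_mem (H.mul_mem (H.inv_mem hh) hy) hh
    rw [ext1_of_mem H ϕ h1, ext1_of_mem H ϕ hy]
    have h2 : (⟨h⁻¹ * y * h, h1⟩ : H) = (⟨h, hh⟩ : H)⁻¹ * ⟨y, hy⟩ * ⟨h, hh⟩ := rfl
    rw [h2, map_mul, map_mul, map_inv, mul_comm, ← mul_assoc, mul_inv_cancel, one_mul]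
  · have h1 : h⁻¹ * y * h ∉ H := by
      intro h1
      apply hy
      have := H.mul_mem (H.mul_mem hh h1) (H.inv_mem hh)
      have h3 : h * (h⁻¹ * y * h) * h⁻¹ = y := by group
      rwa [h3] at this
    rw [ext1_of_not_mem H ϕ h1, ext1_of_not_mem H ϕ hy]

/-- the value of `ext1` at a conjugate depends only on the coset of the conjugating element -/
theorem ext1_conj_coset (H : Subgroup G) (ϕ : H →* A) (y : G) {a b : G}
    (hab : a⁻¹ * b ∈ H) : ext1 H ϕ (b⁻¹ * y * b) = ext1 H ϕ (a⁻¹ * y * a) := by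
  have h1 := ext1_conj H ϕ (a⁻¹ * y * a) hab
  rw [← h1]
  congr 1
  group

theorem smul_eq_iff_conj_mem (H : Subgroup G) (g : G) (q : G ⧸ H) :
    g • q = q ↔ q.out⁻¹ * g * q.out ∈ H := by
  conv_lhs => rw [← QuotientGroup.out_eq' q]
  rw [MulAction.Quotient.smul_mk, QuotientGroup.eq]
  constructor
  · intro h
    have := H.inv_mem h
    have h3 : ((g • q.out)⁻¹ * q.out)⁻¹ = q.out⁻¹ * g * q.out := by
      rw [smul_eq_mul]; group
    rwa [h3] at this
  · intro h
    have := H.inv_mem h
    have h3 : (q.out⁻¹ * g * q.out)⁻¹ = (g • q.out)⁻¹ * q.out := by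
      rw [smul_eq_mul]; group
    rwa [h3] at this

/-- **Transfer at fixed points.**  If the contributions of the non-trivial orbits of `⟨g⟩` on
`G ⧸ H` vanish, the transfer of `g` is the product over the fixed cosets. -/
theorem transfer_eq_prod_fixed (H : Subgroup G) [H.FiniteIndex] [Fintype (G ⧸ H)] (ϕ : H →* A)
    (g : G)
    (hv : ∀ q : G ⧸ H, g • q ≠ q →
      ϕ ⟨q.out⁻¹ * g ^ minimalPeriod (g • ·) q * q.out,
        QuotientGroup.out_conj_pow_minimalPeriod_mem H g q⟩ = 1) :
    MonoidHom.transfer ϕ g = ∏ q : G ⧸ H, ext1 H ϕ (q.out⁻¹ * g * q.out) := by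
  classical
  letI : Fintype (Quotient (orbitRel (Subgroup.zpowers g) (G ⧸ H))) := Fintype.ofFinite _
  rw [MonoidHom.transfer_eq_prod_quotient_orbitRel_zpowers_quot,
    Finset.prod_partition (orbitRel (Subgroup.zpowers g) (G ⧸ H))]
  have himg : (Finset.univ : Finset (G ⧸ H)).image
      (Quotient.mk (orbitRel (Subgroup.zpowers g) (G ⧸ H))) = Finset.univ := by
    apply Finset.image_univ_of_surjective
    exact Quotient.mk_surjective
  rw [himg]
  refine Finset.prod_congr rfl (fun Q _ => ?_)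
  have hQ : Quotient.mk (orbitRel (Subgroup.zpowers g) (G ⧸ H)) Q.out = Q := Quotient.out_eq Q
  -- fixed elements have singleton classes
  have hfix : ∀ y z : G ⧸ H, g • y = y →
      Quotient.mk (orbitRel (Subgroup.zpowers g) (G ⧸ H)) z =
        Quotient.mk (orbitRel (Subgroup.zpowers g) (G ⧸ H)) y → z = y := by
    intro y z hy hz
    have h1 : z ∈ MulAction.orbit (Subgroup.zpowers g) y := Quotient.exact hz
    obtain ⟨⟨k, hk⟩, rfl⟩ := h1
    obtain ⟨n, rfl⟩ := Subgroup.mem_zpowers_iff.mp hk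
    change (g ^ n) • y = y
    have h2 : g ∈ MulAction.stabilizer G y := hy
    exact (MulAction.stabilizer G y).zpow_mem h2 n
  by_cases hf : g • Q.out = Q.out
  · have hper : minimalPeriod (g • ·) Q.out = 1 :=
      Function.minimalPeriod_eq_one_iff_isFixedPt.mpr hf
    have hset : (Finset.univ.filter (fun y : G ⧸ H =>
        Quotient.mk (orbitRel (Subgroup.zpowers g) (G ⧸ H)) y = Q)) = {Q.out} := by
      ext y
      simp only [Finset.mem_filter, Finset.mem_univ, true_and, Finset.mem_singleton]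
      constructor
      · intro hy
        exact hfix Q.out y hf (hy.trans hQ.symm)
      · rintro rfl; exact hQ
    rw [hset, Finset.prod_singleton]
    have hmem := (smul_eq_iff_conj_mem H g Q.out).mp hf
    rw [ext1_of_mem H ϕ hmem]
    congr 1
    apply Subtype.ext
    simp only [hper, pow_one]
  · rw [hv Q.out hf]
    symm
    apply Finset.prod_eq_one
    intro y hy
    simp only [Finset.mem_filter, Finset.mem_univ, true_and] at hy
    apply ext1_of_not_mem
    intro hmem
    have hyf : g • y = y := (smul_eq_iff_conj_mem H g y).mpr hmem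
    have := hfix y Q.out hyf (hQ.trans hy.symm)
    apply hf
    rw [this]; exact hyf

end

end Yoshida

end Cfsg.Agent.Lib.Lead
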