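import Mathlib

set_option autoImplicit false
open Polynomial

namespace Cfsg.Agent.Lib.Lead

namespace Yoshida

section
variable {p : ℕ} [hp : Fact p.Prime]

/-- `(X - 1)^(p-1) = 1 + X + ⋯ + X^(p-1)` over `𝔽_p` -/
theorem X_sub_one_pow_pred :
    (X - C (1 : ZMod p)) ^ (p - 1) = ∑ i ∈ Finset.range p, (X : (ZMod p)[X]) ^ i := by
  have h1 : (X - C (1 : ZMod p)) * (X - C (1 : ZMod p)) ^ (p - 1) =
      (X - C (1 : ZMod p)) * ∑ i ∈ Finset.range p, (X : (ZMod p)[X]) ^ i := by
    rw [← pow_succ', Nat.sub_add_cancel hp.out.one_le, map_one, mul_geom_sum, sub_pow_char,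
      one_pow]
  exact mul_left_cancel₀ (X_sub_C_ne_zero 1) h1

/-- the cyclic shift on `𝔽_p^{ℤ/p}` -/
def shift : (ZMod p → ZMod p) →ₗ[ZMod p] (ZMod p → ZMod p) :=
  LinearMap.funLeft (ZMod p) (ZMod p) (fun i => i + 1)

theorem shift_apply (w : ZMod p → ZMod p) (i : ZMod p) : shift w i = w (i + 1) := rfl

theorem shift_pow_apply (n : ℕ) (w : ZMod p → ZMod p) (i : ZMod p) :
    (shift ^ n) w i = w (i + n) := by
  induction n generalizing w i with
  | zero => simp
  | succ n ih =>
    rw [pow_succ, Module.End.mul_apply, ih, shift_apply]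
    congr 1
    push_cast
    ring

theorem shift_pow_p : (shift (p := p)) ^ p = 1 := by
  apply LinearMap.ext
  intro w
  funext i
  rw [shift_pow_apply, ZMod.natCast_self, add_zero]
  rfl

/-- the difference operator -/
def tau : Module.End (ZMod p) (ZMod p → ZMod p) := shift - 1

theorem tau_apply (w : ZMod p → ZMod p) (i : ZMod p) : tau w i = w (i + 1) - w i := rfl

theorem sum_range_cast (f : ZMod p → ZMod p) :
    ∑ i ∈ Finset.range p, f (i : ZMod p) = ∑ k : ZMod p, f k := by
  haveI : NeZero p := ⟨hp.out.ne_zero⟩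
  refine Finset.sum_bij' (fun i _ => (i : ZMod p)) (fun k _ => k.val) ?_ ?_ ?_ ?_ ?_
  · intro i _; exact Finset.mem_univ _
  · intro k _; exact Finset.mem_range.mpr (ZMod.val_lt k)
  · intro i hi; exact ZMod.val_natCast_of_lt (Finset.mem_range.mp hi)
  · intro k _; exact ZMod.natCast_zmod_val k
  · intro i _; rfl

theorem tau_pow_pred : (tau (p := p)) ^ (p - 1) = ∑ i ∈ Finset.range p, shift ^ i := by
  have h := congrArg (Polynomial.aeval (shift (p := p))) (X_sub_one_pow_pred (p := p))
  simpa [tau] using h

/-- `τ^(p-1)` is the norm: it produces the constant vector of the coordinate sum -/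
theorem tau_pow_pred_apply (w : ZMod p → ZMod p) (j : ZMod p) :
    ((tau (p := p)) ^ (p - 1)) w j = ∑ k : ZMod p, w k := by
  rw [tau_pow_pred, LinearMap.sum_apply, Finset.sum_apply]
  have h1 : ∀ i ∈ Finset.range p, (shift ^ i) w j = w (j + (i : ZMod p)) :=
    fun i _ => shift_pow_apply i w j
  rw [Finset.sum_congr rfl h1, sum_range_cast (fun k => w (j + k))]
  exact Equiv.sum_comp (Equiv.addLeft j) w

theorem tau_pow_p : (tau (p := p)) ^ p = 0 := by
  have h1 : (tau (p := p)) ^ p = tau * tau ^ (p - 1) := by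
    rw [← pow_succ', Nat.sub_add_cancel hp.out.one_le]
  rw [h1, tau_pow_pred, tau, mul_geom_sum, shift_pow_p, sub_self]

theorem shift_tau_comm (w : ZMod p → ZMod p) : shift (tau w) = tau (shift w) := by
  funext i
  simp only [shift_apply, tau_apply]

theorem shift_tau_pow_comm (n : ℕ) (w : ZMod p → ZMod p) :
    shift ((tau ^ n) w) = (tau ^ n) (shift w) := by
  induction n generalizing w with
  | zero => simp
  | succ n ih =>
    rw [pow_succ, Module.End.mul_apply, ih, Module.End.mul_apply, shift_tau_comm]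

/-- chain argument: a shift-invariant subspace containing `w` with `τ^j w ≠ 0` has dimension
at least `j + 1` -/
theorem finrank_ge_of_tau_pow_ne_zero (j : ℕ) :
    ∀ (W : Submodule (ZMod p) (ZMod p → ZMod p)), (∀ w ∈ W, shift w ∈ W) →
      ∀ w ∈ W, (tau ^ j) w ≠ 0 → j + 1 ≤ Module.finrank (ZMod p) W := by
  induction j with
  | zero =>
    intro W _ w hw hne
    rw [pow_zero] at hne
    have : 0 < Module.finrank (ZMod p) W := by
      rw [Module.finrank_pos_iff_exists_ne_zero]
      exact ⟨⟨w, hw⟩, fun h => hne (congrArg Subtype.val h)⟩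
    omega
  | succ j ih =>
    intro W hW w hw hne
    have htauW : ∀ v ∈ W, tau v ∈ W := by
      intro v hv
      have : tau v = shift v - v := rfl
      rw [this]
      exact W.sub_mem (hW v hv) hv
    have htaupowW : ∀ n : ℕ, (tau ^ n) w ∈ W := by
      intro n
      induction n with
      | zero => simpa using hw
      | succ n ihn =>
        rw [pow_succ', Module.End.mul_apply]
        exact htauW _ ihn
    -- the image
    have hW' : ∀ v ∈ W.map tau, shift v ∈ W.map tau := by
      rintro _ ⟨v, hv, rfl⟩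
      exact ⟨shift v, hW v hv, (shift_tau_comm v).symm⟩
    have hw' : tau w ∈ W.map tau := ⟨w, hw, rfl⟩
    have hne' : (tau ^ j) (tau w) ≠ 0 := by
      rw [← Module.End.mul_apply, ← pow_succ]; exact hne
    have h1 := ih (W.map tau) hW' (tau w) hw' hne'
    -- a nonzero element of the kernel
    have hex : ∃ n : ℕ, (tau ^ n) w = 0 := ⟨p, by rw [tau_pow_p]; rfl⟩
    classical
    have hn0 : Nat.find hex ≠ 0 := by
      intro h0
      have := Nat.find_spec hex
      rw [h0, pow_zero] at this
      apply hne
      have h2 : w = 0 := this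
      rw [h2, map_zero]
    obtain ⟨m, hm⟩ := Nat.exists_eq_succ_of_ne_zero hn0
    have hm1 : (tau ^ m) w ≠ 0 := Nat.find_min hex (by omega)
    have hm2 : tau ((tau ^ m) w) = 0 := by
      have := Nat.find_spec hex
      rw [hm, pow_succ', Module.End.mul_apply] at this
      exact this
    have hrn := LinearMap.finrank_range_add_finrank_ker (tau.domRestrict W)
    rw [LinearMap.range_domRestrict] at hrn
    have hker : 0 < Module.finrank (ZMod p) (LinearMap.ker (tau.domRestrict W)) := by
      rw [Module.finrank_pos_iff_exists_ne_zero]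
      refine ⟨⟨⟨(tau ^ m) w, htaupowW m⟩, ?_⟩, ?_⟩
      · rw [LinearMap.mem_ker, LinearMap.domRestrict_apply]
        exact hm2
      · intro h
        apply hm1
        have := congrArg (fun x : LinearMap.ker (tau.domRestrict W) => ((x : W) : ZMod p → ZMod p)) h
        exact this
    omega

/-- **Uniseriality of the regular module.**  A shift-invariant subspace containing a vector with
non-zero coordinate sum is everything. -/
theorem eq_top_of_shift_invariant (W : Submodule (ZMod p) (ZMod p → ZMod p))
    (hW : ∀ w ∈ W, shift w ∈ W) (w₀ : ZMod p → ZMod p) (hw₀ : w₀ ∈ W)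
    (hs : ∑ k : ZMod p, w₀ k ≠ 0) : W = ⊤ := by
  have : NeZero p := ⟨hp.out.ne_zero⟩
  have hne : (tau ^ (p - 1)) w₀ ≠ 0 := by
    intro h
    apply hs
    have := congrFun h 0
    rw [tau_pow_pred_apply] at this
    exact this
  have h1 := finrank_ge_of_tau_pow_ne_zero (p - 1) W hW w₀ hw₀ hne
  have h2 : Module.finrank (ZMod p) (ZMod p → ZMod p) = p := by
    rw [Module.finrank_fintype_fun_eq_card, ZMod.card]
  apply Submodule.eq_top_of_finrank_eq
  have h3 := Submodule.finrank_le W
  have := hp.out.one_le
  omega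

end

end Yoshida

end Cfsg.Agent.Lib.Lead
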