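import Mathlib
import Cfsg.Agent.Lib.Lead.Yoshida1
import Cfsg.Agent.Lib.Lead.Yoshida2

set_option autoImplicit false
open scoped commutatorElement

namespace Cfsg.Agent.Lib.Lead

universe u

namespace Yoshida

section
variable {P : Type u} [Group P] {p : ℕ} [hp : Fact p.Prime]
variable (M : Subgroup P) [hM : M.Normal] (ψ : M →* Multiplicative (ZMod p)) (g : P)

/-- `ψ` twisted by conjugation with `g⁻ⁿ` -/
def theta (n : ℕ) : M →* Multiplicative (ZMod p) :=
  ψ.comp (MulAut.conjNormal (g⁻¹ ^ n) : MulAut M).toMonoidHom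

theorem theta_apply (n : ℕ) (y : M) :
    theta M ψ g n y = ψ ((MulAut.conjNormal (g⁻¹ ^ n) : MulAut M) y) := rfl

theorem psi_conj {m : P} (hm : m ∈ M) (y : M) :
    ψ ((MulAut.conjNormal m : MulAut M) y) = ψ y := by
  have h1 : (MulAut.conjNormal m : MulAut M) y = (⟨m, hm⟩ : M) * y * (⟨m, hm⟩ : M)⁻¹ := by
    apply Subtype.ext
    rw [MulAut.conjNormal_apply]
    rfl
  rw [h1, map_mul, map_mul, map_inv, mul_comm, ← mul_assoc, inv_mul_cancel, one_mul]

theorem theta_add_p (hidx : M.index = p) (n : ℕ) : theta M ψ g (n + p) = theta M ψ g n := by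
  ext y
  rw [theta_apply, theta_apply, add_comm n p, pow_add, map_mul, MulAut.mul_apply]
  have hm : g⁻¹ ^ p ∈ M := by
    have := Subgroup.pow_index_mem M g⁻¹
    rwa [hidx] at this
  rw [psi_conj M ψ hm]

theorem theta_add_mul_p (hidx : M.index = p) (n k : ℕ) :
    theta M ψ g (n + p * k) = theta M ψ g n := by
  induction k with
  | zero => simp
  | succ k ih =>
    have : n + p * (k + 1) = (n + p * k) + p := by ring
    rw [this, theta_add_p M ψ g hidx, ih]

theorem theta_mod (hidx : M.index = p) (n : ℕ) : theta M ψ g (n % p) = theta M ψ g n := by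
  conv_rhs => rw [← Nat.mod_add_div n p]
  rw [theta_add_mul_p M ψ g hidx]

theorem theta_conj (n : ℕ) (y : M) :
    theta M ψ g n ((MulAut.conjNormal g⁻¹ : MulAut M) y) = theta M ψ g (n + 1) y := by
  rw [theta_apply, theta_apply, pow_succ, map_mul, MulAut.mul_apply]

/-- the map `M → 𝔽_p^{ℤ/p}` collecting the twists of `ψ` -/
def Theta : M →* Multiplicative (ZMod p → ZMod p) where
  toFun y := Multiplicative.ofAdd
    (fun i : ZMod p => Multiplicative.toAdd (theta M ψ g i.val y))
  map_one' := by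
    apply Multiplicative.toAdd.injective
    funext i
    simp
  map_mul' y z := by
    apply Multiplicative.toAdd.injective
    funext i
    simp

theorem Theta_apply (y : M) (i : ZMod p) :
    Multiplicative.toAdd (Theta M ψ g y) i = Multiplicative.toAdd (theta M ψ g i.val y) := rfl

theorem Theta_conj (hidx : M.index = p) (y : M) :
    Multiplicative.toAdd (Theta M ψ g ((MulAut.conjNormal g⁻¹ : MulAut M) y)) =
      shift (Multiplicative.toAdd (Theta M ψ g y)) := by
  haveI : Fact (1 < p) := ⟨hp.out.one_lt⟩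
  funext i
  rw [shift_apply, Theta_apply, Theta_apply, theta_conj, ZMod.val_add, ZMod.val_one,
    theta_mod M ψ g hidx]

/-- the image of `Θ` as a subspace -/
def ThetaRange : Submodule (ZMod p) (ZMod p → ZMod p) where
  carrier := {v | ∃ y : M, Multiplicative.toAdd (Theta M ψ g y) = v}
  zero_mem' := ⟨1, by rw [map_one]; rfl⟩
  add_mem' := by
    rintro _ _ ⟨y, rfl⟩ ⟨z, rfl⟩
    exact ⟨y * z, by rw [map_mul]; rfl⟩
  smul_mem' := by
    rintro c _ ⟨y, rfl⟩
    refine ⟨y ^ c.val, ?_⟩
    haveI : NeZero p := ⟨hp.out.ne_zero⟩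
    rw [map_pow, toAdd_pow]
    conv_rhs => rw [← ZMod.natCast_zmod_val c]
    rw [Nat.cast_smul_eq_nsmul]

theorem mem_ThetaRange (v : ZMod p → ZMod p) :
    v ∈ ThetaRange M ψ g ↔ ∃ y : M, Multiplicative.toAdd (Theta M ψ g y) = v := Iff.rfl

theorem ThetaRange_shift (hidx : M.index = p) :
    ∀ w ∈ ThetaRange M ψ g, shift w ∈ ThetaRange M ψ g := by
  rintro _ ⟨y, rfl⟩
  exact ⟨(MulAut.conjNormal g⁻¹ : MulAut M) y, Theta_conj M ψ g hidx y⟩

theorem sum_Theta (y : M) :
    ∑ k : ZMod p, Multiplicative.toAdd (Theta M ψ g y) k =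
      Multiplicative.toAdd (∏ i : ZMod p, theta M ψ g i.val y) := by
  rw [toAdd_prod]
  rfl

end

section
variable {P : Type u} [Group P] [Finite P] {p : ℕ} [hp : Fact p.Prime]
variable (M : Subgroup P) [hM : M.Normal] (ψ : M →* Multiplicative (ZMod p)) (g : P)

theorem orderOf_mk_eq (hidx : M.index = p) (hg : g ∉ M) :
    orderOf (QuotientGroup.mk g : P ⧸ M) = p := by
  apply orderOf_eq_prime
  · have h1 : Nat.card (P ⧸ M) = p := by rw [← Subgroup.index_eq_card, hidx]
    rw [← h1]
    exact pow_card_eq_one'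
  · intro h
    exact hg ((QuotientGroup.eq_one_iff g).mp h)

theorem bijective_mk_pow (hidx : M.index = p) (hg : g ∉ M) :
    Function.Bijective (fun i : ZMod p => (QuotientGroup.mk (g ^ i.val) : P ⧸ M)) := by
  haveI : NeZero p := ⟨hp.out.ne_zero⟩
  apply Function.Injective.bijective_of_nat_card_le
  · intro i j hij
    have h1 : (QuotientGroup.mk g : P ⧸ M) ^ i.val = (QuotientGroup.mk g : P ⧸ M) ^ j.val := hij
    have ho := orderOf_mk_eq M g hidx hg
    have h2 := pow_injOn_Iio_orderOf (x := (QuotientGroup.mk g : P ⧸ M))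
      (by rw [Set.mem_Iio, ho]; exact ZMod.val_lt i) (by rw [Set.mem_Iio, ho]; exact ZMod.val_lt j) h1
    exact ZMod.val_injective p h2
  · rw [← Subgroup.index_eq_card, hidx, Nat.card_eq_fintype_card, ZMod.card]

/-- the product over `P ⧸ M` of the twists equals the product over `ℤ/p` -/
theorem prod_quot_eq (hidx : M.index = p) (hg : g ∉ M) (y : P) (hy : y ∈ M) [Fintype (P ⧸ M)] :
    ∏ b : P ⧸ M, ext1 M ψ (b.out⁻¹ * y * b.out) =
      ∏ i : ZMod p, theta M ψ g i.val ⟨y, hy⟩ := by
  symm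
  apply Fintype.prod_bijective _ (bijective_mk_pow M g hidx hg)
  intro i
  have h1 : (g ^ i.val)⁻¹ * (QuotientGroup.mk (g ^ i.val) : P ⧸ M).out ∈ M := by
    apply QuotientGroup.eq.mp
    exact (QuotientGroup.out_eq' _).symm
  rw [ext1_conj_coset M ψ y h1, theta_apply]
  have h2 : (g ^ i.val)⁻¹ * y * g ^ i.val ∈ M := by
    have := hM.conj_mem y hy (g ^ i.val)⁻¹
    rwa [inv_inv] at this
  rw [ext1_of_mem M ψ h2]
  congr 1
  apply Subtype.ext
  rw [MulAut.conjNormal_apply]
  simp

end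

end Yoshida

end Cfsg.Agent.Lib.Lead
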