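import Mathlib
import Cfsg.Agent.Lib.Lead.Yoshida3

set_option autoImplicit false
open scoped commutatorElement

namespace Cfsg.Agent.Lib.Lead

universe u

namespace Yoshida

/-- all "norms" of linear characters of maximal subgroups vanish -/
def NormVanish (p : ℕ) (P : Type u) [Group P] : Prop :=
  ∀ (M : Subgroup P) [Fintype (P ⧸ M)], M.Normal → M.index = p →
    ∀ ψ : M →* Multiplicative (ZMod p), ∀ y ∈ M,
      ∏ b : P ⧸ M, ext1 M ψ (b.out⁻¹ * y * b.out) = 1

/-- `P` has a subgroup of index `p²` whose core has index (divisible by) `p^(p+1)` -/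
def HasWreathQuot (p : ℕ) (P : Type u) [Group P] : Prop :=
  ∃ L : Subgroup P, L.index = p ^ 2 ∧ p ^ (p + 1) ∣ L.normalCore.index

section
variable {P : Type u} [Group P] [Finite P] {p : ℕ} [hp : Fact p.Prime]

theorem card_mult_zmod : Nat.card (Multiplicative (ZMod p)) = p := by
  rw [Nat.card_eq_fintype_card, Fintype.card_multiplicative, ZMod.card]

theorem exists_not_mem_of_index (M : Subgroup P) (hidx : M.index = p) : ∃ g : P, g ∉ M := by
  by_contra h
  push Not at h
  have : M = ⊤ := eq_top_iff.mpr (fun x _ => h x)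
  rw [this, Subgroup.index_top] at hidx
  exact hp.out.one_lt.ne hidx

/-- **F1.** A non-vanishing norm produces a wreath quotient. -/
theorem normVanish_of_not_hasWreathQuot (h : ¬ HasWreathQuot p P) : NormVanish p P := by
  intro M _ hMn hidx ψ y hy
  by_contra hne
  apply h
  obtain ⟨g, hg⟩ := exists_not_mem_of_index M hidx
  rw [prod_quot_eq M ψ g hidx hg y hy] at hne
  -- surjectivity of `Θ`
  have hs : ∑ k : ZMod p, Multiplicative.toAdd (Theta M ψ g ⟨y, hy⟩) k ≠ 0 := by
    rw [sum_Theta]
    intro h0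
    exact hne (toAdd_eq_zero.mp h0)
  have htop := eq_top_of_shift_invariant (ThetaRange M ψ g) (ThetaRange_shift M ψ g hidx)
    _ ⟨⟨y, hy⟩, rfl⟩ hs
  have hsurj : Function.Surjective (Theta M ψ g) := by
    intro v
    have : Multiplicative.toAdd v ∈ ThetaRange M ψ g := by rw [htop]; exact Submodule.mem_top
    obtain ⟨z, hz⟩ := this
    exact ⟨z, Multiplicative.toAdd.injective hz⟩
  -- `ψ` is surjective
  have hψ : ψ.range = ⊤ := by
    haveI : Fact (Nat.card (Multiplicative (ZMod p))).Prime := ⟨by rw [card_mult_zmod]; exact hp.out⟩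
    rcases Subgroup.eq_bot_or_eq_top_of_prime_card ψ.range with h1 | h1
    · exfalso
      apply hne
      apply Finset.prod_eq_one
      intro i _
      rw [theta_apply]
      have : ψ ((MulAut.conjNormal (g⁻¹ ^ i.val) : MulAut M) ⟨y, hy⟩) ∈ ψ.range := ⟨_, rfl⟩
      rw [h1, Subgroup.mem_bot] at this
      exact this
    · exact h1
  refine ⟨ψ.ker.map M.subtype, ?_, ?_⟩
  · rw [Subgroup.index_map_subtype, Subgroup.index_ker, hψ, Subgroup.card_top, card_mult_zmod,
      hidx, pow_two]
  · have hle : (ψ.ker.map M.subtype).normalCore ≤ (Theta M ψ g).ker.map M.subtype := by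
      intro k hk
      have hkL : ∀ b : P, b * k * b⁻¹ ∈ ψ.ker.map M.subtype := hk
      have hkM : k ∈ M := by
        have := hkL 1
        rw [one_mul, inv_one, mul_one] at this
        obtain ⟨z, _, hz⟩ := Subgroup.mem_map.mp this
        rw [← hz]; exact z.2
      refine Subgroup.mem_map.mpr ⟨⟨k, hkM⟩, ?_, rfl⟩
      rw [MonoidHom.mem_ker]
      apply Multiplicative.toAdd.injective
      funext i
      rw [Theta_apply, theta_apply]
      obtain ⟨z, hz1, hz2⟩ := Subgroup.mem_map.mp (hkL (g⁻¹ ^ i.val))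
      have hz3 : z = (MulAut.conjNormal (g⁻¹ ^ i.val) : MulAut M) ⟨k, hkM⟩ := by
        apply Subtype.ext
        rw [MulAut.conjNormal_apply]
        exact hz2
      rw [← hz3, MonoidHom.mem_ker.mp hz1]
      rfl
    have h1 := Subgroup.index_dvd_of_le hle
    have h2 : ((Theta M ψ g).ker.map M.subtype).index = p ^ (p + 1) := by
      rw [Subgroup.index_map_subtype, Subgroup.index_ker, MonoidHom.range_eq_top.mpr hsurj,
        Subgroup.card_top, hidx, pow_succ]
      congr 1
      rw [Nat.card_eq_fintype_card, Fintype.card_multiplicative, Fintype.card_fun, ZMod.card]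
    rwa [h2] at h1

/-- **F1'.** If `P` has class less than `p`, all norms vanish. -/
theorem normVanish_of_class_lt (h : (⊤ : Subgroup P).lowerCentralSeries (p - 1) = ⊥) :
    NormVanish p P := by
  intro M _ hMn hidx ψ y hy
  obtain ⟨g, hg⟩ := exists_not_mem_of_index M hidx
  rw [prod_quot_eq M ψ g hidx hg y hy]
  let c : M → M := fun z => z⁻¹ * (MulAut.conjNormal g⁻¹ : MulAut M) z
  have hc1 : ∀ z : M, Multiplicative.toAdd (Theta M ψ g (c z)) =
      tau (Multiplicative.toAdd (Theta M ψ g z)) := by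
    intro z
    change Multiplicative.toAdd (Theta M ψ g (z⁻¹ * (MulAut.conjNormal g⁻¹ : MulAut M) z)) = _
    rw [map_mul, map_inv, toAdd_mul, toAdd_inv, Theta_conj M ψ g hidx]
    have : tau (Multiplicative.toAdd (Theta M ψ g z)) =
      shift (Multiplicative.toAdd (Theta M ψ g z)) - Multiplicative.toAdd (Theta M ψ g z) := rfl
    rw [this]
    abel
  have hc2 : ∀ (n : ℕ) (z : M), Multiplicative.toAdd (Theta M ψ g (c^[n] z)) =
      (tau ^ n) (Multiplicative.toAdd (Theta M ψ g z)) := by
    intro n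
    induction n with
    | zero => intro z; simp
    | succ n ih =>
      intro z
      rw [Function.iterate_succ_apply', hc1, ih, pow_succ', Module.End.mul_apply]
  have hc3 : ∀ (n : ℕ) (z : M),
      ((c^[n] z : M) : P) ∈ (⊤ : Subgroup P).lowerCentralSeries n := by
    intro n
    induction n with
    | zero => intro z; simp
    | succ n ih =>
      intro z
      rw [Function.iterate_succ_apply', Subgroup.lowerCentralSeries_succ]
      have h1 : ⁅((c^[n] z : M) : P)⁻¹, g⁻¹⁆ ∈
          ⁅(⊤ : Subgroup P).lowerCentralSeries n, (⊤ : Subgroup P)⁆ :=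
        Subgroup.commutator_mem_commutator (Subgroup.inv_mem _ (ih z)) (Subgroup.mem_top _)
      have h2 : ((c (c^[n] z) : M) : P) = ⁅((c^[n] z : M) : P)⁻¹, g⁻¹⁆ := by
        change (((c^[n] z)⁻¹ * (MulAut.conjNormal g⁻¹ : MulAut M) (c^[n] z) : M) : P) = _
        rw [Subgroup.coe_mul, MulAut.conjNormal_apply, Subgroup.coe_inv, commutatorElement_def]
        group
      rw [h2]; exact h1
  have h1 : c^[p - 1] ⟨y, hy⟩ = 1 := by
    apply Subtype.ext
    have := hc3 (p - 1) ⟨y, hy⟩
    rw [h, Subgroup.mem_bot] at this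
    exact this
  have h2 := hc2 (p - 1) ⟨y, hy⟩
  rw [h1, map_one] at h2
  have h3 := congrFun h2 0
  rw [tau_pow_pred_apply, sum_Theta] at h3
  exact toAdd_eq_zero.mp h3.symm

end

end Yoshida

end Cfsg.Agent.Lib.Lead
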