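import Mathlib
import Cfsg.Agent.Lib.Lead.Yoshida4
import Cfsg.Agent.Lib.Lead.CyclicMax

set_option autoImplicit false
open MulAction Function

namespace Cfsg.Agent.Lib.Lead

universe u

namespace Yoshida

section
variable {G : Type u} [Group G] [Finite G]

/-- passing to the power by the period of a non-fixed point lowers the order -/
theorem orderOf_pow_minimalPeriod_lt {α : Type*} [MulAction G α] (g : G) (q : α)
    (hq : g • q ≠ q) : orderOf (g ^ minimalPeriod (g • ·) q) < orderOf g := by
  have h1 : minimalPeriod (g • ·) q ∣ orderOf g := by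
    rw [← MulAction.period_eq_minimalPeriod]
    exact MulAction.period_dvd_orderOf g q
  have h0 : 0 < orderOf g := orderOf_pos g
  have h2 : minimalPeriod (g • ·) q ≠ 1 := by
    intro h
    exact hq (Function.minimalPeriod_eq_one_iff_isFixedPt.mp h)
  have h3 : minimalPeriod (g • ·) q ≠ 0 := by
    intro h
    rw [h, zero_dvd_iff] at h1
    omega
  rw [orderOf_pow, Nat.gcd_eq_right h1]
  exact Nat.div_lt_self h0 (by omega)

theorem orderOf_conj_eq (a b : G) : orderOf (a⁻¹ * b * a) = orderOf b := by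
  have h : a⁻¹ * b * a = (MulAut.conj a⁻¹).toMonoidHom b := by simp
  rw [h, orderOf_injective (MulAut.conj a⁻¹).toMonoidHom (MulAut.conj a⁻¹).injective b]

end

section
variable {P : Type u} [Group P] [Finite P] {p : ℕ} [hp : Fact p.Prime]

/-- a proper subgroup of a `p`-group lies in a normal subgroup of index `p` -/
theorem exists_normal_index_p_ge (hP : IsPGroup p P) (D : Subgroup P) (hD : D ≠ ⊤) :
    ∃ M : Subgroup P, M.Normal ∧ M.index = p ∧ D ≤ M := by
  obtain ⟨n, hn⟩ := IsPGroup.iff_card.mp hP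
  obtain ⟨a, ha⟩ := IsPGroup.iff_card.mp (hP.to_subgroup D)
  have han : a < n := by
    have h1 : Nat.card D ∣ Nat.card P := Subgroup.card_subgroup_dvd_card D
    rw [ha, hn] at h1
    have h2 : a ≤ n := (Nat.pow_dvd_pow_iff_le_right hp.out.one_lt).mp h1
    rcases h2.lt_or_eq with h3 | h3
    · exact h3
    · exfalso
      apply hD
      apply Subgroup.eq_top_of_card_eq
      rw [ha, hn, h3]
  obtain ⟨M, hM1, hM2⟩ := Sylow.exists_subgroup_card_pow_prime_le p
    (show p ^ (n - 1) ∣ Nat.card P by rw [hn]; exact pow_dvd_pow p (by omega)) D ha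
    (show a ≤ n - 1 by omega)
  have hidx : M.index = p := by
    have h1 := M.card_mul_index
    rw [hM1, hn] at h1
    have h2 : p ^ n = p ^ (n - 1) * p := by
      rw [← pow_succ, Nat.sub_add_cancel (by omega)]
    rw [h2] at h1
    exact Nat.eq_of_mul_eq_mul_left (pow_pos hp.out.pos _) h1
  exact ⟨M, normal_of_index_eq_p hP M hidx, hidx, hM2⟩

/-- `ext1` is compatible with passing to an intermediate subgroup -/
theorem ext1_subgroupOf (D M : Subgroup P) (hDM : D ≤ M) (ν : D →* Multiplicative (ZMod p))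
    (z : M) :
    ext1 (D.subgroupOf M) (ν.comp (Subgroup.subgroupOfEquivOfLe hDM).toMonoidHom) z =
      ext1 D ν (z : P) := by
  by_cases hz : (z : P) ∈ D
  · have hz' : z ∈ D.subgroupOf M := Subgroup.mem_subgroupOf.mpr hz
    rw [ext1_of_mem _ _ hz', ext1_of_mem _ _ hz]
    rfl
  · have hz' : z ∉ D.subgroupOf M := fun h => hz (Subgroup.mem_subgroupOf.mp h)
    rw [ext1_of_not_mem _ _ hz', ext1_of_not_mem _ _ hz]

/-- **Theorem C.** In a `p`-group all of whose norms vanish, the "fixed point transfer" from a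
proper subgroup vanishes at every element `x` such that the character kills the elements of
smaller order. -/
theorem prod_ext1_eq_one (hP : IsPGroup p P) (hNV : NormVanish p P) (D : Subgroup P)
    (hD : D ≠ ⊤) (ν : D →* Multiplicative (ZMod p)) (x : P)
    (hx : ∀ (y : P) (hy : y ∈ D), orderOf y < orderOf x → ν ⟨y, hy⟩ = 1)
    [Fintype (P ⧸ D)] :
    ∏ c : P ⧸ D, ext1 D ν (c.out⁻¹ * x * c.out) = 1 := by
  classical
  obtain ⟨M, hMn, hidx, hDM⟩ := exists_normal_index_p_ge hP D hD
  by_cases hxM : x ∈ M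
  swap
  · apply Finset.prod_eq_one
    intro c _
    apply ext1_of_not_mem
    intro h
    apply hxM
    have h1 := hMn.conj_mem _ (hDM h) c.out
    have h2 : c.out * (c.out⁻¹ * x * c.out) * c.out⁻¹ = x := by group
    rwa [h2] at h1
  letI : Fintype (P ⧸ M) := Fintype.ofFinite _
  letI : Fintype (M ⧸ D.subgroupOf M) := Fintype.ofFinite _
  let e := Subgroup.quotientEquivProdOfLE hDM
  let νM : D.subgroupOf M →* Multiplicative (ZMod p) :=
    ν.comp (Subgroup.subgroupOfEquivOfLe hDM).toMonoidHom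
  let ψ : M →* Multiplicative (ZMod p) := MonoidHom.transfer νM
  -- the value on a coset can be computed with any representative
  have hrep : ∀ a : P, ext1 D ν ((QuotientGroup.mk a : P ⧸ D).out⁻¹ * x *
      (QuotientGroup.mk a : P ⧸ D).out) = ext1 D ν (a⁻¹ * x * a) := by
    intro a
    apply ext1_conj_coset
    apply QuotientGroup.eq.mp
    exact (QuotientGroup.out_eq' _).symm
  have hsymm : ∀ (b : P ⧸ M) (m : M ⧸ D.subgroupOf M),
      e.symm (b, m) = (QuotientGroup.mk (b.out * (m.out : P)) : P ⧸ D) := by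
    intro b m
    conv_lhs => rw [← QuotientGroup.out_eq' m]
    rfl
  rw [← Equiv.prod_comp e.symm, Fintype.prod_prod_type]
  have hinner : ∀ b : P ⧸ M, ∏ m : M ⧸ D.subgroupOf M,
      ext1 D ν ((e.symm (b, m)).out⁻¹ * x * (e.symm (b, m)).out) =
      ext1 M ψ (b.out⁻¹ * x * b.out) := by
    intro b
    have hxb : b.out⁻¹ * x * b.out ∈ M := by
      have := hMn.conj_mem x hxM b.out⁻¹
      rwa [inv_inv] at this
    rw [ext1_of_mem M ψ hxb]
    change _ = MonoidHom.transfer νM ⟨b.out⁻¹ * x * b.out, hxb⟩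
    rw [transfer_eq_prod_fixed (D.subgroupOf M) νM ⟨b.out⁻¹ * x * b.out, hxb⟩]
    · refine Finset.prod_congr rfl (fun m _ => ?_)
      rw [hsymm, hrep, ext1_subgroupOf D M hDM ν]
      congr 1
      simp only [Subgroup.coe_mul, Subgroup.coe_inv, mul_inv_rev]
      group
    · intro q hq
      have hlt := orderOf_pow_minimalPeriod_lt (⟨b.out⁻¹ * x * b.out, hxb⟩ : M) q hq
      change ν _ = 1
      apply hx
      have h1 : orderOf (⟨b.out⁻¹ * x * b.out, hxb⟩ : M) = orderOf x := by
        rw [← Subgroup.orderOf_coe]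
        exact orderOf_conj_eq b.out x
      rw [← h1]
      refine lt_of_eq_of_lt ?_ hlt
      rw [← Subgroup.orderOf_coe (a := (⟨b.out⁻¹ * x * b.out, hxb⟩ : M) ^ _)]
      have h2 := orderOf_conj_eq ((q.out : M) : P)
        (((⟨b.out⁻¹ * x * b.out, hxb⟩ : M) ^
          minimalPeriod ((⟨b.out⁻¹ * x * b.out, hxb⟩ : M) • ·) q : M) : P)
      rw [← h2]
      rfl
  rw [Finset.prod_congr rfl (fun b _ => hinner b)]
  exact hNV M hMn hidx ψ x hxM

end

end Yoshida

end Cfsg.Agent.Lib.Lead
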