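import Mathlib
import Cfsg.Agent.Lib.Lead.Yoshida5
import Cfsg.Agent.Lib.Lead.MaxClass5

set_option autoImplicit false
open MulAction Function

namespace Cfsg.Agent.Lib.Lead

universe u

namespace Yoshida

section
variable {G : Type u} [Group G] {p : ℕ}
variable (P : Subgroup G) (χ : P →* Multiplicative (ZMod p))

theorem stab_conj_mem (q₀ : G ⧸ P) (d : MulAction.stabilizer P q₀) :
    q₀.out⁻¹ * ((d : P) : G) * q₀.out ∈ P :=
  (smul_eq_iff_conj_mem P _ q₀).mp d.2

/-- the conjugated character on the stabilizer of a coset -/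
noncomputable def nu (q₀ : G ⧸ P) : MulAction.stabilizer P q₀ →* Multiplicative (ZMod p) where
  toFun d := χ ⟨q₀.out⁻¹ * ((d : P) : G) * q₀.out, stab_conj_mem P q₀ d⟩
  map_one' := by
    rw [← map_one χ]
    congr 1
    apply Subtype.ext
    simp
  map_mul' a b := by
    rw [← map_mul]
    congr 1
    apply Subtype.ext
    simp only [Subgroup.coe_mul]
    group

theorem nu_apply (q₀ : G ⧸ P) (d : MulAction.stabilizer P q₀) :
    nu P χ q₀ d = χ ⟨q₀.out⁻¹ * ((d : P) : G) * q₀.out, stab_conj_mem P q₀ d⟩ := rfl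

theorem ext1_nu (q₀ : G ⧸ P) (z : P) :
    ext1 P χ (q₀.out⁻¹ * (z : G) * q₀.out) = ext1 (MulAction.stabilizer P q₀) (nu P χ q₀) z := by
  by_cases hz : z ∈ MulAction.stabilizer P q₀
  · rw [ext1_of_mem _ _ hz, nu_apply, ext1_of_mem P χ (stab_conj_mem P q₀ ⟨z, hz⟩)]
  · have h1 : q₀.out⁻¹ * (z : G) * q₀.out ∉ P := by
      intro h
      exact hz ((smul_eq_iff_conj_mem P _ q₀).mpr h)
    rw [ext1_of_not_mem _ _ hz, ext1_of_not_mem _ _ h1]

/-- the value at a coset can be computed with any representative -/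
theorem ext1_out_eq (x a : G) :
    ext1 P χ ((QuotientGroup.mk a : G ⧸ P).out⁻¹ * x * (QuotientGroup.mk a : G ⧸ P).out) =
      ext1 P χ (a⁻¹ * x * a) := by
  apply ext1_conj_coset
  apply QuotientGroup.eq.mp
  exact (QuotientGroup.out_eq' _).symm

end

section
variable {G : Type u} [Group G] [Finite G] {p : ℕ} [hp : Fact p.Prime]
variable (P : Subgroup G) (χ : P →* Multiplicative (ZMod p))

/-- **Lemma A.** the product over a non-trivial `P`-orbit of cosets vanishes -/
theorem prod_orbit_eq_one (hP : IsPGroup p P) (hNV : NormVanish p P) (x : P)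
    (hmin : ∀ y : P, orderOf y < orderOf x → χ y = 1) (q₀ : G ⧸ P)
    (hq₀ : q₀ ∉ MulAction.fixedPoints P (G ⧸ P)) [Fintype (G ⧸ P)]
    [DecidablePred (fun a : G ⧸ P => a ∈ MulAction.orbit P q₀)] :
    ∏ a ∈ Finset.univ.filter (fun a : G ⧸ P => a ∈ MulAction.orbit P q₀),
      ext1 P χ (a.out⁻¹ * (x : G) * a.out) = 1 := by
  classical
  letI : Fintype (P ⧸ MulAction.stabilizer P q₀) := Fintype.ofFinite _
  have hD : MulAction.stabilizer P q₀ ≠ ⊤ := by
    intro h
    apply hq₀
    intro u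
    have : u ∈ MulAction.stabilizer P q₀ := by rw [h]; exact Subgroup.mem_top u
    exact this
  have hx' : ∀ (y : P) (hy : y ∈ MulAction.stabilizer P q₀), orderOf y < orderOf x →
      nu P χ q₀ ⟨y, hy⟩ = 1 := by
    intro y hy hlt
    rw [nu_apply]
    apply hmin
    rw [← Subgroup.orderOf_coe]
    change orderOf (q₀.out⁻¹ * (y : G) * q₀.out) < _
    rw [orderOf_conj_eq, Subgroup.orderOf_coe]
    exact hlt
  have hC := prod_ext1_eq_one hP hNV (MulAction.stabilizer P q₀) hD (nu P χ q₀) x hx'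
  rw [← hC]
  letI : Fintype (MulAction.orbit P q₀) := Fintype.ofFinite _
  rw [Finset.prod_subtype (p := fun a : G ⧸ P => a ∈ MulAction.orbit P q₀)
    (Finset.univ.filter (fun a : G ⧸ P => a ∈ MulAction.orbit P q₀))
    (by intro a; simp) (fun a => ext1 P χ (a.out⁻¹ * (x : G) * a.out))]
  rw [← Equiv.prod_comp (MulAction.orbitEquivQuotientStabilizer P q₀).symm]
  refine Finset.prod_congr rfl (fun c _ => ?_)
  have h1 : (((MulAction.orbitEquivQuotientStabilizer P q₀).symm c : MulAction.orbit P q₀) :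
      G ⧸ P) = (QuotientGroup.mk (((c.out : P) : G) * q₀.out) : G ⧸ P) := by
    conv_lhs => rw [← QuotientGroup.out_eq' c]
    rw [MulAction.orbitEquivQuotientStabilizer_symm_apply]
    have h2 : (c.out : P) • q₀ = ((c.out : P) : G) • (QuotientGroup.mk q₀.out : G ⧸ P) := by
      rw [QuotientGroup.out_eq']; rfl
    rw [h2]
    rfl
  rw [h1, ext1_out_eq, ← ext1_nu]
  congr 1
  simp only [Subgroup.coe_mul, Subgroup.coe_inv, mul_inv_rev]
  group

end

end Yoshida

end Cfsg.Agent.Lib.Lead
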