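import Mathlib
import Cfsg.Agent.Lib.Lead.Yoshida6

set_option autoImplicit false
open MulAction Function

namespace Cfsg.Agent.Lib.Lead

universe u

namespace Yoshida

section
variable {G : Type u} [Group G] [Finite G] {p : ℕ} [hp : Fact p.Prime]

/-- **Core of Yoshida's theorem.**  If all norms of the Sylow `p`-subgroup `P` vanish, then the
transfer of a non-trivial `N_G(P)`-invariant character of order `p` of `P` is non-trivial on `P`. -/
theorem exists_transfer_ne_one (P : Sylow p G) (hNV : NormVanish p (P : Subgroup G))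
    (χ : (P : Subgroup G) →* Multiplicative (ZMod p)) (hχ : ∃ y, χ y ≠ 1)
    (hinv : ∀ n ∈ Subgroup.normalizer ((P : Subgroup G) : Set G), ∀ y : (P : Subgroup G),
      ext1 (P : Subgroup G) χ (n⁻¹ * (y : G) * n) = χ y) :
    ∃ x : (P : Subgroup G), MonoidHom.transfer χ (x : G) ≠ 1 := by
  classical
  letI : Fintype (G ⧸ (P : Subgroup G)) := Fintype.ofFinite _
  obtain ⟨x, hx, hmin'⟩ := WellFounded.has_min
    (InvImage.wf (fun y : (P : Subgroup G) => orderOf y) Nat.lt_wfRel.wf)
    {y : (P : Subgroup G) | χ y ≠ 1} hχ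
  have hmin : ∀ y : (P : Subgroup G), orderOf y < orderOf x → χ y = 1 := by
    intro y hy
    by_contra h
    exact hmin' y h hy
  refine ⟨x, ?_⟩
  have hv : ∀ q : G ⧸ (P : Subgroup G), (x : G) • q ≠ q →
      χ ⟨q.out⁻¹ * (x : G) ^ minimalPeriod ((x : G) • ·) q * q.out,
        QuotientGroup.out_conj_pow_minimalPeriod_mem (P : Subgroup G) (x : G) q⟩ = 1 := by
    intro q hq
    apply hmin
    rw [← Subgroup.orderOf_coe, ← Subgroup.orderOf_coe]
    change orderOf (q.out⁻¹ * (x : G) ^ minimalPeriod ((x : G) • ·) q * q.out) < _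
    rw [orderOf_conj_eq]
    exact orderOf_pow_minimalPeriod_lt (x : G) q hq
  rw [transfer_eq_prod_fixed (P : Subgroup G) χ (x : G) hv,
    ← Finset.prod_filter_mul_prod_filter_not Finset.univ
      (fun q : G ⧸ (P : Subgroup G) => q ∈ MulAction.fixedPoints (P : Subgroup G)
        (G ⧸ (P : Subgroup G)))]
  -- the fixed cosets
  have hfix : ∀ q ∈ Finset.univ.filter (fun q : G ⧸ (P : Subgroup G) =>
      q ∈ MulAction.fixedPoints (P : Subgroup G) (G ⧸ (P : Subgroup G))),
      ext1 (P : Subgroup G) χ (q.out⁻¹ * (x : G) * q.out) = χ x := by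
    intro q hq
    rw [Finset.mem_filter] at hq
    have hqf := hq.2
    apply hinv
    have h1 : q.out⁻¹ ∈ Subgroup.normalizer ((P : Subgroup G) : Set G) := by
      apply mem_normalizer_of_conj_mem
      intro k hk
      rw [inv_inv]
      apply (smul_eq_iff_conj_mem (P : Subgroup G) k q).mp
      exact hqf ⟨k, hk⟩
    have := Subgroup.inv_mem _ h1
    rwa [inv_inv] at this
  rw [Finset.prod_eq_pow_card hfix]
  -- the other cosets
  have hnon : ∏ q ∈ Finset.univ.filter (fun q : G ⧸ (P : Subgroup G) =>
      ¬ q ∈ MulAction.fixedPoints (P : Subgroup G) (G ⧸ (P : Subgroup G))),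
      ext1 (P : Subgroup G) χ (q.out⁻¹ * (x : G) * q.out) = 1 := by
    apply Finset.prod_cancels_of_partition_cancels
      (MulAction.orbitRel (P : Subgroup G) (G ⧸ (P : Subgroup G)))
    intro q₀ hq₀
    rw [Finset.mem_filter] at hq₀
    have hset : (Finset.univ.filter (fun q : G ⧸ (P : Subgroup G) =>
        ¬ q ∈ MulAction.fixedPoints (P : Subgroup G) (G ⧸ (P : Subgroup G)))).filter
        (fun a => (MulAction.orbitRel (P : Subgroup G) (G ⧸ (P : Subgroup G))) a q₀) =
        Finset.univ.filter (fun a : G ⧸ (P : Subgroup G) =>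
          a ∈ MulAction.orbit (P : Subgroup G) q₀) := by
      ext a
      simp only [Finset.mem_filter, Finset.mem_univ, true_and]
      constructor
      · intro h; exact h.2
      · intro h
        refine ⟨?_, h⟩
        intro ha
        apply hq₀.2
        obtain ⟨u, rfl⟩ := h
        intro v
        have h1 : u⁻¹ • (u • q₀) = q₀ := inv_smul_smul u q₀
        have h2 : (u⁻¹ * (u * v * u⁻¹) * u) • q₀ = v • q₀ := by
          congr 1; group
        have h3 := ha (u * v * u⁻¹)
        rw [← h2, mul_smul, mul_smul, h3, h1]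
    rw [hset]
    exact prod_orbit_eq_one (P : Subgroup G) χ P.2 hNV x hmin q₀ hq₀.2
  rw [hnon, mul_one]
  -- the exponent is prime to `p`
  intro hpow
  have hord : orderOf (χ x) = p := by
    apply orderOf_eq_prime
    · have := pow_card_eq_one' (G := Multiplicative (ZMod p)) (x := χ x)
      rwa [card_mult_zmod] at this
    · exact hx
  have hdvd : p ∣ (Finset.univ.filter (fun q : G ⧸ (P : Subgroup G) =>
      q ∈ MulAction.fixedPoints (P : Subgroup G) (G ⧸ (P : Subgroup G)))).card := by
    have := orderOf_dvd_of_pow_eq_one hpow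
    rwa [hord] at this
  have hmod := P.2.card_modEq_card_fixedPoints (G ⧸ (P : Subgroup G))
  have hcard : Nat.card (MulAction.fixedPoints (P : Subgroup G) (G ⧸ (P : Subgroup G))) =
      (Finset.univ.filter (fun q : G ⧸ (P : Subgroup G) =>
        q ∈ MulAction.fixedPoints (P : Subgroup G) (G ⧸ (P : Subgroup G)))).card := by
    rw [Nat.card_eq_fintype_card, Fintype.card_subtype]
  rw [hcard, ← Subgroup.index_eq_card] at hmod
  have h1 : p ∣ (P : Subgroup G).index := by
    rw [Nat.dvd_iff_mod_eq_zero, hmod, ← Nat.dvd_iff_mod_eq_zero]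
    exact hdvd
  exact P.not_dvd_index h1

end

end Yoshida

end Cfsg.Agent.Lib.Lead
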