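import Mathlib
import Cfsg.Agent.Lib.Lead.Yoshida7

set_option autoImplicit false
open scoped commutatorElement

namespace Cfsg.Agent.Lib.Lead

universe u

namespace Yoshida

/-- a quotient by a subgroup containing the commutator subgroup is commutative -/
@[reducible] noncomputable def commGroupQuot {P : Type*} [Group P] (K : Subgroup P) [K.Normal]
    (h : commutator P ≤ K) : CommGroup (P ⧸ K) :=
  { (inferInstance : Group (P ⧸ K)) with
    mul_comm := by
      intro a b
      obtain ⟨a, rfl⟩ := QuotientGroup.mk_surjective a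
      obtain ⟨b, rfl⟩ := QuotientGroup.mk_surjective b
      rw [← QuotientGroup.mk_mul, ← QuotientGroup.mk_mul]
      apply QuotientGroup.eq.mpr
      apply h
      rw [commutator_eq_closure]
      apply Subgroup.subset_closure
      refine ⟨b⁻¹, a⁻¹, ?_⟩
      rw [commutatorElement_def]
      group }

/-- the transfer is functorial in the target -/
theorem transfer_comp {G : Type*} [Group G] {H : Subgroup G} [H.FiniteIndex] {A B : Type*}
    [CommGroup A] [CommGroup B] (f : A →* B) (ϕ : H →* A) (g : G) :
    MonoidHom.transfer (f.comp ϕ) g = f (MonoidHom.transfer ϕ g) := by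
  rw [MonoidHom.transfer_def (f.comp ϕ) default, MonoidHom.transfer_def ϕ default]
  unfold Subgroup.leftTransversals.diff
  simp only [map_prod]
  rfl

section
variable {G : Type u} [Group G] [Finite G] {p : ℕ} [hp : Fact p.Prime]

theorem conj_mem_commutator_normalizer (N : Subgroup G) {u z : G} (hu : u ∈ N)
    (hz : z ∈ ⁅N, N⁆) : u * z * u⁻¹ ∈ ⁅N, N⁆ := by
  have hzN : z ∈ N := by
    have hle : ⁅N, N⁆ ≤ N := by
      rw [Subgroup.commutator_le]
      intro a ha b hb
      rw [commutatorElement_def]
      exact N.mul_mem (N.mul_mem (N.mul_mem ha hb) (N.inv_mem ha)) (N.inv_mem hb)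
    exact hle hz
  have h1 : ⁅u, z⁆ ∈ ⁅N, N⁆ := Subgroup.commutator_mem_commutator hu hzN
  have h2 : u * z * u⁻¹ = ⁅u, z⁆ * z := by rw [commutatorElement_def]; group
  rw [h2]
  exact Subgroup.mul_mem _ h1 hz

/-- **Yoshida's transfer theorem (focal subgroup form).** -/
theorem focal_eq_of_normVanish (P : Sylow p G) (hNV : NormVanish p (P : Subgroup G)) :
    (P : Subgroup G) ⊓ commutator G = (P : Subgroup G) ⊓
      ⁅Subgroup.normalizer ((P : Subgroup G) : Set G),
        Subgroup.normalizer ((P : Subgroup G) : Set G)⁆ := by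
  classical
  have hPN : (P : Subgroup G) ≤ Subgroup.normalizer ((P : Subgroup G) : Set G) :=
    Subgroup.le_normalizer
  apply le_antisymm
  swap
  · apply inf_le_inf_left
    rw [commutator_def]
    exact Subgroup.commutator_mono le_top le_top
  -- the quotient `P / (P ∩ N')`
  haveI hP₀n : ((⁅Subgroup.normalizer ((P : Subgroup G) : Set G),
      Subgroup.normalizer ((P : Subgroup G) : Set G)⁆).subgroupOf (P : Subgroup G)).Normal := by
    refine ⟨fun z hz u => ?_⟩
    rw [Subgroup.mem_subgroupOf] at hz ⊢
    simp only [Subgroup.coe_mul, Subgroup.coe_inv]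
    exact conj_mem_commutator_normalizer _ (hPN u.2) hz
  have hcomm : commutator (P : Subgroup G) ≤
      (⁅Subgroup.normalizer ((P : Subgroup G) : Set G),
      Subgroup.normalizer ((P : Subgroup G) : Set G)⁆).subgroupOf (P : Subgroup G) := by
    rw [commutator_eq_closure, Subgroup.closure_le]
    rintro _ ⟨a, b, rfl⟩
    rw [SetLike.mem_coe, Subgroup.mem_subgroupOf]
    exact Subgroup.commutator_mem_commutator (hPN a.2) (hPN b.2)
  letI : CommGroup ((P : Subgroup G) ⧸
      (⁅Subgroup.normalizer ((P : Subgroup G) : Set G),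
      Subgroup.normalizer ((P : Subgroup G) : Set G)⁆).subgroupOf (P : Subgroup G)) :=
    commGroupQuot _ hcomm
  have hQp : IsPGroup p ((P : Subgroup G) ⧸
      (⁅Subgroup.normalizer ((P : Subgroup G) : Set G),
      Subgroup.normalizer ((P : Subgroup G) : Set G)⁆).subgroupOf (P : Subgroup G)) :=
    P.2.to_quotient _
  -- the transfer of the projection
  have hsurj : Function.Surjective ((MonoidHom.transfer (QuotientGroup.mk'
      ((⁅Subgroup.normalizer ((P : Subgroup G) : Set G),
      Subgroup.normalizer ((P : Subgroup G) : Set G)⁆).subgroupOf (P : Subgroup G)))).comp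
      (P : Subgroup G).subtype) := by
    rw [← MonoidHom.range_eq_top]
    by_contra hB
    obtain ⟨K, hKn, hKidx, hBK⟩ := exists_normal_index_p_ge hQp _ hB
    have hcardK : Nat.card (((P : Subgroup G) ⧸
        (⁅Subgroup.normalizer ((P : Subgroup G) : Set G),
        Subgroup.normalizer ((P : Subgroup G) : Set G)⁆).subgroupOf (P : Subgroup G)) ⧸ K) = p := by
      rw [← Subgroup.index_eq_card, hKidx]
    let e := mulEquivOfPrimeCardEq hcardK (card_mult_zmod (p := p))
    let f : ((P : Subgroup G) ⧸
        (⁅Subgroup.normalizer ((P : Subgroup G) : Set G),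
        Subgroup.normalizer ((P : Subgroup G) : Set G)⁆).subgroupOf (P : Subgroup G)) →*
        Multiplicative (ZMod p) := e.toMonoidHom.comp (QuotientGroup.mk' K)
    have hfK : ∀ a, a ∈ K → f a = 1 := by
      intro a ha
      change e (QuotientGroup.mk' K a) = 1
      have h0 : QuotientGroup.mk' K a = 1 := (QuotientGroup.eq_one_iff a).mpr ha
      rw [h0, map_one]
    have hfne : ∃ a, f a ≠ 1 := by
      by_contra hall
      push Not at hall
      have hKtop : K = ⊤ := by
        rw [eq_top_iff]
        intro a _
        have h1 : e (QuotientGroup.mk' K a) = 1 := hall a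
        have h2 : QuotientGroup.mk' K a = 1 := by
          rw [← e.map_one] at h1
          exact e.injective h1
        exact (QuotientGroup.eq_one_iff a).mp h2
      rw [hKtop, Subgroup.index_top] at hKidx
      exact hp.out.one_lt.ne hKidx
    let χ : (P : Subgroup G) →* Multiplicative (ZMod p) := f.comp (QuotientGroup.mk'
      ((⁅Subgroup.normalizer ((P : Subgroup G) : Set G),
      Subgroup.normalizer ((P : Subgroup G) : Set G)⁆).subgroupOf (P : Subgroup G)))
    have hχ : ∃ y, χ y ≠ 1 := by
      obtain ⟨a, ha⟩ := hfne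
      obtain ⟨y, rfl⟩ := QuotientGroup.mk'_surjective _ a
      exact ⟨y, ha⟩
    have hinv : ∀ n ∈ Subgroup.normalizer ((P : Subgroup G) : Set G), ∀ y : (P : Subgroup G),
        ext1 (P : Subgroup G) χ (n⁻¹ * (y : G) * n) = χ y := by
      intro n hn y
      have hn' := Subgroup.inv_mem _ hn
      have hmem : n⁻¹ * (y : G) * n ∈ (P : Subgroup G) := by
        have := (Subgroup.mem_normalizer_iff.mp hn' (y : G)).mp y.2
        rwa [inv_inv] at this
      rw [ext1_of_mem _ _ hmem]
      change f (QuotientGroup.mk' _ _) = f (QuotientGroup.mk' _ _)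
      congr 1
      symm
      apply QuotientGroup.eq.mpr
      rw [Subgroup.mem_subgroupOf]
      have h1 : ⁅(y : G)⁻¹, n⁻¹⁆ ∈ ⁅Subgroup.normalizer ((P : Subgroup G) : Set G),
          Subgroup.normalizer ((P : Subgroup G) : Set G)⁆ :=
        Subgroup.commutator_mem_commutator (Subgroup.inv_mem _ (hPN y.2)) hn'
      have h2 : ((y⁻¹ * (⟨n⁻¹ * (y : G) * n, hmem⟩ : (P : Subgroup G)) : (P : Subgroup G)) : G) =
          ⁅(y : G)⁻¹, n⁻¹⁆ := by
        rw [commutatorElement_def]
        simp only [Subgroup.coe_mul, Subgroup.coe_inv]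
        group
      rw [h2]; exact h1
    obtain ⟨x, hx⟩ := exists_transfer_ne_one P hNV χ hχ hinv
    apply hx
    change MonoidHom.transfer (f.comp _) (x : G) = 1
    rw [transfer_comp]
    apply hfK
    apply hBK
    exact ⟨x, rfl⟩
  -- conclusion by counting
  intro z hz
  refine ⟨hz.1, ?_⟩
  have hker : ((MonoidHom.transfer (QuotientGroup.mk'
      ((⁅Subgroup.normalizer ((P : Subgroup G) : Set G),
      Subgroup.normalizer ((P : Subgroup G) : Set G)⁆).subgroupOf (P : Subgroup G)))).comp
      (P : Subgroup G).subtype).ker =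
      (⁅Subgroup.normalizer ((P : Subgroup G) : Set G),
      Subgroup.normalizer ((P : Subgroup G) : Set G)⁆).subgroupOf (P : Subgroup G) := by
    symm
    apply Subgroup.eq_of_le_of_card_ge
    · intro y hy
      rw [Subgroup.mem_subgroupOf] at hy
      rw [MonoidHom.mem_ker, MonoidHom.comp_apply]
      apply Abelianization.commutator_subset_ker
      rw [commutator_def]
      exact Subgroup.commutator_mono le_top le_top hy
    · have h1 := Subgroup.card_mul_index ((MonoidHom.transfer (QuotientGroup.mk'
        ((⁅Subgroup.normalizer ((P : Subgroup G) : Set G),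
        Subgroup.normalizer ((P : Subgroup G) : Set G)⁆).subgroupOf (P : Subgroup G)))).comp
        (P : Subgroup G).subtype).ker
      have h2 := Subgroup.card_mul_index
        ((⁅Subgroup.normalizer ((P : Subgroup G) : Set G),
        Subgroup.normalizer ((P : Subgroup G) : Set G)⁆).subgroupOf (P : Subgroup G))
      rw [Subgroup.index_ker, MonoidHom.range_eq_top.mpr hsurj, Subgroup.card_top] at h1
      rw [Subgroup.index_eq_card] at h2
      rw [← h2] at h1
      have hpos : 0 < Nat.card ((P : Subgroup G) ⧸
        (⁅Subgroup.normalizer ((P : Subgroup G) : Set G),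
        Subgroup.normalizer ((P : Subgroup G) : Set G)⁆).subgroupOf (P : Subgroup G)) :=
        Nat.card_pos
      exact (Nat.eq_of_mul_eq_mul_right hpos h1).le
  have hzk : (⟨z, hz.1⟩ : (P : Subgroup G)) ∈ ((MonoidHom.transfer (QuotientGroup.mk'
      ((⁅Subgroup.normalizer ((P : Subgroup G) : Set G),
      Subgroup.normalizer ((P : Subgroup G) : Set G)⁆).subgroupOf (P : Subgroup G)))).comp
      (P : Subgroup G).subtype).ker := by
    rw [MonoidHom.mem_ker, MonoidHom.comp_apply]
    exact Abelianization.commutator_subset_ker _ hz.2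
  rw [hker, Subgroup.mem_subgroupOf] at hzk
  exact hzk

end

end Yoshida

end Cfsg.Agent.Lib.Lead
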