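import Mathlib
import Cfsg.Agent.Lib.Lead.Yoshida8

set_option autoImplicit false

namespace Cfsg.Agent.Lib.Lead

universe u

namespace Yoshida

section
variable {p : ℕ} [hp : Fact p.Prime]

theorem padicValNat_factorial_sq : padicValNat p (p ^ 2).factorial = p + 1 := by
  have hlog : Nat.log p (p ^ 2) < 3 := by
    rw [Nat.log_pow hp.out.one_lt]; omega
  rw [padicValNat_factorial hlog]
  have hI : Finset.Ico 1 3 = {1, 2} := by decide
  rw [hI, Finset.sum_pair (by norm_num)]
  have hp0 : 0 < p := hp.out.pos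
  rw [pow_one, Nat.div_self (pow_pos hp0 2), pow_two, Nat.mul_div_cancel _ hp0]

theorem factorization_card_perm :
    (Nat.card (Equiv.Perm (Fin (p ^ 2)))).factorization p = p + 1 := by
  rw [Nat.card_eq_fintype_card, Fintype.card_perm, Fintype.card_fin, Nat.factorization_def _ hp.out]
  exact padicValNat_factorial_sq

end

section
variable {P : Type u} [Group P] [Finite P] {p : ℕ} [hp : Fact p.Prime]

/-- a wreath quotient gives a surjection onto a Sylow `p`-subgroup of `S_{p²}` -/
theorem exists_sylow_surjective_of_hasWreathQuot (hP : IsPGroup p P) (h : HasWreathQuot p P) :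
    ∃ (W : Sylow p (Equiv.Perm (Fin (p ^ 2))))
      (f : P →* ↥(W : Subgroup (Equiv.Perm (Fin (p ^ 2))))), Function.Surjective f := by
  classical
  obtain ⟨L, hL1, hL2⟩ := h
  have hcard : Nat.card (P ⧸ L) = p ^ 2 := by rw [← Subgroup.index_eq_card, hL1]
  let ε : (P ⧸ L) ≃ Fin (p ^ 2) := Finite.equivFinOfCardEq hcard
  let φ : P →* Equiv.Perm (Fin (p ^ 2)) :=
    (ε.permCongrHom : Equiv.Perm (P ⧸ L) ≃* Equiv.Perm (Fin (p ^ 2))).toMonoidHom.comp
      (MulAction.toPermHom P (P ⧸ L))
  have hker : φ.ker = L.normalCore := by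
    rw [Subgroup.normalCore_eq_ker]
    ext g
    simp only [MonoidHom.mem_ker, φ, MonoidHom.comp_apply, MulEquiv.coe_toMonoidHom,
      EmbeddingLike.map_eq_one_iff]
  have hrange : Nat.card φ.range = L.normalCore.index := by
    rw [← hker, Subgroup.index_ker]
  obtain ⟨k, hk⟩ := hP.index L.normalCore
  have hk1 : p + 1 ≤ k := by
    rw [hk] at hL2
    exact (Nat.pow_dvd_pow_iff_le_right hp.out.one_lt).mp hL2
  have hk2 : k ≤ p + 1 := by
    have h1 : Nat.card φ.range ∣ Nat.card (Equiv.Perm (Fin (p ^ 2))) :=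
      Subgroup.card_subgroup_dvd_card _
    rw [hrange, hk] at h1
    have h2 := (Nat.Prime.pow_dvd_iff_le_factorization hp.out Nat.card_pos.ne').mp h1
    rwa [factorization_card_perm] at h2
  have hk3 : k = p + 1 := le_antisymm hk2 hk1
  have hcardR : Nat.card φ.range = p ^ (Nat.card (Equiv.Perm (Fin (p ^ 2)))).factorization p := by
    rw [hrange, hk, hk3, factorization_card_perm]
  exact ⟨Sylow.ofCard φ.range hcardR, φ.rangeRestrict, φ.rangeRestrict_surjective⟩

end

end Yoshida

end Cfsg.Agent.Lib.Lead
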