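import Mathlib
import Cfsg.Prelude.Def_Solvable
import Cfsg.Agent.Lib.Helper9.PCore
import Cfsg.Agent.Lib.Helper9.Hyperfocal1
import Cfsg.Agent.Lib.Lead.QuadCenter

set_option autoImplicit false

/-!
# Sylow subgroups of small class: generation by the centraliser of the `p^k`-th powers of `Z(P)` and `N_G(P)`
(group-local lemma for S5218)

If `C_G(O_p(G)) ≤ O_p(G)` and the Sylow `p`-subgroup `P` has class at most `m ≤ k (p - 1) + 1`, then `G` is
generated by the centraliser of the `p ^ k`-th powers of the elements of `Z(P)` and `N_G(P)`.  The key computation: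
an element `g` of `P` with `g ^ p ∈ Q = O_p(G)` acts on `Z(Q)` as `1 + N` with `N ^ m = 0` and `(1 + N) ^ p = 1`, so
`p N = N ^ p * unit` and `p ^ k N = N ^ (k (p - 1) + 1) * unit = 0`.
-/

namespace Cfsg.Agent.Lib.Lead.PowGen

open Cfsg Cfsg.Agent.Lib.Helper9 Cfsg.Agent.Lib.Lead.QuadCenter
open Polynomial Finset
open scoped commutatorElement

universe u

theorem one_add_pow_prime {A : Type*} [CommRing A] (p : ℕ) (hp : p.Prime) (x : A) :
    ∃ s : A, (1 + x) ^ p = 1 + (p : A) * x * (1 + x * s) + x ^ p := by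
  have h := add_pow_prime_eq hp x (1 : A)
  have h2 : 2 ≤ p := hp.two_le
  have hIoo : Ioo 0 p = insert 1 (Ioo 1 p) := by
    ext k
    simp only [mem_Ioo, mem_insert]
    omega
  have hnot : (1 : ℕ) ∉ Ioo 1 p := by simp
  refine ⟨∑ k ∈ Ioo 1 p, x ^ (k - 2) * ((p.choose k / p : ℕ) : A), ?_⟩
  rw [add_comm 1 x, h, hIoo, sum_insert hnot]
  have h1 : p.choose 1 / p = 1 := by
    rw [Nat.choose_one_right]; exact Nat.div_self hp.pos
  have hs : ∑ k ∈ Ioo 1 p, x ^ (k - 1) * (1 : A) ^ (p - k - 1) * ((p.choose k / p : ℕ) : A)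
      = x * ∑ k ∈ Ioo 1 p, x ^ (k - 2) * ((p.choose k / p : ℕ) : A) := by
    rw [mul_sum]
    apply sum_congr rfl
    intro k hk
    rw [mem_Ioo] at hk
    have : k - 1 = (k - 2) + 1 := by omega
    rw [this, pow_succ, one_pow]; ring
  rw [hs, h1]
  simp only [Nat.sub_self, pow_zero, one_pow, Nat.cast_one, mul_one]
  ring

theorem ring_lemma {A : Type*} [CommRing A] (p : ℕ) (hp : p.Prime) (x : A) (m : ℕ)
    (hx : x ^ m = 0) (h1 : (1 + x) ^ p = 1) :
    ∀ k : ℕ, m ≤ k * (p - 1) + 1 → (p : A) ^ k * x = 0 := by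
  obtain ⟨s, hs⟩ := one_add_pow_prime p hp x
  have hnil : IsNilpotent (x * s) := ⟨m, by rw [mul_pow, hx, zero_mul]⟩
  obtain ⟨u, hu⟩ := hnil.isUnit_one_add
  -- p x u = - x^p
  have h2 : (p : A) * x * u = - x ^ p := by
    rw [hu]
    have := hs
    rw [h1] at this
    linear_combination -this
  have h3 : (p : A) * x = x ^ p * (-(↑u⁻¹ : A)) := by
    have : (p : A) * x = ((p : A) * x * u) * (↑u⁻¹ : A) := by
      rw [mul_assoc ((p : A) * x), Units.mul_inv, mul_one]
    rw [this, h2]; ring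
  have h4 : ∀ k : ℕ, (p : A) ^ k * x = x ^ (k * (p - 1) + 1) * (-(↑u⁻¹ : A)) ^ k := by
    intro k
    induction k with
    | zero => simp
    | succ k ih =>
      have hp1 : 1 ≤ p := hp.one_lt.le
      have e : (k + 1) * (p - 1) + 1 = k * (p - 1) + p := by
        have : p - 1 + 1 = p := Nat.sub_add_cancel hp1
        rw [add_mul, one_mul, add_assoc, this]
      calc (p : A) ^ (k + 1) * x = (p : A) * ((p : A) ^ k * x) := by ring
        _ = (p : A) * (x ^ (k * (p - 1) + 1) * (-(↑u⁻¹ : A)) ^ k) := by rw [ih]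
        _ = x ^ (k * (p - 1)) * ((p : A) * x) * (-(↑u⁻¹ : A)) ^ k := by ring
        _ = x ^ (k * (p - 1)) * (x ^ p * (-(↑u⁻¹ : A))) * (-(↑u⁻¹ : A)) ^ k := by rw [h3]
        _ = x ^ ((k + 1) * (p - 1) + 1) * (-(↑u⁻¹ : A)) ^ (k + 1) := by rw [e]; ring
  intro k hk
  rw [h4 k]
  obtain ⟨d, hd⟩ := Nat.exists_eq_add_of_le hk
  rw [hd, pow_add, hx, zero_mul, zero_mul]


theorem poly_lemma (p : ℕ) (hp : p.Prime) (m k : ℕ) (hk : m ≤ k * (p - 1) + 1) :
    ∃ a b : ℤ[X], a * ((1 + X) ^ p - 1) + b * X ^ m = (p : ℤ[X]) ^ k * X := by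
  set I : Ideal ℤ[X] := Ideal.span {(1 + X) ^ p - 1, X ^ m} with hI
  have hx : (Ideal.Quotient.mk I X) ^ m = 0 := by
    rw [← map_pow, Ideal.Quotient.eq_zero_iff_mem]
    exact Ideal.subset_span (by simp)
  have h1 : (1 + Ideal.Quotient.mk I X) ^ p = 1 := by
    have : Ideal.Quotient.mk I ((1 + X) ^ p - 1) = 0 := by
      rw [Ideal.Quotient.eq_zero_iff_mem]
      exact Ideal.subset_span (by simp)
    rw [map_sub, map_pow, map_add, map_one, sub_eq_zero] at this
    exact this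
  have h := ring_lemma p hp (Ideal.Quotient.mk I X) m hx h1 k hk
  have h' : Ideal.Quotient.mk I ((p : ℤ[X]) ^ k * X) = 0 := by
    rw [map_mul, map_pow, map_natCast]
    exact h
  rw [Ideal.Quotient.eq_zero_iff_mem, hI, Ideal.mem_span_pair] at h'
  exact h'

theorem end_lemma {E : Type*} [Ring E] (p : ℕ) (hp : p.Prime) (m k : ℕ) (hk : m ≤ k * (p - 1) + 1)
    (T : E) (hT : T ^ p = 1) (hN : (T - 1) ^ m = 0) : (p : E) ^ k * (T - 1) = 0 := by
  obtain ⟨a, b, hab⟩ := poly_lemma p hp m k hk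
  have := congrArg (Polynomial.aeval (R := ℤ) (T - 1)) hab
  simp only [map_add, map_mul, map_sub, map_pow, map_one, aeval_X, map_natCast] at this
  rw [← this]
  have e : (1 : E) + (T - 1) = T := by abel
  rw [e, hT, hN, sub_self, mul_zero, mul_zero, add_zero]

theorem commute_ppow_of_class {G : Type*} [Group G] (p : ℕ) [hp : Fact p.Prime] (V : Subgroup G)
    [hVn : V.Normal] (hVc : ∀ x ∈ V, ∀ y ∈ V, x * y = y * x) (g : G) (m k : ℕ)
    (hk : m ≤ k * (p - 1) + 1) (hgp : ∀ v ∈ V, g ^ p * v = v * g ^ p)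
    (hcl : ∀ v ∈ V, (fun w => g * w * g⁻¹ * w⁻¹)^[m] v = 1)
    {v : G} (hv : v ∈ V) : g * v ^ (p ^ k) = v ^ (p ^ k) * g := by
  let _ : CommGroup ↥V := { (inferInstance : Group ↥V) with
    mul_comm := fun a b => Subtype.ext (hVc a a.2 b b.2) }
  let cj : ↥V →* ↥V :=
    { toFun := fun w => ⟨g * w * g⁻¹, hVn.conj_mem w w.2 g⟩
      map_one' := by ext; simp
      map_mul' := by intro a b; ext; simp }
  let T : Module.End ℤ (Additive ↥V) := (MonoidHom.toAdditive cj).toIntLinearMap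
  have hTapp : ∀ w : ↥V, T (Additive.ofMul w) = Additive.ofMul (cj w) := fun w => rfl
  -- powers of `T`
  have hTpow : ∀ (j : ℕ) (w : ↥V), (T ^ j) (Additive.ofMul w) =
      Additive.ofMul (⟨g ^ j * w * (g ^ j)⁻¹, hVn.conj_mem w w.2 (g ^ j)⟩ : ↥V) := by
    intro j
    induction j with
    | zero => intro w; simp
    | succ j ih =>
      intro w
      rw [pow_succ', Module.End.mul_apply, ih, hTapp]
      congr 1
      apply Subtype.ext
      show g * (g ^ j * w * (g ^ j)⁻¹) * g⁻¹ = g ^ (j + 1) * w * (g ^ (j + 1))⁻¹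
      rw [pow_succ']; group
  have hT : T ^ p = 1 := by
    apply LinearMap.ext
    intro w
    obtain ⟨w, rfl⟩ := Additive.ofMul.surjective w
    rw [hTpow, Module.End.one_apply]
    congr 1
    apply Subtype.ext
    show g ^ p * w * (g ^ p)⁻¹ = w
    rw [hgp w w.2]; group
  -- powers of `T - 1`
  have hNapp : ∀ w : ↥V, (T - 1) (Additive.ofMul w) =
      Additive.ofMul (⟨g * w * g⁻¹ * (w : G)⁻¹,
        V.mul_mem (hVn.conj_mem w w.2 g) (V.inv_mem w.2)⟩ : ↥V) := by
    intro w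
    rw [LinearMap.sub_apply, hTapp, Module.End.one_apply, ← ofMul_div]
    congr 1
    apply Subtype.ext
    rw [div_eq_mul_inv]
    rfl
  have hNpow : ∀ (j : ℕ) (w : ↥V), ((((T - 1) ^ j) (Additive.ofMul w)).toMul : G) =
      (fun u => g * u * g⁻¹ * u⁻¹)^[j] (w : G) := by
    intro j
    induction j with
    | zero => intro w; simp
    | succ j ih =>
      intro w
      rw [pow_succ, Module.End.mul_apply, hNapp, ih, Function.iterate_succ_apply]
  have hN : (T - 1) ^ m = 0 := by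
    apply LinearMap.ext
    intro w
    obtain ⟨w, rfl⟩ := Additive.ofMul.surjective w
    have := hNpow m w
    rw [hcl w w.2] at this
    apply Additive.toMul.injective
    apply Subtype.ext
    rw [this]
    rfl
  have key := end_lemma p hp.out m k hk T hT hN
  have key2 : (((p : Module.End ℤ (Additive ↥V)) ^ k * (T - 1))) (Additive.ofMul (⟨v, hv⟩ : ↥V)) = 0 := by
    rw [key]; rfl
  rw [Module.End.mul_apply, hNapp, ← Nat.cast_pow, Module.End.natCast_apply] at key2
  have key3 : (g * v * g⁻¹ * v⁻¹) ^ (p ^ k) = 1 := by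
    have := congrArg (fun a : Additive ↥V => (a.toMul : G)) key2
    simpa using this
  have hd : (g * v * g⁻¹ * v⁻¹) * v = v * (g * v * g⁻¹ * v⁻¹) :=
    hVc _ (V.mul_mem (hVn.conj_mem v hv g) (V.inv_mem hv)) _ hv
  have h4 : g * v ^ (p ^ k) * g⁻¹ = v ^ (p ^ k) := by
    have h5 : g * v * g⁻¹ = (g * v * g⁻¹ * v⁻¹) * v := by group
    rw [← conj_pow, h5, (show Commute _ v from hd).mul_pow, key3, one_mul]
  calc g * v ^ (p ^ k) = (g * v ^ (p ^ k) * g⁻¹) * g := by group
    _ = v ^ (p ^ k) * g := by rw [h4]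

/-- iterated commutators with a fixed element of a group of class at most `m` vanish. -/
theorem iterate_comm_eq_one_of_lcs {G : Type*} [Group G] (P : Subgroup G) (m : ℕ)
    (hcl : P.lowerCentralSeries m = ⊥) {g v : G} (hg : g ∈ P) (hv : v ∈ P) :
    (fun w => g * w * g⁻¹ * w⁻¹)^[m] v = 1 := by
  have key : ∀ j : ℕ, (fun w => g * w * g⁻¹ * w⁻¹)^[j] v ∈ P.lowerCentralSeries j := by
    intro j
    induction j with
    | zero =>
      rw [Subgroup.lowerCentralSeries_zero]
      exact hv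
    | succ j ih =>
      rw [Function.iterate_succ_apply', Subgroup.lowerCentralSeries_succ]
      have h1 := Subgroup.commutator_mem_commutator ih hg
      have h2 := Subgroup.inv_mem _ h1
      rw [commutatorElement_inv] at h2
      rw [commutatorElement_def] at h2
      exact h2
  have := key m
  rw [hcl, Subgroup.mem_bot] at this
  exact this

section main

variable {p : ℕ} [hp : Fact p.Prime]

theorem class_gen_aux (m k : ℕ) (hk : m ≤ k * (p - 1) + 1) :
    ∀ (n : ℕ) (G : Type u) [Group G] [Finite G] (P : Sylow p G), Nat.card G = n →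
      Subgroup.centralizer ((Cfsg.pCore p G : Subgroup G) : Set G) ≤ Cfsg.pCore p G →
      (∀ g ∈ (P : Subgroup G), ∀ v ∈ (P : Subgroup G), (fun w => g * w * g⁻¹ * w⁻¹)^[m] v = 1) →
      ∀ H : Subgroup G,
      (∀ g : G, (∀ x ∈ (P : Subgroup G), (∀ y ∈ (P : Subgroup G), y * x = x * y) →
        g * x ^ (p ^ k) = x ^ (p ^ k) * g) → g ∈ H) →
      Subgroup.normalizer (((P : Subgroup G)) : Set G) ≤ H →
      H = ⊤ := by
  intro n
  induction n using Nat.strong_induction_on with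
  | _ n ih =>
  intro G _ _ P hn hcent hcl H hC hN
  set Q := Cfsg.pCore p G with hQdef
  haveI hQn : Q.Normal := pCore_normal' p
  have hQp : IsPGroup p Q := pCore_isPGroup' p
  have hQP : Q ≤ (P : Subgroup G) := pCore_le_sylow P
  by_cases hPQ : (P : Subgroup G) ≤ Q
  · have hPeq : (P : Subgroup G) = Q := le_antisymm hPQ hQP
    rw [hPeq, Subgroup.normalizer_eq_top_iff.mpr hQn] at hN
    exact top_le_iff.mp hN
  obtain ⟨g₀, hg₀P, hg₀Q⟩ := SetLike.not_le_iff_exists.mp hPQ
  set ZQ := (Subgroup.center ↥Q).map Q.subtype with hZQ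
  haveI hZQn : ZQ.Normal := ⟨fun v hv h => map_center_conj_mem Q hv h⟩
  have hZQQ : ZQ ≤ Q := fun v hv => ((mem_map_center_iff Q v).mp hv).1
  have hZQc : ∀ x ∈ ZQ, ∀ y ∈ ZQ, x * y = y * x := fun x hx y hy =>
    ((mem_map_center_iff Q y).mp hy).2 x (hZQQ hx)
  -- `Z(P) ≤ Z(Q)`
  have hZPQ : ∀ x ∈ (P : Subgroup G), (∀ y ∈ (P : Subgroup G), y * x = x * y) → x ∈ ZQ := by
    intro x hxP hxc
    have hxQ : x ∈ Q := by
      apply hcent
      rw [Subgroup.mem_centralizer_iff]
      intro y hy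
      exact hxc y (hQP hy)
    rw [hZQ, mem_map_center_iff]
    exact ⟨hxQ, fun y hy => hxc y (hQP hy)⟩
  -- choose a power `g` of `g₀` with `g ∉ Q` and `g ^ p ∈ Q`
  have hex : ∃ j : ℕ, g₀ ^ (p ^ j) ∈ Q := by
    obtain ⟨j, hj⟩ := P.isPGroup' ⟨g₀, hg₀P⟩
    refine ⟨j, ?_⟩
    have : g₀ ^ (p ^ j) = 1 := by
      have := congrArg Subtype.val hj
      simpa using this
    rw [this]
    exact Subgroup.one_mem _
  classical
  set j₀ := Nat.find hex with hj₀
  have hj0 : j₀ ≠ 0 := by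
    intro h0
    have := Nat.find_spec hex
    rw [← hj₀, h0, pow_zero, pow_one] at this
    exact hg₀Q this
  obtain ⟨j', hj'⟩ := Nat.exists_eq_succ_of_ne_zero hj0
  set g := g₀ ^ (p ^ j') with hg
  have hgQ : g ∉ Q := by
    have := Nat.find_min hex (m := j') (by omega)
    exact this
  have hgp : g ^ p ∈ Q := by
    have := Nat.find_spec hex
    rw [← hj₀, hj', pow_succ, pow_mul] at this
    exact this
  have hgP : g ∈ (P : Subgroup G) := Subgroup.pow_mem _ hg₀P _
  -- the centraliser of the `p ^ k`-th powers of the elements of `Z(Q)`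
  set T : Set G := {z | ∃ v ∈ ZQ, z = v ^ (p ^ k)} with hT
  set C₁ := Subgroup.centralizer T with hC₁
  have hC₁mem : ∀ c : G, c ∈ C₁ ↔ ∀ v ∈ ZQ, v ^ (p ^ k) * c = c * v ^ (p ^ k) := by
    intro c
    rw [hC₁, Subgroup.mem_centralizer_iff]
    constructor
    · intro H' v hv
      exact H' _ ⟨v, hv, rfl⟩
    · rintro H' _ ⟨v, hv, rfl⟩
      exact H' v hv
  haveI hC₁n : C₁.Normal := by
    constructor
    intro c hc u
    rw [hC₁mem] at hc ⊢
    intro v hv
    have hv' : u⁻¹ * v * u⁻¹⁻¹ ∈ ZQ := map_center_conj_mem Q hv u⁻¹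
    have := hc _ hv'
    rw [conj_pow] at this
    calc v ^ (p ^ k) * (u * c * u⁻¹)
        = u * ((u⁻¹ * v ^ (p ^ k) * u⁻¹⁻¹) * c) * u⁻¹ := by group
      _ = u * (c * (u⁻¹ * v ^ (p ^ k) * u⁻¹⁻¹)) * u⁻¹ := by rw [this]
      _ = u * c * u⁻¹ * v ^ (p ^ k) := by group
  have hgC₁ : g ∈ C₁ := by
    rw [hC₁mem]
    intro v hv
    refine (commute_ppow_of_class p ZQ hZQc g m k hk ?_ ?_ hv).symm
    · intro w hw
      exact (((mem_map_center_iff Q w).mp hw).2 _ hgp)
    · intro w hw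
      exact hcl g hgP w (hQP (hZQQ hw))
  have hC₁H : C₁ ≤ H := by
    intro c hc
    apply hC
    intro x hxP hxc
    exact ((hC₁mem c).mp hc x (hZPQ x hxP hxc)).symm
  -- Frattini
  obtain ⟨T₀, hT₀⟩ := exists_sylow_map_eq_inf P C₁
  have hfr := Sylow.normalizer_sup_eq_top T₀
  rw [hT₀] at hfr
  set M := Subgroup.normalizer ((((P : Subgroup G) ⊓ C₁ : Subgroup G)) : Set G) with hM
  have hNPM : Subgroup.normalizer (((P : Subgroup G)) : Set G) ≤ M := by
    intro y hy
    rw [Subgroup.mem_normalizer_iff] at hy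
    have hyi : ∀ w, w ∈ (P : Subgroup G) ↔ y⁻¹ * w * y⁻¹⁻¹ ∈ (P : Subgroup G) := by
      intro w
      rw [hy (y⁻¹ * w * y⁻¹⁻¹)]
      have : y * (y⁻¹ * w * y⁻¹⁻¹) * y⁻¹ = w := by group
      rw [this]
    rw [hM, Subgroup.mem_normalizer_iff]
    intro w
    constructor
    · rintro ⟨hw1, hw2⟩
      exact ⟨(hy w).mp hw1, hC₁n.conj_mem w hw2 y⟩
    · rintro ⟨hw1, hw2⟩
      refine ⟨(hy w).mpr hw1, ?_⟩
      have e : w = y⁻¹ * (y * w * y⁻¹) * y⁻¹⁻¹ := by group
      rw [e]
      exact hC₁n.conj_mem _ hw2 y⁻¹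
  have hPM : (P : Subgroup G) ≤ M := Subgroup.le_normalizer.trans hNPM
  have hMtop : M ≠ ⊤ := by
    intro htop
    have hnorm' : ((P : Subgroup G) ⊓ C₁).Normal := Subgroup.normalizer_eq_top_iff.mp htop
    have hle : (P : Subgroup G) ⊓ C₁ ≤ Q := le_pCore hnorm' (P.isPGroup'.to_le inf_le_left)
    exact hgQ (hle ⟨hgP, hgC₁⟩)
  have hcardM : Nat.card M < n := by
    rw [← hn]
    have hle : Nat.card M ≤ Nat.card G := Subgroup.card_le_card_group M
    rcases hle.lt_or_eq with h | h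
    · exact h
    · exact absurd ((Subgroup.card_eq_iff_eq_top M).mp h) hMtop
  -- the induction hypothesis for `M`
  have hQM : Q ≤ M := hQP.trans hPM
  have hcentM : Subgroup.centralizer ((Cfsg.pCore p ↥M : Subgroup ↥M) : Set ↥M) ≤ Cfsg.pCore p ↥M := by
    have hQ' : Q.subgroupOf M ≤ Cfsg.pCore p ↥M := by
      apply le_pCore
      · exact Subgroup.Normal.subgroupOf hQn M
      · exact hQp.comap_subtype
    intro c hc
    apply hQ'
    rw [Subgroup.mem_subgroupOf]
    apply hcent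
    rw [Subgroup.mem_centralizer_iff]
    intro y hy
    rw [Subgroup.mem_centralizer_iff] at hc
    have := hc ⟨y, hQM hy⟩ (hQ' (Subgroup.mem_subgroupOf.mpr hy))
    exact congrArg Subtype.val this
  have hiter : ∀ (a v : ↥M) (j : ℕ), (((fun w : ↥M => a * w * a⁻¹ * w⁻¹)^[j] v : ↥M) : G) =
      (fun w : G => (a : G) * w * (a : G)⁻¹ * w⁻¹)^[j] (v : G) := by
    intro a v j
    induction j with
    | zero => rfl
    | succ j ihj =>
      rw [Function.iterate_succ_apply', Function.iterate_succ_apply', ← ihj]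
      simp
  have hIH := ih (Nat.card M) hcardM ↥M (P.subtype hPM) rfl hcentM
    (by
      intro a ha v hv
      rw [Sylow.coe_subtype, Subgroup.mem_subgroupOf] at ha hv
      apply Subtype.ext
      rw [hiter]
      exact hcl a ha v hv)
    (H.subgroupOf M)
    (by
      intro c hc
      rw [Subgroup.mem_subgroupOf]
      apply hC
      intro x hxP hxc
      have := hc ⟨x, hPM hxP⟩
        (by rw [Sylow.coe_subtype, Subgroup.mem_subgroupOf]; exact hxP)
        (by
          intro y hy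
          rw [Sylow.coe_subtype, Subgroup.mem_subgroupOf] at hy
          exact Subtype.ext (hxc y hy))
      have := congrArg Subtype.val this
      simpa using this)
    (by
      intro c hc
      rw [Subgroup.mem_subgroupOf]
      apply hN
      rw [Sylow.coe_subtype, Subgroup.mem_normalizer_iff] at hc
      rw [Subgroup.mem_normalizer_iff]
      have hci : ∀ w : ↥M, w ∈ (P : Subgroup G).subgroupOf M ↔ c⁻¹ * w * c⁻¹⁻¹ ∈ (P : Subgroup G).subgroupOf M := by
        intro w
        rw [hc (c⁻¹ * w * c⁻¹⁻¹)]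
        have : c * (c⁻¹ * w * c⁻¹⁻¹) * c⁻¹ = w := by group
        rw [this]
      intro w
      constructor
      · intro hw
        have := (hc ⟨w, hPM hw⟩).mp (Subgroup.mem_subgroupOf.mpr hw)
        exact Subgroup.mem_subgroupOf.mp this
      · intro hw
        have hwM : w ∈ M := by
          have e : w = (c : G)⁻¹ * ((c : G) * w * (c : G)⁻¹) * (c : G)⁻¹⁻¹ := by group
          rw [e]
          exact M.mul_mem (M.mul_mem (M.inv_mem c.2) (hPM hw)) (M.inv_mem (M.inv_mem c.2))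
        have := (hc ⟨w, hwM⟩).mpr (Subgroup.mem_subgroupOf.mpr hw)
        exact Subgroup.mem_subgroupOf.mp this)
  -- conclusion
  have hMH : M ≤ H := by
    intro c hc
    have : (⟨c, hc⟩ : ↥M) ∈ H.subgroupOf M := by rw [hIH]; trivial
    exact Subgroup.mem_subgroupOf.mp this
  rw [eq_top_iff, ← hfr]
  exact sup_le hMH hC₁H

/-- **Group-local lemma for S5218.** -/
theorem class_gen (m k : ℕ) (hk : m ≤ k * (p - 1) + 1)
    (G : Type u) [Group G] [Finite G] (P : Sylow p G)
    (hcent : Subgroup.centralizer ((Cfsg.pCore p G : Subgroup G) : Set G) ≤ Cfsg.pCore p G)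
    (hcl : (P : Subgroup G).lowerCentralSeries m = ⊥)
    (H : Subgroup G)
    (hC : ∀ g : G, (∀ x ∈ (P : Subgroup G), (∀ y ∈ (P : Subgroup G), y * x = x * y) →
        g * x ^ (p ^ k) = x ^ (p ^ k) * g) → g ∈ H)
    (hN : Subgroup.normalizer (((P : Subgroup G)) : Set G) ≤ H) :
    H = ⊤ :=
  class_gen_aux m k hk (Nat.card G) G P rfl hcent
    (fun _ hg _ hv => iterate_comm_eq_one_of_lcs (P : Subgroup G) m hcl hg hv) H hC hN

end main

end Cfsg.Agent.Lib.Lead.PowGen
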