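import Mathlib
import Cfsg.Prelude.Def_Solvable
import Cfsg.Prelude.Def_PLocal
import Cfsg.Agent.Lib.Helper9.PCore
import Cfsg.Agent.Lib.Helper9.Hyperfocal1
import Cfsg.Agent.Lib.Lead.QuadCenter
import Cfsg.Agent.Lib.Lead.QuadJ
import Cfsg.Agent.Lib.Lead.PowGen

set_option autoImplicit false

/-!
# Fusion-controlled local generation (group-local lemmas for S5220 and S5218)

`C R g` is an abstract predicate ("conjugation by `g` on `R` is allowed"), closed under composition, containing the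
conjugations by elements centralising the `p`-th powers of `Z(P)` and by elements of `N_G(W(P))`.  If
`C_G(O_p(G)) ≤ O_p(G)` and `W` satisfies the quadratic-element condition, then every conjugation between
subgroups of `P` is allowed.  The proof is the Frattini induction of `quad_center`, with the fusion-controlled
Frattini argument `fusion_frattini`.
-/

namespace Cfsg.Agent.Lib.Lead.LocalGen

open Cfsg Cfsg.Agent.Lib.Helper9 Cfsg.Agent.Lib.Lead.QuadCenter
open scoped Pointwise commutatorElement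

universe u

section FF

variable {G : Type*} [Group G]

/-- `P ∩ K` is a maximal `p`-subgroup of the normal subgroup `K`. -/
theorem inf_normal_maximal [Finite G] {p : ℕ} [Fact p.Prime] (P : Sylow p G) (K : Subgroup G) [K.Normal]
    (T : Subgroup G) (hT : IsPGroup p T) (hTK : T ≤ K) (hle : (P : Subgroup G) ⊓ K ≤ T) :
    T ≤ (P : Subgroup G) ⊓ K := by
  obtain ⟨T₀, hT₀⟩ := exists_sylow_map_eq_inf P K
  have h1 : (T₀ : Subgroup K) ≤ T.subgroupOf K := by
    intro x hx
    rw [Subgroup.mem_subgroupOf]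
    apply hle
    rw [← hT₀]
    exact ⟨x, hx, rfl⟩
  have h2 := T₀.is_maximal' hT.comap_subtype h1
  intro t ht
  rw [← hT₀]
  refine ⟨⟨t, hTK ht⟩, ?_, rfl⟩
  have : (⟨t, hTK ht⟩ : K) ∈ Subgroup.comap K.subtype T := Subgroup.mem_subgroupOf.mpr ht
  rw [h2] at this
  exact this

/-- elements of `R ⊔ X` when `R` normalises `X`. -/
theorem mem_sup_of_normalizes {R X : Subgroup G} (h : ∀ r ∈ R, ∀ x ∈ X, r * x * r⁻¹ ∈ X) (y : G) :
    y ∈ R ⊔ X ↔ ∃ r ∈ R, ∃ x ∈ X, r * x = y := by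
  constructor
  · intro hy
    have e : R ⊔ X = Subgroup.closure ((R : Set G) ∪ X) := by
      rw [Subgroup.closure_union, Subgroup.closure_eq, Subgroup.closure_eq]
    rw [e] at hy
    refine Subgroup.closure_induction (p := fun y _ => ∃ r ∈ R, ∃ x ∈ X, r * x = y) ?_ ?_ ?_ ?_ hy
    · rintro z (hz | hz)
      · exact ⟨z, hz, 1, X.one_mem, mul_one z⟩
      · exact ⟨1, R.one_mem, z, hz, one_mul z⟩
    · exact ⟨1, R.one_mem, 1, X.one_mem, mul_one 1⟩
    · rintro a b _ _ ⟨r₁, hr₁, x₁, hx₁, rfl⟩ ⟨r₂, hr₂, x₂, hx₂, rfl⟩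
      refine ⟨r₁ * r₂, R.mul_mem hr₁ hr₂, (r₂⁻¹ * x₁ * r₂⁻¹⁻¹) * x₂,
        X.mul_mem (h _ (R.inv_mem hr₂) _ hx₁) hx₂, by group⟩
    · rintro a _ ⟨r, hr, x, hx, rfl⟩
      refine ⟨r⁻¹, R.inv_mem hr, r * x⁻¹ * r⁻¹, h r hr _ (X.inv_mem hx), by group⟩
  · rintro ⟨r, hr, x, hx, rfl⟩
    exact Subgroup.mul_mem _ (Subgroup.mem_sup_left hr) (Subgroup.mem_sup_right hx)

/-- **Fusion-controlled Frattini argument.** -/
theorem fusion_frattini [Finite G] {p : ℕ} [Fact p.Prime] (P : Sylow p G) (K : Subgroup G) [hK : K.Normal]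
    (R : Subgroup G) (hR : R ≤ (P : Subgroup G)) (u : G) (hu : ∀ x ∈ R, u * x * u⁻¹ ∈ (P : Subgroup G)) :
    ∃ c ∈ K, ∃ m ∈ Subgroup.normalizer ((((P : Subgroup G) ⊓ K : Subgroup G)) : Set G),
      u = m * c ∧ ∀ x ∈ R, c * x * c⁻¹ ∈ (P : Subgroup G) := by
  classical
  set X := (P : Subgroup G) ⊓ K with hX
  -- `X' = u⁻¹ X u`
  set X' := X.map (MulAut.conj u⁻¹).toMonoidHom with hX'
  have hX'mem : ∀ y, y ∈ X' ↔ u * y * u⁻¹ ∈ X := by
    intro y
    rw [hX', Subgroup.mem_map]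
    constructor
    · rintro ⟨x, hx, rfl⟩
      simpa [mul_assoc] using hx
    · intro h
      exact ⟨u * y * u⁻¹, h, by simp [mul_assoc]⟩
  have hX'K : X' ≤ K := by
    intro y hy
    have := ((hX'mem y).mp hy).2
    have h2 := hK.conj_mem _ this u⁻¹
    simpa [mul_assoc] using h2
  -- `R` normalises `X` and `X'`
  have hRX : ∀ r ∈ R, ∀ x ∈ X, r * x * r⁻¹ ∈ X := fun r hr x hx =>
    ⟨(P : Subgroup G).mul_mem ((P : Subgroup G).mul_mem (hR hr) hx.1) ((P : Subgroup G).inv_mem (hR hr)),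
      hK.conj_mem x hx.2 r⟩
  have hRX' : ∀ r ∈ R, ∀ x ∈ X', r * x * r⁻¹ ∈ X' := by
    intro r hr x hx
    rw [hX'mem] at hx ⊢
    have h1 := hu r hr
    have e : u * (r * x * r⁻¹) * u⁻¹ = (u * r * u⁻¹) * (u * x * u⁻¹) * (u * r * u⁻¹)⁻¹ := by group
    rw [e]
    exact ⟨(P : Subgroup G).mul_mem ((P : Subgroup G).mul_mem h1 hx.1) ((P : Subgroup G).inv_mem h1),
      hK.conj_mem _ hx.2 _⟩
  -- `X'` is a maximal `p`-subgroup of `K`
  have hXmax : ∀ T : Subgroup G, IsPGroup p T → T ≤ K → X ≤ T → T ≤ X :=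
    fun T hT hTK hle => inf_normal_maximal P K T hT hTK hle
  have hX'max : ∀ T : Subgroup G, IsPGroup p T → T ≤ K → X' ≤ T → T ≤ X' := by
    intro T hT hTK hle
    -- conjugate by `u`
    set T' := T.map (MulAut.conj u).toMonoidHom with hT'
    have hT'p : IsPGroup p T' := hT.map _
    have hT'K : T' ≤ K := by
      rintro _ ⟨t, ht, rfl⟩
      exact hK.conj_mem t (hTK ht) u
    have hXT' : X ≤ T' := by
      intro x hx
      refine ⟨u⁻¹ * x * u, hle ((hX'mem _).mpr ?_), by simp [mul_assoc]⟩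
      have : u * (u⁻¹ * x * u) * u⁻¹ = x := by group
      rw [this]; exact hx
    have h1 := hXmax T' hT'p hT'K hXT'
    intro t ht
    rw [hX'mem]
    exact h1 ⟨t, ht, rfl⟩
  -- the subgroups `A = R X` and `B = R X'`
  have hAmem := mem_sup_of_normalizes hRX
  have hBmem := mem_sup_of_normalizes hRX'
  set H := R ⊔ K with hH
  have hRH : R ≤ H := le_sup_left
  have hKH : K ≤ H := le_sup_right
  -- maximality of `R ⊔ X₀` among the `p`-subgroups of `H`
  have claim : ∀ X₀ : Subgroup G, X₀ ≤ K →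
      (∀ T : Subgroup G, IsPGroup p T → T ≤ K → X₀ ≤ T → T ≤ X₀) →
      ∀ T : Subgroup G, IsPGroup p T → T ≤ H → R ⊔ X₀ ≤ T → T ≤ R ⊔ X₀ := by
    intro X₀ hX₀K hmax T hT hTH hle t ht
    obtain ⟨r, hr, c, hc, hrc⟩ := Subgroup.mem_sup_of_normal_right.mp (hTH ht)
    have hrT : r ∈ T := hle (Subgroup.mem_sup_left hr)
    have hcT : c ∈ T := by
      have : c = r⁻¹ * t := by rw [← hrc]; group
      rw [this]
      exact T.mul_mem (T.inv_mem hrT) ht
    have h1 : T ⊓ K ≤ X₀ := hmax (T ⊓ K) (hT.to_le inf_le_left) inf_le_right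
      (le_inf (le_sup_right.trans hle) hX₀K)
    rw [← hrc]
    exact Subgroup.mul_mem _ (Subgroup.mem_sup_left hr) (Subgroup.mem_sup_right (h1 ⟨hcT, hc⟩))
  have hXK : X ≤ K := inf_le_right
  have hAP : R ⊔ X ≤ (P : Subgroup G) := sup_le hR inf_le_left
  have hAp : IsPGroup p ↥(R ⊔ X) := P.isPGroup'.to_le hAP
  have hBconj : ∀ y ∈ R ⊔ X', u * y * u⁻¹ ∈ (P : Subgroup G) := by
    intro y hy
    obtain ⟨r, hr, x, hx, rfl⟩ := (hBmem y).mp hy
    have e : u * (r * x) * u⁻¹ = (u * r * u⁻¹) * (u * x * u⁻¹) := by group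
    rw [e]
    exact (P : Subgroup G).mul_mem (hu r hr) ((hX'mem x).mp hx).1
  have hBp : IsPGroup p ↥(R ⊔ X') := by
    have hle : R ⊔ X' ≤ (P : Subgroup G).map (MulAut.conj u⁻¹).toMonoidHom := by
      intro y hy
      exact ⟨u * y * u⁻¹, hBconj y hy, by simp [mul_assoc]⟩
    exact (P.isPGroup'.map _).to_le hle
  have hAH : R ⊔ X ≤ H := sup_le hRH (hXK.trans hKH)
  have hBH : R ⊔ X' ≤ H := sup_le hRH (hX'K.trans hKH)
  -- Sylow subgroups of `H`
  obtain ⟨TA, hTA⟩ := (hAp.comap_subtype (K := H)).exists_le_sylow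
  obtain ⟨TB, hTB⟩ := (hBp.comap_subtype (K := H)).exists_le_sylow
  have hTAeq : ∀ y : ↥H, y ∈ TA ↔ (y : G) ∈ R ⊔ X := by
    intro y
    constructor
    · intro hy
      have h1 : ((TA : Subgroup ↥H).map H.subtype) ≤ R ⊔ X := by
        apply claim X hXK hXmax _ (TA.isPGroup'.map _)
        · rintro _ ⟨z, _, rfl⟩
          exact z.2
        · intro a ha
          exact ⟨⟨a, hAH ha⟩, hTA (Subgroup.mem_subgroupOf.mpr ha), rfl⟩
      exact h1 ⟨y, hy, rfl⟩
    · intro hy
      exact hTA (Subgroup.mem_subgroupOf.mpr hy)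
  have hTBeq : ∀ y : ↥H, y ∈ TB ↔ (y : G) ∈ R ⊔ X' := by
    intro y
    constructor
    · intro hy
      have h1 : ((TB : Subgroup ↥H).map H.subtype) ≤ R ⊔ X' := by
        apply claim X' hX'K hX'max _ (TB.isPGroup'.map _)
        · rintro _ ⟨z, _, rfl⟩
          exact z.2
        · intro a ha
          exact ⟨⟨a, hBH ha⟩, hTB (Subgroup.mem_subgroupOf.mpr ha), rfl⟩
      exact h1 ⟨y, hy, rfl⟩
    · intro hy
      exact hTB (Subgroup.mem_subgroupOf.mpr hy)
  -- conjugacy
  obtain ⟨y, hy⟩ := MulAction.exists_smul_eq ↥H TB TA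
  have hyconj : ∀ b ∈ R ⊔ X', (y : G) * b * (y : G)⁻¹ ∈ R ⊔ X := by
    intro b hb
    have hb' : (⟨b, hBH hb⟩ : ↥H) ∈ (TB : Subgroup ↥H) := (hTBeq _).mpr hb
    have h1 : MulAut.conj y • (⟨b, hBH hb⟩ : ↥H) ∈ MulAut.conj y • (TB : Subgroup ↥H) :=
      Subgroup.smul_mem_pointwise_smul _ _ _ hb'
    rw [← Sylow.coe_subgroup_smul, hy] at h1
    have h2 := (hTAeq _).mp h1
    simpa using h2
  obtain ⟨r, hr, c, hc, hrc⟩ := Subgroup.mem_sup_of_normal_right.mp y.2
  have hcconj : ∀ b ∈ R ⊔ X', c * b * c⁻¹ ∈ R ⊔ X := by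
    intro b hb
    have h1 := hyconj b hb
    rw [← hrc] at h1
    have hrA : r ∈ R ⊔ X := Subgroup.mem_sup_left hr
    have e : c * b * c⁻¹ = r⁻¹ * (r * c * b * (r * c)⁻¹) * r := by group
    rw [e]
    exact Subgroup.mul_mem _ (Subgroup.mul_mem _ (Subgroup.inv_mem _ hrA) h1) hrA
  refine ⟨c, hc, u * c⁻¹, ?_, by group, ?_⟩
  · -- `u c⁻¹` normalises `X`
    have hinv : (u * c⁻¹)⁻¹ ∈ Subgroup.normalizer ((X : Subgroup G) : Set G) := by
      have : Finite ((X : Subgroup G) : Set G) := Set.toFinite _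
      apply Subgroup.mem_normalizer_fintype
      intro x hx
      have hx' : u⁻¹ * x * u ∈ X' := by
        rw [hX'mem]
        have : u * (u⁻¹ * x * u) * u⁻¹ = x := by group
        rw [this]; exact hx
      have h1 := hcconj _ (Subgroup.mem_sup_right hx')
      have h2 : c * (u⁻¹ * x * u) * c⁻¹ ∈ K := hK.conj_mem _ (hX'K hx') c
      have e : (u * c⁻¹)⁻¹ * x * (u * c⁻¹)⁻¹⁻¹ = c * (u⁻¹ * x * u) * c⁻¹ := by group
      rw [e]
      exact ⟨hAP h1, h2⟩
    have := Subgroup.inv_mem _ hinv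
    rwa [inv_inv] at this
  · intro x hx
    exact hAP (hcconj x (Subgroup.mem_sup_left hx))

end FF

section conj

variable {G : Type*} [Group G]

theorem map_conj_le_iff (R P : Subgroup G) (g : G) :
    R.map (MulAut.conj g).toMonoidHom ≤ P ↔ ∀ x ∈ R, g * x * g⁻¹ ∈ P := by
  constructor
  · intro h x hx
    exact h ⟨x, hx, rfl⟩
  · rintro h _ ⟨x, hx, rfl⟩
    exact h x hx

theorem map_subtype_map_conj (M : Subgroup G) (R' : Subgroup ↥M) (m : ↥M) :
    (R'.map (MulAut.conj m).toMonoidHom).map M.subtype =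
      (R'.map M.subtype).map (MulAut.conj (m : G)).toMonoidHom := by
  rw [Subgroup.map_map, Subgroup.map_map]
  congr 1

theorem map_conj_mul (R : Subgroup G) (g h : G) :
    (R.map (MulAut.conj g).toMonoidHom).map (MulAut.conj h).toMonoidHom =
      R.map (MulAut.conj (h * g)).toMonoidHom := by
  rw [Subgroup.map_map]
  congr 1
  ext x
  simp [mul_assoc]

end conj

section main

variable {p : ℕ} [hp : Fact p.Prime]

theorem local_gen_aux (W : ∀ (Q : Type u) [Group Q], Subgroup Q)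
    (hW2 : ∀ (Q R : Type u) [Group Q] [Group R] [Finite Q], IsPGroup p Q → ∀ φ : Q ≃* R,
      (W Q).map φ.toMonoidHom = W R)
    (hq : ∀ (G : Type u) [Group G] [Finite G] (P : Sylow p G),
      ¬ (((W ↥(P : Subgroup G)).map (P : Subgroup G).subtype : Subgroup G)).Normal →
      ∃ g : G, g ∈ (P : Subgroup G) ∧ g ∉ Cfsg.pCore p G ∧
        ⁅⁅Subgroup.center ↥(Cfsg.pCore p G) |>.map (Cfsg.pCore p G).subtype, Subgroup.zpowers g⁆,
          Subgroup.zpowers g⁆ = ⊥) :
    ∀ (n : ℕ) (G : Type u) [Group G] [Finite G] (P : Sylow p G), Nat.card G = n →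
      Subgroup.centralizer ((Cfsg.pCore p G : Subgroup G) : Set G) ≤ Cfsg.pCore p G →
      ∀ C : Subgroup G → G → Prop,
      (∀ (R : Subgroup G) (g h : G), R ≤ (P : Subgroup G) →
        R.map (MulAut.conj g).toMonoidHom ≤ (P : Subgroup G) → C R g →
        C (R.map (MulAut.conj g).toMonoidHom) h → C R (h * g)) →
      (∀ (R : Subgroup G) (g : G), R ≤ (P : Subgroup G) →
        R.map (MulAut.conj g).toMonoidHom ≤ (P : Subgroup G) →
        (∀ x, x ∈ (P : Subgroup G) → (∀ y, y ∈ (P : Subgroup G) → y * x = x * y) →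
          g * x ^ p = x ^ p * g) → C R g) →
      (∀ (R : Subgroup G) (g : G), R ≤ (P : Subgroup G) →
        R.map (MulAut.conj g).toMonoidHom ≤ (P : Subgroup G) →
        g ∈ Subgroup.normalizer ((((W ↥(P : Subgroup G)).map (P : Subgroup G).subtype : Subgroup G)) : Set G) →
        C R g) →
      ∀ (R : Subgroup G) (g : G), R ≤ (P : Subgroup G) →
        R.map (MulAut.conj g).toMonoidHom ≤ (P : Subgroup G) → C R g := by
  intro n
  induction n using Nat.strong_induction_on with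
  | _ n ih =>
  intro G _ _ P hn hcent C hcomp ha hb R u hR hRu
  by_cases hnorm : (((W ↥(P : Subgroup G)).map (P : Subgroup G).subtype : Subgroup G)).Normal
  · apply hb R u hR hRu
    rw [Subgroup.normalizer_eq_top_iff.mpr hnorm]
    trivial
  obtain ⟨g₀, hg₀P, hg₀Q, hquad₀⟩ := hq G P hnorm
  set Q := Cfsg.pCore p G with hQdef
  haveI hQn : Q.Normal := pCore_normal' p
  have hQp : IsPGroup p Q := pCore_isPGroup' p
  have hQP : Q ≤ (P : Subgroup G) := pCore_le_sylow P
  set ZQ := (Subgroup.center ↥Q).map Q.subtype with hZQ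
  -- `Z(P) ≤ Z(Q)`
  have hZPQ : ∀ x ∈ (P : Subgroup G), (∀ y ∈ (P : Subgroup G), y * x = x * y) → x ∈ ZQ := by
    intro x hxP hxc
    have hxQ : x ∈ Q := by
      apply hcent
      rw [Subgroup.mem_centralizer_iff]
      intro y hy
      exact hxc y (hQP hy)
    rw [hZQ, mem_map_center_iff]
    exact ⟨hxQ, fun y hy => hxc y (hQP hy)⟩
  -- choose a power `g` of `g₀` with `g ∉ Q` and `g ^ p ∈ Q`
  have hex : ∃ k : ℕ, g₀ ^ (p ^ k) ∈ Q := by
    obtain ⟨k, hk⟩ := P.isPGroup' ⟨g₀, hg₀P⟩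
    refine ⟨k, ?_⟩
    have : g₀ ^ (p ^ k) = 1 := by
      have := congrArg Subtype.val hk
      simpa using this
    rw [this]
    exact Subgroup.one_mem _
  classical
  set k := Nat.find hex with hk
  have hk0 : k ≠ 0 := by
    intro h0
    have := Nat.find_spec hex
    rw [← hk, h0, pow_zero, pow_one] at this
    exact hg₀Q this
  obtain ⟨k', hk'⟩ := Nat.exists_eq_succ_of_ne_zero hk0
  set g := g₀ ^ (p ^ k') with hg
  have hgQ : g ∉ Q := by
    have := Nat.find_min hex (m := k') (by omega)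
    exact this
  have hgp : g ^ p ∈ Q := by
    have := Nat.find_spec hex
    rw [← hk, hk', pow_succ, pow_mul] at this
    exact this
  have hgP : g ∈ (P : Subgroup G) := Subgroup.pow_mem _ hg₀P _
  have hzle : Subgroup.zpowers g ≤ Subgroup.zpowers g₀ :=
    Subgroup.zpowers_le.mpr (Subgroup.pow_mem _ (Subgroup.mem_zpowers g₀) _)
  have hquad : ⁅⁅ZQ, Subgroup.zpowers g⁆, Subgroup.zpowers g⁆ = ⊥ := by
    rw [eq_bot_iff, ← hquad₀]
    exact Subgroup.commutator_mono (Subgroup.commutator_mono le_rfl hzle) hzle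
  -- the centraliser of the `p`-th powers of the elements of `Z(Q)`
  set T : Set G := {z | ∃ v ∈ ZQ, z = v ^ p} with hT
  set C₁ := Subgroup.centralizer T with hC₁
  have hC₁mem : ∀ c : G, c ∈ C₁ ↔ ∀ v ∈ ZQ, v ^ p * c = c * v ^ p := by
    intro c
    rw [hC₁, Subgroup.mem_centralizer_iff]
    constructor
    · intro H' v hv
      exact H' _ ⟨v, hv, rfl⟩
    · rintro H' _ ⟨v, hv, rfl⟩
      exact H' v hv
  haveI hC₁n : C₁.Normal := by
    constructor
    intro c hc w
    rw [hC₁mem] at hc ⊢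
    intro v hv
    have hv' : w⁻¹ * v * w⁻¹⁻¹ ∈ ZQ := map_center_conj_mem Q hv w⁻¹
    have := hc _ hv'
    rw [conj_pow] at this
    calc v ^ p * (w * c * w⁻¹)
        = w * ((w⁻¹ * v ^ p * w⁻¹⁻¹) * c) * w⁻¹ := by group
      _ = w * (c * (w⁻¹ * v ^ p * w⁻¹⁻¹)) * w⁻¹ := by rw [this]
      _ = w * c * w⁻¹ * v ^ p := by group
  have hgC₁ : g ∈ C₁ := by
    rw [hC₁mem]
    intro v hv
    exact (commute_pow_of_quadratic Q g p hgp hquad hv).symm
  have hC₁a : ∀ c ∈ C₁, ∀ x, x ∈ (P : Subgroup G) → (∀ y, y ∈ (P : Subgroup G) → y * x = x * y) →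
      c * x ^ p = x ^ p * c := by
    intro c hc x hxP hxc
    exact ((hC₁mem c).mp hc x (hZPQ x hxP hxc)).symm
  set M := Subgroup.normalizer ((((P : Subgroup G) ⊓ C₁ : Subgroup G)) : Set G) with hM
  have hPM : (P : Subgroup G) ≤ M := by
    intro y hy
    rw [hM, Subgroup.mem_normalizer_iff]
    intro w
    constructor
    · rintro ⟨hw1, hw2⟩
      exact ⟨Subgroup.mul_mem _ (Subgroup.mul_mem _ hy hw1) (Subgroup.inv_mem _ hy), hC₁n.conj_mem w hw2 y⟩
    · rintro ⟨hw1, hw2⟩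
      have e : w = y⁻¹ * (y * w * y⁻¹) * y⁻¹⁻¹ := by group
      rw [e]
      exact ⟨Subgroup.mul_mem _ (Subgroup.mul_mem _ (Subgroup.inv_mem _ hy) hw1) (Subgroup.inv_mem _ (Subgroup.inv_mem _ hy)),
        hC₁n.conj_mem _ hw2 y⁻¹⟩
  have hMtop : M ≠ ⊤ := by
    intro htop
    have hnorm' : ((P : Subgroup G) ⊓ C₁).Normal := Subgroup.normalizer_eq_top_iff.mp htop
    have hle : (P : Subgroup G) ⊓ C₁ ≤ Q := le_pCore hnorm' (P.isPGroup'.to_le inf_le_left)
    exact hgQ (hle ⟨hgP, hgC₁⟩)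
  have hcardM : Nat.card M < n := by
    rw [← hn]
    have hle : Nat.card M ≤ Nat.card G := Subgroup.card_le_card_group M
    rcases hle.lt_or_eq with h | h
    · exact h
    · exact absurd ((Subgroup.card_eq_iff_eq_top M).mp h) hMtop
  have hQM : Q ≤ M := hQP.trans hPM
  have hcentM : Subgroup.centralizer ((Cfsg.pCore p ↥M : Subgroup ↥M) : Set ↥M) ≤ Cfsg.pCore p ↥M := by
    have hQ' : Q.subgroupOf M ≤ Cfsg.pCore p ↥M := by
      apply le_pCore
      · exact Subgroup.Normal.subgroupOf hQn M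
      · exact hQp.comap_subtype
    intro c hc
    apply hQ'
    rw [Subgroup.mem_subgroupOf]
    apply hcent
    rw [Subgroup.mem_centralizer_iff]
    intro y hy
    rw [Subgroup.mem_centralizer_iff] at hc
    have := hc ⟨y, hQM hy⟩ (hQ' (Subgroup.mem_subgroupOf.mpr hy))
    exact congrArg Subtype.val this
  -- the induction hypothesis for `M`
  have hPsub : ∀ R' : Subgroup ↥M, R' ≤ ((P.subtype hPM : Sylow p ↥M) : Subgroup ↥M) →
      R'.map M.subtype ≤ (P : Subgroup G) := by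
    rintro R' hR' _ ⟨x, hx, rfl⟩
    have := hR' hx
    rw [Sylow.coe_subtype, Subgroup.mem_subgroupOf] at this
    exact this
  have hIH := ih (Nat.card M) hcardM ↥M (P.subtype hPM) rfl hcentM
    (fun R' m' => C (R'.map M.subtype) (m' : G))
    (by
      intro R' a b hR' hR'a h1 h2
      have e := map_subtype_map_conj M R' a
      have h3 := hcomp (R'.map M.subtype) (a : G) (b : G) (hPsub R' hR')
        (by rw [← e]; exact hPsub _ hR'a) h1 (by rw [← e]; exact h2)
      simpa using h3)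
    (by
      intro R' a hR' hR'a hcen
      apply ha (R'.map M.subtype) (a : G) (hPsub R' hR')
        (by rw [← map_subtype_map_conj]; exact hPsub _ hR'a)
      intro x hxP hxc
      have := hcen ⟨x, hPM hxP⟩
        (by rw [Sylow.coe_subtype, Subgroup.mem_subgroupOf]; exact hxP)
        (by
          intro y hy
          rw [Sylow.coe_subtype, Subgroup.mem_subgroupOf] at hy
          exact Subtype.ext (hxc y hy))
      have := congrArg Subtype.val this
      simpa using this)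
    (by
      intro R' a hR' hR'a hm
      apply hb (R'.map M.subtype) (a : G) (hPsub R' hR')
        (by rw [← map_subtype_map_conj]; exact hPsub _ hR'a)
      -- transport the normalizer
      have hmap := W_map_subgroupOf W hW2 M (P : Subgroup G) hPM P.isPGroup'
      have hm' : a ∈ Subgroup.normalizer
          (((W ↥((P : Subgroup G).subgroupOf M)).map ((P : Subgroup G).subgroupOf M).subtype : Subgroup ↥M) : Set ↥M) := hm
      rw [← hmap, Subgroup.mem_normalizer_iff]
      have hmi : a⁻¹ ∈ Subgroup.normalizer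
          (((W ↥((P : Subgroup G).subgroupOf M)).map ((P : Subgroup G).subgroupOf M).subtype : Subgroup ↥M) : Set ↥M) :=
        Subgroup.inv_mem _ hm'
      rw [Subgroup.mem_normalizer_iff] at hm' hmi
      intro w
      constructor
      · rintro ⟨b, hb', rfl⟩
        exact ⟨a * b * a⁻¹, (hm' b).mp hb', by simp⟩
      · rintro ⟨b, hb', hae⟩
        have hw : w = ((a⁻¹ * b * a⁻¹⁻¹ : ↥M) : G) := by
          have : ((b : ↥M) : G) = (a : G) * w * (a : G)⁻¹ := hae
          simp only [Subgroup.coe_mul, Subgroup.coe_inv, this]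
          group
        rw [hw]
        exact ⟨a⁻¹ * b * a⁻¹⁻¹, (hmi b).mp hb', rfl⟩)
  -- the fusion-controlled Frattini argument
  obtain ⟨c, hc, m, hm, hum, hcR⟩ := fusion_frattini P C₁ R hR u ((map_conj_le_iff R _ u).mp hRu)
  have hRc : R.map (MulAut.conj c).toMonoidHom ≤ (P : Subgroup G) := (map_conj_le_iff R _ c).mpr hcR
  have h1 : C R c := ha R c hR hRc (hC₁a c hc)
  have hRcM : R.map (MulAut.conj c).toMonoidHom ≤ M := hRc.trans hPM
  have h2 : C (R.map (MulAut.conj c).toMonoidHom) m := by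
    have := hIH ((R.map (MulAut.conj c).toMonoidHom).subgroupOf M) ⟨m, hm⟩
      (by
        intro x hx
        rw [Sylow.coe_subtype, Subgroup.mem_subgroupOf]
        exact hRc (Subgroup.mem_subgroupOf.mp hx))
      (by
        rintro _ ⟨x, hx, rfl⟩
        rw [Sylow.coe_subtype, Subgroup.mem_subgroupOf]
        obtain ⟨r, hr, hrx⟩ := Subgroup.mem_subgroupOf.mp hx
        have : ((MulAut.conj (⟨m, hm⟩ : ↥M)).toMonoidHom x : G) = u * r * u⁻¹ := by
          have hx' : (x : G) = c * r * c⁻¹ := by rw [← hrx]; simp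
          simp only [MulEquiv.coe_toMonoidHom, MulAut.conj_apply, Subgroup.coe_mul, Subgroup.coe_inv, hx',
            hum]
          group
        rw [this]
        exact (map_conj_le_iff R _ u).mp hRu r hr)
    simp only at this
    rwa [Subgroup.map_subgroupOf_eq_of_le hRcM] at this
  have h3 := hcomp R c m hR hRc h1 h2
  rwa [← hum] at h3

/-- **Fusion-controlled local generation** for a functor `W` with the quadratic-element condition. -/
theorem local_gen (W : ∀ (Q : Type u) [Group Q], Subgroup Q)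
    (hW2 : ∀ (Q R : Type u) [Group Q] [Group R] [Finite Q], IsPGroup p Q → ∀ φ : Q ≃* R,
      (W Q).map φ.toMonoidHom = W R)
    (hq : ∀ (G : Type u) [Group G] [Finite G] (P : Sylow p G),
      ¬ (((W ↥(P : Subgroup G)).map (P : Subgroup G).subtype : Subgroup G)).Normal →
      ∃ g : G, g ∈ (P : Subgroup G) ∧ g ∉ Cfsg.pCore p G ∧
        ⁅⁅Subgroup.center ↥(Cfsg.pCore p G) |>.map (Cfsg.pCore p G).subtype, Subgroup.zpowers g⁆,
          Subgroup.zpowers g⁆ = ⊥)
    (G : Type u) [Group G] [Finite G] (P : Sylow p G)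
    (hcent : Subgroup.centralizer ((Cfsg.pCore p G : Subgroup G) : Set G) ≤ Cfsg.pCore p G)
    (C : Subgroup G → G → Prop)
    (hcomp : ∀ (R : Subgroup G) (g h : G), R ≤ (P : Subgroup G) →
      R.map (MulAut.conj g).toMonoidHom ≤ (P : Subgroup G) → C R g →
      C (R.map (MulAut.conj g).toMonoidHom) h → C R (h * g))
    (ha : ∀ (R : Subgroup G) (g : G), R ≤ (P : Subgroup G) →
      R.map (MulAut.conj g).toMonoidHom ≤ (P : Subgroup G) →
      (∀ x, x ∈ (P : Subgroup G) → (∀ y, y ∈ (P : Subgroup G) → y * x = x * y) →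
        g * x ^ p = x ^ p * g) → C R g)
    (hb : ∀ (R : Subgroup G) (g : G), R ≤ (P : Subgroup G) →
      R.map (MulAut.conj g).toMonoidHom ≤ (P : Subgroup G) →
      g ∈ Subgroup.normalizer ((((W ↥(P : Subgroup G)).map (P : Subgroup G).subtype : Subgroup G)) : Set G) →
      C R g) :
    ∀ (R : Subgroup G) (g : G), R ≤ (P : Subgroup G) →
      R.map (MulAut.conj g).toMonoidHom ≤ (P : Subgroup G) → C R g :=
  local_gen_aux W hW2 hq (Nat.card G) G P rfl hcent C hcomp ha hb

/-- the instance `W = J` (abelian-version Thompson subgroup), in the shape requested for S5220. -/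
theorem local_gen_thompsonA (G : Type u) [Group G] [Finite G] (P : Sylow p G)
    (hcent : Subgroup.centralizer ((Cfsg.pCore p G : Subgroup G) : Set G) ≤ Cfsg.pCore p G)
    (C : Subgroup G → G → Prop)
    (_hrestr : ∀ (R R' : Subgroup G) (g : G), R' ≤ R → C R g → C R' g)
    (hcomp : ∀ (R : Subgroup G) (g h : G), R ≤ (P : Subgroup G) →
      R.map (MulAut.conj g).toMonoidHom ≤ (P : Subgroup G) → C R g →
      C (R.map (MulAut.conj g).toMonoidHom) h → C R (h * g))
    (ha : ∀ (R : Subgroup G) (g : G), R ≤ (P : Subgroup G) →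
      R.map (MulAut.conj g).toMonoidHom ≤ (P : Subgroup G) →
      (∀ x, x ∈ (P : Subgroup G) → (∀ y, y ∈ (P : Subgroup G) → y * x = x * y) →
        g * x ^ p = x ^ p * g) → C R g)
    (hb : ∀ (R : Subgroup G) (g : G), R ≤ (P : Subgroup G) →
      R.map (MulAut.conj g).toMonoidHom ≤ (P : Subgroup G) →
      g ∈ Subgroup.normalizer ((((Cfsg.thompsonSubgroupA ↥(P : Subgroup G)).map (P : Subgroup G).subtype :
        Subgroup G)) : Set G) → C R g) :
    ∀ (R : Subgroup G) (g : G), R ≤ (P : Subgroup G) →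
      R.map (MulAut.conj g).toMonoidHom ≤ (P : Subgroup G) → C R g :=
  local_gen Cfsg.Agent.Lib.Lead.QuadJ.WJ Cfsg.Agent.Lib.Lead.QuadJ.hW2_WJ Cfsg.Agent.Lib.Lead.QuadJ.hq_WJ
    G P hcent C hcomp ha hb

end main

end Cfsg.Agent.Lib.Lead.LocalGen
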