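import Mathlib
import Cfsg.Prelude.Def_Solvable
import Cfsg.Agent.Lib.Helper9.PCore
import Cfsg.Agent.Lib.Helper9.Hyperfocal1
import Cfsg.Agent.Lib.Lead.QuadCenter
import Cfsg.Agent.Lib.Lead.PowGen
import Cfsg.Agent.Lib.Lead.LocalGen

set_option autoImplicit false

/-!
# Fusion-controlled local generation for Sylow subgroups of small class (group-local lemma for S5218)

`C R g` is an abstract predicate ("conjugation by `g` on `R` is allowed"), closed under composition, containing the
conjugations by elements centralising the `p ^ k`-th powers of `Z(P)` and by elements of `N_G(P)`.  If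
`C_G(O_p(G)) ≤ O_p(G)` and `P` has class at most `m ≤ k (p - 1) + 1`, then every conjugation between subgroups of
`P` is allowed.
-/

namespace Cfsg.Agent.Lib.Lead.LocalGen

open Cfsg Cfsg.Agent.Lib.Helper9 Cfsg.Agent.Lib.Lead.QuadCenter Cfsg.Agent.Lib.Lead.PowGen
open scoped Pointwise commutatorElement

universe u

variable {p : ℕ} [hp : Fact p.Prime]

theorem local_gen_class_aux (m k : ℕ) (hk : m ≤ k * (p - 1) + 1) :
    ∀ (n : ℕ) (G : Type u) [Group G] [Finite G] (P : Sylow p G), Nat.card G = n →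
      Subgroup.centralizer ((Cfsg.pCore p G : Subgroup G) : Set G) ≤ Cfsg.pCore p G →
      (∀ g ∈ (P : Subgroup G), ∀ v ∈ (P : Subgroup G), (fun w => g * w * g⁻¹ * w⁻¹)^[m] v = 1) →
      ∀ C : Subgroup G → G → Prop,
      (∀ (R : Subgroup G) (g h : G), R ≤ (P : Subgroup G) →
        R.map (MulAut.conj g).toMonoidHom ≤ (P : Subgroup G) → C R g →
        C (R.map (MulAut.conj g).toMonoidHom) h → C R (h * g)) →
      (∀ (R : Subgroup G) (g : G), R ≤ (P : Subgroup G) →
        R.map (MulAut.conj g).toMonoidHom ≤ (P : Subgroup G) →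
        (∀ x, x ∈ (P : Subgroup G) → (∀ y, y ∈ (P : Subgroup G) → y * x = x * y) →
          g * x ^ (p ^ k) = x ^ (p ^ k) * g) → C R g) →
      (∀ (R : Subgroup G) (g : G), R ≤ (P : Subgroup G) →
        R.map (MulAut.conj g).toMonoidHom ≤ (P : Subgroup G) →
        g ∈ Subgroup.normalizer (((P : Subgroup G)) : Set G) → C R g) →
      ∀ (R : Subgroup G) (g : G), R ≤ (P : Subgroup G) →
        R.map (MulAut.conj g).toMonoidHom ≤ (P : Subgroup G) → C R g := by
  intro n
  induction n using Nat.strong_induction_on with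
  | _ n ih =>
  intro G _ _ P hn hcent hcl C hcomp ha hb R u hR hRu
  set Q := Cfsg.pCore p G with hQdef
  haveI hQn : Q.Normal := pCore_normal' p
  have hQp : IsPGroup p Q := pCore_isPGroup' p
  have hQP : Q ≤ (P : Subgroup G) := pCore_le_sylow P
  by_cases hPQ : (P : Subgroup G) ≤ Q
  · have hPeq : (P : Subgroup G) = Q := le_antisymm hPQ hQP
    apply hb R u hR hRu
    rw [hPeq, Subgroup.normalizer_eq_top_iff.mpr hQn]
    trivial
  obtain ⟨g₀, hg₀P, hg₀Q⟩ := SetLike.not_le_iff_exists.mp hPQ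
  set ZQ := (Subgroup.center ↥Q).map Q.subtype with hZQ
  haveI hZQn : ZQ.Normal := ⟨fun v hv h => map_center_conj_mem Q hv h⟩
  have hZQQ : ZQ ≤ Q := fun v hv => ((mem_map_center_iff Q v).mp hv).1
  have hZQc : ∀ x ∈ ZQ, ∀ y ∈ ZQ, x * y = y * x := fun x hx y hy =>
    ((mem_map_center_iff Q y).mp hy).2 x (hZQQ hx)
  -- `Z(P) ≤ Z(Q)`
  have hZPQ : ∀ x ∈ (P : Subgroup G), (∀ y ∈ (P : Subgroup G), y * x = x * y) → x ∈ ZQ := by
    intro x hxP hxc
    have hxQ : x ∈ Q := by
      apply hcent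
      rw [Subgroup.mem_centralizer_iff]
      intro y hy
      exact hxc y (hQP hy)
    rw [hZQ, mem_map_center_iff]
    exact ⟨hxQ, fun y hy => hxc y (hQP hy)⟩
  -- choose a power `g` of `g₀` with `g ∉ Q` and `g ^ p ∈ Q`
  have hex : ∃ j : ℕ, g₀ ^ (p ^ j) ∈ Q := by
    obtain ⟨j, hj⟩ := P.isPGroup' ⟨g₀, hg₀P⟩
    refine ⟨j, ?_⟩
    have : g₀ ^ (p ^ j) = 1 := by
      have := congrArg Subtype.val hj
      simpa using this
    rw [this]
    exact Subgroup.one_mem _
  classical
  set j₀ := Nat.find hex with hj₀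
  have hj0 : j₀ ≠ 0 := by
    intro h0
    have := Nat.find_spec hex
    rw [← hj₀, h0, pow_zero, pow_one] at this
    exact hg₀Q this
  obtain ⟨j', hj'⟩ := Nat.exists_eq_succ_of_ne_zero hj0
  set g := g₀ ^ (p ^ j') with hg
  have hgQ : g ∉ Q := by
    have := Nat.find_min hex (m := j') (by omega)
    exact this
  have hgp : g ^ p ∈ Q := by
    have := Nat.find_spec hex
    rw [← hj₀, hj', pow_succ, pow_mul] at this
    exact this
  have hgP : g ∈ (P : Subgroup G) := Subgroup.pow_mem _ hg₀P _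
  -- the centraliser of the `p ^ k`-th powers of the elements of `Z(Q)`
  set T : Set G := {z | ∃ v ∈ ZQ, z = v ^ (p ^ k)} with hT
  set C₁ := Subgroup.centralizer T with hC₁
  have hC₁mem : ∀ c : G, c ∈ C₁ ↔ ∀ v ∈ ZQ, v ^ (p ^ k) * c = c * v ^ (p ^ k) := by
    intro c
    rw [hC₁, Subgroup.mem_centralizer_iff]
    constructor
    · intro H' v hv
      exact H' _ ⟨v, hv, rfl⟩
    · rintro H' _ ⟨v, hv, rfl⟩
      exact H' v hv
  haveI hC₁n : C₁.Normal := by
    constructor
    intro c hc w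
    rw [hC₁mem] at hc ⊢
    intro v hv
    have hv' : w⁻¹ * v * w⁻¹⁻¹ ∈ ZQ := map_center_conj_mem Q hv w⁻¹
    have := hc _ hv'
    rw [conj_pow] at this
    calc v ^ (p ^ k) * (w * c * w⁻¹)
        = w * ((w⁻¹ * v ^ (p ^ k) * w⁻¹⁻¹) * c) * w⁻¹ := by group
      _ = w * (c * (w⁻¹ * v ^ (p ^ k) * w⁻¹⁻¹)) * w⁻¹ := by rw [this]
      _ = w * c * w⁻¹ * v ^ (p ^ k) := by group
  have hgC₁ : g ∈ C₁ := by
    rw [hC₁mem]
    intro v hv
    refine (commute_ppow_of_class p ZQ hZQc g m k hk ?_ ?_ hv).symm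
    · intro w hw
      exact (((mem_map_center_iff Q w).mp hw).2 _ hgp)
    · intro w hw
      exact hcl g hgP w (hQP (hZQQ hw))
  have hC₁a : ∀ c ∈ C₁, ∀ x, x ∈ (P : Subgroup G) → (∀ y, y ∈ (P : Subgroup G) → y * x = x * y) →
      c * x ^ (p ^ k) = x ^ (p ^ k) * c := by
    intro c hc x hxP hxc
    exact ((hC₁mem c).mp hc x (hZPQ x hxP hxc)).symm
  set M := Subgroup.normalizer ((((P : Subgroup G) ⊓ C₁ : Subgroup G)) : Set G) with hM
  have hPM : (P : Subgroup G) ≤ M := by
    intro y hy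
    rw [hM, Subgroup.mem_normalizer_iff]
    intro w
    constructor
    · rintro ⟨hw1, hw2⟩
      exact ⟨Subgroup.mul_mem _ (Subgroup.mul_mem _ hy hw1) (Subgroup.inv_mem _ hy), hC₁n.conj_mem w hw2 y⟩
    · rintro ⟨hw1, hw2⟩
      have e : w = y⁻¹ * (y * w * y⁻¹) * y⁻¹⁻¹ := by group
      rw [e]
      exact ⟨Subgroup.mul_mem _ (Subgroup.mul_mem _ (Subgroup.inv_mem _ hy) hw1) (Subgroup.inv_mem _ (Subgroup.inv_mem _ hy)),
        hC₁n.conj_mem _ hw2 y⁻¹⟩
  have hMtop : M ≠ ⊤ := by
    intro htop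
    have hnorm' : ((P : Subgroup G) ⊓ C₁).Normal := Subgroup.normalizer_eq_top_iff.mp htop
    have hle : (P : Subgroup G) ⊓ C₁ ≤ Q := le_pCore hnorm' (P.isPGroup'.to_le inf_le_left)
    exact hgQ (hle ⟨hgP, hgC₁⟩)
  have hcardM : Nat.card M < n := by
    rw [← hn]
    have hle : Nat.card M ≤ Nat.card G := Subgroup.card_le_card_group M
    rcases hle.lt_or_eq with h | h
    · exact h
    · exact absurd ((Subgroup.card_eq_iff_eq_top M).mp h) hMtop
  have hQM : Q ≤ M := hQP.trans hPM
  have hcentM : Subgroup.centralizer ((Cfsg.pCore p ↥M : Subgroup ↥M) : Set ↥M) ≤ Cfsg.pCore p ↥M := by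
    have hQ' : Q.subgroupOf M ≤ Cfsg.pCore p ↥M := by
      apply le_pCore
      · exact Subgroup.Normal.subgroupOf hQn M
      · exact hQp.comap_subtype
    intro c hc
    apply hQ'
    rw [Subgroup.mem_subgroupOf]
    apply hcent
    rw [Subgroup.mem_centralizer_iff]
    intro y hy
    rw [Subgroup.mem_centralizer_iff] at hc
    have := hc ⟨y, hQM hy⟩ (hQ' (Subgroup.mem_subgroupOf.mpr hy))
    exact congrArg Subtype.val this
  have hiter : ∀ (a v : ↥M) (j : ℕ), (((fun w : ↥M => a * w * a⁻¹ * w⁻¹)^[j] v : ↥M) : G) =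
      (fun w : G => (a : G) * w * (a : G)⁻¹ * w⁻¹)^[j] (v : G) := by
    intro a v j
    induction j with
    | zero => rfl
    | succ j ihj =>
      rw [Function.iterate_succ_apply', Function.iterate_succ_apply', ← ihj]
      simp
  -- the induction hypothesis for `M`
  have hPsub : ∀ R' : Subgroup ↥M, R' ≤ ((P.subtype hPM : Sylow p ↥M) : Subgroup ↥M) →
      R'.map M.subtype ≤ (P : Subgroup G) := by
    rintro R' hR' _ ⟨x, hx, rfl⟩
    have := hR' hx
    rw [Sylow.coe_subtype, Subgroup.mem_subgroupOf] at this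
    exact this
  have hIH := ih (Nat.card M) hcardM ↥M (P.subtype hPM) rfl hcentM
    (by
      intro a ha v hv
      rw [Sylow.coe_subtype, Subgroup.mem_subgroupOf] at ha hv
      apply Subtype.ext
      rw [hiter]
      exact hcl a ha v hv)
    (fun R' m' => C (R'.map M.subtype) (m' : G))
    (by
      intro R' a b hR' hR'a h1 h2
      have e := map_subtype_map_conj M R' a
      have h3 := hcomp (R'.map M.subtype) (a : G) (b : G) (hPsub R' hR')
        (by rw [← e]; exact hPsub _ hR'a) h1 (by rw [← e]; exact h2)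
      simpa using h3)
    (by
      intro R' a hR' hR'a hcen
      apply ha (R'.map M.subtype) (a : G) (hPsub R' hR')
        (by rw [← map_subtype_map_conj]; exact hPsub _ hR'a)
      intro x hxP hxc
      have := hcen ⟨x, hPM hxP⟩
        (by rw [Sylow.coe_subtype, Subgroup.mem_subgroupOf]; exact hxP)
        (by
          intro y hy
          rw [Sylow.coe_subtype, Subgroup.mem_subgroupOf] at hy
          exact Subtype.ext (hxc y hy))
      have := congrArg Subtype.val this
      simpa using this)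
    (by
      intro R' a hR' hR'a hm
      apply hb (R'.map M.subtype) (a : G) (hPsub R' hR')
        (by rw [← map_subtype_map_conj]; exact hPsub _ hR'a)
      rw [Sylow.coe_subtype, Subgroup.mem_normalizer_iff] at hm
      rw [Subgroup.mem_normalizer_iff]
      intro w
      constructor
      · intro hw
        have := (hm ⟨w, hPM hw⟩).mp (Subgroup.mem_subgroupOf.mpr hw)
        exact Subgroup.mem_subgroupOf.mp this
      · intro hw
        have hwM : w ∈ M := by
          have e : w = (a : G)⁻¹ * ((a : G) * w * (a : G)⁻¹) * (a : G)⁻¹⁻¹ := by group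
          rw [e]
          exact M.mul_mem (M.mul_mem (M.inv_mem a.2) (hPM hw)) (M.inv_mem (M.inv_mem a.2))
        have := (hm ⟨w, hwM⟩).mpr (Subgroup.mem_subgroupOf.mpr hw)
        exact Subgroup.mem_subgroupOf.mp this)
  -- the fusion-controlled Frattini argument
  obtain ⟨c, hc, m', hm', hum, hcR⟩ := fusion_frattini P C₁ R hR u ((map_conj_le_iff R _ u).mp hRu)
  have hRc : R.map (MulAut.conj c).toMonoidHom ≤ (P : Subgroup G) := (map_conj_le_iff R _ c).mpr hcR
  have h1 : C R c := ha R c hR hRc (hC₁a c hc)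
  have hRcM : R.map (MulAut.conj c).toMonoidHom ≤ M := hRc.trans hPM
  have h2 : C (R.map (MulAut.conj c).toMonoidHom) m' := by
    have := hIH ((R.map (MulAut.conj c).toMonoidHom).subgroupOf M) ⟨m', hm'⟩
      (by
        intro x hx
        rw [Sylow.coe_subtype, Subgroup.mem_subgroupOf]
        exact hRc (Subgroup.mem_subgroupOf.mp hx))
      (by
        rintro _ ⟨x, hx, rfl⟩
        rw [Sylow.coe_subtype, Subgroup.mem_subgroupOf]
        obtain ⟨r, hr, hrx⟩ := Subgroup.mem_subgroupOf.mp hx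
        have : ((MulAut.conj (⟨m', hm'⟩ : ↥M)).toMonoidHom x : G) = u * r * u⁻¹ := by
          have hx' : (x : G) = c * r * c⁻¹ := by rw [← hrx]; simp
          simp only [MulEquiv.coe_toMonoidHom, MulAut.conj_apply, Subgroup.coe_mul, Subgroup.coe_inv, hx',
            hum]
          group
        rw [this]
        exact (map_conj_le_iff R _ u).mp hRu r hr)
    simp only at this
    rwa [Subgroup.map_subgroupOf_eq_of_le hRcM] at this
  have h3 := hcomp R c m' hR hRc h1 h2
  rwa [← hum] at h3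

/-- **Fusion-controlled local generation** for Sylow subgroups of class at most `m ≤ k (p - 1) + 1`
(group-local lemma for S5218). -/
theorem local_gen_class (m k : ℕ) (hk : m ≤ k * (p - 1) + 1)
    (G : Type u) [Group G] [Finite G] (P : Sylow p G)
    (hcent : Subgroup.centralizer ((Cfsg.pCore p G : Subgroup G) : Set G) ≤ Cfsg.pCore p G)
    (hcl : (P : Subgroup G).lowerCentralSeries m = ⊥)
    (C : Subgroup G → G → Prop)
    (hcomp : ∀ (R : Subgroup G) (g h : G), R ≤ (P : Subgroup G) →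
      R.map (MulAut.conj g).toMonoidHom ≤ (P : Subgroup G) → C R g →
      C (R.map (MulAut.conj g).toMonoidHom) h → C R (h * g))
    (ha : ∀ (R : Subgroup G) (g : G), R ≤ (P : Subgroup G) →
      R.map (MulAut.conj g).toMonoidHom ≤ (P : Subgroup G) →
      (∀ x, x ∈ (P : Subgroup G) → (∀ y, y ∈ (P : Subgroup G) → y * x = x * y) →
        g * x ^ (p ^ k) = x ^ (p ^ k) * g) → C R g)
    (hb : ∀ (R : Subgroup G) (g : G), R ≤ (P : Subgroup G) →
      R.map (MulAut.conj g).toMonoidHom ≤ (P : Subgroup G) →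
      g ∈ Subgroup.normalizer (((P : Subgroup G)) : Set G) → C R g) :
    ∀ (R : Subgroup G) (g : G), R ≤ (P : Subgroup G) →
      R.map (MulAut.conj g).toMonoidHom ≤ (P : Subgroup G) → C R g :=
  local_gen_class_aux m k hk (Nat.card G) G P rfl hcent
    (fun _ hg _ hv => iterate_comm_eq_one_of_lcs (P : Subgroup G) m hcl hg hv) C hcomp ha hb

end Cfsg.Agent.Lib.Lead.LocalGen
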