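import Mathlib
import Cfsg.Agent.Lib.Helper4.AlperinGold3
import Cfsg.Agent.Lib.Helper3.PComp1
import Cfsg.Agent.Lib.Helper6.PCore
import Cfsg.Agent.Lib.Helper6.PRes
import Cfsg.Agent.S3056
import Cfsg.Agent.S3058

set_option autoImplicit false

/-! Transport lemmas for the strong form of the Alperin–Goldschmidt theorem. -/

namespace Cfsg.Agent.Lib.Lead.AGS

open Cfsg Cfsg.Agent.Lib.Helper4 Cfsg.Agent.Lib.Helper7

section equiv
variable {A B : Type*} [Group A] [Group B]

theorem pPrimePCore_map_mulEquiv_le (p : ℕ) (e : A ≃* B) :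
    (pPrimePCore p A).map (e : A →* B) ≤ pPrimePCore p B := by
  rintro _ ⟨x, hx, rfl⟩
  have hK : (pPrimeCore p A).map (e : A →* B) = pPrimeCore p B :=
    Cfsg.Agent.Lib.Helper3.pPrimeCore_map_mulEquiv p e
  have hx' : (QuotientGroup.mk' (pPrimeCore p A)) x ∈ pCore p (A ⧸ pPrimeCore p A) := hx
  have h2 : (QuotientGroup.congr (pPrimeCore p A) (pPrimeCore p B) e hK)
      ((QuotientGroup.mk' (pPrimeCore p A)) x) ∈ pCore p (B ⧸ pPrimeCore p B) := by
    rw [← Cfsg.Agent.Lib.Helper6.pCore_map_equiv p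
      (QuotientGroup.congr (pPrimeCore p A) (pPrimeCore p B) e hK)]
    exact ⟨_, hx', rfl⟩
  show (QuotientGroup.mk' (pPrimeCore p B)) (e x) ∈ pCore p (B ⧸ pPrimeCore p B)
  have h3 : (QuotientGroup.congr (pPrimeCore p A) (pPrimeCore p B) e hK)
      ((QuotientGroup.mk' (pPrimeCore p A)) x) = (QuotientGroup.mk' (pPrimeCore p B)) (e x) :=
    QuotientGroup.congr_mk _ _ e hK x
  rw [← h3]
  exact h2

theorem pPrimePCore_map_mulEquiv (p : ℕ) (e : A ≃* B) :
    (pPrimePCore p A).map (e : A →* B) = pPrimePCore p B := by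
  apply le_antisymm (pPrimePCore_map_mulEquiv_le p e)
  intro x hx
  have h2 : e.symm x ∈ pPrimePCore p A := pPrimePCore_map_mulEquiv_le p e.symm ⟨x, hx, rfl⟩
  exact ⟨_, h2, by simp⟩

theorem not_conn_of_mulEquiv [Finite A] [Finite B] (p : ℕ) [Fact p.Prime] (e : A ≃* B)
    (h : ¬ IsSylowChainConnected p A) : ¬ IsSylowChainConnected p B := by
  rw [Cfsg.Agent.S3056.result] at h ⊢
  obtain ⟨H, hH, hp, hconj⟩ := h
  refine ⟨H.map (e : A →* B), ?_, ?_, ?_⟩
  · intro ht
    apply hH
    rw [eq_top_iff]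
    intro x _
    have : e x ∈ H.map (e : A →* B) := by rw [ht]; exact Subgroup.mem_top _
    obtain ⟨y, hy, hxy⟩ := this
    have : y = x := e.injective hxy
    rwa [← this]
  · rwa [Subgroup.card_map_of_injective e.injective]
  · intro g' hg'
    obtain ⟨g, rfl⟩ := e.surjective g'
    have hg : g ∉ H := fun h => hg' ⟨g, h, rfl⟩
    have h1 := hconj g hg
    have key : H.map (e : A →* B) ⊓ (H.map (e : A →* B)).map (MulAut.conj (e g)).toMonoidHom =
        (H ⊓ H.map (MulAut.conj g).toMonoidHom).map (e : A →* B) := by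
      rw [Subgroup.map_inf _ _ _ e.injective, Subgroup.map_map, Subgroup.map_map]
      congr 2
      ext x
      simp [MulAut.conj_apply]
    rw [key, Subgroup.card_map_of_injective e.injective]
    exact h1

end equiv

section conj
variable {G : Type*} [Group G]

theorem LG_cj (p : ℕ) (g : G) (N : Subgroup G) : LG p (cj g N) = cj g (LG p N) := by
  have h := pPrimePCore_map_mulEquiv p ((MulAut.conj g).subgroupMap N)
  rw [LG_def, LG_def]
  show Subgroup.map (Subgroup.subtype _)
    (pPrimePCore p ↥(N.map ((MulAut.conj g : G ≃* G) : G →* G))) = _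
  rw [← h, Subgroup.map_map]
  show _ = Subgroup.map ((MulAut.conj g : G ≃* G) : G →* G) _
  rw [Subgroup.map_map]
  congr 1

theorem mem_pResidualOf_cj (p : ℕ) (g : G) (X : Subgroup G) {x : G}
    (hx : x ∈ (pResidual p ↥X).map X.subtype) :
    g * x * g⁻¹ ∈ (pResidual p ↥(cj g X)).map (cj g X).subtype := by
  obtain ⟨x', hx', rfl⟩ := hx
  have h1 := Cfsg.Agent.Lib.Helper6.pResidual_map_le p
    ((MulAut.conj g).subgroupMap X).toMonoidHom ⟨x', hx', rfl⟩
  exact ⟨_, h1, rfl⟩

theorem not_conn_quot_cj [Finite G] (p : ℕ) [Fact p.Prime] (g : G) (T : Subgroup G)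
    (h : ¬ IsSylowChainConnected p (↥(Subgroup.normalizer (T : Set G)) ⧸
      T.subgroupOf (Subgroup.normalizer (T : Set G)))) :
    ¬ IsSylowChainConnected p (↥(Subgroup.normalizer ((cj g T : Subgroup G) : Set G)) ⧸
      (cj g T).subgroupOf (Subgroup.normalizer ((cj g T : Subgroup G) : Set G))) := by
  have hN : (Subgroup.normalizer (T : Set G)).map ((MulAut.conj g : G ≃* G) : G →* G) =
      Subgroup.normalizer ((cj g T : Subgroup G) : Set G) := (normalizer_cj g T).symm
  let e : ↥(Subgroup.normalizer (T : Set G)) ≃* ↥(Subgroup.normalizer ((cj g T : Subgroup G) : Set G)) :=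
    ((MulAut.conj g).subgroupMap (Subgroup.normalizer (T : Set G))).trans (MulEquiv.subgroupCongr hN)
  have hval : ∀ x : ↥(Subgroup.normalizer (T : Set G)), ((e x) : G) = g * (x : G) * g⁻¹ := by
    intro x; rfl
  have he : (T.subgroupOf (Subgroup.normalizer (T : Set G))).map
      (e : ↥(Subgroup.normalizer (T : Set G)) →* ↥(Subgroup.normalizer ((cj g T : Subgroup G) : Set G))) =
      (cj g T).subgroupOf (Subgroup.normalizer ((cj g T : Subgroup G) : Set G)) := by
    ext y
    rw [Subgroup.mem_subgroupOf]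
    constructor
    · rintro ⟨x, hx, rfl⟩
      rw [SetLike.mem_coe, Subgroup.mem_subgroupOf] at hx
      show ((e x) : G) ∈ cj g T
      rw [hval]
      exact ⟨_, hx, rfl⟩
    · rintro ⟨t, ht, hty⟩
      refine ⟨⟨t, Subgroup.le_normalizer ht⟩, ?_, ?_⟩
      · rw [SetLike.mem_coe, Subgroup.mem_subgroupOf]; exact ht
      · apply Subtype.ext
        show ((e _) : G) = _
        rw [hval]
        exact hty
  exact not_conn_of_mulEquiv p (QuotientGroup.congr _ _ e he) h

end conj

end Cfsg.Agent.Lib.Lead.AGS
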