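import Mathlib
import Cfsg.Agent.Lib.Lead.AGS1

set_option autoImplicit false

/-! The step predicate of the strong Alperin–Goldschmidt theorem and its invariance under conjugation. -/

namespace Cfsg.Agent.Lib.Lead.AGS

open Cfsg Cfsg.Agent.Lib.Helper4 Cfsg.Agent.Lib.Helper7

variable {G : Type*} [Group G]

theorem centralizer_cj' (g : G) (K : Subgroup G) :
    Subgroup.centralizer ((cj g K : Subgroup G) : Set G) = cj g (Subgroup.centralizer (K : Set G)) := by
  ext y
  rw [mem_cj, Subgroup.mem_centralizer_iff, Subgroup.mem_centralizer_iff]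
  constructor
  · intro h k hk
    have h1 : g * k * g⁻¹ ∈ ((cj g K : Subgroup G) : Set G) := by
      rw [SetLike.mem_coe, mem_cj]
      have : g⁻¹ * (g * k * g⁻¹) * g = k := by group
      rw [this]; exact hk
    have h2 := h _ h1
    calc k * (g⁻¹ * y * g) = g⁻¹ * (g * k * g⁻¹ * y) * g := by group
      _ = g⁻¹ * (y * (g * k * g⁻¹)) * g := by rw [h2]
      _ = g⁻¹ * y * g * k := by group
  · intro h k hk
    rw [SetLike.mem_coe, mem_cj] at hk
    have h2 := h _ hk
    calc k * y = g * (g⁻¹ * k * g * (g⁻¹ * y * g)) * g⁻¹ := by group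
      _ = g * (g⁻¹ * y * g * (g⁻¹ * k * g)) * g⁻¹ := by rw [h2]
      _ = y * k := by group

/-- the conditions on a pair `(H, X)` in the strong Alperin–Goldschmidt theorem -/
def Good (p : ℕ) (P H X : Subgroup G) : Prop :=
  H ≤ P ∧
  ¬ p ∣ (P ⊓ Subgroup.normalizer (H : Set G)).relIndex (Subgroup.normalizer (H : Set G)) ∧
  P ⊓ Subgroup.centralizer (H : Set G) ≤ H ∧
  (Cfsg.pPrimePCore p ↥(Subgroup.normalizer (H : Set G))).map (Subgroup.normalizer (H : Set G)).subtype =
    H ⊔ Subgroup.centralizer (H : Set G) ∧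
  ¬ Cfsg.IsSylowChainConnected p
    (↥(Subgroup.normalizer (H : Set G)) ⧸ H.subgroupOf (Subgroup.normalizer (H : Set G))) ∧
  (H ≤ X ∧ X ≤ Subgroup.normalizer (H : Set G) ∧
    (X.subgroupOf (Subgroup.normalizer (H : Set G))).Normal ∧ p ∣ H.relIndex X ∧
    ∀ Y : Subgroup G, H ≤ Y → Y ≤ Subgroup.normalizer (H : Set G) →
      (Y.subgroupOf (Subgroup.normalizer (H : Set G))).Normal → p ∣ H.relIndex Y → X ≤ Y)

theorem Good.conj [Finite G] {p : ℕ} [Fact p.Prime] {P H X : Subgroup G} (h : Good p P H X) (y : G) :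
    Good p (cj y P) (cj y H) (cj y X) := by
  obtain ⟨h1, h2, h3, h4, h5, h6, h7, h8, h9, h10⟩ := h
  have hN : Subgroup.normalizer ((cj y H : Subgroup G) : Set G) = cj y (Subgroup.normalizer (H : Set G)) :=
    normalizer_cj y H
  refine ⟨cj_mono y h1, ?_, ?_, ?_, not_conn_quot_cj p y H h5, cj_mono y h6, ?_, ?_, ?_, ?_⟩
  · rw [hN, ← cj_inf, Cfsg.Agent.Lib.Helper4.relIndex_cj]
    exact h2
  · rw [centralizer_cj', ← cj_inf]
    exact cj_mono y h3
  · have := LG_cj p y (Subgroup.normalizer (H : Set G))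
    rw [LG_def, LG_def] at this
    rw [hN, this, h4, cj_sup, centralizer_cj']
  · rw [hN]; exact cj_mono y h7
  · rw [Subgroup.normal_subgroupOf_iff_le_normalizer (by rw [hN]; exact cj_mono y h7), hN,
      normalizer_cj]
    exact cj_mono y ((Subgroup.normal_subgroupOf_iff_le_normalizer h7).mp h8)
  · rw [Cfsg.Agent.Lib.Helper4.relIndex_cj]; exact h9
  · intro Y' hY1 hY2 hY3 hY4
    have e1 : cj y (cj y⁻¹ Y') = Y' := cj_cj_inv y Y'
    have hHY : H ≤ cj y⁻¹ Y' := by
      have := cj_mono y⁻¹ hY1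
      rwa [cj_inv_cj] at this
    have hYN : cj y⁻¹ Y' ≤ Subgroup.normalizer (H : Set G) := by
      have := cj_mono y⁻¹ hY2
      rwa [hN, cj_inv_cj] at this
    have hYn : ((cj y⁻¹ Y').subgroupOf (Subgroup.normalizer (H : Set G))).Normal := by
      rw [Subgroup.normal_subgroupOf_iff_le_normalizer hYN]
      have h11 := (Subgroup.normal_subgroupOf_iff_le_normalizer hY2).mp hY3
      have := cj_mono y⁻¹ h11
      rwa [hN, cj_inv_cj, ← normalizer_cj] at this
    have hYp : p ∣ H.relIndex (cj y⁻¹ Y') := by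
      rw [← Cfsg.Agent.Lib.Helper4.relIndex_cj y, e1]; exact hY4
    have := cj_mono y (h10 _ hHY hYN hYn hYp)
    rwa [e1] at this

end Cfsg.Agent.Lib.Lead.AGS
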