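import Mathlib
import Cfsg.Agent.Lib.Lead.AGS2

set_option autoImplicit false

/-! Strong decompositions `g = c · x₁ ⋯ xₙ · y` and their calculus. -/

namespace Cfsg.Agent.Lib.Lead.AGS

open Cfsg Cfsg.Agent.Lib.Helper4 Cfsg.Agent.Lib.Helper7

variable {G : Type*} [Group G]

/-- the step predicate -/
def Stp (p : ℕ) (P T : Subgroup G) (x : G) : Prop :=
  ∃ X : Subgroup G, Good p P T X ∧ x ∈ (pResidual p ↥X).map X.subtype

theorem Stp.mem_normalizer {p : ℕ} {P T : Subgroup G} {x : G} (h : Stp p P T x) :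
    x ∈ Subgroup.normalizer (T : Set G) := by
  obtain ⟨X, hX, hx⟩ := h
  obtain ⟨x', _, rfl⟩ := hx
  exact hX.2.2.2.2.2.2.1 x'.2

theorem Stp.conj [Finite G] {p : ℕ} [Fact p.Prime] {P T : Subgroup G} {x : G} (h : Stp p P T x)
    {y : G} (hy : cj y P = P) : Stp p P (cj y T) (y * x * y⁻¹) := by
  obtain ⟨X, hX, hx⟩ := h
  refine ⟨cj y X, ?_, mem_pResidualOf_cj p y X hx⟩
  have := hX.conj y
  rwa [hy] at this

theorem ViaP.conj {𝓢 : Subgroup G → G → Prop} {y : G}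
    (hinv : ∀ T x, 𝓢 T x → 𝓢 (cj y T) (y * x * y⁻¹)) {B : Set G} {h : G}
    (hv : ViaP 𝓢 B h) : ViaP 𝓢 (cs y⁻¹ B) (y * h * y⁻¹) := by
  induction hv with
  | nil B =>
    have : y * 1 * y⁻¹ = 1 := by group
    rw [this]; exact ViaP.nil _
  | cons B T x h' hT hx hB _ ih =>
    have e : y * (x * h') * y⁻¹ = (y * x * y⁻¹) * (y * h' * y⁻¹) := by group
    rw [e]
    refine ViaP.cons _ (cj y T) _ _ (hinv T x hT) ?_ ?_ ?_
    · rw [normalizer_cj, mem_cj]
      have : y⁻¹ * (y * x * y⁻¹) * y = x := by group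
      rw [this]; exact hx
    · rintro _ ⟨b, hb, rfl⟩
      rw [SetLike.mem_coe, mem_cj]
      have : y⁻¹ * (y⁻¹⁻¹ * b * y⁻¹) * y = b := by group
      rw [this]; exact hB hb
    · have e2 : cs (y * x * y⁻¹) (cs y⁻¹ B) = cs y⁻¹ (cs x B) := by
        rw [← cs_mul, ← cs_mul]
        congr 1
        group
      rw [e2]
      exact ih

/-- strong decomposition of `g` relative to `A` -/
def SV (p : ℕ) (P : Subgroup G) (A : Set G) (g : G) : Prop :=
  ∃ c g' y, c ∈ Subgroup.centralizer A ∧ y ∈ Subgroup.normalizer (P : Set G) ∧ g = c * g' * y ∧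
    ViaP (Stp p P) A g'

variable {p : ℕ} {P : Subgroup G}

theorem SV.mono {A B : Set G} {g : G} (h : SV p P A g) (hBA : B ⊆ A) : SV p P B g := by
  obtain ⟨c, g', y, hc, hy, hg, hv⟩ := h
  exact ⟨c, g', y, Subgroup.centralizer_le hBA hc, hy, hg, hv.mono hBA⟩

theorem SV.of_mem_normalizer (A : Set G) {y : G} (hy : y ∈ Subgroup.normalizer (P : Set G)) :
    SV p P A y :=
  ⟨1, 1, y, Subgroup.one_mem _, hy, by group, ViaP.nil _⟩

theorem SV.of_mem_centralizer {A : Set G} {c : G} (hc : c ∈ Subgroup.centralizer A) :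
    SV p P A c :=
  ⟨c, 1, 1, hc, Subgroup.one_mem _, by group, ViaP.nil _⟩

theorem SV.of_step {A : Set G} {T : Subgroup G} {x : G} (h : Stp p P T x) (hA : A ⊆ T) :
    SV p P A x :=
  ⟨1, x, 1, Subgroup.one_mem _, Subgroup.one_mem _, by group,
    ViaP.single h h.mem_normalizer hA⟩

theorem SV.trans [Finite G] [Fact p.Prime] {A : Set G} {g h : G} (h1 : SV p P A g)
    (h2 : SV p P (cs g A) h) : SV p P A (g * h) := by
  obtain ⟨c, g', y, hc, hy, hg, hv⟩ := h1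
  obtain ⟨c', h', y', hc', hy', hh, hv'⟩ := h2
  have hcsA : cs c A = A := cs_eq_of_mem_centralizer hc
  have hgA : cs g A = cs y (cs g' A) := by
    rw [hg, cs_mul, cs_mul, hcsA]
  have hyP : cj y P = P := mem_normalizer_iff_cj.mp hy
  refine ⟨c * (g' * y * c' * y⁻¹ * g'⁻¹), g' * (y * h' * y⁻¹), y * y', ?_, ?_, ?_, ?_⟩
  · apply Subgroup.mul_mem _ hc
    rw [Subgroup.mem_centralizer_iff]
    intro a ha
    have h3 : (g' * y)⁻¹ * a * (g' * y) ∈ cs g A := by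
      rw [hgA, ← cs_mul]
      exact ⟨a, ha, rfl⟩
    have h4 := (Subgroup.mem_centralizer_iff.mp hc') _ h3
    calc a * (g' * y * c' * y⁻¹ * g'⁻¹)
        = (g' * y) * ((g' * y)⁻¹ * a * (g' * y) * c') * (g' * y)⁻¹ := by group
      _ = (g' * y) * (c' * ((g' * y)⁻¹ * a * (g' * y))) * (g' * y)⁻¹ := by rw [h4]
      _ = g' * y * c' * y⁻¹ * g'⁻¹ * a := by group
  · exact Subgroup.mul_mem _ hy hy'
  · rw [hg, hh]; group
  · apply ViaP.trans hv
    have h5 : ViaP (Stp p P) (cs y⁻¹ (cs g A)) (y * h' * y⁻¹) :=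
      ViaP.conj (fun T x hT => hT.conj hyP) hv'
    rw [hgA, cs_inv_cs] at h5
    exact h5

end Cfsg.Agent.Lib.Lead.AGS
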