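import Mathlib
import Cfsg.Agent.Lib.Lead.AGS3
import Cfsg.Agent.Lib.Helper6.StrEmb

set_option autoImplicit false

/-! Abstract consequences of (non-)connectedness of the Sylow graph. -/

namespace Cfsg.Agent.Lib.Lead.AGS

open Cfsg Cfsg.Agent.Lib.Helper6

variable {K : Type*} [Group K] [Finite K] {p : ℕ} [Fact p.Prime]

/-- if the Sylow graph is connected, the normalizers of the nontrivial subgroups of a Sylow subgroup generate -/
theorem iSup_normalizer_eq_top_of_conn (hp : p ∣ Nat.card K) (hc : IsSylowChainConnected p K)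
    (S : Sylow p K) :
    (⨆ Q : {Q : Subgroup K // Q ≤ (S : Subgroup K) ∧ Q ≠ ⊥},
      Subgroup.normalizer ((Q : Subgroup K) : Set K)) = ⊤ := by
  by_contra hne
  set M : Subgroup K := ⨆ Q : {Q : Subgroup K // Q ≤ (S : Subgroup K) ∧ Q ≠ ⊥},
      Subgroup.normalizer ((Q : Subgroup K) : Set K) with hM
  have hSE : SENorm p M := by
    apply SENorm.of_core_le hp S
    rw [kGeneratedCore_one_le_iff S.isPGroup']
    intro Q hQS hQne
    exact le_iSup (fun Q : {Q : Subgroup K // Q ≤ (S : Subgroup K) ∧ Q ≠ ⊥} =>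
      Subgroup.normalizer ((Q : Subgroup K) : Set K)) ⟨Q, hQS, hQne⟩
  have hSne : (S : Subgroup K) ≠ ⊥ := sylow_ne_bot hp S
  have hSM : (S : Subgroup K) ≤ M :=
    Subgroup.le_normalizer.trans (le_iSup (fun Q : {Q : Subgroup K // Q ≤ (S : Subgroup K) ∧ Q ≠ ⊥} =>
      Subgroup.normalizer ((Q : Subgroup K) : Set K)) ⟨S, le_rfl, hSne⟩)
  have hpM : p ∣ Nat.card M :=
    (dvd_card_of_isPGroup_ne_bot S.isPGroup' hSne).trans (Subgroup.card_dvd_of_le hSM)
  exact (Cfsg.Agent.S3056.result p).mpr ⟨M, hne, hpM, hSE.seconj⟩ hc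

/-- if the Sylow graph is disconnected there is a smallest normal subgroup of order divisible by `p` -/
theorem exists_min_normal_of_not_conn (hc : ¬ IsSylowChainConnected p K) :
    ∃ X : Subgroup K, X.Normal ∧ p ∣ Nat.card X ∧
      ∀ Y : Subgroup K, Y.Normal → p ∣ Nat.card Y → X ≤ Y := by
  have hpK : p ∣ Nat.card K := by
    obtain ⟨H, _, hpH, _⟩ := (Cfsg.Agent.S3056.result p).mp hc
    exact hpH.trans (Subgroup.card_subgroup_dvd_card H)
  set 𝒩 : Set (Subgroup K) := {Y | Y.Normal ∧ p ∣ Nat.card Y} with h𝒩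
  have hne : 𝒩.Nonempty := ⟨⊤, inferInstance, by rw [Subgroup.card_top]; exact hpK⟩
  obtain ⟨X, hX, hmin⟩ := Set.exists_min_image 𝒩 (fun Y => Nat.card Y) (Set.toFinite 𝒩) hne
  refine ⟨X, hX.1, hX.2, ?_⟩
  intro Y hYn hYp
  haveI := hX.1
  haveI := hYn
  have h1 : p ∣ Nat.card ↥(X ⊓ Y) := Cfsg.Agent.S3058.result p hc X Y hX.2 hYp
  have h2 : X ⊓ Y ∈ 𝒩 := ⟨inferInstance, h1⟩
  have h3 := hmin _ h2
  have h4 : X ⊓ Y = X := Subgroup.eq_of_le_of_card_ge inf_le_left h3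
  exact inf_eq_left.mp h4

end Cfsg.Agent.Lib.Lead.AGS
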