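import Mathlib
import Cfsg.Agent.Lib.Lead.AGS4

set_option autoImplicit false

/-! Correspondence between subgroups of `N/T` and subgroups of the ambient group. -/

namespace Cfsg.Agent.Lib.Lead.AGS

open Cfsg

variable {G : Type*} [Group G] {N T : Subgroup G} [hn : (T.subgroupOf N).Normal]

/-- full preimage in the ambient group of a subgroup of `N/T` -/
def pre (N T : Subgroup G) [(T.subgroupOf N).Normal] (W : Subgroup (↥N ⧸ T.subgroupOf N)) : Subgroup G :=
  (W.comap (QuotientGroup.mk' (T.subgroupOf N))).map N.subtype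

/-- image in `N/T` -/
def img (N T : Subgroup G) [(T.subgroupOf N).Normal] (Y : Subgroup G) : Subgroup (↥N ⧸ T.subgroupOf N) :=
  (Y.subgroupOf N).map (QuotientGroup.mk' (T.subgroupOf N))

theorem mem_pre {W : Subgroup (↥N ⧸ T.subgroupOf N)} {g : G} :
    g ∈ pre N T W ↔ ∃ h : g ∈ N, (QuotientGroup.mk' (T.subgroupOf N)) ⟨g, h⟩ ∈ W := by
  unfold pre
  constructor
  · rintro ⟨x, hx, rfl⟩
    exact ⟨x.2, hx⟩
  · rintro ⟨h, hg⟩
    exact ⟨⟨g, h⟩, hg, rfl⟩

theorem pre_le (W : Subgroup (↥N ⧸ T.subgroupOf N)) : pre N T W ≤ N :=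
  Subgroup.map_subtype_le _

theorem le_pre (hTN : T ≤ N) (W : Subgroup (↥N ⧸ T.subgroupOf N)) : T ≤ pre N T W := by
  intro t ht
  rw [mem_pre]
  refine ⟨hTN ht, ?_⟩
  have : (QuotientGroup.mk' (T.subgroupOf N)) ⟨t, hTN ht⟩ = 1 := by
    rw [QuotientGroup.mk'_apply, QuotientGroup.eq_one_iff, Subgroup.mem_subgroupOf]
    exact ht
  rw [this]; exact W.one_mem

theorem pre_mono {W W' : Subgroup (↥N ⧸ T.subgroupOf N)} (h : W ≤ W') : pre N T W ≤ pre N T W' :=
  Subgroup.map_mono (Subgroup.comap_mono h)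

theorem pre_subgroupOf (W : Subgroup (↥N ⧸ T.subgroupOf N)) :
    (pre N T W).subgroupOf N = W.comap (QuotientGroup.mk' (T.subgroupOf N)) := by
  ext x
  rw [Subgroup.mem_subgroupOf, mem_pre, Subgroup.mem_comap]
  constructor
  · rintro ⟨_, h⟩; exact h
  · intro h; exact ⟨x.2, h⟩

theorem img_pre (W : Subgroup (↥N ⧸ T.subgroupOf N)) : img N T (pre N T W) = W := by
  unfold img
  rw [pre_subgroupOf]
  exact Subgroup.map_comap_eq_self_of_surjective (QuotientGroup.mk'_surjective _) W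

theorem card_img (hTN : T ≤ N) {Y : Subgroup G} (hYN : Y ≤ N) :
    Nat.card (img N T Y) = T.relIndex Y := by
  unfold img
  rw [← Subgroup.relIndex_ker, QuotientGroup.ker_mk', Subgroup.relIndex_subgroupOf hYN]

theorem card_eq_relIndex_pre (hTN : T ≤ N) (W : Subgroup (↥N ⧸ T.subgroupOf N)) :
    Nat.card W = T.relIndex (pre N T W) := by
  rw [← card_img hTN (pre_le W), img_pre]

theorem pre_img_le {Y : Subgroup G} (hTY : T ≤ Y) : pre N T (img N T Y) ≤ Y := by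
  intro x hx
  rw [mem_pre] at hx
  obtain ⟨hxN, hx⟩ := hx
  obtain ⟨y, hy, hyx⟩ := hx
  rw [SetLike.mem_coe, Subgroup.mem_subgroupOf] at hy
  have h1 : y⁻¹ * ⟨x, hxN⟩ ∈ T.subgroupOf N := by
    rw [← QuotientGroup.eq]
    exact hyx
  rw [Subgroup.mem_subgroupOf] at h1
  have h2 : x = (y : G) * ((y : G)⁻¹ * x) := by group
  rw [h2]
  exact Y.mul_mem hy (hTY h1)

theorem pre_normal (W : Subgroup (↥N ⧸ T.subgroupOf N)) [W.Normal] :
    ((pre N T W).subgroupOf N).Normal := by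
  rw [pre_subgroupOf]
  infer_instance

theorem img_normal {Y : Subgroup G} (hY : (Y.subgroupOf N).Normal) : (img N T Y).Normal :=
  Subgroup.Normal.map hY _ (QuotientGroup.mk'_surjective _)

theorem eq_bot_of_pre_le {W : Subgroup (↥N ⧸ T.subgroupOf N)} (h : pre N T W ≤ T) : W = ⊥ := by
  rw [eq_bot_iff]
  intro w hw
  obtain ⟨x, rfl⟩ := QuotientGroup.mk'_surjective (T.subgroupOf N) w
  have h1 : (x : G) ∈ pre N T W := mem_pre.mpr ⟨x.2, hw⟩
  have h2 := h h1
  rw [Subgroup.mem_bot, QuotientGroup.mk'_apply, QuotientGroup.eq_one_iff, Subgroup.mem_subgroupOf]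
  exact h2

theorem mem_normalizer_pre {W : Subgroup (↥N ⧸ T.subgroupOf N)} {z : ↥N}
    (hz : (QuotientGroup.mk' (T.subgroupOf N)) z ∈ Subgroup.normalizer (W : Set (↥N ⧸ T.subgroupOf N))) :
    (z : G) ∈ Subgroup.normalizer ((pre N T W : Subgroup G) : Set G) := by
  have key : ∀ u : ↥N, (QuotientGroup.mk' (T.subgroupOf N)) u ∈
      Subgroup.normalizer (W : Set (↥N ⧸ T.subgroupOf N)) →
      ∀ h ∈ pre N T W, (u : G) * h * (u : G)⁻¹ ∈ pre N T W := by
    intro u hu h hh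
    rw [mem_pre] at hh ⊢
    obtain ⟨hhN, hh⟩ := hh
    refine ⟨N.mul_mem (N.mul_mem u.2 hhN) (N.inv_mem u.2), ?_⟩
    have e : (⟨(u : G) * h * (u : G)⁻¹, N.mul_mem (N.mul_mem u.2 hhN) (N.inv_mem u.2)⟩ : ↥N) =
        u * ⟨h, hhN⟩ * u⁻¹ := rfl
    rw [e, map_mul, map_mul, map_inv]
    exact (Subgroup.mem_normalizer_iff.mp hu _).mp hh
  rw [Subgroup.mem_normalizer_iff]
  intro h
  constructor
  · exact key z hz h
  · intro hh
    have hz' : (QuotientGroup.mk' (T.subgroupOf N)) z⁻¹ ∈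
        Subgroup.normalizer (W : Set (↥N ⧸ T.subgroupOf N)) := by
      rw [map_inv]; exact Subgroup.inv_mem _ hz
    have := key z⁻¹ hz' _ hh
    have e : ((z⁻¹ : ↥N) : G) * ((z : G) * h * (z : G)⁻¹) * ((z⁻¹ : ↥N) : G)⁻¹ = h := by
      simp only [Subgroup.coe_inv]; group
    rwa [e] at this

end Cfsg.Agent.Lib.Lead.AGS
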