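import Mathlib
import Cfsg.Agent.Lib.Lead.AGS5
import Cfsg.Agent.Lib.Helper6.SylowIdx
import Cfsg.Agent.Lib.Helper4.Sect3

set_option autoImplicit false

/-! The inductive core of the strong Alperin–Goldschmidt theorem. -/

namespace Cfsg.Agent.Lib.Lead.AGS

open Cfsg Cfsg.Agent.Lib.Helper4 Cfsg.Agent.Lib.Helper7 Cfsg.Agent.Lib.Helper6

variable {G : Type*} [Group G] [Finite G] {p : ℕ} [Fact p.Prime]

theorem ncard_subgroup (Q : Subgroup G) : (Q : Set G).ncard = Nat.card Q :=
  (Nat.card_coe_set_eq _).symm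

theorem sv_of_via (P : Sylow p G) (m : ℕ)
    (hK : ∀ T ∈ GoldFam P, m ≤ Nat.card T → ∀ x ∈ Subgroup.normalizer (T : Set G),
      SV p (P : Subgroup G) (T : Set G) x)
    {A : Set G} {g : G} (hv : Via (GoldFam P) A g) : m ≤ A.ncard → SV p (P : Subgroup G) A g := by
  induction hv with
  | nil A => intro _; exact SV.of_mem_normalizer A (Subgroup.one_mem _)
  | cons A T x g hT hx hAT _ ih =>
    intro hA
    have h1 : A.ncard ≤ Nat.card T := by
      rw [← ncard_subgroup]; exact Set.ncard_le_ncard hAT (Set.toFinite _)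
    have h2 : SV p (P : Subgroup G) A x := (hK T hT (hA.trans h1) x hx).mono hAT
    exact h2.trans (ih (by rw [ncard_cs]; exact hA))

theorem sv_of_le (P : Sylow p G) (m : ℕ)
    (hK : ∀ T ∈ GoldFam P, m ≤ Nat.card T → ∀ x ∈ Subgroup.normalizer (T : Set G),
      SV p (P : Subgroup G) (T : Set G) x)
    {Q : Subgroup G} (hQP : Q ≤ (P : Subgroup G)) (hQ : m ≤ Nat.card Q) {g : G}
    (hg : cs g (Q : Set G) ⊆ (P : Subgroup G)) : SV p (P : Subgroup G) (Q : Set G) g := by
  obtain ⟨c, g', hc, hgg, hv⟩ := alperin_goldschmidt_subgroup P _ Q hQP rfl g hg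
  rw [hgg]
  apply (SV.of_mem_centralizer hc).trans
  rw [cs_eq_of_mem_centralizer hc]
  exact sv_of_via P m hK hv (by rw [ncard_subgroup]; exact hQ)

theorem sv_conn (P : Sylow p G) {T : Subgroup G} (hT : T ∈ GoldFam P) (hTP : T ≠ (P : Subgroup G))
    (hL : ∀ Q : Subgroup G, Q ≤ (P : Subgroup G) → Nat.card T < Nat.card Q → ∀ g : G,
      cs g (Q : Set G) ⊆ (P : Subgroup G) → SV p (P : Subgroup G) (Q : Set G) g)
    (hc : IsSylowChainConnected p (↥(Subgroup.normalizer (T : Set G)) ⧸
      T.subgroupOf (Subgroup.normalizer (T : Set G))))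
    {x : G} (hx : x ∈ Subgroup.normalizer (T : Set G)) : SV p (P : Subgroup G) (T : Set G) x := by
  obtain ⟨N, hNdef⟩ : ∃ N : Subgroup G, N = Subgroup.normalizer (T : Set G) := ⟨_, rfl⟩
  have hTN : T ≤ Subgroup.normalizer (T : Set G) := Subgroup.le_normalizer
  have hPp : IsPGroup p (P : Subgroup G) := P.isPGroup'
  have hR : SylIn p (Subgroup.normalizer (T : Set G)) ((P : Subgroup G) ⊓ Subgroup.normalizer (T : Set G)) :=
    ⟨inf_le_right, hPp.to_le inf_le_left, hT.2.2.2⟩
  have hTR : T ≤ (P : Subgroup G) ⊓ Subgroup.normalizer (T : Set G) := le_inf hT.1 hTN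
  have hlt : T < (P : Subgroup G) := lt_of_le_of_ne hT.1 hTP
  obtain ⟨n, hnP, hnT, hnN⟩ := exists_mem_normalizer_not_mem hlt hPp
  have hR'p : IsPGroup p (((P : Subgroup G) ⊓ Subgroup.normalizer (T : Set G)).subgroupOf
      (Subgroup.normalizer (T : Set G))) := (hPp.to_le inf_le_left).comap_subtype
  have hR'i : ¬ p ∣ (((P : Subgroup G) ⊓ Subgroup.normalizer (T : Set G)).subgroupOf
      (Subgroup.normalizer (T : Set G))).index := hR.2.2
  obtain ⟨Rb, hRb⟩ : ∃ Rb : Sylow p (↥(Subgroup.normalizer (T : Set G)) ⧸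
      T.subgroupOf (Subgroup.normalizer (T : Set G))),
      Rb.toSubgroup = img (Subgroup.normalizer (T : Set G)) T
        ((P : Subgroup G) ⊓ Subgroup.normalizer (T : Set G)) := by
    refine ⟨(hR'p.toSylow hR'i).mapSurjective (QuotientGroup.mk'_surjective _), ?_⟩
    rw [Sylow.coe_mapSurjective, IsPGroup.toSylow_coe]
    rfl
  have hRbne : Rb.toSubgroup ≠ ⊥ := by
    intro h
    have h1 : (QuotientGroup.mk' (T.subgroupOf (Subgroup.normalizer (T : Set G)))) ⟨n, hnN⟩ ∈
        Rb.toSubgroup := by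
      rw [hRb]
      exact ⟨⟨n, hnN⟩, by rw [SetLike.mem_coe, Subgroup.mem_subgroupOf]; exact ⟨hnP, hnN⟩, rfl⟩
    rw [h, Subgroup.mem_bot, QuotientGroup.mk'_apply, QuotientGroup.eq_one_iff,
      Subgroup.mem_subgroupOf] at h1
    exact hnT h1
  have hpN : p ∣ Nat.card (↥(Subgroup.normalizer (T : Set G)) ⧸
      T.subgroupOf (Subgroup.normalizer (T : Set G))) :=
    (dvd_card_of_isPGroup_ne_bot Rb.isPGroup' hRbne).trans (Subgroup.card_subgroup_dvd_card _)
  have htop := iSup_normalizer_eq_top_of_conn hpN hc Rb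
  have key : ∀ z : ↥(Subgroup.normalizer (T : Set G)),
      SV p (P : Subgroup G) (T : Set G) (z : G) := by
    intro z₀
    have hu : QuotientGroup.mk' (T.subgroupOf (Subgroup.normalizer (T : Set G))) z₀ ∈
        (⊤ : Subgroup (↥(Subgroup.normalizer (T : Set G)) ⧸
          T.subgroupOf (Subgroup.normalizer (T : Set G)))) := Subgroup.mem_top _
    rw [← htop] at hu
    refine Subgroup.iSup_induction _ (C := fun u => ∀ z : ↥(Subgroup.normalizer (T : Set G)),
        QuotientGroup.mk' (T.subgroupOf (Subgroup.normalizer (T : Set G))) z = u →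
        SV p (P : Subgroup G) (T : Set G) (z : G)) hu ?_ ?_ ?_ z₀ rfl
    · rintro ⟨Qb, hQR, hQne⟩ u hu z hz
      have hz' : (z : G) ∈ Subgroup.normalizer
          ((pre (Subgroup.normalizer (T : Set G)) T Qb : Subgroup G) : Set G) :=
        mem_normalizer_pre (by rw [hz]; exact hu)
      have hQ1 : T ≤ pre (Subgroup.normalizer (T : Set G)) T Qb := le_pre hTN Qb
      have hQ2 : pre (Subgroup.normalizer (T : Set G)) T Qb ≤ (P : Subgroup G) := by
        have h1 := pre_mono (N := Subgroup.normalizer (T : Set G)) (T := T) hQR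
        rw [hRb] at h1
        exact (h1.trans (pre_img_le hTR)).trans inf_le_left
      have hQ3 : Nat.card T < Nat.card (pre (Subgroup.normalizer (T : Set G)) T Qb) := by
        apply card_lt_of_lt
        refine lt_of_le_of_ne hQ1 ?_
        intro heq
        exact hQne (eq_bot_of_pre_le (by rw [← heq]))
      have h2 := hL _ hQ2 hQ3 (z : G) (by
        rw [cs_eq_self_of_mem_normalizer hz']; exact fun _ h => hQ2 h)
      exact h2.mono (fun _ h => hQ1 h)
    · intro z hz
      have h1 : (z : G) ∈ T := by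
        rw [QuotientGroup.mk'_apply, QuotientGroup.eq_one_iff, Subgroup.mem_subgroupOf] at hz
        exact hz
      exact SV.of_mem_normalizer _ (Subgroup.le_normalizer (hT.1 h1))
    · intro u v hu hv z hz
      obtain ⟨a, rfl⟩ := QuotientGroup.mk'_surjective
        (T.subgroupOf (Subgroup.normalizer (T : Set G))) u
      have hb : QuotientGroup.mk' (T.subgroupOf (Subgroup.normalizer (T : Set G))) (a⁻¹ * z) = v := by
        rw [map_mul, map_inv, hz]; group
      have h1 := hu a rfl
      have h2 := hv (a⁻¹ * z) hb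
      have e : (z : G) = (a : G) * ((a⁻¹ * z : ↥(Subgroup.normalizer (T : Set G))) : G) := by
        simp
      rw [e]
      apply h1.trans
      rw [cs_eq_self_of_mem_normalizer a.2]
      exact h2
  exact key ⟨x, hx⟩

end Cfsg.Agent.Lib.Lead.AGS
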