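import Mathlib
import Cfsg.Agent.Lib.Lead.AGS6

set_option autoImplicit false

/-! The disconnected case and the main induction of the strong Alperin–Goldschmidt theorem. -/

namespace Cfsg.Agent.Lib.Lead.AGS

open Cfsg Cfsg.Agent.Lib.Helper4 Cfsg.Agent.Lib.Helper7 Cfsg.Agent.Lib.Helper6

variable {G : Type*} [Group G] [Finite G] {p : ℕ} [Fact p.Prime]

theorem sv_not_conn (P : Sylow p G) {T : Subgroup G} (hT : T ∈ GoldFam P)
    (hL : ∀ Q : Subgroup G, Q ≤ (P : Subgroup G) → Nat.card T < Nat.card Q → ∀ g : G,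
      cs g (Q : Set G) ⊆ (P : Subgroup G) → SV p (P : Subgroup G) (Q : Set G) g)
    (hc : ¬ IsSylowChainConnected p (↥(Subgroup.normalizer (T : Set G)) ⧸
      T.subgroupOf (Subgroup.normalizer (T : Set G))))
    {x : G} (hx : x ∈ Subgroup.normalizer (T : Set G)) : SV p (P : Subgroup G) (T : Set G) x := by
  have hp : p.Prime := Fact.out
  have hTN : T ≤ Subgroup.normalizer (T : Set G) := Subgroup.le_normalizer
  have hPp : IsPGroup p (P : Subgroup G) := P.isPGroup'
  have hR : SylIn p (Subgroup.normalizer (T : Set G)) ((P : Subgroup G) ⊓ Subgroup.normalizer (T : Set G)) :=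
    ⟨inf_le_right, hPp.to_le inf_le_left, hT.2.2.2⟩
  have hTR : T ≤ (P : Subgroup G) ⊓ Subgroup.normalizer (T : Set G) := le_inf hT.1 hTN
  obtain ⟨Xb, hXn, hXp, hXmin⟩ := exists_min_normal_of_not_conn hc
  haveI := hXn
  obtain ⟨X, hXdef⟩ : ∃ X : Subgroup G, X = pre (Subgroup.normalizer (T : Set G)) T Xb := ⟨_, rfl⟩
  have hTX : T ≤ X := by rw [hXdef]; exact le_pre hTN Xb
  have hXN : X ≤ Subgroup.normalizer (T : Set G) := by rw [hXdef]; exact pre_le Xb
  have hXnorm : (X.subgroupOf (Subgroup.normalizer (T : Set G))).Normal := by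
    rw [hXdef]; exact pre_normal Xb
  have hXrel : p ∣ T.relIndex X := by
    rw [hXdef, ← card_eq_relIndex_pre hTN Xb]; exact hXp
  have hXminG : ∀ Y : Subgroup G, T ≤ Y → Y ≤ Subgroup.normalizer (T : Set G) →
      (Y.subgroupOf (Subgroup.normalizer (T : Set G))).Normal → p ∣ T.relIndex Y → X ≤ Y := by
    intro Y hTY hYN hYn hYp
    have h1 : Xb ≤ img (Subgroup.normalizer (T : Set G)) T Y :=
      hXmin _ (img_normal hYn) (by rw [card_img hTN hYN]; exact hYp)
    rw [hXdef]
    exact (pre_mono h1).trans (pre_img_le hTY)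
  -- the remaining conditions of `Good`
  have hPC : (P : Subgroup G) ⊓ Subgroup.centralizer (T : Set G) ≤ T := by
    have h1 := inf_LG_eq_of_mem_goldFam hT
    calc (P : Subgroup G) ⊓ Subgroup.centralizer (T : Set G)
        ≤ (P : Subgroup G) ⊓ LG p (Subgroup.normalizer (T : Set G)) := inf_le_inf_left _ hT.2.1
      _ = T := h1
  have hLG : (Cfsg.pPrimePCore p ↥(Subgroup.normalizer (T : Set G))).map
      (Subgroup.normalizer (T : Set G)).subtype = T ⊔ Subgroup.centralizer (T : Set G) := by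
    obtain ⟨_, hCL, ⟨hKL, hTL, hcomm, _, hsup⟩, _⟩ := hT
    rw [← LG_def]
    apply le_antisymm
    · rw [← hsup]
      apply sup_le _ le_sup_left
      refine le_trans ?_ le_sup_right
      intro k hk
      rw [Subgroup.mem_centralizer_iff]
      intro t ht
      exact (hcomm k hk t ht).symm
    · exact sup_le hTL hCL
  have hgood : Good p (P : Subgroup G) T X :=
    ⟨hT.1, hT.2.2.2, hPC, hLG, hc, hTX, hXN, hXnorm, hXrel, hXminG⟩
  -- Frattini argument
  have hNX : Subgroup.normalizer (T : Set G) ≤ Subgroup.normalizer (X : Set G) :=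
    (Subgroup.normal_subgroupOf_iff_le_normalizer hXN).mp hXnorm
  have hQ : SylIn p X (((P : Subgroup G) ⊓ Subgroup.normalizer (T : Set G)) ⊓ X) :=
    sylIn_inf_normal hXN hNX hR
  obtain ⟨l, hl, w, hw, hxlw⟩ := frattini_rel hXN hNX hQ hx
  have hKX : (pResidual p ↥X).map X.subtype ≤ X := Subgroup.map_subtype_le _
  have hXK : X ≤ Subgroup.normalizer (((pResidual p ↥X).map X.subtype : Subgroup G) : Set G) :=
    le_normalizer_map_subtype X (pResidual p ↥X)
  have hp' : ∀ v ∈ X, (orderOf v).Coprime p → v ∈ (pResidual p ↥X).map X.subtype := by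
    intro v hv hcop
    refine ⟨⟨v, hv⟩, mem_pResidual_of_coprime' ?_, rfl⟩
    rwa [Subgroup.orderOf_mk]
  obtain ⟨k, hk, r, hr, hlkr⟩ := exists_mul_of_pPrime_le hKX hXK hQ hp' hl
  have hrw : r * w ∈ Subgroup.normalizer
      (((((P : Subgroup G) ⊓ Subgroup.normalizer (T : Set G)) ⊓ X : Subgroup G)) : Set G) :=
    Subgroup.mul_mem _ (Subgroup.le_normalizer hr) hw.2
  have hTQ : T ≤ ((P : Subgroup G) ⊓ Subgroup.normalizer (T : Set G)) ⊓ X := le_inf hTR hTX
  have hQP : ((P : Subgroup G) ⊓ Subgroup.normalizer (T : Set G)) ⊓ X ≤ (P : Subgroup G) :=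
    inf_le_left.trans inf_le_left
  have hcardQ : Nat.card T < Nat.card ↥(((P : Subgroup G) ⊓ Subgroup.normalizer (T : Set G)) ⊓ X) := by
    apply card_lt_of_lt
    refine lt_of_le_of_ne hTQ ?_
    intro heq
    have h1 := Subgroup.relIndex_mul_relIndex T
      (((P : Subgroup G) ⊓ Subgroup.normalizer (T : Set G)) ⊓ X) X hTQ inf_le_right
    rw [← heq, Subgroup.relIndex_self, one_mul] at h1
    apply hQ.2.2
    rw [← heq, h1]
    exact hXrel
  have h1 : SV p (P : Subgroup G) (T : Set G) k := SV.of_step ⟨X, hgood, hk⟩ (subset_refl _)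
  have h2 : SV p (P : Subgroup G)
      ((((P : Subgroup G) ⊓ Subgroup.normalizer (T : Set G)) ⊓ X : Subgroup G) : Set G) (r * w) :=
    hL _ hQP hcardQ (r * w) (by
      rw [cs_eq_self_of_mem_normalizer hrw]; exact fun _ h => hQP h)
  have hkN : k ∈ Subgroup.normalizer (T : Set G) := hXN (hKX hk)
  rw [hxlw, hlkr, mul_assoc]
  apply h1.trans
  rw [cs_eq_self_of_mem_normalizer hkN]
  exact h2.mono (fun _ h => hTQ h)

theorem sv_goldFam (P : Sylow p G) : ∀ d : ℕ, ∀ T ∈ GoldFam P,
    Nat.card (P : Subgroup G) - Nat.card T = d → ∀ x ∈ Subgroup.normalizer (T : Set G),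
    SV p (P : Subgroup G) (T : Set G) x := by
  intro d
  induction d using Nat.strong_induction_on with
  | _ d ih =>
  intro T hT hd x hx
  by_cases hTP : T = (P : Subgroup G)
  · rw [hTP] at hx ⊢
    exact SV.of_mem_normalizer _ hx
  · have hTle : Nat.card T ≤ Nat.card (P : Subgroup G) := Subgroup.card_le_of_le hT.1
    have hK : ∀ T' ∈ GoldFam P, Nat.card T + 1 ≤ Nat.card T' →
        ∀ x ∈ Subgroup.normalizer (T' : Set G), SV p (P : Subgroup G) (T' : Set G) x := by
      intro T' hT' hlt x' hx'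
      have h1 : Nat.card T' ≤ Nat.card (P : Subgroup G) := Subgroup.card_le_of_le hT'.1
      exact ih (Nat.card (P : Subgroup G) - Nat.card T') (by omega) T' hT' rfl x' hx'
    have hL : ∀ Q : Subgroup G, Q ≤ (P : Subgroup G) → Nat.card T < Nat.card Q → ∀ g : G,
        cs g (Q : Set G) ⊆ (P : Subgroup G) → SV p (P : Subgroup G) (Q : Set G) g :=
      fun Q hQP hQ g hg => sv_of_le P (Nat.card T + 1) hK hQP hQ hg
    by_cases hc : IsSylowChainConnected p (↥(Subgroup.normalizer (T : Set G)) ⧸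
        T.subgroupOf (Subgroup.normalizer (T : Set G)))
    · exact sv_conn P hT hTP hL hc hx
    · exact sv_not_conn P hT hL hc hx

theorem sv_main (P : Sylow p G) {A : Set G} (hA : A ⊆ (P : Subgroup G)) {g : G}
    (hg : cs g A ⊆ (P : Subgroup G)) : SV p (P : Subgroup G) A g := by
  obtain ⟨c, g', hc, hgg, hv⟩ := alperin_goldschmidt_set P A g hA hg
  rw [hgg]
  apply (SV.of_mem_centralizer hc).trans
  rw [cs_eq_of_mem_centralizer hc]
  exact sv_of_via P 0 (fun T hT _ x hx => sv_goldFam P _ T hT rfl x hx) hv (Nat.zero_le _)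

end Cfsg.Agent.Lib.Lead.AGS
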