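import Mathlib
import Cfsg.Agent.Lib.Helper7.PEl12

set_option autoImplicit false

universe u v

namespace Cfsg.Agent.Lib.Lead.AbPerm

open MulAction

theorem pow_add_mul_le {p : ℕ} (hp : 2 ≤ p) (b : ℕ) (hb : 1 ≤ b) (e : ℕ) :
    p ^ b + e * p ≤ p ^ (b + e) := by
  induction e with
  | zero => simp
  | succ e ih =>
    have h1 : p ≤ p ^ (b + e) := by
      calc p = p ^ 1 := (pow_one p).symm
        _ ≤ p ^ (b + e) := Nat.pow_le_pow_right (by omega) (by omega)
    calc p ^ b + (e + 1) * p = (p ^ b + e * p) + p := by ring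
      _ ≤ p ^ (b + e) + p ^ (b + e) := Nat.add_le_add ih h1
      _ = p ^ (b + e) * 2 := by ring
      _ ≤ p ^ (b + e) * p := Nat.mul_le_mul_left _ hp
      _ = p ^ (b + (e + 1)) := by rw [← add_assoc, pow_succ]

theorem list_amgm (l : List ℕ) : l.length ^ l.length * l.prod ≤ l.sum ^ l.length := by
  have h := Cfsg.Agent.Lib.Helper7.PEl.amgm (ι := Fin l.length) (fun i => ((l[i.1] : ℕ) : ℝ))
    (fun i => Nat.cast_nonneg _)
  rw [Fintype.card_fin] at h
  have e1 : (∏ i : Fin l.length, ((l[i.1] : ℕ) : ℝ)) = ((l.prod : ℕ) : ℝ) := by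
    rw [← Nat.cast_prod, Fin.prod_univ_getElem]
  have e2 : (∑ i : Fin l.length, ((l[i.1] : ℕ) : ℝ)) = ((l.sum : ℕ) : ℝ) := by
    rw [← Nat.cast_sum, Fin.sum_univ_getElem]
  rw [e1, e2] at h
  exact_mod_cast h

theorem exists_list {p : ℕ} (hp : p.Prime) :
    ∀ (N : ℕ) {A : Type u} [Group A] [Finite A] {Ω : Type v} [Finite Ω] [MulAction A Ω]
      [FaithfulSMul A Ω], Nat.card A = N → (∀ x y : A, x * y = y * x) → IsPGroup p A →
      ∀ k, Nat.card {x : A // x ^ p = 1} = p ^ k →
      ∃ l : List ℕ, l.length = k ∧ Nat.card A ≤ l.prod ∧ l.sum ≤ Nat.card Ω := by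
  intro N
  induction N using Nat.strong_induction_on with
  | _ N ih =>
  intro A _ _ Ω _ _ _ hN hc hA k hk
  haveI : Fact p.Prime := ⟨hp⟩
  classical
  by_cases htriv : Subsingleton A
  · have h1 : Nat.card {x : A // x ^ p = 1} = 1 := by
      haveI : Subsingleton {x : A // x ^ p = 1} := inferInstance
      haveI : Nonempty {x : A // x ^ p = 1} := ⟨⟨1, one_pow p⟩⟩
      exact Nat.card_eq_one_iff_unique.mpr ⟨inferInstance, inferInstance⟩
    rw [h1] at hk
    have hk0 : k = 0 := by
      rcases Nat.pow_eq_one.mp hk.symm with h | h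
      · exact absurd h hp.one_lt.ne'
      · exact h
    refine ⟨[], by simp [hk0], ?_, by simp⟩
    have : Nat.card A = 1 := Nat.card_eq_one_iff_unique.mpr ⟨htriv, ⟨1⟩⟩
    simp [this]
  · rw [not_subsingleton_iff_nontrivial] at htriv
    have hdvd : p ∣ Nat.card A := by
      obtain ⟨n, hn⟩ := IsPGroup.iff_card.mp hA
      have hn0 : n ≠ 0 := by
        rintro rfl
        rw [pow_zero] at hn
        have := (Nat.card_eq_one_iff_unique.mp hn).1
        exact not_subsingleton A this
      rw [hn]; exact dvd_pow_self p hn0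
    obtain ⟨x₀, hx₀⟩ := exists_prime_orderOf_dvd_card' p hdvd
    have hx₀p : x₀ ^ p = 1 := by rw [← hx₀]; exact pow_orderOf_eq_one x₀
    have hx₀1 : x₀ ≠ 1 := by
      rintro rfl
      rw [orderOf_one] at hx₀
      exact hp.one_lt.ne hx₀
    obtain ⟨ω, hω⟩ : ∃ ω : Ω, x₀ • ω ≠ ω := by
      by_contra hcon
      push Not at hcon
      apply hx₀1
      apply FaithfulSMul.eq_of_smul_eq_smul (α := Ω)
      intro y
      rw [hcon y, one_smul]
    set K : Subgroup A := stabilizer A ω with hKdef
    have hKfix : ∀ g ∈ K, ∀ o ∈ orbit A ω, g • o = o := by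
      rintro g hg o ⟨h, rfl⟩
      have hg' : g • ω = ω := hg
      show g • h • ω = h • ω
      rw [smul_smul, hc g h, ← smul_smul, hg']
    have hx₀K : x₀ ∉ K := fun h => hω h
    haveI : K.Normal := ⟨fun n hn g => by rw [hc g n, mul_inv_cancel_right]; exact hn⟩
    -- the subgroup of elements of order dividing p
    let W : Subgroup A :=
      { carrier := {x | x ^ p = 1}
        one_mem' := one_pow p
        mul_mem' := fun {a b} ha hb => by
          rw [Set.mem_setOf_eq] at ha hb ⊢
          rw [Commute.mul_pow (show Commute a b from hc a b), ha, hb, one_mul]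
        inv_mem' := fun {a} ha => by
          rw [Set.mem_setOf_eq] at ha ⊢
          rw [inv_pow, ha, inv_one] }
    have hWmem : ∀ x : A, x ∈ W ↔ x ^ p = 1 := fun x => Iff.rfl
    have hWcard : Nat.card ↥W = p ^ k := by
      rw [← hk]
      exact Nat.card_congr (Equiv.subtypeEquivRight (fun x => Iff.rfl))
    -- index of K
    obtain ⟨a, ha⟩ := hA.index K
    have hcardA : Nat.card ↥K * p ^ a = Nat.card A := by rw [← ha]; exact K.card_mul_index
    have horb : Nat.card ↥(orbit A ω) = p ^ a := by
      rw [Nat.card_coe_set_eq, ← index_stabilizer, ← ha]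
    -- relative index
    obtain ⟨k₂, hk₂⟩ := IsPGroup.iff_card.mp ((hA.to_subgroup W).to_subgroup (K.subgroupOf W))
    have hrel : K.relIndex W ∣ p ^ a := by rw [← ha]; exact Subgroup.relIndex_dvd_index_of_normal K W
    obtain ⟨d, hda, hd⟩ := (Nat.dvd_prime_pow hp).mp hrel
    have hmul : Nat.card ↥(K.subgroupOf W) * K.relIndex W = Nat.card ↥W :=
      (K.subgroupOf W).card_mul_index
    rw [hk₂, hd, hWcard, ← pow_add] at hmul
    have hkk : k₂ + d = k := Nat.pow_right_injective hp.two_le hmul
    have hd0 : d ≠ 0 := by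
      rintro rfl
      rw [pow_zero, Subgroup.relIndex_eq_one] at hd
      exact hx₀K (hd ((hWmem x₀).mpr hx₀p))
    -- the complement of the orbit
    let S : SubMulAction ↥K Ω :=
      { carrier := (orbit A ω)ᶜ
        smul_mem' := by
          rintro g y hy ⟨h, hh⟩
          apply hy
          refine ⟨(g : A)⁻¹ * h, ?_⟩
          have hh' : h • ω = (g : A) • y := hh
          show ((g : A)⁻¹ * h) • ω = y
          rw [← smul_smul, hh', smul_smul, inv_mul_cancel, one_smul] }
    haveI : FaithfulSMul ↥K ↥S := by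
      refine ⟨fun {g g'} h => ?_⟩
      apply Subtype.ext
      apply FaithfulSMul.eq_of_smul_eq_smul (α := Ω)
      intro y
      by_cases hy : y ∈ orbit A ω
      · rw [hKfix g g.2 y hy, hKfix g' g'.2 y hy]
      · have := congrArg Subtype.val (h ⟨y, hy⟩)
        exact this
    have hScard : Nat.card ↥S + p ^ a = Nat.card Ω := by
      rw [← horb, add_comm]
      have e := Nat.card_congr (Equiv.Set.sumCompl (orbit A ω))
      rw [Nat.card_sum] at e
      rw [← e]
      congr 1
    -- cardinality of K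
    have hKlt : Nat.card ↥K < N := by
      rw [← hN, ← hcardA]
      have h1 : 0 < Nat.card ↥K := Nat.card_pos
      have h2 : 2 ≤ p ^ a := by
        calc 2 ≤ p := hp.two_le
          _ = p ^ 1 := (pow_one p).symm
          _ ≤ p ^ a := Nat.pow_le_pow_right hp.pos (by omega)
      nlinarith
    have hK1 : Nat.card {x : ↥K // x ^ p = 1} = p ^ k₂ := by
      rw [← hk₂]
      refine Nat.card_congr
        { toFun := fun x => ⟨⟨x.1.1, ?_⟩, ?_⟩
          invFun := fun w => ⟨⟨w.1.1, ?_⟩, ?_⟩
          left_inv := fun x => rfl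
          right_inv := fun w => rfl }
      · have := congrArg Subtype.val x.2
        exact (hWmem _).mpr (by simpa using this)
      · exact Subgroup.mem_subgroupOf.mpr x.1.2
      · exact Subgroup.mem_subgroupOf.mp w.2
      · apply Subtype.ext
        have : (w.1.1) ^ p = 1 := w.1.2
        simpa using this
    obtain ⟨l', hl'len, hl'prod, hl'sum⟩ :=
      ih (Nat.card ↥K) hKlt (A := ↥K) (Ω := ↥S) rfl (fun x y => Subtype.ext (hc x y))
        (hA.to_subgroup K) k₂ hK1
    refine ⟨l' ++ (p ^ (a - d + 1) :: List.replicate (d - 1) p), ?_, ?_, ?_⟩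
    · rw [List.length_append, List.length_cons, List.length_replicate, hl'len]
      omega
    · rw [List.prod_append, List.prod_cons, List.prod_replicate, ← pow_add, ← hcardA]
      have : a - d + 1 + (d - 1) = a := by omega
      rw [this]
      exact Nat.mul_le_mul_right _ hl'prod
    · rw [List.sum_append, List.sum_cons, List.sum_replicate, smul_eq_mul, ← hScard]
      have h1 := pow_add_mul_le hp.two_le (a - d + 1) (by omega) (d - 1)
      have : a - d + 1 + (d - 1) = a := by omega
      rw [this] at h1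
      omega

theorem main {Ω : Type*} [Fintype Ω] [DecidableEq Ω]
    (p : ℕ) (hp : p.Prime) (A : Subgroup (Equiv.Perm Ω)) (hA : IsPGroup p A)
    (hab : IsMulCommutative A)
    (k : ℕ) (hk : Nat.card {x : A // x ^ p = 1} = p ^ k) :
    Nat.card A * k ^ k ≤ Fintype.card Ω ^ k := by
  obtain ⟨l, hl, h1, h2⟩ := exists_list hp (Nat.card A) (A := ↥A) (Ω := Ω) rfl
    (fun x y => hab.is_comm.comm x y) hA k hk
  subst hl
  rw [Nat.card_eq_fintype_card] at h2
  calc Nat.card A * l.length ^ l.length ≤ l.prod * l.length ^ l.length :=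
        Nat.mul_le_mul_right _ h1
    _ = l.length ^ l.length * l.prod := mul_comm _ _
    _ ≤ l.sum ^ l.length := list_amgm l
    _ ≤ Fintype.card Ω ^ l.length := Nat.pow_le_pow_left h2 _

end Cfsg.Agent.Lib.Lead.AbPerm
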