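import Mathlib

set_option autoImplicit false
open scoped commutatorElement

namespace Cfsg.Agent.Lib.Lead

universe u

section
variable {G : Type u} [Group G]

/-- Part 1: if `A` normalises `B` and centralises `B'`, then `[B,A]'` centralises `B`. -/
theorem abop_part_one (A B : Subgroup G) (hAB : A ≤ Subgroup.normalizer (B : Set G))
    (hc : ⁅⁅B, B⁆, A⁆ = ⊥) :
    ⁅B, A⁆ ≤ B ∧ ⁅⁅B, B⁆, ⁅B, A⁆⁆ = ⊥ ∧ ⁅⁅B, A⁆, ⁅B, A⁆⁆ ≤ B ⊓ Subgroup.centralizer (B : Set G) := by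
  have hN : ⁅B, A⁆ ≤ B := by
    rw [Subgroup.commutator_le]
    intro x hx a ha
    have h1 : a * x⁻¹ * a⁻¹ ∈ B := (Subgroup.mem_normalizer_iff.mp (hAB ha) x⁻¹).mp (B.inv_mem hx)
    have h2 : ⁅x, a⁆ = x * (a * x⁻¹ * a⁻¹) := by rw [commutatorElement_def]; group
    rw [h2]; exact B.mul_mem hx h1
  have hF1 : ⁅B, B⁆ ≤ Subgroup.centralizer (A : Set G) :=
    Subgroup.commutator_eq_bot_iff_le_centralizer.mp hc
  have hBB : ⁅B, B⁆ ≤ B := by
    rw [Subgroup.commutator_le]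
    intro x hx y hy
    rw [commutatorElement_def]
    exact B.mul_mem (B.mul_mem (B.mul_mem hx hy) (B.inv_mem hx)) (B.inv_mem hy)
  have hF2 : ⁅⁅B, B⁆, ⁅B, A⁆⁆ = ⊥ := by
    rw [Subgroup.commutator_comm, Subgroup.commutator_eq_bot_iff_le_centralizer,
      Subgroup.commutator_le]
    intro x hx a ha
    rw [Subgroup.mem_centralizer_iff]
    intro c hc'
    -- c commutes with a⁻¹ and with x a x⁻¹
    have h1 : a * c = c * a := (Subgroup.mem_centralizer_iff.mp (hF1 hc') a ha)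
    have hc'' : x⁻¹ * c * x ∈ ⁅B, B⁆ := by
      have h3 : ⁅x⁻¹, c⁆ ∈ ⁅B, B⁆ :=
        Subgroup.commutator_mem_commutator (B.inv_mem hx) (hBB hc')
      have h4 : x⁻¹ * c * x = ⁅x⁻¹, c⁆ * c := by rw [commutatorElement_def]; group
      rw [h4]; exact Subgroup.mul_mem _ h3 hc'
    have h2 : a * (x⁻¹ * c * x) = (x⁻¹ * c * x) * a :=
      (Subgroup.mem_centralizer_iff.mp (hF1 hc'') a ha)
    have h5 : (x * a * x⁻¹) * c = c * (x * a * x⁻¹) := by
      have : x * (a * (x⁻¹ * c * x)) * x⁻¹ = x * ((x⁻¹ * c * x) * a) * x⁻¹ := by rw [h2]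
      calc (x * a * x⁻¹) * c = x * (a * (x⁻¹ * c * x)) * x⁻¹ := by group
        _ = x * ((x⁻¹ * c * x) * a) * x⁻¹ := this
        _ = c * (x * a * x⁻¹) := by group
    have h6 : a⁻¹ * c = c * a⁻¹ := by
      calc a⁻¹ * c = a⁻¹ * (c * a) * a⁻¹ := by group
        _ = a⁻¹ * (a * c) * a⁻¹ := by rw [h1]
        _ = c * a⁻¹ := by group
    rw [commutatorElement_def]
    calc c * (x * a * x⁻¹ * a⁻¹) = (c * (x * a * x⁻¹)) * a⁻¹ := by group
      _ = ((x * a * x⁻¹) * c) * a⁻¹ := by rw [h5]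
      _ = (x * a * x⁻¹) * (c * a⁻¹) := by group
      _ = (x * a * x⁻¹) * (a⁻¹ * c) := by rw [h6]
      _ = x * a * x⁻¹ * a⁻¹ * c := by group
  refine ⟨hN, hF2, ?_⟩
  apply le_inf
  · exact (Subgroup.commutator_mono hN hN).trans hBB
  · rw [← Subgroup.commutator_eq_bot_iff_le_centralizer]
    apply Subgroup.commutator_commutator_eq_bot_of_rotate
    · rw [eq_bot_iff, ← hF2]
      exact Subgroup.commutator_mono (Subgroup.commutator_mono hN le_rfl) le_rfl
    · rw [eq_bot_iff, ← hF2]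
      exact Subgroup.commutator_mono (Subgroup.commutator_mono le_rfl hN) le_rfl

/-- squares vanish on the closure of a commuting family of involutions -/
theorem sq_eq_one_of_mem_closure (K : Subgroup G) (hK : ∀ a ∈ K, ∀ b ∈ K, a * b = b * a)
    (S : Set G) (hSK : S ⊆ K) (hS : ∀ s ∈ S, s ^ 2 = 1) :
    ∀ w ∈ Subgroup.closure S, w ^ 2 = 1 := by
  intro w hw
  have hcl : Subgroup.closure S ≤ K := (Subgroup.closure_le K).mpr hSK
  induction hw using Subgroup.closure_induction with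
  | mem x hx => exact hS x hx
  | one => exact one_pow 2
  | mul x y hx hy ihx ihy =>
    have hc : Commute x y := hK x (hcl hx) y (hcl hy)
    rw [hc.mul_pow, ihx, ihy, one_mul]
  | inv x hx ihx => rw [inv_pow, ihx, inv_one]

theorem abop_part_two (A B : Subgroup G) (hAB : A ≤ Subgroup.normalizer (B : Set G))
    (hc : ⁅⁅B, B⁆, A⁆ = ⊥) (hA : IsMulCommutative A) (b : G) (hb : b ∈ B)
    (hq : ⁅⁅Subgroup.closure {g : G | ∃ a ∈ A, g = b⁻¹ * a * b * a⁻¹}, A⁆, A⁆ = ⊥) :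
    ∀ w ∈ ⁅Subgroup.closure {g : G | ∃ a ∈ A, g = b⁻¹ * a * b * a⁻¹},
      Subgroup.closure {g : G | ∃ a ∈ A, g = b⁻¹ * a * b * a⁻¹}⁆, w ^ 2 = 1 := by
  obtain ⟨hN, hF2, hF3⟩ := abop_part_one A B hAB hc
  set N := ⁅B, A⁆ with hNdef
  set t : G → G := fun a => b⁻¹ * a * b * a⁻¹ with ht
  have ht_def : ∀ a, t a = b⁻¹ * a * b * a⁻¹ := fun a => rfl
  set D := Subgroup.closure {g : G | ∃ a ∈ A, g = b⁻¹ * a * b * a⁻¹} with hD
  have htD : ∀ a ∈ A, t a ∈ D := fun a ha => Subgroup.subset_closure ⟨a, ha, rfl⟩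
  have htN : ∀ a ∈ A, t a ∈ N := by
    intro a ha
    have h1 : t a = ⁅b⁻¹, a⁆ := by rw [ht_def, commutatorElement_def, inv_inv]
    rw [h1]
    exact Subgroup.commutator_mem_commutator (B.inv_mem hb) ha
  have hDN : D ≤ N := by
    rw [hD, Subgroup.closure_le]
    rintro g ⟨a, ha, rfl⟩
    exact htN a ha
  have hDB : D ≤ B := hDN.trans hN
  have hBB : ∀ x ∈ B, ∀ y ∈ B, ⁅x, y⁆ ∈ ⁅B, B⁆ := fun x hx y hy =>
    Subgroup.commutator_mem_commutator hx hy
  -- elements of D' are central in B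
  have hZ : ∀ z ∈ ⁅D, D⁆, ∀ y ∈ B, y * z = z * y := by
    intro z hz y hy
    have h1 : z ∈ Subgroup.centralizer (B : Set G) :=
      (hF3 (Subgroup.commutator_mono hDN hDN hz)).2
    exact Subgroup.mem_centralizer_iff.mp h1 y hy
  have hF1 : ∀ c ∈ ⁅B, B⁆, ∀ a ∈ A, a * c = c * a := by
    intro c hc' a ha
    have := Subgroup.commutator_eq_bot_iff_le_centralizer.mp hc hc'
    exact Subgroup.mem_centralizer_iff.mp this a ha
  have hF2' : ∀ c ∈ ⁅B, B⁆, ∀ n ∈ N, n * c = c * n := by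
    intro c hc' n hn
    have := Subgroup.commutator_eq_bot_iff_le_centralizer.mp hF2 hc'
    exact Subgroup.mem_centralizer_iff.mp this n hn
  have hconj : ∀ e a : G, e * t a * e⁻¹ = (t e)⁻¹ * t (e * a) := by
    intro e a
    simp only [ht_def]; group
  have hAD : ∀ e ∈ A, ∀ y ∈ D, e * y * e⁻¹ ∈ D := by
    intro e he y hy
    rw [hD] at hy
    induction hy using Subgroup.closure_induction with
    | mem x hx =>
      obtain ⟨a, ha, rfl⟩ := hx
      have := hconj e a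
      rw [ht_def a] at this
      rw [this]
      exact D.mul_mem (D.inv_mem (htD e he)) (htD _ (A.mul_mem he ha))
    | one => rw [mul_one, mul_inv_cancel]; exact D.one_mem
    | mul x y _ _ ihx ihy =>
      have : e * (x * y) * e⁻¹ = (e * x * e⁻¹) * (e * y * e⁻¹) := by group
      rw [this]; exact D.mul_mem ihx ihy
    | inv x _ ihx =>
      have : e * x⁻¹ * e⁻¹ = (e * x * e⁻¹)⁻¹ := by group
      rw [this]; exact D.inv_mem ihx
  have hDA_le : ⁅D, A⁆ ≤ D := by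
    rw [Subgroup.commutator_le]
    intro y hy e he
    have h1 : ⁅y, e⁆ = y * (e * y⁻¹ * e⁻¹) := by rw [commutatorElement_def]; group
    rw [h1]
    exact D.mul_mem hy (hAD e he _ (D.inv_mem hy))
  have hfix : ∀ y ∈ ⁅D, A⁆, ∀ e ∈ A, e * y * e⁻¹ = y := by
    intro y hy e he
    have h1 := Subgroup.commutator_eq_bot_iff_le_centralizer.mp hq hy
    have h2 := Subgroup.mem_centralizer_iff.mp h1 e he
    rw [h2]; group
  have hbconj : ∀ e : G, e * b * e⁻¹ = b * t e := by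
    intro e; simp only [ht_def]; group
  have hLcomm : ∀ u ∈ D, ∀ y ∈ D, ⁅b * u, y⁆ = ⁅u, y⁆ * ⁅b, y⁆ := by
    intro u hu y hy
    have h1 : ⁅b * u, y⁆ = b * ⁅u, y⁆ * b⁻¹ * ⁅b, y⁆ := by
      simp only [commutatorElement_def]; group
    have h2 : b * ⁅u, y⁆ = ⁅u, y⁆ * b :=
      hZ _ (Subgroup.commutator_mem_commutator hu hy) b hb
    rw [h1, h2]; group
  -- (P3)
  have hP3 : ∀ y ∈ ⁅D, A⁆, ∀ e ∈ A, t e * y = y * t e := by
    intro y hy e he
    have hyD : y ∈ D := hDA_le hy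
    have h1 : e * ⁅b, y⁆ * e⁻¹ = ⁅b, y⁆ := by
      have := hF1 _ (hBB b hb y (hDB hyD)) e he
      rw [this]; group
    have h2 : e * ⁅b, y⁆ * e⁻¹ = ⁅e * b * e⁻¹, e * y * e⁻¹⁆ := by
      simp only [commutatorElement_def]; group
    rw [h2, hbconj, hfix y hy e he, hLcomm _ (htD e he) y hyD] at h1
    have h3 : ⁅t e, y⁆ = 1 := mul_eq_right.mp h1
    exact (commutatorElement_eq_one_iff_mul_comm.mp h3)
  have hcentD : ∀ y ∈ ⁅D, A⁆, ∀ x ∈ D, x * y = y * x := by
    intro y hy x hx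
    have hle : D ≤ Subgroup.centralizer ({y} : Set G) := by
      rw [hD, Subgroup.closure_le]
      rintro g ⟨a, ha, rfl⟩
      rw [SetLike.mem_coe, Subgroup.mem_centralizer_iff]
      intro h hh
      rw [Set.mem_singleton_iff] at hh
      rw [hh]
      exact (hP3 y hy a ha).symm
    have := Subgroup.mem_centralizer_iff.mp (hle hx) y (Set.mem_singleton y)
    exact this.symm
  -- w c a
  set w : G → G → G := fun c a => c * t a * c⁻¹ * (t a)⁻¹ with hw
  have hw_def : ∀ c a, w c a = c * t a * c⁻¹ * (t a)⁻¹ := fun c a => rfl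
  have hwDA : ∀ c ∈ A, ∀ a ∈ A, w c a ∈ ⁅D, A⁆ := by
    intro c hc' a ha
    have h1 : w c a = (⁅t a, c⁆)⁻¹ := by
      rw [hw_def, commutatorElement_def]; group
    rw [h1]
    exact Subgroup.inv_mem _ (Subgroup.commutator_mem_commutator (htD a ha) hc')
  have ht_mul : ∀ c a : G, t (c * a) = t c * w c a * t a := by
    intro c a
    simp only [hw_def, ht_def]; group
  -- (E2)
  have hE2 : ∀ a ∈ A, ∀ c ∈ A, w a c = ⁅t c, t a⁆ * w c a := by
    intro a ha c hc'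
    have hcomm : c * a = a * c := by
      have := hA.is_comm.comm (⟨c, hc'⟩ : A) ⟨a, ha⟩
      exact congrArg Subtype.val this
    have h1 : t c * w c a * t a = t a * w a c * t c := by
      rw [← ht_mul, ← ht_mul, hcomm]
    have hwca := hwDA c hc' a ha
    have hwac := hwDA a ha c hc'
    have h2 : t c * w c a = w c a * t c := hcentD _ hwca _ (htD c hc')
    have h3 : t a * w a c = w a c * t a := hcentD _ hwac _ (htD a ha)
    have hz : ⁅t c, t a⁆ ∈ ⁅D, D⁆ :=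
      Subgroup.commutator_mem_commutator (htD c hc') (htD a ha)
    have h4 : w c a * (t c * t a) = w a c * (t a * t c) := by
      calc w c a * (t c * t a) = (w c a * t c) * t a := by group
        _ = t c * w c a * t a := by rw [h2]
        _ = t a * w a c * t c := h1
        _ = (w a c * t a) * t c := by rw [h3]
        _ = w a c * (t a * t c) := by group
    have h5 : t c * t a = ⁅t c, t a⁆ * (t a * t c) := by
      rw [commutatorElement_def]; group
    have h6 : w c a * ⁅t c, t a⁆ = ⁅t c, t a⁆ * w c a :=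
      hZ _ hz _ (hDB (hDA_le hwca))
    have h7 : (⁅t c, t a⁆ * w c a) * (t a * t c) = w a c * (t a * t c) := by
      rw [← h4, h5, ← h6]; group
    exact (mul_right_cancel h7).symm
  -- (E1)
  have hE1 : ∀ a ∈ A, ∀ c ∈ A, ⁅b, w c a⁆ = (⁅t c, t a⁆)⁻¹ := by
    intro a ha c hc'
    obtain ⟨y, hy⟩ : ∃ y, y = t a := ⟨_, rfl⟩
    have hyD : y ∈ D := hy ▸ htD a ha
    have hwca := hwDA c hc' a ha
    have hwD : w c a ∈ D := hDA_le hwca
    have hy' : c * y * c⁻¹ = w c a * y := by rw [hw_def, hy]; group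
    have hy'D : w c a * y ∈ D := D.mul_mem hwD hyD
    have h1 : c * ⁅b, y⁆ * c⁻¹ = ⁅b, y⁆ := by
      have := hF1 _ (hBB b hb y (hDB hyD)) c hc'
      rw [this]; group
    have h2 : c * ⁅b, y⁆ * c⁻¹ = ⁅c * b * c⁻¹, c * y * c⁻¹⁆ := by
      simp only [commutatorElement_def]; group
    rw [h2, hbconj, hy', hLcomm _ (htD c hc') _ hy'D] at h1
    -- expand the two commutators
    have h3 : ⁅b, w c a * y⁆ = ⁅b, w c a⁆ * ⁅b, y⁆ := by
      have e1 : ⁅b, w c a * y⁆ = ⁅b, w c a⁆ * (w c a * ⁅b, y⁆ * (w c a)⁻¹) := by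
        simp only [commutatorElement_def]; group
      have e2 : w c a * ⁅b, y⁆ = ⁅b, y⁆ * w c a :=
        hF2' _ (hBB b hb y (hDB hyD)) _ (hDN hwD)
      rw [e1, e2]; group
    have h4 : ⁅t c, w c a * y⁆ = ⁅t c, y⁆ := by
      have e1 : ⁅t c, w c a * y⁆ = ⁅t c, w c a⁆ * (w c a * ⁅t c, y⁆ * (w c a)⁻¹) := by
        simp only [commutatorElement_def]; group
      have e2 : ⁅t c, w c a⁆ = 1 := by
        rw [commutatorElement_eq_one_iff_mul_comm]
        exact hcentD _ hwca _ (htD c hc')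
      have e3 : ⁅t c, y⁆ ∈ D := by
        rw [commutatorElement_def]
        exact D.mul_mem (D.mul_mem (D.mul_mem (htD c hc') hyD) (D.inv_mem (htD c hc')))
          (D.inv_mem hyD)
      have e4 : ⁅t c, y⁆ * w c a = w c a * ⁅t c, y⁆ := hcentD _ hwca _ e3
      rw [e1, e2, one_mul, ← e4]; group
    rw [h3, h4] at h1
    have h5 : ⁅t c, y⁆ * ⁅b, w c a⁆ = 1 := by
      have : (⁅t c, y⁆ * ⁅b, w c a⁆) * ⁅b, y⁆ = ⁅b, y⁆ := by rw [mul_assoc]; exact h1
      exact mul_eq_right.mp this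
    rw [← hy]
    exact (eq_inv_of_mul_eq_one_right h5)
  -- (P6)
  have hP6 : ∀ a ∈ A, ∀ c ∈ A, ⁅t c, t a⁆ ^ 2 = 1 := by
    intro a ha c hc'
    set z := ⁅t c, t a⁆ with hz
    have hzD : z ∈ ⁅D, D⁆ := Subgroup.commutator_mem_commutator (htD c hc') (htD a ha)
    have h1 : ⁅b, w c a⁆ = z⁻¹ := hE1 a ha c hc'
    have h2 : ⁅b, w a c⁆ = z := by
      rw [hE1 c hc' a ha, hz, commutatorElement_inv]
    have h3 : w a c = z * w c a := hE2 a ha c hc'
    have hwB : w c a ∈ B := hDB (hDA_le (hwDA c hc' a ha))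
    have h4 : ⁅b, z * w c a⁆ = ⁅b, w c a⁆ := by
      have e1 : ⁅b, z * w c a⁆ = ⁅b, z⁆ * (z * ⁅b, w c a⁆ * z⁻¹) := by
        simp only [commutatorElement_def]; group
      have e2 : ⁅b, z⁆ = 1 := by
        rw [commutatorElement_eq_one_iff_mul_comm]
        exact hZ z hzD b hb
      have e3 : ⁅b, w c a⁆ ∈ B := by
        rw [commutatorElement_def]
        exact B.mul_mem (B.mul_mem (B.mul_mem hb hwB) (B.inv_mem hb)) (B.inv_mem hwB)
      have e4 : ⁅b, w c a⁆ * z = z * ⁅b, w c a⁆ := hZ z hzD _ e3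
      rw [e1, e2, one_mul, ← e4]; group
    rw [h3, h4, h1] at h2
    rw [sq]
    calc z * z = z⁻¹ * z := by rw [h2]
      _ = 1 := inv_mul_cancel z
  -- (P7)
  have hcomm_central : ∀ x ∈ D, ∀ y ∈ D, ∀ g ∈ B, g * ⁅x, y⁆ = ⁅x, y⁆ * g := fun x hx y hy g hg =>
    hZ _ (Subgroup.commutator_mem_commutator hx hy) g hg
  have hStepA : ∀ c ∈ A, ∀ x ∈ D, ⁅x, t c⁆ ^ 2 = 1 := by
    intro c hc' x hx
    have htc := htD c hc'
    rw [hD] at hx
    induction hx using Subgroup.closure_induction with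
    | mem x hx =>
      obtain ⟨a, ha, rfl⟩ := hx
      exact hP6 c hc' a ha
    | one => rw [commutatorElement_one_left, one_pow]
    | mul x y hx hy ihx ihy =>
      have hx' : x ∈ D := hx
      have hy' : y ∈ D := hy
      have e1 : ⁅x * y, t c⁆ = x * ⁅y, t c⁆ * x⁻¹ * ⁅x, t c⁆ := by
        simp only [commutatorElement_def]; group
      have e2 : x * ⁅y, t c⁆ = ⁅y, t c⁆ * x := hcomm_central y hy' _ htc x (hDB hx')
      have e3 : ⁅x * y, t c⁆ = ⁅y, t c⁆ * ⁅x, t c⁆ := by rw [e1, e2]; group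
      have e4 : Commute ⁅y, t c⁆ ⁅x, t c⁆ := by
        have hmem : ⁅x, t c⁆ ∈ B := hDB (by
          rw [commutatorElement_def]
          exact D.mul_mem (D.mul_mem (D.mul_mem hx' htc) (D.inv_mem hx')) (D.inv_mem htc))
        exact (hcomm_central y hy' _ htc _ hmem).symm
      rw [e3, e4.mul_pow, ihx, ihy, one_mul]
    | inv x hx ihx =>
      have hx' : x ∈ D := hx
      have e1 : ⁅x⁻¹, t c⁆ = x⁻¹ * (⁅x, t c⁆)⁻¹ * x := by
        simp only [commutatorElement_def]; group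
      have e2 : x⁻¹ * (⁅x, t c⁆)⁻¹ = (⁅x, t c⁆)⁻¹ * x⁻¹ := by
        have := hcomm_central x hx' _ htc x (hDB hx')
        have h' : (⁅x, t c⁆)⁻¹ * x⁻¹ = (x * ⁅x, t c⁆)⁻¹ := by group
        rw [h', this]; group
      rw [e1, e2]
      have : (⁅x, t c⁆)⁻¹ * x⁻¹ * x = (⁅x, t c⁆)⁻¹ := by group
      rw [this, inv_pow, ihx, inv_one]
  have hStepB : ∀ x ∈ D, ∀ y ∈ D, ⁅x, y⁆ ^ 2 = 1 := by
    intro x hx y hy
    rw [hD] at hy
    induction hy using Subgroup.closure_induction with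
    | mem y hy =>
      obtain ⟨a, ha, rfl⟩ := hy
      exact hStepA a ha x hx
    | one => rw [commutatorElement_one_right, one_pow]
    | mul y y' hy hy' ihy ihy' =>
      have hyD : y ∈ D := hy
      have hy'D : y' ∈ D := hy'
      have e1 : ⁅x, y * y'⁆ = ⁅x, y⁆ * (y * ⁅x, y'⁆ * y⁻¹) := by
        simp only [commutatorElement_def]; group
      have e2 : y * ⁅x, y'⁆ = ⁅x, y'⁆ * y := hcomm_central x hx y' hy'D y (hDB hyD)
      have e3 : ⁅x, y * y'⁆ = ⁅x, y⁆ * ⁅x, y'⁆ := by rw [e1, e2]; group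
      have e4 : Commute ⁅x, y⁆ ⁅x, y'⁆ := by
        have hmem : ⁅x, y⁆ ∈ B := hDB (by
          rw [commutatorElement_def]
          exact D.mul_mem (D.mul_mem (D.mul_mem hx hyD) (D.inv_mem hx)) (D.inv_mem hyD))
        exact hcomm_central x hx y' hy'D _ hmem
      rw [e3, e4.mul_pow, ihy, ihy', one_mul]
    | inv y hy ihy =>
      have hyD : y ∈ D := hy
      have e1 : ⁅x, y⁻¹⁆ = y⁻¹ * (⁅x, y⁆)⁻¹ * y := by
        simp only [commutatorElement_def]; group
      have e2 : y⁻¹ * (⁅x, y⁆)⁻¹ = (⁅x, y⁆)⁻¹ * y⁻¹ := by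
        have := hcomm_central x hx y hyD y (hDB hyD)
        have h' : (⁅x, y⁆)⁻¹ * y⁻¹ = (y * ⁅x, y⁆)⁻¹ := by group
        rw [h', this]; group
      rw [e1, e2]
      have : (⁅x, y⁆)⁻¹ * y⁻¹ * y = (⁅x, y⁆)⁻¹ := by group
      rw [this, inv_pow, ihy, inv_one]
  -- Step C
  have hDDB : ⁅D, D⁆ ≤ B := by
    rw [Subgroup.commutator_le]
    intro x hx y hy
    rw [commutatorElement_def]
    exact B.mul_mem (B.mul_mem (B.mul_mem (hDB hx) (hDB hy)) (B.inv_mem (hDB hx)))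
      (B.inv_mem (hDB hy))
  rw [Subgroup.commutator_def]
  apply sq_eq_one_of_mem_closure ⁅D, D⁆
  · intro a ha b' hb'
    exact (hZ b' hb' a (hDDB ha))
  · rintro g ⟨x, hx, y, hy, rfl⟩
    exact Subgroup.commutator_mem_commutator hx hy
  · rintro g ⟨x, hx, y, hy, rfl⟩
    exact hStepB x hx y hy

end

end Cfsg.Agent.Lib.Lead
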