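import Mathlib
import Cfsg.Agent.Lib.Lead.PComplement
import Cfsg.Agent.Lib.Lead.FrobNPC3
import Cfsg.Agent.Lib.Lead.CoprimeFrattini
import Cfsg.Agent.Lib.Lead.BurnsideBasis
import Cfsg.Agent.Lib.Lead.OmegaAut
import Cfsg.Agent.Lib.Helper4.OmegaGen

set_option autoImplicit false
open Pointwise
open scoped commutatorElement

namespace Cfsg.Agent.Lib.Lead

universe u

section TypeLevel
variable {H : Type u} [Group H] [Finite H] {p : ℕ} [hp : Fact p.Prime]

/-- the `p`-th power endomorphism of an abelian group -/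
def powHomOfComm (hc : IsMulCommutative H) (p : ℕ) : H →* H where
  toFun x := x ^ p
  map_one' := one_pow p
  map_mul' a b := (show Commute a b from hc.is_comm.comm a b).mul_pow p

/-- `|Ω₁(H)| ≤ p ^ rank H` for an abelian `p`-group -/
theorem card_ker_powHom_le (hH : IsPGroup p H) (hc : IsMulCommutative H) :
    Nat.card (powHomOfComm hc p).ker ≤ p ^ Group.rank H := by
  classical
  obtain ⟨S, hS, hSgen⟩ := Group.rank_spec H
  set φ := powHomOfComm hc p with hφ
  have h1 := card_closure_sup_frattini_le hH S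
  rw [hSgen, top_sup_eq, Subgroup.card_top, hS] at h1
  have h2 : frattini H ≤ φ.range := by
    apply frattini_le_of_elementary_quotient (p := p)
    · rw [commutator_def, Subgroup.commutator_le]
      intro a _ b _
      have : ⁅a, b⁆ = 1 := by
        rw [commutatorElement_eq_one_iff_commute]
        exact hc.is_comm.comm a b
      rw [this]; exact Subgroup.one_mem _
    · intro x
      exact ⟨x, rfl⟩
  have h3 : Nat.card (frattini H) ≤ Nat.card φ.range := Subgroup.card_le_of_le h2
  have h4 : Nat.card H = Nat.card φ.ker * Nat.card φ.range := by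
    rw [← Subgroup.card_mul_index φ.ker, Subgroup.index_ker]
  have h5 : 0 < Nat.card φ.range := Nat.card_pos
  by_contra hlt
  push Not at hlt
  have h6 : p ^ Group.rank H * Nat.card φ.range < Nat.card φ.ker * Nat.card φ.range :=
    Nat.mul_lt_mul_of_pos_right hlt h5
  have h7 : p ^ Group.rank H * Nat.card (frattini H) ≤ p ^ Group.rank H * Nat.card φ.range :=
    Nat.mul_le_mul_left _ h3
  omega

end TypeLevel

section
variable {G : Type u} [Group G] [Finite G] {p : ℕ} [hp : Fact p.Prime]

/-- `Ω₁` of an abelian subgroup -/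
def omegaSub (P : Subgroup G) (hc : IsMulCommutative P) (p : ℕ) : Subgroup G where
  carrier := {x | x ∈ P ∧ x ^ p = 1}
  one_mem' := ⟨P.one_mem, one_pow p⟩
  mul_mem' := by
    rintro a b ⟨ha, ha'⟩ ⟨hb, hb'⟩
    refine ⟨P.mul_mem ha hb, ?_⟩
    have hcomm : Commute a b := by
      have := hc.is_comm.comm (⟨a, ha⟩ : P) ⟨b, hb⟩
      exact congrArg Subtype.val this
    rw [hcomm.mul_pow, ha', hb', one_mul]
  inv_mem' := by
    rintro a ⟨ha, ha'⟩
    exact ⟨P.inv_mem ha, by rw [inv_pow, ha', inv_one]⟩

theorem mem_omegaSub (P : Subgroup G) (hc : IsMulCommutative P) (x : G) :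
    x ∈ omegaSub P hc p ↔ x ∈ P ∧ x ^ p = 1 := Iff.rfl

theorem omegaSub_le (P : Subgroup G) (hc : IsMulCommutative P) : omegaSub P hc p ≤ P :=
  fun _ hx => hx.1

theorem card_omegaSub_le (P : Subgroup G) (hPp : IsPGroup p P) (hc : IsMulCommutative P) :
    Nat.card (omegaSub P hc p) ≤ p ^ Group.rank P := by
  have h1 : omegaSub P hc p = (powHomOfComm (H := P) hc p).ker.map P.subtype := by
    ext x
    rw [mem_omegaSub, Subgroup.mem_map]
    constructor
    · rintro ⟨hx, hx'⟩
      refine ⟨⟨x, hx⟩, ?_, rfl⟩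
      rw [MonoidHom.mem_ker]
      apply Subtype.ext
      exact hx'
    · rintro ⟨y, hy, rfl⟩
      refine ⟨y.2, ?_⟩
      rw [MonoidHom.mem_ker] at hy
      exact congrArg Subtype.val hy
  rw [h1, Subgroup.card_map_of_injective P.subtype_injective]
  exact card_ker_powHom_le hPp hc

theorem exists_dvd_of_not_centralize (P : Subgroup G) (hPp : IsPGroup p P)
    (hc : IsMulCommutative P) (v : G) (hv : v ∈ Subgroup.normalizer (P : Set G)) (r : ℕ)
    (hr : r.Prime) (hrv : r ∣ orderOf v) (hvr : v ^ r ∈ Subgroup.centralizer (P : Set G))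
    (hvc : v ∉ Subgroup.centralizer (P : Set G)) (hcop : (orderOf v).Coprime p) :
    ∃ i, 1 ≤ i ∧ i ≤ Group.rank P ∧ r ∣ p ^ i - 1 := by
  classical
  haveI : Fact r.Prime := ⟨hr⟩
  set E := omegaSub P hc p with hE
  have hEP : E ≤ P := omegaSub_le P hc
  have hEp : IsPGroup p E := hPp.to_le hEP
  have hconj : ∀ w : G, w ∈ Subgroup.normalizer (P : Set G) → ∀ x ∈ E, w * x * w⁻¹ ∈ E := by
    intro w hw x hx
    refine ⟨(Subgroup.mem_normalizer_iff.mp hw x).mp hx.1, ?_⟩
    rw [conj_pow, hx.2, mul_one, mul_inv_cancel]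
  have hvE : v ∈ Subgroup.normalizer (E : Set G) := by
    rw [Subgroup.mem_normalizer_iff]
    intro x
    constructor
    · exact hconj v hv x
    · intro hx
      have h1 := hconj v⁻¹ (Subgroup.inv_mem _ hv) _ hx
      have h2 : v⁻¹ * (v * x * v⁻¹) * v⁻¹⁻¹ = x := by group
      rw [h2] at h1
      exact h1
  have hcommP : ∀ a ∈ P, ∀ b ∈ P, a * b = b * a := by
    intro a ha b hb
    have := hc.is_comm.comm (⟨a, ha⟩ : P) ⟨b, hb⟩
    exact congrArg Subtype.val this
  -- (a) v does not centralise E
  have hvE' : v ∉ Subgroup.centralizer (E : Set G) := by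
    intro hcen
    apply hvc
    have hfixE : ∀ x ∈ E, v * x * v⁻¹ = x := by
      intro x hx
      have := Subgroup.mem_centralizer_iff.mp hcen x hx
      rw [← this]; group
    have hle : Subgroup.zpowers v ≤ Subgroup.centralizer (P : Set G) := by
      apply Cfsg.Agent.Lib.Helper4.coprime_centralizes_of_omega_gen (p := p)
      · rw [Nat.card_zpowers]; exact hcop
      · exact hPp
      · exact Subgroup.zpowers_le.mpr hv
      · intro x hx hx' a ha
        have hvx : v * x * v⁻¹ = x := by
          rcases hx' with hx' | ⟨hp2, hx4⟩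
          · exact hfixE x ⟨hx, hx'⟩
          · subst hp2
            set c : G := x⁻¹ * (v * x * v⁻¹) with hcdef
            have hvxP : v * x * v⁻¹ ∈ P := (Subgroup.mem_normalizer_iff.mp hv x).mp hx
            have hcP : c ∈ P := P.mul_mem (P.inv_mem hx) hvxP
            have hx2E : x ^ 2 ∈ E := ⟨P.pow_mem hx 2, by rw [← pow_mul]; exact hx4⟩
            have h1 : (v * x * v⁻¹) ^ 2 = x ^ 2 := by
              rw [conj_pow]; exact hfixE _ hx2E
            have hvxc : v * x * v⁻¹ = x * c := by rw [hcdef]; group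
            have hc2 : c ^ 2 = 1 := by
              rw [hvxc] at h1
              have hcomm : Commute x c := hcommP x hx c hcP
              rw [hcomm.mul_pow] at h1
              exact mul_left_cancel (a := x ^ 2) (by rw [h1, mul_one])
            have hcE : c ∈ E := ⟨hcP, hc2⟩
            have hcfix := hfixE c hcE
            have hc1 : c = 1 := by
              apply eq_one_of_aut_pow (p := 2) (MulAut.conj v) (orderOf v) _ hcop x c
              · rw [MulAut.conj_apply]; exact hvxc
              · rw [MulAut.conj_apply]; exact hcfix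
              · exact ⟨1, by rw [pow_one]; exact hc2⟩
              · rw [← map_pow, pow_orderOf_eq_one, map_one]
            rw [hvxc, hc1, mul_one]
        have hvcen : v ∈ Subgroup.centralizer ({x} : Set G) := by
          rw [Subgroup.mem_centralizer_iff]
          intro y hy
          rw [Set.mem_singleton_iff] at hy
          rw [hy]
          calc x * v = (v * x * v⁻¹) * v := by rw [hvx]
            _ = v * x := by group
        have := (Subgroup.zpowers_le.mpr hvcen) ha
        exact (Subgroup.mem_centralizer_iff.mp this x (Set.mem_singleton x)).symm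
    exact hle (Subgroup.mem_zpowers v)
  -- (b) counting
  set σ : MulAut E := conjEquiv E v hvE with hσ
  have hpow : ∀ j : ℕ, ∀ x : E, (((σ ^ j) x : E) : G) = v ^ j * x * (v ^ j)⁻¹ := by
    intro j
    induction j with
    | zero => intro x; simp
    | succ j ih =>
      intro x
      rw [pow_succ', MulAut.mul_apply]
      have : ((σ ((σ ^ j) x) : E) : G) = v * (((σ ^ j) x : E) : G) * v⁻¹ := rfl
      rw [this, ih, pow_succ']; group
  have hσr : σ ^ r = 1 := by
    ext x
    rw [hpow, MulAut.one_apply]
    have := Subgroup.mem_centralizer_iff.mp hvr (x : G) (hEP x.2)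
    rw [← this]; group
  set Γ : Subgroup (MulAut E) := Subgroup.zpowers σ with hΓ
  have hΓp : IsPGroup r Γ := by
    have h1 : orderOf σ ∣ r := orderOf_dvd_of_pow_eq_one hσr
    rcases (Nat.dvd_prime hr).mp h1 with h2 | h2
    · apply IsPGroup.of_card (n := 0)
      rw [Nat.card_zpowers, h2, pow_zero]
    · apply IsPGroup.of_card (n := 1)
      rw [Nat.card_zpowers, h2, pow_one]
  set F : Subgroup E := (σ : E →* E).eqLocus (MonoidHom.id E) with hF
  have hfixed : (MulAction.fixedPoints Γ E : Set E) = (F : Set E) := by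
    ext x
    rw [MulAction.mem_fixedPoints]
    constructor
    · intro h
      have := h ⟨σ, Subgroup.mem_zpowers σ⟩
      exact this
    · intro h γ
      obtain ⟨γ, hγ⟩ := γ
      obtain ⟨k, rfl⟩ := Subgroup.mem_zpowers_iff.mp hγ
      show (σ ^ k) x = x
      have h1 : σ x = x := h
      have h2 : σ⁻¹ x = x := by
        rw [MulAut.inv_apply]
        exact (MulEquiv.symm_apply_eq σ).mpr h1.symm
      have hnat : ∀ n : ℕ, (σ ^ n) x = x ∧ (σ⁻¹ ^ n) x = x := by
        intro n
        induction n with
        | zero => simp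
        | succ n ih =>
          rw [pow_succ, pow_succ, MulAut.mul_apply, MulAut.mul_apply, h1, h2]
          exact ih
      rcases Int.eq_nat_or_neg k with ⟨n, rfl | rfl⟩
      · rw [zpow_natCast]; exact (hnat n).1
      · rw [zpow_neg, zpow_natCast, ← inv_pow]; exact (hnat n).2
  have hmod := hΓp.card_modEq_card_fixedPoints E
  have hcardfix : Nat.card (MulAction.fixedPoints Γ E) = Nat.card F := by
    rw [hfixed]; rfl
  rw [hcardfix] at hmod
  obtain ⟨e, he⟩ := IsPGroup.iff_card.mp hEp
  have hFp : IsPGroup p F := hEp.to_subgroup F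
  obtain ⟨c, hcc⟩ := IsPGroup.iff_card.mp hFp
  have hFtop : F ≠ ⊤ := by
    intro htop
    apply hvE'
    rw [Subgroup.mem_centralizer_iff]
    intro x hx
    have h1 : (⟨x, hx⟩ : E) ∈ F := by rw [htop]; trivial
    have h2 : σ ⟨x, hx⟩ = ⟨x, hx⟩ := h1
    have h3 := congrArg Subtype.val h2
    have h4 : v * x * v⁻¹ = x := h3
    calc x * v = (v * x * v⁻¹) * v := by rw [h4]
      _ = v * x := by group
  have hlt : Nat.card F < Nat.card E := by
    have h1 := Subgroup.card_le_card_group F
    rcases lt_or_eq_of_le h1 with h | h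
    · exact h
    · exact absurd (F.eq_top_of_card_eq h) hFtop
  rw [he, hcc] at hlt hmod
  have hp1 : 1 < p := hp.out.one_lt
  have hce : c < e := (Nat.pow_lt_pow_iff_right hp1).mp hlt
  have hdvd : r ∣ p ^ e - p ^ c := (Nat.modEq_iff_dvd' hlt.le).mp hmod.symm
  have hsplit : p ^ e - p ^ c = p ^ c * (p ^ (e - c) - 1) := by
    have : e = c + (e - c) := by omega
    conv_lhs => rw [this, pow_add]
    rw [Nat.mul_sub, mul_one]
  rw [hsplit] at hdvd
  have hrp : Nat.Coprime r p := Nat.Coprime.coprime_dvd_left hrv hcop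
  have hdvd' : r ∣ p ^ (e - c) - 1 := (Nat.Coprime.pow_right c hrp).dvd_of_dvd_mul_left hdvd
  refine ⟨e - c, by omega, ?_, hdvd'⟩
  have h1 := card_omegaSub_le P hPp hc
  rw [← hE, he] at h1
  have : e ≤ Group.rank P := (Nat.pow_le_pow_iff_right hp1).mp h1
  omega

theorem hasNormalPComplement_of_abelian_rank (P : Sylow p G)
    (hab : IsMulCommutative (P : Subgroup G))
    (hcop : Nat.Coprime (Nat.card G)
      (∏ i ∈ Finset.Icc 1 (Group.rank (P : Subgroup G)), (p ^ i - 1))) :
    Cfsg.HasNormalPComplement p G := by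
  classical
  apply hasNormalPComplement_of_normalizer_le_centralizer P
  have key : ∀ n : ℕ, ∀ v : G, orderOf v = n → v ∈ Subgroup.normalizer ((P : Subgroup G) : Set G) →
      (orderOf v).Coprime p → v ∈ Subgroup.centralizer ((P : Subgroup G) : Set G) := by
    intro n
    induction n using Nat.strong_induction_on with
    | _ n ih =>
      intro v hvn hv hcopv
      by_cases h1 : orderOf v = 1
      · rw [orderOf_eq_one_iff.mp h1]; exact Subgroup.one_mem _
      set r := (orderOf v).minFac with hr
      have hrp : r.Prime := Nat.minFac_prime h1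
      have hrv : r ∣ orderOf v := Nat.minFac_dvd _
      have hord : orderOf (v ^ r) = orderOf v / r := orderOf_pow_of_dvd hrp.ne_zero hrv
      have hlt : orderOf (v ^ r) < n := by
        rw [hord, ← hvn]
        exact Nat.div_lt_self (orderOf_pos v) hrp.one_lt
      have hvr : v ^ r ∈ Subgroup.centralizer ((P : Subgroup G) : Set G) := by
        apply ih _ hlt (v ^ r) rfl (Subgroup.pow_mem _ hv r)
        apply Nat.Coprime.coprime_dvd_left _ hcopv
        rw [hord]; exact Nat.div_dvd_of_dvd hrv
      by_contra hvc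
      obtain ⟨i, hi1, hi2, hdvd⟩ :=
        exists_dvd_of_not_centralize (P : Subgroup G) P.isPGroup' hab v hv r hrp hrv hvr hvc hcopv
      have h2 : r ∣ ∏ i ∈ Finset.Icc 1 (Group.rank (P : Subgroup G)), (p ^ i - 1) :=
        hdvd.trans (Finset.dvd_prod_of_mem _ (Finset.mem_Icc.mpr ⟨hi1, hi2⟩))
      have h3 : r ∣ Nat.card G := hrv.trans (orderOf_dvd_natCard v)
      have h4 := Nat.dvd_gcd h3 h2
      rw [Nat.Coprime] at hcop
      rw [hcop, Nat.dvd_one] at h4
      exact hrp.one_lt.ne' h4
  intro g hg
  obtain ⟨u, v, hguv, hu, hv, ⟨k, huk⟩, hcopv⟩ := exists_ppart_decomp' p g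
  have hun : u ∈ Subgroup.normalizer ((P : Subgroup G) : Set G) := (Subgroup.zpowers_le.mpr hg) hu
  have hvn : v ∈ Subgroup.normalizer ((P : Subgroup G) : Set G) := (Subgroup.zpowers_le.mpr hg) hv
  have huP : u ∈ (P : Subgroup G) := by
    have hup : IsPGroup p (Subgroup.zpowers u) := by
      obtain ⟨j, -, hj⟩ := (Nat.dvd_prime_pow hp.out).mp (orderOf_dvd_of_pow_eq_one huk)
      apply IsPGroup.of_card (n := j)
      rw [Nat.card_zpowers, hj]
    have h1 := hup.inf_normalizer_sylow P
    have h2 : u ∈ Subgroup.zpowers u ⊓ Subgroup.normalizer (P : Set G) :=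
      ⟨Subgroup.mem_zpowers u, hun⟩
    rw [h1] at h2
    exact h2.2
  have huc : u ∈ Subgroup.centralizer ((P : Subgroup G) : Set G) := by
    rw [Subgroup.mem_centralizer_iff]
    intro x hx
    have := hab.is_comm.comm (⟨x, hx⟩ : (P : Subgroup G)) ⟨u, huP⟩
    exact congrArg Subtype.val this
  rw [hguv]
  exact Subgroup.mul_mem _ huc (key _ v rfl hvn hcopv)

end

end Cfsg.Agent.Lib.Lead
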