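import Mathlib
import Cfsg.Agent.Lib.Helper7.AlpF1

set_option autoImplicit false

/-! S3782 (Alperin), package GR: an abelian `p`-group (or abelian section) of exponent `p^N` with an
automorphism of order dividing `p` having at most `p^m` fixed points has order at most `p^(p*m*N)`. -/ 
set_option linter.unusedVariables false
set_option linter.unusedSectionVars false

namespace Cfsg.Agent.Lib.Lead.AlpGR

open scoped commutatorElement

/-! ### exponent `p` -/
section expp

variable {W : Type*} [CommGroup W] [Finite W] {p : ℕ} [hp : Fact p.Prime]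

/-- `δ w = α w * w⁻¹` -/
def delta (α : W ≃* W) : W →* W where
  toFun w := α w * w⁻¹
  map_one' := by simp
  map_mul' := by
    intro a b
    rw [map_mul, mul_inv]
    exact mul_mul_mul_comm _ _ _ _

theorem delta_apply (α : W ≃* W) (w : W) : delta α w = α w * w⁻¹ := rfl

theorem mem_ker_delta (α : W ≃* W) (w : W) : w ∈ (delta α).ker ↔ α w = w := by
  rw [MonoidHom.mem_ker, delta_apply, mul_inv_eq_one]

theorem card_ker_delta (α : W ≃* W) : Nat.card (delta α).ker = Nat.card {w : W // α w = w} := by
  apply Nat.card_congr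
  exact Equiv.subtypeEquivRight (fun w => mem_ker_delta α w)

/-- one step: `|H| ≤ |C(α)| · |δ(H)|` -/
theorem card_le_mul_card_map (α : W ≃* W) (H : Subgroup W) :
    Nat.card H ≤ Nat.card {w : W // α w = w} * Nat.card (H.map (delta α)) := by
  set g : H →* W := (delta α).comp H.subtype with hg
  have h1 : Nat.card H = Nat.card (H ⧸ g.ker) * Nat.card g.ker :=
    Subgroup.card_eq_card_quotient_mul_card_subgroup g.ker
  have h2 : Nat.card (H ⧸ g.ker) = Nat.card g.range :=
    Nat.card_congr (QuotientGroup.quotientKerEquivRange g).toEquiv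
  have h3 : g.range = H.map (delta α) := by
    rw [hg, MonoidHom.range_comp, Subgroup.range_subtype]
  have h4 : Nat.card g.ker ≤ Nat.card (delta α).ker := by
    apply Nat.card_le_card_of_injective
      (fun x : g.ker => (⟨(x.1 : W), by
        have := x.2
        rw [MonoidHom.mem_ker] at this ⊢
        exact this⟩ : (delta α).ker))
    intro a b hab
    apply Subtype.ext
    apply Subtype.ext
    exact congrArg (fun z : (delta α).ker => (z : W)) hab
  rw [card_ker_delta] at h4
  rw [h1, h2, h3, mul_comm]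
  exact Nat.mul_le_mul_right _ h4

/-- in a ring of `ZMod p`-linear endomorphisms, `(u - 1)^p = u^p - 1` -/
theorem sub_one_pow_prime {A : Type*} [AddCommGroup A] [Module (ZMod p) A]
    (u : Module.End (ZMod p) A) : (u - 1) ^ p = u ^ p - 1 := by
  have hpoly : ((Polynomial.X : Polynomial (ZMod p)) - 1) ^ p = Polynomial.X ^ p - 1 := by
    rw [sub_pow_char, one_pow]
  have := congrArg (Polynomial.aeval u) hpoly
  simpa using this

theorem delta_iterate_prime_aux [Module (ZMod p) (Additive W)] (α : W ≃* W) (hαp : α ^ p = 1)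
    (w : W) : (delta α)^[p] w = 1 := by
  set u : Additive W →ₗ[ZMod p] Additive W :=
    AddMonoidHom.toZModLinearMap p (MonoidHom.toAdditive (α : W →* W)) with hu
  have hupow : ∀ k : ℕ, ∀ a : Additive W,
      (u ^ k : Additive W →ₗ[ZMod p] Additive W) a =
        Additive.ofMul ((α ^ k) (Additive.toMul a)) := by
    intro k
    induction k with
    | zero => intro a; rfl
    | succ k ih =>
      intro a
      rw [pow_succ, Module.End.mul_apply, ih, pow_succ, MulAut.mul_apply]
      rfl
  have hstep : ∀ a : Additive W, (u - 1) a = Additive.ofMul (delta α (Additive.toMul a)) := by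
    intro a
    rw [LinearMap.sub_apply, Module.End.one_apply, delta_apply, sub_eq_add_neg]
    rfl
  have hdpow : ∀ k : ℕ, ∀ a : Additive W,
      ((u - 1) ^ k : Additive W →ₗ[ZMod p] Additive W) a =
        Additive.ofMul ((delta α)^[k] (Additive.toMul a)) := by
    intro k
    induction k with
    | zero => intro a; rfl
    | succ k ih =>
      intro a
      rw [pow_succ, Module.End.mul_apply, ih, Function.iterate_succ_apply, hstep]
      rfl
  have h1 : ((u - 1) ^ p : Additive W →ₗ[ZMod p] Additive W) = 0 := by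
    rw [sub_one_pow_prime]
    apply LinearMap.ext
    intro a
    rw [LinearMap.sub_apply, hupow, hαp]
    simp
  have h2 := hdpow p (Additive.ofMul w)
  rw [h1] at h2
  exact (congrArg Additive.toMul h2).symm

theorem delta_iterate_prime (α : W ≃* W) (hαp : α ^ p = 1) (hexp : ∀ w : W, w ^ p = 1) (w : W) :
    (delta α)^[p] w = 1 := by
  letI iM : Module (ZMod p) (Additive W) := AddCommGroup.zmodModule (by
    intro a
    show Additive.ofMul (Additive.toMul a ^ p) = 0
    rw [hexp]
    rfl)
  exact delta_iterate_prime_aux α hαp w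

/-- the iterated images of `δ` -/
def dimg (α : W ≃* W) : ℕ → Subgroup W
  | 0 => ⊤
  | k + 1 => (dimg α k).map (delta α)

theorem mem_dimg (α : W ≃* W) : ∀ (k : ℕ) (x : W), x ∈ dimg α k → ∃ w : W, (delta α)^[k] w = x := by
  intro k
  induction k with
  | zero => intro x _; exact ⟨x, rfl⟩
  | succ k ih =>
    rintro _ ⟨y, hy, rfl⟩
    obtain ⟨w, rfl⟩ := ih y hy
    exact ⟨w, by rw [Function.iterate_succ_apply']⟩

/-- exponent `p`: `|W| ≤ |C_W(α)|^p` -/
theorem card_le_of_exponent_prime (α : W ≃* W) (hαp : α ^ p = 1) (m : ℕ)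
    (hfix : Nat.card {w : W // α w = w} ≤ p ^ m) (hexp : ∀ w : W, w ^ p = 1) :
    Nat.card W ≤ p ^ (p * m) := by
  -- iterate `card_le_mul_card_map`
  have key : ∀ k : ℕ, Nat.card W ≤ p ^ (m * k) * Nat.card (dimg α k) := by
    intro k
    induction k with
    | zero =>
      rw [mul_zero, pow_zero, one_mul]
      show Nat.card W ≤ Nat.card (⊤ : Subgroup W)
      rw [Subgroup.card_top]
    | succ k ih =>
      refine le_trans ih ?_
      have h1 := card_le_mul_card_map α (dimg α k)
      calc p ^ (m * k) * Nat.card (dimg α k)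
          ≤ p ^ (m * k) * (Nat.card {w : W // α w = w} * Nat.card (dimg α (k + 1))) :=
            Nat.mul_le_mul_left _ h1
        _ ≤ p ^ (m * k) * (p ^ m * Nat.card (dimg α (k + 1))) :=
            Nat.mul_le_mul_left _ (Nat.mul_le_mul_right _ hfix)
        _ = p ^ (m * (k + 1)) * Nat.card (dimg α (k + 1)) := by
            rw [← mul_assoc, ← pow_add, mul_add, mul_one]
  have hp0 : dimg α p = ⊥ := by
    rw [eq_bot_iff]
    intro x hx
    obtain ⟨w, rfl⟩ := mem_dimg α p x hx
    rw [Subgroup.mem_bot]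
    exact delta_iterate_prime α hαp hexp w
  have := key p
  rw [hp0, Subgroup.card_bot, mul_one, mul_comm m p] at this
  exact this

end expp

/-! ### restriction of an automorphism -/
section restr

variable {G : Type*} [Group G]

/-- restriction of an automorphism to an invariant subgroup -/
def restr (a : G ≃* G) (K : Subgroup G) (h1 : ∀ x ∈ K, a x ∈ K)
    (h2 : ∀ x ∈ K, a.symm x ∈ K) : ↥K ≃* ↥K where
  toFun x := ⟨a x, h1 x x.2⟩
  invFun x := ⟨a.symm x, h2 x x.2⟩
  left_inv x := by simp
  right_inv x := by simp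
  map_mul' x y := by
    apply Subtype.ext
    simp

theorem restr_apply (a : G ≃* G) (K : Subgroup G) (h1 : ∀ x ∈ K, a x ∈ K)
    (h2 : ∀ x ∈ K, a.symm x ∈ K) (x : K) : ((restr a K h1 h2 x : K) : G) = a x := rfl

theorem restr_pow_apply (a : G ≃* G) (K : Subgroup G) (h1 : ∀ x ∈ K, a x ∈ K)
    (h2 : ∀ x ∈ K, a.symm x ∈ K) (k : ℕ) (x : K) :
    (((restr a K h1 h2 ^ k) x : K) : G) = (a ^ k) x := by
  induction k generalizing x with
  | zero => rfl
  | succ k ih =>
    rw [pow_succ, pow_succ, MulAut.mul_apply, MulAut.mul_apply, ih, restr_apply]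

theorem restr_pow_eq_one (a : G ≃* G) (K : Subgroup G) (h1 : ∀ x ∈ K, a x ∈ K)
    (h2 : ∀ x ∈ K, a.symm x ∈ K) (k : ℕ) (hk : a ^ k = 1) : restr a K h1 h2 ^ k = 1 := by
  ext x
  rw [restr_pow_apply, hk]
  rfl

theorem card_fixed_restr_le [Finite G] (a : G ≃* G) (K : Subgroup G) (h1 : ∀ x ∈ K, a x ∈ K)
    (h2 : ∀ x ∈ K, a.symm x ∈ K) :
    Nat.card {g : K // restr a K h1 h2 g = g} ≤ Nat.card {g : G // a g = g} := by
  apply Nat.card_le_card_of_injective
    (fun g : {g : K // restr a K h1 h2 g = g} =>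
      (⟨(g.1 : G), congrArg Subtype.val g.2⟩ : {g : G // a g = g}))
  intro x y hxy
  apply Subtype.ext
  apply Subtype.ext
  exact congrArg (fun z : {g : G // a g = g} => (z.1 : G)) hxy

theorem symm_mem_of_map_eq (a : G ≃* G) (K : Subgroup G) (hK : K.map (a : G →* G) = K) :
    (∀ x ∈ K, a x ∈ K) ∧ ∀ x ∈ K, a.symm x ∈ K := by
  constructor
  · intro x hx
    rw [← hK]
    exact ⟨x, hx, rfl⟩
  · intro x hx
    rw [← hK] at hx
    obtain ⟨y, hy, rfl⟩ := hx
    simpa using hy

end restr

/-! ### (GR) -/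
section GR

/-- (GR) abelian `p`-group of exponent `p^N`, `α^p = 1`, at most `p^m` fixed points. -/
theorem card_le_of_exponent {W : Type*} [CommGroup W] [Finite W] {p : ℕ} [Fact p.Prime]
    (α : W ≃* W) (hαp : α ^ p = 1) (m : ℕ) (hfix : Nat.card {w : W // α w = w} ≤ p ^ m)
    (N : ℕ) (hexp : ∀ w : W, w ^ (p ^ N) = 1) : Nat.card W ≤ p ^ (p * m * N) := by
  induction N generalizing W with
  | zero =>
    have : Subsingleton W := by
      constructor
      intro a b
      have ha := hexp a
      have hb := hexp b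
      rw [pow_zero, pow_one] at ha hb
      rw [ha, hb]
    rw [mul_zero, pow_zero]
    exact le_of_eq Nat.card_unique
  | succ N ih =>
    set φ : W →* W := powMonoidHom p with hφ
    have hφa : ∀ w : W, φ w = w ^ p := fun w => rfl
    -- the image
    have hH1 : ∀ x ∈ φ.range, α x ∈ φ.range := by
      rintro _ ⟨w, rfl⟩
      exact ⟨α w, by rw [hφa, hφa, map_pow]⟩
    have hH2 : ∀ x ∈ φ.range, α.symm x ∈ φ.range := by
      rintro _ ⟨w, rfl⟩
      exact ⟨α.symm w, by rw [hφa, hφa, map_pow]⟩
    have hcardH : Nat.card φ.range ≤ p ^ (p * m * N) := by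
      apply ih (restr α φ.range hH1 hH2) (restr_pow_eq_one α _ hH1 hH2 p hαp)
        (le_trans (card_fixed_restr_le α _ hH1 hH2) hfix)
      rintro ⟨x, ⟨w, hw⟩⟩
      apply Subtype.ext
      rw [Subgroup.coe_pow, Subgroup.coe_one]
      show x ^ p ^ N = 1
      rw [← hw, hφa, ← pow_mul, ← pow_succ']
      exact hexp w
    -- the kernel
    have hK1 : ∀ x ∈ φ.ker, α x ∈ φ.ker := by
      intro x hx
      rw [MonoidHom.mem_ker, hφa] at hx ⊢
      rw [← map_pow, hx, map_one]
    have hK2 : ∀ x ∈ φ.ker, α.symm x ∈ φ.ker := by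
      intro x hx
      rw [MonoidHom.mem_ker, hφa] at hx ⊢
      rw [← map_pow, hx, map_one]
    have hcardK : Nat.card φ.ker ≤ p ^ (p * m) := by
      apply card_le_of_exponent_prime (restr α φ.ker hK1 hK2)
        (restr_pow_eq_one α _ hK1 hK2 p hαp) m
        (le_trans (card_fixed_restr_le α _ hK1 hK2) hfix)
      rintro ⟨x, hx⟩
      apply Subtype.ext
      rw [Subgroup.coe_pow, Subgroup.coe_one]
      exact hx
    have h1 : Nat.card W = Nat.card (W ⧸ φ.ker) * Nat.card φ.ker :=
      Subgroup.card_eq_card_quotient_mul_card_subgroup φ.ker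
    have h2 : Nat.card (W ⧸ φ.ker) = Nat.card φ.range :=
      Nat.card_congr (QuotientGroup.quotientKerEquivRange φ).toEquiv
    rw [h1, h2, show p * m * (N + 1) = p * m * N + p * m by ring, pow_add]
    exact Nat.mul_le_mul hcardH hcardK

/-- (GR) for a group with a commutativity hypothesis -/
theorem card_le_of_exponent' {W : Type*} [Group W] [Finite W] (hc : ∀ a b : W, a * b = b * a)
    {p : ℕ} [Fact p.Prime]
    (α : W ≃* W) (hαp : α ^ p = 1) (m : ℕ) (hfix : Nat.card {w : W // α w = w} ≤ p ^ m)
    (N : ℕ) (hexp : ∀ w : W, w ^ (p ^ N) = 1) : Nat.card W ≤ p ^ (p * m * N) := by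
  let iC : CommGroup W := { (inferInstance : Group W) with mul_comm := hc }
  exact @card_le_of_exponent W iC _ p _ α hαp m hfix N hexp

theorem congr_pow_mk {G : Type*} [Group G] (K : Subgroup G) [K.Normal] (α : G ≃* G)
    (hK : K.map (α : G →* G) = K) (k : ℕ) (g : G) :
    ((QuotientGroup.congr K K α hK) ^ k) (QuotientGroup.mk g) = QuotientGroup.mk ((α ^ k) g) := by
  induction k generalizing g with
  | zero => rfl
  | succ k ih =>
    rw [pow_succ, pow_succ, MulAut.mul_apply, MulAut.mul_apply]
    have : (QuotientGroup.congr K K α hK) (QuotientGroup.mk g) = QuotientGroup.mk (α g) := rfl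
    rw [this, ih]

/-- (GR') the same for an abelian section `X/Y` of a group. -/
theorem relIndex_le_of_exponent {P : Type*} [Group P] [Finite P] {p : ℕ} [Fact p.Prime]
    (α : P ≃* P) (hαp : α ^ p = 1) (m : ℕ) (hfix : Nat.card {g : P // α g = g} ≤ p ^ m)
    (X Y : Subgroup P) (hYX : Y ≤ X) (hX : X.map (α : P →* P) = X) (hY : Y.map (α : P →* P) = Y)
    (hcomm : ⁅X, X⁆ ≤ Y) (N : ℕ) (hexp : ∀ x ∈ X, x ^ (p ^ N) ∈ Y) :
    Y.relIndex X ≤ p ^ (p * m * N) := by
  obtain ⟨hX1, hX2⟩ := symm_mem_of_map_eq α X hX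
  obtain ⟨hY1, hY2⟩ := symm_mem_of_map_eq α Y hY
  set B : Subgroup X := Y.subgroupOf X with hB
  haveI hBn : B.Normal := by
    constructor
    intro b hb a
    rw [hB, Subgroup.mem_subgroupOf] at hb ⊢
    have h1 : ⁅(a : P), (b : P)⁆ ∈ Y := hcomm (Subgroup.commutator_mem_commutator a.2 b.2)
    have e : ((a * b * a⁻¹ : X) : P) = ⁅(a : P), (b : P)⁆ * (b : P) := by
      rw [commutatorElement_def]
      push_cast
      group
    rw [e]
    exact Y.mul_mem h1 hb
  set αX : X ≃* X := restr α X hX1 hX2 with hαX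
  have hαXp : αX ^ p = 1 := restr_pow_eq_one α X hX1 hX2 p hαp
  have hBα : B.map (αX : X →* X) = B := by
    apply le_antisymm
    · rintro _ ⟨b, hb, rfl⟩
      have hb' : (b : P) ∈ Y := hb
      show ((αX b : X) : P) ∈ Y
      exact hY1 _ hb'
    · intro b hb
      have hb' : (b : P) ∈ Y := hb
      refine ⟨αX.symm b, ?_, by simp⟩
      show ((αX.symm b : X) : P) ∈ Y
      exact hY2 _ hb'
  set αW : (X ⧸ B) ≃* (X ⧸ B) := QuotientGroup.congr B B αX hBα with hαW
  have hαWp : αW ^ p = 1 := by
    ext q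
    induction q using QuotientGroup.induction_on with
    | H g =>
      rw [congr_pow_mk, hαXp]
      rfl
  have hfixW : Nat.card {q : X ⧸ B // αW q = q} ≤ p ^ m :=
    le_trans (Cfsg.Agent.Lib.Helper7.AlpF1.card_fixed_quotient_le αX B hBα)
      (le_trans (card_fixed_restr_le α X hX1 hX2) hfix)
  have hcW : ∀ a b : X ⧸ B, a * b = b * a := by
    intro a b
    induction a using QuotientGroup.induction_on with
    | H a =>
      induction b using QuotientGroup.induction_on with
      | H b =>
        rw [← QuotientGroup.mk_mul, ← QuotientGroup.mk_mul, QuotientGroup.eq, hB,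
          Subgroup.mem_subgroupOf]
        have h1 : ⁅(b⁻¹ : P), (a⁻¹ : P)⁆ ∈ Y :=
          hcomm (Subgroup.commutator_mem_commutator (X.inv_mem b.2) (X.inv_mem a.2))
        have e : (((a * b)⁻¹ * (b * a) : X) : P) = ⁅((b : P))⁻¹, ((a : P))⁻¹⁆ := by
          rw [commutatorElement_def]
          push_cast
          group
        rw [e]
        exact h1
  have hexpW : ∀ w : X ⧸ B, w ^ (p ^ N) = 1 := by
    intro w
    induction w using QuotientGroup.induction_on with
    | H a =>
      rw [← QuotientGroup.mk_pow, QuotientGroup.eq_one_iff, hB, Subgroup.mem_subgroupOf,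
        Subgroup.coe_pow]
      exact hexp _ a.2
  have := card_le_of_exponent' hcW αW hαWp m hfixW N hexpW
  exact this

end GR

end Cfsg.Agent.Lib.Lead.AlpGR
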