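import Mathlib
import Cfsg.Agent.Lib.Helper2.AlpDefs
import Cfsg.Agent.Lib.Helper3.PComp1
import Cfsg.Agent.Lib.Helper9.PCore
import Cfsg.Agent.Lib.Lead.OddStable
import Cfsg.Agent.Lib.Lead.OmegaAut
import Cfsg.Agent.Lib.Lead.CoprimeFrattini
import Cfsg.Agent.Lib.Lead.Frattini
import Cfsg.Agent.S3779
import Cfsg.Agent.Lib.Helper7.AlpF1
import Cfsg.Agent.Lib.Lead.AlpGR

set_option autoImplicit false

/-! S3782 (Alperin), package GE: reduction of the soluble case to the `p`-group case
(`O_{p'}(G)` has class at most `xi p` by S3779; `G/O_{p'}(G)` acts faithfully modulo `O_p` on the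
Frattini quotient of `O_p`, which is small by package GR). -/
set_option linter.unusedVariables false
set_option linter.unusedSectionVars false

namespace Cfsg.Agent.Lib.Lead.AlpGE

open Cfsg.Agent.Lib.Helper2.Alp Cfsg.Agent.Lib.Helper7.AlpF1
open scoped commutatorElement

universe u


/-! ### derived series generalities -/
section derived

variable {G : Type*} [Group G]

theorem derivedSeries_le_map_subtype (N : Subgroup G) (a : ℕ) (h : derivedSeries G a ≤ N) (b : ℕ) :
    derivedSeries G (a + b) ≤ (derivedSeries ↥N b).map N.subtype := by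
  induction b with
  | zero =>
    rw [add_zero, derivedSeries_zero, ← MonoidHom.range_eq_map, Subgroup.range_subtype]
    exact h
  | succ b ih =>
    rw [← add_assoc, derivedSeries_succ, derivedSeries_succ, Subgroup.map_commutator]
    exact Subgroup.commutator_mono ih ih

theorem derivedSeries_eq_bot_of_sub_quot (N : Subgroup G) [N.Normal] (a b : ℕ)
    (hq : derivedSeries (G ⧸ N) a = ⊥) (hN : derivedSeries ↥N b = ⊥) :
    derivedSeries G (a + b) = ⊥ := by
  have h1 : derivedSeries G a ≤ N := by
    have := map_derivedSeries_eq (f := QuotientGroup.mk' N) (QuotientGroup.mk'_surjective N) a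
    rw [hq] at this
    intro x hx
    have hx' : QuotientGroup.mk' N x ∈ Subgroup.map (QuotientGroup.mk' N) (derivedSeries G a) :=
      ⟨x, hx, rfl⟩
    rw [this, Subgroup.mem_bot] at hx'
    exact (QuotientGroup.eq_one_iff x).1 hx'
  have h2 := derivedSeries_le_map_subtype N a h1 b
  rw [hN, Subgroup.map_bot, le_bot_iff] at h2
  exact h2

theorem derivedSeries_eq_bot_of_le {a b : ℕ} (h : derivedSeries G a = ⊥) (hab : a ≤ b) :
    derivedSeries G b = ⊥ := by
  have := derivedSeries_antitone G hab
  rw [h, le_bot_iff] at this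
  exact this

theorem derivedSeries_card_eq_bot [Finite G] [hs : Group.IsSolvable G] :
    derivedSeries G (Nat.card G) = ⊥ := by
  classical
  obtain ⟨n0, hn0⟩ := hs.solvable
  have hex : ∃ n, derivedSeries G n = ⊥ := ⟨n0, hn0⟩
  set n := Nat.find hex with hn
  have hnbot : derivedSeries G n = ⊥ := Nat.find_spec hex
  -- card of `derivedSeries G k` is at least `n - k + 1` for `k ≤ n`
  have key : ∀ j : ℕ, j ≤ n → j + 1 ≤ Nat.card (derivedSeries G (n - j)) := by
    intro j
    induction j with
    | zero =>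
      intro _
      exact Nat.one_le_iff_ne_zero.2 Nat.card_pos.ne'
    | succ j ih =>
      intro hj
      have hj' : j ≤ n := Nat.le_of_succ_le hj
      have h1 := ih hj'
      have hlt : derivedSeries G (n - j) < derivedSeries G (n - (j + 1)) := by
        have hsucc : n - j = (n - (j + 1)) + 1 := by omega
        refine lt_of_le_of_ne (derivedSeries_antitone G (by omega)) ?_
        intro heq
        -- the series is stationary from `n - (j+1)` on, so it is `⊥` already there
        have hstat : ∀ i, derivedSeries G (n - (j + 1) + i) = derivedSeries G (n - (j + 1)) := by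
          intro i
          induction i with
          | zero => rfl
          | succ i ihi =>
            rw [← add_assoc, derivedSeries_succ, ihi, ← derivedSeries_succ, ← hsucc, heq]
        have h2 := hstat (j + 1)
        rw [show n - (j + 1) + (j + 1) = n by omega, hnbot] at h2
        have hmin := Nat.find_min hex (m := n - (j + 1)) (by omega)
        exact hmin h2.symm
      have hcard : Nat.card (derivedSeries G (n - j)) < Nat.card (derivedSeries G (n - (j + 1))) := by
        have hle : derivedSeries G (n - j) ≤ derivedSeries G (n - (j + 1)) := hlt.le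
        by_contra hcon
        push Not at hcon
        exact hlt.ne (Subgroup.eq_of_le_of_card_ge hle hcon)
      omega
  have h0 := key n le_rfl
  rw [Nat.sub_self, derivedSeries_zero, Subgroup.card_top] at h0
  exact derivedSeries_eq_bot_of_le hnbot (by omega)

end derived

/-! ### the `p'`-core -/
section pprime

variable {G : Type u} [Group G] [Finite G] (p : ℕ) [hp : Fact p.Prime]

theorem pow_eq_one_of_fixed (α : MulAut G) (n : ℕ) (hfix : Nat.card {g : G // α g = g} = p ^ n)
    (x : G) (hx : α x = x) : x ^ (p ^ n) = 1 := by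
  let F : Subgroup G :=
    { carrier := {g | α g = g}
      mul_mem' := by
        intro a b ha hb
        show α (a * b) = a * b
        rw [map_mul, ha, hb]
      one_mem' := map_one α
      inv_mem' := by
        intro a ha
        show α a⁻¹ = a⁻¹
        rw [map_inv, ha] }
  have hF : Nat.card F = p ^ n := hfix
  have h1 : (⟨x, hx⟩ : F) ^ Nat.card F = 1 := pow_card_eq_one'
  rw [hF] at h1
  exact congrArg Subtype.val h1

theorem derived_pPrimeCore (α : MulAut G) (hα : orderOf α = p) (n : ℕ)
    (hfix : Nat.card {g : G // α g = g} = p ^ n) :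
    derivedSeries ↥(Cfsg.pPrimeCore p G) (xi p) = ⊥ := by
  set K := Cfsg.pPrimeCore p G with hK
  have h1 : ∀ x ∈ K, α x ∈ K := by
    intro x hx
    have := Cfsg.Agent.Lib.Helper3.pPrimeCore_map_mulEquiv (A := G) (B := G) p α
    rw [← hK] at this
    rw [← this]
    exact ⟨x, hx, rfl⟩
  have h2 : ∀ x ∈ K, α.symm x ∈ K := by
    intro x hx
    have := Cfsg.Agent.Lib.Helper3.pPrimeCore_map_mulEquiv (A := G) (B := G) p α.symm
    rw [← hK] at this
    rw [← this]
    exact ⟨x, hx, rfl⟩
  set αK : MulAut K := Cfsg.Agent.Lib.Lead.restrictAut α K h1 h2 with hαK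
  have hcop : (Nat.card K).Coprime p := Cfsg.Agent.Lib.Helper6.pPrimeCore_coprime p
  have hfpf : ∀ x : K, αK x = x → x = 1 := by
    intro x hx
    have hx' : α (x : G) = x := congrArg Subtype.val hx
    have hpow := pow_eq_one_of_fixed p α n hfix (x : G) hx'
    obtain ⟨k, _, hk⟩ := (Nat.dvd_prime_pow hp.out).1 (orderOf_dvd_of_pow_eq_one hpow)
    have := Cfsg.Agent.Lib.Helper6.eq_one_of_pElement_of_coprime_card hcop x.2 ⟨k, hk⟩
    exact Subtype.ext this
  have hpow : αK ^ p = 1 := by
    ext x
    rw [Cfsg.Agent.Lib.Lead.restrictAut_pow_apply, ← hα, pow_orderOf_eq_one]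
    rfl
  rcases (Nat.dvd_prime hp.out).1 (orderOf_dvd_of_pow_eq_one hpow) with h | h
  · -- `αK = 1`, so `K` is trivial
    rw [orderOf_eq_one_iff] at h
    haveI : Subsingleton K := by
      constructor
      intro a b
      have ha := hfpf a (by rw [h]; rfl)
      have hb := hfpf b (by rw [h]; rfl)
      rw [ha, hb]
    exact Subgroup.eq_bot_of_subsingleton _
  · have h3 := (Cfsg.Agent.S3779.result hp.out αK h hfpf).2.2
    have h4 := Subgroup.derived_le_lower_central (G := K) (xi p)
    unfold xi at h4 ⊢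
    rw [h3, le_bot_iff] at h4
    exact h4

end pprime

/-! ### powers of the induced automorphism of a quotient -/
section quot

variable {G : Type*} [Group G]

theorem congr_pow_mk (K : Subgroup G) [K.Normal] (α : G ≃* G) (hK : K.map (α : G →* G) = K)
    (k : ℕ) (g : G) :
    ((QuotientGroup.congr K K α hK) ^ k) (QuotientGroup.mk g) = QuotientGroup.mk ((α ^ k) g) := by
  induction k generalizing g with
  | zero => rfl
  | succ k ih =>
    rw [pow_succ, pow_succ, MulAut.mul_apply, MulAut.mul_apply]
    have : (QuotientGroup.congr K K α hK) (QuotientGroup.mk g) = QuotientGroup.mk (α g) := rfl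
    rw [this, ih]

end quot

/-! ### the action on the Frattini quotient of a normal subgroup -/
section frat

variable {X : Type*} [Group X]

/-- the automorphism of `R ⧸ Φ(R)` induced by an automorphism of `R` -/
noncomputable def fratAut (R : Type*) [Group R] : MulAut R →* MulAut (R ⧸ frattini R) where
  toFun φ := QuotientGroup.congr (frattini R) (frattini R) φ
    ((Subgroup.characteristic_iff_map_eq.1 inferInstance) φ)
  map_one' := by
    ext q
    induction q using QuotientGroup.induction_on with
    | H g => rfl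
  map_mul' := by
    intro φ ψ
    ext q
    induction q using QuotientGroup.induction_on with
    | H g => rfl

theorem fratAut_mk (R : Type*) [Group R] (φ : MulAut R) (g : R) :
    fratAut R φ (QuotientGroup.mk g) = QuotientGroup.mk (φ g) := rfl

/-- the permutation action of `X` on `R ⧸ Φ(R)` for a normal subgroup `R` -/
noncomputable def fratPerm (R : Subgroup X) [R.Normal] : X →* Equiv.Perm (↥R ⧸ frattini ↥R) :=
  (MulAut.toPerm _).comp ((fratAut ↥R).comp (MulAut.conjNormal (H := R)))

theorem fratPerm_mk (R : Subgroup X) [R.Normal] (g : X) (x : R) :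
    fratPerm R g (QuotientGroup.mk x) = QuotientGroup.mk (MulAut.conjNormal g x) := rfl

theorem mem_ker_fratPerm (R : Subgroup X) [R.Normal] (g : X) (hg : g ∈ (fratPerm R).ker) :
    ∀ k ∈ R, g * k * g⁻¹ * k⁻¹ ∈ (frattini ↥R).map R.subtype := by
  intro k hk
  have h1 : fratPerm R g (QuotientGroup.mk ⟨k, hk⟩) = QuotientGroup.mk ⟨k, hk⟩ := by
    rw [(MonoidHom.mem_ker).1 hg]
    rfl
  rw [fratPerm_mk] at h1
  have h2 := (QuotientGroup.eq.1 h1.symm)
  -- h2 : ⟨k,hk⟩⁻¹ * conjNormal g ⟨k,hk⟩ ∈ frattini R
  have h3 : (MulAut.conjNormal g ⟨k, hk⟩ : R) * (⟨k, hk⟩ : R)⁻¹ ∈ frattini ↥R := by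
    have hn : (frattini ↥R).Normal := inferInstance
    have := hn.conj_mem _ h2 (⟨k, hk⟩ : R)
    have e : (⟨k, hk⟩ : R) * ((⟨k, hk⟩ : R)⁻¹ * MulAut.conjNormal g ⟨k, hk⟩) * (⟨k, hk⟩ : R)⁻¹ =
        (MulAut.conjNormal g ⟨k, hk⟩ : R) * (⟨k, hk⟩ : R)⁻¹ := by group
    rwa [e] at this
  refine ⟨_, h3, ?_⟩
  show ((MulAut.conjNormal g ⟨k, hk⟩ : R) : X) * (k)⁻¹ = g * k * g⁻¹ * k⁻¹
  rw [MulAut.conjNormal_apply]

end frat

/-! ### the reduced case `O_{p'}(X) = 1` -/
section reduced

variable (p : ℕ) [hp : Fact p.Prime]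

theorem pCore_map_le {X : Type*} [Group X] [Finite X] (e : X ≃* X) :
    (Cfsg.pCore p X).map (e : X →* X) ≤ Cfsg.pCore p X := by
  apply Cfsg.Agent.Lib.Helper9.le_pCore
  · haveI := Cfsg.Agent.Lib.Helper9.pCore_normal' (G := X) p
    exact Subgroup.Normal.map inferInstance _ e.surjective
  · exact (Cfsg.Agent.Lib.Helper9.pCore_isPGroup' (G := X) p).map _

theorem ker_fratPerm_le {X : Type u} [Group X] [Finite X] [Group.IsSolvable X]
    (hO : Cfsg.pPrimeCore p X = ⊥) [hRn : (Cfsg.pCore p X).Normal] :
    (fratPerm (Cfsg.pCore p X)).ker ≤ Cfsg.pCore p X := by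
  set R := Cfsg.pCore p X with hR
  have hRp : IsPGroup p R := Cfsg.Agent.Lib.Helper9.pCore_isPGroup' p
  set C := (fratPerm R).ker with hC
  have hcent := Cfsg.Agent.Lib.Lead.OddStable.centralizer_pCore_le_of_solvable (p := p) (G := X) hO
  -- `p'`-elements of `C` are trivial
  have hpp : ∀ g ∈ C, (orderOf g).Coprime p → g = 1 := by
    intro g hg hcop
    have hA : Subgroup.zpowers g ≤ C := (Subgroup.zpowers_le).2 hg
    have hfr : IsPGroup p (frattini ↥R) := hRp.to_subgroup _
    obtain ⟨k, hk⟩ := IsPGroup.iff_card.1 hfr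
    have h1 := Cfsg.Agent.Lib.Lead.coprime_trivial_on_frattini_quotient (Subgroup.zpowers g) R
      (by
        intro a _
        rw [Subgroup.normalizer_eq_top_iff.2 hRn]
        trivial)
      (by
        rw [Nat.card_zpowers, hk]
        exact Nat.Coprime.pow_right k hcop)
      (by
        intro a ha k hk
        exact mem_ker_fratPerm R a (hA ha) k hk)
    have hgR : g ∈ R := hcent (h1 (Subgroup.mem_zpowers g))
    obtain ⟨j, hj⟩ := (IsPGroup.iff_orderOf.1 hRp) ⟨g, hgR⟩
    rw [Subgroup.orderOf_mk] at hj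
    have h2 : (orderOf g).Coprime (orderOf g) := by
      nth_rewrite 2 [hj]
      exact Nat.Coprime.pow_right j hcop
    rw [Nat.coprime_self] at h2
    exact orderOf_eq_one_iff.1 h2
  -- so `C` is a `p`-group
  have hCp : IsPGroup p C := by
    intro g
    obtain ⟨k, m, hm, hkm⟩ := Nat.exists_eq_pow_mul_and_not_dvd (orderOf_pos (g : X)).ne' p
      hp.out.ne_one
    have hgk : ((g : X) ^ (p ^ k)) ∈ C := C.pow_mem g.2 _
    have hord : orderOf ((g : X) ^ (p ^ k)) = m := by
      rw [orderOf_pow' _ (pow_pos hp.out.pos k).ne', hkm, Nat.gcd_eq_right (Dvd.intro _ rfl),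
        Nat.mul_div_cancel_left _ (pow_pos hp.out.pos k)]
    have h1 := hpp _ hgk (by
      rw [hord]
      exact ((Nat.Prime.coprime_iff_not_dvd hp.out).2 hm).symm)
    refine ⟨k, ?_⟩
    apply Subtype.ext
    rw [Subgroup.coe_pow]
    exact h1
  exact Cfsg.Agent.Lib.Helper9.le_pCore (MonoidHom.normal_ker _) hCp

theorem derived_of_pPrimeCore_eq_bot (n l : ℕ)
    (hl : ∀ (P : Type) [Group P] [Finite P], IsPGroup p P → ∀ α : P ≃* P, α ^ p = 1 →
      Nat.card {g : P // α g = g} ≤ p ^ n → derivedSeries P l = ⊥)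
    {X : Type} [Group X] [Finite X] [Group.IsSolvable X] (hO : Cfsg.pPrimeCore p X = ⊥)
    (β : X ≃* X) (hβ : β ^ p = 1) (hfix : Nat.card {g : X // β g = g} ≤ p ^ n) :
    derivedSeries X ((p ^ (p * n)).factorial + l) = ⊥ := by
  haveI hRn : (Cfsg.pCore p X).Normal := Cfsg.Agent.Lib.Helper9.pCore_normal' p
  set R := Cfsg.pCore p X with hR
  have hRp : IsPGroup p R := Cfsg.Agent.Lib.Helper9.pCore_isPGroup' p
  have h1 : ∀ x ∈ R, β x ∈ R := fun x hx => pCore_map_le p β ⟨x, hx, rfl⟩
  have h2 : ∀ x ∈ R, β.symm x ∈ R := fun x hx => pCore_map_le p β.symm ⟨x, hx, rfl⟩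
  set βR : MulAut R := Cfsg.Agent.Lib.Lead.restrictAut β R h1 h2 with hβR
  have hβRp : βR ^ p = 1 := by
    ext x
    rw [Cfsg.Agent.Lib.Lead.restrictAut_pow_apply, hβ]
    rfl
  have hfixR : Nat.card {g : R // βR g = g} ≤ p ^ n := by
    refine le_trans ?_ hfix
    apply Nat.card_le_card_of_injective
      (fun g : {g : R // βR g = g} => (⟨(g.1 : X), congrArg Subtype.val g.2⟩ : {g : X // β g = g}))
    intro a b hab
    apply Subtype.ext
    apply Subtype.ext
    exact congrArg (fun z : {g : X // β g = g} => (z.1 : X)) hab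
  -- the `p`-core has bounded derived length
  have hRl : derivedSeries ↥R l = ⊥ := hl ↥R hRp βR hβRp hfixR
  -- the Frattini quotient of the `p`-core is small
  have hfr : (frattini ↥R).index ≤ p ^ (p * n) := by
    have h3 := Cfsg.Agent.Lib.Lead.AlpGR.relIndex_le_of_exponent βR hβRp n hfixR ⊤ (frattini ↥R) le_top
      (by
        rw [← MonoidHom.range_eq_map, MonoidHom.range_eq_top]
        exact βR.surjective)
      ((Subgroup.characteristic_iff_map_eq.1 inferInstance) βR)
      (by
        have := Cfsg.Agent.Lib.Lead.commutator_le_frattini_of_isPGroup hRp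
        rwa [commutator_def] at this)
      1
      (by
        intro x _
        rw [pow_one]
        exact Cfsg.Agent.Lib.Lead.pow_mem_frattini_of_isPGroup hRp x)
    rw [Subgroup.relIndex_top_right, mul_one] at h3
    exact h3
  -- the index of the `p`-core is bounded
  have hidx : R.index ≤ (p ^ (p * n)).factorial := by
    have hker : (fratPerm R).ker ≤ R := ker_fratPerm_le p hO
    have h4 : R.index ≤ (fratPerm R).ker.index :=
      Nat.le_of_dvd (Nat.pos_of_ne_zero Subgroup.index_ne_zero_of_finite)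
        (Subgroup.index_dvd_of_le hker)
    have h5 : (fratPerm R).ker.index = Nat.card (fratPerm R).range := Subgroup.index_ker _
    have h6 : Nat.card (fratPerm R).range ≤ Nat.card (Equiv.Perm (↥R ⧸ frattini ↥R)) :=
      Nat.card_le_card_of_injective _ Subtype.val_injective
    have h7 : Nat.card (Equiv.Perm (↥R ⧸ frattini ↥R)) = (Nat.card (↥R ⧸ frattini ↥R)).factorial :=
      Nat.card_perm
    have h8 : Nat.card (↥R ⧸ frattini ↥R) = (frattini ↥R).index := rfl
    rw [h5] at h4
    refine le_trans h4 (le_trans h6 ?_)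
    rw [h7, h8]
    exact Nat.factorial_le hfr
  -- the quotient by the `p`-core
  have hq : derivedSeries (X ⧸ R) ((p ^ (p * n)).factorial) = ⊥ := by
    have h9 : derivedSeries (X ⧸ R) (Nat.card (X ⧸ R)) = ⊥ := derivedSeries_card_eq_bot
    exact derivedSeries_eq_bot_of_le h9 hidx
  exact derivedSeries_eq_bot_of_sub_quot R _ _ hq hRl

end reduced

/-- (GE) reduction of the soluble case to the `p`-group case. -/
theorem solvable_bound_of (p : ℕ) [Fact p.Prime] (n : ℕ)
    (hP : ∃ l : ℕ, ∀ (P : Type) [Group P] [Finite P], IsPGroup p P → ∀ α : P ≃* P, α ^ p = 1 →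
      Nat.card {g : P // α g = g} ≤ p ^ n → derivedSeries P l = ⊥) :
    ∃ l : ℕ, ∀ (G : Type) [Group G] [Finite G], Group.IsSolvable G → ∀ α : MulAut G,
      orderOf α = p → Nat.card {g : G // α g = g} = p ^ n → derivedSeries G l = ⊥ := by
  obtain ⟨l, hl⟩ := hP
  refine ⟨(p ^ (p * n)).factorial + l + xi p, ?_⟩
  intro G _ _ hsolv α hα hfix
  set K := Cfsg.pPrimeCore p G with hK
  have hKα : K.map ((α : G ≃* G) : G →* G) = K :=
    Cfsg.Agent.Lib.Helper3.pPrimeCore_map_mulEquiv (A := G) (B := G) p α
  set β : (G ⧸ K) ≃* (G ⧸ K) := QuotientGroup.congr K K α hKα with hβdef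
  have hαp : α ^ p = 1 := by
    rw [← hα]
    exact pow_orderOf_eq_one α
  have hβ : β ^ p = 1 := by
    ext q
    induction q using QuotientGroup.induction_on with
    | H g =>
      rw [congr_pow_mk, hαp]
      rfl
  have hfixq : Nat.card {q : G ⧸ K // β q = q} ≤ p ^ n := by
    rw [← hfix]
    exact card_fixed_quotient_le α K hKα
  have hO : Cfsg.pPrimeCore p (G ⧸ K) = ⊥ := Cfsg.Agent.Lib.Helper3.pPrimeCore_quotient_eq_bot
  have h1 := derived_of_pPrimeCore_eq_bot p n l hl hO β hβ hfixq
  have h2 := derived_pPrimeCore p α hα n hfix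
  exact derivedSeries_eq_bot_of_sub_quot K _ _ h1 h2

end Cfsg.Agent.Lib.Lead.AlpGE
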