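import Mathlib

/-!
# Witt's lemma (for S4150, Lemma B)

If `G` is `k`-transitive, `U` the pointwise stabilizer of a `k`-tuple `s₀` and `P` a Sylow
`p`-subgroup of `U`, then `N_G(P)` is `k`-transitive on the fixed points of `P`; hence
`|F|(|F|-1)⋯(|F|-k+1)` divides `|N_G(P)|`.
-/

set_option autoImplicit false

open Equiv Equiv.Perm MulAction

namespace Cfsg.Agent.Lib.Lead.AltGenW

section sylow

variable {H : Type*} [Group H] [Finite H]

/-- Sylow conjugacy, elementwise: a `p`-subgroup `Q` of `U` with the same order as a maximal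
`p`-subgroup `P` of `U` is `U`-conjugate to `P`. -/
theorem sylow_conj {p : ℕ} [Fact p.Prime] (U P Q : Subgroup H) (hPU : P ≤ U) (hQU : Q ≤ U)
    (hP : IsPGroup p P)
    (hPmax : ∀ R : Subgroup H, R ≤ U → IsPGroup p R → P ≤ R → R = P)
    (hQ : IsPGroup p Q) (hcard : Nat.card Q = Nat.card P) :
    ∃ u ∈ U, ∀ x, x ∈ Q ↔ u⁻¹ * x * u ∈ P := by
  classical
  -- `P` as a Sylow subgroup of `U`
  let SP : Sylow p U :=
    { toSubgroup := P.subgroupOf U
      isPGroup' := hP.comap_subtype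
      is_maximal' := by
        intro R hR hle
        have h1 : R.map U.subtype = P := by
          apply hPmax
          · exact Subgroup.map_subtype_le R
          · exact hR.map U.subtype
          · intro x hx
            exact ⟨⟨x, hPU hx⟩, hle (by rw [Subgroup.mem_subgroupOf]; exact hx), rfl⟩
        ext ⟨x, hx⟩
        rw [Subgroup.mem_subgroupOf, ← h1]
        constructor
        · intro hxR
          exact ⟨⟨x, hx⟩, hxR, rfl⟩
        · rintro ⟨y, hy, hyx⟩
          have : y = ⟨x, hx⟩ := Subtype.ext hyx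
          rwa [← this] }
  have hSP : (SP : Subgroup U) = P.subgroupOf U := rfl
  have hQ' : IsPGroup p (Q.subgroupOf U) := hQ.comap_subtype
  obtain ⟨S', hS'⟩ := hQ'.exists_le_sylow
  obtain ⟨u, hu⟩ := MulAction.exists_smul_eq U SP S'
  have hcardQ : Nat.card (Q.subgroupOf U) = Nat.card Q :=
    Nat.card_congr (Subgroup.subgroupOfEquivOfLe hQU).toEquiv
  have hcardP : Nat.card (P.subgroupOf U) = Nat.card P :=
    Nat.card_congr (Subgroup.subgroupOfEquivOfLe hPU).toEquiv
  have hcardS : Nat.card (S' : Subgroup U) = Nat.card (SP : Subgroup U) := by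
    rw [S'.card_eq_multiplicity, SP.card_eq_multiplicity]
  have hQS : Q.subgroupOf U = (S' : Subgroup U) := by
    apply Subgroup.eq_of_le_of_card_ge hS'
    rw [hcardS, hSP, hcardP, hcardQ, hcard]
  refine ⟨u, u.2, ?_⟩
  intro x
  constructor
  · intro hx
    have hxU : x ∈ U := hQU hx
    have h1 : (⟨x, hxU⟩ : U) ∈ (S' : Subgroup U) := by
      rw [← hQS, Subgroup.mem_subgroupOf]; exact hx
    rw [← hu, Sylow.coe_subgroup_smul, Subgroup.mem_pointwise_smul_iff_inv_smul_mem,
      hSP, Subgroup.mem_subgroupOf] at h1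
    simpa [MulAut.smul_def, mul_assoc] using h1
  · intro hx
    have hxU : x ∈ U := by
      have h2 : u⁻¹.1 * x * u.1 ∈ U := hPU (by simpa using hx)
      have h3 := U.mul_mem (U.mul_mem u.2 h2) (U.inv_mem u.2)
      have e : (u : H) * ((u⁻¹ : U) : H) * x * (u : H) * (u : H)⁻¹ = x := by
        simp
      simpa [mul_assoc] using h3
    have h1 : (⟨x, hxU⟩ : U) ∈ (S' : Subgroup U) := by
      rw [← hu, Sylow.coe_subgroup_smul, Subgroup.mem_pointwise_smul_iff_inv_smul_mem,
        hSP, Subgroup.mem_subgroupOf]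
      simpa [MulAut.smul_def, mul_assoc] using hx
    rw [← hQS, Subgroup.mem_subgroupOf] at h1
    exact h1

end sylow

section witt

variable {α : Type*} [Fintype α] [DecidableEq α]

omit [DecidableEq α] in
/-- **Witt's lemma**: `N_G(P)` is `k`-transitive on the fixed points of `P`. -/
theorem witt_trans (G : Subgroup (Perm α)) (k : ℕ)
    (hG : ∀ s t : Fin k ↪ α, ∃ g ∈ G, ∀ i, g (s i) = t i) (s₀ : Fin k ↪ α)
    (U : Subgroup (Perm α)) (hU : ∀ g, g ∈ U ↔ g ∈ G ∧ ∀ i, g (s₀ i) = s₀ i)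
    (p : ℕ) [Fact p.Prime] (P : Subgroup (Perm α)) (hPU : P ≤ U) (hP : IsPGroup p P)
    (hPmax : ∀ Q : Subgroup (Perm α), Q ≤ U → IsPGroup p Q → P ≤ Q → Q = P)
    (t : Fin k ↪ α) (ht : ∀ i, ∀ x ∈ P, x (t i) = t i) :
    ∃ n ∈ G ⊓ Subgroup.normalizer (P : Set (Perm α)), ∀ i, n (s₀ i) = t i := by
  classical
  obtain ⟨g, hgG, hg⟩ := hG s₀ t
  set Q : Subgroup (Perm α) := P.map (MulAut.conj g⁻¹).toMonoidHom with hQdef
  have hQmem : ∀ x, x ∈ Q ↔ g * x * g⁻¹ ∈ P := by
    intro x
    rw [hQdef, Subgroup.mem_map_equiv]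
    simp
  have hQU : Q ≤ U := by
    intro x hx
    rw [hQmem] at hx
    rw [hU]
    have hxG : g * x * g⁻¹ ∈ G := ((hU _).1 (hPU hx)).1
    refine ⟨?_, ?_⟩
    · have := G.mul_mem (G.mul_mem (G.inv_mem hgG) hxG) hgG
      simpa [mul_assoc] using this
    · intro i
      have h1 := ht i _ hx
      rw [← hg i] at h1
      have e : (g * x * g⁻¹) (g (s₀ i)) = g (x (s₀ i)) := by simp
      rw [e] at h1
      exact g.injective h1
  have hQp : IsPGroup p Q := hP.map _
  have hQcard : Nat.card Q = Nat.card P := by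
    rw [hQdef]
    exact Nat.card_congr
      (P.equivMapOfInjective _ (MulAut.conj g⁻¹).injective).toEquiv.symm
  obtain ⟨u, huU, hu⟩ := sylow_conj U P Q hPU hQU hP hPmax hQp hQcard
  have huG : u ∈ G := ((hU u).1 huU).1
  refine ⟨g * u, ⟨G.mul_mem hgG huG, ?_⟩, ?_⟩
  · refine Subgroup.mem_normalizer_iff.2 ?_
    intro x
    have h1 := hu (u * x * u⁻¹)
    have h2 := hQmem (u * x * u⁻¹)
    have e1 : u⁻¹ * (u * x * u⁻¹) * u = x := by group
    have e2 : g * (u * x * u⁻¹) * g⁻¹ = g * u * x * (g * u)⁻¹ := by group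
    rw [e1] at h1
    rw [e2] at h2
    exact h1.symm.trans h2
  · intro i
    rw [Perm.coe_mul, Function.comp_apply, ((hU u).1 huU).2 i, hg i]

omit [DecidableEq α] in
/-- counting form of Witt's lemma -/
theorem witt_card_dvd (G : Subgroup (Perm α)) (k : ℕ)
    (hG : ∀ s t : Fin k ↪ α, ∃ g ∈ G, ∀ i, g (s i) = t i) (s₀ : Fin k ↪ α)
    (U : Subgroup (Perm α)) (hU : ∀ g, g ∈ U ↔ g ∈ G ∧ ∀ i, g (s₀ i) = s₀ i)
    (p : ℕ) [Fact p.Prime] (P : Subgroup (Perm α)) (hPU : P ≤ U) (hP : IsPGroup p P)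
    (hPmax : ∀ Q : Subgroup (Perm α), Q ≤ U → IsPGroup p Q → P ≤ Q → Q = P)
    (F : Finset α) (hF : ∀ a, a ∈ F ↔ ∀ g ∈ P, g a = a) :
    (F.card).descFactorial k ∣
      Nat.card ↥(G ⊓ Subgroup.normalizer (P : Set (Perm α))) := by
  classical
  set N : Subgroup (Perm α) := G ⊓ Subgroup.normalizer (P : Set (Perm α)) with hN
  -- the orbit of `s₀` under `N` is the set of `k`-tuples in `F`
  have hs₀F : ∀ i, s₀ i ∈ F := by
    intro i
    rw [hF]
    intro x hx
    exact ((hU x).1 (hPU hx)).2 i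
  have horb : ∀ t : Fin k ↪ α, t ∈ MulAction.orbit N s₀ ↔ ∀ i, t i ∈ F := by
    intro t
    constructor
    · rintro ⟨⟨n, hn⟩, rfl⟩ i
      rw [hF]
      intro x hx
      have hnorm := hn.2
      have hn' : n⁻¹ ∈ Subgroup.normalizer (P : Set (Perm α)) := Subgroup.inv_mem _ hnorm
      have h1 : n⁻¹ * x * n⁻¹⁻¹ ∈ P := (Subgroup.mem_normalizer_iff.1 hn' x).1 hx
      have h2 := (hF (s₀ i)).1 (hs₀F i) _ h1
      show x (n (s₀ i)) = n (s₀ i)
      have h3 : (n⁻¹ * x * n⁻¹⁻¹) (s₀ i) = n⁻¹ (x (n (s₀ i))) := by simp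
      rw [h3] at h2
      have := congrArg n h2
      simpa using this
    · intro ht
      obtain ⟨n, hn, hnt⟩ := witt_trans G k hG s₀ U hU p P hPU hP hPmax t
        (fun i x hx => (hF (t i)).1 (ht i) x hx)
      refine ⟨⟨n, hn⟩, ?_⟩
      ext i
      exact hnt i
  -- cardinality of the orbit
  have hcard : Nat.card (MulAction.orbit N s₀) = (F.card).descFactorial k := by
    have e : (MulAction.orbit N s₀) ≃ (Fin k ↪ F) :=
      { toFun := fun t => ⟨fun i => ⟨t.1 i, (horb t.1).1 t.2 i⟩, fun i j hij => by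
          have := congrArg Subtype.val hij
          exact t.1.injective this⟩
        invFun := fun e => ⟨⟨fun i => (e i : α), fun i j hij => e.injective (Subtype.ext hij)⟩,
          (horb _).2 (fun i => (e i).2)⟩
        left_inv := fun t => by
          apply Subtype.ext
          ext i
          rfl
        right_inv := fun e => by
          ext i
          rfl }
    rw [Nat.card_congr e, Nat.card_eq_fintype_card, Fintype.card_embedding_eq]
    simp
  have h2 := Nat.card_congr (MulAction.orbitEquivQuotientStabilizer N s₀)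
  have h3 := Subgroup.card_eq_card_quotient_mul_card_subgroup (MulAction.stabilizer N s₀)
  refine ⟨Nat.card (MulAction.stabilizer N s₀), ?_⟩
  rw [h3, ← h2]
  exact congrArg (fun z => z * Nat.card ↥(MulAction.stabilizer N s₀)) hcard

end witt

end Cfsg.Agent.Lib.Lead.AltGenW
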