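import Mathlib

/-! Numeric lemmas nl1–nl4 (package PK-NL for S2262). -/

namespace Cfsg.Agent.Lib.AutMeoNL

/-- geometric sum `1 + x + ... + x^(n-1)` -/
def gs (x n : ℕ) : ℕ := ∑ i ∈ Finset.range n, x ^ i

theorem gs_succ (x n : ℕ) : gs x (n + 1) = gs x n + x ^ n := Finset.sum_range_succ _ _

theorem gs_one (x : ℕ) : gs x 1 = 1 := by simp [gs]

theorem gs_mul (x n : ℕ) (hx : 1 ≤ x) : (x - 1) * gs x n + 1 = x ^ n := by
  obtain ⟨y, rfl⟩ : ∃ y, x = y + 1 := ⟨x - 1, by omega⟩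
  simp only [Nat.add_sub_cancel]
  induction n with
  | zero => simp [gs]
  | succ n ih =>
    rw [gs_succ, mul_add, pow_succ]
    calc y * gs (y + 1) n + y * (y + 1) ^ n + 1
        = (y * gs (y + 1) n + 1) + y * (y + 1) ^ n := by ring
      _ = (y + 1) ^ n + y * (y + 1) ^ n := by rw [ih]
      _ = (y + 1) ^ n * (y + 1) := by ring

theorem gs_mul' (x n : ℕ) (hx : 1 ≤ x) : x ^ n - 1 = (x - 1) * gs x n := by
  have := gs_mul x n hx
  omega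

theorem le_gs (x n : ℕ) (hn : 1 ≤ n) : x ^ (n - 1) ≤ gs x n := by
  obtain ⟨m, rfl⟩ : ∃ m, n = m + 1 := ⟨n - 1, by omega⟩
  rw [gs_succ, Nat.add_sub_cancel]
  exact Nat.le_add_left _ _

/-- `e * Q^i ≤ Q^(e*i)` -/
theorem claimA (Q e i : ℕ) (hQ : 2 ≤ Q) (he : 1 ≤ e) (hi : 1 ≤ i) : e * Q ^ i ≤ Q ^ (e * i) := by
  have h1 : e ≤ 2 ^ (e - 1) := by
    have := @Nat.lt_two_pow_self (e - 1)
    omega
  have h2 : 2 ^ (e - 1) ≤ Q ^ (e - 1) := Nat.pow_le_pow_left hQ _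
  have h3 : Q ^ (e - 1) ≤ Q ^ ((e - 1) * i) := by
    apply Nat.pow_le_pow_right (by omega)
    calc e - 1 = (e - 1) * 1 := (mul_one _).symm
      _ ≤ (e - 1) * i := Nat.mul_le_mul_left _ hi
  have h4 : e * i = (e - 1) * i + i := by
    obtain ⟨f, rfl⟩ : ∃ f, e = f + 1 := ⟨e - 1, by omega⟩
    simp only [Nat.add_sub_cancel]
    ring
  rw [h4, pow_add]
  exact Nat.mul_le_mul_right _ (h1.trans (h2.trans h3))

/-- `e*y + e ≤ y^e + 1` -/
theorem lemB (y e : ℕ) (hy : 2 ≤ y) (he : 1 ≤ e) (hex : ¬ (y = 2 ∧ e = 2)) :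
    e * y + e ≤ y ^ e + 1 := by
  rcases Nat.lt_or_ge e 3 with h3 | h3
  · have : e = 1 ∨ e = 2 := by omega
    rcases this with rfl | rfl
    · simp
    · have hy3 : 3 ≤ y := by
        by_contra h
        exact hex ⟨by omega, rfl⟩
      nlinarith
  · induction e, h3 using Nat.le_induction with
    | base =>
      obtain ⟨t, rfl⟩ := Nat.exists_eq_add_of_le hy
      have : (2 + t) ^ 3 = t ^ 3 + 6 * t ^ 2 + 12 * t + 8 := by ring
      rw [this]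
      nlinarith [Nat.zero_le (t ^ 3), Nat.zero_le (t ^ 2)]
    | succ e h3 ih =>
      have IH := ih (by omega) (by omega)
      have h1 : y ^ e * 2 ≤ y ^ e * y := Nat.mul_le_mul_left _ hy
      have h2 : 3 * y ≤ e * y := Nat.mul_le_mul_right y h3
      rw [pow_succ]
      nlinarith

theorem claimC (Q e m : ℕ) (hQ : 2 ≤ Q) (he : 1 ≤ e) (hm : 1 ≤ m) :
    e * gs Q m ≤ gs (Q ^ e) m + (e - 1) := by
  induction m, hm using Nat.le_induction with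
  | base => rw [gs_one, gs_one]; omega
  | succ m hm ih =>
    rw [gs_succ, gs_succ, mul_add]
    have := claimA Q e m hQ he hm
    rw [pow_mul] at this
    omega

theorem main1 (d Q e : ℕ) (hd : 2 ≤ d) (hQ : 2 ≤ Q) (he : 1 ≤ e)
    (hex : ¬ (d = 2 ∧ Q = 2 ∧ e = 2)) : e * gs Q d ≤ gs (Q ^ e) d := by
  obtain ⟨m, rfl⟩ : ∃ m, d = m + 1 := ⟨d - 1, by omega⟩
  have hm : 1 ≤ m := by omega
  rw [gs_succ, gs_succ, mul_add]
  have hC := claimC Q e m hQ he hm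
  have hy : 2 ≤ Q ^ m := by
    calc 2 ≤ Q := hQ
      _ = Q ^ 1 := (pow_one Q).symm
      _ ≤ Q ^ m := Nat.pow_le_pow_right (by omega) hm
  have hB : e * Q ^ m + e ≤ (Q ^ m) ^ e + 1 := by
    apply lemB _ _ hy he
    rintro ⟨h2, rfl⟩
    apply hex
    have hm1 : m = 1 := by
      by_contra hne
      have hm2 : 2 ≤ m := by omega
      have : Q ^ 2 ≤ Q ^ m := Nat.pow_le_pow_right (by omega) hm2
      have : 4 ≤ Q ^ 2 := by nlinarith
      omega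
    subst hm1
    rw [pow_one] at h2
    exact ⟨rfl, h2, rfl⟩
  have hpow : (Q ^ m) ^ e = (Q ^ e) ^ m := by
    rw [← pow_mul, ← pow_mul, mul_comm]
  rw [hpow] at hB
  omega

theorem nl1 (d Q e k : ℕ) (hd : 2 ≤ d) (hQ : 2 ≤ Q) (he : 1 ≤ e)
    (hex : ¬ (d = 2 ∧ Q = 2 ∧ e = 2)) (hk : (Q - 1) * k ≤ Q ^ d - 1) :
    (Q ^ e - 1) * (e * k) ≤ (Q ^ e) ^ d - 1 := by
  have hX : 1 ≤ Q ^ e := Nat.one_le_pow _ _ (by omega)
  rw [gs_mul' Q d (by omega)] at hk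
  have hk' : k ≤ gs Q d := Nat.le_of_mul_le_mul_left hk (by omega)
  rw [gs_mul' (Q ^ e) d hX]
  apply Nat.mul_le_mul_left
  calc e * k ≤ e * gs Q d := Nat.mul_le_mul_left _ hk'
    _ ≤ gs (Q ^ e) d := main1 d Q e hd hQ he hex

/-- from `(Q-1) k ≤ Q^d - 1` get `k ≤ 2 Q^(d-1)` -/
theorem k_le (d Q k : ℕ) (hd : 1 ≤ d) (hQ : 2 ≤ Q) (hk : (Q - 1) * k ≤ Q ^ d) :
    k ≤ 2 * Q ^ (d - 1) := by
  obtain ⟨m, rfl⟩ : ∃ m, d = m + 1 := ⟨d - 1, by omega⟩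
  rw [Nat.add_sub_cancel]
  have h1 : Q ^ (m + 1) ≤ (Q - 1) * (2 * Q ^ m) := by
    rw [pow_succ]
    have : Q ≤ (Q - 1) * 2 := by omega
    calc Q ^ m * Q ≤ Q ^ m * ((Q - 1) * 2) := Nat.mul_le_mul_left _ this
      _ = (Q - 1) * (2 * Q ^ m) := by ring
  exact Nat.le_of_mul_le_mul_left (hk.trans h1) (by omega)

theorem nl2 (d Q e k : ℕ) (hd : 3 ≤ d) (hQ : 2 ≤ Q) (he : 2 ≤ e) (hex : 3 ≤ e ∨ 4 ≤ Q)
    (hk : (Q - 1) * k ≤ Q ^ d - 1) :
    (Q ^ e - 1) * (2 * e * k) ≤ (Q ^ e) ^ d - 1 := by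
  have hk' : k ≤ 2 * Q ^ (d - 1) := k_le d Q k (by omega) hQ (hk.trans (Nat.sub_le _ _))
  have hX : 1 ≤ Q ^ e := Nat.one_le_pow _ _ (by omega)
  -- key: 4 e Q^(d-1) ≤ (Q^e)^(d-1)
  have hkey : 4 * e * Q ^ (d - 1) ≤ (Q ^ e) ^ (d - 1) := by
    have h4e : 4 * e ≤ Q ^ ((e - 1) * (d - 1)) := by
      rcases hex with h3 | h4
      · -- e ≥ 3 : 4e ≤ 4^(e-1) ≤ Q^(2(e-1))
        have h1 : 4 * e ≤ 4 ^ (e - 1) := by
          obtain ⟨f, rfl⟩ : ∃ f, e = f + 3 := ⟨e - 3, by omega⟩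
          have : f + 3 - 1 = f + 2 := by omega
          rw [this]
          have hf : f + 1 ≤ 4 ^ f := by
            have h2 := @Nat.lt_two_pow_self f
            have h3 : 2 ^ f ≤ 4 ^ f := Nat.pow_le_pow_left (by norm_num) f
            omega
          rw [pow_add]
          nlinarith
        have h2 : (4 : ℕ) ^ (e - 1) ≤ (Q ^ 2) ^ (e - 1) := by
          apply Nat.pow_le_pow_left
          nlinarith
        have h3 : (Q ^ 2) ^ (e - 1) = Q ^ (2 * (e - 1)) := by rw [← pow_mul]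
        have h4 : Q ^ (2 * (e - 1)) ≤ Q ^ ((e - 1) * (d - 1)) := by
          apply Nat.pow_le_pow_right (by omega)
          rw [mul_comm]
          apply Nat.mul_le_mul_left
          omega
        calc 4 * e ≤ 4 ^ (e - 1) := h1
          _ ≤ (Q ^ 2) ^ (e - 1) := h2
          _ = Q ^ (2 * (e - 1)) := h3
          _ ≤ _ := h4
      · -- Q ≥ 4
        have h1 : e ≤ 2 ^ (e - 1) := by
          have := @Nat.lt_two_pow_self (e - 1)
          omega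
        have h2 : 4 * 2 ^ (e - 1) ≤ 4 ^ (e - 1) * 4 ^ (e - 1) := by
          have h5 : 2 ^ (e - 1) ≤ 4 ^ (e - 1) := Nat.pow_le_pow_left (by norm_num) _
          have h6 : 4 ≤ 4 ^ (e - 1) := by
            calc 4 = 4 ^ 1 := by norm_num
              _ ≤ 4 ^ (e - 1) := Nat.pow_le_pow_right (by norm_num) (by omega)
          exact Nat.mul_le_mul h6 h5
        have h3 : (4 : ℕ) ^ (e - 1) * 4 ^ (e - 1) ≤ Q ^ (e - 1) * Q ^ (e - 1) :=
          Nat.mul_le_mul (Nat.pow_le_pow_left h4 _) (Nat.pow_le_pow_left h4 _)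
        have h4' : Q ^ (e - 1) * Q ^ (e - 1) = Q ^ ((e - 1) * 2) := by
          rw [← pow_add]; congr 1; ring
        have h5 : Q ^ ((e - 1) * 2) ≤ Q ^ ((e - 1) * (d - 1)) := by
          apply Nat.pow_le_pow_right (by omega)
          apply Nat.mul_le_mul_left
          omega
        calc 4 * e ≤ 4 * 2 ^ (e - 1) := Nat.mul_le_mul_left _ h1
          _ ≤ _ := h2
          _ ≤ _ := h3
          _ = _ := h4'
          _ ≤ _ := h5
    have h6 : (Q ^ e) ^ (d - 1) = Q ^ ((e - 1) * (d - 1)) * Q ^ (d - 1) := by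
      rw [← pow_mul, ← pow_add]
      congr 1
      obtain ⟨f, rfl⟩ : ∃ f, e = f + 1 := ⟨e - 1, by omega⟩
      simp only [Nat.add_sub_cancel]
      ring
    rw [h6]
    exact Nat.mul_le_mul_right _ h4e
  have hlast : (Q ^ e - 1) * (Q ^ e) ^ (d - 1) ≤ (Q ^ e) ^ d - 1 := by
    obtain ⟨m, rfl⟩ : ∃ m, d = m + 1 := ⟨d - 1, by omega⟩
    rw [Nat.add_sub_cancel, pow_succ]
    set X := Q ^ e with hXdef
    have hXm : 1 ≤ X ^ m := Nat.one_le_pow _ _ hX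
    obtain ⟨x, hx⟩ : ∃ x, X = x + 1 := ⟨X - 1, by omega⟩
    rw [hx] at hXm ⊢
    rw [Nat.add_sub_cancel]
    have : (x + 1) ^ m * (x + 1) = x * (x + 1) ^ m + (x + 1) ^ m := by ring
    rw [this]
    omega
  calc (Q ^ e - 1) * (2 * e * k)
      ≤ (Q ^ e - 1) * (2 * e * (2 * Q ^ (d - 1))) :=
        Nat.mul_le_mul_left _ (Nat.mul_le_mul_left _ hk')
    _ = (Q ^ e - 1) * (4 * e * Q ^ (d - 1)) := by ring
    _ ≤ (Q ^ e - 1) * (Q ^ e) ^ (d - 1) := Nat.mul_le_mul_left _ hkey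
    _ ≤ _ := hlast

theorem nl3 (d q k : ℕ) (hq : 2 ≤ q) (hd : 6 ≤ d ∨ (4 ≤ d ∧ 3 ≤ q))
    (hk : (q - 1) * k ≤ q ^ ((d + 1) / 2 + 1)) :
    (q - 1) * (2 * k) ≤ q ^ d - 1 := by
  set h := (d + 1) / 2 + 1 with hh
  have hpos : 1 ≤ q ^ h := Nat.one_le_pow _ _ (by omega)
  have h1 : 3 * q ^ h ≤ q ^ d := by
    rcases hd with h6 | ⟨h4, h3⟩
    · have hle : h + 2 ≤ d := by omega
      calc 3 * q ^ h ≤ q ^ 2 * q ^ h := Nat.mul_le_mul_right _ (by nlinarith)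
        _ = q ^ (h + 2) := by rw [pow_add]; ring
        _ ≤ q ^ d := Nat.pow_le_pow_right (by omega) hle
    · have hle : h + 1 ≤ d := by omega
      calc 3 * q ^ h ≤ q * q ^ h := Nat.mul_le_mul_right _ h3
        _ = q ^ (h + 1) := by rw [pow_succ]; ring
        _ ≤ q ^ d := Nat.pow_le_pow_right (by omega) hle
  calc (q - 1) * (2 * k) = 2 * ((q - 1) * k) := by ring
    _ ≤ 2 * q ^ h := Nat.mul_le_mul_left _ hk
    _ ≤ q ^ d - 1 := by omega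

theorem nl4 (d Q k : ℕ) (hd : 3 ≤ d) (hQ : 2 ≤ Q) (hex : ¬ (d = 3 ∧ Q = 2))
    (hk : (Q - 1) * k ≤ Q ^ (d + 1)) :
    (Q ^ 2 - 1) * (2 * k) ≤ (Q ^ 2) ^ d - 1 := by
  have hfac : Q ^ 2 - 1 = (Q + 1) * (Q - 1) := by
    obtain ⟨x, rfl⟩ : ∃ x, Q = x + 1 := ⟨Q - 1, by omega⟩
    simp only [Nat.add_sub_cancel]
    have : (x + 1) ^ 2 = (x + 1 + 1) * x + 1 := by ring
    rw [this, Nat.add_sub_cancel]
  have h1 : (Q ^ 2 - 1) * (2 * k) ≤ 2 * (Q + 1) * Q ^ (d + 1) := by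
    rw [hfac]
    calc (Q + 1) * (Q - 1) * (2 * k) = 2 * (Q + 1) * ((Q - 1) * k) := by ring
      _ ≤ 2 * (Q + 1) * Q ^ (d + 1) := Nat.mul_le_mul_left _ hk
  have hpos : 1 ≤ Q ^ (d + 1) := Nat.one_le_pow _ _ (by omega)
  have h2 : 2 * (Q + 1) * Q ^ (d + 1) + 1 ≤ (Q ^ 2) ^ d := by
    rw [← pow_mul]
    rcases Nat.lt_or_ge d 4 with h4 | h4
    · have hd3 : d = 3 := by omega
      subst hd3
      have hQ3 : 3 ≤ Q := by
        by_contra h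
        exact hex ⟨rfl, by omega⟩
      have h5 : 2 * (Q + 1) + 1 ≤ Q ^ 2 := by nlinarith
      have h4pos : 1 ≤ Q ^ 4 := Nat.one_le_pow _ _ (by omega)
      calc 2 * (Q + 1) * Q ^ (3 + 1) + 1 ≤ 2 * (Q + 1) * Q ^ 4 + Q ^ 4 := by
            have : (3 : ℕ) + 1 = 4 := rfl
            rw [this]; omega
        _ = (2 * (Q + 1) + 1) * Q ^ 4 := by ring
        _ ≤ Q ^ 2 * Q ^ 4 := Nat.mul_le_mul_right _ h5
        _ = Q ^ (2 * 3) := by rw [← pow_add]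
    · have h5 : 2 * (Q + 1) + 1 ≤ Q ^ 3 := by
        have : Q ^ 3 = Q * Q * Q := by ring
        rw [this]
        nlinarith [Nat.mul_le_mul hQ hQ]
      calc 2 * (Q + 1) * Q ^ (d + 1) + 1 ≤ 2 * (Q + 1) * Q ^ (d + 1) + Q ^ (d + 1) := by omega
        _ = (2 * (Q + 1) + 1) * Q ^ (d + 1) := by ring
        _ ≤ Q ^ 3 * Q ^ (d + 1) := Nat.mul_le_mul_right _ h5
        _ = Q ^ (d + 4) := by rw [← pow_add]; congr 1; ring
        _ ≤ Q ^ (2 * d) := Nat.pow_le_pow_right (by omega) (by omega)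
  omega

end Cfsg.Agent.Lib.AutMeoNL
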