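import Mathlib
import Cfsg.Agent.Lib.Helper3.PComp1

set_option autoImplicit false
set_option linter.style.haveILetI false

/-!
Reduction of perfect groups of order `< p ^ 3` to simple groups: a perfect group `X` with
`O_{p'}(X) = 1`, `p ∣ |X|`, `p² ∤ |X|` has a normal subgroup which is a non-cyclic simple group of
order divisible by `p`.
-/

namespace Cfsg.Agent.Lib.Lead.BRP

open Subgroup

section gen
variable {G : Type*} [Group G]

theorem exists_min_card {S : Set (Subgroup G)} (hS : S.Nonempty) :
    ∃ N ∈ S, ∀ M ∈ S, Nat.card N ≤ Nat.card M := by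
  classical
  have hex : ∃ n, ∃ N ∈ S, Nat.card N = n := by
    obtain ⟨N, hN⟩ := hS
    exact ⟨_, N, hN, rfl⟩
  obtain ⟨N, hN, hcard⟩ := Nat.find_spec hex
  refine ⟨N, hN, fun M hM => ?_⟩
  rw [hcard]
  exact Nat.find_min' hex ⟨M, hM, rfl⟩

theorem card_mul_card_dvd_of_inf_eq_bot [Finite G] (A B : Subgroup G) [B.Normal]
    (h : A ⊓ B = ⊥) : Nat.card A * Nat.card B ∣ Nat.card G := by
  have h1 : B.relIndex (A ⊔ B) * Nat.card B = Nat.card (A ⊔ B : Subgroup G) := by
    have := Subgroup.relIndex_mul_relIndex (⊥ : Subgroup G) B (A ⊔ B) bot_le le_sup_right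
    rw [Subgroup.relIndex_bot_left, Subgroup.relIndex_bot_left] at this
    rw [mul_comm]; exact this
  rw [Subgroup.relIndex_sup_right] at h1
  have h3 : B ⊓ A = ⊥ := by rw [inf_comm]; exact h
  have h2 : B.relIndex A = Nat.card A := by
    rw [← Subgroup.inf_relIndex_right, h3, Subgroup.relIndex_bot_left]
  rw [h2] at h1
  rw [h1]
  exact Subgroup.card_subgroup_dvd_card _

end gen

section main
variable {X : Type*} [Group X] [Finite X] {p : ℕ} [hp : Fact p.Prime]

theorem factorization_eq_one (hdvd : p ∣ Nat.card X) (hsq : ¬ p ^ 2 ∣ Nat.card X) :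
    (Nat.card X).factorization p = 1 := by
  have h0 : Nat.card X ≠ 0 := Nat.card_pos.ne'
  have h1 : 1 ≤ (Nat.card X).factorization p :=
    (hp.out.pow_dvd_iff_le_factorization h0).mp (by simpa using hdvd)
  have h2 : ¬ 2 ≤ (Nat.card X).factorization p := fun h =>
    hsq ((hp.out.pow_dvd_iff_le_factorization h0).mpr h)
  omega

/-- a perfect group whose order is divisible by `p` exactly once has no normal subgroup of
order `p` (Burnside's transfer theorem) -/
theorem not_normal_card_prime (hperf : commutator X = ⊤) (hsq : ¬ p ^ 2 ∣ Nat.card X)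
    (N : Subgroup X) [hN : N.Normal] (hcard : Nat.card N = p) : False := by
  have hdvd : p ∣ Nat.card X := hcard ▸ Subgroup.card_subgroup_dvd_card N
  have hcyc : IsCyclic N := isCyclic_of_prime_card hcard
  have hcent : ∀ g : X, ∀ n ∈ N, n * g = g * n := by
    let _ := (hcyc.mulAutMulEquiv _).toMonoidHom.commGroupOfInjective
      (hcyc.mulAutMulEquiv _).injective
    have h := Abelianization.commutator_subset_ker (MulAut.conjNormal (H := N))
    rw [hperf] at h
    intro g n hn
    have hg : g ∈ (MulAut.conjNormal (H := N)).ker := h (mem_top g)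
    rw [MonoidHom.mem_ker] at hg
    have h1 : ((MulAut.conjNormal g (⟨n, hn⟩ : N) : N) : X) = n := by rw [hg]; rfl
    rw [MulAut.conjNormal_apply] at h1
    calc n * g = (g * n * g⁻¹) * g := by rw [h1]
      _ = g * n := by group
  have hfac := factorization_eq_one hdvd hsq
  let P : Sylow p X := Sylow.ofCard N (by rw [hcard, hfac, pow_one])
  have hP : normalizer ((P : Subgroup X) : Set X) ≤ centralizer ((P : Subgroup X) : Set X) := by
    intro x _
    rw [mem_centralizer_iff]
    intro n hn
    exact hcent x n hn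
  have h1 := MonoidHom.not_dvd_card_ker_transferSylow P hP
  have hker : (MonoidHom.transferSylow P hP).ker = ⊤ := by
    rw [eq_top_iff, ← hperf, commutator_def, Subgroup.commutator_le]
    intro a _ b _
    rw [MonoidHom.mem_ker, map_commutatorElement, commutatorElement_eq_one_iff_commute]
    exact Subtype.ext (hP (le_normalizer ((MonoidHom.transferSylow P hP) b).2)
      ((MonoidHom.transferSylow P hP) a) ((MonoidHom.transferSylow P hP) a).2)
  rw [hker, Subgroup.card_top] at h1
  exact h1 hdvd

/-- a perfect group with `O_{p'} = 1` whose order is divisible by `p` exactly once has a normal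
subgroup which is a non-cyclic simple group of order divisible by `p` -/
theorem exists_simple_normal (hperf : commutator X = ⊤) (hdvd : p ∣ Nat.card X)
    (hsq : ¬ p ^ 2 ∣ Nat.card X) (hcore : Cfsg.pPrimeCore p X = ⊥) :
    ∃ N : Subgroup X, N.Normal ∧ IsSimpleGroup N ∧ ¬ IsCyclic N ∧ p ∣ Nat.card N := by
  classical
  have hnt : Nontrivial X := by
    by_contra h
    rw [not_nontrivial_iff_subsingleton] at h
    have h1 : Nat.card X = 1 := Nat.card_unique
    rw [h1] at hdvd
    exact hp.out.one_lt.ne' (Nat.dvd_one.mp hdvd)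
  obtain ⟨N, ⟨hNn, hNne⟩, hNmin⟩ :=
    exists_min_card (G := X) (S := {N : Subgroup X | N.Normal ∧ N ≠ ⊥})
      ⟨⊤, inferInstance, top_ne_bot⟩
  haveI := hNn
  have hpN : p ∣ Nat.card N := by
    by_contra h
    have hc : (Nat.card N).Coprime p :=
      Nat.Coprime.symm ((Nat.Prime.coprime_iff_not_dvd hp.out).mpr h)
    have h1 := Cfsg.Agent.Lib.Helper6.le_pPrimeCore hNn hc
    rw [hcore] at h1
    exact hNne (le_bot_iff.mp h1)
  haveI : Nontrivial N := (Subgroup.nontrivial_iff_ne_bot N).mpr hNne
  obtain ⟨T, ⟨hTn, hTne⟩, hTmin⟩ :=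
    exists_min_card (G := N) (S := {T : Subgroup N | T.Normal ∧ T ≠ ⊥})
      ⟨⊤, inferInstance, top_ne_bot⟩
  haveI := hTn
  have hmapcard : ∀ T' : Subgroup N, Nat.card (T'.map N.subtype) = Nat.card T' := fun T' =>
    Subgroup.card_map_of_injective N.subtype_injective
  have hpT : p ∣ Nat.card T := by
    by_contra h
    have hc : (Nat.card (T.map N.subtype)).Coprime p := by
      rw [hmapcard]
      exact Nat.Coprime.symm ((Nat.Prime.coprime_iff_not_dvd hp.out).mpr h)
    have hsub : (T.map N.subtype).IsSubnormal := hTn.isSubnormal.trans' hNn.isSubnormal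
    have h1 := Cfsg.Agent.Lib.Helper3.le_pPrimeCore_of_isSubnormal hsub hc
    rw [hcore, le_bot_iff, Subgroup.map_eq_bot_iff_of_injective _ N.subtype_injective] at h1
    exact hTne h1
  -- all conjugates of `T` under `X` coincide
  have hconj : ∀ g : X, T.map (MulAut.conjNormal g : N ≃* N).toMonoidHom = T := by
    intro g
    by_contra hne
    set Tg : Subgroup N := T.map (MulAut.conjNormal g : N ≃* N).toMonoidHom with hTg
    have hTgn : Tg.Normal :=
      hTn.map _ (MulAut.conjNormal g : N ≃* N).surjective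
    have hTgcard : Nat.card Tg = Nat.card T :=
      Subgroup.card_map_of_injective (MulAut.conjNormal g : N ≃* N).injective
    have hinf : T ⊓ Tg = ⊥ := by
      by_contra hI
      have hIn : (T ⊓ Tg).Normal := inferInstance
      have h1 : Nat.card T ≤ Nat.card (T ⊓ Tg : Subgroup N) := hTmin _ ⟨hIn, hI⟩
      have h2 : T ⊓ Tg = T := Subgroup.eq_of_le_of_card_ge inf_le_left h1
      have h3 : T ≤ Tg := by rw [← h2]; exact inf_le_right
      exact hne (Subgroup.eq_of_le_of_card_ge h3 hTgcard.le).symm
    have h4 := card_mul_card_dvd_of_inf_eq_bot T Tg hinf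
    rw [hTgcard] at h4
    apply hsq
    calc p ^ 2 = p * p := sq p
      _ ∣ Nat.card T * Nat.card T := Nat.mul_dvd_mul hpT hpT
      _ ∣ Nat.card N := h4
      _ ∣ Nat.card X := Subgroup.card_subgroup_dvd_card N
  -- so the image of `T` is normal in `X`
  have hT₀n : (T.map N.subtype).Normal := by
    constructor
    intro t ht g
    obtain ⟨t', ht', rfl⟩ := ht
    have h1 : (MulAut.conjNormal g : N ≃* N) t' ∈ T := by
      have : (MulAut.conjNormal g : N ≃* N) t' ∈
          T.map (MulAut.conjNormal g : N ≃* N).toMonoidHom := ⟨t', ht', rfl⟩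
      rwa [hconj g] at this
    refine ⟨_, h1, ?_⟩
    rw [Subgroup.coe_subtype, MulAut.conjNormal_apply]
  have hT₀ne : T.map N.subtype ≠ ⊥ := by
    rw [Ne, Subgroup.map_eq_bot_iff_of_injective _ N.subtype_injective]
    exact hTne
  have hTtop : T = ⊤ := by
    have h1 : Nat.card N ≤ Nat.card (T.map N.subtype) := hNmin _ ⟨hT₀n, hT₀ne⟩
    rw [hmapcard] at h1
    exact Subgroup.eq_top_of_card_eq T (le_antisymm (Subgroup.card_le_card_group T) h1)
  have hsimple : IsSimpleGroup N := by
    refine ⟨fun T' hT' => ?_⟩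
    by_cases h : T' = ⊥
    · exact Or.inl h
    · right
      have h1 : Nat.card T ≤ Nat.card T' := hTmin _ ⟨hT', h⟩
      rw [hTtop, Subgroup.card_top] at h1
      exact Subgroup.eq_top_of_card_eq T' (le_antisymm (Subgroup.card_le_card_group T') h1)
  refine ⟨N, hNn, hsimple, ?_, hpN⟩
  intro hcyc
  have hprime : (Nat.card N).Prime := Group.is_simple_iff_prime_card.mp hsimple
  have hcard : Nat.card N = p := ((Nat.prime_dvd_prime_iff_eq hp.out hprime).mp hpN).symm
  exact not_normal_card_prime hperf hsq N hcard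

end main

end Cfsg.Agent.Lib.Lead.BRP
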