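import Mathlib
import Cfsg.Prelude.Def_Blocks
import Cfsg.Agent.Lib.Helper8.BlockLocal
import Cfsg.Agent.Lib.Helper8.PIdem1
import Cfsg.Agent.Lib.Lead.Brandt_B1

/-! S4607 package B5 (DUPLICATE of Lib/Helper3/Brandt_B5, kept in its own namespace, unused): idempotents lift from `kG` to `OG`. -/

set_option autoImplicit false

open Cfsg Cfsg.Agent.Lib.Helper8 Polynomial

namespace Cfsg.Agent.Lib.Lead.BrandtB5Alt

open Cfsg.Agent.Lib.Lead.Brandt

/-- evaluation of a polynomial at an idempotent -/
theorem aeval_idem {k A : Type*} [CommRing k] [Ring A] [Algebra k A] (e : A)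
    (he : IsIdempotentElem e) (q : k[X]) :
    aeval e q = algebraMap k A (q.eval 0) * (1 - e) + algebraMap k A (q.eval 1) * e := by
  induction q using Polynomial.induction_on with
  | C c =>
    simp only [aeval_C, eval_C]
    rw [← mul_add, sub_add_cancel, mul_one]
  | add p q hp hq =>
    rw [map_add, hp, hq, eval_add, eval_add, map_add, map_add]
    noncomm_ring
  | monomial n c _ =>
    simp only [map_mul, aeval_C, map_pow, aeval_X, eval_mul, eval_C, eval_pow, eval_X,
      ne_eq, Nat.add_eq_zero_iff, one_ne_zero, and_false, not_false_eq_true, zero_pow, mul_zero,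
      map_zero, zero_mul, zero_add, one_pow, mul_one]
    rw [he.pow_succ_eq]

variable {M : Ideal AlgInt} {G : Type*} [Group G] [Fintype G]

theorem mapRingHom_surjective {R S : Type*} [Semiring R] [Semiring S] (f : R →+* S)
    (hf : Function.Surjective f) : Function.Surjective (MonoidAlgebra.mapRingHom G f) := by
  classical
  intro x
  refine ⟨∑ g : G, MonoidAlgebra.single g (Function.surjInv hf (x.coeff g)), ?_⟩
  rw [map_sum]
  simp only [MonoidAlgebra.mapRingHom_single, Function.surjInv_eq hf]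
  apply MonoidAlgebra.ext
  ext w
  rw [MonoidAlgebra.coeff_sum, Finset.sum_apply']
  rw [Finset.sum_eq_single w]
  · simp
  · intro b _ hb
    simp [hb]
  · intro h
    exact absurd (Finset.mem_univ w) h

section Aux

variable (hMp : M.IsPrime)

local notation "𝒪" => (localRing M hMp)

theorem exists_lift_idem_aux {k : Type*} [Field k]
    (res : ↥𝒪 →+* k)
    (hres : Function.Surjective res)
    (E : MonoidAlgebra ↥𝒪 G)
    (hE : IsIdempotentElem E)
    (e : MonoidAlgebra k G) (he : IsIdempotentElem e)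
    (heE : e * MonoidAlgebra.mapRingHom G res E = e) :
    ∃ ê : MonoidAlgebra ↥𝒪 G,
      IsIdempotentElem ê ∧ MonoidAlgebra.mapRingHom G res ê = e ∧ ê * E = ê := by
  classical
  set red := MonoidAlgebra.mapRingHom G res with hred
  obtain ⟨a0, ha0⟩ := mapRingHom_surjective (G := G) res hres e
  set a := a0 * E with ha
  have hra : red a = e := by rw [ha, map_mul, ha0, heE]
  have haE : a * E = a := by rw [ha, mul_assoc, hE.eq]
  -- a monic polynomial killing `a`
  obtain ⟨P, hPm, hPa⟩ := IsIntegral.of_finite 𝒪 a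
  set φ : 𝒪 →+* ℂ := (localRing M hMp).subtype with hφ
  set P' : ℂ[X] := P.map φ with hP'
  have hP'm : P'.Monic := hPm.map _
  have hrootO : ∀ μ ∈ P'.roots, μ ∈ 𝒪 := by
    intro μ hμ
    have h1 : P'.eval μ = 0 := (mem_roots hP'm.ne_zero).1 hμ
    rw [hP', eval_map] at h1
    exact memLocalRing_of_isIntegral_localRing hMp ⟨P, hPm, h1⟩
  set d := P.natDegree + 1 with hd
  have hcard : Multiset.card P'.roots ≤ d := by
    have := Polynomial.card_roots' P'
    have h2 : P'.natDegree = P.natDegree := by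
      rw [hP']; exact natDegree_map_eq_of_injective Subtype.val_injective P
    omega
  set Sℂ : Finset ℂ := insert 0 (insert 1 P'.roots.toFinset) with hSℂ
  have hSO : ∀ μ ∈ Sℂ, μ ∈ 𝒪 := by
    intro μ hμ
    rw [hSℂ, Finset.mem_insert, Finset.mem_insert] at hμ
    rcases hμ with rfl | rfl | hμ
    · exact (localRing M hMp).zero_mem
    · exact (localRing M hMp).one_mem
    · exact hrootO μ (Multiset.mem_toFinset.1 hμ)
  set S : Finset 𝒪 := Sℂ.subtype (· ∈ 𝒪) with hS
  have hSmap : S.map (Function.Embedding.subtype _) = Sℂ := Finset.subtype_map_of_mem hSO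
  have hI : ∀ x : 𝒪, x ∉ localIdeal M hMp → IsUnit x := by
    intro x hx
    have hx' : ¬ MemLocalIdeal M (x : ℂ) := fun h => hx ((mem_localIdeal_iff hMp x).2 h)
    have hx0 : (x : ℂ) ≠ 0 := by
      intro h0
      apply hx'
      rw [h0]
      exact memLocalIdeal_zero hMp.ne_top
    rw [isUnit_iff_exists_inv]
    refine ⟨⟨(x : ℂ)⁻¹, memLocalRing_inv x.2 hx'⟩, ?_⟩
    apply Subtype.ext
    simp only [Subring.coe_mul, Subring.coe_one]
    exact mul_inv_cancel₀ hx0
  have h1I : (1 : 𝒪) ∉ localIdeal M hMp := by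
    intro h
    exact not_memLocalIdeal_one hMp ((mem_localIdeal_iff hMp 1).1 h)
  have h0S : (0 : 𝒪) ∈ S := by
    rw [hS, Finset.mem_subtype]
    simp [hSℂ]
  have h1S : (1 : 𝒪) ∈ S := by
    rw [hS, Finset.mem_subtype]
    simp [hSℂ]
  obtain ⟨g, hXg, hg1, hgdvd⟩ := PIdem.exists_poly (localIdeal M hMp) hI h1I S d (by omega) h0S h1S
  obtain ⟨g₁, hg₁⟩ := hXg
  -- `P` divides the annihilating product
  have hprod : (∏ a ∈ S, (X - C a) ^ d : (↥𝒪)[X]).map φ = ∏ μ ∈ Sℂ, (X - C μ) ^ d := by
    rw [Polynomial.map_prod, ← hSmap, Finset.prod_map]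
    refine Finset.prod_congr rfl fun a _ => ?_
    simp [hφ]
  have hPdvd' : P' ∣ ∏ μ ∈ Sℂ, (X - C μ) ^ d := by
    have h1 : P' = ∏ μ ∈ P'.roots.toFinset, (X - C μ) ^ (Multiset.count μ P'.roots) := by
      conv_lhs => rw [(IsAlgClosed.splits P').eq_prod_roots_of_monic hP'm]
      exact Finset.prod_multiset_map_count P'.roots (fun x => X - C x)
    have h2 : (∏ μ ∈ P'.roots.toFinset, (X - C μ) ^ (Multiset.count μ P'.roots))
        ∣ ∏ μ ∈ P'.roots.toFinset, (X - C μ) ^ d :=
      Finset.prod_dvd_prod_of_dvd _ _ fun μ _ =>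
        pow_dvd_pow _ ((Multiset.count_le_card μ P'.roots).trans hcard)
    have h3 : (∏ μ ∈ P'.roots.toFinset, (X - C μ) ^ d) ∣ ∏ μ ∈ Sℂ, (X - C μ) ^ d :=
      Finset.prod_dvd_prod_of_subset _ _ _
        ((Finset.subset_insert _ _).trans (Finset.subset_insert _ _))
    rw [← h1] at h2
    exact h2.trans h3
  have hPdvd : P ∣ ∏ a ∈ S, (X - C a) ^ d := by
    rw [← Polynomial.map_dvd_map φ Subtype.val_injective hPm, hprod]
    exact hPdvd'
  have hann : aeval a (∏ b ∈ S, (X - C b) ^ d : (↥𝒪)[X]) = 0 := by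
    obtain ⟨q, hq⟩ := hPdvd
    rw [hq, map_mul]
    have : aeval a P = 0 := hPa
    rw [this, zero_mul]
  have hidem : aeval a g * aeval a g = aeval a g := by
    obtain ⟨q, hq⟩ := hgdvd
    have h2 : aeval a (g * g - g) = 0 := by
      rw [hq, map_mul, hann, zero_mul]
    rw [map_sub, map_mul, sub_eq_zero] at h2
    exact h2
  refine ⟨aeval a g, hidem, ?_, ?_⟩
  · -- reduction
    have hcomp : red.comp (algebraMap 𝒪 (MonoidAlgebra 𝒪 G)) =
        (algebraMap k (MonoidAlgebra k G)).comp res := by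
      ext c
      simp [hred, MonoidAlgebra.coe_algebraMap]
    have h1 : red (aeval a g) = aeval e (g.map res) := by
      rw [aeval_def, aeval_def, hom_eval₂, hcomp, hra, eval₂_map]
    rw [h1, aeval_idem e he]
    have hg0 : (g.map res).eval 0 = 0 := by
      rw [hg₁, Polynomial.map_mul, eval_mul, Polynomial.map_X, eval_X, zero_mul]
    have hg1' : (g.map res).eval 1 = 1 := by
      rw [← map_one res, eval_map, eval₂_hom, hg1]
    rw [hg0, hg1', map_zero, zero_mul, zero_add, map_one, one_mul]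
  · rw [hg₁, map_mul, aeval_X]
    have hcomm : a * aeval a g₁ = aeval a g₁ * a := by
      have h1 : aeval a (X * g₁) = aeval a (g₁ * X) := by rw [mul_comm]
      rw [map_mul, map_mul, aeval_X] at h1
      exact h1
    rw [hcomm, mul_assoc, haE]

end Aux

/-- **B5**: idempotents lift from `kG` to `OG` (below a given central idempotent `E`) -/
theorem exists_lift_idem {p : ℕ} (hM : IsPModular p M) {k : Type*} [Field k]
    (res : ↥(localRing M (isPModular_isPrime hM)) →+* k)
    (hres : Function.Surjective res) (_hker : ∀ z, res z = 0 ↔ MemLocalIdeal M (z : ℂ))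
    (E : MonoidAlgebra ↥(localRing M (isPModular_isPrime hM)) G)
    (hE : IsIdempotentElem E) (_hEc : ∀ x, E * x = x * E)
    (e : MonoidAlgebra k G) (he : IsIdempotentElem e)
    (heE : e * MonoidAlgebra.mapRingHom G res E = e) :
    ∃ ê : MonoidAlgebra ↥(localRing M (isPModular_isPrime hM)) G,
      IsIdempotentElem ê ∧ MonoidAlgebra.mapRingHom G res ê = e ∧ ê * E = ê :=
  exists_lift_idem_aux (isPModular_isPrime hM) res hres E hE e he heE

end Cfsg.Agent.Lib.Lead.BrandtB5Alt
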