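import Mathlib
import Cfsg.Prelude.Def_Characters
import Cfsg.Agent.Lib.Helper2.BrauerInd
import Cfsg.Agent.S0146

set_option autoImplicit false

namespace Cfsg.Agent.Lib.Lead

open scoped ComplexConjugate

/-- Conjugate symmetry of `classInner`. -/
theorem classInner_eq_conj_swap {G : Type*} [Group G] [Fintype G] (φ ψ : G → ℂ) :
    Cfsg.classInner φ ψ = conj (Cfsg.classInner ψ φ) := by
  unfold Cfsg.classInner
  rw [map_mul, map_inv₀, Complex.conj_natCast, map_sum]
  congr 1
  refine Finset.sum_congr rfl fun g _ => ?_
  rw [map_mul, Complex.conj_conj, mul_comm]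

/-- Brauer's characterization of characters, additive-subgroup version: if the pairings of the
class function `θ` with all linear characters of elementary subgroups lie in the additive
subgroup `S` of `ℂ`, then so does the pairing of `θ` with every character. -/
theorem classInner_mem_of_elementary {G : Type*} [Group G] [Fintype G] (S : AddSubgroup ℂ)
    (θ : G → ℂ) (hθ : Cfsg.IsClassFunction G θ)
    (h : ∀ (E : Subgroup G) (lam : E →* ℂˣ), (∃ p : ℕ, p.Prime ∧ Cfsg.IsElementary p E) →
      (Nat.card E : ℂ)⁻¹ * ∑ᶠ x : E, θ (x : G) * conj ((lam x : ℂˣ) : ℂ) ∈ S)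
    (χ : G → ℂ) (hχ : Cfsg.IsCharacter G χ) : Cfsg.classInner θ χ ∈ S := by
  classical
  -- the functions whose pairing with `θ` lies in `S` form an additive subgroup
  let P : AddSubgroup (G → ℂ) :=
    { carrier := {f | Cfsg.classInner θ f ∈ S}
      zero_mem' := by
        show Cfsg.classInner θ 0 ∈ S
        have : Cfsg.classInner θ (0 : G → ℂ) = 0 := by
          unfold Cfsg.classInner
          simp
        rw [this]
        exact S.zero_mem
      add_mem' := by
        intro f g hf hg
        show Cfsg.classInner θ (f + g) ∈ S
        have : Cfsg.classInner θ (f + g) = Cfsg.classInner θ f + Cfsg.classInner θ g := by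
          unfold Cfsg.classInner
          rw [← mul_add, ← Finset.sum_add_distrib]
          congr 1
          refine Finset.sum_congr rfl fun x _ => ?_
          rw [Pi.add_apply, map_add, mul_add]
        rw [this]
        exact S.add_mem hf hg
      neg_mem' := by
        intro f hf
        show Cfsg.classInner θ (-f) ∈ S
        have : Cfsg.classInner θ (-f) = -Cfsg.classInner θ f := by
          unfold Cfsg.classInner
          rw [← mul_neg, ← Finset.sum_neg_distrib]
          congr 1
          refine Finset.sum_congr rfl fun x _ => ?_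
          rw [Pi.neg_apply, map_neg, mul_neg]
        rw [this]
        exact S.neg_mem hf }
  have hle : Cfsg.Agent.Lib.Helper2.BrauerInd.linSpan (G := G) ≤ P := by
    unfold Cfsg.Agent.Lib.Helper2.BrauerInd.linSpan
    rw [AddSubgroup.closure_le]
    rintro f ⟨E, lam, hE, rfl⟩
    show Cfsg.classInner θ (Cfsg.indFun E (fun e => ((lam e : ℂˣ) : ℂ))) ∈ S
    have : Fintype E := Fintype.ofFinite E
    rw [classInner_eq_conj_swap, Cfsg.Agent.S0146.result E _ θ hθ, ← classInner_eq_conj_swap]
    have hE' := h E lam hE
    rw [finsum_eq_sum_of_fintype] at hE'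
    unfold Cfsg.classInner
    exact hE'
  exact hle (Cfsg.Agent.Lib.Helper2.BrauerInd.char_mem_linSpan hχ)

end Cfsg.Agent.Lib.Lead
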