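import Mathlib
import Cfsg.Agent.Lib.Helper6.C2Max.Defs

set_option autoImplicit false
set_option linter.unusedSectionVars false

/-!
# S5634 PK-F1 (core): a column of a non-monomial element of `K` has at most one zero

`K` contains the monomial matrices of determinant one, and every element of `K` with a monomial
column is monomial (PK-D3, here a hypothesis `hmono`).
-/

namespace Cfsg.Agent.Lib.Helper6.C2Max

open Matrix

namespace PkF1Lead

variable {F : Type*} [Field F] {ι : Type*} [Fintype ι] [DecidableEq ι]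

/-- the diagonal of `dmat` -/
def dd (a b : ι) (ε : F) (i : ι) : F := if i = a then ε else if i = b then ε⁻¹ else 1

theorem dmat_eq (a b : ι) (ε : F) : dmat a b ε = Matrix.diagonal (dd a b ε) := rfl

theorem det_dmat {a b : ι} (hab : a ≠ b) {ε : F} (hε : ε ≠ 0) : (dmat a b ε).det = 1 := by
  rw [dmat_eq, Matrix.det_diagonal, Fintype.prod_eq_mul a b hab]
  · unfold dd
    rw [if_pos rfl, if_neg hab.symm, if_pos rfl, mul_inv_cancel₀ hε]
  · intro x hx
    unfold dd
    rw [if_neg hx.1, if_neg hx.2]

/-- `dmat` as an element of `SL` -/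
def dSL {a b : ι} (hab : a ≠ b) {ε : F} (hε : ε ≠ 0) : SpecialLinearGroup ι F :=
  ⟨dmat a b ε, det_dmat hab hε⟩

theorem isMono_diagonal (f : ι → F) : IsMono (Matrix.diagonal f) := by
  refine ⟨1, fun r c h => ?_⟩
  by_contra hne
  exact h (Matrix.diagonal_apply_ne' f (fun h' => hne h'.symm))

/-- the cubic annihilating `dmat` -/
theorem dd_cubic {a b : ι} {ε : F} (hε : ε ≠ 0) (i : ι) :
    dd a b ε i * dd a b ε i * dd a b ε i - (1 + ε + ε⁻¹) * (dd a b ε i * dd a b ε i) +
      (1 + ε + ε⁻¹) * dd a b ε i - 1 = 0 := by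
  unfold dd
  split_ifs
  · field_simp
    ring
  · field_simp
    ring
  · ring

theorem dmat_cubic {a b : ι} {ε : F} (hε : ε ≠ 0) :
    dmat a b ε * dmat a b ε * dmat a b ε - (1 + ε + ε⁻¹) • (dmat a b ε * dmat a b ε) +
      (1 + ε + ε⁻¹) • dmat a b ε - 1 = 0 := by
  rw [dmat_eq, Matrix.diagonal_mul_diagonal, Matrix.diagonal_mul_diagonal]
  ext i j
  by_cases hij : i = j
  · subst hij
    simp only [Matrix.sub_apply, Matrix.add_apply, Matrix.smul_apply, Matrix.diagonal_apply_eq,
      Matrix.one_apply_eq, smul_eq_mul, Matrix.zero_apply]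
    exact dd_cubic hε i
  · simp [Matrix.diagonal_apply_ne _ hij, Matrix.one_apply_ne hij]

section monomial

variable {M : Matrix ι ι F} {σ : Equiv.Perm ι} (hM : ∀ r c, M r c ≠ 0 → r = σ c)

include hM

theorem mul_mono_apply (X : Matrix ι ι F) (i c : ι) : (X * M) i c = X i (σ c) * M (σ c) c := by
  rw [Matrix.mul_apply]
  refine Finset.sum_eq_single (σ c) (fun s _ hs => ?_) (fun h => absurd (Finset.mem_univ _) h)
  have : M s c = 0 := by
    by_contra h
    exact hs (hM s c h)
  rw [this, mul_zero]

theorem mono_apply (r c : ι) : M r c = if r = σ c then M (σ c) c else 0 := by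
  split_ifs with h
  · rw [h]
  · by_contra h'
    exact h (hM r c h')

end monomial

section core

variable {F : Type*} [Field F] [Fintype F] {ι : Type*} [Fintype ι] [DecidableEq ι]

/-- an element of order at least `4` -/
theorem exists_eps (hq : 5 ≤ Fintype.card F) : ∃ ε : F, ε ≠ 0 ∧ ε ^ 2 ≠ 1 ∧ ε ^ 3 ≠ 1 := by
  classical
  obtain ⟨g, hg⟩ := IsCyclic.exists_generator (α := Fˣ)
  have hord : orderOf g = Fintype.card F - 1 := by
    rw [orderOf_eq_card_of_forall_mem_zpowers hg, Nat.card_eq_fintype_card, Fintype.card_units]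
  refine ⟨g, g.ne_zero, ?_, ?_⟩
  · intro h
    have h1 : g ^ 2 = 1 := Units.ext (by simpa using h)
    have h2 := orderOf_dvd_of_pow_eq_one h1
    rw [hord] at h2
    have h3 := Nat.le_of_dvd (by norm_num) h2
    omega
  · intro h
    have h1 : g ^ 3 = 1 := Units.ext (by simpa using h)
    have h2 := orderOf_dvd_of_pow_eq_one h1
    rw [hord] at h2
    have h3 := Nat.le_of_dvd (by norm_num) h2
    omega

theorem struct (hq : 5 ≤ Fintype.card F) {K : Subgroup (SpecialLinearGroup ι F)} (hK : Over K)
    (hmono : ∀ g : SpecialLinearGroup ι F, g ∈ K → ∀ j j' : ι,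
      (∀ r, r ≠ j' → g.1 r j = 0) → IsMono g.1)
    (y : SpecialLinearGroup ι F) (hy : y ∈ K) (hnm : ¬ IsMono y.1) (j a b : ι) (hab : a ≠ b)
    (ha : y.1 a j = 0) (hb : y.1 b j = 0) :
    (∀ c, (y.1 a c = 0 ∧ y.1 b c = 0) ∨ (∀ i, i ≠ a → i ≠ b → y.1 i c = 0)) ∧
    (∃ c, y.1 a c ≠ 0 ∧ y.1 b c ≠ 0 ∧ ∀ i, i ≠ a → i ≠ b → y.1 i c = 0) := by
  obtain ⟨ε, hε, hε2, hε3⟩ := exists_eps (F := F) hq
  have hε1 : ε ≠ 1 := by
    rintro rfl
    exact hε2 (one_pow 2)
  have hεinv : ε ≠ ε⁻¹ := by
    intro h
    apply hε2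
    rw [pow_two]
    nth_rewrite 2 [h]
    exact mul_inv_cancel₀ hε
  have hεinv1 : ε⁻¹ ≠ 1 := by
    intro h
    exact hε1 (inv_eq_one.1 h)
  obtain ⟨s1, hs1⟩ : ∃ s1 : F, s1 = 1 + ε + ε⁻¹ := ⟨_, rfl⟩
  -- the matrices
  have hDK : dSL hab hε ∈ K := hK _ (by
    show IsMono (dmat a b ε)
    rw [dmat_eq]
    exact isMono_diagonal _)
  have hm'K : y⁻¹ * dSL hab hε * y ∈ K := K.mul_mem (K.mul_mem (K.inv_mem hy) hDK) hy
  obtain ⟨Y, hY⟩ : ∃ Y : Matrix ι ι F, Y = y.1 := ⟨_, rfl⟩
  obtain ⟨Yi, hYi⟩ : ∃ Yi : Matrix ι ι F, Yi = (y⁻¹).1 := ⟨_, rfl⟩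
  obtain ⟨D, hD⟩ : ∃ D : Matrix ι ι F, D = dmat a b ε := ⟨_, rfl⟩
  obtain ⟨M, hMdef⟩ : ∃ M : Matrix ι ι F, M = (y⁻¹ * dSL hab hε * y).1 := ⟨_, rfl⟩
  have hM : M = Yi * D * Y := by
    rw [hMdef, hYi, hD, hY]
    rfl
  have hYYi : Y * Yi = 1 := by
    rw [hY, hYi]
    exact congrArg Subtype.val (mul_inv_cancel y)
  have hYiY : Yi * Y = 1 := by
    rw [hY, hYi]
    exact congrArg Subtype.val (inv_mul_cancel y)
  have hDY : ∀ i c, (D * Y) i c = dd a b ε i * Y i c := by
    intro i c
    rw [hD, dmat_eq, Matrix.diagonal_mul]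
  -- column j of M
  have hcolj : ∀ r, r ≠ j → M r j = 0 := by
    intro r hr
    have h1 : ∀ i, (D * Y) i j = Y i j := by
      intro i
      rw [hDY]
      unfold dd
      split_ifs with h1 h2
      · rw [h1, hY, ha, mul_zero]
      · rw [h2, hY, hb, mul_zero]
      · rw [one_mul]
    rw [hM, Matrix.mul_assoc, Matrix.mul_apply, Finset.sum_congr rfl (fun i _ => by rw [h1 i]),
      ← Matrix.mul_apply, hYiY, Matrix.one_apply_ne hr]
  obtain ⟨σ, hσ⟩ := hmono _ hm'K j j (by rw [← hMdef]; exact hcolj)
  rw [← hMdef] at hσ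
  obtain ⟨lam, hlam⟩ : ∃ lam : ι → F, lam = fun c => M (σ c) c := ⟨_, rfl⟩
  have hlam' : ∀ c, M (σ c) c = lam c := fun c => by rw [hlam]
  have hYM : Y * M = D * Y := by
    rw [hM, ← Matrix.mul_assoc, ← Matrix.mul_assoc, hYYi, Matrix.one_mul]
  have hR : ∀ i c, Y i (σ c) * lam c = dd a b ε i * Y i c := by
    intro i c
    have := congrFun (congrFun hYM i) c
    rw [mul_mono_apply hσ, hDY, hlam'] at this
    exact this
  have hlam0 : ∀ c, lam c ≠ 0 := by
    intro c h
    have h1 : ((y⁻¹ * dSL hab hε * y)⁻¹).1 * M = 1 := by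
      rw [hMdef]
      exact congrArg Subtype.val (inv_mul_cancel (y⁻¹ * dSL hab hε * y))
    have h2 := congrFun (congrFun h1 c) c
    rw [mul_mono_apply hσ, hlam', h, mul_zero, Matrix.one_apply_eq] at h2
    exact zero_ne_one h2
  -- the cubic
  have hcubic : M * M * M - s1 • (M * M) + s1 • M - 1 = 0 := by
    have h2 : M * M = Yi * (D * D) * Y := by
      calc M * M = Yi * D * (Y * Yi) * D * Y := by rw [hM]; simp only [Matrix.mul_assoc]
        _ = _ := by rw [hYYi, Matrix.mul_one]; simp only [Matrix.mul_assoc]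
    have h3 : M * M * M = Yi * (D * D * D) * Y := by
      calc M * M * M = Yi * (D * D) * (Y * Yi) * D * Y := by
            rw [h2, hM]; simp only [Matrix.mul_assoc]
        _ = _ := by rw [hYYi, Matrix.mul_one]; simp only [Matrix.mul_assoc]
    have h0 : Yi * (D * D * D - s1 • (D * D) + s1 • D - 1) * Y = 0 := by
      rw [hD, hs1, dmat_cubic hε, Matrix.mul_zero, Matrix.zero_mul]
    rw [← h0, h3, h2, hM]
    simp only [Matrix.mul_sub, Matrix.sub_mul, Matrix.mul_add, Matrix.add_mul, Matrix.mul_smul,
      Matrix.smul_mul, Matrix.mul_one, hYiY]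
  have hE : ∀ r c, M r (σ (σ c)) * lam (σ c) * lam c - s1 * (M r (σ c) * lam c) + s1 * M r c -
      (1 : Matrix ι ι F) r c = 0 := by
    intro r c
    have := congrFun (congrFun hcubic r) c
    simp only [Matrix.sub_apply, Matrix.add_apply, Matrix.smul_apply, smul_eq_mul,
      Matrix.zero_apply] at this
    rw [mul_mono_apply hσ (M * M), mul_mono_apply hσ M, mul_mono_apply hσ M r c, hlam', hlam'] at this
    exact this
  -- cycles of length > 1
  have hcyc : ∀ c, σ c ≠ c → σ (σ c) = c ∧ lam (σ c) * lam c = -1 ∧ (2 : F) ≠ 0 := by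
    intro c hc
    have hM0 : ∀ r c', r ≠ σ c' → M r c' = 0 := by
      intro r c' h
      by_contra h'
      exact h (hσ r c' h')
    by_cases h2 : σ (σ c) = c
    · have e1 := hE c c
      have e2 := hE (σ c) c
      rw [h2, hM0 c c (fun h => hc h.symm), Matrix.one_apply_eq] at e1
      have hMc : M c (σ c) = lam (σ c) := by
        have := hlam' (σ c)
        rw [h2] at this
        exact this
      rw [hMc] at e1
      rw [h2, hlam', hM0 (σ c) (σ c) (fun h => hc (by rw [h2] at h; exact h)),
        Matrix.one_apply_ne hc] at e2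
      -- e1 : 0 * .. - s1 * (lam (σ c) * lam c) + s1 * 0 - 1 = 0 ; e2 : lam c * lam (σ c) * lam c - s1 * (0 * lam c) + s1 * lam c - 0 = 0
      have hΛ : lam (σ c) * lam c = -s1 := by
        have : lam c * (lam (σ c) * lam c + s1) = 0 := by linear_combination e2
        rcases mul_eq_zero.1 this with h | h
        · exact absurd h (hlam0 c)
        · linear_combination h
      have hs : s1 * s1 = 1 := by
        rw [hΛ] at e1
        linear_combination e1
      have hs' : s1 = 1 := by
        have : (s1 - 1) * (s1 + 1) = 0 := by linear_combination hs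
        rcases mul_eq_zero.1 this with h | h
        · linear_combination h
        · exfalso
          -- ε + ε⁻¹ = -2, so (ε + 1)^2 = 0
          have h1 : (ε + 1) * (ε + 1) = 0 := by
            have : ε * (s1 + 1) = 0 := by rw [h, mul_zero]
            rw [hs1] at this
            have h' : ε * ε⁻¹ = 1 := mul_inv_cancel₀ hε
            linear_combination this - h'
          have h3 : ε + 1 = 0 := by
            rcases mul_eq_zero.1 h1 with h | h <;> exact h
          apply hε2
          have : ε = -1 := by linear_combination h3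
          rw [this]
          norm_num
      refine ⟨h2, by rw [hΛ, hs'], ?_⟩
      -- 2 ≠ 0
      intro h20
      apply hε2
      have h' : ε * ε⁻¹ = 1 := mul_inv_cancel₀ hε
      have h4 : ε * (s1 - 1) = 0 := by rw [hs', sub_self, mul_zero]
      rw [hs1] at h4
      -- ε^2 + 1 = 0 and 2 = 0
      linear_combination h4 - h' - h20
    · exfalso
      have e3 := hE (σ (σ c)) c
      rw [hM0 (σ (σ c)) (σ (σ c)) (fun h => hc (σ.injective (σ.injective h)).symm),
        hlam', hM0 (σ (σ c)) c (fun h => hc (σ.injective h)), Matrix.one_apply_ne h2] at e3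
      have hs0 : s1 = 0 := by
        have : s1 * (lam (σ c) * lam c) = 0 := by linear_combination (-1 : F) * e3
        rcases mul_eq_zero.1 this with h | h
        · exact h
        · exact absurd h (mul_ne_zero (hlam0 _) (hlam0 _))
      apply hε3
      have h' : ε * ε⁻¹ = 1 := mul_inv_cancel₀ hε
      have h4 : ε * s1 = 0 := by rw [hs0, mul_zero]
      rw [hs1] at h4
      linear_combination (ε - 1) * h4 - (ε - 1) * h'
  -- fixed points
  have hfix : ∀ c, σ c = c → Y a c = 0 ∧ Y b c = 0 := by
    intro c hc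
    have hRc : ∀ i, Y i c * lam c = dd a b ε i * Y i c := by
      intro i
      have := hR i c
      rw [hc] at this
      exact this
    constructor
    · by_contra hne
      have hl : lam c = ε := by
        have := hRc a
        unfold dd at this
        rw [if_pos rfl] at this
        have h1 : Y a c * (lam c - ε) = 0 := by linear_combination this
        rcases mul_eq_zero.1 h1 with h | h
        · exact absurd h hne
        · linear_combination h
      apply hnm
      apply hmono y hy c a
      intro r hr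
      have := hRc r
      rw [hl] at this
      unfold dd at this
      rw [if_neg hr] at this
      rw [← hY]
      split_ifs at this with h2
      · have h1 : Y r c * (ε - ε⁻¹) = 0 := by linear_combination this
        rcases mul_eq_zero.1 h1 with h | h
        · exact h
        · exact absurd (by linear_combination h) hεinv
      · have h1 : Y r c * (ε - 1) = 0 := by linear_combination this
        rcases mul_eq_zero.1 h1 with h | h
        · exact h
        · exact absurd (by linear_combination h) hε1
    · by_contra hne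
      have hl : lam c = ε⁻¹ := by
        have := hRc b
        unfold dd at this
        rw [if_neg hab.symm, if_pos rfl] at this
        have h1 : Y b c * (lam c - ε⁻¹) = 0 := by linear_combination this
        rcases mul_eq_zero.1 h1 with h | h
        · exact absurd h hne
        · linear_combination h
      apply hnm
      apply hmono y hy c b
      intro r hr
      have := hRc r
      rw [hl] at this
      unfold dd at this
      rw [← hY]
      by_cases hra : r = a
      · rw [if_pos hra] at this
        have h1 : Y r c * (ε⁻¹ - ε) = 0 := by linear_combination this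
        rcases mul_eq_zero.1 h1 with h | h
        · exact h
        · exact absurd (by linear_combination (-1 : F) * h) hεinv
      · rw [if_neg hra, if_neg hr] at this
        have h1 : Y r c * (ε⁻¹ - 1) = 0 := by linear_combination this
        rcases mul_eq_zero.1 h1 with h | h
        · exact h
        · exact absurd (by linear_combination h) hεinv1
  -- moved points
  have hmoved : ∀ c, σ c ≠ c → Y a c ≠ 0 ∧ Y b c ≠ 0 ∧ ∀ i, i ≠ a → i ≠ b → Y i c = 0 := by
    intro c hc
    obtain ⟨h2, hΛ, h20⟩ := hcyc c hc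
    have hsupp : ∀ i, i ≠ a → i ≠ b → Y i c = 0 := by
      intro i hia hib
      have e1 := hR i c
      have e2 := hR i (σ c)
      rw [h2] at e2
      unfold dd at e1 e2
      rw [if_neg hia, if_neg hib, one_mul] at e1 e2
      -- e2 : Y i c * lam (σ c) = Y i (σ c) ; e1 : Y i (σ c) * lam c = Y i c
      have h3 : Y i c * (lam (σ c) * lam c) = Y i c := by
        rw [← mul_assoc, e2, e1]
      rw [hΛ] at h3
      have h4 : (2 : F) * Y i c = 0 := by linear_combination (-1 : F) * h3
      rcases mul_eq_zero.1 h4 with h | h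
      · exact absurd h h20
      · exact h
    refine ⟨?_, ?_, hsupp⟩
    · intro h0
      apply hnm
      apply hmono y hy c b
      intro r hr
      rw [← hY]
      by_cases hra : r = a
      · rw [hra, h0]
      · exact hsupp r hra hr
    · intro h0
      apply hnm
      apply hmono y hy c a
      intro r hr
      rw [← hY]
      by_cases hrb : r = b
      · rw [hrb, h0]
      · exact hsupp r hr hrb
  rw [← hY]
  constructor
  · intro c
    by_cases hc : σ c = c
    · exact Or.inl (hfix c hc)
    · exact Or.inr (hmoved c hc).2.2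
  · by_contra hno
    have hall : ∀ c, σ c = c := by
      intro c
      by_contra hc
      exact hno ⟨c, hmoved c hc⟩
    have h1 := congrFun (congrFun hYYi a) a
    rw [Matrix.mul_apply, Matrix.one_apply_eq,
      Finset.sum_congr rfl (fun c _ => by rw [(hfix c (hall c)).1, zero_mul]),
      Finset.sum_const_zero] at h1
    exact zero_ne_one h1

/-- PK-F1 with PK-D3 as a hypothesis -/
theorem col_zero_unique_core (h13 : 13 ≤ Fintype.card ι) (hq : 5 ≤ Fintype.card F)
    {K : Subgroup (SpecialLinearGroup ι F)} (hK : Over K)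
    (hmono : ∀ g : SpecialLinearGroup ι F, g ∈ K → ∀ j j' : ι,
      (∀ r, r ≠ j' → g.1 r j = 0) → IsMono g.1)
    (y : SpecialLinearGroup ι F) (hy : y ∈ K) (hnm : ¬ IsMono y.1) (j a b : ι) (hab : a ≠ b)
    (ha : y.1 a j = 0) (hb : y.1 b j = 0) : False := by
  obtain ⟨-, r, -, -, hr⟩ := struct hq hK hmono y hy hnm j a b hab ha hb
  have hcard : 2 < (Finset.univ \ {a, b} : Finset ι).card := by
    have h1 : (Finset.univ \ {a, b} : Finset ι).card = Fintype.card ι - ({a, b} : Finset ι).card := by
      rw [Finset.card_sdiff_of_subset (Finset.subset_univ _), Finset.card_univ]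
    have h2 : ({a, b} : Finset ι).card ≤ 2 := Finset.card_le_two
    omega
  obtain ⟨a', ha', b', hb', b'', hb'', h12, h13', h23⟩ := Finset.two_lt_card.1 hcard
  simp only [Finset.mem_sdiff, Finset.mem_univ, Finset.mem_insert, Finset.mem_singleton, not_or,
    true_and] at ha' hb' hb''
  have z1 : y.1 a' r = 0 := hr a' ha'.1 ha'.2
  have z2 : y.1 b' r = 0 := hr b' hb'.1 hb'.2
  have z3 : y.1 b'' r = 0 := hr b'' hb''.1 hb''.2
  obtain ⟨hS1, -⟩ := struct hq hK hmono y hy hnm r a' b' h12 z1 z2
  obtain ⟨-, c, hc1, hc2, -⟩ := struct hq hK hmono y hy hnm r a' b'' h13' z1 z3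
  rcases hS1 c with h | h
  · exact hc1 h.1
  · exact hc2 (h b'' (Ne.symm h13') (Ne.symm h23))

end core

end PkF1Lead

end Cfsg.Agent.Lib.Helper6.C2Max
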