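import Mathlib

set_option autoImplicit false

/-!
# Camina–Herzog: groups in which every `2`-element is centralized by a Sylow `2`-subgroup (part 1)

Basic facts: conjugates, `2`-elements normalizing a Sylow subgroup, inverted `2`-elements.
-/

namespace Cfsg.Agent.Lib.Lead.CamHerz

open scoped Pointwise

/-- every `2`-element is centralized by some Sylow `2`-subgroup -/
def Hyp (G : Type*) [Group G] : Prop :=
  ∀ x : G, (∃ k : ℕ, orderOf x = 2 ^ k) →
    ∃ Q : Sylow 2 G, (Q : Subgroup G) ≤ Subgroup.centralizer ({x} : Set G)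

variable {G : Type*} [Group G]

theorem mem_cj (g x : G) (H : Subgroup G) : x ∈ MulAut.conj g • H ↔ g⁻¹ * x * g ∈ H := by
  rw [Subgroup.mem_pointwise_smul_iff_inv_smul_mem, MulAut.smul_def, ← map_inv,
    MulAut.conj_apply, inv_inv]

theorem cj_mem (g : G) {x : G} {H : Subgroup G} (hx : x ∈ H) :
    g * x * g⁻¹ ∈ MulAut.conj g • H := by
  rw [mem_cj]
  have : g⁻¹ * (g * x * g⁻¹) * g = x := by group
  rw [this]
  exact hx

theorem cj_le_iff (g : G) (H K : Subgroup G) :
    MulAut.conj g • H ≤ K ↔ ∀ x ∈ H, g * x * g⁻¹ ∈ K := by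
  constructor
  · intro h x hx
    exact h (cj_mem g hx)
  · intro h x hx
    rw [mem_cj] at hx
    have := h _ hx
    have e : g * (g⁻¹ * x * g) * g⁻¹ = x := by group
    rwa [e] at this

theorem mem_centralizer_singleton_iff {x g : G} :
    g ∈ Subgroup.centralizer ({x} : Set G) ↔ x * g = g * x := by
  rw [Subgroup.mem_centralizer_iff]
  simp

section fin
variable [Finite G]

theorem card_cj (g : G) (H : Subgroup G) : Nat.card ↥(MulAut.conj g • H) = Nat.card H := by
  rw [Subgroup.pointwise_smul_def]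
  exact Nat.card_congr (H.equivMapOfInjective _ (MulAut.conj g).injective).symm.toEquiv

/-- a conjugate contained in the subgroup equals it -/
theorem cj_eq_of_le (g : G) (H : Subgroup G) (h : MulAut.conj g • H ≤ H) :
    MulAut.conj g • H = H :=
  Subgroup.eq_of_le_of_card_ge h (by rw [card_cj])

theorem two_elt_of_mem (S : Sylow 2 G) {x : G} (hx : x ∈ (S : Subgroup G)) :
    ∃ k : ℕ, orderOf x = 2 ^ k := by
  obtain ⟨k, hk⟩ := (IsPGroup.iff_orderOf.mp S.isPGroup') ⟨x, hx⟩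
  exact ⟨k, by rw [← hk, Subgroup.orderOf_mk]⟩

theorem isPGroup_zpowers {x : G} (hx : ∃ k : ℕ, orderOf x = 2 ^ k) :
    IsPGroup 2 (Subgroup.zpowers x) := by
  obtain ⟨k, hk⟩ := hx
  apply IsPGroup.of_card (n := k)
  rw [Nat.card_zpowers, hk]

/-- a `2`-element normalizing a Sylow `2`-subgroup lies in it -/
theorem mem_of_mem_normalizer (Q : Sylow 2 G) {x : G} (hx : ∃ k : ℕ, orderOf x = 2 ^ k)
    (hn : x ∈ Subgroup.normalizer ((Q : Subgroup G) : Set G)) : x ∈ (Q : Subgroup G) := by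
  have h1 := (isPGroup_zpowers hx).inf_normalizer_sylow Q
  have h2 : x ∈ Subgroup.zpowers x ⊓ Subgroup.normalizer (Q : Set G) :=
    ⟨Subgroup.mem_zpowers x, hn⟩
  rw [h1] at h2
  exact h2.2

/-- a `2`-element centralized by a Sylow `2`-subgroup lies in it -/
theorem mem_of_le_centralizer (Q : Sylow 2 G) {x : G} (hx : ∃ k : ℕ, orderOf x = 2 ^ k)
    (hc : (Q : Subgroup G) ≤ Subgroup.centralizer ({x} : Set G)) : x ∈ (Q : Subgroup G) := by
  apply mem_of_mem_normalizer Q hx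
  rw [Subgroup.mem_normalizer_iff]
  intro q
  constructor
  · intro hq
    have := mem_centralizer_singleton_iff.mp (hc hq)
    have e : x * q * x⁻¹ = q := by rw [this]; group
    rw [e]; exact hq
  · intro hq
    have := mem_centralizer_singleton_iff.mp (hc hq)
    have e : x * q * x⁻¹ = q := by
      have h2 : x * (x * q * x⁻¹) = x * q := by
        rw [this]; group
      exact mul_left_cancel h2
    rw [← e]; exact hq

/-- a finite-group criterion for membership in the normalizer -/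
theorem mem_normalizer_of_cj_le (n : G) (H : Subgroup G) (h : ∀ x ∈ H, n * x * n⁻¹ ∈ H) :
    n ∈ Subgroup.normalizer (H : Set G) := by
  have heq : MulAut.conj n • H = H := cj_eq_of_le n H ((cj_le_iff n H H).mpr h)
  rw [Subgroup.mem_normalizer_iff]
  intro x
  constructor
  · exact h x
  · intro hx
    have : n * x * n⁻¹ ∈ MulAut.conj n • H := by rw [heq]; exact hx
    rw [mem_cj] at this
    have e : n⁻¹ * (n * x * n⁻¹) * n = x := by group
    rwa [e] at this

/-- a `2`-subgroup of `M` lies in an `M`-conjugate of a Sylow `2`-subgroup of `G` inside `M` -/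
theorem le_cj_sylow_in (S : Sylow 2 G) (M Q : Subgroup G) (hSM : (S : Subgroup G) ≤ M)
    (hQM : Q ≤ M) (hQ : IsPGroup 2 Q) :
    ∃ n ∈ M, Q ≤ MulAut.conj n • (S : Subgroup G) := by
  let SM : Sylow 2 M := Sylow.subtype S hSM
  have hQ' : IsPGroup 2 (Q.subgroupOf M) := hQ.comap_subtype
  obtain ⟨Q', hQ'le⟩ := hQ'.exists_le_sylow
  obtain ⟨n, hn⟩ := MulAction.exists_smul_eq M SM Q'
  refine ⟨n, n.2, ?_⟩
  intro x hx
  have h1 : (⟨x, hQM hx⟩ : M) ∈ (Q' : Subgroup M) := hQ'le (Subgroup.mem_subgroupOf.mpr hx)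
  rw [← hn, Sylow.coe_subgroup_smul, mem_cj] at h1
  rw [mem_cj]
  have h2 : (n⁻¹ * ⟨x, hQM hx⟩ * n : M) ∈ (S : Subgroup G).subgroupOf M := h1
  rw [Subgroup.mem_subgroupOf] at h2
  simpa using h2

omit [Finite G] in
theorem conj_pow_inv_of_odd {n c : G} (h : n * c * n⁻¹ = c⁻¹) {r : ℕ} (hr : Odd r) :
    n ^ r * c * (n ^ r)⁻¹ = c⁻¹ := by
  have key : ∀ j : ℕ, n ^ (2 * j) * c * (n ^ (2 * j))⁻¹ = c := by
    intro j
    induction j with
    | zero => simp
    | succ j ih =>
      have e : n ^ (2 * (j + 1)) = n * n * n ^ (2 * j) := by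
        rw [show 2 * (j + 1) = 2 + 2 * j by ring, pow_add, pow_two]
      rw [e]
      have : n * n * n ^ (2 * j) * c * (n * n * n ^ (2 * j))⁻¹ =
          n * (n * (n ^ (2 * j) * c * (n ^ (2 * j))⁻¹) * n⁻¹) * n⁻¹ := by group
      rw [this, ih, h]
      have h2 : n * c⁻¹ * n⁻¹ = (n * c * n⁻¹)⁻¹ := by group
      rw [h2, h, inv_inv]
  obtain ⟨j, rfl⟩ := hr
  have e : n ^ (2 * j + 1) = n * n ^ (2 * j) := by rw [pow_succ']
  rw [e]
  have : n * n ^ (2 * j) * c * (n * n ^ (2 * j))⁻¹ =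
      n * (n ^ (2 * j) * c * (n ^ (2 * j))⁻¹) * n⁻¹ := by group
  rw [this, key, h]

/-- under `Hyp`, a `2`-element conjugate to its inverse is an involution (or trivial) -/
theorem inv_eq_self (hyp : Hyp G) {c a : G} (hc : ∃ k : ℕ, orderOf c = 2 ^ k)
    (hac : a * c * a⁻¹ = c⁻¹) : c⁻¹ = c := by
  obtain ⟨Q, hQ⟩ := hyp c hc
  have hcQ : c ∈ (Q : Subgroup G) := mem_of_le_centralizer Q hc hQ
  -- the conjugate `a Q a⁻¹` centralizes `c`
  have hR : MulAut.conj a • (Q : Subgroup G) ≤ Subgroup.centralizer ({c} : Set G) := by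
    rw [cj_le_iff]
    intro q hq
    have h1 := mem_centralizer_singleton_iff.mp (hQ hq)
    rw [mem_centralizer_singleton_iff]
    -- `a q a⁻¹` commutes with `a c a⁻¹ = c⁻¹`
    have h2 : (a * c * a⁻¹) * (a * q * a⁻¹) = (a * q * a⁻¹) * (a * c * a⁻¹) := by
      have : (a * c * a⁻¹) * (a * q * a⁻¹) = a * (c * q) * a⁻¹ := by group
      rw [this, h1]; group
    rw [hac] at h2
    -- from commuting with `c⁻¹` to commuting with `c`
    have h3 : c * (c⁻¹ * (a * q * a⁻¹)) * c = c * ((a * q * a⁻¹) * c⁻¹) * c := by rw [h2]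
    have e1 : c * (c⁻¹ * (a * q * a⁻¹)) * c = (a * q * a⁻¹) * c := by group
    have e2 : c * ((a * q * a⁻¹) * c⁻¹) * c = c * (a * q * a⁻¹) := by group
    rw [e1, e2] at h3
    exact h3.symm
  have hRp : IsPGroup 2 ↥(MulAut.conj a • (Q : Subgroup G)) := by
    rw [Subgroup.pointwise_smul_def]
    exact Q.isPGroup'.map _
  obtain ⟨z, hz, hle⟩ := le_cj_sylow_in Q _ _ hQ hR hRp
  have hzc := mem_centralizer_singleton_iff.mp hz
  -- `n = z⁻¹ a` normalizes `Q` and inverts `c`
  set n : G := z⁻¹ * a with hn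
  have hnN : n ∈ Subgroup.normalizer ((Q : Subgroup G) : Set G) := by
    apply mem_normalizer_of_cj_le
    intro q hq
    have h1 : a * q * a⁻¹ ∈ MulAut.conj z • (Q : Subgroup G) := hle (cj_mem a hq)
    rw [mem_cj] at h1
    have e : n * q * n⁻¹ = z⁻¹ * (a * q * a⁻¹) * z := by rw [hn]; group
    rw [e]; exact h1
  have hnc : n * c * n⁻¹ = c⁻¹ := by
    have e : n * c * n⁻¹ = z⁻¹ * (a * c * a⁻¹) * z := by rw [hn]; group
    rw [e, hac]
    have h2 : z⁻¹ * c⁻¹ * z = (z⁻¹ * c * z)⁻¹ := by group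
    have h3 : z⁻¹ * c * z = c := by
      have : z⁻¹ * c * z = z⁻¹ * (c * z) := by group
      rw [this, hzc]; group
    rw [h2, h3]
  -- an odd power of `n` which is a `2`-element
  have ho : orderOf n ≠ 0 := (orderOf_pos n).ne'
  obtain ⟨e, r, hr, her⟩ := Nat.exists_eq_two_pow_mul_odd ho
  have hm2 : ∃ k : ℕ, orderOf (n ^ r) = 2 ^ k := by
    have : (n ^ r) ^ (2 ^ e) = 1 := by
      rw [← pow_mul, mul_comm, ← her, pow_orderOf_eq_one]
    exact (Nat.dvd_prime_pow Nat.prime_two).mp (orderOf_dvd_of_pow_eq_one this) |>.imp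
      (fun k hk => hk.2)
  have hmN : n ^ r ∈ Subgroup.normalizer ((Q : Subgroup G) : Set G) := Subgroup.pow_mem _ hnN r
  have hmQ : n ^ r ∈ (Q : Subgroup G) := mem_of_mem_normalizer Q hm2 hmN
  have hmc := mem_centralizer_singleton_iff.mp (hQ hmQ)
  have h4 := conj_pow_inv_of_odd hnc hr
  rw [← h4]
  have : n ^ r * c * (n ^ r)⁻¹ = (n ^ r * c) * (n ^ r)⁻¹ := by group
  rw [this, ← hmc]; group

end fin

end Cfsg.Agent.Lib.Lead.CamHerz
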