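import Mathlib
import Cfsg.Agent.Lib.Lead.CamHerz1

set_option autoImplicit false

/-!
# Camina–Herzog (part 2): the involutions of a Sylow `2`-subgroup are central in it
-/

namespace Cfsg.Agent.Lib.Lead.CamHerz

open scoped Pointwise

variable {G : Type*} [Group G] [Finite G]

/-- under `Hyp`, two involutions of a Sylow `2`-subgroup commute -/
theorem invol_comm (hyp : Hyp G) (S : Sylow 2 G) {a b : G} (ha : a ∈ (S : Subgroup G))
    (hb : b ∈ (S : Subgroup G)) (ha2 : a ^ 2 = 1) (hb2 : b ^ 2 = 1) : a * b = b * a := by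
  have hai : a⁻¹ = a := by
    rw [inv_eq_iff_mul_eq_one, ← pow_two, ha2]
  have hbi : b⁻¹ = b := by
    rw [inv_eq_iff_mul_eq_one, ← pow_two, hb2]
  have hc : ∃ k : ℕ, orderOf (a * b) = 2 ^ k :=
    two_elt_of_mem S ((S : Subgroup G).mul_mem ha hb)
  have hac : a * (a * b) * a⁻¹ = (a * b)⁻¹ := by
    rw [mul_inv_rev, hai, hbi, ← mul_assoc, ← pow_two, ha2, one_mul]
  have := inv_eq_self hyp hc hac
  rw [mul_inv_rev, hai, hbi] at this
  exact this.symm

/-- the subgroup generated by the involutions of `S` -/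
def Om (S : Subgroup G) : Subgroup G := Subgroup.closure {x | x ∈ S ∧ x ^ 2 = 1}

theorem mem_Om_iff (hyp : Hyp G) (S : Sylow 2 G) {x : G} :
    x ∈ Om (S : Subgroup G) ↔ x ∈ (S : Subgroup G) ∧ x ^ 2 = 1 := by
  constructor
  · intro hx
    unfold Om at hx
    induction hx using Subgroup.closure_induction with
    | mem x hx => exact hx
    | one => exact ⟨Subgroup.one_mem _, one_pow 2⟩
    | mul x y _ _ hx hy =>
      refine ⟨Subgroup.mul_mem _ hx.1 hy.1, ?_⟩
      have hc := invol_comm hyp S hx.1 hy.1 hx.2 hy.2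
      have : (x * y) ^ 2 = x ^ 2 * y ^ 2 := by
        rw [pow_two, pow_two, pow_two]
        calc x * y * (x * y) = x * (y * x) * y := by group
          _ = x * (x * y) * y := by rw [hc]
          _ = x * x * (y * y) := by group
      rw [this, hx.2, hy.2, one_mul]
    | inv x _ hx =>
      refine ⟨Subgroup.inv_mem _ hx.1, ?_⟩
      rw [inv_pow, hx.2, inv_one]
  · intro hx
    exact Subgroup.subset_closure hx

theorem Om_le (hyp : Hyp G) (S : Sylow 2 G) : Om (S : Subgroup G) ≤ (S : Subgroup G) :=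
  fun _ hx => ((mem_Om_iff hyp S).mp hx).1

theorem Om_comm (hyp : Hyp G) (S : Sylow 2 G) {a b : G} (ha : a ∈ Om (S : Subgroup G))
    (hb : b ∈ Om (S : Subgroup G)) : a * b = b * a := by
  rw [mem_Om_iff hyp S] at ha hb
  exact invol_comm hyp S ha.1 hb.1 ha.2 hb.2

theorem Om_isPGroup (hyp : Hyp G) (S : Sylow 2 G) : IsPGroup 2 (Om (S : Subgroup G)) :=
  S.isPGroup'.to_le (Om_le hyp S)

/-- `Om` commutes with conjugation of Sylow subgroups -/
theorem Om_smul (hyp : Hyp G) (S : Sylow 2 G) (g : G) :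
    Om ((g • S : Sylow 2 G) : Subgroup G) = MulAut.conj g • Om (S : Subgroup G) := by
  ext x
  rw [mem_Om_iff hyp, mem_cj, mem_Om_iff hyp, Sylow.coe_subgroup_smul, mem_cj]
  constructor
  · rintro ⟨h1, h2⟩
    refine ⟨h1, ?_⟩
    have : (g⁻¹ * x * g) ^ 2 = g⁻¹ * x ^ 2 * g := by rw [pow_two, pow_two]; group
    rw [this, h2]; group
  · rintro ⟨h1, h2⟩
    refine ⟨h1, ?_⟩
    have : x ^ 2 = g * (g⁻¹ * x * g) ^ 2 * g⁻¹ := by rw [pow_two, pow_two]; group
    rw [this, h2]; group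

/-- weak closure: a conjugate of `Om S` inside `S` equals `Om S` -/
theorem cj_Om_eq (hyp : Hyp G) (S : Sylow 2 G) (g : G)
    (h : MulAut.conj g • Om (S : Subgroup G) ≤ (S : Subgroup G)) :
    MulAut.conj g • Om (S : Subgroup G) = Om (S : Subgroup G) := by
  apply cj_eq_of_le
  intro x hx
  rw [mem_Om_iff hyp]
  refine ⟨h hx, ?_⟩
  rw [mem_cj, mem_Om_iff hyp] at hx
  have : x ^ 2 = g * (g⁻¹ * x * g) ^ 2 * g⁻¹ := by rw [pow_two, pow_two]; group
  rw [this, hx.2]; group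

theorem cj_cj (g h : G) (H : Subgroup G) :
    MulAut.conj g • (MulAut.conj h • H) = MulAut.conj (g * h) • H := by
  rw [smul_smul, ← map_mul]

/-- the key conjugacy: if `Om S` and a conjugate of `Om T` lie in a common `2`-subgroup then they
coincide -/
theorem Om_eq_of_le_pgroup (hyp : Hyp G) (S T : Sylow 2 G) (c : G) (P : Subgroup G)
    (hP : IsPGroup 2 P) (h1 : Om (S : Subgroup G) ≤ P)
    (h2 : MulAut.conj c • Om (T : Subgroup G) ≤ P) :
    MulAut.conj c • Om (T : Subgroup G) = Om (S : Subgroup G) := by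
  obtain ⟨S₂, hS₂⟩ := hP.exists_le_sylow
  obtain ⟨g, rfl⟩ := MulAction.exists_smul_eq G S S₂
  obtain ⟨h, rfl⟩ := MulAction.exists_smul_eq G S T
  -- `g⁻¹ (Om S) g ≤ S`
  have e1 : MulAut.conj g⁻¹ • Om (S : Subgroup G) = Om (S : Subgroup G) := by
    apply cj_Om_eq hyp
    intro x hx
    rw [mem_cj, inv_inv] at hx
    have : g * x * g⁻¹ ∈ ((g • S : Sylow 2 G) : Subgroup G) := hS₂ (h1 hx)
    rw [Sylow.coe_subgroup_smul, mem_cj] at this
    have e : g⁻¹ * (g * x * g⁻¹) * g = x := by group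
    rwa [e] at this
  have e2 : MulAut.conj (g⁻¹ * c * h) • Om (S : Subgroup G) = Om (S : Subgroup G) := by
    apply cj_Om_eq hyp
    intro x hx
    rw [mem_cj] at hx
    -- `y = h (…) h⁻¹ ∈ Om (h • S)`
    have hy : c⁻¹ * (g * x * g⁻¹) * c ∈ Om ((h • S : Sylow 2 G) : Subgroup G) := by
      rw [Om_smul hyp, mem_cj]
      have e : h⁻¹ * (c⁻¹ * (g * x * g⁻¹) * c) * h = (g⁻¹ * c * h)⁻¹ * x * (g⁻¹ * c * h) := by
        group
      rw [e]; exact hx
    have h3 : g * x * g⁻¹ ∈ MulAut.conj c • Om ((h • S : Sylow 2 G) : Subgroup G) := by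
      rw [mem_cj]; exact hy
    have h4 : g * x * g⁻¹ ∈ ((g • S : Sylow 2 G) : Subgroup G) := hS₂ (h2 h3)
    rw [Sylow.coe_subgroup_smul, mem_cj] at h4
    have e : g⁻¹ * (g * x * g⁻¹) * g = x := by group
    rwa [e] at h4
  rw [Om_smul hyp, cj_cj]
  have e3 : MulAut.conj (c * h) • Om (S : Subgroup G) =
      MulAut.conj g • (MulAut.conj (g⁻¹ * c * h) • Om (S : Subgroup G)) := by
    rw [cj_cj]; congr 2; group
  have e4 : Om (S : Subgroup G) = MulAut.conj g • (MulAut.conj g⁻¹ • Om (S : Subgroup G)) := by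
    rw [cj_cj, mul_inv_cancel, map_one, one_smul]
  rw [e3, e2]
  conv_rhs => rw [e4, e1]

end Cfsg.Agent.Lib.Lead.CamHerz
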