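import Mathlib
import Cfsg.Agent.Lib.Lead.CamHerz2

set_option autoImplicit false

/-!
# Camina–Herzog (part 3): the involutions of a Sylow `2`-subgroup are central in it
-/

namespace Cfsg.Agent.Lib.Lead.CamHerz

open scoped Pointwise

variable {G : Type*} [Group G] [Finite G]

/-- an element of `S` acting as an involution on `Om S` and centralized by a Sylow subgroup
centralizes `Om S` -/
theorem comm_of_sq_comm (hyp : Hyp G) (S : Sylow 2 G) {y : G} (hyS : y ∈ (S : Subgroup G))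
    (hy2 : ∀ e ∈ Om (S : Subgroup G), y ^ 2 * e = e * y ^ 2) :
    ∀ e ∈ Om (S : Subgroup G), y * e = e * y := by
  classical
  set E : Subgroup G := Om (S : Subgroup G) with hE
  have hyt : ∃ k : ℕ, orderOf y = 2 ^ k := two_elt_of_mem S hyS
  obtain ⟨Q, hQ⟩ := hyp y hyt
  -- a Sylow subgroup `T₁ ≤ C(y)` containing `C_S(y)`
  have hCS : IsPGroup 2 ↥((S : Subgroup G) ⊓ Subgroup.centralizer ({y} : Set G)) :=
    S.isPGroup'.to_le inf_le_left
  obtain ⟨n, hn, hle⟩ := le_cj_sylow_in Q (Subgroup.centralizer ({y} : Set G))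
    ((S : Subgroup G) ⊓ Subgroup.centralizer ({y} : Set G)) hQ inf_le_right hCS
  set T₁ : Sylow 2 G := n • Q with hT₁
  have hT₁c : (T₁ : Subgroup G) ≤ Subgroup.centralizer ({y} : Set G) := by
    rw [hT₁, Sylow.coe_subgroup_smul, cj_le_iff]
    intro q hq
    exact Subgroup.mul_mem _ (Subgroup.mul_mem _ hn (hQ hq)) (Subgroup.inv_mem _ hn)
  have hleT : (S : Subgroup G) ⊓ Subgroup.centralizer ({y} : Set G) ≤ (T₁ : Subgroup G) := by
    rw [hT₁, Sylow.coe_subgroup_smul]; exact hle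
  set E₁ : Subgroup G := Om (T₁ : Subgroup G) with hE₁
  have hE₁c : ∀ e ∈ E₁, y * e = e * y := fun e he =>
    mem_centralizer_singleton_iff.mp (hT₁c (Om_le hyp T₁ he))
  -- `y` normalizes `E`
  have hyE : ∀ e ∈ E, y * e * y⁻¹ ∈ E := by
    intro e he
    rw [hE, mem_Om_iff hyp] at he ⊢
    refine ⟨Subgroup.mul_mem _ (Subgroup.mul_mem _ hyS he.1) (Subgroup.inv_mem _ hyS), ?_⟩
    have : (y * e * y⁻¹) ^ 2 = y * e ^ 2 * y⁻¹ := by rw [pow_two, pow_two]; group
    rw [this, he.2]; group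
  -- the fixed points `F = C_E(y)`
  set F : Subgroup G := E ⊓ Subgroup.centralizer ({y} : Set G) with hF
  have hFE₁ : F ≤ E₁ := by
    intro f hf
    rw [hE₁, mem_Om_iff hyp]
    have hfE := (Subgroup.mem_inf.mp hf).1
    rw [hE, mem_Om_iff hyp] at hfE
    exact ⟨hleT (Subgroup.mem_inf.mpr ⟨hfE.1, (Subgroup.mem_inf.mp hf).2⟩), hfE.2⟩
  -- commutators of `E` with `y` lie in `F`
  have hcomm : ∀ e ∈ E, e⁻¹ * (y * e * y⁻¹) ∈ F := by
    intro e he
    have h1 : e⁻¹ * (y * e * y⁻¹) ∈ E := Subgroup.mul_mem _ (Subgroup.inv_mem _ he) (hyE e he)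
    refine Subgroup.mem_inf.mpr ⟨h1, ?_⟩
    rw [mem_centralizer_singleton_iff]
    -- y (e⁻¹ y e y⁻¹) y⁻¹ = (y e⁻¹ y⁻¹)(y² e y⁻²) = (y e y⁻¹)⁻¹ e
    have h2 := hy2 e he
    have h3 : y ^ 2 * e * (y ^ 2)⁻¹ = e := by rw [h2]; group
    have h4 : y * (e⁻¹ * (y * e * y⁻¹)) * y⁻¹ = (y * e * y⁻¹)⁻¹ * (y ^ 2 * e * (y ^ 2)⁻¹) := by
      rw [pow_two]; group
    rw [h3] at h4
    have h5 : (y * e * y⁻¹)⁻¹ * e = e * (y * e * y⁻¹)⁻¹ :=
      Om_comm hyp S (Subgroup.inv_mem _ (hyE e he)) he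
    have hei : e⁻¹ = e := by
      have := ((mem_Om_iff hyp S).mp he).2
      rw [inv_eq_iff_mul_eq_one, ← pow_two, this]
    have hyei : (y * e * y⁻¹)⁻¹ = y * e * y⁻¹ := by
      have := ((mem_Om_iff hyp S).mp (hyE e he)).2
      rw [inv_eq_iff_mul_eq_one, ← pow_two, this]
    -- so `y f y⁻¹ = f`
    have h6 : y * (e⁻¹ * (y * e * y⁻¹)) * y⁻¹ = e⁻¹ * (y * e * y⁻¹) := by
      rw [h4, h5, hyei, hei]
    calc y * (e⁻¹ * (y * e * y⁻¹)) = (y * (e⁻¹ * (y * e * y⁻¹)) * y⁻¹) * y := by group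
      _ = e⁻¹ * (y * e * y⁻¹) * y := by rw [h6]
  -- `F` is central in `X = E ⊔ E₁`
  set X : Subgroup G := E ⊔ E₁ with hX
  have hFX : ∀ f ∈ F, ∀ x ∈ X, f * x = x * f := by
    intro f hf x hx
    have hXle : X ≤ Subgroup.centralizer ({f} : Set G) := by
      rw [hX, sup_le_iff]
      constructor
      · intro e he
        rw [mem_centralizer_singleton_iff]
        exact Om_comm hyp S (Subgroup.mem_inf.mp hf).1 he
      · intro e he
        rw [mem_centralizer_singleton_iff]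
        exact Om_comm hyp T₁ (hFE₁ hf) he
    exact mem_centralizer_singleton_iff.mp (hXle hx)
  -- the action of `y` on `X`
  have hact : ∀ x ∈ X, ∃ f ∈ F, y * x * y⁻¹ = x * f := by
    intro x hx
    rw [hX, Subgroup.sup_eq_closure] at hx
    induction hx using Subgroup.closure_induction with
    | mem x hx =>
      rcases hx with hx | hx
      · refine ⟨x⁻¹ * (y * x * y⁻¹), hcomm x hx, by group⟩
      · refine ⟨1, Subgroup.one_mem _, ?_⟩
        rw [hE₁c x hx]; group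
    | one => exact ⟨1, Subgroup.one_mem _, by group⟩
    | mul a b ha hb iha ihb =>
      obtain ⟨f, hf, h1⟩ := iha
      obtain ⟨f', hf', h2⟩ := ihb
      refine ⟨f * f', Subgroup.mul_mem _ hf hf', ?_⟩
      have hbX : b ∈ X := by rw [hX, Subgroup.sup_eq_closure]; exact hb
      have : y * (a * b) * y⁻¹ = (y * a * y⁻¹) * (y * b * y⁻¹) := by group
      rw [this, h1, h2]
      calc a * f * (b * f') = a * (f * b) * f' := by group
        _ = a * (b * f) * f' := by rw [hFX f hf b hbX]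
        _ = a * b * (f * f') := by group
    | inv a ha iha =>
      obtain ⟨f, hf, h1⟩ := iha
      refine ⟨f⁻¹, Subgroup.inv_mem _ hf, ?_⟩
      have haX : a⁻¹ ∈ X := by
        rw [hX, Subgroup.sup_eq_closure]; exact Subgroup.inv_mem _ ha
      have : y * a⁻¹ * y⁻¹ = (y * a * y⁻¹)⁻¹ := by group
      rw [this, h1, mul_inv_rev]
      exact hFX f⁻¹ (Subgroup.inv_mem _ hf) a⁻¹ haX
  -- conjugates of `E₁` under `X` are centralized by `y`
  have hconj : ∀ x ∈ X, ∀ e ∈ E₁, y * (x * e * x⁻¹) = (x * e * x⁻¹) * y := by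
    intro x hx e he
    obtain ⟨f, hf, h1⟩ := hact x hx
    have h2 : y * (x * e * x⁻¹) * y⁻¹ = (y * x * y⁻¹) * (y * e * y⁻¹) * (y * x * y⁻¹)⁻¹ := by
      group
    have h3 : y * e * y⁻¹ = e := by rw [hE₁c e he]; group
    have hfe : f * e = e * f := Om_comm hyp T₁ (hFE₁ hf) he
    have h4 : y * (x * e * x⁻¹) * y⁻¹ = x * e * x⁻¹ := by
      rw [h2, h1, h3]
      calc x * f * e * (x * f)⁻¹ = x * (f * e) * f⁻¹ * x⁻¹ := by group
        _ = x * (e * f) * f⁻¹ * x⁻¹ := by rw [hfe]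
        _ = x * e * x⁻¹ := by group
    calc y * (x * e * x⁻¹) = (y * (x * e * x⁻¹) * y⁻¹) * y := by group
      _ = x * e * x⁻¹ * y := by rw [h4]
  -- Sylow's theorem in `X`
  have hEX : E ≤ X := le_sup_left
  have hE₁X : E₁ ≤ X := le_sup_right
  have hEp : IsPGroup 2 (E.subgroupOf X) := (Om_isPGroup hyp S).comap_subtype
  have hE₁p : IsPGroup 2 (E₁.subgroupOf X) := (Om_isPGroup hyp T₁).comap_subtype
  obtain ⟨P, hP⟩ := hEp.exists_le_sylow
  obtain ⟨P₁, hP₁⟩ := hE₁p.exists_le_sylow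
  obtain ⟨c, hc⟩ := MulAction.exists_smul_eq X P₁ P
  -- the image of `P` in `G`
  set PG : Subgroup G := (P : Subgroup X).map X.subtype with hPG
  have hPGp : IsPGroup 2 PG := P.isPGroup'.map _
  have h1 : E ≤ PG := by
    intro e he
    refine ⟨⟨e, hEX he⟩, hP (Subgroup.mem_subgroupOf.mpr he), rfl⟩
  have h2 : MulAut.conj (c : G) • E₁ ≤ PG := by
    rw [cj_le_iff]
    intro e he
    have h3 : (⟨e, hE₁X he⟩ : X) ∈ (P₁ : Subgroup X) := hP₁ (Subgroup.mem_subgroupOf.mpr he)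
    have h4 : c * ⟨e, hE₁X he⟩ * c⁻¹ ∈ ((c • P₁ : Sylow 2 X) : Subgroup X) := by
      rw [Sylow.coe_subgroup_smul]; exact cj_mem c h3
    rw [hc] at h4
    exact ⟨_, h4, rfl⟩
  have hkey := Om_eq_of_le_pgroup hyp S T₁ (c : G) PG hPGp h1 h2
  -- conclusion
  intro e he
  have : e ∈ MulAut.conj (c : G) • E₁ := by rw [hkey]; exact he
  rw [mem_cj] at this
  have h5 := hconj (c : G) c.2 _ this
  have e5 : (c : G) * ((c : G)⁻¹ * e * (c : G)) * (c : G)⁻¹ = e := by group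
  rw [e5] at h5
  exact h5

/-- under `Hyp`, every involution of a Sylow `2`-subgroup `S` is central in `S` -/
theorem Om_central (hyp : Hyp G) (S : Sylow 2 G) :
    ∀ s ∈ (S : Subgroup G), ∀ e ∈ Om (S : Subgroup G), s * e = e * s := by
  classical
  intro s hs
  -- induction on the exponent `k` with `s ^ (2 ^ k) = 1`
  obtain ⟨k, hk⟩ := two_elt_of_mem S hs
  have hpow : s ^ (2 ^ k) = 1 := by rw [← hk]; exact pow_orderOf_eq_one s
  clear hk
  induction k generalizing s with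
  | zero =>
    intro e _
    rw [pow_zero, pow_one] at hpow
    rw [hpow]; simp
  | succ k ih =>
    have h2 : (s ^ 2) ^ (2 ^ k) = 1 := by
      rw [← pow_mul, ← pow_succ']; exact hpow
    have := ih (s ^ 2) (Subgroup.pow_mem _ hs 2) h2
    exact comm_of_sq_comm hyp S hs this

end Cfsg.Agent.Lib.Lead.CamHerz
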