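import Mathlib
import Cfsg.Agent.Lib.Lead.CamHerz3

set_option autoImplicit false

/-!
# Camina–Herzog (part 4): if every `2`-element is centralized by a Sylow `2`-subgroup then the
Sylow `2`-subgroups are abelian
-/

namespace Cfsg.Agent.Lib.Lead.CamHerz

open scoped Pointwise

universe u

section inherit
variable {G : Type u} [Group G] [Finite G]

theorem two_elt_of_sq {t : G} (ht : t ^ 2 = 1) : ∃ k : ℕ, orderOf t = 2 ^ k := by
  have h1 : t ^ (2 ^ 1) = 1 := by rw [pow_one]; exact ht
  exact ((Nat.dvd_prime_pow Nat.prime_two).mp (orderOf_dvd_of_pow_eq_one h1)).imp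
    (fun k hk => hk.2)

/-- the centralizer of an involution inherits `Hyp` -/
theorem hyp_centralizer (hyp : Hyp G) {t : G} (ht : t ^ 2 = 1) :
    Hyp ↥(Subgroup.centralizer ({t} : Set G)) := by
  intro u hu
  have hu' : ∃ k : ℕ, orderOf (u : G) = 2 ^ k := by
    obtain ⟨k, hk⟩ := hu
    exact ⟨k, by rw [Subgroup.orderOf_coe]; exact hk⟩
  obtain ⟨Q, hQ⟩ := hyp (u : G) hu'
  have htu : t ∈ Subgroup.centralizer ({(u : G)} : Set G) := by
    rw [mem_centralizer_singleton_iff]
    exact (mem_centralizer_singleton_iff.mp u.2).symm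
  have hzt : Subgroup.zpowers t ≤ Subgroup.centralizer ({(u : G)} : Set G) :=
    Subgroup.zpowers_le.mpr htu
  obtain ⟨k, hk, hle⟩ := le_cj_sylow_in Q _ _ hQ hzt (isPGroup_zpowers (two_elt_of_sq ht))
  have ht' : k⁻¹ * t * k ∈ (Q : Subgroup G) := by
    have := hle (Subgroup.mem_zpowers t)
    rwa [mem_cj] at this
  have ht'Om : k⁻¹ * t * k ∈ Om (Q : Subgroup G) := by
    rw [mem_Om_iff hyp]
    refine ⟨ht', ?_⟩
    have : (k⁻¹ * t * k) ^ 2 = k⁻¹ * t ^ 2 * k := by rw [pow_two, pow_two]; group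
    rw [this, ht]; group
  have hcen := Om_central hyp Q
  -- the Sylow subgroup `k • Q`
  have h1 : ((k • Q : Sylow 2 G) : Subgroup G) ≤ Subgroup.centralizer ({t} : Set G) := by
    rw [Sylow.coe_subgroup_smul, cj_le_iff]
    intro q hq
    rw [mem_centralizer_singleton_iff]
    have h2 := hcen q hq _ ht'Om
    -- q * (k⁻¹ t k) = (k⁻¹ t k) * q
    calc t * (k * q * k⁻¹) = k * ((k⁻¹ * t * k) * q) * k⁻¹ := by group
      _ = k * (q * (k⁻¹ * t * k)) * k⁻¹ := by rw [h2]
      _ = k * q * k⁻¹ * t := by group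
  have h3 : ((k • Q : Sylow 2 G) : Subgroup G) ≤ Subgroup.centralizer ({(u : G)} : Set G) := by
    rw [Sylow.coe_subgroup_smul, cj_le_iff]
    intro q hq
    exact Subgroup.mul_mem _ (Subgroup.mul_mem _ hk (hQ hq)) (Subgroup.inv_mem _ hk)
  refine ⟨(k • Q : Sylow 2 G).subtype h1, ?_⟩
  intro q hq
  rw [Sylow.coe_subtype, Subgroup.mem_subgroupOf] at hq
  rw [mem_centralizer_singleton_iff]
  apply Subtype.ext
  rw [Subgroup.coe_mul, Subgroup.coe_mul]
  exact mem_centralizer_singleton_iff.mp (h3 hq)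

/-- the quotient by a central subgroup of order at most two inherits `Hyp` -/
theorem hyp_quotient (hyp : Hyp G) {t : G} (ht : t ^ 2 = 1) [(Subgroup.zpowers t).Normal] :
    Hyp (G ⧸ Subgroup.zpowers t) := by
  intro x hx
  obtain ⟨k, hk⟩ := hx
  obtain ⟨g, rfl⟩ := QuotientGroup.mk_surjective x
  have h1 : g ^ (2 ^ k) ∈ Subgroup.zpowers t := by
    rw [← QuotientGroup.eq_one_iff, QuotientGroup.mk_pow, ← hk]
    exact pow_orderOf_eq_one _
  have h2 : (g ^ (2 ^ k)) ^ 2 = 1 := by
    obtain ⟨j, hj⟩ := Subgroup.mem_zpowers_iff.mp h1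
    rw [← hj, ← zpow_natCast, ← zpow_mul, mul_comm, zpow_mul, zpow_natCast, ht, one_zpow]
  have h3 : g ^ (2 ^ (k + 1)) = 1 := by
    rw [pow_succ, pow_mul]; exact h2
  have hg : ∃ i : ℕ, orderOf g = 2 ^ i :=
    ((Nat.dvd_prime_pow Nat.prime_two).mp (orderOf_dvd_of_pow_eq_one h3)).imp
      (fun i hi => hi.2)
  obtain ⟨Q, hQ⟩ := hyp g hg
  refine ⟨Sylow.mapSurjective (QuotientGroup.mk'_surjective (Subgroup.zpowers t)) Q, ?_⟩
  rw [Sylow.coe_mapSurjective]
  rintro _ ⟨q, hq, rfl⟩
  rw [mem_centralizer_singleton_iff]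
  have := mem_centralizer_singleton_iff.mp (hQ hq)
  show (g : G ⧸ Subgroup.zpowers t) * (q : G ⧸ Subgroup.zpowers t) = q * g
  rw [← QuotientGroup.mk_mul, ← QuotientGroup.mk_mul, this]

end inherit

/-- the main induction -/
theorem main_aux : ∀ (n : ℕ) (G : Type u) [Group G] [Finite G], Nat.card G = n → Hyp G →
    ∀ S : Sylow 2 G, ∀ a ∈ (S : Subgroup G), ∀ b ∈ (S : Subgroup G), a * b = b * a := by
  intro n
  induction n using Nat.strong_induction_on with
  | _ n ih =>
  intro G _ _ hcard hyp S a ha b hb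
  by_cases ha1 : a = 1
  · rw [ha1]; simp
  -- an involution of `S`
  obtain ⟨k, hk⟩ := two_elt_of_mem S ha
  have hk0 : k ≠ 0 := by
    rintro rfl
    rw [pow_zero, orderOf_eq_one_iff] at hk
    exact ha1 hk
  obtain ⟨j, rfl⟩ := Nat.exists_eq_succ_of_ne_zero hk0
  set t : G := a ^ (2 ^ j) with ht
  have htS : t ∈ (S : Subgroup G) := Subgroup.pow_mem _ ha _
  have ht2 : t ^ 2 = 1 := by
    rw [ht, ← pow_mul, ← pow_succ, ← hk]; exact pow_orderOf_eq_one a
  have ht1 : t ≠ 1 := by
    intro h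
    have := orderOf_dvd_of_pow_eq_one h
    rw [hk, Nat.pow_dvd_pow_iff_le_right (by norm_num)] at this
    omega
  have htOm : t ∈ Om (S : Subgroup G) := (mem_Om_iff hyp S).mpr ⟨htS, ht2⟩
  have hcen := Om_central hyp S
  have hSH : (S : Subgroup G) ≤ Subgroup.centralizer ({t} : Set G) := by
    intro s hs
    rw [mem_centralizer_singleton_iff]
    exact (hcen s hs t htOm).symm
  by_cases hH : Subgroup.centralizer ({t} : Set G) = ⊤
  · -- `t` is central: pass to the quotient
    have htc : ∀ g : G, t * g = g * t := by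
      intro g
      have : g ∈ Subgroup.centralizer ({t} : Set G) := by rw [hH]; exact Subgroup.mem_top g
      exact mem_centralizer_singleton_iff.mp this
    haveI hN : (Subgroup.zpowers t).Normal := by
      constructor
      intro z hz g
      obtain ⟨i, rfl⟩ := Subgroup.mem_zpowers_iff.mp hz
      have : g * t ^ i * g⁻¹ = t ^ i := by
        have h1 : Commute t g := htc g
        have h2 : Commute (t ^ i) g := h1.zpow_left i
        rw [← h2.eq]; group
      rw [this]; exact Subgroup.zpow_mem _ (Subgroup.mem_zpowers t) i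
    have hcardq : Nat.card (G ⧸ Subgroup.zpowers t) < n := by
      have h1 := Subgroup.card_eq_card_quotient_mul_card_subgroup (Subgroup.zpowers t)
      have h2 : 2 ≤ Nat.card (Subgroup.zpowers t) := by
        rw [Nat.card_zpowers]
        have h3 : orderOf t ≠ 1 := fun h => ht1 (orderOf_eq_one_iff.mp h)
        have h4 : 0 < orderOf t := orderOf_pos t
        omega
      have h5 : 0 < Nat.card (G ⧸ Subgroup.zpowers t) := Nat.card_pos
      rw [← hcard, h1]
      nlinarith
    have hq := ih _ hcardq (G ⧸ Subgroup.zpowers t) rfl (hyp_quotient hyp ht2)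
      (Sylow.mapSurjective (QuotientGroup.mk'_surjective (Subgroup.zpowers t)) S)
    have hqS : ∀ s ∈ (S : Subgroup G), ∀ s' ∈ (S : Subgroup G),
        ((s * s' : G) : G ⧸ Subgroup.zpowers t) = ((s' * s : G) : G ⧸ Subgroup.zpowers t) := by
      intro s hs s' hs'
      rw [QuotientGroup.mk_mul, QuotientGroup.mk_mul]
      apply hq
      · rw [Sylow.coe_mapSurjective]; exact ⟨s, hs, rfl⟩
      · rw [Sylow.coe_mapSurjective]; exact ⟨s', hs', rfl⟩
    -- the subgroup `D` of elements commuting with `a` modulo `⟨t⟩`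
    obtain ⟨Q, hQ⟩ := hyp a ⟨j + 1, hk⟩
    set D : Subgroup G := (Subgroup.centralizer
      ({(a : G ⧸ Subgroup.zpowers t)} : Set (G ⧸ Subgroup.zpowers t))).comap
        (QuotientGroup.mk' (Subgroup.zpowers t)) with hD
    have hQD : (Q : Subgroup G) ≤ D := by
      intro q hq'
      rw [hD, Subgroup.mem_comap, mem_centralizer_singleton_iff]
      have := mem_centralizer_singleton_iff.mp (hQ hq')
      show (a : G ⧸ Subgroup.zpowers t) * (q : G ⧸ Subgroup.zpowers t) = q * a
      rw [← QuotientGroup.mk_mul, ← QuotientGroup.mk_mul, this]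
    have hSD : (S : Subgroup G) ≤ D := by
      intro s hs
      rw [hD, Subgroup.mem_comap, mem_centralizer_singleton_iff]
      show (a : G ⧸ Subgroup.zpowers t) * (s : G ⧸ Subgroup.zpowers t) = s * a
      rw [← QuotientGroup.mk_mul, ← QuotientGroup.mk_mul]
      exact hqS a ha s hs
    obtain ⟨d, hd, hle⟩ := le_cj_sylow_in Q D (S : Subgroup G) hQD hSD S.isPGroup'
    have hbQ : d⁻¹ * b * d ∈ (Q : Subgroup G) := by
      have := hle hb
      rwa [mem_cj] at this
    have h1 := mem_centralizer_singleton_iff.mp (hQ hbQ)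
    -- `d a d⁻¹ = z a` with `z ∈ ⟨t⟩`
    have hdz : (d * a * d⁻¹) * a⁻¹ ∈ Subgroup.zpowers t := by
      rw [hD, Subgroup.mem_comap, mem_centralizer_singleton_iff] at hd
      rw [← QuotientGroup.eq_one_iff]
      have hd' : (a : G ⧸ Subgroup.zpowers t) * (d : G ⧸ Subgroup.zpowers t) = d * a := hd
      rw [QuotientGroup.mk_mul, QuotientGroup.mk_mul, QuotientGroup.mk_mul, ← hd',
        QuotientGroup.mk_inv, QuotientGroup.mk_inv]
      group
    obtain ⟨i, hi⟩ := Subgroup.mem_zpowers_iff.mp hdz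
    have hzc : ∀ g : G, t ^ i * g = g * t ^ i := fun g =>
      (Commute.zpow_left (show Commute t g from htc g) i).eq
    have hda : d * a * d⁻¹ = t ^ i * a := by rw [hi]; group
    -- conjugate `h1` by `d`
    have h2 : (d * a * d⁻¹) * b = b * (d * a * d⁻¹) := by
      calc (d * a * d⁻¹) * b = d * (a * (d⁻¹ * b * d)) * d⁻¹ := by group
        _ = d * ((d⁻¹ * b * d) * a) * d⁻¹ := by rw [h1]
        _ = b * (d * a * d⁻¹) := by group
    rw [hda] at h2
    have h3 : t ^ i * (a * b) = t ^ i * (b * a) := by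
      calc t ^ i * (a * b) = t ^ i * a * b := by group
        _ = b * (t ^ i * a) := h2
        _ = (b * t ^ i) * a := by group
        _ = (t ^ i * b) * a := by rw [hzc b]
        _ = t ^ i * (b * a) := by group
    exact mul_left_cancel h3
  · -- `C(t)` is a proper subgroup containing `S`
    have hlt : Nat.card ↥(Subgroup.centralizer ({t} : Set G)) < n := by
      have h1 : Nat.card ↥(Subgroup.centralizer ({t} : Set G)) ≤ Nat.card G :=
        Subgroup.card_le_card_group _
      have h2 : Nat.card ↥(Subgroup.centralizer ({t} : Set G)) ≠ Nat.card G := fun h =>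
        hH (Subgroup.card_eq_iff_eq_top _ |>.mp h)
      omega
    have := ih _ hlt ↥(Subgroup.centralizer ({t} : Set G)) rfl (hyp_centralizer hyp ht2)
      (S.subtype hSH) ⟨a, hSH ha⟩ (by rw [Sylow.coe_subtype, Subgroup.mem_subgroupOf]; exact ha)
      ⟨b, hSH hb⟩ (by rw [Sylow.coe_subtype, Subgroup.mem_subgroupOf]; exact hb)
    exact congrArg Subtype.val this

/-- **Camina–Herzog**: if every `2`-element of a finite group is centralized by some Sylow
`2`-subgroup, the Sylow `2`-subgroups are abelian -/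
theorem main {G : Type u} [Group G] [Finite G] (hyp : Hyp G) (S : Sylow 2 G) :
    ∀ a ∈ (S : Subgroup G), ∀ b ∈ (S : Subgroup G), a * b = b * a :=
  main_aux (Nat.card G) G rfl hyp S

end Cfsg.Agent.Lib.Lead.CamHerz
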