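import Mathlib
import Cfsg.Agent.Lib.Lead.CamHerz4

set_option autoImplicit false

/-!
# Camina–Herzog (part 5): bridges to the statements
-/

namespace Cfsg.Agent.Lib.Lead.CamHerz

open scoped Pointwise

universe u

variable {G : Type u} [Group G] [Finite G]

/-- a subgroup of odd index contains a Sylow `2`-subgroup -/
theorem exists_sylow_le_of_odd_index (H : Subgroup G) (h : ¬ 2 ∣ H.index) :
    ∃ Q : Sylow 2 G, (Q : Subgroup G) ≤ H := by
  classical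
  obtain ⟨P⟩ : Nonempty (Sylow 2 G) := inferInstance
  have hcard : ¬ 2 ∣ Nat.card (G ⧸ H) := h
  obtain ⟨c, hc⟩ := P.isPGroup'.nonempty_fixed_point_of_prime_not_dvd_card (G ⧸ H) hcard
  obtain ⟨g, rfl⟩ := QuotientGroup.mk_surjective c
  refine ⟨g⁻¹ • P, ?_⟩
  rw [Sylow.coe_subgroup_smul, cj_le_iff]
  intro x hx
  have h1 := hc ⟨x, hx⟩
  have h2 : ((x * g : G) : G ⧸ H) = (g : G ⧸ H) := h1
  have h3 := QuotientGroup.eq.mp h2
  have e : g⁻¹ * x * g⁻¹⁻¹ = ((x * g)⁻¹ * g)⁻¹ := by group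
  rw [e]
  exact H.inv_mem h3

/-- abelian Sylow `2`-subgroups give `Hyp` -/
theorem hyp_of_comm (P : Sylow 2 G)
    (hP : ∀ a ∈ (P : Subgroup G), ∀ b ∈ (P : Subgroup G), a * b = b * a) : Hyp G := by
  intro x hx
  obtain ⟨Q, hQ⟩ := (isPGroup_zpowers hx).exists_le_sylow
  refine ⟨Q, ?_⟩
  obtain ⟨g, rfl⟩ := MulAction.exists_smul_eq G P Q
  have hxQ : x ∈ ((g • P : Sylow 2 G) : Subgroup G) := hQ (Subgroup.mem_zpowers x)
  intro q hq
  rw [mem_centralizer_singleton_iff]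
  rw [Sylow.coe_subgroup_smul, mem_cj] at hxQ hq
  have := hP _ hxQ _ hq
  calc x * q = g * ((g⁻¹ * x * g) * (g⁻¹ * q * g)) * g⁻¹ := by group
    _ = g * ((g⁻¹ * q * g) * (g⁻¹ * x * g)) * g⁻¹ := by rw [this]
    _ = q * x := by group

end Cfsg.Agent.Lib.Lead.CamHerz
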