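import Mathlib
import Cfsg.Agent.Lib.Lead.TateE
import Cfsg.Agent.Lib.Lead.Frattini

set_option autoImplicit false

namespace Cfsg.Agent.Lib.Lead.Camina

universe u
variable {G : Type u} [Group G]

/-- Camina pair hypothesis. -/
def IsCam (N : Subgroup G) : Prop :=
  ∀ g : G, g ∉ N → ∀ n ∈ N, ∃ x : G, x * g * x⁻¹ = g * n

theorem orderOf_conj' (x g : G) : orderOf (x * g * x⁻¹) = orderOf g :=
  orderOf_injective (MulAut.conj x).toMonoidHom (MulEquiv.injective _) g

section
variable [Finite G] {N : Subgroup G}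

/-- an element of `N` commuting with an element outside `N` of coprime order is trivial -/
theorem eq_one_of_commute_coprime (h : IsCam N) {g z : G} (hg : g ∉ N) (hz : z ∈ N)
    (hc : Commute g z) (hcop : (orderOf g).Coprime (orderOf z)) : z = 1 := by
  obtain ⟨x, hx⟩ := h g hg z hz
  have h1 : orderOf (g * z) = orderOf g := by rw [← hx]; exact orderOf_conj' x g
  have h2 : orderOf (g * z) = orderOf g * orderOf z :=
    hc.orderOf_mul_eq_mul_orderOf_of_coprime hcop
  have h3 : 0 < orderOf g := orderOf_pos g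
  have h4 : orderOf z = 1 := by
    have : orderOf g * orderOf z = orderOf g * 1 := by rw [← h2, h1, mul_one]
    exact Nat.eq_of_mul_eq_mul_left h3 this
  exact orderOf_eq_one_iff.mp h4

/-- the centralizer in `N` of a `p`-element outside `N` is a `p`-group -/
theorem isPGroup_centralizer (h : IsCam N) {p : ℕ} [hp : Fact p.Prime] {g : G} (hg : g ∉ N)
    (hgp : ∃ k : ℕ, orderOf g = p ^ k) :
    IsPGroup p ↥(N ⊓ Subgroup.centralizer ({g} : Set G)) := by
  obtain ⟨k, hk⟩ := hgp
  intro z
  obtain ⟨a, m, hm, hzm⟩ := Nat.exists_eq_pow_mul_and_not_dvd (orderOf_pos (z : G)).ne' p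
    hp.out.ne_one
  refine ⟨a, ?_⟩
  have hzN : (z : G) ∈ N := z.2.1
  have hzC : Commute g (z : G) := by
    have h0 : (z : G) ∈ Subgroup.centralizer ({g} : Set G) := z.2.2
    rw [Subgroup.mem_centralizer_iff] at h0
    exact (h0 g (Set.mem_singleton g))
  set w : G := (z : G) ^ (p ^ a) with hw
  have hwN : w ∈ N := N.pow_mem hzN _
  have hwC : Commute g w := hzC.pow_right _
  have hwo : orderOf w = m := by
    rw [hw, orderOf_pow' _ (pow_ne_zero a hp.out.ne_zero), hzm, Nat.gcd_eq_right
      (dvd_mul_right _ _), Nat.mul_div_cancel_left _ (pow_pos hp.out.pos a)]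
  have hcop : (orderOf g).Coprime (orderOf w) := by
    rw [hk, hwo]
    exact Nat.Coprime.pow_left k ((Nat.Prime.coprime_iff_not_dvd hp.out).mpr hm)
  have := eq_one_of_commute_coprime h hg hwN hwC hcop
  apply Subtype.ext
  simpa [hw] using this

end

end Cfsg.Agent.Lib.Lead.Camina
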