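import Mathlib
import Cfsg.Agent.Lib.Lead.Camina1

set_option autoImplicit false

namespace Cfsg.Agent.Lib.Lead.Camina

universe u
variable {G : Type u} [Group G] [Finite G] {N : Subgroup G} [hNn : N.Normal]

/-- preimage of the centralizer of the image of `g` -/
def cbar (N : Subgroup G) [N.Normal] (g : G) : Subgroup G :=
  (Subgroup.centralizer ({(QuotientGroup.mk g : G ⧸ N)} : Set (G ⧸ N))).comap (QuotientGroup.mk' N)

theorem mem_cbar {g x : G} : x ∈ cbar N g ↔ g⁻¹ * x * g * x⁻¹ ∈ N := by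
  unfold cbar
  rw [Subgroup.mem_comap, Subgroup.mem_centralizer_iff]
  constructor
  · intro h
    have h1 := h _ (Set.mem_singleton _)
    have h2 : (QuotientGroup.mk (g⁻¹ * x * g * x⁻¹) : G ⧸ N) = 1 := by
      have e : (QuotientGroup.mk (g⁻¹ * x * g * x⁻¹) : G ⧸ N)
          = (QuotientGroup.mk g : G ⧸ N)⁻¹ * ((QuotientGroup.mk' N x) * (QuotientGroup.mk g : G ⧸ N))
            * (QuotientGroup.mk' N x)⁻¹ := by
        simp [mul_assoc]
      rw [e, ← h1]
      group
    exact (QuotientGroup.eq_one_iff _).mp h2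
  · intro h y hy
    rw [Set.mem_singleton_iff] at hy
    subst hy
    have h2 : (QuotientGroup.mk (g⁻¹ * x * g * x⁻¹) : G ⧸ N) = 1 := (QuotientGroup.eq_one_iff _).mpr h
    have e : (QuotientGroup.mk (g⁻¹ * x * g * x⁻¹) : G ⧸ N)
        = (QuotientGroup.mk g : G ⧸ N)⁻¹ * ((QuotientGroup.mk' N x) * (QuotientGroup.mk g : G ⧸ N))
          * (QuotientGroup.mk' N x)⁻¹ := by
      simp [mul_assoc]
    rw [e] at h2
    have h3 : (QuotientGroup.mk' N x) * (QuotientGroup.mk g : G ⧸ N)
        = (QuotientGroup.mk g : G ⧸ N) * (QuotientGroup.mk' N x) := by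
      calc (QuotientGroup.mk' N x) * (QuotientGroup.mk g : G ⧸ N)
          = (QuotientGroup.mk g : G ⧸ N) * ((QuotientGroup.mk g : G ⧸ N)⁻¹ *
            ((QuotientGroup.mk' N x) * (QuotientGroup.mk g : G ⧸ N)) * (QuotientGroup.mk' N x)⁻¹)
            * (QuotientGroup.mk' N x) := by group
        _ = _ := by rw [h2, mul_one]
    exact h3.symm

theorem le_cbar (g : G) : N ≤ cbar N g := by
  intro x hx
  rw [mem_cbar]
  have h1 : g⁻¹ * x * g ∈ N := by
    have := hNn.conj_mem x hx g⁻¹
    simpa using this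
  exact N.mul_mem h1 (N.inv_mem hx)

theorem centralizer_le_cbar (g : G) : Subgroup.centralizer ({g} : Set G) ≤ cbar N g := by
  intro x hx
  rw [mem_cbar]
  rw [Subgroup.mem_centralizer_iff] at hx
  have h1 := hx g (Set.mem_singleton g)
  have : g⁻¹ * x * g * x⁻¹ = 1 := by
    rw [mul_assoc g⁻¹, ← h1]; group
  rw [this]; exact N.one_mem

theorem card_cbar (g : G) :
    Nat.card (cbar N g) = Nat.card N *
      Nat.card (Subgroup.centralizer ({(QuotientGroup.mk g : G ⧸ N)} : Set (G ⧸ N))) := by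
  set C := Subgroup.centralizer ({(QuotientGroup.mk g : G ⧸ N)} : Set (G ⧸ N)) with hC
  have h1 : (cbar N g).index = C.index :=
    Subgroup.index_comap_of_surjective C (QuotientGroup.mk'_surjective N)
  have h2 : Nat.card (cbar N g) * (cbar N g).index = Nat.card G := Subgroup.card_mul_index _
  have h3 : Nat.card C * C.index = Nat.card (G ⧸ N) := Subgroup.card_mul_index _
  have h4 : Nat.card N * Nat.card (G ⧸ N) = Nat.card G := by
    rw [mul_comm]; exact (Subgroup.card_eq_card_quotient_mul_card_subgroup N).symm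
  have h5 : 0 < C.index := Nat.pos_of_ne_zero (Subgroup.index_ne_zero_of_finite)
  have h6 : Nat.card (cbar N g) * C.index = (Nat.card N * Nat.card C) * C.index := by
    calc Nat.card (cbar N g) * C.index = Nat.card G := by rw [← h1, h2]
      _ = Nat.card N * (Nat.card C * C.index) := by rw [h3, h4]
      _ = _ := by ring
  exact Nat.eq_of_mul_eq_mul_right h5 h6

/-- counting: `|C_G(g)| * |N| = |cbar N g|` for `g ∉ N` -/
theorem card_centralizer_mul (h : IsCam N) {g : G} (hg : g ∉ N) :
    Nat.card N * Nat.card (Subgroup.centralizer ({g} : Set G)) = Nat.card (cbar N g) := by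
  classical
  -- section
  choose! s hs using h g hg
  have hsmem : ∀ n ∈ N, s n ∈ cbar N g := by
    intro n hn
    rw [mem_cbar]
    have := hs n hn
    have e : g⁻¹ * s n * g * (s n)⁻¹ = g⁻¹ * (s n * g * (s n)⁻¹) := by group
    rw [e, this]
    simpa using hn
  have hcomm : ∀ c ∈ Subgroup.centralizer ({g} : Set G), c * g * c⁻¹ = g := by
    intro c hc
    rw [Subgroup.mem_centralizer_iff] at hc
    have := hc g (Set.mem_singleton g)
    rw [← this]; group
  let F : N × Subgroup.centralizer ({g} : Set G) → cbar N g := fun nc =>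
    ⟨s nc.1 * nc.2, (cbar N g).mul_mem (hsmem _ nc.1.2) (centralizer_le_cbar g nc.2.2)⟩
  have key : ∀ nc : N × Subgroup.centralizer ({g} : Set G),
      (s nc.1 * nc.2 : G) * g * (s nc.1 * nc.2 : G)⁻¹ = g * nc.1 := by
    intro nc
    have := hcomm nc.2 nc.2.2
    calc (s nc.1 * nc.2 : G) * g * (s nc.1 * nc.2 : G)⁻¹
        = s nc.1 * ((nc.2 : G) * g * (nc.2 : G)⁻¹) * (s nc.1)⁻¹ := by group
      _ = g * nc.1 := by rw [this]; exact hs _ nc.1.2
  have hinj : Function.Injective F := by
    intro a b hab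
    have h1 : (s a.1 * a.2 : G) = s b.1 * b.2 := congrArg Subtype.val hab
    have h2 : g * a.1 = g * b.1 := by rw [← key a, ← key b, h1]
    have h3 : (a.1 : G) = b.1 := mul_left_cancel h2
    have h4 : a.1 = b.1 := Subtype.ext h3
    have h5 : (a.2 : G) = b.2 := by
      rw [h4] at h1
      exact mul_left_cancel h1
    exact Prod.ext h4 (Subtype.ext h5)
  have hsurj : Function.Surjective F := by
    intro x
    have hx : g⁻¹ * (x : G) * g * (x : G)⁻¹ ∈ N := mem_cbar.mp x.2
    set n : N := ⟨g⁻¹ * (x : G) * g * (x : G)⁻¹, hx⟩ with hn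
    have h1 : s n * g * (s n)⁻¹ = (x : G) * g * (x : G)⁻¹ := by
      rw [hs n n.2]; simp only [hn]; group
    have hc : (s n)⁻¹ * (x : G) ∈ Subgroup.centralizer ({g} : Set G) := by
      rw [Subgroup.mem_centralizer_iff]
      intro y hy
      rw [Set.mem_singleton_iff] at hy
      subst hy
      have : (s n)⁻¹ * (s n * y * (s n)⁻¹) * s n = (s n)⁻¹ * ((x : G) * y * (x : G)⁻¹) * s n := by
        rw [h1]
      have h2 : y = (s n)⁻¹ * ((x : G) * y * (x : G)⁻¹) * s n := by
        rw [← this]; group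
      calc y * ((s n)⁻¹ * (x : G)) = ((s n)⁻¹ * ((x : G) * y * (x : G)⁻¹) * s n) * ((s n)⁻¹ * (x : G)) := by
            rw [← h2]
        _ = (s n)⁻¹ * (x : G) * y := by group
    refine ⟨(n, ⟨(s n)⁻¹ * (x : G), hc⟩), ?_⟩
    apply Subtype.ext
    show s n * ((s n)⁻¹ * (x : G)) = x
    group
  rw [← Nat.card_prod]
  exact Nat.card_congr (Equiv.ofBijective F ⟨hinj, hsurj⟩)

/-- `|C_G(g)| = |C_{G/N}(gN)|` for `g ∉ N` -/
theorem card_centralizer_eq (h : IsCam N) {g : G} (hg : g ∉ N) :
    Nat.card (Subgroup.centralizer ({g} : Set G)) =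
      Nat.card (Subgroup.centralizer ({(QuotientGroup.mk g : G ⧸ N)} : Set (G ⧸ N))) := by
  have h1 := card_centralizer_mul h hg
  rw [card_cbar] at h1
  exact Nat.eq_of_mul_eq_mul_left Nat.card_pos h1

theorem card_centralizer_dvd_index (h : IsCam N) {g : G} (hg : g ∉ N) :
    Nat.card (Subgroup.centralizer ({g} : Set G)) ∣ N.index := by
  rw [card_centralizer_eq h hg, Subgroup.index_eq_card]
  exact Subgroup.card_subgroup_dvd_card _

end Cfsg.Agent.Lib.Lead.Camina
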