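import Mathlib
import Cfsg.Agent.Lib.Lead.Camina2
import Cfsg.Agent.Lib.Lead.CoprimeTools

set_option autoImplicit false

namespace Cfsg.Agent.Lib.Lead.Camina

open scoped commutatorElement

universe u
variable {G : Type u} [Group G] [Finite G]

/-- abstract counting: if `T` is exactly the set of `g⁻¹ x g x⁻¹`, `x ∈ H`, then
`|T| * |C_H(g)| = |H|` -/
theorem card_mul_of_section (H : Subgroup G) (g : G) (T : Set G)
    (h1 : ∀ x ∈ H, g⁻¹ * x * g * x⁻¹ ∈ T) (h2 : ∀ t ∈ T, ∃ x ∈ H, x * g * x⁻¹ = g * t) :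
    Nat.card T * Nat.card ↥(H ⊓ Subgroup.centralizer ({g} : Set G)) = Nat.card H := by
  classical
  choose! s hsH hs using h2
  have hcomm : ∀ c ∈ H ⊓ Subgroup.centralizer ({g} : Set G), c * g * c⁻¹ = g := by
    intro c hc
    have hc2 : c ∈ Subgroup.centralizer ({g} : Set G) := hc.2
    rw [Subgroup.mem_centralizer_iff] at hc2
    have := hc2 g (Set.mem_singleton g)
    rw [← this]; group
  let F : T × ↥(H ⊓ Subgroup.centralizer ({g} : Set G)) → H := fun nc =>
    ⟨s nc.1 * nc.2, H.mul_mem (hsH _ nc.1.2) nc.2.2.1⟩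
  have key : ∀ nc : T × ↥(H ⊓ Subgroup.centralizer ({g} : Set G)),
      (s nc.1 * nc.2 : G) * g * (s nc.1 * nc.2 : G)⁻¹ = g * nc.1 := by
    intro nc
    have := hcomm nc.2 nc.2.2
    calc (s nc.1 * nc.2 : G) * g * (s nc.1 * nc.2 : G)⁻¹
        = s nc.1 * ((nc.2 : G) * g * (nc.2 : G)⁻¹) * (s nc.1)⁻¹ := by group
      _ = g * nc.1 := by rw [this]; exact hs _ nc.1.2
  have hinj : Function.Injective F := by
    intro a b hab
    have e1 : (s a.1 * a.2 : G) = s b.1 * b.2 := congrArg Subtype.val hab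
    have e2 : g * a.1 = g * b.1 := by rw [← key a, ← key b, e1]
    have e3 : (a.1 : G) = b.1 := mul_left_cancel e2
    have e4 : a.1 = b.1 := Subtype.ext e3
    have e5 : (a.2 : G) = b.2 := by
      rw [e4] at e1
      exact mul_left_cancel e1
    exact Prod.ext e4 (Subtype.ext e5)
  have hsurj : Function.Surjective F := by
    intro x
    have hx : g⁻¹ * (x : G) * g * (x : G)⁻¹ ∈ T := h1 x x.2
    set n : T := ⟨g⁻¹ * (x : G) * g * (x : G)⁻¹, hx⟩ with hn
    have e1 : s n * g * (s n)⁻¹ = (x : G) * g * (x : G)⁻¹ := by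
      rw [hs n n.2]; simp only [hn]; group
    have hc : (s n)⁻¹ * (x : G) ∈ Subgroup.centralizer ({g} : Set G) := by
      rw [Subgroup.mem_centralizer_iff]
      intro y hy
      rw [Set.mem_singleton_iff] at hy
      subst hy
      have : (s n)⁻¹ * (s n * y * (s n)⁻¹) * s n = (s n)⁻¹ * ((x : G) * y * (x : G)⁻¹) * s n := by
        rw [e1]
      have e2 : y = (s n)⁻¹ * ((x : G) * y * (x : G)⁻¹) * s n := by
        rw [← this]; group
      calc y * ((s n)⁻¹ * (x : G))
          = ((s n)⁻¹ * ((x : G) * y * (x : G)⁻¹) * s n) * ((s n)⁻¹ * (x : G)) := by rw [← e2]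
        _ = (s n)⁻¹ * (x : G) * y := by group
    have hcH : (s n)⁻¹ * (x : G) ∈ H := H.mul_mem (H.inv_mem (hsH n n.2)) x.2
    refine ⟨(n, ⟨(s n)⁻¹ * (x : G), ⟨hcH, hc⟩⟩), ?_⟩
    apply Subtype.ext
    show s n * ((s n)⁻¹ * (x : G)) = x
    group
  rw [← Nat.card_prod]
  exact Nat.card_congr (Equiv.ofBijective F ⟨hinj, hsurj⟩)

variable {N : Subgroup G} [hNn : N.Normal]

/-- the Tate step: `N ∩ P ≤ Φ(P)` for a Sylow `q`-subgroup `P` of `G`, `q ∣ |G : N|` -/
theorem inf_sylow_le_frattini (h : IsCam N) {q : ℕ} [hq : Fact q.Prime] (hqi : q ∣ N.index)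
    (P : Sylow q G) :
    N ⊓ (P : Subgroup G) ≤ (frattini (P : Subgroup G)).map (P : Subgroup G).subtype := by
  classical
  -- image of P in G/N
  set Pb : Subgroup (G ⧸ N) := (P : Subgroup G).map (QuotientGroup.mk' N) with hPb
  have hPbp : IsPGroup q Pb := P.2.map _
  have hPN : ¬ (P : Subgroup G) ≤ N := by
    intro hle
    have h1 : N.index ∣ (P : Subgroup G).index := Subgroup.index_dvd_of_le hle
    exact P.not_dvd_index (hqi.trans h1)
  haveI : Nontrivial Pb := by
    obtain ⟨x, hxP, hxN⟩ := Set.not_subset.mp hPN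
    refine ⟨⟨⟨QuotientGroup.mk' N x, Subgroup.mem_map_of_mem _ hxP⟩, 1, ?_⟩⟩
    intro e
    have : (QuotientGroup.mk' N x : G ⧸ N) = 1 := congrArg Subtype.val e
    exact hxN ((QuotientGroup.eq_one_iff x).mp this)
  haveI := hPbp.center_nontrivial
  obtain ⟨z, hz1⟩ := exists_ne (1 : Subgroup.center Pb)
  obtain ⟨g, hgP, hgz⟩ := Subgroup.mem_map.mp (z : Pb).2
  have hgN : g ∉ N := by
    intro hg
    apply hz1
    apply Subtype.ext; apply Subtype.ext
    rw [← hgz]
    exact (QuotientGroup.eq_one_iff g).mpr hg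
  have hcent : ∀ y ∈ (P : Subgroup G), g⁻¹ * y * g * y⁻¹ ∈ N := by
    intro y hy
    have hyb : (QuotientGroup.mk' N y) ∈ Pb := Subgroup.mem_map_of_mem _ hy
    have h1 := Subgroup.mem_center_iff.mp z.2 ⟨_, hyb⟩
    have h2 : (QuotientGroup.mk' N y) * (QuotientGroup.mk' N g) =
        (QuotientGroup.mk' N g) * (QuotientGroup.mk' N y) := by
      have := congrArg Subtype.val h1
      rw [hgz]; exact this
    apply (QuotientGroup.eq_one_iff _).mp
    have e : ((g⁻¹ * y * g * y⁻¹ : G) : G ⧸ N)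
        = (QuotientGroup.mk' N g)⁻¹ * ((QuotientGroup.mk' N y) * (QuotientGroup.mk' N g))
          * (QuotientGroup.mk' N y)⁻¹ := by
      simp [mul_assoc]
    rw [e, h2]; group
  -- the set T
  set T : Set G := {t | ∃ y ∈ (P : Subgroup G), g⁻¹ * y * g * y⁻¹ = t} with hT
  have hTsub : T ⊆ ((N ⊓ (P : Subgroup G) : Subgroup G) : Set G) := by
    rintro t ⟨y, hy, rfl⟩
    refine ⟨hcent y hy, ?_⟩
    exact (P : Subgroup G).mul_mem ((P : Subgroup G).mul_mem ((P : Subgroup G).mul_mem
      ((P : Subgroup G).inv_mem hgP) hy) hgP) ((P : Subgroup G).inv_mem hy)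
  have hcount := card_mul_of_section (P : Subgroup G) g T (fun x hx => ⟨x, hx, rfl⟩)
    (by
      rintro t ⟨y, hy, rfl⟩
      exact ⟨y, hy, by group⟩)
  -- |C_P(g)| divides |N.relIndex P|
  set C : Subgroup G := (P : Subgroup G) ⊓ Subgroup.centralizer ({g} : Set G) with hC
  have hCdvd : Nat.card C ∣ N.relIndex (P : Subgroup G) := by
    have h1 : Nat.card C ∣ N.index :=
      (Subgroup.card_dvd_of_le inf_le_right).trans (card_centralizer_dvd_index h hgN)
    have hnorm : (P : Subgroup G) ≤ Subgroup.normalizer (N : Set G) := by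
      rw [Subgroup.normalizer_eq_top_iff.mpr hNn]; exact le_top
    have h2 : N.relIndex ((P : Subgroup G) ⊔ N) * ((P : Subgroup G) ⊔ N).index = N.index :=
      Subgroup.relIndex_mul_index le_sup_right
    rw [relIndex_sup_of_le_normalizer _ N hnorm] at h2
    have hCp : IsPGroup q C := P.2.to_le inf_le_left
    obtain ⟨c, hc⟩ := IsPGroup.iff_card.mp hCp
    have h3 : ((P : Subgroup G) ⊔ N).index ∣ (P : Subgroup G).index :=
      Subgroup.index_dvd_of_le le_sup_left
    have hcop : (Nat.card C).Coprime ((P : Subgroup G) ⊔ N).index := by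
      rw [hc]
      apply Nat.Coprime.pow_left
      rw [Nat.Prime.coprime_iff_not_dvd hq.out]
      intro hd
      exact P.not_dvd_index (hd.trans h3)
    rw [← h2] at h1
    exact hcop.dvd_of_dvd_mul_right h1
  -- cards
  have hcardP : Nat.card (N ⊓ (P : Subgroup G) : Subgroup G) * N.relIndex (P : Subgroup G)
      = Nat.card (P : Subgroup G) := by
    have := Subgroup.relIndex_mul_relIndex (H := (⊥ : Subgroup G)) (K := N ⊓ (P : Subgroup G))
      (L := (P : Subgroup G)) bot_le inf_le_right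
    rw [Subgroup.relIndex_bot_left, Subgroup.relIndex_bot_left, Subgroup.inf_relIndex_right] at this
    exact this
  have hTfin : T.Finite := Set.toFinite T
  have hTle : Nat.card T ≤ Nat.card (N ⊓ (P : Subgroup G) : Subgroup G) :=
    Nat.card_mono (Set.toFinite _) hTsub
  have hrelpos : 0 < N.relIndex (P : Subgroup G) := by
    rcases Nat.eq_zero_or_pos (N.relIndex (P : Subgroup G)) with h0 | h0
    · rw [h0, mul_zero] at hcardP
      exact absurd hcardP.symm (Nat.card_pos).ne'
    · exact h0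
  have hCle : Nat.card C ≤ N.relIndex (P : Subgroup G) := Nat.le_of_dvd hrelpos hCdvd
  have hTeq : Nat.card T = Nat.card (N ⊓ (P : Subgroup G) : Subgroup G) := by
    apply le_antisymm hTle
    by_contra hlt
    push Not at hlt
    have : Nat.card T * Nat.card C < Nat.card (N ⊓ (P : Subgroup G) : Subgroup G)
        * N.relIndex (P : Subgroup G) := by
      calc Nat.card T * Nat.card C ≤ Nat.card T * N.relIndex (P : Subgroup G) :=
            Nat.mul_le_mul_left _ hCle
        _ < _ := Nat.mul_lt_mul_of_pos_right hlt hrelpos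
    rw [hcount, hcardP] at this
    exact lt_irrefl _ this
  have hTall : T = ((N ⊓ (P : Subgroup G) : Subgroup G) : Set G) := by
    apply Set.eq_of_subset_of_ncard_le hTsub _ (Set.toFinite _)
    rw [← Nat.card_coe_set_eq, ← Nat.card_coe_set_eq]
    exact hTeq.ge
  -- conclusion
  intro n hn
  have hnT : n ∈ T := by rw [hTall]; exact hn
  obtain ⟨y, hy, rfl⟩ := hnT
  set a : ↥(P : Subgroup G) := ⟨g⁻¹, (P : Subgroup G).inv_mem hgP⟩ with ha
  set b : ↥(P : Subgroup G) := ⟨y, hy⟩ with hb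
  have hab : ⁅a, b⁆ ∈ commutator ↥(P : Subgroup G) := by
    rw [commutator_def]
    exact Subgroup.commutator_mem_commutator (Subgroup.mem_top a) (Subgroup.mem_top b)
  have hcomm : (⟨g⁻¹ * y * g * y⁻¹, hn.2⟩ : ↥(P : Subgroup G)) ∈ commutator ↥(P : Subgroup G) := by
    have e : (⟨g⁻¹ * y * g * y⁻¹, hn.2⟩ : ↥(P : Subgroup G)) = ⁅a, b⁆ := by
      apply Subtype.ext
      simp [commutatorElement_def, ha, hb]
    rw [e]; exact hab
  exact Subgroup.mem_map.mpr ⟨_, commutator_le_frattini_of_isPGroup P.2 hcomm, rfl⟩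

/-- `N` has a normal `q`-complement for every prime `q` dividing `|G : N|` -/
theorem hasNormalPComplement (h : IsCam N) {q : ℕ} [hq : Fact q.Prime] (hqi : q ∣ N.index) :
    Cfsg.HasNormalPComplement q N := by
  obtain ⟨P⟩ : Nonempty (Sylow q G) := inferInstance
  exact tate P N (inf_sylow_le_frattini h hqi P)

end Cfsg.Agent.Lib.Lead.Camina
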