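import Mathlib
import Cfsg.Agent.Lib.Lead.Camina3

set_option autoImplicit false

namespace Cfsg.Agent.Lib.Lead.Camina

universe u

section general
variable {X : Type u} [Group X] [Finite X]

theorem card_comap_mk' (Z : Subgroup X) [Z.Normal] (K : Subgroup (X ⧸ Z)) :
    Nat.card (K.comap (QuotientGroup.mk' Z)) = Nat.card Z * Nat.card K := by
  have h1 : (K.comap (QuotientGroup.mk' Z)).index = K.index :=
    Subgroup.index_comap_of_surjective K (QuotientGroup.mk'_surjective Z)
  have h2 : Nat.card (K.comap (QuotientGroup.mk' Z)) * (K.comap (QuotientGroup.mk' Z)).index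
      = Nat.card X := Subgroup.card_mul_index _
  have h3 : Nat.card K * K.index = Nat.card (X ⧸ Z) := Subgroup.card_mul_index _
  have h4 : Nat.card Z * Nat.card (X ⧸ Z) = Nat.card X := by
    rw [mul_comm]; exact (Subgroup.card_eq_card_quotient_mul_card_subgroup Z).symm
  have h5 : 0 < K.index := Nat.pos_of_ne_zero (Subgroup.index_ne_zero_of_finite)
  have h6 : Nat.card (K.comap (QuotientGroup.mk' Z)) * K.index
      = (Nat.card Z * Nat.card K) * K.index := by
    calc Nat.card (K.comap (QuotientGroup.mk' Z)) * K.index = Nat.card X := by rw [← h1, h2]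
      _ = Nat.card Z * (Nat.card K * K.index) := by rw [h3, h4]
      _ = _ := by ring
  exact Nat.eq_of_mul_eq_mul_right h5 h6

/-- an element `x` of order `p^e`, maximal among `p`-elements, whose centralizer has order
divisible by `p^(e+1)`, lies in a noncyclic abelian `p`-subgroup -/
theorem exists_noncyclic_abelian {p : ℕ} [hp : Fact p.Prime] (x : X) (e : ℕ)
    (hx : orderOf x = p ^ e)
    (hmax : ∀ y : X, (∃ k : ℕ, orderOf y = p ^ k) → orderOf y ≤ p ^ e)
    (hdvd : p ^ (e + 1) ∣ Nat.card (Subgroup.centralizer ({x} : Set X))) :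
    ∃ A : Subgroup X, IsMulCommutative A ∧ IsPGroup p A ∧ ¬ IsCyclic A := by
  classical
  set C : Subgroup X := Subgroup.centralizer ({x} : Set X) with hC
  have hxC : x ∈ C := by
    rw [hC, Subgroup.mem_centralizer_iff]
    intro y hy
    rw [Set.mem_singleton_iff] at hy
    rw [hy]
  set xC : C := ⟨x, hxC⟩ with hxCdef
  set Z : Subgroup C := Subgroup.zpowers xC with hZ
  have hZcen : Z ≤ Subgroup.center C := by
    rw [hZ, Subgroup.zpowers_le]
    rw [Subgroup.mem_center_iff]
    intro c
    apply Subtype.ext
    have hc : (c : X) ∈ Subgroup.centralizer ({x} : Set X) := c.2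
    rw [Subgroup.mem_centralizer_iff] at hc
    have := hc x (Set.mem_singleton x)
    simpa [hxCdef] using this.symm
  haveI hZn : Z.Normal := by
    constructor
    intro z hz c
    have := Subgroup.mem_center_iff.mp (hZcen hz) c
    have e1 : c * z * c⁻¹ = z := by rw [this]; group
    rw [e1]; exact hz
  have hZcard : Nat.card Z = p ^ e := by
    rw [hZ, Nat.card_zpowers]
    have : orderOf xC = orderOf x := by
      rw [hxCdef]; exact (Subgroup.orderOf_mk x hxC)
    rw [this, hx]
  have hQdvd : p ∣ Nat.card (C ⧸ Z) := by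
    have h1 : Nat.card C = Nat.card (C ⧸ Z) * Nat.card Z :=
      Subgroup.card_eq_card_quotient_mul_card_subgroup Z
    rw [hZcard] at h1
    rw [h1, pow_succ] at hdvd
    have hpos : 0 < p ^ e := pow_pos hp.out.pos e
    rw [mul_comm (Nat.card (C ⧸ Z))] at hdvd
    exact Nat.dvd_of_mul_dvd_mul_left hpos hdvd
  obtain ⟨w, hw⟩ := exists_prime_orderOf_dvd_card' p hQdvd
  set A' : Subgroup C := (Subgroup.zpowers w).comap (QuotientGroup.mk' Z) with hA'
  have hA'card : Nat.card A' = p ^ (e + 1) := by
    rw [hA', card_comap_mk', hZcard, Nat.card_zpowers, hw, pow_succ]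
  have hZA' : Z ≤ A' := by
    intro z hz
    rw [hA', Subgroup.mem_comap]
    have : QuotientGroup.mk' Z z = 1 := (QuotientGroup.eq_one_iff z).mpr hz
    rw [this]; exact Subgroup.one_mem _
  -- commutativity
  let f : A' →* Subgroup.zpowers w :=
    ((QuotientGroup.mk' Z).comp A'.subtype).codRestrict (Subgroup.zpowers w) (fun a => a.2)
  have hker : f.ker ≤ Subgroup.center A' := by
    intro a ha
    rw [MonoidHom.mem_ker] at ha
    have h1 : QuotientGroup.mk' Z (a : C) = 1 := by
      have := congrArg Subtype.val ha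
      exact this
    have h2 : (a : C) ∈ Z := (QuotientGroup.eq_one_iff _).mp h1
    rw [Subgroup.mem_center_iff]
    intro b
    apply Subtype.ext
    exact Subgroup.mem_center_iff.mp (hZcen h2) (b : C)
  have hcommA' : ∀ a b : A', a * b = b * a := commutative_of_cyclic_center_quotient f hker
  haveI : IsMulCommutative A' := ⟨⟨hcommA'⟩⟩
  refine ⟨A'.map C.subtype, inferInstance, ?_, ?_⟩
  · apply IsPGroup.of_card (n := e + 1)
    rw [Subgroup.card_map_of_injective C.subtype_injective, hA'card]
  · intro hcyc
    obtain ⟨a, ha⟩ := hcyc.exists_generator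
    have hoa : orderOf a = p ^ (e + 1) := by
      rw [orderOf_eq_card_of_forall_mem_zpowers ha,
        Subgroup.card_map_of_injective C.subtype_injective, hA'card]
    have hoa' : orderOf (a : X) = p ^ (e + 1) := by rw [Subgroup.orderOf_coe, hoa]
    have := hmax (a : X) ⟨e + 1, hoa'⟩
    rw [hoa'] at this
    exact absurd this (not_le.mpr (Nat.pow_lt_pow_right hp.out.one_lt (Nat.lt_succ_self e)))

end general

end Cfsg.Agent.Lib.Lead.Camina
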