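import Mathlib
import Cfsg.Agent.Lib.Lead.Camina4

set_option autoImplicit false

namespace Cfsg.Agent.Lib.Lead.Camina

universe u
variable {G : Type u} [Group G] [Finite G] {N : Subgroup G} [hNn : N.Normal]

/-- `p`-elements of `G ⧸ N` lift to `p`-elements -/
theorem exists_lift_pElement {p : ℕ} [hp : Fact p.Prime] (yb : G ⧸ N)
    (hyb : ∃ k : ℕ, orderOf yb = p ^ k) :
    ∃ y : G, (∃ k : ℕ, orderOf y = p ^ k) ∧ (QuotientGroup.mk y : G ⧸ N) = yb := by
  obtain ⟨k, hk⟩ := hyb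
  obtain ⟨y0, rfl⟩ := QuotientGroup.mk_surjective yb
  obtain ⟨a, m, hm, hym⟩ := Nat.exists_eq_pow_mul_and_not_dvd (orderOf_pos y0).ne' p
    hp.out.ne_one
  have hcop : m.Coprime (orderOf (QuotientGroup.mk y0 : G ⧸ N)) := by
    rw [hk]
    exact (Nat.Coprime.pow_left k ((Nat.Prime.coprime_iff_not_dvd hp.out).mpr hm)).symm
  obtain ⟨m', hm'⟩ := exists_pow_eq_self_of_coprime hcop
  refine ⟨(y0 ^ m) ^ m', ?_, ?_⟩
  · have h1 : orderOf (y0 ^ m) = p ^ a := by
      have hm0 : m ≠ 0 := by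
        rintro rfl
        exact hm (dvd_zero p)
      rw [orderOf_pow' _ hm0, hym, Nat.gcd_eq_right (dvd_mul_left _ _),
        Nat.mul_div_cancel _ (Nat.pos_of_ne_zero hm0)]
    have h2 : orderOf ((y0 ^ m) ^ m') ∣ p ^ a := by
      rw [← h1]; exact orderOf_pow_dvd m'
    obtain ⟨j, -, hj⟩ := (Nat.dvd_prime_pow hp.out).mp h2
    exact ⟨j, hj⟩
  · simpa using hm'

/-- a `p`-element acting on `N` with `p ∣ |N|` has a nontrivial fixed point -/
theorem centralizer_inf_ne_bot {p : ℕ} [hp : Fact p.Prime] (hpN : p ∣ Nat.card N) {g : G}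
    (hg : ∃ k : ℕ, orderOf g = p ^ k) : N ⊓ Subgroup.centralizer ({g} : Set G) ≠ ⊥ := by
  classical
  set S : Subgroup (ConjAct G) := Subgroup.zpowers (ConjAct.toConjAct g) with hS
  have hSp : IsPGroup p S := by
    obtain ⟨k, hk⟩ := hg
    apply IsPGroup.of_card (n := k)
    rw [hS, Nat.card_zpowers]
    rw [← hk]
    exact orderOf_injective (ConjAct.toConjAct (G := G)).toMonoidHom
      (ConjAct.toConjAct (G := G)).injective g
  have hfix : (1 : N) ∈ MulAction.fixedPoints S N := by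
    intro s
    exact smul_one s
  obtain ⟨b, hb, hb1⟩ := hSp.exists_fixed_point_of_prime_dvd_card_of_fixed_point N hpN hfix
  intro hbot
  apply hb1
  have hgS : ConjAct.toConjAct g ∈ S := Subgroup.mem_zpowers _
  have h1 := hb ⟨_, hgS⟩
  have h2 : g * (b : G) * g⁻¹ = b := by
    have := congrArg Subtype.val h1
    simpa [Subgroup.smul_def, ConjAct.Subgroup.val_conj_smul, ConjAct.smul_def] using this
  have h3 : (b : G) ∈ N ⊓ Subgroup.centralizer ({g} : Set G) := by
    refine ⟨b.2, ?_⟩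
    show (b : G) ∈ Subgroup.centralizer ({g} : Set G)
    rw [Subgroup.mem_centralizer_iff]
    intro y hy
    rw [Set.mem_singleton_iff] at hy
    subst hy
    calc y * (b : G) = (y * (b : G) * y⁻¹) * y := by group
      _ = (b : G) * y := by rw [h2]
  rw [hbot, Subgroup.mem_bot] at h3
  exact (Subtype.ext h3).symm

/-- Lemma K -/
theorem exists_noncyclic_abelian_quotient (h : IsCam N) {p : ℕ} [hp : Fact p.Prime]
    (hpN : p ∣ Nat.card N) (hpi : p ∣ N.index) :
    ∃ A : Subgroup (G ⧸ N), IsMulCommutative A ∧ IsPGroup p A ∧ ¬ IsCyclic A := by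
  classical
  -- a p-element of maximal order in G/N
  have hne : ∃ n : ℕ, ∃ x : G ⧸ N, (∃ k : ℕ, orderOf x = p ^ k) ∧ orderOf x = n :=
    ⟨1, 1, ⟨0, by simp⟩, by simp⟩
  have hbdd : ∀ n : ℕ, (∃ x : G ⧸ N, (∃ k : ℕ, orderOf x = p ^ k) ∧ orderOf x = n) →
      n ≤ Nat.card (G ⧸ N) := by
    rintro n ⟨x, -, rfl⟩
    exact orderOf_le_card
  obtain ⟨x, ⟨e, hxe⟩, hxmax⟩ : ∃ x : G ⧸ N, (∃ k : ℕ, orderOf x = p ^ k) ∧
      ∀ y : G ⧸ N, (∃ k : ℕ, orderOf y = p ^ k) → orderOf y ≤ orderOf x := by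
    obtain ⟨x, hx1, hx2⟩ := Nat.findGreatest_spec (P := fun n => ∃ x : G ⧸ N,
      (∃ k : ℕ, orderOf x = p ^ k) ∧ orderOf x = n) (m := 1) (n := Nat.card (G ⧸ N))
      (Nat.card_pos) ⟨1, ⟨0, by simp⟩, by simp⟩
    refine ⟨x, hx1, fun y hy => ?_⟩
    rw [hx2]
    exact Nat.le_findGreatest (hbdd _ ⟨y, hy, rfl⟩) ⟨y, hy, rfl⟩
  have he1 : 1 ≤ e := by
    rw [Subgroup.index_eq_card] at hpi
    obtain ⟨w, hw⟩ := exists_prime_orderOf_dvd_card' p hpi
    have := hxmax w ⟨1, by rw [hw, pow_one]⟩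
    rw [hw, hxe] at this
    by_contra hlt
    have he0 : e = 0 := by omega
    rw [he0, pow_zero] at this
    exact absurd this (not_le.mpr hp.out.one_lt)
  obtain ⟨g, hgp, hgx⟩ := exists_lift_pElement x ⟨e, hxe⟩
  have hgN : g ∉ N := by
    intro hg
    have : (QuotientGroup.mk g : G ⧸ N) = 1 := (QuotientGroup.eq_one_iff g).mpr hg
    rw [hgx] at this
    rw [this, orderOf_one] at hxe
    have : 1 < p ^ e := Nat.one_lt_pow (by omega) hp.out.one_lt
    omega
  -- the subgroup T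
  set CN : Subgroup G := N ⊓ Subgroup.centralizer ({g} : Set G) with hCN
  have hCN1 : CN ≠ ⊥ := centralizer_inf_ne_bot hpN hgp
  have hCNp : IsPGroup p CN := isPGroup_centralizer h hgN hgp
  have hpCN : p ∣ Nat.card CN := by
    obtain ⟨k, hk⟩ := IsPGroup.iff_card.mp hCNp
    rcases Nat.eq_zero_or_pos k with h0 | h0
    · rw [h0, pow_zero] at hk
      exact absurd (Subgroup.card_eq_one.mp hk) hCN1
    · rw [hk]; exact dvd_pow_self p (by omega)
  set T : Subgroup G := Subgroup.zpowers g ⊔ CN with hT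
  have hTle : T ≤ Subgroup.centralizer ({g} : Set G) := by
    rw [hT]
    apply sup_le
    · rw [Subgroup.zpowers_le, Subgroup.mem_centralizer_iff]
      intro y hy
      rw [Set.mem_singleton_iff] at hy
      rw [hy]
    · exact inf_le_right
  have hTmap : T.map (QuotientGroup.mk' N) = Subgroup.zpowers x := by
    rw [hT, Subgroup.map_sup, MonoidHom.map_zpowers]
    have h1 : CN.map (QuotientGroup.mk' N) = ⊥ := by
      rw [eq_bot_iff]
      rintro _ ⟨c, hc, rfl⟩
      rw [Subgroup.mem_bot]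
      exact (QuotientGroup.eq_one_iff c).mpr hc.1
    rw [h1, sup_bot_eq]
    congr 1
  have hrel : N.relIndex T = p ^ e := by
    have := Subgroup.relIndex_ker (K := T) (QuotientGroup.mk' N)
    rw [QuotientGroup.ker_mk'] at this
    rw [this, hTmap, Nat.card_zpowers, hxe]
  have hcardT : Nat.card (N ⊓ T : Subgroup G) * N.relIndex T = Nat.card T := by
    have := Subgroup.relIndex_mul_relIndex (H := (⊥ : Subgroup G)) (K := N ⊓ T)
      (L := T) bot_le inf_le_right
    rw [Subgroup.relIndex_bot_left, Subgroup.relIndex_bot_left, Subgroup.inf_relIndex_right] at this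
    exact this
  have hCNle : CN ≤ N ⊓ T := le_inf inf_le_left le_sup_right
  have hpNT : p ∣ Nat.card (N ⊓ T : Subgroup G) := hpCN.trans (Subgroup.card_dvd_of_le hCNle)
  have hdvdT : p ^ (e + 1) ∣ Nat.card T := by
    rw [← hcardT, hrel, pow_succ, mul_comm]
    exact Nat.mul_dvd_mul_right hpNT _
  have hdvdC : p ^ (e + 1) ∣ Nat.card (Subgroup.centralizer ({x} : Set (G ⧸ N))) := by
    have h1 := card_centralizer_eq h hgN
    rw [hgx] at h1
    rw [← h1]
    exact hdvdT.trans (Subgroup.card_dvd_of_le hTle)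
  exact exists_noncyclic_abelian x e hxe (fun y hy => by rw [← hxe]; exact hxmax y hy) hdvdC

end Cfsg.Agent.Lib.Lead.Camina
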