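import Mathlib
import Cfsg.Agent.Lib.Lead.Camina5
import Cfsg.Agent.Lib.Lead.GenCentralizers

set_option autoImplicit false

namespace Cfsg.Agent.Lib.Lead.Camina

universe u
variable {G : Type u} [Group G]

/-- the subgroup of `G` generated by the `p`-elements of `N` -/
def pGen (p : ℕ) (N : Subgroup G) : Subgroup G :=
  Subgroup.closure {x : G | x ∈ N ∧ ∃ k : ℕ, orderOf x = p ^ k}

theorem pGen_le (p : ℕ) (N : Subgroup G) : pGen p N ≤ N := by
  unfold pGen
  rw [Subgroup.closure_le]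
  intro x hx
  exact hx.1

theorem mem_pGen {p : ℕ} {N : Subgroup G} {x : G} (hx : x ∈ N) (hxp : ∃ k : ℕ, orderOf x = p ^ k) :
    x ∈ pGen p N := Subgroup.subset_closure ⟨hx, hxp⟩

instance pGen_normal (p : ℕ) (N : Subgroup G) [hNn : N.Normal] : (pGen p N).Normal := by
  constructor
  intro x hx g
  have hle : (pGen p N).map (MulAut.conj g).toMonoidHom ≤ pGen p N := by
    unfold pGen
    rw [MonoidHom.map_closure, Subgroup.closure_le]
    rintro _ ⟨y, ⟨hyN, k, hk⟩, rfl⟩
    apply Subgroup.subset_closure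
    refine ⟨hNn.conj_mem y hyN g, k, ?_⟩
    rw [← hk]
    exact orderOf_conj' g y
  exact hle (Subgroup.mem_map_of_mem _ hx)

/-- the Camina condition passes to quotients by normal subgroups contained in `N` -/
theorem IsCam.quotient {N : Subgroup G} (h : IsCam N) (L : Subgroup G) [L.Normal] (hLN : L ≤ N) :
    IsCam (N.map (QuotientGroup.mk' L)) := by
  intro gb hgb nb hnb
  obtain ⟨g, rfl⟩ := QuotientGroup.mk'_surjective L gb
  obtain ⟨n, hn, rfl⟩ := Subgroup.mem_map.mp hnb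
  have hg : g ∉ N := fun hg => hgb (Subgroup.mem_map_of_mem _ hg)
  obtain ⟨x, hx⟩ := h g hg n hn
  refine ⟨QuotientGroup.mk' L x, ?_⟩
  rw [← map_inv, ← map_mul, ← map_mul, hx, map_mul]

theorem mem_of_mk'_mem_map {N L : Subgroup G} [L.Normal] (hLN : L ≤ N) {a : G}
    (ha : QuotientGroup.mk' L a ∈ N.map (QuotientGroup.mk' L)) : a ∈ N := by
  obtain ⟨n, hn, hna⟩ := Subgroup.mem_map.mp ha
  have h1 : n⁻¹ * a ∈ L := by
    apply (QuotientGroup.eq_one_iff _).mp
    have : (QuotientGroup.mk' L (n⁻¹ * a)) = (QuotientGroup.mk' L n)⁻¹ * QuotientGroup.mk' L a := by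
      rw [map_mul, map_inv]
    rw [show ((n⁻¹ * a : G) : G ⧸ L) = QuotientGroup.mk' L (n⁻¹ * a) from rfl, this, hna]
    group
  have : a = n * (n⁻¹ * a) := by group
  rw [this]
  exact N.mul_mem hn (hLN h1)

variable [Finite G] {N : Subgroup G} [hNn : N.Normal]

/-- if `G ⧸ N` contains a noncyclic abelian `p`-subgroup then `N` is generated by its
`p`-elements -/
theorem pGen_eq (h : IsCam N) {p : ℕ} [hp : Fact p.Prime] (A : Subgroup (G ⧸ N))
    [hAc : IsMulCommutative A] (hAp : IsPGroup p A) (hAnc : ¬ IsCyclic A) : pGen p N = N := by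
  classical
  by_contra hne
  set L : Subgroup G := pGen p N with hL
  have hLN : L ≤ N := pGen_le p N
  set φ : G →* G ⧸ L := QuotientGroup.mk' L with hφ
  set Nb : Subgroup (G ⧸ L) := N.map φ with hNb
  haveI hNbn : Nb.Normal := hNn.map φ (QuotientGroup.mk'_surjective L)
  have hcamb : IsCam Nb := h.quotient L hLN
  -- (1) Nb ≠ ⊥
  have hNb1 : Nb ≠ ⊥ := by
    intro hbot
    apply hne
    apply le_antisymm hLN
    intro n hn
    have : φ n ∈ Nb := Subgroup.mem_map_of_mem _ hn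
    rw [hbot, Subgroup.mem_bot] at this
    exact (QuotientGroup.eq_one_iff n).mp this
  -- (2) p ∤ |Nb|
  have hNbp : ¬ p ∣ Nat.card Nb := by
    intro hdvd
    obtain ⟨w, hw⟩ := exists_prime_orderOf_dvd_card' p hdvd
    have hw' : orderOf (w : G ⧸ L) = p := by rw [Subgroup.orderOf_coe, hw]
    obtain ⟨y, hyp, hyw⟩ := exists_lift_pElement (N := L) (w : G ⧸ L) ⟨1, by rw [hw', pow_one]⟩
    have hyN : y ∈ N := by
      apply mem_of_mk'_mem_map hLN
      show (QuotientGroup.mk y : G ⧸ L) ∈ Nb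
      rw [hyw]; exact w.2
    have hyL : y ∈ L := mem_pGen hyN hyp
    have : (QuotientGroup.mk y : G ⧸ L) = 1 := (QuotientGroup.eq_one_iff y).mpr hyL
    rw [hyw] at this
    rw [this, orderOf_one] at hw'
    exact hp.out.one_lt.ne hw'
  -- (4) the Sylow subgroup Q
  set H : Subgroup G := A.comap (QuotientGroup.mk' N) with hH
  have hNH : N ≤ H := by
    intro n hn
    rw [hH, Subgroup.mem_comap]
    have : QuotientGroup.mk' N n = 1 := (QuotientGroup.eq_one_iff n).mpr hn
    rw [this]; exact A.one_mem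
  obtain ⟨Q⟩ : Nonempty (Sylow p H) := inferInstance
  set Qg : Subgroup G := (Q : Subgroup H).map H.subtype with hQg
  have hQgH : Qg ≤ H := Subgroup.map_subtype_le _
  have hQgp : IsPGroup p Qg := Q.2.map _
  have hHmap : H.map (QuotientGroup.mk' N) = A :=
    Subgroup.map_comap_eq_self_of_surjective (QuotientGroup.mk'_surjective N) A
  have hQgmap : Qg.map (QuotientGroup.mk' N) = A := by
    have hsup : Qg ⊔ N = H := by
      apply le_antisymm (sup_le hQgH hNH)
      -- index argument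
      have h1 : (Qg ⊔ N).relIndex H ∣ Qg.relIndex H :=
        Subgroup.relIndex_dvd_of_le_left H le_sup_left
      have h2 : (Qg ⊔ N).relIndex H ∣ N.relIndex H :=
        Subgroup.relIndex_dvd_of_le_left H le_sup_right
      have h3 : N.relIndex H = Nat.card A := by
        have := Subgroup.relIndex_ker (K := H) (QuotientGroup.mk' N)
        rw [QuotientGroup.ker_mk', hHmap] at this
        exact this
      have h4 : ¬ p ∣ Qg.relIndex H := by
        have : Qg.relIndex H = (Q : Subgroup H).index := by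
          rw [hQg, Subgroup.relIndex, Subgroup.subgroupOf,
            Subgroup.comap_map_eq_self_of_injective (Subgroup.subtype_injective _)]
        rw [this]; exact Q.not_dvd_index
      obtain ⟨k, hk⟩ := IsPGroup.iff_card.mp hAp
      rw [h3, hk] at h2
      obtain ⟨j, -, hj⟩ := (Nat.dvd_prime_pow hp.out).mp h2
      have hj0 : j = 0 := by
        by_contra hj0
        apply h4
        have : p ∣ (Qg ⊔ N).relIndex H := by
          rw [hj]; exact dvd_pow_self p hj0
        exact this.trans h1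
      rw [hj0, pow_zero] at hj
      exact Subgroup.relIndex_eq_one.mp hj
    rw [← hHmap, ← hsup, Subgroup.map_sup]
    have : N.map (QuotientGroup.mk' N) = ⊥ := by
      rw [eq_bot_iff]
      rintro _ ⟨n, hn, rfl⟩
      rw [Subgroup.mem_bot]
      exact (QuotientGroup.eq_one_iff n).mpr hn
    rw [this, sup_bot_eq]
  -- p-elements of Qg lying in N are in L
  have hQgNL : ∀ a ∈ Qg, a ∈ N → a ∈ L := by
    intro a haQ haN
    apply mem_pGen haN
    obtain ⟨k, hk⟩ := hQgp ⟨a, haQ⟩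
    have hk' : a ^ p ^ k = 1 := congrArg Subtype.val hk
    obtain ⟨j, -, hj⟩ := (Nat.dvd_prime_pow hp.out).mp (orderOf_dvd_of_pow_eq_one hk')
    exact ⟨j, hj⟩
  -- (5) Qb
  set Qb : Subgroup (G ⧸ L) := Qg.map φ with hQb
  have hQbp : IsPGroup p Qb := hQgp.map _
  haveI hQbc : IsMulCommutative Qb := by
    refine ⟨⟨?_⟩⟩
    rintro ⟨_, ⟨a, ha, rfl⟩⟩ ⟨_, ⟨b, hb, rfl⟩⟩
    apply Subtype.ext
    show φ a * φ b = φ b * φ a
    have hc : a * b * a⁻¹ * b⁻¹ ∈ N := by
      apply (QuotientGroup.eq_one_iff _).mp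
      have haA : QuotientGroup.mk' N a ∈ A := by
        rw [← hQgmap]; exact Subgroup.mem_map_of_mem _ ha
      have hbA : QuotientGroup.mk' N b ∈ A := by
        rw [← hQgmap]; exact Subgroup.mem_map_of_mem _ hb
      have hcomm : QuotientGroup.mk' N a * QuotientGroup.mk' N b
          = QuotientGroup.mk' N b * QuotientGroup.mk' N a := by
        have := hAc.is_comm.comm (⟨_, haA⟩ : A) ⟨_, hbA⟩
        simpa using congrArg Subtype.val this
      have e : ((a * b * a⁻¹ * b⁻¹ : G) : G ⧸ N)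
          = QuotientGroup.mk' N a * QuotientGroup.mk' N b * (QuotientGroup.mk' N a)⁻¹
            * (QuotientGroup.mk' N b)⁻¹ := by
        simp
      rw [e, hcomm]; group
    have hcQ : a * b * a⁻¹ * b⁻¹ ∈ Qg :=
      Qg.mul_mem (Qg.mul_mem (Qg.mul_mem ha hb) (Qg.inv_mem ha)) (Qg.inv_mem hb)
    have hcL : a * b * a⁻¹ * b⁻¹ ∈ L := hQgNL _ hcQ hc
    have h1 : φ (a * b * a⁻¹ * b⁻¹) = 1 := (QuotientGroup.eq_one_iff _).mpr hcL
    rw [map_mul, map_mul, map_mul, map_inv, map_inv] at h1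
    calc φ a * φ b = (φ a * φ b * (φ a)⁻¹ * (φ b)⁻¹) * (φ b * φ a) := by group
      _ = φ b * φ a := by rw [h1, one_mul]
  -- (6) Qb not cyclic
  have hQbnc : ¬ IsCyclic Qb := by
    intro hcyc
    apply hAnc
    obtain ⟨gen, hgen⟩ := hcyc.exists_generator
    obtain ⟨a0, ha0, ha0gen⟩ := Subgroup.mem_map.mp gen.2
    have ha0A : QuotientGroup.mk' N a0 ∈ A := by
      rw [← hQgmap]; exact Subgroup.mem_map_of_mem _ ha0
    refine ⟨⟨⟨_, ha0A⟩, ?_⟩⟩
    rintro ⟨x, hx⟩
    rw [← hQgmap] at hx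
    obtain ⟨q, hq, rfl⟩ := Subgroup.mem_map.mp hx
    have hqb : φ q ∈ Qb := Subgroup.mem_map_of_mem _ hq
    obtain ⟨k, hk⟩ := Subgroup.mem_zpowers_iff.mp (hgen ⟨_, hqb⟩)
    have hk' : (φ a0) ^ k = φ q := by
      have := congrArg Subtype.val hk
      simp only [Subgroup.coe_zpow] at this
      rw [← ha0gen] at this
      exact this
    have hl : (a0 ^ k)⁻¹ * q ∈ L := by
      apply (QuotientGroup.eq_one_iff _).mp
      show φ ((a0 ^ k)⁻¹ * q) = 1
      rw [map_mul, map_inv, map_zpow, hk']; group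
    have hlN : (a0 ^ k)⁻¹ * q ∈ N := hLN hl
    refine ⟨k, ?_⟩
    apply Subtype.ext
    show (QuotientGroup.mk' N a0) ^ k = QuotientGroup.mk' N q
    have h1 : QuotientGroup.mk' N ((a0 ^ k)⁻¹ * q) = 1 := (QuotientGroup.eq_one_iff _).mpr hlN
    rw [map_mul, map_inv, map_zpow] at h1
    calc (QuotientGroup.mk' N a0) ^ k = (QuotientGroup.mk' N a0) ^ k *
          (((QuotientGroup.mk' N a0) ^ k)⁻¹ * QuotientGroup.mk' N q) := by rw [h1, mul_one]
      _ = QuotientGroup.mk' N q := by group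
  -- (7) generation
  have hnorm : Qb ≤ Subgroup.normalizer (Nb : Set (G ⧸ L)) := by
    rw [Subgroup.normalizer_eq_top_iff.mpr hNbn]; exact le_top
  have hcop : (Nat.card Qb).Coprime (Nat.card Nb) := by
    obtain ⟨k, hk⟩ := IsPGroup.iff_card.mp hQbp
    rw [hk]
    exact Nat.Coprime.pow_left k ((Nat.Prime.coprime_iff_not_dvd hp.out).mpr hNbp)
  have hgen := generated_by_centralizers Qb Nb hQbnc hnorm hcop
  -- (8) each piece is trivial
  apply hNb1
  rw [← hgen, eq_bot_iff]
  apply iSup₂_le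
  rintro ab ⟨habQ, hab1⟩
  obtain ⟨a, haQ, rfl⟩ := Subgroup.mem_map.mp habQ
  have haL : a ∉ L := fun haL => hab1 ((QuotientGroup.eq_one_iff a).mpr haL)
  have haN : a ∉ N := fun haN => haL (hQgNL a haQ haN)
  have habN : φ a ∉ Nb := fun hmem => haN (mem_of_mk'_mem_map hLN hmem)
  have habp : ∃ k : ℕ, orderOf (φ a) = p ^ k := by
    obtain ⟨k, hk⟩ := hQbp ⟨φ a, habQ⟩
    have hk' : (φ a) ^ p ^ k = 1 := congrArg Subtype.val hk
    obtain ⟨j, -, hj⟩ := (Nat.dvd_prime_pow hp.out).mp (orderOf_dvd_of_pow_eq_one hk')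
    exact ⟨j, hj⟩
  have hpg : IsPGroup p ↥(Nb ⊓ Subgroup.centralizer ({φ a} : Set (G ⧸ L))) :=
    isPGroup_centralizer hcamb habN habp
  obtain ⟨k, hk⟩ := IsPGroup.iff_card.mp hpg
  have hdvd : Nat.card ↥(Nb ⊓ Subgroup.centralizer ({φ a} : Set (G ⧸ L))) ∣ Nat.card Nb :=
    Subgroup.card_dvd_of_le inf_le_left
  have hk0 : k = 0 := by
    by_contra hk0
    apply hNbp
    rw [hk] at hdvd
    exact (dvd_pow_self p hk0).trans hdvd
  rw [hk0, pow_zero] at hk
  exact (Subgroup.card_eq_one.mp hk).le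

end Cfsg.Agent.Lib.Lead.Camina
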