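import Mathlib
import Cfsg.Agent.Lib.Lead.Camina6
import Cfsg.Agent.Lib.Lead.Fpf4

set_option autoImplicit false

namespace Cfsg.Agent.Lib.Lead.Camina

universe u
variable {G : Type u} [Group G] [Finite G] {N : Subgroup G} [hNn : N.Normal]

theorem pGen_le_of_forall {p : ℕ} {K : Subgroup G}
    (hK : ∀ x ∈ N, (∃ k : ℕ, orderOf x = p ^ k) → x ∈ K) : pGen p N ≤ K := by
  unfold pGen
  rw [Subgroup.closure_le]
  rintro x ⟨hx, hxp⟩
  exact hK x hx hxp

/-- if `N` has a normal `r`-complement with `r ∣ |N|`, `r ≠ p`, the `p`-elements of `N` generate a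
proper subgroup -/
theorem pGen_ne_of_complement {p r : ℕ} [hp : Fact p.Prime] [hr : Fact r.Prime] (hpr : p ≠ r)
    (hrN : r ∣ Nat.card N) (hc : Cfsg.HasNormalPComplement r N) : pGen p N ≠ N := by
  obtain ⟨R, K, hKn, hKR⟩ := hc
  intro heq
  have hle : pGen p N ≤ K.map N.subtype := by
    apply pGen_le_of_forall
    intro x hx hxp
    refine Subgroup.mem_map.mpr ⟨⟨x, hx⟩, ?_, rfl⟩
    obtain ⟨k, hk⟩ := hxp
    have hk' : orderOf (⟨x, hx⟩ : N) = p ^ k := by rw [← hk]; exact Subgroup.orderOf_mk x hx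
    have hidx : K.index = Nat.card R := by
      have h1 := hKR.card_mul
      have h2 := K.card_mul_index
      have hpos : 0 < Nat.card K := Nat.card_pos
      exact Nat.eq_of_mul_eq_mul_left hpos (h2.trans h1.symm)
    obtain ⟨j, hj⟩ := IsPGroup.iff_card.mp R.2
    have h1 : orderOf (QuotientGroup.mk' K ⟨x, hx⟩) ∣ p ^ k := by
      rw [← hk']; exact orderOf_map_dvd _ _
    have h2 : orderOf (QuotientGroup.mk' K ⟨x, hx⟩) ∣ r ^ j := by
      rw [← hj, ← hidx, Subgroup.index_eq_card]; exact orderOf_dvd_natCard _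
    have hcop : (p ^ k).Coprime (r ^ j) :=
      Nat.Coprime.pow k j ((Nat.coprime_primes hp.out hr.out).mpr hpr)
    have h3 : orderOf (QuotientGroup.mk' K ⟨x, hx⟩) = 1 :=
      Nat.eq_one_of_dvd_coprimes hcop h1 h2
    exact (QuotientGroup.eq_one_iff _).mp (orderOf_eq_one_iff.mp h3)
  rw [heq] at hle
  have hKtop : K = ⊤ := by
    rw [eq_top_iff]
    intro n _
    obtain ⟨k, hk, hkn⟩ := Subgroup.mem_map.mp (hle n.2)
    have : k = n := Subtype.ext hkn
    rw [← this]; exact hk
  have h1 := hKR.card_mul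
  rw [hKtop, Subgroup.card_top] at h1
  have hR1 : Nat.card R = 1 := by
    have hpos : 0 < Nat.card N := Nat.card_pos
    have : Nat.card N * Nat.card R = Nat.card N * 1 := by rw [h1, mul_one]
    exact Nat.eq_of_mul_eq_mul_left hpos this
  have := R.card_eq_multiplicity
  rw [hR1] at this
  have hfac : (Nat.card N).factorization r = 0 := by
    by_contra hne
    have : 1 < r ^ (Nat.card N).factorization r := Nat.one_lt_pow hne hr.out.one_lt
    omega
  have hpos : 0 < (Nat.card N).factorization r :=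
    hr.out.factorization_pos_of_dvd Nat.card_pos.ne' hrN
  omega

/-- if `N` is nilpotent and `s ≠ p` divides `|N|`, the `p`-elements generate a proper subgroup -/
theorem pGen_ne_of_nilpotent {p s : ℕ} [hp : Fact p.Prime] [hs : Fact s.Prime] (hps : p ≠ s)
    (hsN : s ∣ Nat.card N) (hnil : Group.IsNilpotent N) : pGen p N ≠ N := by
  intro heq
  obtain ⟨P0⟩ : Nonempty (Sylow p N) := inferInstance
  have htfae := isNilpotent_of_finite_tfae (G := N)
  have h03 : Group.IsNilpotent N ↔ ∀ (p : ℕ) (_hp : Fact p.Prime) (P : Sylow p N),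
      (↑P : Subgroup N).Normal := htfae.out 0 3
  haveI hP0n : (P0 : Subgroup N).Normal := h03.mp hnil p hp P0
  haveI : Subsingleton (Sylow p N) := (Sylow.unique_of_normal P0 hP0n).instSubsingleton
  have hle : pGen p N ≤ (P0 : Subgroup N).map N.subtype := by
    apply pGen_le_of_forall
    intro x hx hxp
    refine Subgroup.mem_map.mpr ⟨⟨x, hx⟩, ?_, rfl⟩
    obtain ⟨k, hk⟩ := hxp
    have hk' : orderOf (⟨x, hx⟩ : N) = p ^ k := by rw [← hk]; exact Subgroup.orderOf_mk x hx
    have hzp : IsPGroup p (Subgroup.zpowers (⟨x, hx⟩ : N)) := by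
      apply IsPGroup.of_card (n := k)
      rw [Nat.card_zpowers, hk']
    obtain ⟨Q, hQ⟩ := hzp.exists_le_sylow
    have : Q = P0 := Subsingleton.elim _ _
    rw [this] at hQ
    exact hQ (Subgroup.mem_zpowers _)
  rw [heq] at hle
  obtain ⟨y, hy⟩ := exists_prime_orderOf_dvd_card' s hsN
  obtain ⟨y', hy', hyy'⟩ := Subgroup.mem_map.mp (hle y.2)
  have hyeq : y' = y := Subtype.ext hyy'
  rw [hyeq] at hy'
  obtain ⟨k, hk⟩ := P0.2 ⟨y, hy'⟩
  have hk' : y ^ p ^ k = 1 := congrArg Subtype.val hk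
  have h1 : s ∣ p ^ k := by rw [← hy]; exact orderOf_dvd_of_pow_eq_one hk'
  have h2 : s ∣ p := hs.out.dvd_of_dvd_pow h1
  exact hps ((Nat.prime_dvd_prime_iff_eq hs.out hp.out).mp h2).symm

/-- an element of order `r` outside `N`, with `r ∤ |N|`, forces `N` nilpotent -/
theorem isNilpotent_of_coprime (h : IsCam N) {r : ℕ} [hr : Fact r.Prime] (hrN : ¬ r ∣ Nat.card N)
    (hri : r ∣ N.index) : Group.IsNilpotent N := by
  rw [Subgroup.index_eq_card] at hri
  obtain ⟨wb, hwb⟩ := exists_prime_orderOf_dvd_card' r hri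
  obtain ⟨w, ⟨k, hwk⟩, hw⟩ := exists_lift_pElement (N := N) wb ⟨1, by rw [hwb, pow_one]⟩
  have hwN : w ∉ N := by
    intro hw'
    have : (QuotientGroup.mk w : G ⧸ N) = 1 := (QuotientGroup.eq_one_iff w).mpr hw'
    rw [hw] at this
    rw [this, orderOf_one] at hwb
    exact hr.out.one_lt.ne hwb
  have hk1 : 1 ≤ k := by
    by_contra hlt
    have hk0 : k = 0 := by omega
    rw [hk0, pow_zero, orderOf_eq_one_iff] at hwk
    exact hwN (hwk ▸ N.one_mem)
  set t : G := w ^ r ^ (k - 1) with ht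
  have hto : orderOf t = r := by
    rw [ht, orderOf_pow' _ (pow_ne_zero _ hr.out.ne_zero), hwk,
      Nat.gcd_eq_right (pow_dvd_pow r (Nat.sub_le k 1))]
    have : r ^ k = r ^ (k - 1) * r := by
      rw [← pow_succ]; congr 1; omega
    rw [this, Nat.mul_div_cancel_left _ (pow_pos hr.out.pos _)]
  have htN : t ∉ N := by
    intro htN
    apply hrN
    have : orderOf (⟨t, htN⟩ : N) = r := by rw [← hto]; exact Subgroup.orderOf_mk t htN
    rw [← this]; exact orderOf_dvd_natCard _
  have htp : ∃ k : ℕ, orderOf t = r ^ k := ⟨1, by rw [hto, pow_one]⟩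
  set φ : N →* N := (MulAut.conjNormal t : N ≃* N).toMonoidHom with hφ
  have hφval : ∀ n : N, ((φ n : N) : G) = t * n * t⁻¹ := fun n => rfl
  have hiter : ∀ (j : ℕ) (n : N), ((φ^[j] n : N) : G) = t ^ j * n * (t ^ j)⁻¹ := by
    intro j
    induction j with
    | zero => intro n; simp
    | succ j ih =>
      intro n
      rw [Function.iterate_succ_apply', hφval, ih, pow_succ']
      group
  have hdata : Cfsg.Agent.Lib.Lead.Fpf.FpfData r φ := by
    constructor
    · intro n hn
      have h1 : t * (n : G) * t⁻¹ = n := by rw [← hφval]; exact congrArg Subtype.val hn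
      have hmem : (n : G) ∈ N ⊓ Subgroup.centralizer ({t} : Set G) := by
        refine ⟨n.2, ?_⟩
        show (n : G) ∈ Subgroup.centralizer ({t} : Set G)
        rw [Subgroup.mem_centralizer_iff]
        intro y hy
        rw [Set.mem_singleton_iff] at hy
        rw [hy]
        calc t * (n : G) = (t * (n : G) * t⁻¹) * t := by group
          _ = (n : G) * t := by rw [h1]
      have hpg := isPGroup_centralizer h htN htp
      obtain ⟨j, hj⟩ := hpg ⟨_, hmem⟩
      have hj' : (n : G) ^ r ^ j = 1 := congrArg Subtype.val hj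
      have hj'' : n ^ r ^ j = 1 := Subtype.ext (by simpa using hj')
      have h2 : orderOf n ∣ r ^ j := orderOf_dvd_of_pow_eq_one hj''
      have h3 : orderOf n ∣ Nat.card N := orderOf_dvd_natCard n
      have hcop : (r ^ j).Coprime (Nat.card N) :=
        Nat.Coprime.pow_left j ((Nat.Prime.coprime_iff_not_dvd hr.out).mpr hrN)
      exact orderOf_eq_one_iff.mp (Nat.eq_one_of_dvd_coprimes hcop h2 h3)
    · intro n
      apply Subtype.ext
      rw [hiter, ← hto, pow_orderOf_eq_one]
      simp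
  exact Cfsg.Agent.Lib.Lead.Fpf.nilpotent_of_fpf hr.out _ N φ rfl hdata

/-- exists another prime divisor -/
theorem exists_other_prime {n p : ℕ} (hp : p.Prime) (hpn : p ∣ n) (hn : ¬ IsPrimePow n) :
    ∃ r : ℕ, r.Prime ∧ r ≠ p ∧ r ∣ n := by
  by_contra hcon
  push Not at hcon
  apply hn
  rw [isPrimePow_iff_unique_prime_dvd]
  refine ⟨p, ⟨hp, hpn⟩, ?_⟩
  rintro q ⟨hq, hqn⟩
  by_contra hne
  exact hcon q hq hne hqn

/-- **Camina's theorem**. -/
theorem camina (h : IsCam N) :
    (∀ x ∈ N, x ≠ 1 → Subgroup.centralizer ({x} : Set G) ≤ N) ∨ IsPrimePow (Nat.card N) ∨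
      IsPrimePow N.index := by
  classical
  by_contra hcon
  push Not at hcon
  obtain ⟨⟨x, hxN, hx1, hxc⟩, hnN, hni⟩ := hcon
  obtain ⟨g, hgc, hgN⟩ := Set.not_subset.mp hxc
  have hgc' : g ∈ Subgroup.centralizer ({x} : Set G) := hgc
  rw [Subgroup.mem_centralizer_iff] at hgc'
  have hcomm : Commute g x := (hgc' x (Set.mem_singleton x)).symm
  -- the prime p
  have hox : orderOf x ≠ 1 := fun e => hx1 (orderOf_eq_one_iff.mp e)
  obtain ⟨p, hp, hpx⟩ := Nat.exists_prime_and_dvd hox
  haveI : Fact p.Prime := ⟨hp⟩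
  have hpN : p ∣ Nat.card N := by
    have : orderOf (⟨x, hxN⟩ : N) = orderOf x := Subgroup.orderOf_mk x hxN
    rw [← this] at hpx
    exact hpx.trans (orderOf_dvd_natCard _)
  set x' : G := x ^ (orderOf x / p) with hx'
  have hx'o : orderOf x' = p := orderOf_pow_orderOf_div (orderOf_pos x).ne' hpx
  have hx'N : x' ∈ N := N.pow_mem hxN _
  have hx'1 : x' ≠ 1 := by
    intro e
    rw [e, orderOf_one] at hx'o
    exact hp.one_lt.ne hx'o
  obtain ⟨a, m, hm, hgm⟩ := Nat.exists_eq_pow_mul_and_not_dvd (orderOf_pos g).ne' p hp.ne_one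
  have hgpa : g ^ p ^ a ∈ N := by
    by_contra hnot
    apply hx'1
    have hc : Commute (g ^ p ^ a) x' := (hcomm.pow_left _).pow_right _
    have ho : orderOf (g ^ p ^ a) = m := by
      rw [orderOf_pow' _ (pow_ne_zero a hp.ne_zero), hgm, Nat.gcd_eq_right (dvd_mul_right _ _),
        Nat.mul_div_cancel_left _ (pow_pos hp.pos a)]
    have hcop : (orderOf (g ^ p ^ a)).Coprime (orderOf x') := by
      rw [ho, hx'o]
      exact ((Nat.Prime.coprime_iff_not_dvd hp).mpr hm).symm
    exact eq_one_of_commute_coprime h hnot hx'N hc hcop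
  have hpi : p ∣ N.index := by
    rw [Subgroup.index_eq_card]
    have h1 : (QuotientGroup.mk g : G ⧸ N) ^ p ^ a = 1 := by
      rw [← QuotientGroup.mk_pow]; exact (QuotientGroup.eq_one_iff _).mpr hgpa
    have h2 : orderOf (QuotientGroup.mk g : G ⧸ N) ∣ p ^ a := orderOf_dvd_of_pow_eq_one h1
    obtain ⟨j, -, hj⟩ := (Nat.dvd_prime_pow hp).mp h2
    have hj0 : j ≠ 0 := by
      rintro rfl
      rw [pow_zero, orderOf_eq_one_iff] at hj
      exact hgN ((QuotientGroup.eq_one_iff g).mp hj)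
    have : p ∣ orderOf (QuotientGroup.mk g : G ⧸ N) := by rw [hj]; exact dvd_pow_self p hj0
    exact this.trans (orderOf_dvd_natCard _)
  obtain ⟨r, hr, hrp, hri⟩ := exists_other_prime hp hpi hni
  obtain ⟨s, hs, hsp, hsN⟩ := exists_other_prime hp hpN hnN
  haveI : Fact r.Prime := ⟨hr⟩
  haveI : Fact s.Prime := ⟨hs⟩
  obtain ⟨A, hAc, hAp, hAnc⟩ := exists_noncyclic_abelian_quotient h hpN hpi
  have hgen : pGen p N = N := pGen_eq h A hAp hAnc
  by_cases hrN : r ∣ Nat.card N
  · exact pGen_ne_of_complement hrp.symm hrN (hasNormalPComplement h hri) hgen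
  · exact pGen_ne_of_nilpotent hsp.symm hsN (isNilpotent_of_coprime h hrN hri) hgen

end Cfsg.Agent.Lib.Lead.Camina
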