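import Mathlib
import Cfsg.Agent.Lib.Lead.HallThm4
import Cfsg.Agent.Lib.Lead.CoprimeSylow
import Cfsg.Agent.Lib.Lead.Fpf3
import Cfsg.Agent.Lib.Helper2.Basic

set_option autoImplicit false

/-!
Carter subgroups: basic plumbing.
-/

namespace Cfsg.Agent.Lib.Lead

namespace Carter

open scoped Pointwise

universe u

variable {G : Type u} [Group G]

/-- a nilpotent self-normalizing subgroup -/
def IsCarter (C : Subgroup G) : Prop :=
  Group.IsNilpotent C ∧ Subgroup.normalizer (C : Set G) = C

theorem IsCarter.smul {C : Subgroup G} (h : IsCarter C) (g : G) : IsCarter (MulAut.conj g • C) := by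
  refine ⟨?_, ?_⟩
  · haveI := h.1
    exact Group.nilpotent_of_mulEquiv (Subgroup.equivSMul (MulAut.conj g) C)
  · rw [← Cfsg.Agent.Lib.Helper2.conj_smul_normalizer, h.2]

theorem IsCarter.eq_top_of_nilpotent [hG : Group.IsNilpotent G] {C : Subgroup G} (h : IsCarter C) :
    C = ⊤ := by
  by_contra hne
  have hlt : C < ⊤ := lt_top_iff_ne_top.mpr hne
  have := normalizerCondition_of_isNilpotent C hlt
  rw [h.2] at this
  exact lt_irrefl _ this

theorem isCarter_top_of_nilpotent [hG : Group.IsNilpotent G] : IsCarter (⊤ : Subgroup G) := by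
  refine ⟨Group.nilpotent_of_mulEquiv Subgroup.topEquiv.symm, ?_⟩
  rw [eq_top_iff]
  exact Subgroup.le_normalizer

/-- an injective homomorphism into a nilpotent group -/
theorem nilpotent_of_injective {H : Type*} [Group H] [Group.IsNilpotent H] (f : G →* H)
    (hf : Function.Injective f) : Group.IsNilpotent G :=
  Group.nilpotent_of_mulEquiv (MonoidHom.ofInjective hf).symm

/-- restriction to an intermediate subgroup -/
theorem IsCarter.subgroupOf {C K : Subgroup G} (h : IsCarter C) (hCK : C ≤ K) :
    IsCarter (C.subgroupOf K) := by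
  refine ⟨?_, ?_⟩
  · haveI := h.1
    exact Group.nilpotent_of_mulEquiv (Subgroup.subgroupOfEquivOfLe hCK).symm
  · apply le_antisymm _ Subgroup.le_normalizer
    intro x hx
    rw [Subgroup.mem_subgroupOf]
    rw [← h.2, Subgroup.mem_normalizer_iff]
    rw [Subgroup.mem_normalizer_iff] at hx
    intro g
    by_cases hg : g ∈ K
    · have := hx ⟨g, hg⟩
      simpa [Subgroup.mem_subgroupOf] using this
    · constructor
      · intro h1; exact absurd (hCK h1) hg
      · intro h1
        exfalso
        apply hg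
        have h2 : (x : G) * g * (x : G)⁻¹ ∈ K := hCK h1
        have h3 : g = (x : G)⁻¹ * ((x : G) * g * (x : G)⁻¹) * (x : G) := by group
        rw [h3]
        exact K.mul_mem (K.mul_mem (K.inv_mem x.2) h2) x.2

/-- lifting from a subgroup -/
theorem IsCarter.map_subtype {K : Subgroup G} {C' : Subgroup K} (h : IsCarter C') :
    Group.IsNilpotent (C'.map K.subtype) ∧
      Subgroup.normalizer ((C'.map K.subtype : Subgroup G) : Set G) ⊓ K ≤ C'.map K.subtype := by
  refine ⟨?_, ?_⟩
  · haveI := h.1
    exact Group.nilpotent_of_mulEquiv (C'.equivMapOfInjective K.subtype K.subtype_injective)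
  · rintro x ⟨hx, hxK⟩
    replace hx : x ∈ Subgroup.normalizer ((C'.map K.subtype : Subgroup G) : Set G) := hx
    replace hxK : x ∈ K := hxK
    have h1 : (⟨x, hxK⟩ : K) ∈ Subgroup.normalizer (C' : Set K) := by
      rw [Subgroup.mem_normalizer_iff]
      rw [Subgroup.mem_normalizer_iff] at hx
      intro g
      have := hx (g : G)
      constructor
      · intro hg
        have h2 : (g : G) ∈ C'.map K.subtype := ⟨g, hg, rfl⟩
        obtain ⟨w, hw, hw2⟩ := this.mp h2
        have : w = ⟨x, hxK⟩ * g * ⟨x, hxK⟩⁻¹ := Subtype.ext hw2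
        rw [← this]; exact hw
      · intro hg
        have h2 : x * (g : G) * x⁻¹ ∈ C'.map K.subtype := ⟨_, hg, rfl⟩
        obtain ⟨w, hw, hw2⟩ := this.mpr h2
        have : w = g := Subtype.ext hw2
        rw [← this]; exact hw
    rw [h.2] at h1
    exact ⟨_, h1, rfl⟩

/-- a subgroup normalized by two subgroups generating the group is normal -/
theorem normal_of_sup_eq_top {A B M : Subgroup G} (hAB : A ⊔ B = ⊤)
    (hA : A ≤ Subgroup.normalizer (M : Set G)) (hB : B ≤ Subgroup.normalizer (M : Set G)) :
    M.Normal := by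
  rw [← Subgroup.normalizer_eq_top_iff, eq_top_iff, ← hAB]
  exact sup_le hA hB

/-- a group embedding in the product of two nilpotent quotients -/
theorem nilpotent_of_quotients (A B : Subgroup G) [A.Normal] [B.Normal] (hAB : A ⊓ B = ⊥)
    [Group.IsNilpotent (G ⧸ A)] [Group.IsNilpotent (G ⧸ B)] : Group.IsNilpotent G := by
  apply nilpotent_of_injective ((QuotientGroup.mk' A).prod (QuotientGroup.mk' B))
  rw [injective_iff_map_eq_one]
  intro g hg
  have h1 : QuotientGroup.mk' A g = 1 := congrArg Prod.fst hg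
  have h2 : QuotientGroup.mk' B g = 1 := congrArg Prod.snd hg
  have h3 : g ∈ A ⊓ B := ⟨(QuotientGroup.eq_one_iff g).mp h1, (QuotientGroup.eq_one_iff g).mp h2⟩
  rw [hAB] at h3
  exact Subgroup.mem_bot.mp h3

end Carter

end Cfsg.Agent.Lib.Lead
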