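import Mathlib
import Cfsg.Agent.Lib.Lead.Carter1

set_option autoImplicit false

/-!
Carter subgroups: the case of a nilpotent quotient by a minimal normal subgroup.
-/

namespace Cfsg.Agent.Lib.Lead

namespace Carter

open scoped Pointwise

universe u

variable {G : Type u} [Group G]

theorem nat_eq_of_mul_pow {a m p j k : ℕ} (ha : a.Coprime p) (hm : m.Coprime p)
    (h : a * p ^ j = m * p ^ k) : a = m := by
  apply Nat.dvd_antisymm
  · have h1 : a ∣ m * p ^ k := ⟨p ^ j, h.symm⟩
    exact (Nat.Coprime.pow_right k ha).dvd_of_dvd_mul_right h1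
  · have h1 : m ∣ a * p ^ j := ⟨p ^ k, h⟩
    exact (Nat.Coprime.pow_right j hm).dvd_of_dvd_mul_right h1

/-- `X ⊓ N` is normal when `N` is an abelian normal subgroup and `N ⊔ Y = ⊤` with `Y` normalizing
`X`. -/
theorem inf_normal_aux (X N Y : Subgroup G) [hN : N.Normal] (hNab : IsMulCommutative N)
    (hNY : N ⊔ Y = ⊤) (hY : Y ≤ Subgroup.normalizer (X : Set G)) : (X ⊓ N).Normal := by
  apply normal_of_sup_eq_top hNY
  · intro n hn
    rw [Subgroup.mem_normalizer_iff]
    intro h
    have hcomm : ∀ a ∈ N, n * a * n⁻¹ = a := by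
      intro a ha
      have := hNab.is_comm.comm ⟨n, hn⟩ ⟨a, ha⟩
      have h2 : n * a = a * n := congrArg Subtype.val this
      rw [h2, mul_inv_cancel_right]
    constructor
    · intro hh
      rw [hcomm h hh.2]; exact hh
    · intro hh
      have h1 : h ∈ N := by
        have := hN.conj_mem _ hh.2 n⁻¹
        simpa [mul_assoc] using this
      rw [hcomm h h1] at hh
      exact hh
  · intro y hy
    have hy1 := hY hy
    rw [Subgroup.mem_normalizer_iff] at hy1 ⊢
    intro h
    constructor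
    · intro hh
      exact ⟨(hy1 h).mp hh.1, hN.conj_mem _ hh.2 y⟩
    · intro hh
      refine ⟨(hy1 h).mpr hh.1, ?_⟩
      have := hN.conj_mem _ hh.2 y⁻¹
      simpa [mul_assoc] using this

theorem card_mul_of_compl [Finite G] (C N : Subgroup G) [N.Normal] (h1 : C ⊓ N = ⊥)
    (h2 : N ⊔ C = ⊤) : Nat.card C * Nat.card N = Nat.card G := by
  rw [← card_sup_of_inf_eq_bot N C h1, sup_comm, h2, Subgroup.card_top]

/-- the key case -/
theorem lemmaA [Finite G] [Group.IsSolvable G] {p : ℕ} [hp : Fact p.Prime] (N : Subgroup G)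
    [hNn : N.Normal] (hNab : IsMulCommutative N) (hNp : IsPGroup p N)
    (hmin : ∀ M : Subgroup G, M.Normal → M ≤ N → M = ⊥ ∨ M = N)
    (hquot : Group.IsNilpotent (G ⧸ N)) (hG : ¬ Group.IsNilpotent G) :
    ∃ C₀ : Subgroup G, IsCarter C₀ ∧
      ∀ C : Subgroup G, IsCarter C → C ⊔ N = ⊤ → ∃ g : G, MulAut.conj g • C₀ = C := by
  classical
  obtain ⟨Sb, hSbn, hSbcop, k, hSbk⟩ := Fpf.pnilp_of_isNilpotent (p := p) hquot
  haveI := hSbn
  set m := Nat.card Sb with hm
  set S := Sb.comap (QuotientGroup.mk' N) with hS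
  haveI hSn : S.Normal := Subgroup.Normal.comap hSbn _
  have hNS : N ≤ S := by
    intro x hx
    rw [hS, Subgroup.mem_comap]
    have : (QuotientGroup.mk' N) x = 1 := (QuotientGroup.eq_one_iff x).mpr hx
    rw [this]; exact Sb.one_mem
  have hScard : Nat.card S = m * Nat.card N := card_comap_mk N Sb
  obtain ⟨b, hb⟩ := IsPGroup.iff_card.mp hNp
  have hGcard : Nat.card G = m * p ^ (k + b) := by
    rw [← card_quotient_mul N, ← Sb.card_mul_index, hSbk, hb, pow_add]
    ring
  have hcop : m.Coprime (p ^ (k + b)) := Nat.Coprime.pow_right _ hSbcop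
  obtain ⟨hconj, hdom⟩ := hallProp_of_solvable G m (p ^ (k + b)) hGcard hcop
  obtain ⟨Q, hQcard, -⟩ := hdom ⊥ (by rw [Subgroup.card_bot]; exact Nat.coprime_one_left _)
  -- `Q ≤ S`
  have hQS : Q ≤ S := by
    intro x hx
    rw [hS, Subgroup.mem_comap]
    rw [← QuotientGroup.eq_one_iff]
    set y : (G ⧸ N) ⧸ Sb := ((QuotientGroup.mk' N x : G ⧸ N) : (G ⧸ N) ⧸ Sb) with hy
    have h1 : y ^ (p ^ k) = 1 := by
      have : Nat.card ((G ⧸ N) ⧸ Sb) = p ^ k := by rw [← Subgroup.index_eq_card, hSbk]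
      rw [← this]; exact pow_card_eq_one'
    have h2 : y ^ m = 1 := by
      have h3 : (⟨x, hx⟩ : Q) ^ m = 1 := by rw [← hQcard]; exact pow_card_eq_one'
      have h4 : x ^ m = 1 := by
        have := congrArg Subtype.val h3
        simpa using this
      rw [hy, ← QuotientGroup.mk_pow, ← map_pow, h4, map_one, QuotientGroup.mk_one]
    have h5 : orderOf y ∣ Nat.gcd m (p ^ k) :=
      Nat.dvd_gcd (orderOf_dvd_of_pow_eq_one h2) (orderOf_dvd_of_pow_eq_one h1)
    have h6 : Nat.gcd m (p ^ k) = 1 := Nat.Coprime.pow_right _ hSbcop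
    rw [h6, Nat.dvd_one, orderOf_eq_one_iff] at h5
    exact h5
  have hQNcop : (Nat.card Q).Coprime (Nat.card N) := by
    rw [hQcard, hb]; exact Nat.Coprime.pow_right _ hSbcop
  have hQN : Q ⊓ N = ⊥ := Subgroup.inf_eq_bot_of_coprime hQNcop
  have hQNS : Nat.card Q * Nat.card N = Nat.card S := by rw [hScard, hQcard]
  have hSeq : Q ⊔ N = S := by
    apply Subgroup.eq_of_le_of_card_ge (sup_le hQS hNS)
    rw [card_sup_of_inf_eq_bot N Q hQN, hQNS]
  set C₀ := Subgroup.normalizer (Q : Set G) with hC₀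
  -- Frattini argument
  have hfrat : N ⊔ C₀ = ⊤ := by
    rw [eq_top_iff]
    intro g _
    have hK'S : MulAut.conj g • Q ≤ S := by
      intro x hx
      obtain ⟨q, hq, rfl⟩ := (Subgroup.mem_smul_pointwise_iff_exists _ _ _).mp hx
      exact hSn.conj_mem q (hQS hq) g
    obtain ⟨s, hsS, hs⟩ := schur_conj_in_subgroup N S Q (MulAut.conj g • Q) hNS hQS hK'S hQNS
      (card_conj_smul g Q) hQNcop
    have h1 : s⁻¹ * g ∈ C₀ := by
      rw [hC₀, mem_normalizer_iff_conj_smul, map_mul, mul_smul, ← hs, ← mul_smul, ← map_mul,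
        inv_mul_cancel, map_one, one_smul]
    have h2 : s ∈ N ⊔ C₀ := by
      have : S ≤ N ⊔ C₀ := by
        rw [← hSeq]
        exact sup_le (le_trans Subgroup.le_normalizer le_sup_right) le_sup_left
      exact this hsS
    have : g = s * (s⁻¹ * g) := by group
    rw [this]
    exact Subgroup.mul_mem _ h2 (Subgroup.mem_sup_right h1)
  haveI h3n : (C₀ ⊓ N).Normal := inf_normal_aux C₀ N C₀ hNab hfrat Subgroup.le_normalizer
  have hpG : ∀ (A : Subgroup G) [A.Normal], (∃ j, Nat.card (G ⧸ A) = p ^ j) → A ⊓ N = ⊥ → False := by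
    intro A _ hA hAN
    obtain ⟨j, hj⟩ := hA
    haveI : Group.IsNilpotent (G ⧸ A) := (IsPGroup.of_card hj).isNilpotent
    exact hG (nilpotent_of_quotients A N hAN)
  rcases hmin _ h3n inf_le_right with hcase | hcase
  swap
  · -- `N ≤ C₀`: impossible
    exfalso
    have hNC : N ≤ C₀ := by rw [← hcase]; exact inf_le_left
    have htop : C₀ = ⊤ := by
      rw [eq_top_iff, ← hfrat]; exact sup_le hNC le_rfl
    haveI hQn : Q.Normal := Subgroup.normalizer_eq_top_iff.mp htop
    apply hpG Q _ hQN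
    refine ⟨k + b, ?_⟩
    have h1 := card_quotient_mul Q
    rw [hGcard, hQcard, mul_comm] at h1
    have hmpos : 0 < m := Nat.card_pos
    exact Nat.eq_of_mul_eq_mul_left hmpos h1
  -- now `C₀ ⊓ N = ⊥`
  have hC₀nil : Group.IsNilpotent C₀ := by
    apply nilpotent_of_injective ((QuotientGroup.mk' N).comp C₀.subtype)
    rw [injective_iff_map_eq_one]
    intro c hc
    have h1 : (c : G) ∈ N := (QuotientGroup.eq_one_iff (c : G)).mp hc
    have h2 : (c : G) ∈ C₀ ⊓ N := ⟨c.2, h1⟩
    rw [hcase] at h2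
    exact Subtype.ext (Subgroup.mem_bot.mp h2)
  have hC₀card : Nat.card C₀ * Nat.card N = Nat.card G := card_mul_of_compl C₀ N hcase hfrat
  -- self-normalizing
  have hcentn : C₀ ≤ Subgroup.normalizer ((Subgroup.centralizer (C₀ : Set G) : Subgroup G) : Set G) := by
    intro c hc
    rw [Subgroup.mem_normalizer_iff]
    intro h
    constructor
    · intro hh
      rw [Subgroup.mem_centralizer_iff] at hh ⊢
      intro w hw
      have h1 := hh (c⁻¹ * w * c) (C₀.mul_mem (C₀.mul_mem (C₀.inv_mem hc) hw) hc)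
      have e1 : w * (c * h * c⁻¹) = c * ((c⁻¹ * w * c) * h) * c⁻¹ := by group
      have e2 : c * h * c⁻¹ * w = c * (h * (c⁻¹ * w * c)) * c⁻¹ := by group
      rw [e1, e2, h1]
    · intro hh
      rw [Subgroup.mem_centralizer_iff] at hh ⊢
      intro w hw
      have h1 := hh (c * w * c⁻¹) (C₀.mul_mem (C₀.mul_mem hc hw) (C₀.inv_mem hc))
      have e1 : w * h = c⁻¹ * ((c * w * c⁻¹) * (c * h * c⁻¹)) * c := by group
      have e2 : h * w = c⁻¹ * ((c * h * c⁻¹) * (c * w * c⁻¹)) * c := by group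
      rw [e1, e2, h1]
  haveI hMn : (Subgroup.centralizer (C₀ : Set G) ⊓ N).Normal :=
    inf_normal_aux _ N C₀ hNab hfrat hcentn
  have hMbot : Subgroup.centralizer (C₀ : Set G) ⊓ N = ⊥ := by
    rcases hmin _ hMn inf_le_right with h | h
    · exact h
    · exfalso
      have hNcent : N ≤ Subgroup.centralizer (C₀ : Set G) := by rw [← h]; exact inf_le_left
      haveI hC₀n : C₀.Normal := by
        apply normal_of_sup_eq_top hfrat _ Subgroup.le_normalizer
        intro n hn
        have hn' := hNcent hn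
        rw [Subgroup.mem_centralizer_iff] at hn'
        rw [Subgroup.mem_normalizer_iff]
        intro h
        constructor
        · intro hh
          have := hn' h hh
          have e : n * h * n⁻¹ = h := by rw [← this, mul_inv_cancel_right]
          rw [e]; exact hh
        · intro hh
          have := hn' _ hh
          -- n * h * n⁻¹ commutes with n
          have e : h = n * h * n⁻¹ := by
            have h2 : n * h * n⁻¹ * n = n * (n * h * n⁻¹) := this
            have h3 : n * h = n * (n * h * n⁻¹) := by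
              rw [← h2]; group
            exact mul_left_cancel h3
          rw [e]; exact hh
      apply hpG C₀ _ hcase
      refine ⟨b, ?_⟩
      have h1 := card_quotient_mul C₀
      rw [← hC₀card, mul_comm, hb] at h1
      exact Nat.eq_of_mul_eq_mul_left Nat.card_pos h1
  have hC₀self : Subgroup.normalizer (C₀ : Set G) = C₀ := by
    apply le_antisymm _ Subgroup.le_normalizer
    intro x hx
    have hx' : x ∈ ((N ⊔ C₀ : Subgroup G) : Set G) := by rw [hfrat]; exact Set.mem_univ x
    rw [Subgroup.normal_mul] at hx'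
    obtain ⟨n, hn, c, hc, rfl⟩ := Set.mem_mul.mp hx'
    have hn' : n ∈ Subgroup.normalizer (C₀ : Set G) := by
      have : n = n * c * c⁻¹ := by group
      rw [this]
      exact Subgroup.mul_mem _ hx (Subgroup.inv_mem _ (Subgroup.le_normalizer hc))
    have hncent : n ∈ Subgroup.centralizer (C₀ : Set G) := by
      rw [Subgroup.mem_centralizer_iff]
      intro w hw
      have h1 : n * w * n⁻¹ ∈ C₀ := (Subgroup.mem_normalizer_iff.mp hn' w).mp hw
      have h2 : n * w * n⁻¹ * w⁻¹ ∈ C₀ ⊓ N := by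
        refine ⟨C₀.mul_mem h1 (C₀.inv_mem hw), ?_⟩
        have : n * w * n⁻¹ * w⁻¹ = n * (w * n⁻¹ * w⁻¹) := by group
        rw [this]
        exact N.mul_mem hn (hNn.conj_mem _ (N.inv_mem hn) w)
      rw [hcase, Subgroup.mem_bot] at h2
      have h3 : n * w = w * n := by
        have : n * w = (n * w * n⁻¹ * w⁻¹) * (w * n) := by group
        rw [this, h2, one_mul]
      exact h3.symm
    have hn1 : n ∈ Subgroup.centralizer (C₀ : Set G) ⊓ N := ⟨hncent, hn⟩
    rw [hMbot, Subgroup.mem_bot] at hn1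
    rw [hn1, one_mul]
    exact hc
  refine ⟨C₀, ⟨hC₀nil, hC₀self⟩, ?_⟩
  -- conjugacy
  intro C hC hCN
  have hNC : N ⊔ C = ⊤ := by rw [sup_comm]; exact hCN
  haveI hCNn : (C ⊓ N).Normal := inf_normal_aux C N C hNab hNC (by rw [hC.2])
  have hCNbot : C ⊓ N = ⊥ := by
    rcases hmin _ hCNn inf_le_right with h | h
    · exact h
    · exfalso
      have hNleC : N ≤ C := by rw [← h]; exact inf_le_left
      have hCtop : C = ⊤ := by
        rw [eq_top_iff, ← hNC]; exact sup_le hNleC le_rfl
      apply hG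
      haveI := hC.1
      have e : C ≃* G := (MulEquiv.subgroupCongr hCtop).trans Subgroup.topEquiv
      exact Group.nilpotent_of_mulEquiv e
  have hCcard : Nat.card C * Nat.card N = Nat.card G := card_mul_of_compl C N hCNbot hNC
  obtain ⟨QC, hQCn, hQCcop, j, hQCj⟩ := Fpf.pnilp_of_isNilpotent (p := p) hC.1
  have hQCm : Nat.card QC = m := by
    have h1 : Nat.card QC * p ^ j = Nat.card C := by rw [← hQCj]; exact QC.card_mul_index
    have h2 : Nat.card C * p ^ b = m * p ^ (k + b) := by rw [← hb, hCcard, hGcard]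
    have h3 : Nat.card C = m * p ^ k := by
      rw [pow_add, ← mul_assoc] at h2
      exact Nat.eq_of_mul_eq_mul_right (pow_pos hp.out.pos b) h2
    rw [h3] at h1
    exact nat_eq_of_mul_pow hQCcop hSbcop h1
  set QC' := QC.map C.subtype with hQC'
  have hQC'card : Nat.card QC' = m := by rw [hQC', card_map_subtype, hQCm]
  obtain ⟨g, hg⟩ := hconj Q QC' hQcard hQC'card
  refine ⟨g, ?_⟩
  symm
  apply Subgroup.eq_of_le_of_card_ge
  · rw [hC₀, Cfsg.Agent.Lib.Helper2.conj_smul_normalizer, hg]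
    intro c hc
    rw [Subgroup.mem_normalizer_iff]
    intro h
    constructor
    · rintro ⟨w, hw, rfl⟩
      refine ⟨⟨c, hc⟩ * w * ⟨c, hc⟩⁻¹, hQCn.conj_mem w hw ⟨c, hc⟩, rfl⟩
    · rintro ⟨w, hw, hw2⟩
      refine ⟨⟨c, hc⟩⁻¹ * w * ⟨c, hc⟩, ?_, ?_⟩
      · have := hQCn.conj_mem w hw ⟨c, hc⟩⁻¹
        simpa using this
      · show c⁻¹ * (w : G) * c = h
        have hw3 : (w : G) = c * h * c⁻¹ := hw2
        rw [hw3]; group
  · rw [card_conj_smul]
    have := hC₀card.trans hCcard.symm
    exact le_of_eq (Nat.eq_of_mul_eq_mul_right Nat.card_pos this)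

end Carter

end Cfsg.Agent.Lib.Lead
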