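import Mathlib
import Cfsg.Agent.Lib.Lead.Carter2
import Cfsg.Agent.Lib.Helper2.CoreFree
import Cfsg.Agent.S0043

set_option autoImplicit false

/-!
Carter subgroups: existence and conjugacy.
-/

namespace Cfsg.Agent.Lib.Lead

namespace Carter

open scoped Pointwise

universe u

/-- conjugacy of Carter subgroups -/
def ConjProp (X : Type u) [Group X] : Prop :=
  ∀ C D : Subgroup X, IsCarter C → IsCarter D → ∃ g : X, MulAut.conj g • C = D

variable {G : Type u} [Group G]

theorem card_lt_of_ne_top [Finite G] {K : Subgroup G} (hK : K ≠ ⊤) : Nat.card K < Nat.card G := by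
  by_contra h
  push Not at h
  apply hK
  apply Subgroup.eq_top_of_card_eq
  exact le_antisymm (Subgroup.card_le_card_group K) h

theorem le_of_conj_smul_eq {C : Subgroup G} {g x : G} (hg : MulAut.conj g • C = MulAut.conj x • C) :
    g⁻¹ * x ∈ Subgroup.normalizer (C : Set G) := by
  rw [mem_normalizer_iff_conj_smul, map_mul, mul_smul, ← hg, ← mul_smul, ← map_mul,
    inv_mul_cancel, map_one, one_smul]

/-- images of Carter subgroups -/
theorem IsCarter.map_mk [Finite G] (hih : ∀ K : Subgroup G, K ≠ ⊤ → ConjProp K) {C : Subgroup G}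
    (hC : IsCarter C) (N : Subgroup G) [N.Normal] : IsCarter (C.map (QuotientGroup.mk' N)) := by
  refine ⟨?_, ?_⟩
  · haveI := hC.1
    exact Group.nilpotent_of_surjective ((QuotientGroup.mk' N).subgroupMap C)
      (MonoidHom.subgroupMap_surjective _ _)
  · apply le_antisymm _ Subgroup.le_normalizer
    intro xb hxb
    obtain ⟨x, rfl⟩ := QuotientGroup.mk'_surjective N xb
    have hx : x ∈ Subgroup.normalizer ((C ⊔ N : Subgroup G) : Set G) := by
      rw [← comap_map_mk N C, ← Subgroup.comap_normalizer_eq_of_surjective _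
        (QuotientGroup.mk'_surjective N)]
      exact hxb
    by_cases hK : C ⊔ N = ⊤
    · have : C.map (QuotientGroup.mk' N) = ⊤ := by
        rw [← map_mk_sup_self N C, hK]
        exact Subgroup.map_top_of_surjective _ (QuotientGroup.mk'_surjective N)
      rw [this]; exact Subgroup.mem_top _
    · have hCK : C ≤ C ⊔ N := le_sup_left
      have hDK : MulAut.conj x • C ≤ C ⊔ N := by
        intro y hy
        obtain ⟨c, hc, rfl⟩ := (Subgroup.mem_smul_pointwise_iff_exists _ _ _).mp hy
        exact (Subgroup.mem_normalizer_iff.mp hx c).mp (hCK hc)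
      obtain ⟨l, hl⟩ := hih _ hK _ _ (hC.subgroupOf hCK) ((hC.smul x).subgroupOf hDK)
      obtain ⟨g, hgK, hg⟩ := conj_of_conj_subgroupOf hCK hDK ⟨l, hl⟩
      have h1 := le_of_conj_smul_eq hg
      rw [hC.2] at h1
      have hxK : x ∈ C ⊔ N := by
        have : x = g * (g⁻¹ * x) := by group
        rw [this]
        exact Subgroup.mul_mem _ hgK (hCK h1)
      rw [← map_mk_sup_self N C]
      exact ⟨x, hxK, rfl⟩

theorem nilpotent_quotient_of_map_eq_top {D N : Subgroup G} [N.Normal] (hD : Group.IsNilpotent D)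
    (h : D ⊔ N = ⊤) : Group.IsNilpotent (G ⧸ N) := by
  have hs : Function.Surjective ((QuotientGroup.mk' N).comp D.subtype) := by
    intro y
    obtain ⟨x, rfl⟩ := QuotientGroup.mk'_surjective N y
    have hx : x ∈ ((D ⊔ N : Subgroup G) : Set G) := by rw [h]; exact Set.mem_univ x
    rw [Subgroup.mul_normal] at hx
    obtain ⟨d, hd, n, hn, rfl⟩ := Set.mem_mul.mp hx
    refine ⟨⟨d, hd⟩, ?_⟩
    show QuotientGroup.mk' N d = QuotientGroup.mk' N (d * n)
    have hn1 : (QuotientGroup.mk' N) n = 1 := (QuotientGroup.eq_one_iff n).mpr hn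
    rw [map_mul, hn1, mul_one]
  exact Group.nilpotent_of_surjective _ hs

theorem main_aux (n : ℕ) : ∀ (G : Type u) [Group G] [Finite G] [Group.IsSolvable G],
    Nat.card G = n → (∃ C : Subgroup G, IsCarter C) ∧ ConjProp G := by
  induction n using Nat.strong_induction_on with
  | _ n ih =>
  intro G _ _ _ hn
  by_cases hnil : Group.IsNilpotent G
  · refine ⟨⟨⊤, isCarter_top_of_nilpotent⟩, ?_⟩
    intro C D hC hD
    exact ⟨1, by rw [hC.eq_top_of_nilpotent, hD.eq_top_of_nilpotent, map_one, one_smul]⟩
  have hnt : Nontrivial G := by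
    by_contra h
    rw [not_nontrivial_iff_subsingleton] at h
    exact hnil inferInstance
  obtain ⟨N, hNn, hNbot, hNmin⟩ := Cfsg.Agent.Lib.Helper2.exists_minNormal (G := G)
  haveI := hNn
  obtain ⟨hNab, p, hp, hNexp⟩ := Cfsg.Agent.S0043.result N hNbot hNmin
  haveI : Fact p.Prime := ⟨hp⟩
  have hNp : IsPGroup p N := by
    intro x
    refine ⟨1, ?_⟩
    apply Subtype.ext
    rw [pow_one, Subgroup.coe_pow, Subgroup.coe_one]
    exact hNexp x x.2
  -- induction hypotheses
  have hNcard : 1 < Nat.card N := by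
    rw [Finite.one_lt_card_iff_nontrivial]
    exact (Subgroup.nontrivial_iff_ne_bot N).mpr hNbot
  have hqlt : Nat.card (G ⧸ N) < n := by
    rw [← hn, ← card_quotient_mul N]
    have : 0 < Nat.card (G ⧸ N) := Nat.card_pos
    nlinarith
  obtain ⟨exQ, conjQ⟩ := ih _ hqlt (G ⧸ N) rfl
  have ihsub : ∀ K : Subgroup G, K ≠ ⊤ → (∃ C : Subgroup K, IsCarter C) ∧ ConjProp K := by
    intro K hK
    exact ih _ (by rw [← hn]; exact card_lt_of_ne_top hK) K rfl
  have hsubconj : ∀ K : Subgroup G, K ≠ ⊤ → ConjProp K := fun K hK => (ihsub K hK).2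
  have hsurj := QuotientGroup.mk'_surjective N
  constructor
  · -- existence
    obtain ⟨Kb, hKb⟩ := exQ
    set K := Kb.comap (QuotientGroup.mk' N) with hKdef
    have hKmap : K.map (QuotientGroup.mk' N) = Kb := Subgroup.map_comap_eq_self_of_surjective hsurj Kb
    by_cases hK : K = ⊤
    · have hKbtop : Kb = ⊤ := by
        rw [← hKmap, hK]; exact Subgroup.map_top_of_surjective _ hsurj
      have hquot : Group.IsNilpotent (G ⧸ N) := by
        haveI := hKb.1
        exact Group.nilpotent_of_mulEquiv ((MulEquiv.subgroupCongr hKbtop).trans Subgroup.topEquiv)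
      obtain ⟨C₀, hC₀, -⟩ := lemmaA N hNab hNp hNmin hquot hnil
      exact ⟨C₀, hC₀⟩
    · obtain ⟨C', hC'⟩ := (ihsub K hK).1
      obtain ⟨hnilC, hnormC⟩ := hC'.map_subtype
      have hNK : N ≤ K := by
        intro x hx
        rw [hKdef, Subgroup.mem_comap]
        have : (QuotientGroup.mk' N) x = 1 := (QuotientGroup.eq_one_iff x).mpr hx
        rw [this]; exact Kb.one_mem
      -- `C ⊔ N = K`
      have hCNK : C'.map K.subtype ⊔ N = K := by
        haveI hNKn : (N.subgroupOf K).Normal := inferInstance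
        have hih' : ∀ L : Subgroup K, L ≠ ⊤ → ConjProp L := by
          intro L hL
          have h1 : Nat.card L < Nat.card K := card_lt_of_ne_top hL
          have h2 : Nat.card K < n := by rw [← hn]; exact card_lt_of_ne_top hK
          exact (ih _ (h1.trans h2) L rfl).2
        have hcar := hC'.map_mk hih' (N.subgroupOf K)
        -- the quotient `K / N_K` is nilpotent
        have hmapKb : ∀ y : K ⧸ N.subgroupOf K,
            QuotientGroup.map (N.subgroupOf K) N K.subtype (fun _ h => h) y ∈ Kb := by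
          intro y
          induction y using QuotientGroup.induction_on with
          | H k =>
            show QuotientGroup.mk' N (k : G) ∈ Kb
            exact k.2
        haveI : Group.IsNilpotent (K ⧸ N.subgroupOf K) := by
          haveI := hKb.1
          apply nilpotent_of_injective
            ((QuotientGroup.map (N.subgroupOf K) N K.subtype (fun _ h => h)).codRestrict Kb hmapKb)
          rw [injective_iff_map_eq_one]
          intro y hy
          induction y using QuotientGroup.induction_on with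
          | H k =>
            have h1 : QuotientGroup.mk' N (k : G) = 1 := congrArg Subtype.val hy
            have h2 : (k : G) ∈ N := (QuotientGroup.eq_one_iff _).mp h1
            exact (QuotientGroup.eq_one_iff k).mpr h2
        have htop := hcar.eq_top_of_nilpotent
        have h1 : C' ⊔ N.subgroupOf K = ⊤ := by
          rw [← comap_map_mk (N.subgroupOf K) C', htop, Subgroup.comap_top]
        have h2 := congrArg (Subgroup.map K.subtype) h1
        rw [Subgroup.map_sup, Subgroup.map_subgroupOf_eq_of_le hNK, ← MonoidHom.range_eq_map,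
          Subgroup.range_subtype] at h2
        exact h2
      refine ⟨C'.map K.subtype, hnilC, ?_⟩
      apply le_antisymm _ Subgroup.le_normalizer
      intro x hx
      have hxK : x ∈ K := by
        have h1 : x ∈ Subgroup.normalizer (K : Set G) := by
          rw [mem_normalizer_iff_conj_smul, ← hCNK, Subgroup.smul_sup,
            Subgroup.Normal.conj_smul_eq_self x N, (mem_normalizer_iff_conj_smul x _).mp hx]
        have h2 : QuotientGroup.mk' N x ∈ Subgroup.normalizer (Kb : Set (G ⧸ N)) := by
          rw [← hKmap]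
          exact Subgroup.le_normalizer_map _ ⟨x, h1, rfl⟩
        rw [hKb.2] at h2
        exact h2
      exact hnormC ⟨hx, hxK⟩
  · -- conjugacy
    intro C D hC hD
    have hCb := hC.map_mk hsubconj N
    have hDb := hD.map_mk hsubconj N
    obtain ⟨gb, hgb⟩ := conjQ _ _ hCb hDb
    obtain ⟨g, rfl⟩ := hsurj gb
    set C₁ := MulAut.conj g • C with hC₁
    have hC₁car : IsCarter C₁ := hC.smul g
    have hmapC₁ : C₁.map (QuotientGroup.mk' N) = D.map (QuotientGroup.mk' N) := by
      rw [hC₁, map_conj_smul]; exact hgb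
    have hsupeq : C₁ ⊔ N = D ⊔ N := by
      rw [← comap_map_mk N C₁, ← comap_map_mk N D, hmapC₁]
    by_cases hK : D ⊔ N = ⊤
    · have hquot : Group.IsNilpotent (G ⧸ N) := nilpotent_quotient_of_map_eq_top hD.1 hK
      obtain ⟨C₀, -, hall⟩ := lemmaA N hNab hNp hNmin hquot hnil
      obtain ⟨g₁, hg₁⟩ := hall C₁ hC₁car (by rw [hsupeq, hK])
      obtain ⟨g₂, hg₂⟩ := hall D hD hK
      refine ⟨g₂ * g₁⁻¹ * g, ?_⟩
      rw [map_mul, map_mul, mul_smul, mul_smul, ← hC₁, ← hg₁, ← mul_smul (MulAut.conj g₁⁻¹),
        ← map_mul, inv_mul_cancel, map_one, one_smul, hg₂]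
    · have hC₁K : C₁ ≤ D ⊔ N := by rw [← hsupeq]; exact le_sup_left
      have hDK : D ≤ D ⊔ N := le_sup_left
      obtain ⟨l, hl⟩ := hsubconj _ hK _ _ (hC₁car.subgroupOf hC₁K) (hD.subgroupOf hDK)
      obtain ⟨k, -, hk⟩ := conj_of_conj_subgroupOf hC₁K hDK ⟨l, hl⟩
      refine ⟨k * g, ?_⟩
      rw [map_mul, mul_smul, ← hC₁, hk]

theorem carter_exists_conj (G : Type u) [Group G] [Finite G] [Group.IsSolvable G] :
    (∃ C : Subgroup G, IsCarter C) ∧ ConjProp G := main_aux _ G rfl

end Carter

end Cfsg.Agent.Lib.Lead
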