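import Mathlib
import Cfsg.Prelude.Def_Solvable
import Cfsg.Agent.Lib.Lead.HallSymp7

/-!
S4330 package G2 (for helper8): the data needed by G1 from P. Hall's theorem on `p`-groups of
symplectic type, `p` odd.
-/

set_option autoImplicit false

namespace Cfsg.Agent.Lib.Carve

open scoped commutatorElement Pointwise

universe w

namespace G2

/-- In a finite cyclic group, elements killed by `p` lie in the cyclic subgroup generated by any
element of order `p`. -/
theorem mem_zpowers_of_pow_eq_one {C : Type*} [Group C] [Finite C] [IsCyclic C] {p : ℕ}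
    (hp : 0 < p) (z q : C) (hz : orderOf z = p) (hq : q ^ p = 1) : q ∈ Subgroup.zpowers z := by
  classical
  haveI : Fintype C := Fintype.ofFinite C
  have hle := IsCyclic.card_pow_eq_one_le (α := C) hp
  have hsub : (Subgroup.zpowers z : Set C).toFinset ⊆ Finset.univ.filter (fun a : C => a ^ p = 1) := by
    intro a ha
    rw [Set.mem_toFinset, SetLike.mem_coe] at ha
    rw [Finset.mem_filter]
    refine ⟨Finset.mem_univ _, ?_⟩
    obtain ⟨k, rfl⟩ := Subgroup.mem_zpowers_iff.mp ha
    rw [← zpow_natCast, ← zpow_mul, mul_comm, zpow_mul, zpow_natCast, ← hz, pow_orderOf_eq_one,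
      one_zpow]
  have hcard : (Subgroup.zpowers z : Set C).toFinset.card = p := by
    rw [Set.toFinset_card, ← Nat.card_eq_fintype_card]
    change Nat.card (Subgroup.zpowers z) = p
    rw [Nat.card_zpowers, hz]
  have heq := Finset.eq_of_subset_of_card_le hsub (by rw [hcard]; exact hle)
  have : q ∈ Finset.univ.filter (fun a : C => a ^ p = 1) := by
    rw [Finset.mem_filter]; exact ⟨Finset.mem_univ _, hq⟩
  rw [← heq, Set.mem_toFinset] at this
  exact this

theorem symplectic_data {Q : Type w} [Group Q] [Finite Q] [Nontrivial Q] {p : ℕ} [Fact p.Prime]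
    (hp2 : p ≠ 2) (hQ : IsPGroup p Q)
    (hsymp : ∀ A : Subgroup Q, A.Characteristic → IsMulCommutative A → IsCyclic A) :
    ∃ z c : Q, z ∈ Subgroup.center Q ∧ z ≠ 1 ∧ z ^ p = 1 ∧
      (∀ x y : Q, ⁅x, y⁆ ∈ Subgroup.zpowers z) ∧
      (∀ q ∈ Subgroup.center Q, q ∈ Subgroup.zpowers c) ∧ c ∈ Subgroup.center Q ∧
      (∀ q ∈ Subgroup.center Q, q ^ p = 1 → q ∈ Subgroup.zpowers z) := by
  classical
  have hp : p.Prime := Fact.out
  haveI hcyc : IsCyclic (Subgroup.center Q) := hsymp _ inferInstance inferInstance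
  haveI hnt : Nontrivial (Subgroup.center Q) := hQ.center_nontrivial
  obtain ⟨c0, hc0⟩ := IsCyclic.exists_generator (α := Subgroup.center Q)
  -- an element of order `p` in the centre
  have hZp : IsPGroup p (Subgroup.center Q) := hQ.to_subgroup _
  have hdvd : p ∣ Nat.card (Subgroup.center Q) := by
    obtain ⟨n, hn⟩ := hZp.exists_card_eq
    have hn0 : n ≠ 0 := by
      rintro rfl
      rw [pow_zero] at hn
      have := Finite.one_lt_card_iff_nontrivial.mpr hnt
      omega
    rw [hn]
    exact dvd_pow_self p hn0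
  obtain ⟨z0, hz0⟩ := exists_prime_orderOf_dvd_card' p hdvd
  -- Ω₁ of the centre
  have hΩ : ∀ q ∈ Subgroup.center Q, q ^ p = 1 → q ∈ Subgroup.zpowers (z0 : Q) := by
    intro q hq hqp
    have h1 := mem_zpowers_of_pow_eq_one hp.pos z0 ⟨q, hq⟩ hz0 (Subtype.ext (by simpa using hqp))
    obtain ⟨k, hk⟩ := Subgroup.mem_zpowers_iff.mp h1
    rw [Subgroup.mem_zpowers_iff]
    refine ⟨k, ?_⟩
    have := congrArg Subtype.val hk
    simpa using this
  have hz01 : (z0 : Q) ≠ 1 := by
    intro h
    have : z0 = 1 := Subtype.ext h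
    rw [this, orderOf_one] at hz0
    exact hp.one_lt.ne hz0
  have hz0p : (z0 : Q) ^ p = 1 := by
    have := pow_orderOf_eq_one z0
    rw [hz0] at this
    have := congrArg Subtype.val this
    simpa using this
  refine ⟨z0, c0, z0.2, hz01, hz0p, ?_, ?_, c0.2, hΩ⟩
  · -- commutators
    obtain ⟨E, R, hER, hsup, hE, hR⟩ := Cfsg.Agent.Lib.Lead.HallSymp.hall_symplectic hQ hsymp
    have hRcyc : IsCyclic R := by
      rcases hR with h | ⟨h, _⟩
      · exact h
      · exact absurd h hp2
    -- `R` is central
    have hRab : ∀ r ∈ R, ∀ s ∈ R, r * s = s * r := by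
      intro r hr s hs
      have := (IsCyclic.commGroup (α := R)).mul_comm ⟨r, hr⟩ ⟨s, hs⟩
      exact congrArg Subtype.val this
    have hRcen : R ≤ Subgroup.center Q := by
      intro r hr
      rw [Subgroup.mem_center_iff]
      have hle : E ⊔ R ≤ Subgroup.centralizer {r} := by
        rw [sup_le_iff]
        constructor
        · intro e he
          rw [Subgroup.mem_centralizer_iff]
          intro y hy
          rw [Set.mem_singleton_iff] at hy
          subst hy
          exact (hER e he y hr).symm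
        · intro s hs
          rw [Subgroup.mem_centralizer_iff]
          intro y hy
          rw [Set.mem_singleton_iff] at hy
          subst hy
          exact hRab y hr s hs
      intro g
      have hg : g ∈ Subgroup.centralizer {r} := hle (by rw [hsup]; exact Subgroup.mem_top g)
      rw [Subgroup.mem_centralizer_iff] at hg
      exact (hg r rfl).symm
    haveI hRn : R.Normal := by
      refine ⟨fun n hn g => ?_⟩
      have := Subgroup.mem_center_iff.mp (hRcen hn) g
      rw [this, mul_inv_cancel_right]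
      exact hn
    have hdecomp : ∀ x : Q, ∃ e ∈ E, ∃ r ∈ R, e * r = x := by
      intro x
      have : x ∈ E ⊔ R := by rw [hsup]; exact Subgroup.mem_top x
      exact Subgroup.mem_sup_of_normal_right.mp this
    -- central factors drop out of commutators
    have hdrop : ∀ e1 e2 r1 r2 : Q, r1 ∈ Subgroup.center Q → r2 ∈ Subgroup.center Q →
        ⁅e1 * r1, e2 * r2⁆ = ⁅e1, e2⁆ := by
      intro e1 e2 r1 r2 h1 h2
      rw [Subgroup.mem_center_iff] at h1 h2
      rw [commutatorElement_def, commutatorElement_def]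
      have a1 : e1 * r1 * (e2 * r2) = e1 * e2 * (r1 * r2) := by
        rw [mul_assoc e1 r1, ← mul_assoc r1 e2, ← h1 e2, mul_assoc e2 r1, ← mul_assoc e1 e2]
      have a2 : (e1 * r1)⁻¹ = r1⁻¹ * e1⁻¹ := mul_inv_rev _ _
      have a3 : (e2 * r2)⁻¹ = r2⁻¹ * e2⁻¹ := mul_inv_rev _ _
      have b1 : ∀ g : Q, g * r1⁻¹ = r1⁻¹ * g := by
        intro g
        have := h1 g
        calc g * r1⁻¹ = r1⁻¹ * (r1 * g) * r1⁻¹ := by group
          _ = r1⁻¹ * (g * r1) * r1⁻¹ := by rw [this]
          _ = r1⁻¹ * g := by group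
      have b2 : ∀ g : Q, g * r2⁻¹ = r2⁻¹ * g := by
        intro g
        have := h2 g
        calc g * r2⁻¹ = r2⁻¹ * (r2 * g) * r2⁻¹ := by group
          _ = r2⁻¹ * (g * r2) * r2⁻¹ := by rw [this]
          _ = r2⁻¹ * g := by group
      rw [a1, a2, a3]
      calc e1 * e2 * (r1 * r2) * (r1⁻¹ * e1⁻¹) * (r2⁻¹ * e2⁻¹)
          = e1 * e2 * (r1 * (r2 * r1⁻¹)) * e1⁻¹ * (r2⁻¹ * e2⁻¹) := by group
        _ = e1 * e2 * (r1 * (r1⁻¹ * r2)) * e1⁻¹ * (r2⁻¹ * e2⁻¹) := by rw [b1 r2]
        _ = e1 * e2 * ((r2 * e1⁻¹) * r2⁻¹) * e2⁻¹ := by group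
        _ = e1 * e2 * ((e1⁻¹ * r2) * r2⁻¹) * e2⁻¹ := by rw [h2 e1⁻¹]
        _ = e1 * e2 * e1⁻¹ * e2⁻¹ := by group
    intro x y
    obtain ⟨e1, he1, r1, hr1, rfl⟩ := hdecomp x
    obtain ⟨e2, he2, r2, hr2, rfl⟩ := hdecomp y
    rw [hdrop e1 e2 r1 r2 (hRcen hr1) (hRcen hr2)]
    rcases hE with hE | hE
    · rw [hE, Subgroup.mem_bot] at he1
      rw [he1, commutatorElement_one_left]
      exact Subgroup.one_mem _
    · obtain ⟨⟨_, _, hcomm⟩, hcard⟩ := hE
      have hmem : ⁅(⟨e1, he1⟩ : E), (⟨e2, he2⟩ : E)⁆ ∈ Subgroup.center E := by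
        rw [← hcomm]
        exact Subgroup.commutator_mem_commutator (Subgroup.mem_top _) (Subgroup.mem_top _)
      set w : E := ⁅(⟨e1, he1⟩ : E), (⟨e2, he2⟩ : E)⁆ with hw
      have hwval : (w : Q) = ⁅e1, e2⁆ := by
        rw [hw, commutatorElement_def, commutatorElement_def]
        simp
      rw [← hwval]
      apply hΩ
      · -- `w` is central in `Q`
        rw [Subgroup.mem_center_iff]
        have hle : E ⊔ R ≤ Subgroup.centralizer {(w : Q)} := by
          rw [sup_le_iff]
          constructor
          · intro e he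
            rw [Subgroup.mem_centralizer_iff]
            intro y hy
            rw [Set.mem_singleton_iff] at hy
            subst hy
            have := Subgroup.mem_center_iff.mp hmem ⟨e, he⟩
            have := congrArg Subtype.val this
            simpa using this.symm
          · intro s hs
            rw [Subgroup.mem_centralizer_iff]
            intro y hy
            rw [Set.mem_singleton_iff] at hy
            subst hy
            exact Subgroup.mem_center_iff.mp (hRcen hs) _
        intro g
        have hg : g ∈ Subgroup.centralizer {(w : Q)} := hle (by rw [hsup]; exact Subgroup.mem_top g)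
        rw [Subgroup.mem_centralizer_iff] at hg
        exact (hg _ rfl).symm
      · have h1 : (⟨w, hmem⟩ : Subgroup.center E) ^ p = 1 := by
          rw [← hcard]
          exact pow_card_eq_one'
        have := congrArg (fun t : Subgroup.center E => ((t : E) : Q)) h1
        simpa using this
  · intro q hq
    have := hc0 ⟨q, hq⟩
    obtain ⟨k, hk⟩ := Subgroup.mem_zpowers_iff.mp this
    rw [Subgroup.mem_zpowers_iff]
    refine ⟨k, ?_⟩
    have := congrArg Subtype.val hk
    simpa using this

end G2

end Cfsg.Agent.Lib.Carve
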