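import Mathlib
import Cfsg.Prelude.Def_Solvable
import Cfsg.Agent.Lib.Lead.Core
import Cfsg.Agent.Lib.Helper7.Wielandt6

/-!
S4330 package G3 (for helper8): the group-theoretic reduction of the solvable Baer–Suzuki theorem
of Guralnick–Malle (odd `p`) to the module CLAIM.
-/

set_option autoImplicit false

namespace Cfsg.Agent.Lib.Carve

open scoped commutatorElement Pointwise

universe u

namespace G3L

open Cfsg.Agent.Lib.Helper7 (SubnIn cj)

section Basic
variable {G : Type*} [Group G]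

theorem eq_one_of_pow_of_pow {z : G} {a b : ℕ} (ha : z ^ a = 1) (hb : z ^ b = 1)
    (hab : Nat.Coprime a b) : z = 1 := by
  have h1 := orderOf_dvd_of_pow_eq_one ha
  have h2 := orderOf_dvd_of_pow_eq_one hb
  have h3 := Nat.dvd_gcd h1 h2
  rw [hab.gcd_eq_one, Nat.dvd_one] at h3
  exact orderOf_eq_one_iff.mp h3

theorem subnIn_map {G' : Type*} [Group G'] (f : G →* G') {S H : Subgroup G} (h : SubnIn S H) :
    SubnIn (S.map f) (H.map f) := by
  induction h with
  | refl H => exact SubnIn.refl _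
  | step S K H hSK hN _ ih =>
    refine SubnIn.step _ (K.map f) _ (Subgroup.map_mono hSK) ?_ ih
    exact (Subgroup.map_mono hN).trans (Subgroup.le_normalizer_map f)

theorem map_cj {G' : Type*} [Group G'] (f : G →* G') (g : G) (A : Subgroup G) :
    (cj g A).map f = cj (f g) (A.map f) := by
  unfold cj
  rw [Subgroup.map_map, Subgroup.map_map]
  congr 1
  ext x
  simp

/-- the hypothesis of the theorem, in relative-subnormality form -/
def Hyp (A : Subgroup G) : Prop :=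
  ∀ c : G, ∃ g : G, IsConj c g ∧ SubnIn A (A ⊔ cj g A)

theorem Hyp.map {G' : Type*} [Group G'] (f : G →* G') (hf : Function.Surjective f)
    {A : Subgroup G} (h : Hyp A) : Hyp (A.map f) := by
  intro c'
  obtain ⟨c, rfl⟩ := hf c'
  obtain ⟨g, hcg, hsub⟩ := h c
  refine ⟨f g, f.map_isConj hcg, ?_⟩
  have := subnIn_map f hsub
  rwa [Subgroup.map_sup, map_cj] at this

theorem exists_normal_pgroup [Finite G] {p : ℕ} [Fact p.Prime] {A D : Subgroup G}
    (h : SubnIn A D) (hA : IsPGroup p A) :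
    ∃ O : Subgroup G, A ≤ O ∧ O ≤ D ∧ D ≤ Subgroup.normalizer (O : Set G) ∧ IsPGroup p O := by
  have hle := h.le
  have h1 : (A.subgroupOf D).IsSubnormal := h.isSubnormal_subgroupOf
  have h2 : IsPGroup p (A.subgroupOf D) := hA.comap_of_injective D.subtype D.subtype_injective
  have h3 := Cfsg.Agent.Lib.Helper7.le_piCore_singleton_of_isSubnormal h1 h2
  refine ⟨(Cfsg.piCore {p} D).map D.subtype, ?_, ?_, ?_, ?_⟩
  · intro a ha
    exact ⟨⟨a, hle ha⟩, h3 ha, rfl⟩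
  · rintro _ ⟨y, _, rfl⟩
    exact y.2
  · have hn : Subgroup.normalizer ((Cfsg.piCore {p} D : Subgroup D) : Set D) = ⊤ :=
      Subgroup.normalizer_eq_top_iff.mpr inferInstance
    have := Subgroup.le_normalizer_map (H := Cfsg.piCore {p} D) D.subtype
    rw [hn, ← MonoidHom.range_eq_map, Subgroup.range_subtype] at this
    exact this
  · exact (Cfsg.Agent.Lib.Helper7.isPGroup_piCore_singleton p).map _

theorem exists_normal_abelian [Nontrivial G] (hsol : Group.IsSolvable G) :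
    ∃ M : Subgroup G, M.Normal ∧ M ≠ ⊥ ∧ ∀ x ∈ M, ∀ y ∈ M, x * y = y * x := by
  classical
  have hex : ∃ n, derivedSeries G n = ⊥ := hsol.solvable
  have h0 : Nat.find hex ≠ 0 := by
    intro h
    have := Nat.find_spec hex
    rw [h, derivedSeries_zero] at this
    exact top_ne_bot this
  obtain ⟨j, hj⟩ := Nat.exists_eq_succ_of_ne_zero h0
  refine ⟨derivedSeries G j, inferInstance, ?_, ?_⟩
  · exact Nat.find_min hex (by omega)
  · have := Nat.find_spec hex
    rw [hj, derivedSeries_succ] at this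
    intro x hx y hy
    have hc : ⁅x, y⁆ ∈ ⁅derivedSeries G j, derivedSeries G j⁆ :=
      Subgroup.commutator_mem_commutator hx hy
    rw [this, Subgroup.mem_bot, commutatorElement_eq_one_iff_mul_comm] at hc
    exact hc

theorem not_dvd_card_of_pCore_eq_bot [Finite G] {p : ℕ} [hp : Fact p.Prime]
    (hO : Cfsg.pCore p G = ⊥) (M : Subgroup G) (hMn : M.Normal)
    (hab : ∀ x ∈ M, ∀ y ∈ M, x * y = y * x) : ¬ p ∣ Nat.card M := by
  intro hdvd
  obtain ⟨x, hx⟩ := exists_prime_orderOf_dvd_card' p hdvd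
  let T : Subgroup G :=
    { carrier := {x | x ∈ M ∧ ∃ k : ℕ, x ^ (p ^ k) = 1}
      one_mem' := ⟨M.one_mem, 0, one_pow _⟩
      mul_mem' := by
        rintro a b ⟨ha, k, hk⟩ ⟨hb, l, hl⟩
        refine ⟨M.mul_mem ha hb, k + l, ?_⟩
        have hc : Commute a b := hab a ha b hb
        have e1 : a ^ (p ^ (k + l)) = 1 := by rw [pow_add, pow_mul, hk, one_pow]
        have e2 : b ^ (p ^ (k + l)) = 1 := by rw [pow_add, mul_comm, pow_mul, hl, one_pow]
        rw [hc.mul_pow, e1, e2, one_mul]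
      inv_mem' := by
        rintro a ⟨ha, k, hk⟩
        exact ⟨M.inv_mem ha, k, by rw [inv_pow, hk, inv_one]⟩ }
  have hTn : T.Normal := by
    refine ⟨fun a ha g => ?_⟩
    obtain ⟨ha, k, hk⟩ := ha
    exact ⟨hMn.conj_mem a ha g, k, by rw [conj_pow, hk, mul_one, mul_inv_cancel]⟩
  have hTp : IsPGroup p T := by
    rintro ⟨a, ha, k, hk⟩
    exact ⟨k, Subtype.ext (by simpa using hk)⟩
  have hT : T ≤ ⊥ := hO ▸ Cfsg.Agent.Lib.Lead.le_pCore hTn hTp
  have hxp : (x : G) ^ p = 1 := by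
    have := pow_orderOf_eq_one x
    rw [hx] at this
    simpa using congrArg Subtype.val this
  have hxT : (x : G) ∈ T := ⟨x.2, 1, by rw [pow_one]; exact hxp⟩
  have := hT hxT
  rw [Subgroup.mem_bot] at this
  have hx1 : x = 1 := Subtype.ext this
  rw [hx1, orderOf_one] at hx
  exact hp.out.one_lt.ne hx

end Basic

theorem main_aux (p : ℕ) [hp : Fact p.Prime]
    (hclaim : ∀ (G : Type u) [Group G] [Finite G] (N H Q : Subgroup G), N.Normal →
      (∀ x ∈ N, ∀ y ∈ N, x * y = y * x) → ¬ p ∣ Nat.card N → Q ≤ H →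
      (∀ h ∈ H, ∀ q ∈ Q, h * q * h⁻¹ ∈ Q) → IsPGroup p Q → ∀ a ∈ Q,
      (∃ n ∈ N, a * n * a⁻¹ ≠ n) →
      ∃ v ∈ N, ∀ h ∈ H, (h * a * h⁻¹) * v * (h * a * h⁻¹)⁻¹ ≠ v) :
    ∀ n : ℕ, ∀ (G : Type u) [Group G] [Finite G], Nat.card G = n → Group.IsSolvable G →
      ∀ A : Subgroup G, IsPGroup p A → Hyp A → A ≤ Cfsg.pCore p G := by
  intro n
  induction n using Nat.strong_induction_on with
  | _ n ih =>
  intro G _ _ hn hsol A hA hyp
  -- the quotient step
  have quot : ∀ K : Subgroup G, ∀ hK : K.Normal, K ≠ ⊥ →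
      A.map (QuotientGroup.mk' K) ≤ Cfsg.pCore p (G ⧸ K) := by
    intro K hK hKne
    have hlt : Nat.card (G ⧸ K) < n := by
      rw [← hn, Subgroup.card_eq_card_quotient_mul_card_subgroup K]
      have h1 : 1 < Nat.card K := K.one_lt_card_iff_ne_bot.mpr hKne
      have h2 : 0 < Nat.card (G ⧸ K) := Nat.card_pos
      nlinarith
    exact ih _ hlt (G ⧸ K) rfl inferInstance _ (hA.map _)
      (hyp.map _ (QuotientGroup.mk'_surjective K))
  by_cases hO : Cfsg.pCore p G = ⊥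
  swap
  · -- `O_p(G) ≠ 1`
    have hKn : (Cfsg.pCore p G).Normal := Cfsg.Agent.Lib.Lead.pCore_normal p
    have h1 := quot _ hKn hO
    have hL : IsPGroup p ((Cfsg.pCore p (G ⧸ Cfsg.pCore p G)).comap
        (QuotientGroup.mk' (Cfsg.pCore p G))) := by
      apply IsPGroup.comap_of_ker_isPGroup (Cfsg.Agent.Lib.Lead.pCore_isPGroup p)
      rw [QuotientGroup.ker_mk']
      exact Cfsg.Agent.Lib.Lead.pCore_isPGroup p
    have hLn : ((Cfsg.pCore p (G ⧸ Cfsg.pCore p G)).comap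
        (QuotientGroup.mk' (Cfsg.pCore p G))).Normal := by
      haveI := Cfsg.Agent.Lib.Lead.pCore_normal (G := G ⧸ Cfsg.pCore p G) p
      infer_instance
    refine le_trans ?_ (Cfsg.Agent.Lib.Lead.le_pCore hLn hL)
    intro a ha
    exact h1 (Subgroup.mem_map_of_mem _ ha)
  -- now `O_p(G) = 1`
  rcases subsingleton_or_nontrivial G with hss | hnt
  · intro a _
    rw [Subsingleton.elim a 1]
    exact Subgroup.one_mem _
  obtain ⟨N, hNn, hNne, hNab⟩ := exists_normal_abelian hsol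
  have hNp : ¬ p ∣ Nat.card N := not_dvd_card_of_pCore_eq_bot hO N hNn hNab
  have hcop : ∀ k : ℕ, Nat.Coprime (p ^ k) (Nat.card N) := fun k =>
    Nat.Coprime.pow_left k ((Nat.Prime.coprime_iff_not_dvd hp.out).mpr hNp)
  have hNcard : ∀ x ∈ N, x ^ Nat.card N = 1 := by
    intro x hx
    have h2 := congrArg Subtype.val (pow_card_eq_one' (G := N) (x := ⟨x, hx⟩))
    rw [Subgroup.coe_pow, Subgroup.coe_one] at h2
    exact h2
  -- `p`-elements of `N` are trivial
  have hpN : ∀ X : Subgroup G, IsPGroup p X → ∀ x ∈ X, x ∈ N → x = 1 := by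
    intro X hX x hxX hxN
    obtain ⟨k, hk⟩ := hX ⟨x, hxX⟩
    have hk' : x ^ (p ^ k) = 1 := by simpa using congrArg Subtype.val hk
    exact eq_one_of_pow_of_pow hk' (hNcard x hxN) (hcop k)
  have h1 := quot N hNn hNne
  have hRp : IsPGroup p (Cfsg.pCore p (G ⧸ N)) := Cfsg.Agent.Lib.Lead.pCore_isPGroup p
  have hRn : (Cfsg.pCore p (G ⧸ N)).Normal := Cfsg.Agent.Lib.Lead.pCore_normal p
  obtain ⟨Qb, hQb⟩ : ∃ Qb : Subgroup G, Qb = (Cfsg.pCore p (G ⧸ N)).comap (QuotientGroup.mk' N) :=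
    ⟨_, rfl⟩
  have hQbn : Qb.Normal := by rw [hQb]; infer_instance
  have hmemQb : ∀ x : G, x ∈ Qb ↔ QuotientGroup.mk' N x ∈ Cfsg.pCore p (G ⧸ N) := by
    intro x; rw [hQb]; exact Subgroup.mem_comap
  have hNQ : N ≤ Qb := by
    intro x hx
    rw [hmemQb, QuotientGroup.mk'_apply, (QuotientGroup.eq_one_iff x).mpr hx]
    exact Subgroup.one_mem _
  have hAQ : A ≤ Qb := fun a ha => (hmemQb a).mpr (h1 (Subgroup.mem_map_of_mem _ ha))
  -- a Sylow `p`-subgroup of `Qb` containing `A`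
  have hA' : IsPGroup p (A.subgroupOf Qb) := hA.comap_of_injective Qb.subtype Qb.subtype_injective
  obtain ⟨P0, hP0⟩ := hA'.exists_le_sylow
  obtain ⟨P, hP⟩ : ∃ P : Subgroup G, P = (P0 : Subgroup Qb).map Qb.subtype := ⟨_, rfl⟩
  have hPp : IsPGroup p P := by rw [hP]; exact P0.isPGroup'.map _
  have hAP : A ≤ P := by
    intro a ha
    rw [hP]
    exact ⟨⟨a, hAQ ha⟩, hP0 (show (⟨a, hAQ ha⟩ : Qb) ∈ A.subgroupOf Qb from ha), rfl⟩
  have hPQ : P ≤ Qb := by
    rw [hP]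
    rintro _ ⟨y, _, rfl⟩
    exact y.2
  have hfrat : Subgroup.normalizer (P : Set G) ⊔ Qb = ⊤ := by
    rw [hP]
    exact Sylow.normalizer_sup_eq_top P0
  -- `Qb = P N`
  have hQPN : ∀ x ∈ Qb, ∃ y ∈ P, ∃ z ∈ N, y * z = x := by
    haveI : (N.subgroupOf Qb).Normal := Subgroup.normal_subgroupOf
    have hquo : IsPGroup p (Qb ⧸ N.subgroupOf Qb) := by
      intro y
      obtain ⟨x, rfl⟩ := QuotientGroup.mk_surjective y
      obtain ⟨k, hk⟩ := hRp ⟨QuotientGroup.mk' N x.1, (hmemQb x.1).mp x.2⟩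
      refine ⟨k, ?_⟩
      rw [← QuotientGroup.mk_pow, QuotientGroup.eq_one_iff]
      show ((x ^ (p ^ k) : Qb) : G) ∈ N
      have h2 := congrArg Subtype.val hk
      rw [Subgroup.coe_pow, Subgroup.coe_one, ← map_pow, QuotientGroup.mk'_apply,
        QuotientGroup.eq_one_iff] at h2
      rw [Subgroup.coe_pow]
      exact h2
    obtain ⟨j, hj⟩ := hquo.exists_card_eq
    have hidx1 : ((P0 : Subgroup Qb) ⊔ N.subgroupOf Qb).index ∣ (P0 : Subgroup Qb).index :=
      Subgroup.index_dvd_of_le le_sup_left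
    have hidx2 : ((P0 : Subgroup Qb) ⊔ N.subgroupOf Qb).index ∣ (N.subgroupOf Qb).index :=
      Subgroup.index_dvd_of_le le_sup_right
    rw [Subgroup.index_eq_card (N.subgroupOf Qb), hj] at hidx2
    have hcopi : Nat.Coprime (P0 : Subgroup Qb).index (p ^ j) :=
      (Nat.Coprime.pow_left j ((Nat.Prime.coprime_iff_not_dvd hp.out).mpr P0.not_dvd_index)).symm
    have hone : ((P0 : Subgroup Qb) ⊔ N.subgroupOf Qb).index = 1 :=
      Nat.Coprime.eq_one_of_dvd (Nat.Coprime.coprime_dvd_left hidx1 hcopi) hidx2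
    have htop : (P0 : Subgroup Qb) ⊔ N.subgroupOf Qb = ⊤ := Subgroup.index_eq_one.mp hone
    intro x hx
    have hmem : (⟨x, hx⟩ : Qb) ∈ (P0 : Subgroup Qb) ⊔ N.subgroupOf Qb := by
      rw [htop]; exact Subgroup.mem_top _
    obtain ⟨y, hy, z, hz, hyz⟩ := Subgroup.mem_sup_of_normal_right.mp hmem
    refine ⟨y.1, ?_, z.1, hz, congrArg Subtype.val hyz⟩
    rw [hP]
    exact ⟨y, hy, rfl⟩
  -- `G = N H` with `H = N_G(P)`
  obtain ⟨H, hH⟩ : ∃ H : Subgroup G, H = Subgroup.normalizer (P : Set G) := ⟨_, rfl⟩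
  have hPH : P ≤ H := by rw [hH]; exact Subgroup.le_normalizer
  have hHP : ∀ h ∈ H, ∀ q ∈ P, h * q * h⁻¹ ∈ P := by
    intro h hh q hq
    rw [hH] at hh
    exact (Subgroup.mem_normalizer_iff.mp hh q).mp hq
  have hNH : ∀ x : G, ∃ n ∈ N, ∃ h ∈ H, n * h = x := by
    intro x
    have htop : (⊤ : Subgroup G) ≤ N ⊔ H := by
      rw [← hfrat, ← hH]
      apply sup_le le_sup_right
      intro q hq
      obtain ⟨y, hy, z, hz, rfl⟩ := hQPN q hq
      exact mul_mem (Subgroup.mem_sup_right (hPH hy)) (Subgroup.mem_sup_left hz)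
    haveI := hNn
    exact Subgroup.mem_sup_of_normal_left.mp (htop (Subgroup.mem_top x))
  -- `A` centralizes `N`
  have hAcent : ∀ a ∈ A, ∀ n ∈ N, a * n * a⁻¹ = n := by
    intro a ha
    by_contra hcon
    push Not at hcon
    obtain ⟨n0, hn0, hne⟩ := hcon
    obtain ⟨v, hvN, hv⟩ := hclaim G N H P hNn hNab hNp hPH hHP hPp a (hAP ha) ⟨n0, hn0, hne⟩
    obtain ⟨g, hvg, hsub⟩ := hyp v
    obtain ⟨x, hx⟩ := isConj_iff.mp hvg
    have hgN : g ∈ N := by rw [← hx]; exact hNn.conj_mem v hvN x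
    obtain ⟨O, hAO, hOD, hDO, hOp⟩ := exists_normal_pgroup hsub hA
    obtain ⟨w, hw⟩ : ∃ w : G, w = a * g * a⁻¹ * g⁻¹ := ⟨_, rfl⟩
    have hwN : w ∈ N := by
      rw [hw]; exact mul_mem (hNn.conj_mem g hgN a) (N.inv_mem hgN)
    have hwD : w ∈ A ⊔ cj g A := by
      have h1 : a ∈ A ⊔ cj g A := Subgroup.mem_sup_left ha
      have h2 : g * a⁻¹ * g⁻¹ ∈ A ⊔ cj g A :=
        Subgroup.mem_sup_right ⟨a⁻¹, A.inv_mem ha, by simp⟩
      have h3 : w = a * (g * a⁻¹ * g⁻¹) := by rw [hw]; group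
      rw [h3]; exact mul_mem h1 h2
    -- `a` commutes with `w`
    have hcomm : a * w * a⁻¹ = w := by
      have hu : a * w * a⁻¹ * w⁻¹ = 1 := by
        apply hpN O hOp
        · have h4 : w * a⁻¹ * w⁻¹ ∈ O :=
            (Subgroup.mem_normalizer_iff.mp (hDO hwD) a⁻¹).mp (O.inv_mem (hAO ha))
          have h5 : a * w * a⁻¹ * w⁻¹ = a * (w * a⁻¹ * w⁻¹) := by group
          rw [h5]; exact mul_mem (hAO ha) h4
        · exact mul_mem (hNn.conj_mem w hwN a) (N.inv_mem hwN)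
      calc a * w * a⁻¹ = (a * w * a⁻¹ * w⁻¹) * w := by group
        _ = w := by rw [hu, one_mul]
    have hag : a * g * a⁻¹ = w * g := by rw [hw]; group
    have hpow : ∀ i : ℕ, a ^ i * g * (a ^ i)⁻¹ = w ^ i * g := by
      intro i
      induction i with
      | zero => simp
      | succ i ihi =>
        have e1 : a ^ (i + 1) * g * (a ^ (i + 1))⁻¹ = a * (a ^ i * g * (a ^ i)⁻¹) * a⁻¹ := by
          rw [pow_succ']; group
        have e2 : a * (w ^ i * g) * a⁻¹ = (a * w ^ i * a⁻¹) * (a * g * a⁻¹) := by group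
        rw [e1, ihi, e2, ← conj_pow, hcomm, hag, pow_succ, mul_assoc]
    obtain ⟨k, hk⟩ := hA ⟨a, ha⟩
    have hk' : a ^ (p ^ k) = 1 := by simpa using congrArg Subtype.val hk
    have hwk : w ^ (p ^ k) = 1 := by
      have := hpow (p ^ k)
      rw [hk', inv_one, one_mul, mul_one] at this
      exact (mul_eq_right.mp this.symm)
    have hw1 : w = 1 := eq_one_of_pow_of_pow hwk (hNcard w hwN) (hcop k)
    have hag' : a * g * a⁻¹ = g := by rw [hag, hw1, one_mul]
    -- transport to `v`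
    obtain ⟨n, hnN, h, hhH, hnh⟩ := hNH x⁻¹
    have hxeq : x = h⁻¹ * n⁻¹ := by
      have : x⁻¹⁻¹ = (n * h)⁻¹ := by rw [hnh]
      rw [inv_inv, mul_inv_rev] at this
      exact this
    have hnv : n⁻¹ * v * n = v := by
      have := hNab n⁻¹ (N.inv_mem hnN) v hvN
      rw [this, mul_assoc, inv_mul_cancel, mul_one]
    have hgv : g = h⁻¹ * v * h := by
      rw [← hx, hxeq]
      calc h⁻¹ * n⁻¹ * v * (h⁻¹ * n⁻¹)⁻¹ = h⁻¹ * (n⁻¹ * v * n) * h := by group
        _ = h⁻¹ * v * h := by rw [hnv]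
    apply hv h hhH
    calc h * a * h⁻¹ * v * (h * a * h⁻¹)⁻¹ = h * (a * (h⁻¹ * v * h) * a⁻¹) * h⁻¹ := by group
      _ = h * (h⁻¹ * v * h) * h⁻¹ := by rw [← hgv, hag']
      _ = v := by group
  -- `p`-elements of `C_Qb(N)` lie in `P`
  have hL7 : ∀ u ∈ Qb, (∀ n ∈ N, n * u = u * n) → (∃ k : ℕ, u ^ (p ^ k) = 1) → u ∈ P := by
    intro u hu hcen ⟨k, hk⟩
    obtain ⟨y, hy, z, hz, rfl⟩ := hQPN u hu
    have hyz : Commute y z := by
      have h2 := hcen z hz
      -- z * (y * z) = y * z * z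
      have : z * y = y * z := by
        have h3 : z * y * z = y * z * z := by rw [mul_assoc]; exact h2
        exact mul_right_cancel h3
      exact this.symm
    have h4 : y ^ (p ^ k) * z ^ (p ^ k) = 1 := by rw [← hyz.mul_pow]; exact hk
    have h5 : z ^ (p ^ k) = (y ^ (p ^ k))⁻¹ := eq_inv_of_mul_eq_one_right h4
    have h6 : z ^ (p ^ k) = 1 := by
      apply hpN P hPp
      · rw [h5]; exact P.inv_mem (P.pow_mem hy _)
      · exact N.pow_mem hz _
    have hz1 : z = 1 := eq_one_of_pow_of_pow h6 (hNcard z hz) (hcop k)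
    rw [hz1, mul_one]
    exact hy
  -- `Y = C_P(N)` is a normal `p`-subgroup
  obtain ⟨Y, hY⟩ : ∃ Y : Subgroup G, Y = P ⊓ Subgroup.centralizer (N : Set G) := ⟨_, rfl⟩
  have hYp : IsPGroup p Y := by rw [hY]; exact hPp.to_le inf_le_left
  have hYn : Y.Normal := by
    refine ⟨fun y hy x => ?_⟩
    rw [hY] at hy ⊢
    obtain ⟨hyP, hyC⟩ := Subgroup.mem_inf.mp hy
    rw [Subgroup.mem_centralizer_iff] at hyC
    have hcen : ∀ n ∈ N, n * (x * y * x⁻¹) = x * y * x⁻¹ * n := by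
      intro n hn
      have h2 := hyC (x⁻¹ * n * x) (by
        have := hNn.conj_mem n hn x⁻¹
        rwa [inv_inv] at this)
      calc n * (x * y * x⁻¹) = x * ((x⁻¹ * n * x) * y) * x⁻¹ := by group
        _ = x * (y * (x⁻¹ * n * x)) * x⁻¹ := by rw [h2]
        _ = x * y * x⁻¹ * n := by group
    refine Subgroup.mem_inf.mpr ⟨?_, ?_⟩
    · apply hL7 _ (hQbn.conj_mem y (hPQ hyP) x) hcen
      obtain ⟨k, hk⟩ := hPp ⟨y, hyP⟩
      have hk' : y ^ (p ^ k) = 1 := by simpa using congrArg Subtype.val hk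
      exact ⟨k, by rw [conj_pow, hk', mul_one, mul_inv_cancel]⟩
    · rw [Subgroup.mem_centralizer_iff]
      exact hcen
  have hYbot : Y ≤ ⊥ := hO ▸ Cfsg.Agent.Lib.Lead.le_pCore hYn hYp
  intro a ha
  have haY : a ∈ Y := by
    rw [hY]
    refine Subgroup.mem_inf.mpr ⟨hAP ha, ?_⟩
    rw [Subgroup.mem_centralizer_iff]
    intro n hn
    have := hAcent a ha n hn
    calc n * a = (a * n * a⁻¹) * a := by rw [this]
      _ = a * n := by group
  have := hYbot haY
  rw [Subgroup.mem_bot] at this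
  rw [this]
  exact Subgroup.one_mem _

theorem baer_suzuki_of_claim (p : ℕ) [Fact p.Prime] (hp2 : p ≠ 2)
    (hclaim : ∀ (G : Type u) [Group G] [Finite G] (N H Q : Subgroup G), N.Normal →
      (∀ x ∈ N, ∀ y ∈ N, x * y = y * x) → ¬ p ∣ Nat.card N → Q ≤ H →
      (∀ h ∈ H, ∀ q ∈ Q, h * q * h⁻¹ ∈ Q) → IsPGroup p Q → ∀ a ∈ Q,
      (∃ n ∈ N, a * n * a⁻¹ ≠ n) →
      ∃ v ∈ N, ∀ h ∈ H, (h * a * h⁻¹) * v * (h * a * h⁻¹)⁻¹ ≠ v)
    {G : Type u} [Group G] [Finite G] (hG : Group.IsSolvable G) (A : Subgroup G)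
    (hA : IsPGroup p A)
    (h : ∀ c : G, ∃ g : G, IsConj c g ∧ (A.subgroupOf (A ⊔ MulAut.conj g • A)).IsSubnormal) :
    A ≤ Cfsg.pCore p G := by
  have _ := hp2
  apply main_aux p hclaim (Nat.card G) G rfl hG A hA
  intro c
  obtain ⟨g, hcg, hsub⟩ := h c
  refine ⟨g, hcg, ?_⟩
  have hcj : cj g A = MulAut.conj g • A := rfl
  rw [hcj]
  exact Cfsg.Agent.Lib.Helper7.subnIn_of_isSubnormal_subgroupOf le_sup_left hsub

end G3L

end Cfsg.Agent.Lib.Carve
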