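import Mathlib
import Cfsg.Agent.Lib.Lead.ClassNum2

set_option autoImplicit false

namespace Cfsg.Agent.Lib.Lead.ClassNum

open Equiv

section
variable {α : Type*} [Fintype α] [DecidableEq α]

theorem total_types :
    Nat.card {m : types α // evenType m.1} + Nat.card {m : types α // ¬ evenType m.1} =
      (types α).card := by
  classical
  rw [← Nat.card_sum, Nat.card_congr (Equiv.sumCompl (fun m : types α => evenType m.1)),
    Nat.card_eq_fintype_card, Fintype.card_coe]

theorem exists_rep (m : types α) : ∃ σ : Perm α, σ.cycleType = m.1 := by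
  have := m.2
  unfold types at this
  rw [Finset.mem_image] at this
  obtain ⟨σ, _, hσ⟩ := this
  exact ⟨σ, hσ⟩

theorem alt_le (h2 : 2 ≤ Fintype.card α) :
    Nat.card (ConjClasses (alternatingGroup α)) ≤
      Nat.card {m : types α // evenType m.1} + Nat.card {m : types α // splitType α m.1} := by
  classical
  choose rep hrep using (exists_rep (α := α))
  obtain ⟨a, b, hab⟩ := Fintype.exists_pair_of_one_lt_card (α := α) (by omega)
  set t : Perm α := swap a b with ht
  have htodd : t ∉ alternatingGroup α := by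
    rw [Equiv.Perm.mem_alternatingGroup, ht, Equiv.Perm.sign_swap hab]
    decide
  have hrepE : ∀ m : {m : types α // evenType m.1}, rep m.1 ∈ alternatingGroup α := by
    intro m
    rw [mem_alt_iff, hrep]; exact m.2
  have hrepS : ∀ m : {m : types α // splitType α m.1},
      t * rep m.1 * t⁻¹ ∈ alternatingGroup α := by
    intro m
    rw [mem_alt_iff, Equiv.Perm.cycleType_conj, hrep]
    exact evenType_of_odd m.2.1
  let f : {m : types α // evenType m.1} ⊕ {m : types α // splitType α m.1} →
      ConjClasses (alternatingGroup α) := fun x =>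
    match x with
    | Sum.inl m => ConjClasses.mk ⟨rep m.1, hrepE m⟩
    | Sum.inr m => ConjClasses.mk ⟨t * rep m.1 * t⁻¹, hrepS m⟩
  have hf : Function.Surjective f := by
    intro C
    obtain ⟨⟨τ, hτ⟩, rfl⟩ := ConjClasses.mk_surjective C
    have hmT : τ.cycleType ∈ types α := by
      unfold types
      exact Finset.mem_image.mpr ⟨τ, Finset.mem_univ _, rfl⟩
    have hmE : evenType τ.cycleType := (mem_alt_iff τ).mp hτ
    set m : types α := ⟨τ.cycleType, hmT⟩ with hm
    set σ := rep m with hσ
    have hσt : σ.cycleType = τ.cycleType := hrep m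
    obtain ⟨g, hg⟩ := isConj_iff.mp (Equiv.Perm.isConj_iff_cycleType_eq.mpr hσt)
    -- helper: an even conjugator gives equality of classes
    have key : ∀ (x : Perm α) (hx : x ∈ alternatingGroup α) (c : Perm α),
        c ∈ alternatingGroup α → c * x * c⁻¹ = τ →
        ConjClasses.mk (⟨x, hx⟩ : alternatingGroup α) = ConjClasses.mk ⟨τ, hτ⟩ := by
      intro x hx c hc hcx
      rw [ConjClasses.mk_eq_mk_iff_isConj, isConj_iff]
      exact ⟨⟨c, hc⟩, Subtype.ext hcx⟩
    by_cases hgA : g ∈ alternatingGroup α
    · exact ⟨Sum.inl ⟨m, hmE⟩, key _ _ g hgA hg⟩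
    · by_cases hsplit : splitType α τ.cycleType
      · refine ⟨Sum.inr ⟨m, hsplit⟩, key _ _ (g * t⁻¹)
          (mul_mem_alt_of_not_mem hgA (inv_not_mem_alt htodd)) ?_⟩
        rw [← hg]
        show g * t⁻¹ * (t * σ * t⁻¹) * (g * t⁻¹)⁻¹ = g * σ * g⁻¹
        group
      · have hcen : ¬ Subgroup.centralizer {σ} ≤ alternatingGroup α := by
          rw [Equiv.Perm.centralizer_le_alternating_iff, hσt]
          exact hsplit
        rw [SetLike.not_le_iff_exists] at hcen
        obtain ⟨c, hcc, hcA⟩ := hcen
        rw [Subgroup.mem_centralizer_singleton_iff] at hcc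
        refine ⟨Sum.inl ⟨m, hmE⟩, key _ _ (g * c) (mul_mem_alt_of_not_mem hgA hcA) ?_⟩
        rw [← hg]
        calc g * c * σ * (g * c)⁻¹ = g * (c * σ) * c⁻¹ * g⁻¹ := by group
          _ = g * (σ * c) * c⁻¹ * g⁻¹ := by rw [hcc]
          _ = g * σ * g⁻¹ := by group
  have := Nat.card_le_card_of_surjective f hf
  rwa [Nat.card_sum] at this

end

end Cfsg.Agent.Lib.Lead.ClassNum
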