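import Mathlib
import Cfsg.Agent.Lib.Lead.ClassNum3

set_option autoImplicit false

namespace Cfsg.Agent.Lib.Lead.ClassNum

open Equiv

/-- reconstruction of a split type from its odd image -/
def recon2 (μ : Multiset ℕ) : Multiset ℕ :=
  μ.filter (fun x => ¬ Even x) + (μ.filter (fun x => Even x)).map (· + 1)

theorem recon2_eq {s : Multiset ℕ} (hodd : ∀ c ∈ s, Odd c) {m : ℕ} (hm : m ∈ s) :
    recon2 ((m - 1) ::ₘ s.erase m) = s := by
  unfold recon2
  have hmodd : Odd m := hodd m hm
  have hm1 : Even (m - 1) := by
    obtain ⟨k, hk⟩ := hmodd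
    exact ⟨k, by omega⟩
  have hpos : 1 ≤ m := hmodd.pos
  have e1 : ((m - 1) ::ₘ s.erase m).filter (fun x => ¬ Even x) = s.erase m := by
    rw [Multiset.filter_cons_of_neg _ (by simpa using hm1)]
    apply Multiset.filter_eq_self.mpr
    intro a ha
    exact Nat.not_even_iff_odd.mpr (hodd a (Multiset.mem_of_mem_erase ha))
  have e2 : ((m - 1) ::ₘ s.erase m).filter (fun x => Even x) = {m - 1} := by
    rw [Multiset.filter_cons_of_pos _ hm1]
    have : (s.erase m).filter (fun x => Even x) = 0 := by
      apply Multiset.filter_eq_nil.mpr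
      intro a ha
      exact Nat.not_even_iff_odd.mpr (hodd a (Multiset.mem_of_mem_erase ha))
    rw [this]; rfl
  rw [e1, e2, Multiset.map_singleton, show m - 1 + 1 = m by omega, add_comm,
    Multiset.singleton_add]
  exact Multiset.cons_erase hm

section
variable {α : Type*} [Fintype α] [DecidableEq α]

theorem split_ne_zero (h5 : 5 ≤ Fintype.card α) {m : Multiset ℕ} (hm : splitType α m) :
    m ≠ 0 := by
  intro h0
  have := hm.2.1
  rw [h0, Multiset.sum_zero] at this
  omega

theorem img_props {s : Multiset ℕ} (hsT' : s ∈ types α) (hsplit : splitType α s) {m₀ : ℕ}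
    (hm₀s : m₀ ∈ s) :
    ((m₀ - 1) ::ₘ s.erase m₀) ∈ types α ∧ ¬ evenType ((m₀ - 1) ::ₘ s.erase m₀) := by
  have hsT := mem_types.mp hsT'
  have hodd : Odd m₀ := hsplit.1 m₀ hm₀s
  have h2 : 2 ≤ m₀ := hsT.2 m₀ hm₀s
  have h3 : 3 ≤ m₀ := by
    obtain ⟨k, hk⟩ := hodd
    omega
  have hsum : (s.erase m₀).sum + m₀ = s.sum := by
    have := congrArg Multiset.sum (Multiset.cons_erase hm₀s)
    rw [Multiset.sum_cons] at this
    omega
  have hcard : Multiset.card (s.erase m₀) + 1 = Multiset.card s := by
    have := congrArg Multiset.card (Multiset.cons_erase hm₀s)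
    rw [Multiset.card_cons] at this
    exact this
  constructor
  · rw [mem_types]
    constructor
    · rw [Multiset.sum_cons]
      have := hsT.1
      omega
    · intro a ha
      rcases Multiset.mem_cons.mp ha with rfl | ha
      · omega
      · exact hsT.2 a (Multiset.mem_of_mem_erase ha)
  · have hev : evenType s := evenType_of_odd hsplit.1
    unfold evenType at hev ⊢
    rw [Multiset.sum_cons, Multiset.card_cons]
    have e : m₀ - 1 + (s.erase m₀).sum + (Multiset.card (s.erase m₀) + 1) + 1 =
        s.sum + Multiset.card s := by omega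
    intro hE
    have h1 : Odd (m₀ - 1 + (s.erase m₀).sum + (Multiset.card (s.erase m₀) + 1) + 1) :=
      hE.add_one
    rw [e] at h1
    exact (Nat.not_even_iff_odd.mpr h1) hev

theorem split_lt (h5 : 5 ≤ Fintype.card α) :
    Nat.card {m : types α // splitType α m.1} < Nat.card {m : types α // ¬ evenType m.1} := by
  classical
  rw [Nat.card_eq_fintype_card, Nat.card_eq_fintype_card]
  have himg : ∀ m : {m : types α // splitType α m.1},
      ((pick m.1.1 (split_ne_zero h5 m.2) - 1) ::ₘ m.1.1.erase (pick m.1.1 (split_ne_zero h5 m.2)))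
        ∈ types α ∧
      ¬ evenType ((pick m.1.1 (split_ne_zero h5 m.2) - 1) ::ₘ
        m.1.1.erase (pick m.1.1 (split_ne_zero h5 m.2))) :=
    fun m => img_props m.1.2 m.2 (pick_mem _ _)
  let j : {m : types α // splitType α m.1} → {m : types α // ¬ evenType m.1} := fun m =>
    ⟨⟨_, (himg m).1⟩, (himg m).2⟩
  have hj : Function.Injective j := by
    intro m m' h
    have h1 : ((j m).1.1 : Multiset ℕ) = (j m').1.1 := by rw [h]
    have e1 := recon2_eq m.2.1 (pick_mem m.1.1 (split_ne_zero h5 m.2))
    have e2 := recon2_eq m'.2.1 (pick_mem m'.1.1 (split_ne_zero h5 m'.2))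
    have h2 : m.1.1 = m'.1.1 := by
      rw [← e1, ← e2]
      exact congrArg recon2 h1
    exact Subtype.ext (Subtype.ext h2)
  have h2T : ({2} : Multiset ℕ) ∈ types α := by
    rw [mem_types]
    constructor
    · simp only [Multiset.sum_singleton]; omega
    · intro a ha
      rw [Multiset.mem_singleton] at ha
      omega
  have h2O : ¬ evenType ({2} : Multiset ℕ) := by
    unfold evenType
    simp only [Multiset.sum_singleton, Multiset.card_singleton]
    decide
  have hns : ¬ Function.Surjective j := by
    intro hsurj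
    obtain ⟨m, hm⟩ := hsurj ⟨⟨{2}, h2T⟩, h2O⟩
    have h1 : ((j m).1.1 : Multiset ℕ) = {2} := by rw [hm]
    have e1 := recon2_eq m.2.1 (pick_mem m.1.1 (split_ne_zero h5 m.2))
    have h3 : m.1.1 = recon2 {2} := by
      rw [← e1]
      exact congrArg recon2 h1
    have h4 : recon2 ({2} : Multiset ℕ) = {3} := by
      unfold recon2
      decide
    rw [h4] at h3
    have := m.2.2.1
    rw [h3] at this
    simp only [Multiset.sum_singleton] at this
    omega
  exact Fintype.card_lt_of_injective_not_surjective j hj hns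

theorem card_conjClasses_alt_lt (h5 : 5 ≤ Fintype.card α) :
    Nat.card (ConjClasses (alternatingGroup α)) < Nat.card (ConjClasses (Perm α)) := by
  have h1 := alt_le (α := α) (by omega)
  have h2 := split_lt h5
  have h3 := total_types (α := α)
  have h4 := card_types_le (α := α)
  omega

end

theorem main (n : ℕ) (hn : 5 ≤ n) :
    Nat.card (ConjClasses (alternatingGroup (Fin n))) < Nat.card (ConjClasses (Equiv.Perm (Fin n))) ∧
      Nat.card (ConjClasses (Equiv.Perm (Fin n))) ≤ 2 ^ (n - 2) := by
  constructor
  · apply card_conjClasses_alt_lt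
    rw [Fintype.card_fin]; exact hn
  · have h1 := card_conjClasses_perm_le (α := Fin n)
    rw [Fintype.card_fin] at h1
    exact h1.trans (card_partition_le n hn)

end Cfsg.Agent.Lib.Lead.ClassNum
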