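import Mathlib
import Cfsg.Agent.Lib.Lead.AbelianSylow
import Cfsg.Agent.Lib.Lead.ThompsonTransfer
import Cfsg.Agent.Lib.Lead.TateA
import Cfsg.Agent.Lib.Lead.NormalRankTwoB
import Cfsg.Agent.Lib.Lead.Coprime
import Cfsg.Agent.Lib.Lead.HallTools

set_option autoImplicit false
open Pointwise
open scoped IsMulCommutative

namespace Cfsg.Agent.Lib.Lead

universe u

section
variable {G : Type u} [Group G] [Finite G]

/-- a group with no subgroup of index `p` equals its `p`-residual -/
theorem pResidual_eq_top_of_no_index (p : ℕ) [hp : Fact p.Prime]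
    (hG : ∀ H : Subgroup G, H.index ≠ p) : Cfsg.pResidual p G = ⊤ := by
  classical
  by_contra hne
  haveI hKn : (Cfsg.pResidual p G).Normal := pResidual_normal p
  set K := Cfsg.pResidual p G with hK
  obtain ⟨k, hk⟩ := pResidual_index (G := G) p
  have hQ : IsPGroup p (G ⧸ K) := by
    apply IsPGroup.of_card (n := k)
    rw [← Subgroup.index_eq_card, hk]
  have htop : (⊤ : Subgroup (G ⧸ K)) ≠ ⊥ := by
    intro h0
    apply hne
    have h1 : Nat.card (G ⧸ K) = 1 := by
      rw [← Subgroup.card_top (G := G ⧸ K), h0, Subgroup.card_bot]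
    rw [← Subgroup.index_eq_card] at h1
    exact Subgroup.index_eq_one.mp h1
  obtain ⟨M, hMn, -, hMidx⟩ := exists_normal_le_relIndex_p (p := p) hQ (⊤ : Subgroup (G ⧸ K)) htop
  rw [Subgroup.relIndex_top_right] at hMidx
  apply hG (M.comap (QuotientGroup.mk' K))
  rw [Subgroup.index_comap_of_surjective _ (QuotientGroup.mk'_surjective K)]
  exact hMidx

/-- the norm argument: with `O^2(G) = G` and abelian Sylow `2`-subgroup `S`, every element of an
`N_G(S)`-invariant subgroup `V ≤ S` is `N_G(S)`-conjugate into any given subgroup of index `2`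
in `V`. -/
theorem exists_conj_mem_of_index_two (S : Sylow 2 G) (hS : IsMulCommutative (S : Subgroup G))
    (hres : Cfsg.pResidual 2 G = ⊤) (V W : Subgroup G) (hVS : V ≤ S)
    (hidx : W.relIndex V = 2)
    (hNV : Subgroup.normalizer ((S : Subgroup G) : Set G) ≤ Subgroup.normalizer (V : Set G))
    (t : G) (htV : t ∈ V) :
    ∃ n ∈ Subgroup.normalizer ((S : Subgroup G) : Set G), n * t * n⁻¹ ∈ W := by
  classical
  haveI : Fact (Nat.Prime 2) := ⟨Nat.prime_two⟩
  by_contra hcon
  push Not at hcon
  set N := Subgroup.normalizer ((S : Subgroup G) : Set G) with hN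
  have hSN : (S : Subgroup G) ≤ N := Subgroup.le_normalizer
  -- the complement
  set S' : Subgroup N := (S : Subgroup G).subgroupOf N with hS'
  haveI hS'n : S'.Normal := Subgroup.normal_in_normalizer
  have hS'card : Nat.card S' = Nat.card (S : Subgroup G) := by
    have h1 : S'.map N.subtype = (S : Subgroup G) := by
      rw [hS', Subgroup.map_subgroupOf_eq_of_le hSN]
    rw [← h1, Subgroup.card_map_of_injective N.subtype_injective]
  have hS'idx : Odd S'.index := by
    have h1 : S'.index = (S : Subgroup G).relIndex N := rfl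
    have h2 : (S : Subgroup G).relIndex N ∣ (S : Subgroup G).index :=
      Subgroup.relIndex_dvd_index_of_le hSN
    rw [← Nat.not_even_iff_odd, even_iff_two_dvd, h1]
    intro h3
    exact S.not_dvd_index (h3.trans h2)
  have hcop : Nat.Coprime (Nat.card S') S'.index := by
    obtain ⟨k, hk⟩ := IsPGroup.iff_card.mp S.isPGroup'
    rw [hS'card, hk]
    apply Nat.Coprime.pow_left
    rw [Nat.Prime.coprime_iff_not_dvd Nat.prime_two]
    rw [← even_iff_two_dvd, Nat.not_even_iff_odd]
    exact hS'idx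
  obtain ⟨A', hA'⟩ := Subgroup.exists_right_complement'_of_coprime hcop
  set A : Subgroup G := A'.map N.subtype with hA
  have hAN : A ≤ N := Subgroup.map_subtype_le A'
  have hAcard : Nat.card A = S'.index := by
    rw [hA, Subgroup.card_map_of_injective N.subtype_injective]
    have h1 := hA'.card_mul_card
    have h2 := Subgroup.card_mul_index S'
    have h3 : 0 < Nat.card S' := Nat.card_pos
    exact Nat.eq_of_mul_eq_mul_left h3 (h1.trans h2.symm)
  have hsup : (S : Subgroup G) ⊔ A = N := by
    have h1 : S' ⊔ A' = ⊤ := hA'.sup_eq_top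
    have h2 := congrArg (Subgroup.map N.subtype) h1
    rw [Subgroup.map_sup, hS', Subgroup.map_subgroupOf_eq_of_le hSN, ← hA] at h2
    rw [h2, ← MonoidHom.range_eq_map, Subgroup.range_subtype]
  have hAV : A ≤ Subgroup.normalizer (V : Set G) := hAN.trans hNV
  haveI : Fintype A := Fintype.ofFinite A
  have hcommS : ∀ a ∈ (S : Subgroup G), ∀ b ∈ (S : Subgroup G), a * b = b * a := by
    intro a ha b hb
    have := hS.is_comm.comm (⟨a, ha⟩ : (S : Subgroup G)) ⟨b, hb⟩
    exact congrArg Subtype.val this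
  haveI hVc : IsMulCommutative V :=
    ⟨⟨fun a b => Subtype.ext (hcommS a (hVS a.2) b (hVS b.2))⟩⟩
  set z : V := avg A V hAV ⟨t, htV⟩ with hz
  -- z is central in N
  have hzA : (z : G) ∈ Subgroup.centralizer (A : Set G) := avg_mem_centralizer A V hAV _
  have hzN : (z : G) ∈ Subgroup.centralizer (N : Set G) := by
    have hle : N ≤ Subgroup.centralizer ({(z : G)} : Set G) := by
      rw [← hsup]
      apply sup_le
      · intro s hs
        rw [Subgroup.mem_centralizer_iff]
        intro y hy
        rw [Set.mem_singleton_iff] at hy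
        rw [hy]
        exact hcommS _ (hVS z.2) s hs
      · intro a ha
        rw [Subgroup.mem_centralizer_iff]
        intro y hy
        rw [Set.mem_singleton_iff] at hy
        rw [hy]
        exact (Subgroup.mem_centralizer_iff.mp hzA a ha).symm
    rw [Subgroup.mem_centralizer_iff]
    intro n hn
    exact (Subgroup.mem_centralizer_iff.mp (hle hn) _ (Set.mem_singleton _)).symm
  have hz1 : (z : G) = 1 := by
    haveI := hS
    apply eq_one_of_mem_pResidual_of_central S (z : G) (hVS z.2) hzN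
    rw [hres]; trivial
  -- but the sign of z is -1
  set lam : V →* ℤˣ := signOfIndexTwo V W hidx with hlam
  have hlamz : lam z = -1 := by
    rw [hz, avg_apply, map_prod]
    have h1 : ∀ a : A, lam (conjHom V a (hAV a.2) ⟨t, htV⟩) = -1 := by
      intro a
      rw [hlam, signOfIndexTwo_apply, if_neg]
      exact hcon a (hAN a.2)
    rw [Finset.prod_congr rfl (fun a _ => h1 a), Finset.prod_const, Finset.card_univ,
      ← Nat.card_eq_fintype_card, hAcard]
    exact hS'idx.neg_one_pow
  have hz1' : z = 1 := Subtype.ext hz1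
  rw [hz1', map_one] at hlamz
  exact absurd hlamz (by decide)

theorem thompson_corank_one (hG : ∀ H : Subgroup G, H.index ≠ 2) (S : Sylow 2 G)
    (hS : IsMulCommutative (S : Subgroup G)) (r : ℕ) (hr1 : 1 ≤ r)
    (hSr : Cfsg.PRankLE 2 r (S : Subgroup G) ∧ ¬ Cfsg.PRankLE 2 (r - 1) (S : Subgroup G))
    (R : Subgroup G) (hRS : R ≤ S)
    (hRr : Cfsg.PRankLE 2 (r - 1) R ∧ (r = 1 ∨ ¬ Cfsg.PRankLE 2 (r - 2) R)) (t : G)
    (ht : orderOf t = 2) (htS : t ∈ (S : Subgroup G)) :
    ∃ n ∈ Subgroup.normalizer ((S : Subgroup G) : Set G), n * t * n⁻¹ ∈ R := by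
  classical
  haveI : Fact (Nat.Prime 2) := ⟨Nat.prime_two⟩
  have hres := pResidual_eq_top_of_no_index 2 hG
  have hcommS : ∀ a ∈ (S : Subgroup G), ∀ b ∈ (S : Subgroup G), a * b = b * a := by
    intro a ha b hb
    have := hS.is_comm.comm (⟨a, ha⟩ : (S : Subgroup G)) ⟨b, hb⟩
    exact congrArg Subtype.val this
  -- V = Ω₁(S)
  let V : Subgroup G :=
    { carrier := {x | x ∈ (S : Subgroup G) ∧ x ^ 2 = 1}
      one_mem' := ⟨Subgroup.one_mem _, one_pow 2⟩
      mul_mem' := by
        rintro a b ⟨ha, ha'⟩ ⟨hb, hb'⟩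
        refine ⟨Subgroup.mul_mem _ ha hb, ?_⟩
        have hc : Commute a b := hcommS a ha b hb
        rw [hc.mul_pow, ha', hb', one_mul]
      inv_mem' := by
        rintro a ⟨ha, ha'⟩
        exact ⟨Subgroup.inv_mem _ ha, by rw [inv_pow, ha', inv_one]⟩ }
  have hV_mem : ∀ x, x ∈ V ↔ x ∈ (S : Subgroup G) ∧ x ^ 2 = 1 := fun x => Iff.rfl
  have hVS : V ≤ (S : Subgroup G) := fun x hx => hx.1
  set W : Subgroup G := V ⊓ R with hW
  have hWV : W ≤ V := inf_le_left
  have hVp : IsPGroup 2 V := S.isPGroup'.to_le hVS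
  have hWp : IsPGroup 2 W := hVp.to_le hWV
  obtain ⟨v, hv⟩ := IsPGroup.iff_card.mp hVp
  obtain ⟨w, hw⟩ := IsPGroup.iff_card.mp hWp
  -- |V| = 2^r
  have hv_le : v ≤ r := by
    have h1 := hSr.1 (V.subgroupOf (S : Subgroup G))
      ⟨⟨fun a b => Subtype.ext (Subtype.ext (hcommS _ a.1.2 _ b.1.2))⟩⟩
      (by
        intro a ha
        apply Subtype.ext
        exact ha.2)
    rw [card_subgroupOf_of_le hVS, hv] at h1
    exact (Nat.pow_le_pow_iff_right (by norm_num)).mp h1
  have hv_ge : r ≤ v := by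
    have h1 := hSr.2
    unfold Cfsg.PRankLE at h1
    push Not at h1
    obtain ⟨A, hAc, hAe, hAcard⟩ := h1
    have hle : A.map (S : Subgroup G).subtype ≤ V := by
      rintro _ ⟨a, ha, rfl⟩
      exact ⟨a.2, by have := congrArg Subtype.val (hAe a ha); simpa using this⟩
    have h2 := Subgroup.card_le_of_le hle
    rw [Subgroup.card_map_of_injective (Subgroup.subtype_injective _), hv] at h2
    have h3 : 2 ^ (r - 1) < 2 ^ v := lt_of_lt_of_le hAcard h2
    have := (Nat.pow_lt_pow_iff_right (by norm_num : 1 < 2)).mp h3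
    omega
  have hvr : v = r := le_antisymm hv_le hv_ge
  -- |W| = 2^(r-1)
  have hWR : W ≤ R := inf_le_right
  have hw_le : w ≤ r - 1 := by
    have h1 := hRr.1 (W.subgroupOf R)
      ⟨⟨fun a b => Subtype.ext (Subtype.ext (hcommS _ (hRS a.1.2) _ (hRS b.1.2)))⟩⟩
      (by
        intro a ha
        apply Subtype.ext
        exact ha.1.2)
    rw [card_subgroupOf_of_le hWR, hw] at h1
    exact (Nat.pow_le_pow_iff_right (by norm_num)).mp h1
  have hw_ge : r - 1 ≤ w := by
    rcases hRr.2 with h1 | h1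
    · omega
    · unfold Cfsg.PRankLE at h1
      push Not at h1
      obtain ⟨A, hAc, hAe, hAcard⟩ := h1
      have hle : A.map R.subtype ≤ W := by
        rintro _ ⟨a, ha, rfl⟩
        refine ⟨⟨hRS a.2, ?_⟩, a.2⟩
        have := congrArg Subtype.val (hAe a ha)
        simpa using this
      have h2 := Subgroup.card_le_of_le hle
      rw [Subgroup.card_map_of_injective (Subgroup.subtype_injective _), hw] at h2
      have h3 : 2 ^ (r - 2) < 2 ^ w := lt_of_lt_of_le hAcard h2
      have := (Nat.pow_lt_pow_iff_right (by norm_num : 1 < 2)).mp h3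
      omega
  have hwr : w = r - 1 := le_antisymm hw_le hw_ge
  have hidx : W.relIndex V = 2 := by
    have h0 := Subgroup.relIndex_mul_relIndex (⊥ : Subgroup G) W V bot_le hWV
    rw [Subgroup.relIndex_bot_left, Subgroup.relIndex_bot_left, hw, hv, hvr, hwr] at h0
    have h1 : 2 ^ r = 2 ^ (r - 1) * 2 := by
      have : r = (r - 1) + 1 := by omega
      conv_lhs => rw [this, pow_succ]
    rw [h1] at h0
    exact Nat.eq_of_mul_eq_mul_left (by positivity) h0
  have hNV : Subgroup.normalizer ((S : Subgroup G) : Set G) ≤ Subgroup.normalizer (V : Set G) := by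
    have hconj : ∀ n ∈ Subgroup.normalizer ((S : Subgroup G) : Set G), ∀ x ∈ V,
        n * x * n⁻¹ ∈ V := by
      intro n hn x hx
      refine ⟨(Subgroup.mem_normalizer_iff.mp hn x).mp hx.1, ?_⟩
      rw [conj_pow, hx.2, mul_one, mul_inv_cancel]
    intro n hn
    rw [Subgroup.mem_normalizer_iff]
    intro x
    constructor
    · exact hconj n hn x
    · intro hx
      have h1 := hconj n⁻¹ (Subgroup.inv_mem _ hn) _ hx
      have h2 : n⁻¹ * (n * x * n⁻¹) * n⁻¹⁻¹ = x := by group
      rw [h2] at h1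
      exact h1
  have htV : t ∈ V := ⟨htS, by rw [← ht]; exact pow_orderOf_eq_one t⟩
  obtain ⟨n, hn, hnt⟩ := exists_conj_mem_of_index_two S hS hres V W hVS hidx hNV t htV
  exact ⟨n, hn, hWR hnt⟩

end

end Cfsg.Agent.Lib.Lead
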