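import Mathlib
import Cfsg.Agent.Lib.Helper4.SolvBalance
import Cfsg.Agent.Lib.Helper4.HallHigman
import Cfsg.Agent.Lib.Helper7.PSolvable

set_option autoImplicit false
open Pointwise

namespace Cfsg.Agent.Lib.Lead.PSolvBalance

open Cfsg Cfsg.Agent.Lib.Lead Cfsg.Agent.Lib.Helper6 Cfsg.Agent.Lib.Helper4

/-- `p`-solvable `L_{p'}`-balance: in a finite `p`-solvable group `H`, a `p'`-subgroup `D` of `C_H(x)` normalized
by `C_H(x)`, where `x` is a `p`-element, lies in `O_{p'}(H)`. -/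
theorem psolvable_pprime_le {H : Type*} [Group H] [Finite H] (p : ℕ) [Fact p.Prime]
    (hH : Cfsg.IsPSolvable p H) (x : H) (hx : IsPGroup p (Subgroup.zpowers x)) (D : Subgroup H) (hDcop : (Nat.card D).Coprime p)
    (hDx : D ≤ Subgroup.centralizer ({x} : Set H))
    (hDn : Subgroup.centralizer ({x} : Set H) ≤ Subgroup.normalizer (D : Set H)) :
    D ≤ pPrimeCore p H := by
  set K := pPrimeCore p H with hK
  have hKcop : (Nat.card K).Coprime p := pPrimeCore_coprime p
  set π := QuotientGroup.mk' K with hπ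
  set V := pCore p (H ⧸ K) with hV
  have hVn : V.Normal := inferInstance
  have hVp : IsPGroup p V := pCore_isPGroup p
  set P := (Subgroup.zpowers x).map π with hP
  set Q := D.map π with hQ
  have hPp : IsPGroup p P := hx.map π
  have hQcop : (Nat.card Q).Coprime p :=
    Nat.Coprime.coprime_dvd_left (Subgroup.card_map_dvd D π) hDcop
  have hPQ : P ≤ Subgroup.centralizer (Q : Set (H ⧸ K)) := by
    rintro _ ⟨y, hy, rfl⟩
    rw [Subgroup.mem_centralizer_iff]
    rintro _ ⟨d, hd, rfl⟩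
    obtain ⟨i, rfl⟩ := Subgroup.mem_zpowers_iff.mp hy
    have h1 : d * x = x * d := by
      have := Subgroup.mem_centralizer_iff.mp (hDx hd) x rfl
      exact this.symm
    have h2 : d * x ^ i = x ^ i * d := (Commute.zpow_right h1 i).eq
    rw [← map_mul, ← map_mul, h2]
  have hPU : P ≤ Subgroup.normalizer (V : Set (H ⧸ K)) := by
    rw [Subgroup.normalizer_eq_top]; exact le_top
  have hQU : Q ≤ Subgroup.normalizer (V : Set (H ⧸ K)) := by
    rw [Subgroup.normalizer_eq_top]; exact le_top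
  have hVQ : V ⊓ Q = ⊥ := isPGroup_inf_coprime_eq_bot hQcop hVp
  have hC : V ⊓ Subgroup.centralizer (P : Set (H ⧸ K)) ≤ Subgroup.centralizer (Q : Set (H ⧸ K)) := by
    rintro vb ⟨hvV, hvP⟩
    obtain ⟨v, rfl⟩ := QuotientGroup.mk'_surjective K vb
    have hvx : v * x * v⁻¹ * x⁻¹ ∈ K := by
      have h1 : π x * π v = π v * π x :=
        Subgroup.mem_centralizer_iff.mp hvP (π x) ⟨x, Subgroup.mem_zpowers x, rfl⟩
      rw [← QuotientGroup.eq_one_iff]
      change π (v * x * v⁻¹ * x⁻¹) = 1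
      rw [map_mul, map_mul, map_mul, ← h1, map_inv, map_inv]
      group
    obtain ⟨k, hkK, hk⟩ := exists_fixed_lift p K hKcop x hx v hvx
    have hπkv : π (k * v) = π v := by
      rw [map_mul]
      have : π k = 1 := (QuotientGroup.eq_one_iff k).mpr hkK
      rw [this, one_mul]
    have hcx : k * v ∈ Subgroup.centralizer ({x} : Set H) := by
      rw [Subgroup.mem_centralizer_iff]
      intro y hy
      rw [Set.mem_singleton_iff] at hy
      rw [hy]; exact hk.symm
    rw [Subgroup.mem_centralizer_iff]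
    rintro _ ⟨d, hd, rfl⟩
    have h1 : (k * v) * d * (k * v)⁻¹ ∈ D :=
      (Subgroup.mem_normalizer_iff.mp (hDn hcx) d).mp hd
    have h2 : (k * v) * d * (k * v)⁻¹ * d⁻¹ ∈ D := D.mul_mem h1 (D.inv_mem hd)
    have h3 : π ((k * v) * d * (k * v)⁻¹ * d⁻¹) ∈ Q := ⟨_, h2, rfl⟩
    have h4 : π ((k * v) * d * (k * v)⁻¹ * d⁻¹) ∈ V := by
      have e : π ((k * v) * d * (k * v)⁻¹ * d⁻¹) = π v * (π d * (π v)⁻¹ * (π d)⁻¹) := by
        rw [map_mul, map_mul, map_mul, map_inv, map_inv, hπkv]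
        group
      rw [e]
      exact V.mul_mem hvV (hVn.conj_mem _ (V.inv_mem hvV) _)
    have h5 : π ((k * v) * d * (k * v)⁻¹ * d⁻¹) ∈ V ⊓ Q := ⟨h4, h3⟩
    rw [hVQ, Subgroup.mem_bot, map_mul, map_mul, map_mul, map_inv, map_inv, hπkv] at h5
    calc π d * π v = (π v * π d * (π v)⁻¹ * (π d)⁻¹)⁻¹ * (π v * π d) := by group
      _ = π v * π d := by rw [h5, inv_one, one_mul]
  have hQV : Q ≤ Subgroup.centralizer (V : Set (H ⧸ K)) :=
    thompson_PQ p P Q V hPp hQcop hVp hPQ hPU hQU hC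
  have hbot : pPrimeCore p (H ⧸ K) = ⊥ := pPrimeCore_quotient_self p
  have hQV' : Q ≤ V := hQV.trans (Cfsg.Agent.Lib.Helper4.centralizer_pCore_le_of_isPSolvable
      (Cfsg.Agent.Lib.Helper7.isPSolvable_quotient hH K) hbot)
  have hQbot : Q = ⊥ := by
    have : Q = V ⊓ Q := (inf_eq_right.mpr hQV').symm
    rw [this, hVQ]
  intro d hd
  have : π d ∈ Q := ⟨d, hd, rfl⟩
  rw [hQbot, Subgroup.mem_bot] at this
  exact (QuotientGroup.eq_one_iff d).mp this



end Cfsg.Agent.Lib.Lead.PSolvBalance
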