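import Mathlib
import Cfsg.Agent.Lib.Lead.SolvPSolv
import Cfsg.Agent.Lib.Lead.OddStable2
import Cfsg.Agent.Lib.Helper7.PSolvable
import Cfsg.Agent.Lib.Helper2.SL2PSolv
import Cfsg.Agent.Lib.Helper3.PComp1
import Cfsg.Agent.Lib.Helper6.PCore
import Cfsg.Agent.Lib.Helper6.PPrimeCore

set_option autoImplicit false

/-!
# Extensions of `p`-solvable groups are `p`-solvable
-/

namespace Cfsg.Agent.Lib.Lead.PSolvExt

open Cfsg

universe u

/-- a nontrivial normal `p`-solvable subgroup contains a nontrivial subgroup normal in the whole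
group which is a `p`-group or a `p'`-group -/
theorem exists_normal_le {G : Type u} [Group G] [Finite G] {p : ℕ} [hp : Fact p.Prime]
    (N : Subgroup G) [hN : N.Normal] (hNb : N ≠ ⊥) (hNs : IsPSolvable p ↥N) :
    ∃ R : Subgroup G, R.Normal ∧ R ≠ ⊥ ∧ R ≤ N ∧
      ((∃ m : ℕ, Nat.card R = p ^ m) ∨ (Nat.card R).Coprime p) := by
  haveI : Nontrivial ↥N := (Subgroup.nontrivial_iff_ne_bot N).mpr hNb
  obtain ⟨M, hMn, hMb, hM⟩ := Cfsg.Agent.Lib.Helper7.exists_normal_of_isPSolvable hNs
  rcases hM with ⟨m, hm⟩ | hc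
  · -- `p`-group case
    have hMle : M ≤ pCore p ↥N :=
      Cfsg.Agent.Lib.Helper6.le_pCore hMn (IsPGroup.of_card hm)
    have hRb : pCore p ↥N ≠ ⊥ := fun h => hMb (le_bot_iff.mp (h ▸ hMle))
    have : (pCore p ↥N).Characteristic := Cfsg.Agent.Lib.Lead.OddStable.pCore_characteristic' p
    refine ⟨(pCore p ↥N).map N.subtype, ConjAct.normal_of_characteristic_of_normal, ?_,
      Subgroup.map_subtype_le _, Or.inl ?_⟩
    · intro h
      exact hRb ((Subgroup.map_eq_bot_iff_of_injective _ N.subtype_injective).mp h)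
    · obtain ⟨k, hk⟩ := (IsPGroup.iff_card).mp (Cfsg.Agent.Lib.Helper6.pCore_isPGroup (G := ↥N) p)
      refine ⟨k, ?_⟩
      rw [← hk]
      exact Nat.card_congr
        (Subgroup.equivMapOfInjective _ N.subtype N.subtype_injective).symm.toEquiv
  · -- `p'`-group case
    have hMle : M ≤ pPrimeCore p ↥N := Cfsg.Agent.Lib.Helper6.le_pPrimeCore hMn hc
    have hRb : pPrimeCore p ↥N ≠ ⊥ := fun h => hMb (le_bot_iff.mp (h ▸ hMle))
    have : (pPrimeCore p ↥N).Characteristic := Cfsg.Agent.Lib.Helper3.pPrimeCore_characteristic p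
    refine ⟨(pPrimeCore p ↥N).map N.subtype, ConjAct.normal_of_characteristic_of_normal, ?_,
      Subgroup.map_subtype_le _, Or.inr ?_⟩
    · intro h
      exact hRb ((Subgroup.map_eq_bot_iff_of_injective _ N.subtype_injective).mp h)
    · rw [Nat.card_congr
        (Subgroup.equivMapOfInjective _ N.subtype N.subtype_injective).symm.toEquiv]
      exact Cfsg.Agent.Lib.Helper6.pPrimeCore_coprime p

theorem isPSolvable_ext_aux (p : ℕ) [hp : Fact p.Prime] :
    ∀ (n : ℕ) (G : Type u) [Group G] [Finite G], Nat.card G = n →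
      ∀ (N : Subgroup G) [N.Normal], IsPSolvable p ↥N → IsPSolvable p (G ⧸ N) →
        IsPSolvable p G := by
  intro n
  induction n using Nat.strong_induction_on with
  | _ n ih =>
  intro G _ _ hn N hNn hNs hQ
  by_cases hNb : N = ⊥
  · subst hNb
    exact Cfsg.Agent.Lib.Helper2.SL2Sections.isPSolvable_of_surj
      (QuotientGroup.quotientBot (G := G)).toMonoidHom
      (QuotientGroup.quotientBot (G := G)).surjective hQ
  · obtain ⟨R, hRn, hRb, hRN, hRc⟩ := exists_normal_le N hNb hNs
    have := hRn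
    have hcard : Nat.card (G ⧸ R) < n := by
      rw [← hn, ← Subgroup.index_eq_card R]
      have h1 := Subgroup.index_mul_card R
      have h2 : 1 < Nat.card R := (Subgroup.one_lt_card_iff_ne_bot R).mpr hRb
      have h3 : 0 < R.index := Nat.pos_of_ne_zero Subgroup.index_ne_zero_of_finite
      nlinarith
    have hN'n : (N.map (QuotientGroup.mk' R)).Normal :=
      hNn.map _ (QuotientGroup.mk'_surjective R)
    have hN's : IsPSolvable p ↥(N.map (QuotientGroup.mk' R)) :=
      Cfsg.Agent.Lib.Helper2.SL2Sections.isPSolvable_of_surj ((QuotientGroup.mk' R).subgroupMap N)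
        ((QuotientGroup.mk' R).subgroupMap_surjective N) hNs
    have hQ' : IsPSolvable p ((G ⧸ R) ⧸ N.map (QuotientGroup.mk' R)) :=
      Cfsg.Agent.Lib.Helper2.SL2Sections.isPSolvable_of_surj
        (QuotientGroup.quotientQuotientEquivQuotient R N hRN).symm.toMonoidHom
        (QuotientGroup.quotientQuotientEquivQuotient R N hRN).symm.surjective hQ
    have := ih _ hcard (G ⧸ R) rfl (N.map (QuotientGroup.mk' R)) hN's hQ'
    exact Cfsg.Agent.Lib.Lead.SolvPSolv.isPSolvable_of_quotient R hRc this

/-- **Extensions of `p`-solvable groups are `p`-solvable.** -/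
theorem isPSolvable_ext {G : Type u} [Group G] [Finite G] (p : ℕ) [Fact p.Prime]
    (N : Subgroup G) [N.Normal] (hN : IsPSolvable p ↥N) (hQ : IsPSolvable p (G ⧸ N)) :
    IsPSolvable p G :=
  isPSolvable_ext_aux p _ G rfl N hN hQ

/-- a group of order prime to `p` is `p`-solvable -/
theorem isPSolvable_of_coprime {G : Type u} [Group G] (p : ℕ)
    (h : (Nat.card G).Coprime p) : IsPSolvable p G := by
  refine ⟨1, fun i => if i = 0 then ⊥ else ⊤, by simp, by simp, ?_, ?_, ?_⟩
  · intro i j hij
    by_cases hi : i = 0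
    · simp [hi]
    · have hj : j ≠ 0 := by
        intro hj
        apply hi
        rw [hj] at hij
        exact le_antisymm hij (Fin.zero_le _)
      simp [hi, hj]
  · intro i
    by_cases hi : i = 0
    · simp only [hi, if_true]; infer_instance
    · simp only [hi, if_false]; infer_instance
  · intro i
    right
    have hi : i = 0 := Subsingleton.elim _ _
    subst hi
    simp only [Fin.castSucc_zero, if_true, Fin.succ_zero_eq_one]
    have : (1 : Fin 2) ≠ 0 := by decide
    rw [if_neg this, Subgroup.relIndex_top_right, Subgroup.index_bot]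
    exact h

end Cfsg.Agent.Lib.Lead.PSolvExt
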