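import Mathlib
import Cfsg.Agent.Lib.Lead.PSolvBalance
import Cfsg.Agent.Lib.Lead.PSolvExt
import Cfsg.Agent.Lib.Lead.CoprimeAction2
import Cfsg.Agent.Lib.Lead.Subnormalizer1

set_option autoImplicit false

/-!
# Core control for coprime operator groups (Flavell-type lemma)
-/

namespace Cfsg.Agent.Lib.Lead.CoreControl

open Cfsg
open scoped Pointwise

universe u

variable {G : Type u} [Group G]

/-- `O_{q'}(Y)` as a subgroup of the ambient group -/
def ppc (q : ℕ) (Y : Subgroup G) : Subgroup G := (pPrimeCore q ↥Y).map Y.subtype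

theorem ppc_le (q : ℕ) (Y : Subgroup G) : ppc q Y ≤ Y := Subgroup.map_subtype_le _

theorem ppc_coprime [Finite G] (q : ℕ) (Y : Subgroup G) : (Nat.card (ppc q Y)).Coprime q := by
  unfold ppc
  rw [Nat.card_congr (Subgroup.equivMapOfInjective _ Y.subtype Y.subtype_injective).symm.toEquiv]
  exact Cfsg.Agent.Lib.Helper6.pPrimeCore_coprime q

theorem normalizer_le_normalizer_ppc (q : ℕ) (Y : Subgroup G) :
    Subgroup.normalizer (Y : Set G) ≤ Subgroup.normalizer (ppc q Y : Set G) := by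
  apply Cfsg.Agent.Lib.Helper6.normalizer_le_normalizer_of_characteristic (ppc_le q Y)
  have : (ppc q Y).subgroupOf Y = pPrimeCore q ↥Y := by
    unfold ppc
    exact Subgroup.comap_map_eq_self_of_injective Y.subtype_injective _
  rw [this]
  exact Cfsg.Agent.Lib.Helper3.pPrimeCore_characteristic q

theorem le_ppc [Finite G] (q : ℕ) {B Y : Subgroup G} (hBY : B ≤ Y) (hB : (Nat.card B).Coprime q)
    (hn : Y ≤ Subgroup.normalizer (B : Set G)) : B ≤ ppc q Y := by
  have hnorm : (B.subgroupOf Y).Normal :=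
    (Subgroup.normal_subgroupOf_iff_le_normalizer hBY).mpr hn
  have hc : (Nat.card (B.subgroupOf Y)).Coprime q := by
    rw [Nat.card_congr (Subgroup.subgroupOfEquivOfLe hBY).toEquiv]; exact hB
  have h1 := Cfsg.Agent.Lib.Helper6.le_pPrimeCore hnorm hc
  have h2 := Subgroup.map_mono (f := Y.subtype) h1
  rwa [Subgroup.map_subgroupOf_eq_of_le hBY] at h2

theorem normalizer_inf_normalizer_le_sup (A B : Subgroup G) :
    Subgroup.normalizer (A : Set G) ⊓ Subgroup.normalizer (B : Set G) ≤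
      Subgroup.normalizer ((A ⊔ B : Subgroup G) : Set G) := by
  apply Cfsg.Agent.Lib.Lead.Subnormalizer.le_normalizer_of_forall_conj_mem
  intro y hy b hb
  have hle : A ⊔ B ≤ (A ⊔ B).comap (MulAut.conj y).toMonoidHom := by
    apply sup_le
    · intro a ha
      rw [Subgroup.mem_comap]
      exact (le_sup_left : A ≤ A ⊔ B) ((Subgroup.mem_normalizer_iff.mp hy.1 a).mp ha)
    · intro a ha
      rw [Subgroup.mem_comap]
      exact (le_sup_right : B ≤ A ⊔ B) ((Subgroup.mem_normalizer_iff.mp hy.2 a).mp ha)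
  exact hle hb

theorem normalizer_inf_normalizer_le_inf (A B : Subgroup G) :
    Subgroup.normalizer (A : Set G) ⊓ Subgroup.normalizer (B : Set G) ≤
      Subgroup.normalizer ((A ⊓ B : Subgroup G) : Set G) := by
  intro y hy
  rw [Subgroup.mem_normalizer_iff]
  intro h
  rw [Subgroup.mem_inf, Subgroup.mem_inf, ← Subgroup.mem_normalizer_iff.mp hy.1 h,
    ← Subgroup.mem_normalizer_iff.mp hy.2 h]

theorem ppc_mono_normal [Finite G] (q : ℕ) {L Y : Subgroup G} (hLY : L ≤ Y)
    (hn : Y ≤ Subgroup.normalizer (L : Set G)) : ppc q L ≤ ppc q Y :=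
  le_ppc q ((ppc_le q L).trans hLY) (ppc_coprime q L)
    (hn.trans (normalizer_le_normalizer_ppc q L))

theorem ppc_inf_le [Finite G] (q : ℕ) {L M : Subgroup G} (hLM : L ≤ M)
    (hn : M ≤ Subgroup.normalizer (L : Set G)) : ppc q M ⊓ L ≤ ppc q L := by
  apply le_ppc q inf_le_right
  · exact Nat.Coprime.coprime_dvd_left (Subgroup.card_dvd_of_le inf_le_left) (ppc_coprime q M)
  · refine le_trans (le_inf ?_ ?_) (normalizer_inf_normalizer_le_inf (ppc q M) L)
    · exact hLM.trans (Subgroup.le_normalizer.trans (normalizer_le_normalizer_ppc q M))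
    · exact Subgroup.le_normalizer

theorem isPSolvable_sup [Finite G] (q : ℕ) [Fact q.Prime] (K X : Subgroup G)
    (hX : X ≤ Subgroup.normalizer (K : Set G)) (hK : IsPSolvable q ↥K)
    (hX' : IsPSolvable q ↥X) : IsPSolvable q ↥(K ⊔ X) := by
  have hKY : K ≤ K ⊔ X := le_sup_left
  have hYn : K ⊔ X ≤ Subgroup.normalizer (K : Set G) := sup_le Subgroup.le_normalizer hX
  have hnorm : (K.subgroupOf (K ⊔ X)).Normal :=
    (Subgroup.normal_subgroupOf_iff_le_normalizer hKY).mpr hYn
  apply Cfsg.Agent.Lib.Lead.PSolvExt.isPSolvable_ext q (K.subgroupOf (K ⊔ X))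
  · exact Cfsg.Agent.Lib.Helper2.SL2Sections.isPSolvable_of_surj
      (Subgroup.subgroupOfEquivOfLe hKY).symm.toMonoidHom
      (Subgroup.subgroupOfEquivOfLe hKY).symm.surjective hK
  · let φ : ↥X →* ↥(K ⊔ X) ⧸ K.subgroupOf (K ⊔ X) :=
      (QuotientGroup.mk' _).comp (Subgroup.inclusion le_sup_right)
    apply Cfsg.Agent.Lib.Helper2.SL2Sections.isPSolvable_of_surj φ _ hX'
    intro y
    obtain ⟨⟨y, hy⟩, rfl⟩ := QuotientGroup.mk'_surjective _ y
    have hy' : y ∈ (K : Set G) * X := by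
      rw [← Subgroup.coe_mul_of_right_le_normalizer_left K X hX]; exact hy
    obtain ⟨k, hk, x, hx, rfl⟩ := Set.mem_mul.mp hy'
    refine ⟨⟨x, hx⟩, ?_⟩
    change QuotientGroup.mk' _ _ = QuotientGroup.mk' _ _
    rw [QuotientGroup.mk'_eq_mk']
    refine ⟨⟨x⁻¹ * k * x, ?_⟩, ?_, ?_⟩
    · exact (le_sup_left : K ≤ K ⊔ X) ((Subgroup.mem_normalizer_iff''.mp (hX hx) k).mp hk)
    · rw [Subgroup.mem_subgroupOf]
      exact (Subgroup.mem_normalizer_iff''.mp (hX hx) k).mp hk
    · apply Subtype.ext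
      simp only [Subgroup.coe_mul, Subgroup.coe_inclusion]
      group

end Cfsg.Agent.Lib.Lead.CoreControl
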