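import Mathlib
import Cfsg.Agent.Lib.Lead.CoreControl

set_option autoImplicit false

namespace Cfsg.Agent.Lib.Lead.CoreControl

open Cfsg
open scoped Pointwise

universe u

variable {G : Type u} [Group G]

theorem aux [Finite G] {p : ℕ} [Fact p.Prime] (P : Subgroup G) (hP : IsPGroup p P)
    (H : Subgroup G) (hHn : H.Normal) (hHcop : (Nat.card H).Coprime p)
    (hsol : Group.IsSolvable ↥⁅H, P⁆)
    {q : ℕ} [Fact q.Prime] (z : G) (hzH : z ∈ H)
    (hzP : z ∈ Subgroup.centralizer ((P : Subgroup G) : Set G))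
    (hz : ∃ k : ℕ, orderOf z = q ^ k) :
    (ppc q (H ⊓ Subgroup.centralizer ({z} : Set G)) ⊓
      ppc q (H ⊓ Subgroup.centralizer ((P : Subgroup G) : Set G))) ⊔
      ⁅ppc q (H ⊓ Subgroup.centralizer ({z} : Set G)), P⁆ ≤ ppc q H := by
  classical
  set Cz := Subgroup.centralizer ({z} : Set G) with hCz
  set CP := Subgroup.centralizer ((P : Subgroup G) : Set G) with hCP
  set Xz := ppc q (H ⊓ Cz) with hXz
  set XP := ppc q (H ⊓ CP) with hXP
  set K := ⁅H, P⁆ with hK
  have hPnH : P ≤ Subgroup.normalizer (H : Set G) := by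
    rw [Subgroup.normalizer_eq_top]; exact le_top
  have hKH : K ≤ H := commutator_le_left_of_le_normalizer H P hPnH
  have hHnK : H ≤ Subgroup.normalizer (K : Set G) := le_normalizer_commutator_left H P
  have hcopPH : (Nat.card P).Coprime (Nat.card H) := by
    obtain ⟨n, hn⟩ := IsPGroup.iff_card.mp hP
    rw [hn]; exact Nat.Coprime.pow_left n hHcop.symm
  have hPsolv : Group.IsSolvable P := by
    haveI := hP.isNilpotent
    infer_instance
  have hHdecomp : K ⊔ (H ⊓ CP) = H :=
    coprime_commutator_sup_centralizer P H hPnH hcopPH (Or.inl hPsolv)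
  have hXPle : XP ≤ H ⊓ CP := ppc_le _ _
  have hXzle : Xz ≤ H ⊓ Cz := ppc_le _ _
  set L := K ⊔ XP with hL
  have hLH : L ≤ H := sup_le hKH (hXPle.trans inf_le_left)
  have hHnL : H ≤ Subgroup.normalizer (L : Set G) := by
    have h1 : K ≤ Subgroup.normalizer (L : Set G) := le_sup_left.trans Subgroup.le_normalizer
    have h2 : H ⊓ CP ≤ Subgroup.normalizer (L : Set G) := by
      refine le_trans (le_inf ?_ ?_) (normalizer_inf_normalizer_le_sup K XP)
      · exact inf_le_left.trans hHnK
      · exact Subgroup.le_normalizer.trans (normalizer_le_normalizer_ppc q (H ⊓ CP))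
    calc H = K ⊔ (H ⊓ CP) := hHdecomp.symm
      _ ≤ _ := sup_le h1 h2
  have hKsolv : IsPSolvable q ↥K := SolvPSolv.isPSolvable_of_isSolvable' q ↥K
  have hXPsolv : IsPSolvable q ↥XP := PSolvExt.isPSolvable_of_coprime q (ppc_coprime q _)
  have hLsolv : IsPSolvable q ↥L :=
    isPSolvable_sup q K XP (hXPle.trans (inf_le_left.trans hHnK)) hKsolv hXPsolv
  set Z := Subgroup.zpowers z with hZ
  have hZH : Z ≤ H := (Subgroup.zpowers_le).mpr hzH
  have hZsolv : IsPSolvable q ↥Z := by
    haveI : Group.IsSolvable ↥Z := by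
      haveI : IsCyclic ↥Z := by rw [hZ]; infer_instance
      exact isSolvable_of_comm (fun a b => IsCyclic.commutative.is_comm.comm a b)
    exact SolvPSolv.isPSolvable_of_isSolvable' q ↥Z
  set M := L ⊔ Z with hM
  have hMsolv : IsPSolvable q ↥M := isPSolvable_sup q L Z (hZH.trans hHnL) hLsolv hZsolv
  have hMH : M ≤ H := sup_le hLH hZH
  have hzM : z ∈ M := (le_sup_right : Z ≤ M) (Subgroup.mem_zpowers z)
  set D := Xz ⊓ L with hD
  have hDM : D ≤ M := inf_le_right.trans le_sup_left
  have hbal : D.subgroupOf M ≤ pPrimeCore q ↥M := by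
    apply PSolvBalance.psolvable_pprime_le q hMsolv ⟨z, hzM⟩
    · obtain ⟨k, hk⟩ := hz
      apply IsPGroup.of_card (n := k)
      rw [Nat.card_zpowers, ← hk]
      exact Subgroup.orderOf_mk z hzM
    · rw [Nat.card_congr (Subgroup.subgroupOfEquivOfLe hDM).toEquiv]
      exact Nat.Coprime.coprime_dvd_left (Subgroup.card_dvd_of_le inf_le_left) (ppc_coprime q _)
    · intro d hd
      rw [Subgroup.mem_centralizer_iff]
      intro y hy
      rw [Set.mem_singleton_iff] at hy
      subst hy
      have hd0 : (d : G) ∈ Xz ⊓ L := Subgroup.mem_subgroupOf.mp hd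
      have hd' : (d : G) ∈ Cz := (hXzle hd0.1).2
      have := Subgroup.mem_centralizer_iff.mp hd' z rfl
      exact Subtype.ext this
    · intro m hm
      have hmz : (m : G) ∈ Cz := by
        rw [Subgroup.mem_centralizer_iff] at hm ⊢
        intro y hy
        rw [Set.mem_singleton_iff] at hy
        subst hy
        have := hm ⟨y, hzM⟩ rfl
        exact congrArg Subtype.val this
      have hmH : (m : G) ∈ H := hMH m.2
      have hmXz : (m : G) ∈ Subgroup.normalizer (Xz : Set G) :=
        (normalizer_le_normalizer_ppc q (H ⊓ Cz)) (Subgroup.le_normalizer ⟨hmH, hmz⟩)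
      have hmL : (m : G) ∈ Subgroup.normalizer (L : Set G) := hHnL hmH
      have hmD : (m : G) ∈ Subgroup.normalizer (D : Set G) :=
        normalizer_inf_normalizer_le_inf Xz L ⟨hmXz, hmL⟩
      rw [Subgroup.mem_normalizer_iff] at hmD ⊢
      intro d
      rw [Subgroup.mem_subgroupOf, Subgroup.mem_subgroupOf]
      exact hmD d
  have hDppcM : D ≤ ppc q M := by
    have := Subgroup.map_mono (f := M.subtype) hbal
    rwa [Subgroup.map_subgroupOf_eq_of_le hDM] at this
  have hDppcL : D ≤ ppc q L :=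
    (le_inf hDppcM inf_le_right).trans (ppc_inf_le q le_sup_left (hMH.trans hHnL))
  have hDppcH : D ≤ ppc q H := hDppcL.trans (ppc_mono_normal q hLH hHnL)
  refine le_trans (sup_le ?_ ?_) hDppcH
  · exact inf_le_inf_left _ le_sup_right
  · apply le_inf
    · apply commutator_le_left_of_le_normalizer Xz P
      refine le_trans ?_ (normalizer_le_normalizer_ppc q (H ⊓ Cz))
      apply Cfsg.Agent.Lib.Lead.Subnormalizer.le_normalizer_of_forall_conj_mem
      intro g hg c hc
      refine ⟨hHn.conj_mem c hc.1 g, ?_⟩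
      change g * c * g⁻¹ ∈ Cz
      rw [hCz, Subgroup.mem_centralizer_iff]
      intro y hy
      rw [Set.mem_singleton_iff] at hy
      subst hy
      have h1 : g * y = y * g := Subgroup.mem_centralizer_iff.mp hzP g hg
      have hc2 : c ∈ Cz := hc.2
      rw [hCz] at hc2
      have h2 : y * c = c * y := Subgroup.mem_centralizer_iff.mp hc2 y rfl
      have h3 : g⁻¹ * y = y * g⁻¹ := by
        have : y = g⁻¹ * (g * y) := by group
        rw [h1] at this
        calc g⁻¹ * y = g⁻¹ * y * g * g⁻¹ := by group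
          _ = y * g⁻¹ := by rw [mul_assoc g⁻¹ y g, ← this]
      calc y * (g * c * g⁻¹) = (y * g) * c * g⁻¹ := by group
        _ = g * (y * c) * g⁻¹ := by rw [← h1]; group
        _ = g * c * (y * g⁻¹) := by rw [h2]; group
        _ = g * c * g⁻¹ * y := by rw [← h3]; group
    · exact (Subgroup.commutator_mono (hXzle.trans inf_le_left) le_rfl).trans le_sup_left

theorem main {G : Type*} [Group G] [Finite G] {p : ℕ} [Fact p.Prime]
    (P : Sylow p G)
    (hsol : Group.IsSolvable ↥⁅Cfsg.pPrimeCore p G, (P : Subgroup G)⁆)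
    {q : ℕ} [Fact q.Prime] (z : G) (hzH : z ∈ Cfsg.pPrimeCore p G) (hzP : z ∈ Subgroup.centralizer ((P : Subgroup G) : Set G))
    (hz : ∃ k : ℕ, orderOf z = q ^ k) :
    ((Cfsg.pPrimeCore q ↥(Cfsg.pPrimeCore p G ⊓ Subgroup.centralizer ({z} : Set G))).map
        (Cfsg.pPrimeCore p G ⊓ Subgroup.centralizer ({z} : Set G)).subtype ⊓
      (Cfsg.pPrimeCore q ↥(Cfsg.pPrimeCore p G ⊓ Subgroup.centralizer ((P : Subgroup G) : Set G))).map
        (Cfsg.pPrimeCore p G ⊓ Subgroup.centralizer ((P : Subgroup G) : Set G)).subtype) ⊔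
    ⁅(Cfsg.pPrimeCore q ↥(Cfsg.pPrimeCore p G ⊓ Subgroup.centralizer ({z} : Set G))).map
        (Cfsg.pPrimeCore p G ⊓ Subgroup.centralizer ({z} : Set G)).subtype, (P : Subgroup G)⁆ ≤
    (Cfsg.pPrimeCore q ↥(Cfsg.pPrimeCore p G)).map (Cfsg.pPrimeCore p G).subtype := by
  obtain ⟨hHn, hHcop⟩ := Cfsg.Agent.Lib.Helper6.pPrimeCore_mem_set (G := G) p
  exact aux (P : Subgroup G) P.isPGroup' (Cfsg.pPrimeCore p G) hHn hHcop hsol z hzH hzP hz

end Cfsg.Agent.Lib.Lead.CoreControl
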