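import Mathlib

set_option autoImplicit false

/-! Sign of a permutation all of whose cycles have length `2^(k+1)`. -/

namespace Cfsg.Agent.Lib.Lead.SignSemi

open Equiv Equiv.Perm

variable {α : Type*} [Fintype α] [DecidableEq α]

/-- If `n` is a cycle length of `σ`, some point moved by `σ` is fixed by `σ ^ n`. -/
theorem exists_fixed_of_mem_cycleType {σ : Perm α} {n : ℕ} (h : n ∈ σ.cycleType) :
    ∃ x, (σ ^ n) x = x := by
  obtain ⟨c, τ, rfl, hd, hc, hn⟩ := mem_cycleType_iff.mp h
  obtain ⟨x, hx⟩ := hc.nonempty_support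
  refine ⟨x, ?_⟩
  have hcn : c ^ n = 1 := by
    rw [← hn, ← hc.orderOf]; exact pow_orderOf_eq_one c
  rw [hd.commute.mul_pow, hcn, one_mul]
  have hτx : τ x = x := by
    rcases hd x with h1 | h1
    · exact absurd h1 (mem_support.mp hx)
    · exact h1
  exact pow_apply_eq_self_of_apply_eq_self hτx n

/-- A permutation of order dividing `2^(k+1)` whose `2^k`-th power has no fixed point, on a set
of size `2^(k+1) * m` with `m` odd, is odd. -/
theorem sign_eq_neg_one (σ : Perm α) (k m : ℕ) (hσ : σ ^ 2 ^ (k + 1) = 1)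
    (hfix : ∀ x, (σ ^ 2 ^ k) x ≠ x) (hm : Odd m)
    (hcard : Fintype.card α = 2 ^ (k + 1) * m) : sign σ = -1 := by
  -- every cycle length is `2^(k+1)`
  have hall : ∀ n ∈ σ.cycleType, n = 2 ^ (k + 1) := by
    intro n hn
    have h1 : n ∣ 2 ^ (k + 1) := (dvd_of_mem_cycleType hn).trans (orderOf_dvd_of_pow_eq_one hσ)
    obtain ⟨j, hj, rfl⟩ := (Nat.dvd_prime_pow Nat.prime_two).mp h1
    by_contra hne
    have hjk : j ≤ k := by
      rcases Nat.lt_or_ge k j with h | h
      · exfalso; apply hne; congr 1; omega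
      · exact h
    obtain ⟨x, hx⟩ := exists_fixed_of_mem_cycleType hn
    apply hfix x
    obtain ⟨d, rfl⟩ := Nat.exists_eq_add_of_le hjk
    rw [pow_add, pow_mul]
    exact pow_apply_eq_self_of_apply_eq_self hx (2 ^ d)
  have hrep : σ.cycleType = Multiset.replicate (Multiset.card σ.cycleType) (2 ^ (k + 1)) :=
    Multiset.eq_replicate_card.mpr hall
  -- full support
  have hsupp : σ.support = Finset.univ := by
    ext x
    simp only [mem_support, Finset.mem_univ, iff_true]
    intro hx
    apply hfix x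
    exact pow_apply_eq_self_of_apply_eq_self hx (2 ^ k)
  have hsum : σ.cycleType.sum = 2 ^ (k + 1) * m := by
    rw [sum_cycleType, hsupp, Finset.card_univ, hcard]
  have hcardc : Multiset.card σ.cycleType = m := by
    have h2 : σ.cycleType.sum = Multiset.card σ.cycleType * 2 ^ (k + 1) := by
      conv_lhs => rw [hrep]
      rw [Multiset.sum_replicate, smul_eq_mul]
    rw [hsum] at h2
    have hpos : 0 < 2 ^ (k + 1) := by positivity
    have : 2 ^ (k + 1) * m = 2 ^ (k + 1) * Multiset.card σ.cycleType := by rw [h2]; ring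
    exact (Nat.eq_of_mul_eq_mul_left hpos this).symm
  rw [sign_of_cycleType, hsum, hcardc]
  have heven : Even (2 ^ (k + 1) * m) := by
    rw [pow_succ]; exact ⟨2 ^ k * m, by ring⟩
  have hodd : Odd (2 ^ (k + 1) * m + m) := heven.add_odd hm
  exact hodd.neg_one_pow

end Cfsg.Agent.Lib.Lead.SignSemi
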