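import Mathlib
import Cfsg.Prelude.Def_Transfer
import Cfsg.Agent.Lib.Lead.SignSemi
import Cfsg.Agent.Lib.Helper6.PRes

set_option autoImplicit false

/-! Sign homomorphisms on coset spaces, and descent along cyclic 2-subgroups. -/

namespace Cfsg.Agent.Lib.Lead.CosetSign

open Cfsg

variable {G : Type*} [Group G] [Finite G]

theorem exists_sign_hom (H T : Subgroup G) (hTH : T ≤ H) (k m : ℕ) (hm : Odd m)
    (hcard : Nat.card H = Nat.card T * 2 ^ (k + 1) * m) :
    ∃ σ : ↥H →* ℤˣ, ∀ w : ↥H, w ^ 2 ^ (k + 1) = 1 →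
      (∀ g : ↥H, ((g * w ^ 2 ^ k * g⁻¹ : ↥H) : G) ∉ T) → σ w = -1 := by
  classical
  letI : Fintype (↥H ⧸ T.subgroupOf H) := Fintype.ofFinite _
  refine ⟨Equiv.Perm.sign.comp (MulAction.toPermHom ↥H (↥H ⧸ T.subgroupOf H)), ?_⟩
  intro w hw hnc
  rw [MonoidHom.comp_apply]
  apply SignSemi.sign_eq_neg_one _ k m _ _ hm
  · -- card
    rw [← Nat.card_eq_fintype_card]
    have h1 := Subgroup.card_eq_card_quotient_mul_card_subgroup (T.subgroupOf H)
    have h2 : Nat.card (T.subgroupOf H) = Nat.card T :=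
      Nat.card_congr (Subgroup.subgroupOfEquivOfLe hTH).toEquiv
    rw [h2, hcard] at h1
    have hpos : 0 < Nat.card T := Nat.card_pos
    have : Nat.card T * (2 ^ (k + 1) * m) = Nat.card T * Nat.card (↥H ⧸ T.subgroupOf H) := by
      rw [← mul_assoc, h1]; ring
    exact (Nat.eq_of_mul_eq_mul_left hpos this).symm
  · rw [← map_pow, hw, map_one]
  · intro x
    obtain ⟨h, rfl⟩ := QuotientGroup.mk_surjective x
    rw [← map_pow]
    intro hfix
    change ((w ^ 2 ^ k) • (QuotientGroup.mk h : ↥H ⧸ T.subgroupOf H)) = QuotientGroup.mk h at hfix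
    rw [MulAction.Quotient.smul_mk, QuotientGroup.eq] at hfix
    apply hnc h⁻¹
    have h3 := (T.subgroupOf H).inv_mem hfix
    rw [Subgroup.mem_subgroupOf] at h3
    have : ((w ^ 2 ^ k • h)⁻¹ * h)⁻¹ = h⁻¹ * w ^ 2 ^ k * h⁻¹⁻¹ := by
      rw [smul_eq_mul]; group
    rw [this] at h3
    exact h3

/-- the kernel of a sign homomorphism, as a subgroup of `G`. -/
noncomputable def kerSub (H : Subgroup G) (σ : ↥H →* ℤˣ) : Subgroup G := σ.ker.map H.subtype

theorem kerSub_le (H : Subgroup G) (σ : ↥H →* ℤˣ) : kerSub H σ ≤ H := by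
  rintro _ ⟨y, _, rfl⟩
  exact y.2

theorem mem_kerSub_iff (H : Subgroup G) (σ : ↥H →* ℤˣ) (g : G) (hg : g ∈ H) :
    g ∈ kerSub H σ ↔ σ ⟨g, hg⟩ = 1 := by
  constructor
  · rintro ⟨y, hy, hyg⟩
    have : y = ⟨g, hg⟩ := Subtype.ext hyg
    rw [← this]; exact hy
  · intro h
    exact ⟨⟨g, hg⟩, h, rfl⟩

theorem hom_eq_one_of_odd {A : Type*} [Group A] (σ : A →* ℤˣ) (a : A)
    (ha : Nat.Coprime (orderOf a) 2) : σ a = 1 := by
  rcases Int.units_eq_one_or (σ a) with h | h
  · exact h
  · exfalso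
    have h1 : (σ a) ^ orderOf a = 1 := by rw [← map_pow, pow_orderOf_eq_one, map_one]
    rw [h] at h1
    have hodd : Odd (orderOf a) := by
      rw [Nat.odd_iff, ← Nat.two_dvd_ne_zero]
      intro h2
      have := Nat.dvd_gcd h2 (dvd_refl 2)
      rw [Nat.Coprime] at ha
      rw [ha] at this
      omega
    rw [hodd.neg_one_pow] at h1
    exact absurd h1 (by decide)

theorem pResidual_le_kerSub (H : Subgroup G) (σ : ↥H →* ℤˣ) (hH : pResidual 2 G ≤ H) :
    pResidual 2 G ≤ kerSub H σ := by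
  apply Cfsg.Agent.Lib.Helper6.pResidual_le_of_forall
  intro g hg
  have hgH : g ∈ H := hH (Cfsg.Agent.Lib.Helper6.mem_pResidual_of_coprime' hg)
  rw [mem_kerSub_iff H σ g hgH]
  apply hom_eq_one_of_odd
  have : orderOf (⟨g, hgH⟩ : ↥H) = orderOf g := by
    rw [← Subgroup.orderOf_coe]
  rw [this]; exact hg

theorem card_kerSub (H : Subgroup G) (σ : ↥H →* ℤˣ) (w : ↥H) (hw : σ w = -1) :
    Nat.card (kerSub H σ) * 2 = Nat.card H := by
  have h1 : Nat.card (kerSub H σ) = Nat.card σ.ker :=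
    (Nat.card_congr (Subgroup.equivMapOfInjective σ.ker H.subtype H.subtype_injective).toEquiv).symm
  have h2 : σ.ker.index = 2 := by
    rw [Subgroup.index_ker]
    have hr : σ.range = ⊤ := by
      rw [eq_top_iff]
      intro z _
      rcases Int.units_eq_one_or z with h | h
      · rw [h]; exact one_mem _
      · rw [h, ← hw]; exact ⟨w, rfl⟩
    rw [hr, Subgroup.card_top]
    simp
  rw [h1, ← h2, Subgroup.card_mul_index]

/-- Descent: a generator-power involution of a cyclic `2`-subgroup complementing `T` in a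
Sylow `2`-subgroup of `H`, not fused into `T`, lies outside `O^2(G)`. -/
theorem cyclic_step (T : Subgroup G) (hTK : T ≤ pResidual 2 G) :
    ∀ (k : ℕ) (H : Subgroup G) (u : G) (m : ℕ), pResidual 2 G ≤ H → u ∈ H →
      orderOf u = 2 ^ (k + 1) → Odd m → Nat.card H = Nat.card T * 2 ^ (k + 1) * m →
      (∀ g ∈ H, g * u ^ 2 ^ k * g⁻¹ ∉ T) → u ^ 2 ^ k ∉ pResidual 2 G := by
  intro k
  induction k with
  | zero =>
    intro H u m hH hu ho hm hcard hnc hmem
    obtain ⟨σ, hσ⟩ := exists_sign_hom H T (hTK.trans hH) 0 m hm hcard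
    have h1 : σ ⟨u, hu⟩ = -1 := by
      apply hσ
      · apply Subtype.ext
        simp only [Subgroup.coe_pow, Subgroup.coe_one]
        rw [← ho]; exact pow_orderOf_eq_one u
      · intro g
        have := hnc g g.2
        simpa using this
    have h2 := pResidual_le_kerSub H σ hH hmem
    simp only [pow_zero, pow_one] at h2
    rw [mem_kerSub_iff H σ u hu, h1] at h2
    exact absurd h2 (by decide)
  | succ k ih =>
    intro H u m hH hu ho hm hcard hnc
    obtain ⟨σ, hσ⟩ := exists_sign_hom H T (hTK.trans hH) (k + 1) m hm hcard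
    have h1 : σ ⟨u, hu⟩ = -1 := by
      apply hσ
      · apply Subtype.ext
        simp only [Subgroup.coe_pow, Subgroup.coe_one]
        rw [← ho]; exact pow_orderOf_eq_one u
      · intro g
        have := hnc g g.2
        simpa using this
    have hu2H : u ^ 2 ∈ H := H.pow_mem hu 2
    have hu2 : u ^ 2 ∈ kerSub H σ := by
      rw [mem_kerSub_iff H σ _ hu2H]
      have : (⟨u ^ 2, hu2H⟩ : ↥H) = ⟨u, hu⟩ ^ 2 := rfl
      rw [this, map_pow, h1]; rfl
    have ho2 : orderOf (u ^ 2) = 2 ^ (k + 1) := by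
      rw [orderOf_pow_of_dvd (by norm_num) (by rw [ho]; exact dvd_pow_self 2 (by omega)), ho]
      rw [pow_succ 2 (k + 1)]; simp
    have hc2 : Nat.card (kerSub H σ) = Nat.card T * 2 ^ (k + 1) * m := by
      have := card_kerSub H σ ⟨u, hu⟩ h1
      rw [hcard] at this
      have h3 : Nat.card T * 2 ^ (k + 1 + 1) * m = (Nat.card T * 2 ^ (k + 1) * m) * 2 := by ring
      rw [h3] at this
      exact Nat.eq_of_mul_eq_mul_right (by norm_num) this
    have key := ih (kerSub H σ) (u ^ 2) m (pResidual_le_kerSub H σ hH) hu2 ho2 hm hc2 (by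
      intro g hg
      rw [← pow_mul, ← pow_succ']
      exact hnc g (kerSub_le H σ hg))
    rw [← pow_mul, ← pow_succ'] at key
    exact key

end Cfsg.Agent.Lib.Lead.CosetSign
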