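import Mathlib
import Cfsg.Prelude.Def_Local
import Cfsg.Agent.Lib.Lead.CycSyl3

set_option autoImplicit false

/-! Groups with a cyclic Sylow `p`-subgroup and `O_{p'} = 1`: conclusion. -/

namespace Cfsg.Agent.Lib.Lead.CycSyl

open Cfsg Cfsg.Agent.Lib.Helper3

theorem false_of_normal_complement {G : Type*} [Group G] [Finite G] {p : ℕ} [Fact p.Prime]
    (N : Subgroup G) [hNn : N.Normal] (hNs : IsSimpleGroup ↥N) (hNc : ¬ IsMulCommutative ↥N)
    (hpN : p ∣ Nat.card N) (h : Cfsg.HasNormalPComplement p G) : False := by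
  classical
  have hpp : p.Prime := Fact.out
  obtain ⟨P₂, M, hMn, hc⟩ := h
  haveI := hMn
  have hcard : Nat.card M * Nat.card (P₂ : Subgroup G) = Nat.card G := hc.card_mul_card
  have hP2pos : 0 < Nat.card (P₂ : Subgroup G) := Nat.card_pos
  have hMpos : 0 < Nat.card M := Nat.card_pos
  have hM : Nat.card M = (P₂ : Subgroup G).index := by
    have h1 := Subgroup.card_mul_index (P₂ : Subgroup G)
    have h2 : Nat.card (P₂ : Subgroup G) * Nat.card M = Nat.card (P₂ : Subgroup G) * (P₂ : Subgroup G).index := by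
      rw [h1, mul_comm, hcard]
    exact Nat.eq_of_mul_eq_mul_left hP2pos h2
  have hMcop : ¬ p ∣ Nat.card M := by rw [hM]; exact P₂.not_dvd_index
  have hidx : M.index = Nat.card (P₂ : Subgroup G) := by
    have h1 := Subgroup.card_mul_index M
    have h2 : Nat.card M * M.index = Nat.card M * Nat.card (P₂ : Subgroup G) := by rw [h1, hcard]
    exact Nat.eq_of_mul_eq_mul_left hMpos h2
  haveI : (M ⊓ N).Normal := inferInstance
  haveI : ((M ⊓ N).subgroupOf N).Normal := inferInstance
  rcases hNs.eq_bot_or_eq_top_of_normal ((M ⊓ N).subgroupOf N) inferInstance with hb | ht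
  · rw [Subgroup.subgroupOf_eq_bot] at hb
    have hMN : M ⊓ N = ⊥ := by
      rw [eq_bot_iff]
      intro x hx
      have := hb.le_bot (show x ∈ (M ⊓ N) ⊓ N from ⟨hx, hx.2⟩)
      exact this
    let φ : ↥N →* G ⧸ M := (QuotientGroup.mk' M).comp N.subtype
    have hinj : Function.Injective φ := by
      rw [injective_iff_map_eq_one]
      intro x hx
      have h1 : (x : G) ∈ M := (QuotientGroup.eq_one_iff (x : G)).mp hx
      have h2 : (x : G) ∈ M ⊓ N := ⟨h1, x.2⟩
      rw [hMN, Subgroup.mem_bot] at h2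
      exact Subtype.ext h2
    have hdvd : Nat.card ↥N ∣ Nat.card (G ⧸ M) := Subgroup.card_dvd_of_injective φ hinj
    rw [← Subgroup.index_eq_card, hidx] at hdvd
    obtain ⟨n, hn⟩ := IsPGroup.iff_card.mp P₂.isPGroup'
    rw [hn] at hdvd
    obtain ⟨k, _, hk⟩ := (Nat.dvd_prime_pow hpp).mp hdvd
    have hNp : IsPGroup p ↥N := IsPGroup.of_card hk
    haveI : Group.IsNilpotent ↥N := hNp.isNilpotent
    have hsol : Group.IsSolvable ↥N := inferInstance
    have hcomm := (IsSimpleGroup.comm_iff_isSolvable (G := ↥N)).mpr hsol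
    exact hNc ⟨⟨hcomm⟩⟩
  · rw [Subgroup.subgroupOf_eq_top] at ht
    have hNM : N ≤ M := ht.trans inf_le_left
    exact hMcop (dvd_trans hpN (Subgroup.card_dvd_of_le hNM))

variable {K : Type*} [Group K] [Finite K] {p : ℕ} [Fact p.Prime]

/-- (H) a cyclic Sylow `p`-subgroup lies in every nonabelian simple normal subgroup of order
divisible by `p` -/
theorem sylow_le_of_simple_normal (N : Subgroup K) [hNn : N.Normal] (hNs : IsSimpleGroup ↥N)
    (hNc : ¬ IsMulCommutative ↥N) (hpN : p ∣ Nat.card N) (P : Sylow p K)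
    (hP : IsCyclic ↥(P : Subgroup K)) : (P : Subgroup K) ≤ N := by
  classical
  have hpp : p.Prime := Fact.out
  set K₁ := N ⊔ (P : Subgroup K) with hK₁
  have hNK : N ≤ K₁ := le_sup_left
  have hPK : (P : Subgroup K) ≤ K₁ := le_sup_right
  set N₁ := N.subgroupOf K₁ with hN₁
  haveI : N₁.Normal := by rw [hN₁]; infer_instance
  let e : ↥N₁ ≃* ↥N := Subgroup.subgroupOfEquivOfLe hNK
  haveI := hNs
  have hN₁s : IsSimpleGroup ↥N₁ := e.isSimpleGroup
  have hN₁c : ¬ IsMulCommutative ↥N₁ := by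
    intro hc
    apply hNc
    refine ⟨⟨fun a b => ?_⟩⟩
    have := hc.is_comm.comm (e.symm a) (e.symm b)
    have h2 := congrArg e this
    simpa using h2
  have hpN₁ : p ∣ Nat.card N₁ := by
    rw [Nat.card_congr e.toEquiv]; exact hpN
  let P₁ : Sylow p ↥K₁ := P.subtype hPK
  have hP₁ : ((P₁ : Sylow p ↥K₁) : Subgroup ↥K₁) = (P : Subgroup K).subgroupOf K₁ := Sylow.coe_subtype _ _
  have hP₁c : IsCyclic ↥(P₁ : Subgroup ↥K₁) := by
    rw [hP₁]
    haveI := hP
    let e2 : ↥((P : Subgroup K).subgroupOf K₁) ≃* ↥(P : Subgroup K) := Subgroup.subgroupOfEquivOfLe hPK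
    exact isCyclic_of_surjective e2.symm.toMonoidHom e2.symm.surjective
  rcases Cfsg.Agent.Lib.Lead.cyclic_sylow_dichotomy P₁ hP₁c with h | h
  · exact (false_of_normal_complement N₁ hN₁s hN₁c hpN₁ h).elim
  · have hidx : N₁.index ∣ Nat.card (P : Subgroup K) := by
      have h1 : N₁.index = N.relIndex K₁ := rfl
      rw [h1, hK₁, Subgroup.relIndex_sup_left]
      exact Subgroup.relIndex_dvd_card _ _
    obtain ⟨n, hn⟩ := IsPGroup.iff_card.mp P.isPGroup'
    rw [hn] at hidx
    obtain ⟨k, _, hk⟩ := (Nat.dvd_prime_pow hpp).mp hidx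
    have hq : IsPGroup p (↥K₁ ⧸ N₁) := by
      apply IsPGroup.of_card (n := k)
      rw [← Subgroup.index_eq_card]; exact hk
    have hle := Cfsg.Agent.Lib.Helper6.pResidual_le_of_isPGroup_quotient N₁ hq
    rw [h, top_le_iff, hN₁, Subgroup.subgroupOf_eq_top] at hle
    exact hPK.trans hle

theorem main (hp : p ∣ Nat.card K) (hO : Cfsg.pPrimeCore p K = ⊥) (P : Sylow p K)
    (hP : IsCyclic ↥(P : Subgroup K)) :
    ((P : Subgroup K).Normal ∧ Subgroup.centralizer ((P : Subgroup K) : Set K) = (P : Subgroup K) ∧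
      (∀ (_ : (P : Subgroup K).Normal), IsCyclic (K ⧸ (P : Subgroup K))) ∧
      (P : Subgroup K).index ∣ p - 1) ∨
    (IsSimpleGroup ↥(Cfsg.generalizedFittingSubgroup K) ∧
      ¬ IsMulCommutative ↥(Cfsg.generalizedFittingSubgroup K) ∧
      ¬ p ∣ (Cfsg.generalizedFittingSubgroup K).index) := by
  by_cases hL : Cfsg.layer K = ⊥
  · left
    exact case_one hp hO P hP hL
  · right
    obtain ⟨L, hLc⟩ : ∃ L : Subgroup K, Cfsg.IsComponent L := by
      by_contra h
      push Not at h
      exact hL (layer_eq_bot_iff.mpr h)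
    have hR := pCore_eq_bot_of_component hO P hP hLc
    have hF : Cfsg.fittingSubgroup K = ⊥ := by rw [fitting_eq_pCore hO, hR]
    have hlay := layer_eq_component hO P hP hLc
    have hFs : Cfsg.generalizedFittingSubgroup K = L := by
      unfold Cfsg.generalizedFittingSubgroup
      rw [hlay, hF, sup_bot_eq]
    have hZ := component_center_eq_bot hF hLc
    obtain ⟨hs, hnc⟩ := component_simple hLc hZ
    haveI hLn : L.Normal := by rw [← hlay]; infer_instance
    have hPL := sylow_le_of_simple_normal L hs hnc (component_dvd hO hLc) P hP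
    rw [hFs]
    exact ⟨hs, hnc, fun h => P.not_dvd_index (dvd_trans h (Subgroup.index_dvd_of_le hPL))⟩

end Cfsg.Agent.Lib.Lead.CycSyl
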