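import Mathlib
import Cfsg.Agent.Lib.Lead.FrobNPC5
import Cfsg.Agent.Lib.Lead.CoprimeFrattini
import Cfsg.Agent.Lib.Lead.BurnsideBasis

set_option autoImplicit false
open Pointwise

namespace Cfsg.Agent.Lib.Lead

universe u

section
variable {G : Type u} [Group G] [Finite G]

/-- an element of order prime to `6` normalising a group `D` with `|D : Φ(D)| ≤ 4` acts trivially
on `D / Φ(D)` -/
theorem conj_mem_frattini_of_index_le_four (D : Subgroup G)
    (hΦ : (frattini D).index ≤ 4) (g : G) (hg : g ∈ Subgroup.normalizer (D : Set G))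
    (h2 : ¬ 2 ∣ orderOf g) (h3 : ¬ 3 ∣ orderOf g) (k : G) (hk : k ∈ D) :
    g * k * g⁻¹ * k⁻¹ ∈ (frattini D).map D.subtype := by
  classical
  set Φ : Subgroup D := frattini D with hΦdef
  set e : D ≃* D := conjEquiv D g hg with he
  have hmap : Φ.map (e : D →* D) = Φ :=
    Subgroup.characteristic_iff_map_eq.mp (frattini_characteristic (G := D)) e
  set σ : (D ⧸ Φ) ≃* (D ⧸ Φ) := QuotientGroup.congr Φ Φ e hmap with hσ
  -- powers of σ
  have hnorm : ∀ j : ℕ, g ^ j ∈ Subgroup.normalizer (D : Set G) := fun j => Subgroup.pow_mem _ hg j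
  have hpow : ∀ j : ℕ, ∀ d : D, ((σ : MulAut (D ⧸ Φ)) ^ j) (QuotientGroup.mk d) =
      QuotientGroup.mk (conjEquiv D (g ^ j) (hnorm j) d) := by
    intro j
    induction j with
    | zero =>
      intro d
      rw [pow_zero, MulAut.one_apply]
      congr 1
      apply Subtype.ext
      show (d : G) = g ^ 0 * d * (g ^ 0)⁻¹
      simp
    | succ j ih =>
      intro d
      rw [pow_succ', MulAut.mul_apply, ih, hσ, QuotientGroup.congr_mk]
      congr 1
      apply Subtype.ext
      show g * (g ^ j * d * (g ^ j)⁻¹) * g⁻¹ = g ^ (j + 1) * d * (g ^ (j + 1))⁻¹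
      rw [pow_succ']; group
  have hσm : (σ : MulAut (D ⧸ Φ)) ^ orderOf g = 1 := by
    ext q
    obtain ⟨d, rfl⟩ := QuotientGroup.mk_surjective q
    rw [hpow, MulAut.one_apply]
    congr 1
    apply Subtype.ext
    show g ^ orderOf g * d * (g ^ orderOf g)⁻¹ = d
    rw [pow_orderOf_eq_one]; simp
  -- the order of σ divides 24
  have hcard : Nat.card (D ⧸ Φ) ≤ 4 := by rw [← Subgroup.index_eq_card]; exact hΦ
  have h24 : (σ : MulAut (D ⧸ Φ)) ^ 24 = 1 := by
    haveI : Fintype (D ⧸ Φ) := Fintype.ofFinite _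
    have h1 : (MulAut.toPerm (D ⧸ Φ) σ) ^ (Nat.card (D ⧸ Φ)).factorial = 1 := by
      have h2 : Nat.card (Equiv.Perm (D ⧸ Φ)) = (Nat.card (D ⧸ Φ)).factorial := by
        rw [Nat.card_eq_fintype_card, Fintype.card_perm, Nat.card_eq_fintype_card]
      rw [← h2]
      exact pow_card_eq_one'
    have h3 : (Nat.card (D ⧸ Φ)).factorial ∣ 24 := by
      have : (24 : ℕ) = Nat.factorial 4 := by decide
      rw [this]
      exact Nat.factorial_dvd_factorial hcard
    obtain ⟨c, hc⟩ := h3
    have h4 : (MulAut.toPerm (D ⧸ Φ) σ) ^ 24 = 1 := by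
      rw [hc, pow_mul, h1, one_pow]
    rw [← map_pow] at h4
    ext q
    exact DFunLike.congr_fun h4 q
  have hσ1 : (σ : MulAut (D ⧸ Φ)) = 1 := by
    have hd1 : orderOf (σ : MulAut (D ⧸ Φ)) ∣ orderOf g := orderOf_dvd_of_pow_eq_one hσm
    have hd2 : orderOf (σ : MulAut (D ⧸ Φ)) ∣ 24 := orderOf_dvd_of_pow_eq_one h24
    have hcop : Nat.Coprime (orderOf g) 24 := by
      have c2 : Nat.Coprime (orderOf g) 2 :=
        ((Nat.Prime.coprime_iff_not_dvd Nat.prime_two).mpr h2).symm
      have c3 : Nat.Coprime (orderOf g) 3 :=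
        ((Nat.Prime.coprime_iff_not_dvd Nat.prime_three).mpr h3).symm
      have : (24 : ℕ) = 2 ^ 3 * 3 := by norm_num
      rw [this]
      exact Nat.Coprime.mul_right (Nat.Coprime.pow_right 3 c2) c3
    have := Nat.eq_one_of_dvd_coprimes hcop hd1 hd2
    exact orderOf_eq_one_iff.mp this
  have h5 := hpow 1 ⟨k, hk⟩
  rw [pow_one, hσ1, MulAut.one_apply] at h5
  have h6 := QuotientGroup.eq.mp h5
  have hΦn : Φ.Normal := inferInstance
  refine ⟨_, hΦn.conj_mem _ h6 ⟨k, hk⟩, ?_⟩
  have h7 : ((conjEquiv D (g ^ 1) (hnorm 1) ⟨k, hk⟩ : D) : G) = g ^ 1 * k * (g ^ 1)⁻¹ := rfl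
  show ((⟨k, hk⟩ * ((⟨k, hk⟩ : D)⁻¹ * conjEquiv D (g ^ 1) (hnorm 1) ⟨k, hk⟩) * (⟨k, hk⟩ : D)⁻¹ : D) : G)
    = g * k * g⁻¹ * k⁻¹
  rw [Subgroup.coe_mul, Subgroup.coe_mul, Subgroup.coe_mul, Subgroup.coe_inv, h7, pow_one]
  show k * (k⁻¹ * (g * k * g⁻¹)) * k⁻¹ = _
  group

/-- a `2`-group with a cyclic subgroup of index at most `2` has Frattini index at most `4` -/
theorem frattini_index_le_four_of_cyclic (D : Subgroup G) (hD : IsPGroup 2 D) (y : G)
    (hy : (Subgroup.zpowers y).relIndex D ≤ 2) : (frattini D).index ≤ 4 := by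
  classical
  haveI : Fact (Nat.Prime 2) := ⟨Nat.prime_two⟩
  set C' : Subgroup D := (Subgroup.zpowers y).subgroupOf D with hC'
  have hC'idx : C'.index ≤ 2 := hy
  let f : C' →* Subgroup.zpowers y :=
    { toFun := fun x => ⟨((x : D) : G), x.2⟩
      map_one' := rfl
      map_mul' := fun _ _ => rfl }
  have hf : Function.Injective f := by
    intro a b hab
    have h1 : ((a : D) : G) = ((b : D) : G) := congrArg (fun z : Subgroup.zpowers y => (z : G)) hab
    exact Subtype.ext (Subtype.ext h1)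
  haveI : IsCyclic C' := isCyclic_of_injective f hf
  obtain ⟨t, ht⟩ := IsCyclic.exists_generator (α := C')
  set Φ : Subgroup D := frattini D with hΦ
  set H₁ : Subgroup D := Subgroup.zpowers (t : D) ⊔ Φ with hH₁
  have hCH : C' ≤ H₁ := by
    intro x hx
    apply Subgroup.mem_sup_left
    obtain ⟨k, hk⟩ := Subgroup.mem_zpowers_iff.mp (ht ⟨x, hx⟩)
    rw [Subgroup.mem_zpowers_iff]
    refine ⟨k, ?_⟩
    have := congrArg Subtype.val hk
    simpa using this
  have h1 : H₁.index ≤ 2 := by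
    have hd := Subgroup.index_dvd_of_le hCH
    have hne : C'.index ≠ 0 := Subgroup.index_ne_zero_of_finite
    exact (Nat.le_of_dvd (Nat.pos_of_ne_zero hne) hd).trans hC'idx
  have h2 : Nat.card H₁ ≤ 2 * Nat.card Φ := card_zpowers_sup_le hD Φ le_rfl (t : D)
  have h3 : Nat.card H₁ * H₁.index = Nat.card D := Subgroup.card_mul_index H₁
  have h4 : Nat.card Φ * Φ.index = Nat.card D := Subgroup.card_mul_index Φ
  have h5 : 0 < Nat.card Φ := Nat.card_pos
  by_contra hlt
  push Not at hlt
  have h6 : Nat.card Φ * 5 ≤ Nat.card Φ * Φ.index := Nat.mul_le_mul_left _ hlt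
  have h7 : Nat.card H₁ * H₁.index ≤ 2 * Nat.card Φ * 2 := Nat.mul_le_mul h2 h1
  omega

theorem exists_normal_of_cyclic_index_two (a n : ℕ) (hG : Nat.card G = 2 ^ a * n) (hn : Odd n)
    (h3 : ¬ 3 ∣ n) (hx : ∃ x : G, orderOf x = 2 ^ (a - 1)) :
    ∃ N : Subgroup G, N.Normal ∧ Nat.card N = n := by
  classical
  haveI : Fact (Nat.Prime 2) := ⟨Nat.prime_two⟩
  have hn2 : ¬ 2 ∣ n := by
    intro h
    exact (Nat.not_even_iff_odd.mpr hn) (even_iff_two_dvd.mpr h)
  have hn0 : n ≠ 0 := by rintro rfl; exact hn2 (dvd_zero 2)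
  -- order of Sylow 2-subgroups
  have hfac : (Nat.card G).factorization 2 = a := by
    rw [hG, Nat.factorization_mul (pow_ne_zero _ two_ne_zero) hn0, Nat.Prime.factorization_pow Nat.prime_two]
    simp [Nat.factorization_eq_zero_of_not_dvd hn2]
  have hsyl : ∀ Q : Sylow 2 G, Nat.card Q = 2 ^ a := by
    intro Q
    rw [Sylow.card_eq_multiplicity, hfac]
  have hPL : PLocalCentral 2 G := by
    intro D hD g hg hcop
    -- the order of g
    have hgn : orderOf g ∣ n := by
      have h1 : orderOf g ∣ 2 ^ a * n := hG ▸ orderOf_dvd_natCard g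
      exact (Nat.Coprime.pow_right a hcop).dvd_of_dvd_mul_left h1
    have hg2 : ¬ 2 ∣ orderOf g := fun h => hn2 (h.trans hgn)
    have hg3 : ¬ 3 ∣ orderOf g := fun h => h3 (h.trans hgn)
    -- the cyclic subgroup
    obtain ⟨x, hx⟩ := hx
    have hxP : IsPGroup 2 (Subgroup.zpowers x) := by
      apply IsPGroup.of_card (n := a - 1)
      rw [Nat.card_zpowers, hx]
    obtain ⟨P, hP⟩ := hxP.exists_le_sylow
    obtain ⟨Q, hQ⟩ := hD.exists_le_sylow
    obtain ⟨h, hh⟩ := MulAction.exists_smul_eq G P Q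
    set y : G := h * x * h⁻¹ with hy
    have hyQ : y ∈ (Q : Subgroup G) := by
      rw [← hh]
      show y ∈ MulAut.conj h • (P : Subgroup G)
      have : y = MulAut.conj h • x := by rw [MulAut.smul_def, MulAut.conj_apply]
      rw [this]
      exact Subgroup.smul_mem_pointwise_smul x (MulAut.conj h) (P : Subgroup G)
        (hP (Subgroup.mem_zpowers x))
    have hyord : orderOf y = 2 ^ (a - 1) := by
      rw [← hx]
      have : y = MulAut.conj h x := by rw [MulAut.conj_apply]
      rw [this]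
      exact MulEquiv.orderOf_eq (MulAut.conj h) x
    have hrel : (Subgroup.zpowers y).relIndex (Q : Subgroup G) ≤ 2 := by
      have h1 : (Subgroup.zpowers y).relIndex (Q : Subgroup G) * Nat.card (Subgroup.zpowers y)
          = Nat.card (Q : Subgroup G) := by
        have h0 := Subgroup.relIndex_mul_relIndex (⊥ : Subgroup G) (Subgroup.zpowers y)
          (Q : Subgroup G) bot_le (Subgroup.zpowers_le.mpr hyQ)
        rw [Subgroup.relIndex_bot_left, Subgroup.relIndex_bot_left] at h0
        rw [mul_comm]; exact h0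
      rw [Nat.card_zpowers, hyord, hsyl Q] at h1
      by_contra hlt
      push Not at hlt
      have h2 : 3 * 2 ^ (a - 1) ≤ (Subgroup.zpowers y).relIndex (Q : Subgroup G) * 2 ^ (a - 1) :=
        Nat.mul_le_mul_right _ hlt
      have h3 : 2 ^ a ≤ 2 * 2 ^ (a - 1) := by
        rcases Nat.eq_zero_or_pos a with h0 | h0
        · subst h0; simp
        · have : a = (a - 1) + 1 := by omega
          rw [this, pow_succ]; simp; ring_nf; rfl
      have h4 : 0 < 2 ^ (a - 1) := by positivity
      omega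
    have hrel0 : (Subgroup.zpowers y).relIndex (Q : Subgroup G) ≠ 0 := by
      intro h0
      have h1 := Subgroup.relIndex_mul_relIndex (⊥ : Subgroup G) (Subgroup.zpowers y)
          (Q : Subgroup G) bot_le (Subgroup.zpowers_le.mpr hyQ)
      rw [Subgroup.relIndex_bot_left, Subgroup.relIndex_bot_left, h0, mul_zero] at h1
      exact (Nat.card_pos (α := (Q : Subgroup G))).ne' h1.symm
    have hrelD : (Subgroup.zpowers y).relIndex D ≤ 2 :=
      (Subgroup.relIndex_le_of_le_right hQ hrel0).trans hrel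
    have hΦ := frattini_index_le_four_of_cyclic D hD y hrelD
    -- apply the coprime lemma
    have hle : Subgroup.zpowers g ≤ Subgroup.centralizer (D : Set G) := by
      apply coprime_trivial_on_frattini_quotient
      · exact Subgroup.zpowers_le.mpr hg
      · have hΦp : IsPGroup 2 (frattini D) := hD.to_subgroup _
        obtain ⟨j, hj⟩ := IsPGroup.iff_card.mp hΦp
        rw [hj, Nat.card_zpowers]
        exact Nat.Coprime.pow_right j hcop
      · intro b hb k hk
        have hb' : b ∈ Subgroup.normalizer (D : Set G) :=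
          (Subgroup.zpowers_le.mpr hg) hb
        have hbo : orderOf b ∣ orderOf g := orderOf_dvd_of_mem_zpowers hb
        exact conj_mem_frattini_of_index_le_four D hΦ b hb'
          (fun h => hg2 (h.trans hbo)) (fun h => hg3 (h.trans hbo)) k hk
    exact hle (Subgroup.mem_zpowers g)
  obtain ⟨P, N, hN, hc⟩ := hasNormalPComplement_iff_plocalCentral.mpr hPL
  refine ⟨N, hN, ?_⟩
  have h1 := hc.card_mul_card
  rw [hsyl P, hG] at h1
  have h2 : 0 < 2 ^ a := by positivity
  have h3 : Nat.card N * 2 ^ a = n * 2 ^ a := by rw [h1, mul_comm]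
  exact Nat.eq_of_mul_eq_mul_right h2 h3

end

end Cfsg.Agent.Lib.Lead
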