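import Mathlib
import Cfsg.Agent.Lib.Lead.FF2d

set_option autoImplicit false

/-!
Groups of automorphisms of an elementary abelian `2`-group generated by two conjugates of a
quadratic offender: basic set-up.
-/

namespace Cfsg.Agent.Lib.Lead

namespace DS4

open FF2

variable {W : Type*} [CommGroup W] [Finite W]

/-- conjugate of a subgroup of automorphisms -/
def cj (γ : MulAut W) (A : Subgroup (MulAut W)) : Subgroup (MulAut W) :=
  A.map (MulAut.conj γ).toMonoidHom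

theorem mem_cj {γ : MulAut W} {A : Subgroup (MulAut W)} {x : MulAut W} :
    x ∈ cj γ A ↔ ∃ a ∈ A, γ * a * γ⁻¹ = x := by
  unfold cj
  rw [Subgroup.mem_map]
  rfl

theorem conj_mem_cj {γ : MulAut W} {A : Subgroup (MulAut W)} {a : MulAut W} (ha : a ∈ A) :
    γ * a * γ⁻¹ ∈ cj γ A := mem_cj.mpr ⟨a, ha, rfl⟩

theorem cj_one (A : Subgroup (MulAut W)) : cj 1 A = A := by
  ext x
  rw [mem_cj]
  constructor
  · rintro ⟨a, ha, rfl⟩
    simpa using ha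
  · intro hx
    exact ⟨x, hx, by simp⟩

theorem cj_cj (δ γ : MulAut W) (A : Subgroup (MulAut W)) : cj δ (cj γ A) = cj (δ * γ) A := by
  ext x
  rw [mem_cj, mem_cj]
  constructor
  · rintro ⟨y, hy, rfl⟩
    obtain ⟨a, ha, rfl⟩ := mem_cj.mp hy
    exact ⟨a, ha, by group⟩
  · rintro ⟨a, ha, rfl⟩
    exact ⟨γ * a * γ⁻¹, conj_mem_cj ha, by group⟩

theorem cj_mono {γ : MulAut W} {A B : Subgroup (MulAut W)} (h : A ≤ B) : cj γ A ≤ cj γ B :=
  Subgroup.map_mono h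

theorem cj_sup (γ : MulAut W) (A B : Subgroup (MulAut W)) : cj γ (A ⊔ B) = cj γ A ⊔ cj γ B :=
  Subgroup.map_sup _ _ _

theorem cj_eq_self {γ : MulAut W} {A : Subgroup (MulAut W)} (hγ : γ ∈ A) : cj γ A = A := by
  ext x
  rw [mem_cj]
  constructor
  · rintro ⟨a, ha, rfl⟩
    exact A.mul_mem (A.mul_mem hγ ha) (A.inv_mem hγ)
  · intro hx
    exact ⟨γ⁻¹ * x * γ, A.mul_mem (A.mul_mem (A.inv_mem hγ) hx) hγ, by group⟩

theorem card_cj (γ : MulAut W) (A : Subgroup (MulAut W)) : Nat.card (cj γ A) = Nat.card A :=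
  Subgroup.card_map_of_injective (MulAut.conj γ).injective

theorem mem_Fix_cj {γ : MulAut W} {A : Subgroup (MulAut W)} {w : W} :
    w ∈ FF2.Fix (cj γ A) ↔ γ⁻¹ w ∈ FF2.Fix A := by
  constructor
  · intro hw a ha
    have := hw _ (conj_mem_cj (γ := γ) ha)
    rw [MulAut.mul_apply, MulAut.mul_apply] at this
    have h2 := congrArg (γ⁻¹ : MulAut W) this
    rwa [MulAut.inv_apply_self] at h2
  · intro hw x hx
    obtain ⟨a, ha, rfl⟩ := mem_cj.mp hx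
    rw [MulAut.mul_apply, MulAut.mul_apply, hw a ha, MulAut.apply_inv_self]

theorem map_mem_Fix_cj {γ : MulAut W} {A : Subgroup (MulAut W)} {w : W} (hw : w ∈ FF2.Fix A) :
    γ w ∈ FF2.Fix (cj γ A) := by
  rw [mem_Fix_cj, MulAut.inv_apply_self]
  exact hw

theorem Fix_cj (γ : MulAut W) (A : Subgroup (MulAut W)) :
    FF2.Fix (cj γ A) = (FF2.Fix A).map (γ : W ≃* W).toMonoidHom := by
  ext w
  rw [mem_Fix_cj, Subgroup.mem_map]
  constructor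
  · intro h
    exact ⟨γ⁻¹ w, h, MulAut.apply_inv_self W γ w⟩
  · rintro ⟨v, hv, rfl⟩
    show γ⁻¹ (γ v) ∈ FF2.Fix A
    rw [MulAut.inv_apply_self]
    exact hv

theorem card_Fix_cj (γ : MulAut W) (A : Subgroup (MulAut W)) :
    Nat.card (FF2.Fix (cj γ A)) = Nat.card (FF2.Fix A) := by
  rw [Fix_cj]
  exact Subgroup.card_map_of_injective (MulEquiv.injective _)

theorem Fix_sup (A B : Subgroup (MulAut W)) : FF2.Fix (A ⊔ B) = FF2.Fix A ⊓ FF2.Fix B := by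
  ext w
  constructor
  · intro hw
    exact ⟨Fix_anti le_sup_left hw, Fix_anti le_sup_right hw⟩
  · rintro ⟨h1, h2⟩
    have h1' : w ∈ FF2.Fix A := h1
    have h2' : w ∈ FF2.Fix B := h2
    rw [mem_Fix_iff_le_stab] at h1' h2' ⊢
    exact sup_le h1' h2'

/-- the standing hypotheses -/
structure Hyp (Γ Ab : Subgroup (MulAut W)) : Prop where
  W2 : ∀ w : W, w * w = 1
  le : Ab ≤ Γ
  ne : Ab ≠ ⊥
  exp : ∀ a ∈ Ab, a * a = 1
  comm : ∀ a ∈ Ab, ∀ a' ∈ Ab, a * a' = a' * a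
  quad : ∀ a ∈ Ab, ∀ a' ∈ Ab, ∀ w : W, a' (a w * w) = a w * w
  off : Nat.card W ≤ Nat.card Ab * Nat.card (FF2.Fix Ab)
  O2 : ∀ N : Subgroup (MulAut W), N ≤ Γ → (∀ γ ∈ Γ, ∀ n ∈ N, γ * n * γ⁻¹ ∈ N) →
    IsPGroup 2 N → N = ⊥
  ab2 : ∀ R : Subgroup (MulAut W), R ≤ Γ → IsPGroup 2 R → ∀ r ∈ R, ∀ s ∈ R, r * s = s * r
  tool : ∀ H : Subgroup (MulAut W), H ≤ Γ → H ≠ Γ → ∀ γ ∈ Γ, cj γ Ab ≤ H →
    ∃ N : Subgroup (MulAut W), N ≤ H ∧ (∀ h ∈ H, ∀ n ∈ N, h * n * h⁻¹ ∈ N) ∧ IsPGroup 2 N ∧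
      cj γ Ab ≤ N

/-- conjugates under `Γ` -/
def IsC (Γ A B : Subgroup (MulAut W)) : Prop := ∃ γ ∈ Γ, B = cj γ A

theorem IsC.refl {Γ A : Subgroup (MulAut W)} : IsC Γ A A := ⟨1, Γ.one_mem, (cj_one A).symm⟩

theorem IsC.symm {Γ A B : Subgroup (MulAut W)} (h : IsC Γ A B) : IsC Γ B A := by
  obtain ⟨γ, hγ, rfl⟩ := h
  refine ⟨γ⁻¹, Γ.inv_mem hγ, ?_⟩
  rw [cj_cj, inv_mul_cancel, cj_one]

theorem IsC.cj {Γ A B : Subgroup (MulAut W)} (h : IsC Γ A B) {δ : MulAut W} (hδ : δ ∈ Γ) :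
    IsC Γ A (cj δ B) := by
  obtain ⟨γ, hγ, rfl⟩ := h
  exact ⟨δ * γ, Γ.mul_mem hδ hγ, cj_cj δ γ A⟩

theorem Hyp.conj {Γ Ab : Subgroup (MulAut W)} (h : Hyp Γ Ab) {γ : MulAut W} (hγ : γ ∈ Γ) :
    Hyp Γ (cj γ Ab) := by
  refine ⟨h.W2, ?_, ?_, ?_, ?_, ?_, ?_, h.O2, h.ab2, ?_⟩
  · intro x hx
    obtain ⟨a, ha, rfl⟩ := mem_cj.mp hx
    exact Γ.mul_mem (Γ.mul_mem hγ (h.le ha)) (Γ.inv_mem hγ)
  · intro hbot
    apply h.ne
    apply Subgroup.eq_bot_of_card_le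
    rw [← card_cj γ Ab, hbot, Subgroup.card_bot]
  · intro x hx
    obtain ⟨a, ha, rfl⟩ := mem_cj.mp hx
    have := h.exp a ha
    calc γ * a * γ⁻¹ * (γ * a * γ⁻¹) = γ * (a * a) * γ⁻¹ := by group
      _ = 1 := by rw [this]; group
  · intro x hx y hy
    obtain ⟨a, ha, rfl⟩ := mem_cj.mp hx
    obtain ⟨b, hb, rfl⟩ := mem_cj.mp hy
    have := h.comm a ha b hb
    calc γ * a * γ⁻¹ * (γ * b * γ⁻¹) = γ * (a * b) * γ⁻¹ := by group
      _ = γ * (b * a) * γ⁻¹ := by rw [this]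
      _ = γ * b * γ⁻¹ * (γ * a * γ⁻¹) := by group
  · intro x hx y hy w
    obtain ⟨a, ha, rfl⟩ := mem_cj.mp hx
    obtain ⟨b, hb, rfl⟩ := mem_cj.mp hy
    have hq := h.quad a ha b hb (γ⁻¹ w)
    have e1 : (γ * a * γ⁻¹) w * w = γ (a (γ⁻¹ w) * γ⁻¹ w) := by
      rw [map_mul, MulAut.apply_inv_self, MulAut.mul_apply, MulAut.mul_apply]
    rw [e1, MulAut.mul_apply, MulAut.mul_apply, MulAut.inv_apply_self, hq]
  · rw [card_cj, card_Fix_cj]
    exact h.off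
  · intro H hH hne δ hδ hle
    rw [cj_cj] at hle ⊢
    exact h.tool H hH hne (δ * γ) (Γ.mul_mem hδ hγ) hle

theorem Hyp.of_isC {Γ A B : Subgroup (MulAut W)} (h : Hyp Γ A) (hB : IsC Γ A B) : Hyp Γ B := by
  obtain ⟨γ, hγ, rfl⟩ := hB
  exact h.conj hγ

theorem IsC.card {Γ A B : Subgroup (MulAut W)} (hB : IsC Γ A B) : Nat.card B = Nat.card A := by
  obtain ⟨γ, _, rfl⟩ := hB
  exact card_cj γ A

theorem IsC.card_Fix {Γ A B : Subgroup (MulAut W)} (hB : IsC Γ A B) :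
    Nat.card (FF2.Fix B) = Nat.card (FF2.Fix A) := by
  obtain ⟨γ, _, rfl⟩ := hB
  exact card_Fix_cj γ A

theorem Hyp.inv_eq {Γ A : Subgroup (MulAut W)} (h : Hyp Γ A) {a : MulAut W} (ha : a ∈ A) :
    a⁻¹ = a := inv_eq_of_mul_eq_one_left (h.exp a ha)

theorem Hyp.tool_self {Γ A : Subgroup (MulAut W)} (h : Hyp Γ A) {H : Subgroup (MulAut W)}
    (hH : H ≤ Γ) (hne : H ≠ Γ) (hA : A ≤ H) :
    ∃ N : Subgroup (MulAut W), N ≤ H ∧ (∀ h ∈ H, ∀ n ∈ N, h * n * h⁻¹ ∈ N) ∧ IsPGroup 2 N ∧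
      A ≤ N := by
  have := h.tool H hH hne 1 Γ.one_mem (by rw [cj_one]; exact hA)
  rwa [cj_one] at this

/-- a `2`-element lying with `A` in a proper subgroup commutes with `A` -/
theorem Hyp.stepA {Γ A : Subgroup (MulAut W)} (h : Hyp Γ A) {H : Subgroup (MulAut W)}
    (hH : H ≤ Γ) (hne : H ≠ Γ) (hA : A ≤ H) {e : MulAut W} (he : e ∈ H)
    (he2 : ∃ k : ℕ, e ^ 2 ^ k = 1) : ∀ a ∈ A, e * a = a * e := by
  haveI : Fact (Nat.Prime 2) := ⟨Nat.prime_two⟩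
  obtain ⟨N, hNH, hNn, hNp, hAN⟩ := h.tool_self hH hne hA
  have hep : IsPGroup 2 (Subgroup.zpowers e) := by
    obtain ⟨k, hk⟩ := he2
    rintro ⟨g, hg⟩
    obtain ⟨i, rfl⟩ := Subgroup.mem_zpowers_iff.mp hg
    refine ⟨k, Subtype.ext ?_⟩
    show (e ^ i) ^ 2 ^ k = 1
    rw [← zpow_natCast, ← zpow_mul, mul_comm, zpow_mul, zpow_natCast, hk, one_zpow]
  have hnorm : Subgroup.zpowers e ≤ Subgroup.normalizer (N : Set (MulAut W)) := by
    rw [Subgroup.zpowers_le]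
    apply Subgroup.mem_normalizer_fintype
    intro n hn
    exact hNn e he n hn
  have hR : IsPGroup 2 (Subgroup.zpowers e ⊔ N : Subgroup (MulAut W)) :=
    hep.to_sup_of_normal_right' hNp hnorm
  have hRΓ : Subgroup.zpowers e ⊔ N ≤ Γ :=
    sup_le (Subgroup.zpowers_le.mpr (hH he)) (hNH.trans hH)
  intro a ha
  exact h.ab2 _ hRΓ hR e (Subgroup.mem_sup_left (Subgroup.mem_zpowers e)) a
    (Subgroup.mem_sup_right (hAN ha))

theorem sq_two_elt {e : MulAut W} (h : e * e = 1) : ∃ k : ℕ, e ^ 2 ^ k = 1 :=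
  ⟨1, by rw [pow_one, pow_two]; exact h⟩

/-- two conjugates generate `Γ` or commute -/
theorem Hyp.stepB {Γ A B : Subgroup (MulAut W)} (h : Hyp Γ A) (hB : IsC Γ A B) :
    A ⊔ B = Γ ∨ ∀ a ∈ A, ∀ b ∈ B, b * a = a * b := by
  have hB' := h.of_isC hB
  by_cases hg : A ⊔ B = Γ
  · exact Or.inl hg
  · right
    intro a ha b hb
    exact h.stepA (sup_le h.le hB'.le) hg le_sup_left (Subgroup.mem_sup_right hb)
      (sq_two_elt (hB'.exp b hb)) a ha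

/-- `Γ` has no central `2`-elements -/
theorem Hyp.central {Γ A : Subgroup (MulAut W)} (h : Hyp Γ A) {e : MulAut W} (he : e ∈ Γ)
    (he2 : e * e = 1) (hc : ∀ γ ∈ Γ, e * γ = γ * e) : e = 1 := by
  have hN : Subgroup.zpowers e = ⊥ := by
    apply h.O2 _ (Subgroup.zpowers_le.mpr he)
    · intro γ hγ n hn
      obtain ⟨i, rfl⟩ := Subgroup.mem_zpowers_iff.mp hn
      have : γ * e ^ i * γ⁻¹ = e ^ i := by
        have h1 : Commute e γ := hc γ hγ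
        have h2 : Commute (e ^ i) γ := h1.zpow_left i
        rw [← h2.eq]; group
      rw [this]
      exact Subgroup.zpow_mem _ (Subgroup.mem_zpowers e) i
    · rintro ⟨g, hg⟩
      obtain ⟨i, rfl⟩ := Subgroup.mem_zpowers_iff.mp hg
      refine ⟨1, Subtype.ext ?_⟩
      show (e ^ i) ^ 2 ^ 1 = 1
      rw [pow_one, ← zpow_natCast, ← zpow_mul, mul_comm, zpow_mul, zpow_natCast, pow_two, he2,
        one_zpow]
  have : e ∈ Subgroup.zpowers e := Subgroup.mem_zpowers e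
  rw [hN, Subgroup.mem_bot] at this
  exact this

theorem Hyp.central_of_gen {Γ A B : Subgroup (MulAut W)} (h : Hyp Γ A) (hgen : A ⊔ B = Γ)
    {e : MulAut W} (he : e ∈ Γ) (he2 : e * e = 1) (hA : ∀ a ∈ A, e * a = a * e)
    (hB : ∀ b ∈ B, e * b = b * e) : e = 1 := by
  apply h.central he he2
  intro γ hγ
  have hle : A ⊔ B ≤ Subgroup.centralizer ({e} : Set (MulAut W)) := by
    apply sup_le
    · intro a ha
      rw [Subgroup.mem_centralizer_iff]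
      intro x hx
      rw [Set.mem_singleton_iff] at hx
      rw [hx]; exact hA a ha
    · intro b hb
      rw [Subgroup.mem_centralizer_iff]
      intro x hx
      rw [Set.mem_singleton_iff] at hx
      rw [hx]; exact hB b hb
  rw [hgen] at hle
  have := Subgroup.mem_centralizer_iff.mp (hle hγ) e rfl
  exact this

end DS4

end Cfsg.Agent.Lib.Lead
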