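import Mathlib
import Cfsg.Agent.Lib.Lead.DS4a
import Cfsg.Agent.Lib.Lead.CoprimeTools

set_option autoImplicit false

/-!
Two conjugates of a quadratic offender generating the group: the module is the sum of the two
fixed point spaces.
-/

namespace Cfsg.Agent.Lib.Lead

namespace DS4

open FF2

variable {W : Type*} [CommGroup W] [Finite W]

/-- some conjugate of `A` generates `Γ` together with `A` -/
theorem Hyp.stepC {Γ A : Subgroup (MulAut W)} (h : Hyp Γ A) : ∃ B, IsC Γ A B ∧ A ⊔ B = Γ := by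
  by_contra hno
  push Not at hno
  have hcomm : ∀ B, IsC Γ A B → ∀ a ∈ A, ∀ b ∈ B, b * a = a * b :=
    fun B hB => (h.stepB hB).resolve_left (hno B hB)
  set S : Set (MulAut W) := {x | ∃ γ ∈ Γ, ∃ a ∈ A, x = γ * a * γ⁻¹} with hS
  set M := Subgroup.closure S with hM
  have hSΓ : S ⊆ Γ := by
    rintro _ ⟨γ, hγ, a, ha, rfl⟩
    exact Γ.mul_mem (Γ.mul_mem hγ (h.le ha)) (Γ.inv_mem hγ)
  have hMΓ : M ≤ Γ := (Subgroup.closure_le Γ).mpr hSΓ
  have hSc : ∀ x ∈ S, ∀ y ∈ S, x * y = y * x := by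
    rintro _ ⟨γ, hγ, a, ha, rfl⟩ _ ⟨δ, hδ, b, hb, rfl⟩
    have hB : IsC Γ A (cj (γ⁻¹ * δ) A) := ⟨γ⁻¹ * δ, Γ.mul_mem (Γ.inv_mem hγ) hδ, rfl⟩
    have := hcomm _ hB a ha _ (conj_mem_cj (γ := γ⁻¹ * δ) hb)
    calc γ * a * γ⁻¹ * (δ * b * δ⁻¹)
        = γ * (a * ((γ⁻¹ * δ) * b * (γ⁻¹ * δ)⁻¹)) * γ⁻¹ := by group
      _ = γ * ((γ⁻¹ * δ) * b * (γ⁻¹ * δ)⁻¹ * a) * γ⁻¹ := by rw [this]
      _ = δ * b * δ⁻¹ * (γ * a * γ⁻¹) := by group
  have hMc : ∀ x ∈ M, ∀ y ∈ M, x * y = y * x := by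
    have h1 : M ≤ Subgroup.centralizer S := by
      rw [hM, Subgroup.closure_le]
      intro x hx
      rw [SetLike.mem_coe, Subgroup.mem_centralizer_iff]
      intro y hy
      exact hSc y hy x hx
    have h2 : M ≤ Subgroup.centralizer (M : Set (MulAut W)) := by
      rw [hM, Subgroup.closure_le]
      intro x hx
      rw [SetLike.mem_coe, Subgroup.mem_centralizer_iff]
      intro y hy
      exact (Subgroup.mem_centralizer_iff.mp (h1 hy) x hx).symm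
    intro x hx y hy
    exact Subgroup.mem_centralizer_iff.mp (h2 hy) x hx
  have hM2 : ∀ x ∈ M, x * x = 1 := by
    intro x hx
    induction hx using Subgroup.closure_induction with
    | mem x hx =>
      obtain ⟨γ, hγ, a, ha, rfl⟩ := hx
      calc γ * a * γ⁻¹ * (γ * a * γ⁻¹) = γ * (a * a) * γ⁻¹ := by group
        _ = 1 := by rw [h.exp a ha]; group
    | one => simp
    | mul x y hx hy ihx ihy =>
      have := hMc x hx y hy
      calc x * y * (x * y) = x * (y * x) * y := by group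
        _ = x * (x * y) * y := by rw [← this]
        _ = (x * x) * (y * y) := by group
        _ = 1 := by rw [ihx, ihy, one_mul]
    | inv x hx ihx =>
      calc x⁻¹ * x⁻¹ = (x * x)⁻¹ := by group
        _ = 1 := by rw [ihx, inv_one]
  have hMn : ∀ γ ∈ Γ, ∀ n ∈ M, γ * n * γ⁻¹ ∈ M := by
    intro γ hγ n hn
    induction hn using Subgroup.closure_induction with
    | mem x hx =>
      obtain ⟨δ, hδ, a, ha, rfl⟩ := hx
      apply Subgroup.subset_closure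
      exact ⟨γ * δ, Γ.mul_mem hγ hδ, a, ha, by group⟩
    | one =>
      have : γ * 1 * γ⁻¹ = 1 := by group
      rw [this]; exact M.one_mem
    | mul x y _ _ ihx ihy =>
      have : γ * (x * y) * γ⁻¹ = (γ * x * γ⁻¹) * (γ * y * γ⁻¹) := by group
      rw [this]; exact M.mul_mem ihx ihy
    | inv x _ ihx =>
      have : γ * x⁻¹ * γ⁻¹ = (γ * x * γ⁻¹)⁻¹ := by group
      rw [this]; exact M.inv_mem ihx
  have hMp : IsPGroup 2 M := by
    rintro ⟨g, hg⟩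
    refine ⟨1, Subtype.ext ?_⟩
    show g ^ 2 ^ 1 = 1
    rw [pow_one, pow_two]
    exact hM2 g hg
  have hMbot := h.O2 M hMΓ hMn hMp
  apply h.ne
  rw [eq_bot_iff, ← hMbot]
  intro a ha
  apply Subgroup.subset_closure
  exact ⟨1, Γ.one_mem, a, ha, by group⟩

/-- a generating pair of conjugates -/
structure Pair (Γ A B : Subgroup (MulAut W)) : Prop where
  hyp : Hyp Γ A
  isC : IsC Γ A B
  gen : A ⊔ B = Γ

variable {Γ A B : Subgroup (MulAut W)}

theorem Pair.symm (P : Pair Γ A B) : Pair Γ B A :=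
  ⟨P.hyp.of_isC P.isC, P.isC.symm, by rw [sup_comm]; exact P.gen⟩

theorem Pair.hypB (P : Pair Γ A B) : Hyp Γ B := P.symm.hyp

theorem Pair.Fix_eq (P : Pair Γ A B) : FF2.Fix Γ = FF2.Fix A ⊓ FF2.Fix B := by
  rw [← P.gen, Fix_sup]

omit [Finite W] in
theorem cm_mul (hW2 : ∀ w : W, w * w = 1) (γ δ : MulAut W) (y : W)
    (hfix : γ (δ y * y) = δ y * y) : (γ * δ) y * y = (δ y * y) * (γ y * y) := by
  have h2 : γ (δ y) = γ (δ y * y) * γ y := by rw [← map_mul, mul_assoc, hW2, mul_one]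
  rw [MulAut.mul_apply, h2, hfix, mul_assoc]

/-- the stabilizer in `Γ` of a coset of the fixed points of `Γ` -/
def stC (hW2 : ∀ w : W, w * w = 1) (Γ : Subgroup (MulAut W)) (y : W) : Subgroup (MulAut W) where
  carrier := {γ | γ ∈ Γ ∧ γ y * y ∈ FF2.Fix Γ}
  mul_mem' := by
    rintro γ δ ⟨hγ, hγy⟩ ⟨hδ, hδy⟩
    refine ⟨Γ.mul_mem hγ hδ, ?_⟩
    rw [cm_mul hW2 γ δ y ((mem_Fix.mp hδy) γ hγ)]
    exact (FF2.Fix Γ).mul_mem hδy hγy
  one_mem' := ⟨Γ.one_mem, by rw [MulAut.one_apply, hW2]; exact (FF2.Fix Γ).one_mem⟩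
  inv_mem' := by
    rintro γ ⟨hγ, hγy⟩
    refine ⟨Γ.inv_mem hγ, ?_⟩
    have h1 : γ⁻¹ (γ y * y) = γ y * y := (mem_Fix.mp hγy) γ⁻¹ (Γ.inv_mem hγ)
    rw [map_mul, MulAut.inv_apply_self] at h1
    rw [mul_comm, h1]
    exact hγy

theorem Pair.stC_ne (P : Pair Γ A B) {y : W} (hy : y ∈ FF2.Fix B) (hyC : y ∉ FF2.Fix Γ) :
    stC P.hyp.W2 Γ y ≠ Γ := by
  intro heq
  have hall : ∀ γ ∈ Γ, γ y * y ∈ FF2.Fix Γ := by
    intro γ hγ
    have : γ ∈ stC P.hyp.W2 Γ y := by rw [heq]; exact hγ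
    exact this.2
  apply hyC
  have hconj : ∀ δ ∈ Γ, ∀ γ ∈ Γ, γ y = y → (δ * γ * δ⁻¹) y = y := by
    intro δ hδ γ hγ hγy
    have hc := hall δ⁻¹ (Γ.inv_mem hδ)
    have h1 : δ⁻¹ y = y * (δ⁻¹ y * y) := by
      rw [mul_comm (δ⁻¹ y) y, ← mul_assoc, P.hyp.W2, one_mul]
    have h2 : γ (y * (δ⁻¹ y * y)) = y * (δ⁻¹ y * y) := by
      rw [map_mul, hγy, (mem_Fix.mp hc) γ hγ]
    rw [MulAut.mul_apply, MulAut.mul_apply, h1, h2, ← h1, MulAut.apply_inv_self]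
  obtain ⟨γ₀, hγ₀, hBA⟩ := P.isC.symm
  have hB : ∀ b ∈ B, b y = y := fun b hb => (mem_Fix.mp hy) b hb
  have hA : ∀ a ∈ A, a y = y := by
    intro a ha
    rw [hBA] at ha
    obtain ⟨b, hb, rfl⟩ := mem_cj.mp ha
    exact hconj γ₀ hγ₀ b (P.hypB.le hb) (hB b hb)
  rw [P.Fix_eq]
  exact ⟨fun a ha => hA a ha, hy⟩

/-- an involution of `Γ` commuting with `A` and fixing a coset `y C` with `y ∈ C_W(B) ∖ C` is
trivial -/
theorem Pair.eq_one_of_comm_mem (P : Pair Γ A B) {y : W} (hy : y ∈ FF2.Fix B)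
    (hyC : y ∉ FF2.Fix Γ) {e : MulAut W} (heΓ : e ∈ Γ) (he2 : e * e = 1)
    (heA : ∀ a ∈ A, e * a = a * e) (hc : e y * y ∈ FF2.Fix Γ) : e = 1 := by
  have hne := P.stC_ne hy hyC
  have hH : stC P.hyp.W2 Γ y ≤ Γ := fun γ hγ => hγ.1
  have hBH : B ≤ stC P.hyp.W2 Γ y := by
    intro b hb
    refine ⟨P.hypB.le hb, ?_⟩
    show b y * y ∈ FF2.Fix Γ
    rw [(mem_Fix.mp hy) b hb, P.hyp.W2]
    exact (FF2.Fix Γ).one_mem
  have heH : e ∈ stC P.hyp.W2 Γ y := ⟨heΓ, hc⟩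
  have hcomm := P.hypB.stepA hH hne hBH heH (sq_two_elt he2)
  exact P.hyp.central_of_gen P.gen heΓ he2 heA hcomm

theorem Pair.eq_one_of_mem (P : Pair Γ A B) {y : W} (hy : y ∈ FF2.Fix B)
    (hyC : y ∉ FF2.Fix Γ) {a : MulAut W} (ha : a ∈ A) (hc : a y * y ∈ FF2.Fix Γ) : a = 1 :=
  P.eq_one_of_comm_mem hy hyC (P.hyp.le ha) (P.hyp.exp a ha)
    (fun a' ha' => P.hyp.comm a ha a' ha') hc

theorem Pair.cm_mem_Fix (P : Pair Γ A B) {a : MulAut W} (ha : a ∈ A) (y : W) :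
    a y * y ∈ FF2.Fix A := fun a' ha' => P.hyp.quad a ha a' ha' y

theorem Pair.inj_aux (P : Pair Γ A B) {y : W} (hy : y ∈ FF2.Fix B) (hyC : y ∉ FF2.Fix Γ)
    {a a' : MulAut W} (ha : a ∈ A) (ha' : a' ∈ A) {c c' : W} (hc : c ∈ FF2.Fix Γ)
    (hc' : c' ∈ FF2.Fix Γ) (heq : a y * y * c = a' y * y * c') : a = a' ∧ c = c' := by
  have hW2 := P.hyp.W2
  have hu : a y * y = a' y * y * c' * c := by
    calc a y * y = a y * y * c * c := by rw [mul_assoc (a y * y), hW2, mul_one]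
      _ = a' y * y * c' * c := by rw [heq]
  have h1 : (a * a') y * y = c' * c := by
    rw [cm_mul hW2 a a' y (P.hyp.quad a' ha' a ha y), hu]
    calc (a' y * y) * (a' y * y * c' * c) = ((a' y * y) * (a' y * y)) * (c' * c) := by ac_rfl
      _ = c' * c := by rw [hW2, one_mul]
  have h2 : a * a' = 1 := by
    apply P.eq_one_of_mem hy hyC (A.mul_mem ha ha')
    rw [h1]
    exact (FF2.Fix Γ).mul_mem hc' hc
  have h3 : a = a' := by
    have := eq_inv_of_mul_eq_one_left h2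
    rwa [P.hyp.inv_eq ha'] at this
  refine ⟨h3, ?_⟩
  rw [h3] at heq
  exact mul_left_cancel heq

/-- the map `(a, c) ↦ [y, a] c` -/
def pmap (P : Pair Γ A B) (y : W) : A × FF2.Fix Γ → FF2.Fix A := fun p =>
  ⟨(p.1 : MulAut W) y * y * (p.2 : W),
    (FF2.Fix A).mul_mem (P.cm_mem_Fix p.1.2 y) (Fix_anti P.hyp.le p.2.2)⟩

theorem Pair.pmap_injective (P : Pair Γ A B) {y : W} (hy : y ∈ FF2.Fix B)
    (hyC : y ∉ FF2.Fix Γ) : Function.Injective (pmap P y) := by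
  rintro ⟨⟨a, ha⟩, ⟨c, hc⟩⟩ ⟨⟨a', ha'⟩, ⟨c', hc'⟩⟩ heq
  have heq' : a y * y * c = a' y * y * c' := congrArg Subtype.val heq
  obtain ⟨h1, h2⟩ := P.inj_aux hy hyC ha ha' hc hc' heq'
  subst h1; subst h2; rfl

theorem Pair.card_le (P : Pair Γ A B) {y : W} (hy : y ∈ FF2.Fix B) (hyC : y ∉ FF2.Fix Γ) :
    Nat.card A * Nat.card (FF2.Fix Γ) ≤ Nat.card (FF2.Fix A) := by
  have := Nat.card_le_card_of_injective _ (P.pmap_injective hy hyC)
  rwa [Nat.card_prod] at this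

/-- the degenerate case does not occur -/
theorem Pair.exists_not_mem (P : Pair Γ A B) : ∃ y ∈ FF2.Fix B, y ∉ FF2.Fix Γ := by
  by_contra hno
  push Not at hno
  have hW2 := P.hyp.W2
  have hBΓ : FF2.Fix B = FF2.Fix Γ := le_antisymm hno (Fix_anti P.hypB.le)
  have hBA : FF2.Fix B ≤ FF2.Fix A := by
    rw [hBΓ, P.Fix_eq]; exact inf_le_left
  have hAB : FF2.Fix B = FF2.Fix A :=
    Subgroup.eq_of_le_of_card_ge hBA (le_of_eq P.isC.card_Fix.symm)
  have hAΓ : FF2.Fix A = FF2.Fix Γ := by rw [← hAB, hBΓ]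
  have hall : ∀ w : W, Γ ≤ stC hW2 Γ w := by
    intro w
    have hsup : A ⊔ B ≤ stC hW2 Γ w := by
      apply sup_le
      · intro a ha
        refine ⟨P.hyp.le ha, ?_⟩
        show a w * w ∈ FF2.Fix Γ
        rw [← hAΓ]
        exact P.cm_mem_Fix ha w
      · intro b hb
        refine ⟨P.hypB.le hb, ?_⟩
        show b w * w ∈ FF2.Fix Γ
        rw [← hBΓ]
        exact P.symm.cm_mem_Fix hb w
    rwa [P.gen] at hsup
  have hΓ2 : ∀ γ ∈ Γ, γ * γ = 1 := by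
    intro γ hγ
    ext w
    have hc : γ w * w ∈ FF2.Fix Γ := (hall w hγ).2
    have h1 : γ (γ w * w) = γ w * w := (mem_Fix.mp hc) γ hγ
    rw [map_mul] at h1
    rw [MulAut.mul_apply, MulAut.one_apply]
    have h2 : γ (γ w) * γ w * γ w = γ w * w * γ w := by rw [h1]
    rw [mul_assoc, hW2, mul_one] at h2
    rw [h2]
    calc γ w * w * γ w = (γ w * γ w) * w := by ac_rfl
      _ = w := by rw [hW2, one_mul]
  have hΓp : IsPGroup 2 Γ := by
    rintro ⟨g, hg⟩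
    refine ⟨1, Subtype.ext ?_⟩
    show g ^ 2 ^ 1 = 1
    rw [pow_one, pow_two]
    exact hΓ2 g hg
  have hΓbot : Γ = ⊥ := by
    apply P.hyp.O2 Γ le_rfl _ hΓp
    intro γ hγ n hn
    exact Γ.mul_mem (Γ.mul_mem hγ hn) (Γ.inv_mem hγ)
  apply P.hyp.ne
  rw [eq_bot_iff, ← hΓbot]
  exact P.hyp.le

theorem Pair.cards (P : Pair Γ A B) :
    Nat.card (FF2.Fix A) = Nat.card A * Nat.card (FF2.Fix Γ) ∧
    Nat.card W = Nat.card A * Nat.card (FF2.Fix A) ∧ FF2.Fix A ⊔ FF2.Fix B = ⊤ := by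
  obtain ⟨y, hy, hyC⟩ := P.exists_not_mem
  have h1 := P.card_le hy hyC
  have h2 := P.hyp.off
  have h3 := card_sup_mul_card_inf (FF2.Fix A) (FF2.Fix B)
    (by rw [Subgroup.normalizer_eq_top_iff.mpr inferInstance]; exact le_top)
  rw [← P.Fix_eq, P.isC.card_Fix] at h3
  have hs : Nat.card (FF2.Fix A ⊔ FF2.Fix B : Subgroup W) ≤ Nat.card W :=
    Subgroup.card_le_card_group _
  set x := Nat.card (FF2.Fix A) with hx
  set q := Nat.card A with hq
  set c := Nat.card (FF2.Fix Γ) with hc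
  set n := Nat.card W with hn
  set s := Nat.card (FF2.Fix A ⊔ FF2.Fix B : Subgroup W) with hs'
  have hx0 : 0 < x := Nat.card_pos
  have hc0 : 0 < c := Nat.card_pos
  have e1 : x * x ≤ x * (q * c) := by
    calc x * x = s * c := h3.symm
      _ ≤ n * c := Nat.mul_le_mul_right c hs
      _ ≤ (q * x) * c := Nat.mul_le_mul_right c h2
      _ = x * (q * c) := by ring
  have e2 : x ≤ q * c := Nat.le_of_mul_le_mul_left e1 hx0
  have hxq : x = q * c := le_antisymm e2 h1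
  have e3 : n * c ≤ s * c := by
    calc n * c ≤ (q * x) * c := Nat.mul_le_mul_right c h2
      _ = x * (q * c) := by ring
      _ = x * x := by rw [← hxq]
      _ = s * c := h3.symm
  have hsn : n ≤ s := Nat.le_of_mul_le_mul_right e3 hc0
  have hsn' : s = n := le_antisymm hs hsn
  have e4 : (q * x) * c = n * c := by
    calc (q * x) * c = x * (q * c) := by ring
      _ = x * x := by rw [← hxq]
      _ = s * c := h3.symm
      _ = n * c := by rw [hsn']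
  have hnq : n = q * x := (Nat.eq_of_mul_eq_mul_right hc0 e4).symm
  refine ⟨hxq, hnq, ?_⟩
  exact (Subgroup.card_eq_iff_eq_top _).mp hsn'

theorem Pair.mem_Fix_of_cm_mem (P : Pair Γ A B) {a : MulAut W} (ha : a ∈ A) (ha1 : a ≠ 1)
    {w : W} (hc : a w * w ∈ FF2.Fix Γ) : w ∈ FF2.Fix A := by
  have hW2 := P.hyp.W2
  have htop : w ∈ FF2.Fix A ⊔ FF2.Fix B := by rw [P.cards.2.2]; trivial
  obtain ⟨x, hx, y, hy, rfl⟩ := Subgroup.mem_sup.mp htop
  have hax : a x = x := (mem_Fix.mp hx) a ha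
  have e : a (x * y) * (x * y) = a y * y := by
    rw [map_mul, hax]
    calc x * a y * (x * y) = (x * x) * (a y * y) := by ac_rfl
      _ = a y * y := by rw [hW2, one_mul]
  rw [e] at hc
  by_cases hyC : y ∈ FF2.Fix Γ
  · exact (FF2.Fix A).mul_mem hx (Fix_anti P.hyp.le hyC)
  · exact absurd (P.eq_one_of_mem hy hyC ha hc) ha1

theorem Pair.mem_of_map_mem (P : Pair Γ A B) {b : MulAut W} (hb : b ∈ B) (hb1 : b ≠ 1)
    {x : W} (hx : x ∈ FF2.Fix A) (hbx : b x ∈ FF2.Fix A) : x ∈ FF2.Fix Γ := by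
  have h1 : b x * x ∈ FF2.Fix A := (FF2.Fix A).mul_mem hbx hx
  have h2 : b x * x ∈ FF2.Fix B := P.symm.cm_mem_Fix hb x
  have h3 : b x * x ∈ FF2.Fix Γ := by rw [P.Fix_eq]; exact ⟨h1, h2⟩
  have h4 : x ∈ FF2.Fix B := by
    have := P.symm.mem_Fix_of_cm_mem hb hb1 (w := x)
    apply this
    exact h3
  rw [P.Fix_eq]
  exact ⟨hx, h4⟩

theorem Pair.exists_cm (P : Pair Γ A B) {y : W} (hy : y ∈ FF2.Fix B) (hyC : y ∉ FF2.Fix Γ)
    {x' : W} (hx' : x' ∈ FF2.Fix A) : ∃ a ∈ A, a y * y * x' ∈ FF2.Fix Γ := by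
  have hW2 := P.hyp.W2
  have hbij : Function.Bijective (pmap P y) := by
    apply (P.pmap_injective hy hyC).bijective_of_nat_card_le
    rw [Nat.card_prod, P.cards.1]
  obtain ⟨⟨⟨a, ha⟩, ⟨c, hc⟩⟩, hp⟩ := hbij.2 ⟨x', hx'⟩
  have hp' : a y * y * c = x' := congrArg Subtype.val hp
  refine ⟨a, ha, ?_⟩
  rw [← hp']
  have : a y * y * (a y * y * c) = c := by
    calc a y * y * (a y * y * c) = ((a y * y) * (a y * y)) * c := by ac_rfl
      _ = c := by rw [hW2, one_mul]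
  rw [this]
  exact hc

end DS4

end Cfsg.Agent.Lib.Lead
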