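import Mathlib
import Cfsg.Agent.Lib.Lead.DS4b

set_option autoImplicit false

/-!
Two conjugates of a quadratic offender generating the group: conjugates with a common fixed point
coincide, and an element of order three inverted by an involution.
-/

namespace Cfsg.Agent.Lib.Lead

namespace DS4

open FF2

variable {W : Type*} [CommGroup W] [Finite W]

theorem IsC.trans {Γ A B D : Subgroup (MulAut W)} (h1 : IsC Γ A B) (h2 : IsC Γ B D) :
    IsC Γ A D := by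
  obtain ⟨γ, hγ, rfl⟩ := h1
  obtain ⟨δ, hδ, rfl⟩ := h2
  exact ⟨δ * γ, Γ.mul_mem hδ hγ, cj_cj δ γ A⟩

variable {Γ A B : Subgroup (MulAut W)}

theorem Pair.conj_left (P : Pair Γ A B) {b : MulAut W} (hb : b ∈ B) : Pair Γ (cj b A) B := by
  have hbΓ : b ∈ Γ := P.hypB.le hb
  refine ⟨P.hyp.conj hbΓ, ?_, ?_⟩
  · exact (IsC.refl.cj hbΓ).symm.trans P.isC
  · have : cj b (A ⊔ B) = cj b A ⊔ B := by rw [cj_sup, cj_eq_self hb]
    rw [← this, P.gen, cj_eq_self hbΓ]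

theorem Pair.inf_Fix_cj_le (P : Pair Γ A B) {b : MulAut W} (hb : b ∈ B) (hb1 : b ≠ 1) :
    FF2.Fix A ⊓ FF2.Fix (cj b A) ≤ FF2.Fix Γ := by
  rintro u ⟨hu1, hu2⟩
  have hu1' : u ∈ FF2.Fix A := hu1
  have hu2' : u ∈ FF2.Fix (cj b A) := hu2
  rw [mem_Fix_cj] at hu2'
  have h1 : b (b⁻¹ u) ∈ FF2.Fix A := by rw [MulAut.apply_inv_self]; exact hu1'
  have h2 := P.mem_of_map_mem hb hb1 hu2' h1
  have h3 : b (b⁻¹ u) = b⁻¹ u := (mem_Fix.mp h2) b (P.hypB.le hb)
  rw [MulAut.apply_inv_self] at h3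
  rw [h3]
  exact h2

/-- if `w = x y` with `x ∈ C_W(A) ∖ C`, `y ∈ C_W(B)` and `[x, b] y ∈ C` then `w ∈ C_W(A^b)` -/
theorem Pair.mem_Fix_cj_of (P : Pair Γ A B) {b : MulAut W} (hb : b ∈ B) {x y : W}
    (hx : x ∈ FF2.Fix A) (hbc : b x * x * y ∈ FF2.Fix Γ) : x * y ∈ FF2.Fix (cj b A) := by
  have hW2 := P.hyp.W2
  have hbc0 : b (b x * x * y) = b x * x * y := (mem_Fix.mp hbc) b (P.hypB.le hb)
  have e : x * y = b (x * (b x * x * y)) := by
    rw [map_mul, hbc0]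
    calc x * y = (b x * b x) * (x * y) := by rw [hW2, one_mul]
      _ = b x * (b x * x * y) := by ac_rfl
  rw [e]
  exact map_mem_Fix_cj ((FF2.Fix A).mul_mem hx (Fix_anti P.hyp.le hbc))

theorem stab_inf_ne {Γ : Subgroup (MulAut W)} {v : W} (hv : v ∉ FF2.Fix Γ) :
    Γ ⊓ FF2.stab v ≠ Γ := by
  intro heq
  apply hv
  rw [mem_Fix_iff_le_stab, ← heq]
  exact inf_le_right

/-- conjugates with a common fixed point outside `C_W(Γ)` coincide -/
theorem Pair.ti (P : Pair Γ A B) {A₂ : Subgroup (MulAut W)} (hA₂ : IsC Γ A A₂) {z : W}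
    (hz1 : z ∈ FF2.Fix A) (hz2 : z ∈ FF2.Fix A₂) (hzC : z ∉ FF2.Fix Γ) : A₂ = A := by
  have hW2 := P.hyp.W2
  have h2 : Hyp Γ A₂ := P.hyp.of_isC hA₂
  have hcommv : ∀ v : W, v ∉ FF2.Fix Γ → v ∈ FF2.Fix A₂ → ∀ A' : Subgroup (MulAut W),
      Hyp Γ A' → v ∈ FF2.Fix A' → ∀ e ∈ A₂, ∀ a ∈ A', e * a = a * e := by
    intro v hvC hv2 A' hA' hvA' e he
    apply hA'.stepA (H := Γ ⊓ FF2.stab v) inf_le_left (stab_inf_ne hvC)
    · exact le_inf hA'.le (mem_Fix_iff_le_stab.mp hvA')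
    · exact ⟨h2.le he, (mem_Fix.mp hv2) e he⟩
    · exact sq_two_elt (h2.exp e he)
  have hcomm : ∀ e ∈ A₂, ∀ a ∈ A, e * a = a * e := hcommv z hzC hz2 A P.hyp hz1
  by_contra hne
  by_cases hF : FF2.Fix A₂ = FF2.Fix A
  · have : ∃ a₂ ∈ A₂, a₂ ∉ A := by
      by_contra hall
      push Not at hall
      exact hne (Subgroup.eq_of_le_of_card_ge hall (le_of_eq hA₂.card.symm))
    obtain ⟨a₂, ha₂, ha₂A⟩ := this
    obtain ⟨y, hy, hyC⟩ := P.exists_not_mem
    have hq : a₂ y * y ∈ FF2.Fix A := by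
      rw [← hF]
      exact fun a' ha' => h2.quad a₂ ha₂ a' ha' y
    obtain ⟨a, ha, hac⟩ := P.exists_cm hy hyC hq
    have he2 : (a * a₂) * (a * a₂) = 1 := by
      have hc := hcomm a₂ ha₂ a ha
      calc a * a₂ * (a * a₂) = a * (a₂ * a) * a₂ := by group
        _ = a * (a * a₂) * a₂ := by rw [hc]
        _ = (a * a) * (a₂ * a₂) := by group
        _ = 1 := by rw [P.hyp.exp a ha, h2.exp a₂ ha₂, one_mul]
    have heΓ : a * a₂ ∈ Γ := Γ.mul_mem (P.hyp.le ha) (h2.le ha₂)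
    have heA : ∀ a' ∈ A, (a * a₂) * a' = a' * (a * a₂) := by
      intro a' ha'
      have c1 := hcomm a₂ ha₂ a' ha'
      have c2 := P.hyp.comm a ha a' ha'
      calc a * a₂ * a' = a * (a₂ * a') := by group
        _ = a * (a' * a₂) := by rw [c1]
        _ = (a * a') * a₂ := by group
        _ = (a' * a) * a₂ := by rw [c2]
        _ = a' * (a * a₂) := by group
    have hec : (a * a₂) y * y ∈ FF2.Fix Γ := by
      rw [cm_mul hW2 a a₂ y ((mem_Fix.mp hq) a ha), mul_comm]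
      exact hac
    have he1 := P.eq_one_of_comm_mem hy hyC heΓ he2 heA hec
    apply ha₂A
    have : a₂ = a⁻¹ := eq_inv_of_mul_eq_one_right he1
    rw [this]
    exact A.inv_mem ha
  · have : ∃ w ∈ FF2.Fix A₂, w ∉ FF2.Fix A := by
      by_contra hall
      push Not at hall
      exact hF (Subgroup.eq_of_le_of_card_ge hall (le_of_eq hA₂.card_Fix.symm))
    obtain ⟨w, hw2, hwA⟩ := this
    have hwC : w ∉ FF2.Fix Γ := fun h => hwA (Fix_anti P.hyp.le h)
    have hkey : ∃ B' : Subgroup (MulAut W), A ⊔ B' = Γ ∧ ∀ e ∈ A₂, ∀ b ∈ B', e * b = b * e := by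
      have htop : w ∈ FF2.Fix A ⊔ FF2.Fix B := by rw [P.cards.2.2]; trivial
      obtain ⟨x, hx, y, hy, hxy⟩ := Subgroup.mem_sup.mp htop
      have hyC : y ∉ FF2.Fix Γ := by
        intro h
        apply hwA
        rw [← hxy]
        exact (FF2.Fix A).mul_mem hx (Fix_anti P.hyp.le h)
      by_cases hxC : x ∈ FF2.Fix Γ
      · have hwB : w ∈ FF2.Fix B := by
          rw [← hxy]
          exact (FF2.Fix B).mul_mem (Fix_anti P.hypB.le hxC) hy
        exact ⟨B, P.gen, hcommv w hwC hw2 B P.hypB hwB⟩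
      · obtain ⟨b, hb, hbc⟩ := P.symm.exists_cm hx hxC hy
        have hb1 : b ≠ 1 := by
          rintro rfl
          rw [MulAut.one_apply, hW2, one_mul] at hbc
          exact hyC hbc
        have hP' := P.conj_left hb
        have hwb : w ∈ FF2.Fix (cj b A) := by
          rw [← hxy]
          exact P.mem_Fix_cj_of hb hx hbc
        refine ⟨cj b A, ?_, hcommv w hwC hw2 (cj b A) hP'.hyp hwb⟩
        rcases P.hyp.stepB (IsC.refl.cj (P.hypB.le hb)) with hg | hc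
        · exact hg
        · exfalso
          obtain ⟨⟨b', hb'⟩, hb'1⟩ := (Subgroup.ne_bot_iff_exists_ne_one).mp hP'.hyp.ne
          have hb'1' : b' ≠ 1 := fun h => hb'1 (Subtype.ext h)
          apply hxC
          apply P.inf_Fix_cj_le hb hb1
          refine ⟨hx, ?_⟩
          apply hP'.mem_Fix_of_cm_mem hb' hb'1'
          apply P.inf_Fix_cj_le hb hb1
          refine ⟨?_, hP'.cm_mem_Fix hb' x⟩
          apply (FF2.Fix A).mul_mem _ hx
          exact mem_Fix_of_commute (fun a ha => (hc a ha b' hb').symm) hx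
    obtain ⟨B', hgen', hB'⟩ := hkey
    apply h2.ne
    rw [eq_bot_iff]
    intro e he
    rw [Subgroup.mem_bot]
    exact P.hyp.central_of_gen hgen' (h2.le he) (h2.exp e he) (hcomm e he) (hB' e he)

theorem cj_pow_eq {g : MulAut W} {A : Subgroup (MulAut W)} (h : cj g A = A) (j : ℕ) :
    cj (g ^ j) A = A := by
  induction j with
  | zero => rw [pow_zero, cj_one]
  | succ j ih => rw [pow_succ, ← cj_cj, h, ih]

/-- an element of order three inverted by an involution -/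
theorem Pair.exists_three (P : Pair Γ A B) :
    ∃ a x : MulAut W, a ∈ Γ ∧ x ∈ Γ ∧ a * a = 1 ∧ x ^ 3 = 1 ∧ x ≠ 1 ∧ a * x = x⁻¹ * a := by
  have hW2 := P.hyp.W2
  obtain ⟨⟨a, ha⟩, ha1⟩ := (Subgroup.ne_bot_iff_exists_ne_one).mp P.hyp.ne
  have ha1' : a ≠ 1 := fun h => ha1 (Subtype.ext h)
  obtain ⟨y₀, hy₀, hy₀C⟩ := P.exists_not_mem
  have hx : a y₀ * y₀ ∈ FF2.Fix A := P.cm_mem_Fix ha y₀
  have hxC : a y₀ * y₀ ∉ FF2.Fix Γ := fun h => ha1' (P.eq_one_of_mem hy₀ hy₀C ha h)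
  obtain ⟨b, hb, hbc⟩ := P.symm.exists_cm hx hxC hy₀
  have hb1 : b ≠ 1 := by
    rintro rfl
    rw [MulAut.one_apply, hW2, one_mul] at hbc
    exact hy₀C hbc
  have haΓ : a ∈ Γ := P.hyp.le ha
  have hbΓ : b ∈ Γ := P.hypB.le hb
  have hz : a y₀ = (a y₀ * y₀) * y₀ := by rw [mul_assoc, hW2, mul_one]
  have hz1 : a y₀ ∈ FF2.Fix (cj b A) := by
    rw [hz]
    exact P.mem_Fix_cj_of hb hx hbc
  have hz2 : a y₀ ∈ FF2.Fix (cj a B) := map_mem_Fix_cj hy₀
  have hzC : a y₀ ∉ FF2.Fix Γ := by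
    intro h
    apply hy₀C
    have h1 : a⁻¹ (a y₀) = a y₀ := (mem_Fix.mp h) a⁻¹ (Γ.inv_mem haΓ)
    rw [MulAut.inv_apply_self] at h1
    rw [h1]
    exact h
  have hP' := P.conj_left hb
  have hD : cj a B = cj b A := hP'.ti (hP'.isC.cj haΓ) hz1 hz2 hzC
  have haa : a * a = 1 := P.hyp.exp a ha
  have hbb : b * b = 1 := P.hypB.exp b hb
  have htA : cj (a * b) A = B := by
    rw [← cj_cj, ← hD, cj_cj, haa, cj_one]
  have htB : cj (a * b) B = cj b A := by
    rw [← cj_cj, cj_eq_self hb, hD]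
  have htD : cj (a * b) (cj b A) = A := by
    rw [← cj_cj, cj_cj b b, hbb, cj_one, cj_eq_self ha]
  have ht3 : cj ((a * b) ^ 3) A = A := by
    rw [pow_succ, pow_two, ← cj_cj, ← cj_cj, htA, htB, htD]
  have hAB : B ≠ A := by
    intro h
    apply hy₀C
    rw [P.Fix_eq]
    refine ⟨?_, hy₀⟩
    rw [← h]
    exact hy₀
  have hdvd : 3 ∣ orderOf (a * b) := by
    by_contra hnd
    have hcop : Nat.Coprime 3 (orderOf (a * b)) :=
      (Nat.Prime.coprime_iff_not_dvd Nat.prime_three).mpr hnd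
    obtain ⟨j, hj⟩ := exists_pow_eq_self_of_coprime hcop
    apply hAB
    rw [← htA, ← hj]
    exact cj_pow_eq ht3 j
  obtain ⟨k, hk⟩ := hdvd
  have hpos : 0 < orderOf (a * b) := orderOf_pos _
  have hk0 : k ≠ 0 := by
    rintro rfl
    omega
  refine ⟨a, (a * b) ^ k, haΓ, Γ.pow_mem (Γ.mul_mem haΓ hbΓ) k, haa, ?_, ?_, ?_⟩
  · rw [← pow_mul, mul_comm, ← hk]
    exact pow_orderOf_eq_one _
  · apply pow_ne_one_of_lt_orderOf hk0
    omega
  · have h1 : SemiconjBy a (a * b) (a * b)⁻¹ := by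
      show a * (a * b) = (a * b)⁻¹ * a
      have e1 : a * (a * b) = b := by rw [← mul_assoc, haa, one_mul]
      have e2 : (a * b)⁻¹ * a = b := by
        rw [mul_inv_rev, P.hyp.inv_eq ha, P.hypB.inv_eq hb, mul_assoc, haa, mul_one]
      rw [e1, e2]
    have h2 := h1.pow_right k
    rw [inv_pow] at h2
    exact h2

end DS4

end Cfsg.Agent.Lib.Lead
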