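import Mathlib
import Cfsg.Agent.Lib.Lead.DS4c

set_option autoImplicit false

/-!
An element of order three inverted by an involution, acting on an elementary abelian `2`-group:
an invariant four-group with the action of the symmetric group of degree three.
-/

namespace Cfsg.Agent.Lib.Lead

namespace DS4

open FF2

variable {W : Type*} [CommGroup W] [Finite W]

omit [Finite W] in
theorem mem_zpowers_two {w u : W} (hw2 : w * w = 1) (hu : u ∈ Subgroup.zpowers w) :
    u = 1 ∨ u = w := by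
  obtain ⟨i, rfl⟩ := Subgroup.mem_zpowers_iff.mp hu
  have hw2' : w ^ (2 : ℤ) = 1 := by
    rw [show (2 : ℤ) = ((2 : ℕ) : ℤ) from rfl, zpow_natCast, pow_two]; exact hw2
  rcases Int.emod_two_eq_zero_or_one i with h | h
  · left
    have : i = 2 * (i / 2) := by omega
    rw [this, zpow_mul, hw2', one_zpow]
  · right
    have : i = 2 * (i / 2) + 1 := by omega
    rw [this, zpow_add, zpow_mul, hw2', one_zpow, one_mul, zpow_one]

theorem exists_four (hW2 : ∀ w : W, w * w = 1) (a x : MulAut W) (ha2 : a * a = 1)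
    (hx3 : x ^ 3 = 1) (hx1 : x ≠ 1) (hax : a * x = x⁻¹ * a) :
    ∃ U : Subgroup W, Nat.card U = 4 ∧ (∀ u ∈ U, x u ∈ U) ∧ (∀ u ∈ U, a u ∈ U) ∧
      (∀ u ∈ U, x u = u → u = 1) ∧ (∃ u ∈ U, a u ≠ u) := by
  haveI : Fact (Nat.Prime 3) := ⟨Nat.prime_three⟩
  have hord : orderOf x = 3 := orderOf_eq_prime hx3 hx1
  have hodd : Odd (orderOf x) := by rw [hord]; decide
  set R := (delta x).range with hR
  have hRne : R ≠ ⊥ := delta_range_ne_bot hx1
  have hfpf : ∀ v ∈ R, x v = v → v = 1 := fun v hv hxv =>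
    eq_one_of_fixed_of_mem_range hW2 x hodd v hxv hv
  have hnorm : ∀ v ∈ R, v * x v * x (x v) = 1 := by
    rintro _ ⟨u, rfl⟩
    have := normFn_delta x 3 hx3 u
    unfold normFn at this
    rw [Finset.prod_range_succ, Finset.prod_range_succ, Finset.prod_range_one, pow_zero, pow_one,
      pow_two, MulAut.one_apply, MulAut.mul_apply] at this
    exact this
  have hxx : ∀ v ∈ R, x (x v) = v * x v := by
    intro v hv
    have h1 := hnorm v hv
    have h2 : x (x v) = (v * x v)⁻¹ := eq_inv_of_mul_eq_one_right h1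
    rw [h2]
    exact inv_eq_of_mul_eq_one_left (hW2 _)
  have hxR : ∀ v ∈ R, x v ∈ R := fun v hv => map_mem_delta_range (y := x) (g := x) rfl hv
  have haR : ∀ v ∈ R, a v ∈ R := fun v hv => map_mem_delta_range_of_inv hax hv
  have haa : ∀ v : W, a (a v) = v := by
    intro v
    rw [← MulAut.mul_apply, ha2, MulAut.one_apply]
  -- a nontrivial fixed point of `a` in `R`
  obtain ⟨w, hwR, hw1, haw⟩ : ∃ w ∈ R, w ≠ 1 ∧ a w = w := by
    obtain ⟨⟨v, hv⟩, hv1⟩ := (Subgroup.ne_bot_iff_exists_ne_one).mp hRne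
    have hv1' : v ≠ 1 := fun h => hv1 (Subtype.ext h)
    by_cases hav : a v = v
    · exact ⟨v, hv, hv1', hav⟩
    · refine ⟨v * a v, R.mul_mem hv (haR v hv), ?_, ?_⟩
      · intro h
        apply hav
        have h2 : a v = v⁻¹ := eq_inv_of_mul_eq_one_right h
        rw [h2]
        exact inv_eq_of_mul_eq_one_left (hW2 v)
      · rw [map_mul, haa, mul_comm]
  have hxw1 : x w ≠ 1 := by
    intro h
    apply hw1
    have : x w = x 1 := by rw [h, map_one]
    exact (MulEquiv.injective x) this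
  have hxw : x w ≠ w := fun h => hw1 (hfpf w hwR h)
  have haxw : a (x w) = w * x w := by
    have h1 : a (x w) = x⁻¹ (a w) := by
      rw [← MulAut.mul_apply, hax, MulAut.mul_apply]
    rw [h1, haw]
    have h2 : x (w * x w) = w := by
      rw [map_mul, hxx w hwR]
      calc x w * (w * x w) = (x w * x w) * w := by ac_rfl
        _ = w := by rw [hW2, one_mul]
    rw [MulAut.inv_apply]
    exact (MulEquiv.symm_apply_eq x).mpr h2.symm
  set U := Subgroup.zpowers w ⊔ Subgroup.zpowers (x w) with hU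
  have hwU : w ∈ U := Subgroup.mem_sup_left (Subgroup.mem_zpowers w)
  have hxwU : x w ∈ U := Subgroup.mem_sup_right (Subgroup.mem_zpowers (x w))
  have hUR : U ≤ R := sup_le (Subgroup.zpowers_le.mpr hwR) (Subgroup.zpowers_le.mpr (hxR w hwR))
  have hmapx : U.map (x : W ≃* W).toMonoidHom ≤ U := by
    rw [hU, Subgroup.map_sup, MonoidHom.map_zpowers, MonoidHom.map_zpowers]
    apply sup_le
    · exact Subgroup.zpowers_le.mpr hxwU
    · apply Subgroup.zpowers_le.mpr
      show x (x w) ∈ U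
      rw [hxx w hwR]
      exact U.mul_mem hwU hxwU
  have hmapa : U.map (a : W ≃* W).toMonoidHom ≤ U := by
    rw [hU, Subgroup.map_sup, MonoidHom.map_zpowers, MonoidHom.map_zpowers]
    apply sup_le
    · apply Subgroup.zpowers_le.mpr
      show a w ∈ U
      rw [haw]; exact hwU
    · apply Subgroup.zpowers_le.mpr
      show a (x w) ∈ U
      rw [haxw]
      exact U.mul_mem hwU hxwU
  have hcard2 : ∀ v : W, v ≠ 1 → Nat.card (Subgroup.zpowers v) = 2 := by
    intro v hv
    haveI : Fact (Nat.Prime 2) := ⟨Nat.prime_two⟩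
    rw [Nat.card_zpowers]
    exact orderOf_eq_prime (by rw [pow_two]; exact hW2 v) hv
  have hdisj : Subgroup.zpowers w ⊓ Subgroup.zpowers (x w) = ⊥ := by
    rw [eq_bot_iff]
    rintro u ⟨hu1, hu2⟩
    rw [Subgroup.mem_bot]
    rcases mem_zpowers_two (hW2 w) hu1 with h | h
    · exact h
    · rcases mem_zpowers_two (hW2 (x w)) hu2 with h' | h'
      · exact h'
      · exfalso
        exact hxw (h'.symm.trans h)
  have hU4 : Nat.card U = 4 := by
    rw [hU, card_sup_of_disjoint _ _ ?_ hdisj, hcard2 w hw1, hcard2 (x w) hxw1]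
    rw [Subgroup.normalizer_eq_top_iff.mpr inferInstance]
    exact le_top
  refine ⟨U, hU4, ?_, ?_, ?_, ?_⟩
  · intro u hu
    exact hmapx ⟨u, hu, rfl⟩
  · intro u hu
    exact hmapa ⟨u, hu, rfl⟩
  · intro u hu
    exact hfpf u (hUR hu)
  · refine ⟨x w, hxwU, ?_⟩
    rw [haxw]
    intro h
    apply hw1
    calc w = w * x w * x w := by rw [mul_assoc, hW2, mul_one]
      _ = x w * x w := by rw [h]
      _ = 1 := hW2 _

/-- the main result on generating pairs -/
theorem Hyp.exists_four {Γ A : Subgroup (MulAut W)} (h : Hyp Γ A) :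
    ∃ (U : Subgroup W) (y a : MulAut W), y ∈ Γ ∧ a ∈ Γ ∧ Nat.card U = 4 ∧
      (∀ u ∈ U, y u ∈ U) ∧ (∀ u ∈ U, a u ∈ U) ∧ (∀ u ∈ U, y u = u → u = 1) ∧
      (∃ u ∈ U, a u ≠ u) ∧ y ^ 3 = 1 ∧ a * a = 1 := by
  obtain ⟨B, hB, hgen⟩ := h.stepC
  have P : Pair Γ A B := ⟨h, hB, hgen⟩
  obtain ⟨a, x, haΓ, hxΓ, haa, hx3, hx1, hax⟩ := P.exists_three
  obtain ⟨U, hU4, hUx, hUa, hfpf, hne⟩ := DS4.exists_four h.W2 a x haa hx3 hx1 hax
  exact ⟨U, x, a, hxΓ, haΓ, hU4, hUx, hUa, hfpf, hne, hx3, haa⟩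

end DS4

end Cfsg.Agent.Lib.Lead
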