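import Mathlib

set_option autoImplicit false

/-!
# Diagonal products over conjugates by a finite subgroup
-/

namespace Cfsg.Agent.Lib.Lead.DiagComp

variable {G : Type*} [Group G]

/-- conjugates of `L` by distinct elements of `Z` commute elementwise -/
abbrev PC (Z L : Subgroup G) : Prop :=
  ∀ g h : ↥Z, g ≠ h → ∀ a ∈ L, ∀ b ∈ L,
    Commute ((g : G) * a * (g : G)⁻¹) ((h : G) * b * (h : G)⁻¹)

theorem noncommProd_congr_multiset {β : Type*} [Monoid β] {s t : Multiset β} (h : s = t)
    (hs : {x | x ∈ s}.Pairwise Commute) (ht : {x | x ∈ t}.Pairwise Commute) :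
    s.noncommProd hs = t.noncommProd ht := by
  subst h; rfl

theorem noncommProd_univ_equiv {ι β : Type*} [Fintype ι] [Monoid β] (σ : ι ≃ ι) (f : ι → β)
    (hc : ((Finset.univ : Finset ι) : Set ι).Pairwise (Function.onFun Commute f))
    (hc' : ((Finset.univ : Finset ι) : Set ι).Pairwise
      (Function.onFun Commute (fun i => f (σ i)))) :
    Finset.univ.noncommProd (fun i => f (σ i)) hc' = Finset.univ.noncommProd f hc := by
  unfold Finset.noncommProd
  apply noncommProd_congr_multiset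
  rw [show (fun i => f (σ i)) = f ∘ σ from rfl, ← Multiset.map_map, Multiset.map_univ_val_equiv]

variable (Z L : Subgroup G) [Fintype ↥Z]

theorem pc_pairwise (hpc : PC Z L) (a : G) (ha : a ∈ L) :
    ((Finset.univ : Finset ↥Z) : Set ↥Z).Pairwise
      (Function.onFun Commute (fun g : ↥Z => (g : G) * a * (g : G)⁻¹)) := by
  intro g _ h _ hgh
  exact hpc g h hgh a ha a ha

/-- the diagonal product `∏_{g ∈ Z} g a g⁻¹` -/
noncomputable def diag (hpc : PC Z L) (a : G) (ha : a ∈ L) : G :=
  Finset.univ.noncommProd (fun g : ↥Z => (g : G) * a * (g : G)⁻¹) (pc_pairwise Z L hpc a ha)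

variable {Z L}

theorem diag_mul (hpc : PC Z L) (a b : G) (ha : a ∈ L) (hb : b ∈ L) :
    diag Z L hpc (a * b) (L.mul_mem ha hb) = diag Z L hpc a ha * diag Z L hpc b hb := by
  unfold diag
  rw [← Finset.noncommProd_mul_distrib (fun g : ↥Z => (g : G) * a * (g : G)⁻¹)
    (fun g : ↥Z => (g : G) * b * (g : G)⁻¹)]
  · apply Finset.noncommProd_congr rfl
    intro g _
    simp only [Pi.mul_apply]
    group
  · intro g _ h _ hgh
    exact hpc g h hgh b hb a ha

theorem diag_one (hpc : PC Z L) : diag Z L hpc 1 L.one_mem = 1 := by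
  unfold diag
  rw [Finset.noncommProd_eq_pow_card _ _ _ 1]
  · simp
  · intro g _; simp

theorem diag_pow (hpc : PC Z L) (a : G) (ha : a ∈ L) (n : ℕ) :
    diag Z L hpc (a ^ n) (L.pow_mem ha n) = (diag Z L hpc a ha) ^ n := by
  induction n with
  | zero => simp only [pow_zero]; exact diag_one hpc
  | succ n ih =>
    have h1 : diag Z L hpc (a ^ (n + 1)) (L.pow_mem ha (n + 1)) =
        diag Z L hpc (a ^ n * a) (L.mul_mem (L.pow_mem ha n) ha) := by
      congr 1
      exact pow_succ a n
    rw [h1, diag_mul hpc _ _ (L.pow_mem ha n) ha, ih, pow_succ]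

theorem diag_inv (hpc : PC Z L) (a : G) (ha : a ∈ L) :
    diag Z L hpc a⁻¹ (L.inv_mem ha) = (diag Z L hpc a ha)⁻¹ := by
  have h := diag_mul hpc a⁻¹ a (L.inv_mem ha) ha
  have h1 : diag Z L hpc (a⁻¹ * a) (L.mul_mem (L.inv_mem ha) ha) = 1 := by
    have : diag Z L hpc (a⁻¹ * a) (L.mul_mem (L.inv_mem ha) ha) = diag Z L hpc 1 L.one_mem := by
      congr 1; group
    rw [this, diag_one]
  rw [h1] at h
  exact eq_inv_of_mul_eq_one_left h.symm

/-- conjugating by an element commuting with `Z` -/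
theorem conj_diag {L' : Subgroup G} (hpc : PC Z L) (hpc' : PC Z L') (y : G)
    (hy : ∀ g : ↥Z, y * (g : G) = (g : G) * y) (a : G) (ha : a ∈ L)
    (ha' : y * a * y⁻¹ ∈ L') :
    y * diag Z L hpc a ha * y⁻¹ = diag Z L' hpc' (y * a * y⁻¹) ha' := by
  unfold diag
  have h := Finset.map_noncommProd (Finset.univ : Finset ↥Z)
    (fun g : ↥Z => (g : G) * a * (g : G)⁻¹) (pc_pairwise Z L hpc a ha) (MulAut.conj y)
  rw [MulAut.conj_apply] at h
  rw [h]
  apply Finset.noncommProd_congr rfl
  intro g _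
  rw [MulAut.conj_apply]
  have h1 := hy g
  have h2 : y⁻¹ * (g : G) = (g : G) * y⁻¹ := by
    calc y⁻¹ * (g : G) = y⁻¹ * ((g : G) * y) * y⁻¹ := by group
      _ = (g : G) * y⁻¹ := by rw [← h1]; group
  have h3 : (g : G)⁻¹ * y⁻¹ = y⁻¹ * (g : G)⁻¹ := by
    calc (g : G)⁻¹ * y⁻¹ = (g : G)⁻¹ * ((g : G) * y⁻¹) * (g : G)⁻¹ := by
          rw [← h2]; group
      _ = y⁻¹ * (g : G)⁻¹ := by group
  calc y * ((g : G) * a * (g : G)⁻¹) * y⁻¹ = (y * (g : G)) * a * ((g : G)⁻¹ * y⁻¹) := by group
    _ = ((g : G) * y) * a * (y⁻¹ * (g : G)⁻¹) := by rw [h1, h3]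
    _ = (g : G) * (y * a * y⁻¹) * (g : G)⁻¹ := by group

/-- the diagonal commutes with elements of `Z` -/
theorem conj_diag_self (hpc : PC Z L) (x : G) (hx : x ∈ Z) (a : G) (ha : a ∈ L) :
    x * diag Z L hpc a ha * x⁻¹ = diag Z L hpc a ha := by
  unfold diag
  have hc : ((Finset.univ : Finset ↥Z) : Set ↥Z).Pairwise
      (Function.onFun Commute (fun g : ↥Z => (g : G) * a * (g : G)⁻¹)) :=
    pc_pairwise Z L hpc a ha
  have h := Finset.map_noncommProd (Finset.univ : Finset ↥Z)
    (fun g : ↥Z => (g : G) * a * (g : G)⁻¹) hc (MulAut.conj x)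
  rw [MulAut.conj_apply] at h
  rw [h]
  have hc' : ((Finset.univ : Finset ↥Z) : Set ↥Z).Pairwise
      (Function.onFun Commute (fun i : ↥Z => (fun g : ↥Z => (g : G) * a * (g : G)⁻¹)
        ((Equiv.mulLeft (⟨x, hx⟩ : ↥Z)) i))) := by
    intro g _ h _ hgh
    apply hc (Finset.mem_coe.mpr (Finset.mem_univ _)) (Finset.mem_coe.mpr (Finset.mem_univ _))
    intro he
    exact hgh ((Equiv.mulLeft (⟨x, hx⟩ : ↥Z)).injective he)
  rw [← noncommProd_univ_equiv (Equiv.mulLeft (⟨x, hx⟩ : ↥Z))
    (fun g : ↥Z => (g : G) * a * (g : G)⁻¹) hc hc']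
  apply Finset.noncommProd_congr rfl
  intro g _
  rw [MulAut.conj_apply]
  simp only [Equiv.coe_mulLeft, Subgroup.coe_mul]
  group

/-- if the diagonal of `a` commutes with `m ∈ L` then so does `a` -/
theorem commute_of_commute_diag (hpc : PC Z L) (a : G) (ha : a ∈ L) (m : G) (hm : m ∈ L)
    (h : Commute (diag Z L hpc a ha) m) : Commute a m := by
  classical
  have hc : ((Finset.univ : Finset ↥Z) : Set ↥Z).Pairwise
      (Function.onFun Commute (fun g : ↥Z => (g : G) * a * (g : G)⁻¹)) :=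
    pc_pairwise Z L hpc a ha
  have hsplit := Finset.mul_noncommProd_erase (Finset.univ : Finset ↥Z)
    (Finset.mem_univ (1 : ↥Z)) (fun g : ↥Z => (g : G) * a * (g : G)⁻¹) hc
  set rest := (Finset.univ.erase (1 : ↥Z)).noncommProd
    (fun g : ↥Z => (g : G) * a * (g : G)⁻¹) (by
      intro g hg h hh hgh
      exact hc (Finset.mem_coe.mpr (Finset.mem_univ _)) (Finset.mem_coe.mpr (Finset.mem_univ _))
        hgh) with hrest
  have hrm : Commute m rest := by
    apply Finset.noncommProd_commute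
    intro g hg
    have hg1 : (1 : ↥Z) ≠ g := by
      intro he
      rw [← he] at hg
      simp at hg
    have := hpc 1 g hg1 m hm a ha
    simpa using this
  have hd : diag Z L hpc a ha = a * rest := by
    unfold diag
    rw [← hsplit]
    simp
  rw [hd] at h
  -- a * rest commutes with m and rest commutes with m, so a commutes with m
  have h1 : a * rest * m = m * (a * rest) := h.eq
  have h2 : m * rest = rest * m := hrm.eq
  have : a * m * rest = m * a * rest := by
    calc a * m * rest = a * (m * rest) := by group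
      _ = a * (rest * m) := by rw [h2]
      _ = a * rest * m := by group
      _ = m * (a * rest) := h1
      _ = m * a * rest := by group
  exact mul_right_cancel this

end Cfsg.Agent.Lib.Lead.DiagComp
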