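import Mathlib
import Cfsg.Agent.Lib.Lead.DiagComp1
import Cfsg.Agent.Lib.Lead.CoreControl
import Cfsg.Agent.Lib.Helper3.Components2
import Cfsg.Agent.Lib.Helper3.Components4
import Cfsg.Agent.Lib.Helper3.PComp1

set_option autoImplicit false

/-!
# Components moved by an element of prime order
-/

namespace Cfsg.Agent.Lib.Lead.DiagComp

open Cfsg Cfsg.Agent.Lib.Helper3

variable {G : Type*} [Group G]

theorem map_conj_eq_of_mem_normalizer {L : Subgroup G} {g : G}
    (hg : g ∈ Subgroup.normalizer (L : Set G)) : L.map (MulAut.conj g).toMonoidHom = L := by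
  ext y
  rw [Subgroup.mem_map]
  constructor
  · rintro ⟨l, hl, rfl⟩
    exact (Subgroup.mem_normalizer_iff.mp hg l).mp hl
  · intro hy
    refine ⟨g⁻¹ * y * g, (Subgroup.mem_normalizer_iff''.mp hg y).mp hy, ?_⟩
    simp only [MulEquiv.coe_toMonoidHom, MulAut.conj_apply]
    group

theorem mem_normalizer_of_map_conj_eq {L : Subgroup G} {g : G}
    (h : L.map (MulAut.conj g).toMonoidHom = L) : g ∈ Subgroup.normalizer (L : Set G) := by
  rw [Subgroup.mem_normalizer_iff]
  intro y
  constructor
  · intro hy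
    rw [← h]
    exact ⟨y, hy, by simp [MulAut.conj_apply]⟩
  · intro hy
    rw [← h] at hy
    obtain ⟨l, hl, he⟩ := hy
    simp only [MulEquiv.coe_toMonoidHom, MulAut.conj_apply] at he
    have : l = y := by
      have := congrArg (fun t => g⁻¹ * t * g) he
      simpa [mul_assoc] using this
    rw [← this]; exact hl

theorem map_conj_map_conj (L : Subgroup G) (g h : G) :
    (L.map (MulAut.conj g).toMonoidHom).map (MulAut.conj h).toMonoidHom =
      L.map (MulAut.conj (h * g)).toMonoidHom := by
  rw [Subgroup.map_map]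
  congr 1
  ext y
  simp [MulAut.conj_apply, mul_assoc]

theorem map_conj_one (L : Subgroup G) : L.map (MulAut.conj (1 : G)).toMonoidHom = L := by
  ext y
  simp [Subgroup.mem_map, MulAut.conj_apply]

/-- A component of a group with trivial `p'`-core cannot have `p'`-exponent modulo its centre. -/
theorem not_forall_pow_commute [Finite G] {p : ℕ} [hp : Fact p.Prime]
    (hO : pPrimeCore p G = ⊥) {L : Subgroup G} (hL : IsComponent L) (n : ℕ) (hn : n.Coprime p)
    (h : ∀ l ∈ L, ∀ m ∈ L, Commute (l ^ n) m) : False := by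
  have hcen : ∀ l : ↥L, l ^ n ∈ Subgroup.center ↥L := by
    intro l
    rw [Subgroup.mem_center_iff]
    intro m
    apply Subtype.ext
    have := (h l l.2 m m.2).eq
    simpa using this.symm
  obtain ⟨S⟩ : Nonempty (Sylow p ↥L) := inferInstance
  have hS : (S : Subgroup ↥L) ≤ Subgroup.center ↥L := by
    intro s hs
    obtain ⟨k, hk⟩ := S.isPGroup' ⟨s, hs⟩
    have hk' : s ^ p ^ k = 1 := by
      have := congrArg Subtype.val hk
      simpa using this
    have hdvd : orderOf s ∣ p ^ k := orderOf_dvd_of_pow_eq_one hk'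
    have hcop : n.Coprime (orderOf s) :=
      Nat.Coprime.coprime_dvd_right hdvd (Nat.Coprime.pow_right k hn)
    obtain ⟨m, hm⟩ := exists_pow_eq_self_of_coprime hcop
    rw [← hm]
    exact (Subgroup.center ↥L).pow_mem (hcen s) m
  have hidx : (Subgroup.center ↥L).index ∣ (S : Subgroup ↥L).index := Subgroup.index_dvd_of_le hS
  have hSidx : ¬ p ∣ (S : Subgroup ↥L).index := S.not_dvd_index
  have hcidx : ((Subgroup.center ↥L).index).Coprime p := by
    apply Nat.Coprime.symm
    rw [Nat.Prime.coprime_iff_not_dvd hp.out]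
    intro hd
    exact hSidx (hd.trans hidx)
  have hschur := Subgroup.card_commutator_dvd_index_center_pow ↥L
  rw [IsQuasisimple.commutator_eq_top hL.2, Subgroup.card_top] at hschur
  have hc : (Nat.card ↥L).Coprime p :=
    Nat.Coprime.coprime_dvd_left hschur (Nat.Coprime.pow_left _ hcidx)
  have hle := le_pPrimeCore_of_isSubnormal hL.1 hc
  rw [hO] at hle
  exact IsQuasisimple.ne_bot hL.2 (le_bot_iff.mp hle)

section prime

variable [Finite G] {p : ℕ} [hp : Fact p.Prime] {x : G} (hx : orderOf x = p)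
  {L : Subgroup G} (hL : IsComponent L) (hxL : x ∉ Subgroup.normalizer (L : Set G))

include hx hxL

theorem not_mem_normalizer_of_ne_one {g : G} (hg : g ∈ Subgroup.zpowers x) (hg1 : g ≠ 1) :
    g ∉ Subgroup.normalizer (L : Set G) := by
  intro hgN
  apply hxL
  have hcard : Nat.card ↥(Subgroup.zpowers x) = p := by rw [Nat.card_zpowers, hx]
  have hne : (⟨g, hg⟩ : ↥(Subgroup.zpowers x)) ≠ 1 := by
    intro he
    apply hg1
    exact congrArg Subtype.val he
  have htop := zpowers_eq_top_of_prime_card hcard hne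
  have hxm : (⟨x, Subgroup.mem_zpowers x⟩ : ↥(Subgroup.zpowers x)) ∈
      Subgroup.zpowers (⟨g, hg⟩ : ↥(Subgroup.zpowers x)) := by
    rw [htop]; exact Subgroup.mem_top _
  obtain ⟨k, hk⟩ := Subgroup.mem_zpowers_iff.mp hxm
  have hk' : g ^ k = x := by
    have := congrArg Subtype.val hk
    simpa using this
  rw [← hk']
  exact (Subgroup.normalizer (L : Set G)).zpow_mem hgN k

include hL

theorem map_conj_ne {g h : ↥(Subgroup.zpowers x)} (hgh : g ≠ h) :
    L.map (MulAut.conj (g : G)).toMonoidHom ≠ L.map (MulAut.conj (h : G)).toMonoidHom := by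
  intro he
  have h1 : L.map (MulAut.conj ((h : G)⁻¹ * (g : G))).toMonoidHom = L := by
    rw [← map_conj_map_conj, he, map_conj_map_conj, inv_mul_cancel, map_conj_one]
  have h2 := mem_normalizer_of_map_conj_eq h1
  have h3 : (h : G)⁻¹ * (g : G) ∈ Subgroup.zpowers x :=
    (Subgroup.zpowers x).mul_mem ((Subgroup.zpowers x).inv_mem h.2) g.2
  have h4 : (h : G)⁻¹ * (g : G) ≠ 1 := by
    intro h5
    apply hgh
    apply Subtype.ext
    have : (g : G) = (h : G) * ((h : G)⁻¹ * (g : G)) := by group
    rw [this, h5, mul_one]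
  exact not_mem_normalizer_of_ne_one hx hxL h3 h4 h2

theorem pc_of_component : PC (Subgroup.zpowers x) L := by
  intro g h hgh a ha b hb
  have hne := map_conj_ne hx hL hxL hgh
  have hcomm := IsComponent.commutator_eq_bot_of_ne (IsComponent.map_conj hL (g : G))
    (IsComponent.map_conj hL (h : G)) hne
  rw [Subgroup.commutator_eq_bot_iff_le_centralizer] at hcomm
  have h1 : (g : G) * a * (g : G)⁻¹ ∈ L.map (MulAut.conj (g : G)).toMonoidHom :=
    ⟨a, ha, by simp [MulAut.conj_apply]⟩
  have h2 : (h : G) * b * (h : G)⁻¹ ∈ L.map (MulAut.conj (h : G)).toMonoidHom :=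
    ⟨b, hb, by simp [MulAut.conj_apply]⟩
  have := Subgroup.mem_centralizer_iff.mp (hcomm h1) _ h2
  exact this.symm

end prime

end Cfsg.Agent.Lib.Lead.DiagComp
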