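import Mathlib
import Cfsg.Agent.Lib.Lead.DiagComp2
import Cfsg.Agent.Lib.Lead.CoprimeAction2

set_option autoImplicit false

/-!
# `O_{p'}(C_G(x))` centralizes the components not equal to their commutator with `x`
-/

namespace Cfsg.Agent.Lib.Lead.DiagComp

open Cfsg Cfsg.Agent.Lib.Helper3 Cfsg.Agent.Lib.Lead.CoreControl
open scoped commutatorElement

variable {G : Type*} [Group G] [Finite G] {p : ℕ} [hp : Fact p.Prime]

theorem centralizerPPrimeCore_eq_ppc (x : G) :
    centralizerPPrimeCore p x = ppc p (Subgroup.centralizer ({x} : Set G)) := rfl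

/-- Case A: `x` normalizes `L`. -/
theorem caseA (hO : pPrimeCore p G = ⊥) (x : G) (L : Subgroup G) (hL : IsComponent L)
    (hne : ⁅L, Subgroup.zpowers x⁆ ≠ L) (hxL : x ∈ Subgroup.normalizer (L : Set G)) :
    ⁅L, centralizerPPrimeCore p x⁆ = ⊥ := by
  set Z := Subgroup.zpowers x with hZ
  have hZL : Z ≤ Subgroup.normalizer (L : Set G) := (Subgroup.zpowers_le).mpr hxL
  have hML : ⁅L, Z⁆ ≤ L := commutator_le_left_of_le_normalizer L Z hZL
  have hn : L ≤ Subgroup.normalizer ((⁅L, Z⁆ : Subgroup G) : Set G) :=
    Cfsg.Agent.Lib.Lead.le_normalizer_commutator_left L Z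
  have hLZ : ⁅L, Z⁆ = ⊥ := by
    rcases IsQuasisimple.eq_or_commutator_eq_bot hL.2 hML hn with h1 | h1
    · exact (hne h1).elim
    · have h2 : ⁅⁅L, Z⁆, L⁆ = ⊥ := by rw [Subgroup.commutator_comm]; exact h1
      have h3 : ⁅⁅Z, L⁆, L⁆ = ⊥ := by rw [Subgroup.commutator_comm Z L]; exact h2
      have h4 := Subgroup.commutator_commutator_eq_bot_of_rotate (H₁ := L) (H₂ := L) (H₃ := Z)
        h2 h3
      rw [IsQuasisimple.commutator_eq_self hL.2] at h4
      exact h4
  have hLC : L ≤ Subgroup.centralizer ({x} : Set G) := by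
    intro l hl
    rw [Subgroup.mem_centralizer_iff]
    intro y hy
    rw [Set.mem_singleton_iff] at hy
    subst hy
    rw [Subgroup.commutator_eq_bot_iff_le_centralizer] at hLZ
    have := Subgroup.mem_centralizer_iff.mp (hLZ hl) y (Subgroup.mem_zpowers y)
    exact this
  rw [centralizerPPrimeCore_eq_ppc]
  have hinv : L ≤ Subgroup.normalizer ((ppc p (Subgroup.centralizer ({x} : Set G)) : Subgroup G) : Set G) :=
    hLC.trans (Subgroup.le_normalizer.trans (normalizer_le_normalizer_ppc p _))
  rcases IsComponent.le_or_commutator_eq_bot_of_le_normalizer hL hinv with h1 | h1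
  · exfalso
    have hc : (Nat.card ↥L).Coprime p :=
      Nat.Coprime.coprime_dvd_left (Subgroup.card_dvd_of_le h1) (ppc_coprime p _)
    have hle := le_pPrimeCore_of_isSubnormal hL.1 hc
    rw [hO] at hle
    exact IsQuasisimple.ne_bot hL.2 (le_bot_iff.mp hle)
  · exact h1

/-- Case B: `x` does not normalize `L`. -/
theorem caseB (hO : pPrimeCore p G = ⊥) (x : G) (hx : orderOf x = p) (L : Subgroup G)
    (hL : IsComponent L) (hxL : x ∉ Subgroup.normalizer (L : Set G)) :
    ⁅L, centralizerPPrimeCore p x⁆ = ⊥ := by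
  classical
  letI : Fintype ↥(Subgroup.zpowers x) := Fintype.ofFinite _
  rw [centralizerPPrimeCore_eq_ppc]
  set Z := Subgroup.zpowers x with hZ
  set C := Subgroup.centralizer ({x} : Set G) with hC
  set D := ppc p C with hD
  have hDC : D ≤ C := ppc_le p C
  have hCD : C ≤ Subgroup.normalizer (D : Set G) :=
    Subgroup.le_normalizer.trans (normalizer_le_normalizer_ppc p C)
  have hDcop : (Nat.card ↥D).Coprime p := ppc_coprime p C
  have hpc : PC Z L := pc_of_component hx hL hxL
  -- elements of C commute with elements of Z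
  have hCZ : ∀ y ∈ C, ∀ g : ↥Z, y * (g : G) = (g : G) * y := by
    intro y hy g
    have h1 : x * y = y * x := by
      rw [hC, Subgroup.mem_centralizer_iff] at hy
      exact hy x rfl
    obtain ⟨k, hk⟩ := Subgroup.mem_zpowers_iff.mp g.2
    rw [← hk]
    exact ((Commute.zpow_right (show Commute y x from h1.symm) k)).eq
  -- diagonal elements lie in C
  have hdiagC : ∀ (a : G) (ha : a ∈ L), diag Z L hpc a ha ∈ C := by
    intro a ha
    rw [hC, Subgroup.mem_centralizer_iff]
    intro y hy
    rw [Set.mem_singleton_iff] at hy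
    subst hy
    have := conj_diag_self hpc y (Subgroup.mem_zpowers y) a ha
    calc y * diag Z L hpc a ha = (y * diag Z L hpc a ha * y⁻¹) * y := by group
      _ = diag Z L hpc a ha * y := by rw [this]
  -- consequence of `diag a ^ n = 1`-type statements
  have hQ : ∀ n : ℕ, n.Coprime p → (∀ l ∈ L, ∀ m ∈ L, Commute (l ^ n) m) → False :=
    fun n hn h => not_forall_pow_commute hO hL n hn h
  -- Step 1: D normalizes L
  have hDL : D ≤ Subgroup.normalizer (L : Set G) := by
    intro d hd
    by_contra hdL
    set L' := L.map (MulAut.conj d).toMonoidHom with hL'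
    have hL'c : IsComponent L' := IsComponent.map_conj hL d
    have hdC : d ∈ C := hDC hd
    have hdx : d * x = x * d := by
      have := hdC
      rw [hC, Subgroup.mem_centralizer_iff] at this
      exact (this x rfl).symm
    have hxL' : x ∉ Subgroup.normalizer (L' : Set G) := by
      intro hxn
      apply hxL
      apply mem_normalizer_of_map_conj_eq
      have h1 := map_conj_eq_of_mem_normalizer hxn
      rw [hL', map_conj_map_conj] at h1
      have h2 : L.map (MulAut.conj (d⁻¹ * (x * d))).toMonoidHom = L := by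
        rw [← map_conj_map_conj, h1, map_conj_map_conj, inv_mul_cancel, map_conj_one]
      have h3 : d⁻¹ * (x * d) = x := by rw [← hdx]; group
      rw [h3] at h2
      exact h2
    have hpc' : PC Z L' := pc_of_component hx hL'c hxL'
    by_cases hex : ∃ g : ↥Z, L' = L.map (MulAut.conj (g : G)).toMonoidHom
    · -- case (i)
      obtain ⟨g, hg⟩ := hex
      have hg1 : (g : G) ≠ 1 := by
        intro h1
        apply hdL
        apply mem_normalizer_of_map_conj_eq
        rw [← hL', hg, h1, map_conj_one]
      have hyN : (g : G)⁻¹ * d ∈ Subgroup.normalizer (L : Set G) := by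
        apply mem_normalizer_of_map_conj_eq
        rw [← map_conj_map_conj, ← hL', hg, map_conj_map_conj, inv_mul_cancel, map_conj_one]
      set n := orderOf d with hn
      have hgd : Commute ((g : G)⁻¹) d := by
        have := hCZ d hdC g
        have h2 : Commute d (g : G) := this
        exact (h2.inv_right).symm
      have hpow : ((g : G)⁻¹ * d) ^ n = ((g : G)⁻¹) ^ n := by
        rw [hgd.mul_pow, hn, pow_orderOf_eq_one, mul_one]
      have hgn : ((g : G)⁻¹) ^ n ∈ Subgroup.normalizer (L : Set G) := by
        rw [← hpow]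
        exact (Subgroup.normalizer (L : Set G)).pow_mem hyN n
      have hgnZ : ((g : G)⁻¹) ^ n ∈ Z := Z.pow_mem (Z.inv_mem g.2) n
      have hgn1 : ((g : G)⁻¹) ^ n = 1 := by
        by_contra hne1
        exact not_mem_normalizer_of_ne_one hx hxL hgnZ hne1 hgn
      have hgn1' : (g : G) ^ n = 1 := by
        rw [inv_pow, inv_eq_one] at hgn1
        exact hgn1
      have hog : orderOf (g : G) = p := by
        have hdvd : orderOf (g : G) ∣ p := by
          have h1 : orderOf (g : G) ∣ Nat.card ↥Z := by
            rw [← Subgroup.orderOf_mk (g : G) g.2]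
            exact orderOf_dvd_natCard _
          rw [Nat.card_zpowers, hx] at h1
          exact h1
        rcases (Nat.dvd_prime hp.out).mp hdvd with h1 | h1
        · exact (hg1 (orderOf_eq_one_iff.mp h1)).elim
        · exact h1
      have hpn : p ∣ n := by
        rw [← hog]
        exact orderOf_dvd_of_pow_eq_one hgn1'
      have hnD : n ∣ Nat.card ↥D := by
        rw [hn, ← Subgroup.orderOf_mk d hd]
        exact orderOf_dvd_natCard _
      have : p ∣ Nat.card ↥D := hpn.trans hnD
      have h1 := Nat.Coprime.eq_one_of_dvd hDcop.symm this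
      exact hp.out.one_lt.ne' h1
    · -- case (ii)
      push Not at hex
      -- cross commutation
      have hcross : ∀ (g h : ↥Z) (a : G) (_ : a ∈ L) (b : G) (_ : b ∈ L'),
          Commute ((g : G) * a * (g : G)⁻¹) ((h : G) * b * (h : G)⁻¹) := by
        intro g h a ha b hb
        have hne : L.map (MulAut.conj (g : G)).toMonoidHom ≠
            L'.map (MulAut.conj (h : G)).toMonoidHom := by
          intro he
          apply hex (h⁻¹ * g)
          have h1 : L' = (L'.map (MulAut.conj (h : G)).toMonoidHom).map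
              (MulAut.conj ((h : G)⁻¹)).toMonoidHom := by
            rw [map_conj_map_conj, inv_mul_cancel, map_conj_one]
          rw [h1, ← he, map_conj_map_conj]
          simp
        have hcomm := IsComponent.commutator_eq_bot_of_ne (IsComponent.map_conj hL (g : G))
          (IsComponent.map_conj hL'c (h : G)) hne
        rw [Subgroup.commutator_eq_bot_iff_le_centralizer] at hcomm
        have h1 : (g : G) * a * (g : G)⁻¹ ∈ L.map (MulAut.conj (g : G)).toMonoidHom :=
          ⟨a, ha, by simp [MulAut.conj_apply]⟩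
        have h2 : (h : G) * b * (h : G)⁻¹ ∈ L'.map (MulAut.conj (h : G)).toMonoidHom :=
          ⟨b, hb, by simp [MulAut.conj_apply]⟩
        have := Subgroup.mem_centralizer_iff.mp (hcomm h1) _ h2
        exact this.symm
      apply hQ (Nat.card ↥D) hDcop
      intro l hl m hm
      have hl' : d * l * d⁻¹ ∈ L' := ⟨l, hl, by simp [MulAut.conj_apply]⟩
      set e := diag Z L hpc l hl with he
      set e' := diag Z L' hpc' (d * l * d⁻¹) hl' with he'
      have hconj : d * e * d⁻¹ = e' := conj_diag hpc hpc' d (hCZ d hdC) l hl hl'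
      -- e and e' commute
      have hee' : Commute e e' := by
        rw [he']
        unfold diag
        apply Finset.noncommProd_commute
        intro h _
        apply Commute.symm
        rw [he]
        unfold diag
        apply Finset.noncommProd_commute
        intro g _
        exact (hcross g h l hl _ hl').symm
      -- c = e⁻¹ * e' ∈ D
      have hc : e⁻¹ * e' ∈ D := by
        have heC : e⁻¹ ∈ C := C.inv_mem (hdiagC l hl)
        have h1 : e⁻¹ * d * (e⁻¹)⁻¹ ∈ D :=
          (Subgroup.mem_normalizer_iff.mp (hCD heC) d).mp hd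
        have h2 : e⁻¹ * e' = (e⁻¹ * d * (e⁻¹)⁻¹) * d⁻¹ := by
          rw [← hconj]; group
        rw [h2]
        exact D.mul_mem h1 (D.inv_mem hd)
      have hcn : (e⁻¹ * e') ^ Nat.card ↥D = 1 := by
        have h1 := pow_card_eq_one' (G := ↥D) (x := ⟨e⁻¹ * e', hc⟩)
        have h2 := congrArg Subtype.val h1
        rw [Subgroup.coe_pow, Subgroup.coe_one] at h2
        exact h2
      have hpw : e ^ Nat.card ↥D = e' ^ Nat.card ↥D := by
        have h1 : Commute e⁻¹ e' := hee'.inv_left
        rw [h1.mul_pow, inv_pow] at hcn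
        exact (inv_mul_eq_one.mp hcn)
      -- e'^n commutes with m
      have hem : Commute (e' ^ Nat.card ↥D) m := by
        apply Commute.pow_left
        apply Commute.symm
        rw [he']
        unfold diag
        apply Finset.noncommProd_commute
        intro h _
        have := hcross 1 h m hm _ hl'
        simpa using this
      rw [← hpw, he, ← diag_pow hpc l hl] at hem
      exact commute_of_commute_diag hpc _ (L.pow_mem hl _) m hm hem
  -- Step 2
  have hML : ⁅L, D⁆ ≤ L := commutator_le_left_of_le_normalizer L D hDL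
  have hn : L ≤ Subgroup.normalizer ((⁅L, D⁆ : Subgroup G) : Set G) :=
    Cfsg.Agent.Lib.Lead.le_normalizer_commutator_left L D
  rcases IsQuasisimple.eq_or_commutator_eq_bot hL.2 hML hn with h1 | h1
  · exfalso
    -- T = {a ∈ L | diag a ∈ D}
    let T : Subgroup G :=
      { carrier := {a | ∃ ha : a ∈ L, diag Z L hpc a ha ∈ D}
        mul_mem' := by
          rintro a b ⟨ha, ha'⟩ ⟨hb, hb'⟩
          refine ⟨L.mul_mem ha hb, ?_⟩
          rw [diag_mul hpc a b ha hb]
          exact D.mul_mem ha' hb'
        one_mem' := ⟨L.one_mem, by rw [diag_one]; exact D.one_mem⟩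
        inv_mem' := by
          rintro a ⟨ha, ha'⟩
          refine ⟨L.inv_mem ha, ?_⟩
          rw [diag_inv hpc a ha]
          exact D.inv_mem ha' }
    have hT : ⁅L, D⁆ ≤ T := by
      rw [Subgroup.commutator_le]
      intro l hl d hd
      have hdN := hDL hd
      have hl2 : d * l⁻¹ * d⁻¹ ∈ L := (Subgroup.mem_normalizer_iff.mp hdN l⁻¹).mp (L.inv_mem hl)
      have hcomm : ⁅l, d⁆ = l * (d * l⁻¹ * d⁻¹) := by
        rw [commutatorElement_def]; group
      have hmem : ⁅l, d⁆ ∈ L := by rw [hcomm]; exact L.mul_mem hl hl2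
      refine ⟨hmem, ?_⟩
      have h2 : diag Z L hpc ⁅l, d⁆ hmem = diag Z L hpc (l * (d * l⁻¹ * d⁻¹)) (L.mul_mem hl hl2) := by
        congr 1
      rw [h2, diag_mul hpc l _ hl hl2]
      have h3 := conj_diag hpc hpc d (hCZ d (hDC hd)) l⁻¹ (L.inv_mem hl) hl2
      rw [← h3, diag_inv hpc l hl]
      set e := diag Z L hpc l hl with he
      have heC : e ∈ C := hdiagC l hl
      have h4 : e * d * e⁻¹ ∈ D := (Subgroup.mem_normalizer_iff.mp (hCD heC) d).mp hd
      have h5 : e * (d * e⁻¹ * d⁻¹) = (e * d * e⁻¹) * d⁻¹ := by group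
      rw [h5]
      exact D.mul_mem h4 (D.inv_mem hd)
    rw [h1] at hT
    apply hQ (Nat.card ↥D) hDcop
    intro l hl m hm
    obtain ⟨hl', hlD⟩ := hT hl
    have hcn : (diag Z L hpc l hl') ^ Nat.card ↥D = 1 := by
      have h1 := pow_card_eq_one' (G := ↥D) (x := ⟨diag Z L hpc l hl', hlD⟩)
      have h2 := congrArg Subtype.val h1
      rw [Subgroup.coe_pow, Subgroup.coe_one] at h2
      exact h2
    rw [← diag_pow hpc l hl'] at hcn
    apply commute_of_commute_diag hpc _ (L.pow_mem hl' _) m hm
    rw [hcn]
    exact Commute.one_left m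
  · have h2 : ⁅⁅L, D⁆, L⁆ = ⊥ := by rw [Subgroup.commutator_comm]; exact h1
    have h3 : ⁅⁅D, L⁆, L⁆ = ⊥ := by rw [Subgroup.commutator_comm D L]; exact h2
    have h4 := Subgroup.commutator_commutator_eq_bot_of_rotate (H₁ := L) (H₂ := L) (H₃ := D)
      h2 h3
    rw [IsQuasisimple.commutator_eq_self hL.2] at h4
    exact h4

theorem main (hO : pPrimeCore p G = ⊥) (x : G) (hx : orderOf x = p) (L : Subgroup G)
    (hL : IsComponent L) (hne : ⁅L, Subgroup.zpowers x⁆ ≠ L) :
    ⁅L, centralizerPPrimeCore p x⁆ = ⊥ := by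
  by_cases hxL : x ∈ Subgroup.normalizer (L : Set G)
  · exact caseA hO x L hL hne hxL
  · exact caseB hO x hx L hL hxL

end Cfsg.Agent.Lib.Lead.DiagComp
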