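import Mathlib

set_option autoImplicit false

/-! In a dihedral group of order `2n ≥ 4`, every element outside a cyclic subgroup of index 2
is an involution. -/

namespace Cfsg.Agent.Lib.Lead.DihIdx2

open DihedralGroup

theorem dih_orderOf_eq_two {n : ℕ} (hn : 2 ≤ n) (C : Subgroup (DihedralGroup n))
    (hC : IsCyclic C) (hi : C.index = 2) (d : DihedralGroup n) (hd : d ∉ C) : orderOf d = 2 := by
  haveI : NeZero n := ⟨by omega⟩
  have hcard : Nat.card C = n := by
    have h1 := Subgroup.card_mul_index C
    rw [hi, DihedralGroup.nat_card] at h1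
    omega
  obtain ⟨g, hg⟩ := hC.exists_generator
  have hog : orderOf (g : DihedralGroup n) = n := by
    rw [Subgroup.orderOf_coe, orderOf_eq_card_of_forall_mem_zpowers hg, hcard]
  have hd1 : d ≠ 1 := fun h => hd (h ▸ C.one_mem)
  cases hgv : (g : DihedralGroup n) with
  | r i =>
    -- C is the rotation subgroup
    have hCR : C ≤ Subgroup.zpowers (r (1 : ZMod n)) := by
      intro y hy
      have := hg ⟨y, hy⟩
      obtain ⟨j, hj⟩ := Subgroup.mem_zpowers_iff.mp this
      have hj' : (g : DihedralGroup n) ^ j = y := by
        have := congrArg Subtype.val hj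
        simpa using this
      rw [← hj', hgv]
      have hri : r i = (r (1 : ZMod n)) ^ (i.val) := by
        rw [r_one_pow, ZMod.natCast_zmod_val]
      rw [hri]
      exact Subgroup.zpow_mem _ (Subgroup.pow_mem _ (Subgroup.mem_zpowers _) _) _
    have hcR : Nat.card (Subgroup.zpowers (r (1 : ZMod n))) = n := by
      rw [Nat.card_zpowers, orderOf_r_one]
    have hCeq : C = Subgroup.zpowers (r (1 : ZMod n)) :=
      Subgroup.eq_of_le_of_card_ge hCR (by rw [hcard, hcR])
    cases d with
    | r j =>
      exfalso; apply hd
      rw [hCeq]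
      have : r j = (r (1 : ZMod n)) ^ (j.val) := by
        rw [r_one_pow, ZMod.natCast_zmod_val]
      rw [this]
      exact Subgroup.pow_mem _ (Subgroup.mem_zpowers _) _
    | sr j => exact orderOf_sr j
  | sr i =>
    rw [hgv, orderOf_sr] at hog
    subst hog
    cases d with
    | r j =>
      apply orderOf_eq_prime
      · rw [r_pow]
        have : j * ((2 : ℕ) : ZMod 2) = 0 := by
          have : ((2 : ℕ) : ZMod 2) = 0 := by decide
          rw [this, mul_zero]
        rw [this]; rfl
      · exact hd1
    | sr j => exact orderOf_sr j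

theorem orderOf_eq_two_of_not_mem {D : Type*} [Group D] {n : ℕ} (hn : 2 ≤ n)
    (e : D ≃* DihedralGroup n) (C : Subgroup D) (hC : IsCyclic C) (hi : C.index = 2)
    (d : D) (hd : d ∉ C) : orderOf d = 2 := by
  rw [← MulEquiv.orderOf_eq e d]
  apply dih_orderOf_eq_two hn (C.map e.toMonoidHom)
  · exact isCyclic_of_surjective (C.equivMapOfInjective e.toMonoidHom e.injective)
      (C.equivMapOfInjective e.toMonoidHom e.injective).surjective
  · rw [Subgroup.index_map_of_bijective e.bijective, hi]
  · rintro ⟨y, hy, hyd⟩
    have : y = d := e.injective hyd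
    exact hd (this ▸ hy)

end Cfsg.Agent.Lib.Lead.DihIdx2
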