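import Mathlib
import Cfsg.Agent.Lib.Helper7.EPPO2
import Cfsg.Agent.Lib.Lead.SylowSystem
import Cfsg.Agent.Lib.Helper7.TwoFrob3

set_option autoImplicit false
open Pointwise

/-!
# Three primes in a solvable group: two of them are adjacent in the prime graph
-/

namespace Cfsg.Agent.Lib.Lead.EPPORestore

open Cfsg.Agent.Lib.Helper7.EPPO

open Cfsg.Agent.Lib.Lead

universe u

variable {G : Type u} [Group G]

/-- an element whose order is not a prime power has a power of order `ℓ₁ ℓ₂` for two distinct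
primes -/
theorem exists_two_primes_of_not_isPrimePow {n : ℕ} (hn0 : n ≠ 0) (hn1 : n ≠ 1)
    (hn : ¬ IsPrimePow n) : ∃ a b : ℕ, a.Prime ∧ b.Prime ∧ a ≠ b ∧ a ∣ n ∧ b ∣ n := by
  obtain ⟨a, ha, han⟩ := Nat.exists_prime_and_dvd hn1
  by_contra hcon
  push Not at hcon
  apply hn
  have h1 : ∀ {d : ℕ}, d.Prime → d ∣ n → d = a := by
    intro d hd hdn
    by_contra hda
    exact hcon a d ha hd (fun e => hda e.symm) han hdn
  have h2 := Nat.eq_prime_pow_of_unique_prime_dvd hn0 h1
  rw [h2]
  refine ⟨a, n.primeFactorsList.length, ha.prime, ?_, rfl⟩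
  rcases Nat.eq_zero_or_pos n.primeFactorsList.length with h0 | h0
  · rw [h0, pow_zero] at h2
    exact absurd h2 hn1
  · exact h0

/-- **Lucido's lemma.** In a finite solvable group, among three prime divisors of the order two
are joined in the prime graph. -/
theorem false_of_three_primes [Finite G] [Group.IsSolvable G] {p q r : ℕ} (hp : p.Prime)
    (hq : q.Prime) (hr : r.Prime) (hpq : p ≠ q) (hpr : p ≠ r) (hqr : q ≠ r)
    (hpG : p ∣ Nat.card G) (hqG : q ∣ Nat.card G) (hrG : r ∣ Nat.card G)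
    (hno : ∀ a b : ℕ, (a = p ∨ a = q ∨ a = r) → (b = p ∨ b = q ∨ b = r) → a ≠ b →
      ∀ g : G, orderOf g ≠ a * b) : False := by
  classical
  have hcard0 : Nat.card G ≠ 0 := Nat.card_pos.ne'
  set T := (Nat.card G).primeFactors.filter (fun ℓ => ℓ ≠ p ∧ ℓ ≠ q ∧ ℓ ≠ r) with hT
  have hTprime : ∀ ℓ ∈ T, ℓ.Prime := fun ℓ hℓ =>
    Nat.prime_of_mem_primeFactors (Finset.mem_filter.mp hℓ).1
  set H := T.inf (hallCompl G) with hH
  have hidx : H.index = ∏ ℓ ∈ T, ℓ ^ (Nat.card G).factorization ℓ :=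
    index_finset_inf_hallCompl T hTprime
  have hmul := H.card_mul_index
  -- primes dividing `|H|`
  have hdvdH : ∀ a : ℕ, a.Prime → (a = p ∨ a = q ∨ a = r) → a ∣ Nat.card G → a ∣ Nat.card H := by
    intro a ha hapqr haG
    rw [← hmul] at haG
    rcases (Nat.Prime.dvd_mul ha).mp haG with h | h
    · exact h
    · exfalso
      rw [hidx] at h
      obtain ⟨ℓ, hℓT, hℓ⟩ := (Prime.dvd_finset_prod_iff ha.prime _).mp h
      have h1 : a = ℓ := (Nat.prime_dvd_prime_iff_eq ha (hTprime ℓ hℓT)).mp (ha.dvd_of_dvd_pow hℓ)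
      have h2 := (Finset.mem_filter.mp hℓT).2
      rw [← h1] at h2
      rcases hapqr with e | e | e
      · exact h2.1 e
      · exact h2.2.1 e
      · exact h2.2.2 e
  have hprimesH : ∀ a : ℕ, a.Prime → a ∣ Nat.card H → (a = p ∨ a = q ∨ a = r) := by
    intro a ha haH
    by_contra hcon
    push Not at hcon
    have haG : a ∣ Nat.card G := haH.trans (Subgroup.card_subgroup_dvd_card H)
    have haT : a ∈ T := by
      rw [hT, Finset.mem_filter]
      exact ⟨Nat.mem_primeFactors.mpr ⟨ha, haG, hcard0⟩, hcon⟩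
    have h1 : a ^ (Nat.card G).factorization a ∣ H.index := by
      rw [hidx]
      exact Finset.dvd_prod_of_mem (fun ℓ => ℓ ^ (Nat.card G).factorization ℓ) haT
    have h2 : a ^ ((Nat.card G).factorization a + 1) ∣ Nat.card G := by
      have h3 : a ^ ((Nat.card G).factorization a + 1) ∣ Nat.card H * H.index := by
        rw [pow_succ, mul_comm]
        exact Nat.mul_dvd_mul haH h1
      rwa [hmul] at h3
    exact Nat.pow_succ_factorization_not_dvd hcard0 ha h2
  -- `H` has only elements of prime power order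
  have heppo : ∀ g : H, g ≠ 1 → IsPrimePow (orderOf g) := by
    intro g hg1
    by_contra hnpp
    have ho0 : orderOf g ≠ 0 := (orderOf_pos g).ne'
    have ho1 : orderOf g ≠ 1 := fun e => hg1 (orderOf_eq_one_iff.mp e)
    obtain ⟨a, b, ha, hb, hab, hag, hbg⟩ := exists_two_primes_of_not_isPrimePow ho0 ho1 hnpp
    have haH := hprimesH a ha (hag.trans (orderOf_dvd_natCard g))
    have hbH := hprimesH b hb (hbg.trans (orderOf_dvd_natCard g))
    have hdvd : a * b ∣ orderOf g :=
      Nat.Coprime.mul_dvd_of_dvd_of_dvd ((Nat.coprime_primes ha hb).mpr hab) hag hbg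
    have h1 := Cfsg.Agent.Lib.Helper7.TwoFrob.orderOf_pow_div g hdvd
    apply hno a b haH hbH hab ((g ^ (orderOf g / (a * b)) : H) : G)
    rw [Subgroup.orderOf_coe]
    exact h1
  have h3 := card_primeFactors_le_two heppo
  have hsub : ({p, q, r} : Finset ℕ) ⊆ (Nat.card H).primeFactors := by
    intro a ha
    have hcardH0 : Nat.card H ≠ 0 := Nat.card_pos.ne'
    simp only [Finset.mem_insert, Finset.mem_singleton] at ha
    rcases ha with rfl | rfl | rfl
    · exact Nat.mem_primeFactors.mpr ⟨hp, hdvdH _ hp (Or.inl rfl) hpG, hcardH0⟩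
    · exact Nat.mem_primeFactors.mpr ⟨hq, hdvdH _ hq (Or.inr (Or.inl rfl)) hqG, hcardH0⟩
    · exact Nat.mem_primeFactors.mpr ⟨hr, hdvdH _ hr (Or.inr (Or.inr rfl)) hrG, hcardH0⟩
  have h4 := Finset.card_le_card hsub
  have h5 : ({p, q, r} : Finset ℕ).card = 3 := by
    rw [Finset.card_insert_of_notMem, Finset.card_insert_of_notMem, Finset.card_singleton]
    · simpa using hqr
    · simp only [Finset.mem_insert, Finset.mem_singleton]
      push Not
      exact ⟨hpq, hpr⟩
  omega

end Cfsg.Agent.Lib.Lead.EPPORestore
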