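import Mathlib
import Cfsg.Agent.Lib.Helper8.BlockLocal

/-!
# Eigenvalues of `N⁻¹ • (integer matrix)` lie in the local ring at a prime not dividing `N`
(S4427, package (L1) of helper8's plan.)
-/

namespace Cfsg.Agent.Lib.Lead.EigInt

open Polynomial Cfsg Cfsg.Agent.Lib.Helper8

variable {n : Type*} [Fintype n] [DecidableEq n]

/-- A root of the characteristic polynomial of an integer matrix (viewed over `ℂ`) is an
algebraic integer. -/
theorem isIntegral_of_isRoot_charpoly_int (A : Matrix n n ℤ) (z : ℂ)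
    (hz : (A.map (Int.castRingHom ℂ)).charpoly.IsRoot z) : IsIntegral ℤ z := by
  refine ⟨A.charpoly, A.charpoly_monic, ?_⟩
  have h : (A.map (Int.castRingHom ℂ)).charpoly = A.charpoly.map (Int.castRingHom ℂ) := by
    rw [← Matrix.charpoly_map]
  rw [h, IsRoot.def, eval_map] at hz
  have : algebraMap ℤ ℂ = Int.castRingHom ℂ := rfl
  rw [this]
  exact hz

/-- Roots of the characteristic polynomial scale with the matrix. -/
theorem isRoot_charpoly_smul {c : ℂ} (hc : c ≠ 0) (A : Matrix n n ℂ) (z : ℂ)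
    (hz : (c • A).charpoly.IsRoot z) : A.charpoly.IsRoot (c⁻¹ * z) := by
  rw [IsRoot.def, Matrix.eval_charpoly] at hz ⊢
  have h : Matrix.scalar n (c⁻¹ * z) - A = c⁻¹ • (Matrix.scalar n z - c • A) := by
    ext i j
    by_cases hij : i = j
    · subst hij
      simp [Matrix.sub_apply, Matrix.smul_apply, mul_sub, hc]
    · simp [Matrix.sub_apply, Matrix.smul_apply, hij, hc]
  rw [h, Matrix.det_smul, hz, mul_zero]

/-- **(L1).**  If `A` is an integer matrix and `p ∤ N`, every root of the characteristic polynomial of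
`N⁻¹ • A` lies in the local ring at `M` (`M` a maximal ideal of the algebraic integers over `p`). -/
theorem memLocalRing_of_isRoot_charpoly {p : ℕ} {M : Ideal AlgInt} (hM : IsPModular p M)
    (A : Matrix n n ℤ) (N : ℕ) (hN : ¬ p ∣ N) (z : ℂ)
    (hz : (((N : ℂ)⁻¹) • A.map (Int.castRingHom ℂ)).charpoly.IsRoot z) : MemLocalRing M z := by
  have hN0 : (N : ℂ) ≠ 0 := by
    intro h
    apply hN
    have : N = 0 := by exact_mod_cast h
    rw [this]
    exact dvd_zero p
  have h1 := isRoot_charpoly_smul (inv_ne_zero hN0) _ z hz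
  rw [inv_inv] at h1
  have h2 : IsIntegral ℤ ((N : ℂ) * z) := isIntegral_of_isRoot_charpoly_int A _ h1
  have hMp : M.IsPrime := isPModular_isPrime hM
  have h3 : MemLocalRing M ((N : ℂ) * z) := memLocalRing_of_isIntegral hMp.ne_top h2
  have h4 : MemLocalRing M ((N : ℂ)⁻¹) := memLocalRing_inv_natCast hM hN
  have h5 := memLocalRing_mul hMp h4 h3
  have : (N : ℂ)⁻¹ * ((N : ℂ) * z) = z := by
    rw [← mul_assoc, inv_mul_cancel₀ hN0, one_mul]
  rwa [this] at h5

end Cfsg.Agent.Lib.Lead.EigInt
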