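import Mathlib

set_option autoImplicit false

/-!
# The exponent of a nilpotent group is bounded by the exponent of its centre and its class

If `z ^ e = 1` for all `z ∈ Z(G)` and `G` has class at most `c`, then `x ^ (e ^ c) = 1` for all `x ∈ G`
(the exponents of the factors of the upper central series are non-increasing).
-/

namespace Cfsg.Agent.Lib.Lead.ExpClass

open scoped commutatorElement

variable {G : Type*} [Group G]

/-- `x ↦ ⁅x, g⁆` is multiplicative on `Z_{i+2}` modulo `Z_i`. -/
theorem pow_mem_upperCentralSeries (e : ℕ) (he : ∀ z ∈ Subgroup.center G, z ^ e = 1) :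
    ∀ (i : ℕ) (x : G), x ∈ Subgroup.upperCentralSeries G (i + 1) → x ^ e ∈ Subgroup.upperCentralSeries G i := by
  intro i
  induction i with
  | zero =>
    intro x hx
    rw [Subgroup.upperCentralSeries_one] at hx
    rw [Subgroup.upperCentralSeries_zero, Subgroup.mem_bot]
    exact he x hx
  | succ i ih =>
    intro x hx
    rw [Subgroup.mem_upperCentralSeries_succ_iff]
    intro g
    -- `⁅x ^ j, g⁆ ≡ ⁅x, g⁆ ^ j` modulo `Z_i`
    haveI hn : (Subgroup.upperCentralSeries G i).Normal := inferInstance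
    have hxg : ⁅x, g⁆ ∈ Subgroup.upperCentralSeries G (i + 1) := (Subgroup.mem_upperCentralSeries_succ_iff.mp hx) g
    have key : ∀ j : ℕ, ⁅x ^ j, g⁆ * (⁅x, g⁆ ^ j)⁻¹ ∈ Subgroup.upperCentralSeries G i := by
      intro j
      induction j with
      | zero => simp
      | succ j ihj =>
        -- ⁅x^(j+1), g⁆ = x * ⁅x^j, g⁆ * x⁻¹ * ⁅x, g⁆
        have e1 : ⁅x ^ (j + 1), g⁆ = x * ⁅x ^ j, g⁆ * x⁻¹ * ⁅x, g⁆ := by
          rw [pow_succ']
          simp only [commutatorElement_def]
          group
        set a := ⁅x ^ j, g⁆ with ha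
        set b := ⁅x, g⁆ with hb
        set d := a * (b ^ j)⁻¹ with hd
        have hbj : b ^ j ∈ Subgroup.upperCentralSeries G (i + 1) := Subgroup.pow_mem _ hxg j
        -- `x` commutes with `b ^ j` modulo `Z_i`
        have h1 : ⁅b ^ j, x⁆ ∈ Subgroup.upperCentralSeries G i := (Subgroup.mem_upperCentralSeries_succ_iff.mp hbj) x
        have h1' : ⁅x, b ^ j⁆ ∈ Subgroup.upperCentralSeries G i := by
          have := Subgroup.inv_mem _ h1
          rwa [commutatorElement_inv] at this
        have h2 : x * d * x⁻¹ ∈ Subgroup.upperCentralSeries G i := hn.conj_mem d ihj x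
        have e2 : x * a * x⁻¹ * b * (b ^ (j + 1))⁻¹ = (x * d * x⁻¹) * ⁅x, b ^ j⁆ := by
          rw [hd, pow_succ, commutatorElement_def]
          group
        rw [e1, e2]
        exact Subgroup.mul_mem _ h2 h1'
    have h3 := key e
    have h4 : ⁅x, g⁆ ^ e ∈ Subgroup.upperCentralSeries G i := ih _ hxg
    have : ⁅x ^ e, g⁆ = (⁅x ^ e, g⁆ * (⁅x, g⁆ ^ e)⁻¹) * ⁅x, g⁆ ^ e := by group
    rw [this]
    exact Subgroup.mul_mem _ h3 h4

theorem pow_pow_eq_one_of_mem_upperCentralSeries (e : ℕ) (he : ∀ z ∈ Subgroup.center G, z ^ e = 1) :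
    ∀ (i : ℕ) (x : G), x ∈ Subgroup.upperCentralSeries G i → x ^ (e ^ i) = 1 := by
  intro i
  induction i with
  | zero =>
    intro x hx
    rw [Subgroup.upperCentralSeries_zero, Subgroup.mem_bot] at hx
    rw [hx, one_pow]
  | succ i ih =>
    intro x hx
    have := ih _ (pow_mem_upperCentralSeries e he i x hx)
    rw [pow_succ', pow_mul]
    exact this

/-- the exponent bound, for a subgroup `S` of an ambient group, in the ambient form of the class hypothesis. -/
theorem pow_eq_one_of_class {Ω : Type*} [Group Ω] (S : Subgroup Ω) (c e : ℕ)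
    (hcl : S.lowerCentralSeries c = ⊥)
    (he : ∀ z ∈ S, (∀ y ∈ S, y * z = z * y) → z ^ e = 1) :
    ∀ x ∈ S, x ^ (e ^ c) = 1 := by
  have h1 : (⊤ : Subgroup ↥S).lowerCentralSeries c = ⊥ := by
    have := Subgroup.top_subtype_lowerCentralSeries S c
    rw [hcl] at this
    exact (Subgroup.map_eq_bot_iff_of_injective _ S.subtype_injective).mp this
  rw [Subgroup.lowerCentralSeries_eq_bot_iff_upperCentralSeries_eq_top] at h1
  have he' : ∀ z ∈ Subgroup.center ↥S, z ^ e = 1 := by
    intro z hz
    apply Subtype.ext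
    rw [Subgroup.coe_pow, Subgroup.coe_one]
    apply he z z.2
    intro y hy
    have := Subgroup.mem_center_iff.mp hz ⟨y, hy⟩
    exact congrArg Subtype.val this
  intro x hx
  have := pow_pow_eq_one_of_mem_upperCentralSeries e he' c ⟨x, hx⟩ (by rw [h1]; trivial)
  have := congrArg Subtype.val this
  simpa using this

end Cfsg.Agent.Lib.Lead.ExpClass
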