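import Mathlib
import Cfsg.Prelude.Def_Local
import Cfsg.Agent.Lib.Lead.ExpSec1
import Cfsg.Agent.Lib.Helper9.Sections

set_option autoImplicit false

/-! Sections without an element of order equal to the exponent: the criterion. -/

namespace Cfsg.Agent.Lib.Lead.ExpSec

open Cfsg Cfsg.Agent.Lib.Lead Cfsg.Agent.Lib.Lead.GT
open scoped commutatorElement

universe u

variable {p : ℕ} [hpf : Fact p.Prime]

/-- the bad property -/
def Bad (p : ℕ) (X : Type*) [Group X] : Prop :=
  Cfsg.pPrimeCore p X = ⊥ ∧ ∀ k : X, orderOf k ≠ Monoid.exponent X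

theorem bad_of_doubly_minimal {K : Type u} [Group K] [Finite K]
    (h1 : ¬ PNilp p K) (h2 : ∀ H : Subgroup K, H ≠ ⊤ → PNilp p H)
    (h3 : ∀ (M : Subgroup K) [M.Normal], M ≠ ⊥ → PNilp p (K ⧸ M)) : Bad p K := by
  classical
  have hpp : p.Prime := hpf.out
  have hO : Cfsg.pPrimeCore p K = ⊥ := by
    by_contra hne
    have := h3 (Cfsg.pPrimeCore p K) hne
    exact h1 (PNilp.of_quotient_coprime _ (Cfsg.Agent.Lib.Helper6.pPrimeCore_coprime p) this)
  refine ⟨hO, ?_⟩
  obtain ⟨_, _, hsyl⟩ := Cfsg.Agent.Lib.Lead.minimal_non_pnilpotent (p := p)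
    (fun h => h1 (pnilp_iff.mpr h)) (fun H hH => pnilp_iff.mp (h2 H hH))
  let P : Sylow p K := default
  have hPn : (P : Subgroup K).Normal := hsyl P
  intro k hk
  have hpdvd : p ∣ Nat.card K := by
    by_contra hnd
    apply h1
    refine ⟨⊤, inferInstance, ?_, 0, ?_⟩
    · rw [Subgroup.card_top, Nat.coprime_comm]
      exact (Nat.Prime.coprime_iff_not_dvd hpp).mpr hnd
    · rw [Subgroup.index_top, pow_zero]
  obtain ⟨q, hq, hqne, hqdvd⟩ : ∃ q : ℕ, q.Prime ∧ q ≠ p ∧ q ∣ Nat.card K := by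
    by_contra hcon
    push Not at hcon
    apply h1
    apply PNilp.of_isPGroup
    have hcard : Nat.card K = p ^ (Nat.card K).primeFactorsList.length :=
      Nat.eq_prime_pow_of_unique_prime_dvd Nat.card_pos.ne' (fun {d} hd hdd => by
        by_contra hne
        exact hcon d hd hne hdd)
    exact IsPGroup.of_card hcard
  haveI : Fact q.Prime := ⟨hq⟩
  obtain ⟨xp, hxp⟩ := exists_prime_orderOf_dvd_card' (G := K) p hpdvd
  obtain ⟨xq, hxq⟩ := exists_prime_orderOf_dvd_card' (G := K) q hqdvd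
  have hn0 : orderOf k ≠ 0 := (orderOf_pos k).ne'
  have hpn : p ∣ orderOf k := by
    rw [hk, ← hxp]; exact Monoid.order_dvd_exponent xp
  have hqn : q ∣ orderOf k := by
    rw [hk, ← hxq]; exact Monoid.order_dvd_exponent xq
  set a := k ^ (orderOf k / p) with ha
  set b := k ^ (orderOf k / q) with hb
  have hoa : orderOf a = p := orderOf_pow_orderOf_div hn0 hpn
  have hob : orderOf b = q := orderOf_pow_orderOf_div hn0 hqn
  have hab : a * b = b * a := (Commute.pow_pow_self k _ _).eq
  have ha1 : a ≠ 1 := by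
    intro h
    rw [h, orderOf_one] at hoa
    exact hpp.one_lt.ne hoa
  have haP : a ∈ (P : Subgroup K) := by
    obtain ⟨h, hh⟩ := Cfsg.Agent.Lib.Lead.exists_conj_mem_sylow P a
      ⟨1, by rw [pow_one, ← hoa]; exact pow_orderOf_eq_one a⟩
    have := hPn.conj_mem _ hh h
    have e : h * (h⁻¹ * a * h) * h⁻¹ = a := by group
    rwa [e] at this
  have hbcop : (orderOf b).Coprime p := by
    rw [hob]; exact (Nat.coprime_primes hq hpp).mpr hqne
  have hbP := centralizes_sylow h2 h3 P hPn a b haP ha1 hab hbcop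
  -- the centralizer of P
  haveI := hPn
  set C := Subgroup.centralizer ((P : Subgroup K) : Set K) with hC
  have hbC : b ∈ C := by
    rw [hC, Subgroup.mem_centralizer_iff]
    intro x hx
    exact (hbP x hx).symm
  have hCtop : C ≠ ⊤ := by
    intro htop
    apply h1
    apply pnilp_iff.mpr
    refine Cfsg.Agent.Lib.Lead.hasNormalPComplement_of_normalizer_le_centralizer P ?_
    intro x _
    have hxC : x ∈ C := by rw [htop]; exact Subgroup.mem_top x
    exact hxC
  obtain ⟨M, hMn, hMcop, j, hMidx⟩ := h2 C hCtop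
  have hCn : C.Normal := by rw [hC]; infer_instance
  have hsn : (M.map C.subtype).IsSubnormal := (hMn.isSubnormal).trans' hCn.isSubnormal
  have hcard : Nat.card (M.map C.subtype) = Nat.card M :=
    Nat.card_congr (Subgroup.equivMapOfInjective M C.subtype C.subtype_injective).symm.toEquiv
  have hle := Cfsg.Agent.Lib.Helper3.le_pPrimeCore_of_isSubnormal hsn (by rw [hcard]; exact hMcop)
  rw [hO, le_bot_iff] at hle
  have hMbot : M = ⊥ := (Subgroup.map_eq_bot_iff_of_injective _ C.subtype_injective).mp hle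
  have hCp : IsPGroup p ↥C := by
    apply IsPGroup.of_card (n := j)
    rw [← hMidx, hMbot, Subgroup.index_bot]
  obtain ⟨i, hi⟩ := hCp ⟨b, hbC⟩
  have hi' : b ^ p ^ i = 1 := by
    have := congrArg Subtype.val hi
    simpa using this
  have hdvd : q ∣ p ^ i := by rw [← hob]; exact orderOf_dvd_of_pow_eq_one hi'
  have := (Nat.prime_dvd_prime_iff_eq hq hpp).mp (hq.dvd_of_dvd_pow hdvd)
  exact hqne this

end Cfsg.Agent.Lib.Lead.ExpSec
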