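import Mathlib
import Cfsg.Prelude.Def_Local
import Cfsg.Agent.Lib.Lead.ExpSec2

set_option autoImplicit false

/-! Sections without an element of order equal to the exponent: induction and criterion. -/

namespace Cfsg.Agent.Lib.Lead.ExpSec

open Cfsg Cfsg.Agent.Lib.Lead Cfsg.Agent.Lib.Lead.GT Cfsg.Agent.Lib.Helper9

universe u

variable {p : ℕ} [hpf : Fact p.Prime]

theorem Bad.of_equiv {X Y : Type*} [Group X] [Group Y] (e : X ≃* Y) (h : Bad p X) : Bad p Y := by
  obtain ⟨h1, h2⟩ := h
  constructor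
  · rw [← Cfsg.Agent.Lib.Helper3.pPrimeCore_map_mulEquiv p e, h1, Subgroup.map_bot]
  · intro k hk
    apply h2 (e.symm k)
    rw [MulEquiv.orderOf_eq, hk, Monoid.exponent_eq_of_mulEquiv e]

/-- a finite group without normal `p`-complement has a bad section -/
theorem exists_bad_section : ∀ (n : ℕ) (K : Type u) [Group K] [Finite K], Nat.card K = n →
    ¬ PNilp p K → ∃ (A : Type u) (_ : Group A), IsSectionOf A K ∧ Bad p A := by
  intro n
  induction n using Nat.strong_induction_on with
  | _ n ih =>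
    intro K _ _ hn h1
    by_cases h2 : ∀ H : Subgroup K, H ≠ ⊤ → PNilp p H
    · by_cases h3 : ∀ (M : Subgroup K) [M.Normal], M ≠ ⊥ → PNilp p (K ⧸ M)
      · refine ⟨K, inferInstance, ?_, bad_of_doubly_minimal h1 h2 h3⟩
        exact ⟨⊤, (Subgroup.topEquiv : (⊤ : Subgroup K) ≃* K).toMonoidHom,
          (Subgroup.topEquiv : (⊤ : Subgroup K) ≃* K).surjective⟩
      · push Not at h3
        obtain ⟨M, hMn, hMne, hM⟩ := h3
        have hlt : Nat.card (K ⧸ M) < n := by
          rw [← hn, ← Subgroup.index_eq_card]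
          have h4 := Subgroup.card_mul_index M
          have h5 : 1 < Nat.card M := by
            rw [Subgroup.one_lt_card_iff_ne_bot]; exact hMne
          have h6 : 0 < M.index := Nat.pos_of_ne_zero Subgroup.index_ne_zero_of_finite
          nlinarith
        obtain ⟨A, hA, hsec, hbad⟩ := ih _ hlt (K ⧸ M) rfl hM
        refine ⟨A, hA, hsec.trans ?_, hbad⟩
        refine ⟨⊤, (QuotientGroup.mk' M).comp (⊤ : Subgroup K).subtype, ?_⟩
        intro x
        obtain ⟨y, rfl⟩ := QuotientGroup.mk'_surjective M x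
        exact ⟨⟨y, Subgroup.mem_top y⟩, rfl⟩
    · push Not at h2
      obtain ⟨H, hHne, hH⟩ := h2
      have hlt : Nat.card H < n := by
        rw [← hn]
        have hle : Nat.card H ≤ Nat.card K := Subgroup.card_le_card_group H
        rcases lt_or_eq_of_le hle with h | h
        · exact h
        · exact (hHne (Subgroup.eq_top_of_card_eq H h)).elim
      obtain ⟨A, hA, hsec, hbad⟩ := ih _ hlt H rfl hH
      exact ⟨A, hA, hsec.of_subgroup, hbad⟩

/-- a finite `p`-group has an element whose order is the exponent -/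
theorem exists_orderOf_eq_exponent_of_isPGroup {X : Type*} [Group X] [Finite X]
    (hX : IsPGroup p X) : ∃ k : X, orderOf k = Monoid.exponent X := by
  have hpp : p.Prime := hpf.out
  obtain ⟨n, hn⟩ := IsPGroup.iff_card.mp hX
  have hdvd : Monoid.exponent X ∣ p ^ n := by
    rw [← hn]; exact Group.exponent_dvd_nat_card
  obtain ⟨j, _, hj⟩ := (Nat.dvd_prime_pow hpp).mp hdvd
  rcases Nat.eq_zero_or_pos j with h0 | hpos
  · refine ⟨1, ?_⟩
    rw [orderOf_one, hj, h0, pow_zero]
  · by_contra hcon
    push Not at hcon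
    have hall : ∀ g : X, g ^ p ^ (j - 1) = 1 := by
      intro g
      have h1 : orderOf g ∣ p ^ j := by rw [← hj]; exact Monoid.order_dvd_exponent g
      obtain ⟨i, hij, hi⟩ := (Nat.dvd_prime_pow hpp).mp h1
      have hne : i ≠ j := by
        intro h
        apply hcon g
        rw [hi, h, hj]
      have hle : i ≤ j - 1 := by omega
      apply orderOf_dvd_iff_pow_eq_one.mp
      rw [hi]
      exact pow_dvd_pow p hle
    have h2 := Monoid.exponent_dvd_iff_forall_pow_eq_one.mpr hall
    rw [hj] at h2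
    have h3 := Nat.pow_dvd_pow_iff_le_right hpp.one_lt |>.mp h2
    omega

/-- the criterion, for `PNilp` -/
theorem pnilp_iff_sections {G : Type u} [Group G] [Finite G] :
    PNilp p G ↔ ∀ (H : Subgroup G) (N : Subgroup H) [N.Normal], Cfsg.pPrimeCore p (H ⧸ N) = ⊥ →
      ∃ k : H ⧸ N, orderOf k = Monoid.exponent (H ⧸ N) := by
  constructor
  · intro h H N _ hO
    have h1 : PNilp p (↥H ⧸ N) := (h.subgroup H).of_surjective _ (QuotientGroup.mk'_surjective N)
    obtain ⟨M, hMn, hMcop, j, hMidx⟩ := h1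
    have hle := Cfsg.Agent.Lib.Helper6.le_pPrimeCore hMn hMcop
    rw [hO, le_bot_iff] at hle
    apply exists_orderOf_eq_exponent_of_isPGroup (p := p)
    apply IsPGroup.of_card (n := j)
    rw [← hMidx, hle, Subgroup.index_bot]
  · intro h
    by_contra hn
    obtain ⟨A, hA, ⟨H, f, hf⟩, hbad⟩ := exists_bad_section (p := p) _ G rfl hn
    have e : (↥H ⧸ f.ker) ≃* A := QuotientGroup.quotientKerEquivOfSurjective f hf
    have hbad' : Bad p (↥H ⧸ f.ker) := Bad.of_equiv e.symm hbad
    obtain ⟨k, hk⟩ := h H f.ker hbad'.1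
    exact hbad'.2 k hk

end Cfsg.Agent.Lib.Lead.ExpSec
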