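import Mathlib
import Cfsg.Agent.Lib.Lead.ExtAct3

set_option autoImplicit false

namespace Cfsg.Agent.Lib.Lead.ExtAct

open scoped Pointwise

section
variable {A G : Type*} [Group A] [Finite A] [Group G] [Finite G] [MulDistribMulAction A G]

theorem exists_prime_isPGroup (hcop : (Nat.card A).Coprime (Nat.card G))
    (hsol : Group.IsSolvable A ∨ Group.IsSolvable G)
    (hconj : ∀ M N : Subgroup G, MaxInv A M → MaxInv A N →
      ∃ c : G, (∀ a : A, a • c = c) ∧ N = MulAut.conj c • M) :
    ∃ p : ℕ, p.Prime ∧ IsPGroup p G := by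
  classical
  by_contra hno
  push_neg at hno
  have hnt : (⊥ : Subgroup G) ≠ ⊤ := by
    intro h
    apply hno 2 Nat.prime_two
    intro g
    refine ⟨0, ?_⟩
    have : g ∈ (⊥ : Subgroup G) := by rw [h]; trivial
    rw [Subgroup.mem_bot] at this
    rw [this, one_pow]
  obtain ⟨M₀, -, hM₀⟩ := exists_maxInv (A := A) ⊥ hnt (by
    intro a x hx
    rw [Subgroup.mem_bot] at hx ⊢
    rw [hx, smul_one])
  apply hM₀.1
  rw [← Subgroup.card_eq_iff_eq_top]
  apply Nat.dvd_antisymm (Subgroup.card_subgroup_dvd_card M₀)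
  rw [← Nat.factorization_prime_le_iff_dvd Nat.card_pos.ne' Nat.card_pos.ne']
  intro r hr
  haveI : Fact r.Prime := ⟨hr⟩
  obtain ⟨R, hR⟩ := exists_invariant_sylow hcop hsol r
  have hRtop : (R : Subgroup G) ≠ ⊤ := by
    intro h
    apply hno r hr
    intro g
    have hg : g ∈ (R : Subgroup G) := by rw [h]; trivial
    obtain ⟨k, hk⟩ := R.isPGroup' ⟨g, hg⟩
    refine ⟨k, ?_⟩
    have := congrArg Subtype.val hk
    simpa using this
  obtain ⟨N, hRN, hN⟩ := exists_maxInv (A := A) (R : Subgroup G) hRtop hR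
  obtain ⟨c, -, hc⟩ := hconj M₀ N hM₀ hN
  have hcard : Nat.card N = Nat.card M₀ := by
    rw [hc]; exact (Nat.card_congr (Subgroup.equivSMul (MulAut.conj c) M₀).toEquiv).symm
  have h1 : Nat.card (R : Subgroup G) ∣ Nat.card M₀ := by
    rw [← hcard]; exact Subgroup.card_dvd_of_le hRN
  rw [R.card_eq_multiplicity] at h1
  exact (hr.pow_dvd_iff_le_factorization Nat.card_pos.ne').mp h1

theorem irr_of_conj (hcop : (Nat.card A).Coprime (Nat.card G)) (p : ℕ) [Fact p.Prime]
    (hG : IsPGroup p G)
    (hconj : ∀ M N : Subgroup G, MaxInv A M → MaxInv A N →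
      ∃ c : G, (∀ a : A, a • c = c) ∧ N = MulAut.conj c • M) :
    ∀ L : Subgroup G, frattini G < L → (∀ a : A, ∀ x ∈ L, a • x ∈ L) → L = ⊤ := by
  classical
  intro L hL hLinv
  by_contra hLtop
  obtain ⟨M, hLM, hM⟩ := exists_maxInv (A := A) L hLtop hLinv
  -- M is normal
  haveI hnil : Group.IsNilpotent G := hG.isNilpotent
  have hMn : M.Normal := by
    rw [← Subgroup.normalizer_eq_top_iff]
    apply hM.2.2 _ _ (inv_normalizer hM.2.1)
    exact Group.normalizerCondition_of_isNilpotent M (lt_top_iff_ne_top.mpr hM.1)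
  -- M is the unique maximal invariant subgroup
  have huniq : ∀ N : Subgroup G, MaxInv A N → N = M := by
    intro N hN
    obtain ⟨c, -, hc⟩ := hconj M N hM hN
    rw [hc]; exact Subgroup.Normal.conj_smul_eq_self c M
  have hΦM : frattini G < M := lt_of_lt_of_le hL hLM
  -- p does not divide the order of A
  have hpG : p ∣ Nat.card G := by
    obtain ⟨n, hn⟩ := IsPGroup.iff_card.mp hG
    rcases Nat.eq_zero_or_pos n with h0 | h0
    · exfalso
      rw [h0, pow_zero] at hn
      apply hM.1
      rw [← Subgroup.card_eq_iff_eq_top, hn]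
      exact Nat.le_antisymm (hn ▸ Subgroup.card_le_card_group M) Nat.card_pos
    · rw [hn]; exact dvd_pow_self p h0.ne'
  have hpA : ¬ p ∣ Nat.card A := by
    intro h
    have := Nat.dvd_gcd h hpG
    rw [hcop] at this
    exact (Fact.out : p.Prime).one_lt.ne' (Nat.dvd_one.mp this)
  -- the quotient
  have hΦinv : Inv A (frattini G) := inv_frattini
  letI : MulDistribMulAction A (G ⧸ frattini G) := quotAction (frattini G) hΦinv
  have hsmul : ∀ (a : A) (x : G), a • (x : G ⧸ frattini G) = ((a • x : G) : G ⧸ frattini G) :=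
    fun a x => rfl
  have hcomm : ∀ x y : G ⧸ frattini G, x * y = y * x := by
    have := Subgroup.Normal.quotient_commutative_iff_commutator_le.mpr
      (Cfsg.Agent.Lib.Lead.commutator_le_frattini_of_isPGroup hG)
    exact fun x y => this.is_comm.comm x y
  have hexp : ∀ x : G ⧸ frattini G, x ^ p = 1 := by
    intro x
    induction x using QuotientGroup.induction_on with
    | H x =>
      rw [← QuotientGroup.mk_pow, QuotientGroup.eq_one_iff]
      exact Cfsg.Agent.Lib.Lead.pow_mem_frattini_of_isPGroup hG x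
  set π := QuotientGroup.mk' (frattini G) with hπ
  have hπs : Function.Surjective π := QuotientGroup.mk'_surjective _
  obtain ⟨W, hWinv, hUW, hUW'⟩ := exists_invariant_complement p hcomm hexp hpA (M.map π) (by
    rintro a _ ⟨m, hm, rfl⟩
    exact ⟨a • m, hM.2.1 a m hm, rfl⟩)
  have hKinv : Inv A (W.comap π) := by
    intro a x hx
    rw [Subgroup.mem_comap] at hx ⊢
    exact hWinv a _ hx
  have hKtop : W.comap π ≠ ⊤ := by
    intro h
    have hW : W = ⊤ := by
      rw [← Subgroup.map_comap_eq_self_of_surjective hπs W, h, ← MonoidHom.range_eq_map,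
        MonoidHom.range_eq_top]
      exact hπs
    rw [hW, inf_top_eq] at hUW
    have : M ≤ frattini G := by
      have h2 : M ≤ π.ker := by
        rw [← Subgroup.map_eq_bot_iff]; exact hUW
      rwa [hπ, QuotientGroup.ker_mk'] at h2
    exact absurd (lt_of_lt_of_le hΦM this) (lt_irrefl _)
  obtain ⟨N, hKN, hN⟩ := exists_maxInv (A := A) _ hKtop hKinv
  rw [huniq N hN] at hKN
  have hWU : W ≤ M.map π := by
    rw [← Subgroup.map_comap_eq_self_of_surjective hπs W]
    exact Subgroup.map_mono hKN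
  rw [sup_eq_left.mpr hWU] at hUW'
  apply hM.1
  have h3 : (M.map π).comap π = ⊤ := by rw [hUW']; rfl
  rw [Subgroup.comap_map_eq, hπ, QuotientGroup.ker_mk'] at h3
  exact frattini_nongenerating h3

end

end Cfsg.Agent.Lib.Lead.ExtAct
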