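import Mathlib
import Cfsg.Agent.Lib.Lead.Extra1

set_option autoImplicit false

namespace Cfsg.Agent.Lib.Lead.Extra

universe u v

/-- Gluing isomorphisms along central products, keeping track of the glued map. -/
theorem glue' {E : Type u} {E' : Type v} [Group E] [Group E'] (H C : Subgroup E) (H' C' : Subgroup E')
    (hc : ∀ a ∈ H, ∀ b ∈ C, a * b = b * a) (hc' : ∀ a ∈ H', ∀ b ∈ C', a * b = b * a)
    (hgen : H ⊔ C = ⊤) (hgen' : H' ⊔ C' = ⊤)
    (f₀ : H ≃* H') (f₁ : C ≃* C')
    (hag : ∀ (a : E) (ha : a ∈ H) (hb : a ∈ C), (f₀ ⟨a, ha⟩ : E') = f₁ ⟨a, hb⟩)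
    (hint : ∀ a : H, (f₀ a : E') ∈ C' → (a : E) ∈ C) :
    ∃ F : E ≃* E', ∀ (a : H) (b : C), F ((a : E) * (b : E)) = (f₀ a : E') * (f₁ b : E') := by
  -- the two multiplication maps
  let μ : H × C →* E :=
    { toFun := fun ab => (ab.1 : E) * (ab.2 : E)
      map_one' := by simp
      map_mul' := by
        rintro ⟨a, b⟩ ⟨a', b'⟩
        show (a : E) * a' * ((b : E) * b') = a * b * (a' * b')
        have := hc a' a'.2 b b.2
        rw [mul_assoc, ← mul_assoc (a' : E), this, mul_assoc, mul_assoc] }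
  let φ : H × C →* E' :=
    { toFun := fun ab => (f₀ ab.1 : E') * (f₁ ab.2 : E')
      map_one' := by simp
      map_mul' := by
        rintro ⟨a, b⟩ ⟨a', b'⟩
        show ((f₀ (a * a') : H') : E') * ((f₁ (b * b') : C') : E') = f₀ a * f₁ b * (f₀ a' * f₁ b')
        rw [map_mul, map_mul, Subgroup.coe_mul, Subgroup.coe_mul]
        have := hc' (f₀ a') (f₀ a').2 (f₁ b) (f₁ b).2
        rw [mul_assoc, ← mul_assoc (f₀ a' : E'), this, mul_assoc, mul_assoc] }
  have hμ : Function.Surjective μ := by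
    rw [← MonoidHom.range_eq_top, eq_top_iff, ← hgen, sup_le_iff]
    constructor
    · intro a ha
      exact ⟨(⟨a, ha⟩, 1), by simp [μ]⟩
    · intro b hb
      exact ⟨(1, ⟨b, hb⟩), by simp [μ]⟩
  have hφ : Function.Surjective φ := by
    rw [← MonoidHom.range_eq_top, eq_top_iff, ← hgen', sup_le_iff]
    constructor
    · intro a ha
      refine ⟨(f₀.symm ⟨a, ha⟩, 1), ?_⟩
      simp [φ]
    · intro b hb
      refine ⟨(1, f₁.symm ⟨b, hb⟩), ?_⟩
      simp [φ]
  have hker : μ.ker = φ.ker := by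
    ext ⟨a, b⟩
    rw [MonoidHom.mem_ker, MonoidHom.mem_ker]
    show (a : E) * b = 1 ↔ (f₀ a : E') * f₁ b = 1
    constructor
    · intro h
      have hb : (b : E) = (a : E)⁻¹ := eq_inv_of_mul_eq_one_right h
      have haC : (a : E) ∈ C := by
        have : (a : E) = (b : E)⁻¹ := eq_inv_of_mul_eq_one_left h
        rw [this]
        exact C.inv_mem b.2
      have h1 := hag a a.2 haC
      have h2 : (⟨(a : E), haC⟩ : C) * b = 1 := by
        apply Subtype.ext
        exact h
      have h3 : f₁ ⟨(a : E), haC⟩ * f₁ b = 1 := by rw [← map_mul, h2, map_one]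
      have h4 := congrArg Subtype.val h3
      rw [Subgroup.coe_mul, Subgroup.coe_one, ← h1] at h4
      exact h4
    · intro h
      have h1 : (f₀ a : E') = (f₁ b : E')⁻¹ := eq_inv_of_mul_eq_one_left h
      have haC : (a : E) ∈ C := by
        apply hint
        rw [h1]
        exact C'.inv_mem (f₁ b).2
      have h2 := hag a a.2 haC
      have h3 : (f₁ (⟨(a : E), haC⟩ * b) : E') = 1 := by
        rw [map_mul, Subgroup.coe_mul, ← h2]
        exact h
      have h4 : f₁ (⟨(a : E), haC⟩ * b) = 1 := Subtype.ext h3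
      have h5 : (⟨(a : E), haC⟩ : C) * b = 1 := by
        apply f₁.injective
        rw [h4, map_one]
      exact congrArg Subtype.val h5
  let e1 : (H × C) ⧸ μ.ker ≃* E := QuotientGroup.quotientKerEquivOfSurjective μ hμ
  let e2 : (H × C) ⧸ φ.ker ≃* E' := QuotientGroup.quotientKerEquivOfSurjective φ hφ
  let e3 : (H × C) ⧸ μ.ker ≃* (H × C) ⧸ φ.ker := QuotientGroup.quotientMulEquivOfEq hker
  refine ⟨(e1.symm.trans e3).trans e2, ?_⟩
  intro a b
  have h1 : e1 (QuotientGroup.mk (a, b)) = (a : E) * (b : E) := rfl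
  have h2 : e1.symm ((a : E) * (b : E)) = QuotientGroup.mk (a, b) := by
    rw [← h1, MulEquiv.symm_apply_apply]
  show e2 (e3 (e1.symm ((a : E) * (b : E)))) = _
  rw [h2]
  rfl


end Cfsg.Agent.Lib.Lead.Extra
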