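import Mathlib
import Cfsg.Agent.Lib.Lead.ExtraG1
import Cfsg.Agent.Lib.Lead.Extra5
import Cfsg.Agent.Lib.Lead.ClassTwo

set_option autoImplicit false

namespace Cfsg.Agent.Lib.Lead.ExtraG

open scoped commutatorElement
open Cfsg.Agent.Lib.Lead Cfsg.Agent.Lib.Lead.Extra

universe u v

section

variable {p : ℕ} [hp : Fact p.Prime] {E : Type u} [Group E] {z : E}

theorem exists_ESg [Finite E] (hE : Cfsg.IsExtraspecial p E) : ∃ z : E, ESg p E z := by
  obtain ⟨⟨hpg, hfr, hcm⟩, hcard⟩ := hE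
  haveI : Nontrivial (Subgroup.center E) := by
    rw [← Finite.one_lt_card_iff_nontrivial, hcard]; exact hp.out.one_lt
  obtain ⟨w, hw⟩ := exists_ne (1 : Subgroup.center E)
  have hw1 : (w : E) ≠ 1 := fun h => hw (Subtype.ext h)
  have hwp : w ^ p = 1 := by
    rw [← hcard]; exact pow_card_eq_one'
  have hwp' : (w : E) ^ p = 1 := by
    have := congrArg Subtype.val hwp
    simpa using this
  have ho : orderOf (w : E) = p := orderOf_eq_prime hwp' hw1
  have hzc : Subgroup.zpowers (w : E) = Subgroup.center E := by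
    apply Subgroup.eq_of_le_of_card_ge
    · rw [Subgroup.zpowers_le]; exact w.2
    · rw [Nat.card_zpowers, ho, hcard]
  refine ⟨w, hw1, w.2, ?_, hwp', ?_⟩
  · intro x y
    rw [hzc, ← hcm, commutator_def]
    exact Subgroup.commutator_mem_commutator (Subgroup.mem_top x) (Subgroup.mem_top y)
  · intro v hv
    rw [hzc]; exact hv

theorem ESg.all_mem_of_abelian (h : ESg p E z)
    (hab : ¬ ∃ a b : E, ⁅a, b⁆ ≠ 1) (g : E) : g ∈ Subgroup.zpowers z := by
  apply h.cen
  rw [Subgroup.mem_center_iff]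
  intro w
  push Not at hab
  have := hab w g
  rw [commutatorElement_eq_one_iff_commute] at this
  exact this.eq

theorem ESg.card_of_abelian (h : ESg p E z)
    (hab : ¬ ∃ a b : E, ⁅a, b⁆ ≠ 1) : Nat.card E = p := by
  have htop : (⊤ : Subgroup E) = Subgroup.zpowers z := by
    symm
    rw [eq_top_iff]
    intro g _
    exact h.all_mem_of_abelian hab g
  rw [← Subgroup.card_top, htop, Nat.card_zpowers, h.orderOf_z]

/-- `p`-th powers are central -/
theorem ESg.pow_mem (h : ESg p E z) (x : E) : x ^ p ∈ Subgroup.zpowers z := by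
  apply h.cen
  rw [Subgroup.mem_center_iff]
  intro g
  have h1 : ⁅x ^ p, g⁆ = 1 := by
    have := h.comm_zpow_left x g (p : ℤ)
    rw [zpow_natCast, zpow_natCast] at this
    rw [this]
    obtain ⟨k, hk⟩ := Subgroup.mem_zpowers_iff.mp (h.comm x g)
    rw [← hk, ← zpow_natCast, ← zpow_mul, mul_comm, zpow_mul, zpow_natCast, h.zp, one_zpow]
  rw [commutatorElement_eq_one_iff_mul_comm] at h1
  exact h1.symm

theorem ESg.comm_pow_p (h : ESg p E z) (x y : E) : ⁅x, y⁆ ^ p = 1 := by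
  obtain ⟨k, hk⟩ := Subgroup.mem_zpowers_iff.mp (h.comm x y)
  rw [← hk, ← zpow_natCast, ← zpow_mul, mul_comm, zpow_mul, zpow_natCast, h.zp, one_zpow]

/-- for odd `p` a nonabelian group of our kind has a noncentral element of order `p`, together
with a partner -/
theorem ESg.exists_pair_order_p (h : ESg p E z) (hp2 : p ≠ 2) (hab : ∃ a b : E, ⁅a, b⁆ ≠ 1) :
    ∃ x y : E, x ^ p = 1 ∧ ⁅x, y⁆ = z := by
  obtain ⟨a, b, habz⟩ := h.exists_pair hab
  have hc : ∀ u v : E, ⁅u, v⁆ ∈ Subgroup.center E := fun u v => h.comm_mem_center u v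
  have h3 : 2 < p := lt_of_le_of_ne hp.out.two_le (Ne.symm hp2)
  obtain ⟨c, hc2⟩ := Nat.Prime.dvd_choose_self hp.out (by norm_num : (2 : ℕ) ≠ 0) h3
  -- the `p`-power map is multiplicative
  have hmul : ∀ u v : E, (u * v) ^ p = u ^ p * v ^ p := by
    intro u v
    rw [mul_pow_of_class_two hc u v p, hc2, pow_mul, h.comm_pow_p, one_pow, mul_one]
  obtain ⟨i, hi⟩ := Subgroup.mem_zpowers_iff.mp (h.pow_mem a)
  obtain ⟨j, hj⟩ := Subgroup.mem_zpowers_iff.mp (h.pow_mem b)
  by_cases hpi : (p : ℤ) ∣ i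
  · obtain ⟨i', rfl⟩ := hpi
    refine ⟨a, b, ?_, habz⟩
    rw [← hi, zpow_mul, zpow_natCast, h.zp, one_zpow]
  · have hcop : IsCoprime (p : ℤ) i :=
      ((Nat.prime_iff_prime_int.mp hp.out).coprime_iff_not_dvd).mpr hpi
    obtain ⟨u, v, huv⟩ := hcop
    -- `s = -j * v` solves `s * i + j ≡ 0`
    have hzpow : ∀ m : ℤ, (z ^ m) ^ p = 1 := by
      intro m
      rw [← zpow_natCast, ← zpow_mul, mul_comm, zpow_mul, zpow_natCast, h.zp, one_zpow]
    have hmulz : ∀ (u : E) (m : ℤ), (u ^ m) ^ p = (u ^ p) ^ m := by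
      intro u m
      rw [← zpow_natCast, ← zpow_mul, mul_comm, zpow_mul, zpow_natCast]
    refine ⟨b * a ^ (-j * v), a⁻¹, ?_, ?_⟩
    · rw [hmul, hmulz, ← hi, ← hj, ← zpow_mul, ← zpow_add]
      have : j + i * (-j * v) = (u * j) * p := by
        have : i * v = 1 - u * p := by linarith
        calc j + i * (-j * v) = j - j * (i * v) := by ring
          _ = j - j * (1 - u * p) := by rw [this]
          _ = (u * j) * p := by ring
      rw [this, zpow_mul, zpow_natCast]
      exact hzpow _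
    · have h1 : ⁅a, a⁻¹⁆ = 1 := by rw [commutatorElement_def]; group
      have h2 : ⁅b, a⁻¹⁆ = z := by
        have := h.comm_zpow_right b a (-1)
        rw [zpow_neg_one, zpow_neg_one] at this
        rw [this, ESg.comm_swap a b, habz, inv_inv]
      rw [h.comm_mul_left, h.comm_zpow_left, h1, one_zpow, mul_one, h2]

/-- for `p = 2` our structure is the structure `ES` -/
theorem ESg.toES (h : ESg 2 E z) : ES E z := by
  haveI : Fact (Nat.Prime 2) := ⟨Nat.prime_two⟩
  have hz : ∀ w ∈ Subgroup.zpowers z, w = 1 ∨ w = z := by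
    intro w hw
    obtain ⟨k, hk⟩ := Subgroup.mem_zpowers_iff.mp hw
    rcases Int.even_or_odd k with ⟨m, hm⟩ | ⟨m, hm⟩
    · left
      rw [← hk, hm, ← two_mul, zpow_mul, zpow_ofNat, h.zp, one_zpow]
    · right
      rw [← hk, hm, zpow_add, zpow_mul, zpow_ofNat, h.zp, one_zpow, one_mul, zpow_one]
  exact ⟨h.z_ne, h.z_mem, fun x y => hz _ (h.comm x y), fun x => hz _ (h.pow_mem x),
    fun w hw => hz _ (h.cen w hw)⟩

/-- a nonabelian group of our kind has a noncentral element of order `p` with a partner, unless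
`p = 2` and the group has order `8` -/
theorem ESg.exists_pair_order_p' [Finite E] (h : ESg p E z) (hab : ∃ a b : E, ⁅a, b⁆ ≠ 1) :
    (∃ x y : E, x ^ p = 1 ∧ ⁅x, y⁆ = z) ∨ (p = 2 ∧ Nat.card E = 8) := by
  by_cases hp2 : p = 2
  · subst hp2
    have hES := h.toES
    by_cases hno : ∃ t : E, t ^ 2 = 1 ∧ t ≠ 1 ∧ t ≠ z
    · left
      obtain ⟨t, ht, ht1, htz⟩ := hno
      obtain ⟨y, -, hy⟩ := hES.exists_partner ht ht1 htz
      exact ⟨t, y, ht, hES.comm_eq_z hy⟩
    · right
      obtain ⟨a, b, hab'⟩ := hab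
      exact ⟨rfl, (hES.quaternion_case hab' hno).1⟩
  · left
    exact h.exists_pair_order_p hp2 hab

end

end Cfsg.Agent.Lib.Lead.ExtraG
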