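import Mathlib

set_option autoImplicit false

namespace Cfsg.Agent.Lib.Lead.ExtraG

open Finset

section AddDecomp

variable {M : Type*} [AddCommGroup M] (X Z : Module.End ℤ M) (p : ℕ) (N : AddSubgroup M)

/-- the averaging-type operators -/
noncomputable def sOp (i : ℕ) : Module.End ℤ M := ∑ j ∈ range p, (X * Z ^ i) ^ j

/-- the fixed points in `N` of `X * Z ^ i` -/
def fixSub (i : ℕ) : AddSubgroup M where
  carrier := {v | v ∈ N ∧ (X * Z ^ i) v = v}
  zero_mem' := ⟨N.zero_mem, map_zero _⟩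
  add_mem' := by
    rintro a b ⟨ha, ha'⟩ ⟨hb, hb'⟩
    exact ⟨N.add_mem ha hb, by rw [map_add, ha', hb']⟩
  neg_mem' := by
    rintro a ⟨ha, ha'⟩
    exact ⟨N.neg_mem ha, by rw [map_neg, ha']⟩

variable {X Z p N}

theorem mem_fixSub {i : ℕ} {v : M} : v ∈ fixSub X Z N i ↔ v ∈ N ∧ (X * Z ^ i) v = v := Iff.rfl

theorem geom_fixed {Y : Module.End ℤ M} (hY : Y ^ p = 1) (v : M) :
    Y ((∑ j ∈ range p, Y ^ j) v) = (∑ j ∈ range p, Y ^ j) v := by
  have h1 := mul_geom_sum Y p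
  rw [hY, sub_self] at h1
  have h2 : (Y - 1) ((∑ j ∈ range p, Y ^ j) v) = 0 := by
    rw [← Module.End.mul_apply, h1, LinearMap.zero_apply]
  rw [LinearMap.sub_apply, Module.End.one_apply, sub_eq_zero] at h2
  exact h2

theorem pow_apply_of_fixed {Y : Module.End ℤ M} {v : M} (h : Y v = v) (j : ℕ) : (Y ^ j) v = v := by
  induction j with
  | zero => rw [pow_zero, Module.End.one_apply]
  | succ j ih => rw [pow_succ, Module.End.mul_apply, h, ih]

theorem geom_apply_of_fixed {Y : Module.End ℤ M} {v : M} (h : Y v = v) :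
    (∑ j ∈ range p, Y ^ j) v = p • v := by
  rw [LinearMap.sum_apply]
  rw [Finset.sum_congr rfl (fun j _ => pow_apply_of_fixed h j), Finset.sum_const, card_range]

variable [hpf : Fact p.Prime]

/-- the norm of a nontrivial power of `Z` vanishes on `N` -/
theorem norm_pow_eq_zero (hZ : Z ^ p = 1) (hNZ : ∀ v ∈ N, Z v ∈ N)
    (hfix : ∀ v ∈ N, Z v = v → v = 0) {m : ℕ} (hm0 : 0 < m) (hmp : m < p) {v : M} (hv : v ∈ N) :
    (∑ j ∈ range p, (Z ^ m) ^ j) v = 0 := by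
  have hp := hpf.out
  have hNZk : ∀ (k : ℕ) (u : M), u ∈ N → (Z ^ k) u ∈ N := by
    intro k
    induction k with
    | zero => intro u hu; rw [pow_zero, Module.End.one_apply]; exact hu
    | succ k ih => intro u hu; rw [pow_succ, Module.End.mul_apply]; exact ih _ (hNZ u hu)
  set t := (∑ j ∈ range p, (Z ^ m) ^ j) v with ht
  have htN : t ∈ N := by
    rw [ht, LinearMap.sum_apply]
    apply N.sum_mem
    intro j _
    rw [← pow_mul]
    exact hNZk _ v hv
  have hYp : (Z ^ m) ^ p = 1 := by rw [← pow_mul, mul_comm, pow_mul, hZ, one_pow]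
  have h1 : (Z ^ m) t = t := geom_fixed hYp v
  have hcop : Nat.Coprime m p := by
    apply Nat.Coprime.symm
    rw [Nat.Prime.coprime_iff_not_dvd hp]
    intro hd
    have := Nat.le_of_dvd hm0 hd
    omega
  obtain ⟨m', -, hm'⟩ := Nat.exists_mul_mod_eq_one_of_coprime hcop hp.one_lt
  have hmm : m * m' = 1 + p * (m * m' / p) := by
    have := Nat.div_add_mod (m * m') p
    omega
  have h2 : ((Z ^ m) ^ m') t = t := pow_apply_of_fixed h1 m'
  rw [← pow_mul, hmm, pow_add, pow_one, pow_mul, hZ, one_pow, mul_one] at h2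
  exact hfix t htN h2


theorem mul_pow_apply_of_fixed {W Y : Module.End ℤ M} (hc : Commute W Y) {v : M} (h : Y v = v)
    (j : ℕ) : ((W * Y) ^ j) v = (W ^ j) v := by
  rw [hc.mul_pow, Module.End.mul_apply, pow_apply_of_fixed h]

theorem pow_mem_of_inv {Y : Module.End ℤ M} (hNY : ∀ v ∈ N, Y v ∈ N) (k : ℕ) :
    ∀ u ∈ N, (Y ^ k) u ∈ N := by
  induction k with
  | zero => intro u hu; rw [pow_zero, Module.End.one_apply]; exact hu
  | succ k ih => intro u hu; rw [pow_succ, Module.End.mul_apply]; exact ih _ (hNY u hu)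

theorem xz_pow_p (hc : Commute X Z) (hX : X ^ p = 1) (hZ : Z ^ p = 1) (i : ℕ) :
    (X * Z ^ i) ^ p = 1 := by
  rw [(hc.pow_right i).mul_pow, hX, ← pow_mul, mul_comm, pow_mul, hZ, one_pow, one_mul]

theorem sOp_fixed (hc : Commute X Z) (hX : X ^ p = 1) (hZ : Z ^ p = 1) (i : ℕ) (v : M) :
    (X * Z ^ i) (sOp X Z p i v) = sOp X Z p i v :=
  geom_fixed (xz_pow_p hc hX hZ i) v

theorem sOp_mem (hNX : ∀ v ∈ N, X v ∈ N) (hNZ : ∀ v ∈ N, Z v ∈ N) (i : ℕ) {v : M} (hv : v ∈ N) :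
    sOp X Z p i v ∈ N := by
  unfold sOp
  rw [LinearMap.sum_apply]
  apply N.sum_mem
  intro j _
  apply pow_mem_of_inv _ j v hv
  intro u hu
  rw [Module.End.mul_apply]
  exact hNX _ (pow_mem_of_inv hNZ i u hu)

theorem sOp_mem_fixSub (hc : Commute X Z) (hX : X ^ p = 1) (hZ : Z ^ p = 1)
    (hNX : ∀ v ∈ N, X v ∈ N) (hNZ : ∀ v ∈ N, Z v ∈ N) (i : ℕ) {v : M} (hv : v ∈ N) :
    sOp X Z p i v ∈ fixSub X Z N i :=
  ⟨sOp_mem hNX hNZ i hv, sOp_fixed hc hX hZ i v⟩

/-- the sum of the averaging operators is multiplication by `p` -/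
theorem sum_sOp (hc : Commute X Z) (hZ : Z ^ p = 1) (hNZ : ∀ v ∈ N, Z v ∈ N)
    (hfix : ∀ v ∈ N, Z v = v → v = 0) {v : M} (hv : v ∈ N) :
    ∑ i ∈ range p, sOp X Z p i v = p • v := by
  have hp := hpf.out
  have h1 : ∀ i ∈ range p, sOp X Z p i v = ∑ j ∈ range p, (X ^ j) (((Z ^ j) ^ i) v) := by
    intro i _
    unfold sOp
    rw [LinearMap.sum_apply]
    apply Finset.sum_congr rfl
    intro j _
    rw [(hc.pow_right i).mul_pow, Module.End.mul_apply, ← pow_mul, ← pow_mul, mul_comm i j]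
  rw [Finset.sum_congr rfl h1, Finset.sum_comm]
  have h2 : ∀ j ∈ range p, ∑ i ∈ range p, (X ^ j) (((Z ^ j) ^ i) v)
      = (X ^ j) ((∑ i ∈ range p, (Z ^ j) ^ i) v) := by
    intro j _
    rw [LinearMap.sum_apply, map_sum]
  rw [Finset.sum_congr rfl h2]
  rw [Finset.sum_eq_single 0]
  · rw [pow_zero, Module.End.one_apply, LinearMap.sum_apply]
    rw [Finset.sum_congr rfl (fun i _ => by rw [pow_zero, one_pow, Module.End.one_apply] :
      ∀ i ∈ range p, (((Z ^ 0) ^ i) v) = v), Finset.sum_const, card_range]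
  · intro j hj hj0
    rw [Finset.mem_range] at hj
    rw [norm_pow_eq_zero hZ hNZ hfix (Nat.pos_of_ne_zero hj0) hj hv, map_zero]
  · intro h0
    exfalso
    apply h0
    rw [Finset.mem_range]
    exact hp.pos

/-- the averaging operator `i` on the fixed points of `X Z^k` -/
theorem sOp_apply_fix (hc : Commute X Z) (hZ : Z ^ p = 1) (hNZ : ∀ v ∈ N, Z v ∈ N)
    (hfix : ∀ v ∈ N, Z v = v → v = 0) {i k : ℕ} (hi : i < p) (hk : k < p) {v : M}
    (hv : v ∈ fixSub X Z N k) : sOp X Z p i v = if i = k then p • v else 0 := by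
  split_ifs with hik
  · subst hik
    exact geom_apply_of_fixed hv.2
  · have hm : ∃ m : ℕ, 0 < m ∧ m < p ∧ Z ^ m * Z ^ k = Z ^ i := by
      rcases Nat.lt_or_gt_of_ne hik with h | h
      · refine ⟨p + i - k, by omega, by omega, ?_⟩
        rw [← pow_add]
        have : p + i - k + k = p + i := by omega
        rw [this, pow_add, hZ, one_mul]
      · refine ⟨i - k, by omega, by omega, ?_⟩
        rw [← pow_add]
        congr 1
        omega
    obtain ⟨m, hm0, hmp, hmk⟩ := hm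
    have hW : X * Z ^ i = Z ^ m * (X * Z ^ k) := by
      rw [← hmk, ← mul_assoc, ← mul_assoc, (hc.pow_right m).eq]
    have hcW : Commute (Z ^ m) (X * Z ^ k) := by
      apply Commute.mul_right
      · exact (hc.pow_right m).symm
      · exact (Commute.refl Z).pow_pow m k
    unfold sOp
    rw [LinearMap.sum_apply, hW]
    rw [Finset.sum_congr rfl (fun j _ => mul_pow_apply_of_fixed hcW hv.2 j)]
    rw [← LinearMap.sum_apply]
    exact norm_pow_eq_zero hZ hNZ hfix hm0 hmp hv.1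

/-- if `N` is nontrivial then so is one of the fixed point groups -/
theorem exists_fixSub_ne_bot (hc : Commute X Z) (hX : X ^ p = 1) (hZ : Z ^ p = 1)
    (hNX : ∀ v ∈ N, X v ∈ N) (hNZ : ∀ v ∈ N, Z v ∈ N)
    (hfix : ∀ v ∈ N, Z v = v → v = 0) (htor : ∀ v ∈ N, p • v = 0 → v = 0) (hN : N ≠ ⊥) :
    ∃ i < p, fixSub X Z N i ≠ ⊥ := by
  by_contra hcon
  push Not at hcon
  apply hN
  rw [eq_bot_iff]
  intro v hv
  rw [AddSubgroup.mem_bot]
  apply htor v hv
  rw [← sum_sOp hc hZ hNZ hfix hv]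
  apply Finset.sum_eq_zero
  intro i hi
  rw [Finset.mem_range] at hi
  have h1 := sOp_mem_fixSub hc hX hZ hNX hNZ i hv (p := p)
  rw [hcon i hi, AddSubgroup.mem_bot] at h1
  exact h1

/-- the product of the orders of the fixed point groups is at most the order of `N` -/
theorem prod_card_fixSub_le [Finite N] (hc : Commute X Z) (hZ : Z ^ p = 1)
    (hNZ : ∀ v ∈ N, Z v ∈ N)
    (hfix : ∀ v ∈ N, Z v = v → v = 0) (htor : ∀ v ∈ N, p • v = 0 → v = 0) :
    ∏ i : Fin p, Nat.card (fixSub X Z N i) ≤ Nat.card N := by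
  rw [← Nat.card_pi]
  let Ψ : (∀ i : Fin p, fixSub X Z N i) → N := fun w =>
    ⟨∑ i : Fin p, ((w i : fixSub X Z N i) : M), N.sum_mem (fun i _ => (w i).2.1)⟩
  apply Nat.card_le_card_of_injective Ψ
  intro w w' hww
  have h0 : ∑ i : Fin p, ((w i : fixSub X Z N i) : M) = ∑ i : Fin p, ((w' i : fixSub X Z N i) : M) :=
    congrArg Subtype.val hww
  funext k
  apply Subtype.ext
  have key : ∀ u : (∀ i : Fin p, fixSub X Z N i),
      sOp X Z p k (∑ i : Fin p, ((u i : fixSub X Z N i) : M)) = p • ((u k : fixSub X Z N k) : M) := by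
    intro u
    rw [map_sum]
    rw [Finset.sum_eq_single k]
    · rw [sOp_apply_fix hc hZ hNZ hfix k.2 k.2 (u k).2, if_pos rfl]
    · intro i _ hik
      rw [sOp_apply_fix hc hZ hNZ hfix k.2 i.2 (u i).2, if_neg]
      intro h
      apply hik
      exact (Fin.ext h).symm
    · intro h
      exact absurd (Finset.mem_univ k) h
  have h1 := key w
  rw [h0, key w'] at h1
  have h2 : p • (((w k : fixSub X Z N k) : M) - ((w' k : fixSub X Z N k) : M)) = 0 := by
    rw [smul_sub, h1, sub_self]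
  have h3 := htor _ (N.sub_mem (w k).2.1 (w' k).2.1) h2
  exact sub_eq_zero.mp h3

theorem intertwine {Y : Module.End ℤ M} (hYZ : Commute Y Z) (hYX : Y * X = X * Z * Y) (i : ℕ) :
    Y * (X * Z ^ i) = X * Z ^ (i + 1) * Y := by
  calc Y * (X * Z ^ i) = (Y * X) * Z ^ i := by rw [mul_assoc]
    _ = X * Z * (Y * Z ^ i) := by rw [hYX, mul_assoc (X * Z)]
    _ = X * Z * (Z ^ i * Y) := by rw [(hYZ.pow_right i).eq]
    _ = X * Z ^ (i + 1) * Y := by rw [pow_succ', ← mul_assoc, ← mul_assoc]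

/-- transport of fixed points along an intertwiner -/
theorem fixSub_succ_le {Y : Module.End ℤ M} (hYZ : Commute Y Z) (hYX : Y * X = X * Z * Y)
    (hNY : ∀ v ∈ N, Y v ∈ N) {i : ℕ} {v : M} (hv : v ∈ fixSub X Z N i) :
    Y v ∈ fixSub X Z N (i + 1) := by
  refine ⟨hNY v hv.1, ?_⟩
  have h1 : X * Z ^ (i + 1) * Y = Y * (X * Z ^ i) := (intertwine hYZ hYX i).symm
  rw [← Module.End.mul_apply, h1, Module.End.mul_apply, hv.2]

theorem fixSub_pred_le {Y Y' : Module.End ℤ M} (hYY' : Y * Y' = 1) (hY'Y : Y' * Y = 1)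
    (hYZ : Commute Y Z) (hYX : Y * X = X * Z * Y)
    (hNY' : ∀ v ∈ N, Y' v ∈ N) {i : ℕ} {v : M} (hv : v ∈ fixSub X Z N (i + 1)) :
    Y' v ∈ fixSub X Z N i := by
  refine ⟨hNY' v hv.1, ?_⟩
  have hY'Z : Commute Y' Z := by
    have : Y' * Z = Y' * (Z * Y) * Y' := by rw [mul_assoc, mul_assoc, hYY', mul_one]
    show Y' * Z = Z * Y'
    rw [this, ← hYZ.eq, ← mul_assoc, hY'Y, one_mul]
  have h1 : X * Z ^ i * Y' = Y' * (X * Z ^ (i + 1)) := by
    have h2 : Y * (X * Z ^ i) = X * Z ^ (i + 1) * Y := intertwine hYZ hYX i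
    calc X * Z ^ i * Y' = Y' * (Y * (X * Z ^ i)) * Y' := by
          rw [← mul_assoc Y', hY'Y, one_mul]
      _ = Y' * (X * Z ^ (i + 1) * Y) * Y' := by rw [h2]
      _ = Y' * (X * Z ^ (i + 1)) := by rw [mul_assoc, mul_assoc, hYY', mul_one]
  rw [← Module.End.mul_apply, h1, Module.End.mul_apply, hv.2]

theorem card_fixSub_succ [Finite N] {Y Y' : Module.End ℤ M} (hYY' : Y * Y' = 1) (hY'Y : Y' * Y = 1)
    (hYZ : Commute Y Z) (hYX : Y * X = X * Z * Y)
    (hNY : ∀ v ∈ N, Y v ∈ N) (hNY' : ∀ v ∈ N, Y' v ∈ N) (i : ℕ) :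
    Nat.card (fixSub X Z N (i + 1)) = Nat.card (fixSub X Z N i) := by
  apply Nat.card_congr
  refine ⟨fun v => ⟨Y' v.1, fixSub_pred_le hYY' hY'Y hYZ hYX hNY' v.2⟩,
    fun v => ⟨Y v.1, fixSub_succ_le hYZ hYX hNY v.2⟩, ?_, ?_⟩
  · intro v
    apply Subtype.ext
    show Y (Y' v.1) = v.1
    rw [← Module.End.mul_apply, hYY', Module.End.one_apply]
  · intro v
    apply Subtype.ext
    show Y' (Y v.1) = v.1
    rw [← Module.End.mul_apply, hY'Y, Module.End.one_apply]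

theorem card_fixSub_eq_zero [Finite N] {Y Y' : Module.End ℤ M} (hYY' : Y * Y' = 1)
    (hY'Y : Y' * Y = 1)
    (hYZ : Commute Y Z) (hYX : Y * X = X * Z * Y)
    (hNY : ∀ v ∈ N, Y v ∈ N) (hNY' : ∀ v ∈ N, Y' v ∈ N) (i : ℕ) :
    Nat.card (fixSub X Z N i) = Nat.card (fixSub X Z N 0) := by
  induction i with
  | zero => rfl
  | succ i ih => rw [card_fixSub_succ hYY' hY'Y hYZ hYX hNY hNY' i, ih]

/-- **Decomposition.**  The order of `N` is at least the `p`-th power of the order of the fixed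
points of `X`, and these fixed points are nontrivial if `N` is. -/
theorem card_fix_pow_le [Finite N] {Y Y' : Module.End ℤ M} (hc : Commute X Z) (hX : X ^ p = 1)
    (hZ : Z ^ p = 1)
    (hNX : ∀ v ∈ N, X v ∈ N) (hNZ : ∀ v ∈ N, Z v ∈ N)
    (hfix : ∀ v ∈ N, Z v = v → v = 0) (htor : ∀ v ∈ N, p • v = 0 → v = 0)
    (hYY' : Y * Y' = 1) (hY'Y : Y' * Y = 1)
    (hYZ : Commute Y Z) (hYX : Y * X = X * Z * Y)
    (hNY : ∀ v ∈ N, Y v ∈ N) (hNY' : ∀ v ∈ N, Y' v ∈ N) :
    Nat.card (fixSub X Z N 0) ^ p ≤ Nat.card N ∧ (N ≠ ⊥ → fixSub X Z N 0 ≠ ⊥) := by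
  constructor
  · have h1 := prod_card_fixSub_le (X := X) hc hZ hNZ hfix htor
    rw [Finset.prod_congr rfl (fun i _ => card_fixSub_eq_zero hYY' hY'Y hYZ hYX hNY hNY' i.1 :
      ∀ i ∈ (Finset.univ : Finset (Fin p)), Nat.card (fixSub X Z N i) = Nat.card (fixSub X Z N 0)),
      Finset.prod_const, Finset.card_univ, Fintype.card_fin] at h1
    exact h1
  · intro hN
    obtain ⟨i, -, hi⟩ := exists_fixSub_ne_bot hc hX hZ hNX hNZ hfix htor hN
    intro h0
    apply hi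
    have h1 := card_fixSub_eq_zero (X := X) hYY' hY'Y hYZ hYX hNY hNY' i
    rw [h0, AddSubgroup.card_bot] at h1
    exact (AddSubgroup.card_eq_one).mp h1

end AddDecomp

end Cfsg.Agent.Lib.Lead.ExtraG
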