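import Mathlib
import Cfsg.Agent.Lib.Lead.ExtraG3

set_option autoImplicit false

namespace Cfsg.Agent.Lib.Lead.ExtraG

section Mult

variable {V : Type*} [CommGroup V]

/-- automorphisms as `ℤ`-linear endomorphisms of `Additive V` -/
def lin : MulAut V →* Module.End ℤ (Additive V) where
  toFun α := (MonoidHom.toAdditive α.toMonoidHom).toIntLinearMap
  map_one' := by ext v; rfl
  map_mul' := by intro α β; ext v; rfl

theorem lin_apply (α : MulAut V) (v : Additive V) :
    lin α v = Additive.ofMul (α (Additive.toMul v)) := rfl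

/-- a subgroup as an additive subgroup of `Additive V` -/
def addSub (F : Subgroup V) : AddSubgroup (Additive V) where
  carrier := {v | Additive.toMul v ∈ F}
  zero_mem' := F.one_mem
  add_mem' := fun ha hb => F.mul_mem ha hb
  neg_mem' := fun ha => F.inv_mem ha

theorem mem_addSub {F : Subgroup V} {v : Additive V} : v ∈ addSub F ↔ Additive.toMul v ∈ F :=
  Iff.rfl

/-- the comparison of `F` and `addSub F` -/
def addSubEquiv (F : Subgroup V) : ↥(addSub F) ≃ ↥F where
  toFun v := ⟨Additive.toMul v.1, v.2⟩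
  invFun v := ⟨Additive.ofMul v.1, v.2⟩
  left_inv _ := rfl
  right_inv _ := rfl

instance (F : Subgroup V) [Finite F] : Finite ↥(addSub F) := Finite.of_equiv _ (addSubEquiv F).symm

/-- fixed points of an automorphism in a subgroup -/
def fixIn (F : Subgroup V) (α : MulAut V) : Subgroup V where
  carrier := {v | v ∈ F ∧ α v = v}
  one_mem' := ⟨F.one_mem, map_one α⟩
  mul_mem' := by
    rintro a b ⟨ha, ha'⟩ ⟨hb, hb'⟩
    exact ⟨F.mul_mem ha hb, by rw [map_mul, ha', hb']⟩
  inv_mem' := by
    rintro a ⟨ha, ha'⟩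
    exact ⟨F.inv_mem ha, by rw [map_inv, ha']⟩

theorem mem_fixIn {F : Subgroup V} {α : MulAut V} {v : V} : v ∈ fixIn F α ↔ v ∈ F ∧ α v = v :=
  Iff.rfl

theorem fixIn_le (F : Subgroup V) (α : MulAut V) : fixIn F α ≤ F := fun _ h => h.1

/-- the fixed points, additively -/
def fixEquiv (F : Subgroup V) (α ζ : MulAut V) :
    ↥(fixSub (lin α) (lin ζ) (addSub F) 0) ≃ ↥(fixIn F α) where
  toFun v := ⟨Additive.toMul v.1, v.2.1, by
    have h := v.2.2
    rw [pow_zero, mul_one] at h
    exact congrArg Additive.toMul h⟩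
  invFun v := ⟨Additive.ofMul v.1, v.2.1, by
    rw [pow_zero, mul_one]
    exact congrArg Additive.ofMul v.2.2⟩
  left_inv _ := rfl
  right_inv _ := rfl

/-- **Decomposition, multiplicatively.** -/
theorem card_fixIn_pow_le {p : ℕ} [hpf : Fact p.Prime] (F : Subgroup V) [Finite F]
    (α ζ η : MulAut V)
    (hc : α * ζ = ζ * α) (hα : α ^ p = 1) (hζ : ζ ^ p = 1)
    (hFα : ∀ v ∈ F, α v ∈ F) (hFζ : ∀ v ∈ F, ζ v ∈ F) (hFη : ∀ v ∈ F, η v ∈ F)
    (hFη' : ∀ v ∈ F, η⁻¹ v ∈ F)
    (hfix : ∀ v ∈ F, ζ v = v → v = 1) (htor : ∀ v ∈ F, v ^ p = 1 → v = 1)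
    (hηζ : η * ζ = ζ * η) (hηα : η * α = α * ζ * η) :
    Nat.card (fixIn F α) ^ p ≤ Nat.card F ∧ (F ≠ ⊥ → fixIn F α ≠ ⊥) := by
  have key := card_fix_pow_le (p := p) (X := lin α) (Z := lin ζ) (N := addSub F)
    (Y := lin η) (Y' := lin η⁻¹)
    (show lin α * lin ζ = lin ζ * lin α by rw [← map_mul, ← map_mul, hc])
    (by rw [← map_pow, hα, map_one]) (by rw [← map_pow, hζ, map_one])
    (fun v hv => hFα _ hv) (fun v hv => hFζ _ hv)
    (fun v hv h => by
      have h1 : ζ (Additive.toMul v) = Additive.toMul v := congrArg Additive.toMul h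
      have h2 := hfix _ hv h1
      exact congrArg Additive.ofMul h2)
    (fun v hv h => by
      have h1 : (Additive.toMul v) ^ p = 1 := congrArg Additive.toMul h
      have h2 := htor _ hv h1
      exact congrArg Additive.ofMul h2)
    (by rw [← map_mul, mul_inv_cancel, map_one]) (by rw [← map_mul, inv_mul_cancel, map_one])
    (show lin η * lin ζ = lin ζ * lin η by rw [← map_mul, ← map_mul, hηζ])
    (by rw [← map_mul, ← map_mul, ← map_mul, hηα])
    (fun v hv => hFη _ hv) (fun v hv => hFη' _ hv)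
  constructor
  · rw [← Nat.card_congr (fixEquiv F α ζ), ← Nat.card_congr (addSubEquiv F)]
    exact key.1
  · intro hF
    have h1 : addSub F ≠ ⊥ := by
      intro h
      apply hF
      rw [eq_bot_iff]
      intro v hv
      have : Additive.ofMul v ∈ addSub F := hv
      rw [h, AddSubgroup.mem_bot] at this
      rw [Subgroup.mem_bot]
      exact congrArg Additive.toMul this
    have h2 := key.2 h1
    intro h
    apply h2
    rw [eq_bot_iff]
    intro v hv
    have h3 : Additive.toMul v ∈ fixIn F α := ((fixEquiv F α ζ) ⟨v, hv⟩).2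
    rw [h, Subgroup.mem_bot] at h3
    rw [AddSubgroup.mem_bot]
    exact congrArg Additive.ofMul h3

end Mult

end Cfsg.Agent.Lib.Lead.ExtraG
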