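import Mathlib
import Cfsg.Agent.Lib.Lead.ExtraG2
import Cfsg.Agent.Lib.Lead.ExtraG4

set_option autoImplicit false

namespace Cfsg.Agent.Lib.Lead.ExtraG

open scoped commutatorElement
open Cfsg.Agent.Lib.Lead Cfsg.Agent.Lib.Lead.Extra

universe u v

section Main

variable {p r n : ℕ} [hpf : Fact p.Prime] [hrf : Fact r.Prime] {V : Type v} [CommGroup V]

/-- the order of a nontrivial finite subgroup of exponent `r` -/
theorem card_eq_pow (hVr : ∀ v : V, v ^ r = 1) (F : Subgroup V) [Finite F] (hF : F ≠ ⊥) :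
    ∃ d, 1 ≤ d ∧ Nat.card F = r ^ d := by
  have hFp : IsPGroup r F := fun v => ⟨1, by rw [pow_one]; apply Subtype.ext; simp [hVr]⟩
  obtain ⟨d, hd⟩ := IsPGroup.iff_card.mp hFp
  refine ⟨d, ?_, hd⟩
  by_contra h
  have hd0 : d = 0 := by omega
  rw [hd0, pow_zero] at hd
  exact hF (Subgroup.card_eq_one.mp hd)

/-- the base of the induction: a fixed-point-free action of a `p`-group -/
theorem base_bound (hmin : ∀ k : ℕ, 1 ≤ k → p ∣ r ^ k - 1 → n ≤ k) (hVr : ∀ v : V, v ^ r = 1)
    {E : Type u} [Group E] [Finite E] (hEp : IsPGroup p E) (z : E) (φ : E →* MulAut V)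
    (F : Subgroup V) [Finite F] (hinv : ∀ e, ∀ v ∈ F, φ e v ∈ F) (hF : F ≠ ⊥)
    (hfix : ∀ v ∈ F, φ z v = v → v = 1) : ∃ d, n ≤ d ∧ Nat.card F = r ^ d := by
  obtain ⟨d, hd1, hd⟩ := card_eq_pow hVr F hF
  refine ⟨d, ?_, hd⟩
  apply hmin d hd1
  letI : MulAction E F :=
    { smul := fun e v => ⟨φ e v.1, hinv e v.1 v.2⟩
      one_smul := fun v => by
        apply Subtype.ext
        show φ 1 v.1 = v.1
        rw [map_one, MulAut.one_apply]
      mul_smul := fun a b v => by
        apply Subtype.ext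
        show φ (a * b) v.1 = φ a (φ b v.1)
        rw [map_mul, MulAut.mul_apply] }
  have hsmul : ∀ (e : E) (v : F), ((e • v : F) : V) = φ e v.1 := fun e v => rfl
  have h1 := hEp.card_modEq_card_fixedPoints F
  have hfp : MulAction.fixedPoints E F = {1} := by
    ext v
    rw [MulAction.mem_fixedPoints, Set.mem_singleton_iff]
    constructor
    · intro h
      apply Subtype.ext
      have h2 := congrArg Subtype.val (h z)
      rw [hsmul] at h2
      exact hfix v.1 v.2 h2
    · rintro rfl e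
      apply Subtype.ext
      rw [hsmul]
      exact map_one _
  have h2 : Nat.card (MulAction.fixedPoints E F) = 1 := by
    rw [hfp, Nat.card_coe_set_eq, Set.ncard_singleton]
  rw [h2, hd] at h1
  exact (Nat.modEq_iff_dvd' (Nat.one_le_pow _ _ hrf.out.pos)).mp h1.symm

/-- commutators act trivially on an invariant subgroup of prime order -/
theorem comm_act_trivial_of_card_prime {E : Type u} [Group E] (φ : E →* MulAut V)
    (F : Subgroup V) (hcard : Nat.card F = r) (hinv : ∀ e, ∀ v ∈ F, φ e v ∈ F) (x y : E) :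
    ∀ v ∈ F, φ ⁅x, y⁆ v = v := by
  have hr := hrf.out
  have : Finite F := Nat.finite_of_card_ne_zero (by rw [hcard]; exact hr.ne_zero)
  have hFne : F ≠ ⊥ := by
    intro h
    rw [h, Subgroup.card_bot] at hcard
    exact hr.one_lt.ne hcard
  obtain ⟨g, hgF, hg1⟩ := (F.bot_or_exists_ne_one).resolve_left hFne
  have hzp : Subgroup.zpowers g = F := by
    have hle : Subgroup.zpowers g ≤ F := by rw [Subgroup.zpowers_le]; exact hgF
    apply Subgroup.eq_of_le_of_card_ge hle
    rw [hcard, Nat.card_zpowers]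
    have h1 : orderOf g ∣ r := by
      have := Subgroup.card_dvd_of_le hle
      rwa [Nat.card_zpowers, hcard] at this
    rcases (Nat.dvd_prime hr).mp h1 with h | h
    · exact absurd (orderOf_eq_one_iff.mp h) hg1
    · exact h.ge
  have hpow : ∀ e : E, ∃ k : ℤ, ∀ v ∈ F, φ e v = v ^ k := by
    intro e
    have h1 := hinv e g hgF
    rw [← hzp] at h1
    obtain ⟨k, hk⟩ := Subgroup.mem_zpowers_iff.mp h1
    refine ⟨k, fun v hv => ?_⟩
    rw [← hzp] at hv
    obtain ⟨m, rfl⟩ := Subgroup.mem_zpowers_iff.mp hv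
    rw [map_zpow, ← hk, ← zpow_mul, ← zpow_mul, mul_comm]
  have hcomm : ∀ a b : E, ∀ v ∈ F, φ a (φ b v) = φ b (φ a v) := by
    intro a b v hv
    obtain ⟨k, hk⟩ := hpow a
    rw [hk _ (hinv b v hv), hk v hv, map_zpow]
  intro v hv
  rw [commutatorElement_def, map_mul, map_mul, map_mul, MulAut.mul_apply, MulAut.mul_apply,
    MulAut.mul_apply]
  rw [hcomm y x⁻¹ _ (hinv _ v hv)]
  have hcancel : ∀ (a : E) (u : V), φ a (φ a⁻¹ u) = u := by
    intro a u
    rw [← MulAut.mul_apply, ← map_mul, mul_inv_cancel, map_one, MulAut.one_apply]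
  rw [hcancel y, hcancel x]

/-- **The main induction.** -/
theorem bound_aux (hpr : p ≠ r) (hmin : ∀ k : ℕ, 1 ≤ k → p ∣ r ^ k - 1 → n ≤ k)
    (hVr : ∀ v : V, v ^ r = 1) :
    ∀ (w : ℕ) (E : Type u) [Group E] [Finite E] (z : E), ESg p E z → Nat.card E = p ^ (2 * w + 1) →
      ∀ (φ : E →* MulAut V) (F : Subgroup V) [Finite F], (∀ e, ∀ v ∈ F, φ e v ∈ F) → F ≠ ⊥ →
        (∀ v ∈ F, φ z v = v → v = 1) → r ^ (n * p ^ w) ≤ Nat.card F := by
  have hp := hpf.out
  have hr := hrf.out
  intro w
  induction w with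
  | zero =>
    intro E _ _ z hES hcard φ F _ hinv hF hfix
    have hEp : IsPGroup p E := IsPGroup.of_card hcard
    obtain ⟨d, hnd, hd⟩ := base_bound hmin hVr hEp z φ F hinv hF hfix
    rw [hd, pow_zero, mul_one]
    exact Nat.pow_le_pow_right hr.pos hnd
  | succ w ih =>
    intro E _ _ z hES hcard φ F _ hinv hF hfix
    have hab : ∃ a b : E, ⁅a, b⁆ ≠ 1 := by
      by_contra h
      have h1 := hES.card_of_abelian h
      rw [hcard] at h1
      have h2 : p ^ (2 * (w + 1) + 1) = p ^ 1 := by rw [h1, pow_one]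
      have := Nat.pow_right_injective hp.two_le h2
      omega
    rcases hES.exists_pair_order_p' hab with ⟨x, y, hxp, hxy⟩ | ⟨hp2, h8⟩
    · -- the generic case
      have hc : φ x * φ z = φ z * φ x := by rw [← map_mul, ← map_mul, hES.z_comm x]
      have hα : φ x ^ p = 1 := by rw [← map_pow, hxp, map_one]
      have hζ : φ z ^ p = 1 := by rw [← map_pow, hES.zp, map_one]
      have hηζ : φ y⁻¹ * φ z = φ z * φ y⁻¹ := by rw [← map_mul, ← map_mul, hES.z_comm y⁻¹]
      have hηα : φ y⁻¹ * φ x = φ x * φ z * φ y⁻¹ := by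
        rw [← map_mul, ← map_mul, ← map_mul]
        congr 1
        have h1 : x * y = z * y * x := by
          rw [← hxy, commutatorElement_def]; group
        calc y⁻¹ * x = y⁻¹ * (x * y) * y⁻¹ := by group
          _ = y⁻¹ * (z * y * x) * y⁻¹ := by rw [h1]
          _ = y⁻¹ * (y * z * x) * y⁻¹ := by rw [hES.z_comm y]
          _ = z * x * y⁻¹ := by group
          _ = x * z * y⁻¹ := by rw [hES.z_comm x]
      have htor : ∀ v ∈ F, v ^ p = 1 → v = 1 := by
        intro v _ hv
        have hcop : Nat.Coprime p r := (Nat.coprime_primes hp hr).mpr hpr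
        have := (pow_gcd_eq_one (a := v) (m := p) (n := r)).mpr ⟨hv, hVr v⟩
        rwa [Nat.Coprime.gcd_eq_one hcop, pow_one] at this
      have hη' : (φ y⁻¹)⁻¹ = φ y := by rw [← map_inv, inv_inv]
      obtain ⟨hle, hne⟩ := card_fixIn_pow_le (p := p) F (φ x) (φ z) (φ y⁻¹) hc hα hζ
        (hinv x) (hinv z) (hinv y⁻¹) (by rw [hη']; exact hinv y) hfix htor hηζ hηα
      have hfin : Finite (fixIn F (φ x)) :=
        Finite.of_injective (Subgroup.inclusion (fixIn_le F (φ x)))
          (Subgroup.inclusion_injective _)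
      have hES' := hES.cent2_ESg hxy
      have hcard' : Nat.card (cent2 x y) = p ^ (2 * w + 1) := by
        have h1 := hES.card_split (x := x) (y := y) (by rw [hxy]; exact hES.z_ne)
        rw [hcard] at h1
        have h2 : p ^ (2 * (w + 1) + 1) = p * p * p ^ (2 * w + 1) := by ring
        rw [h2] at h1
        exact (Nat.eq_of_mul_eq_mul_left (Nat.mul_pos hp.pos hp.pos) h1).symm
      have hinv' : ∀ e : cent2 x y, ∀ v ∈ fixIn F (φ x),
          (φ.comp (cent2 x y).subtype) e v ∈ fixIn F (φ x) := by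
        intro e v hv
        refine ⟨hinv _ v hv.1, ?_⟩
        show φ x (φ e.1 v) = φ e.1 v
        have h1 := (mem_cent2'.mp e.2).1
        rw [← MulAut.mul_apply, ← map_mul, ← h1, map_mul, MulAut.mul_apply, hv.2]
      have hfix' : ∀ v ∈ fixIn F (φ x),
          (φ.comp (cent2 x y).subtype) ⟨z, hES.z_mem_cent2 x y⟩ v = v → v = 1 := by
        intro v hv h
        exact hfix v hv.1 h
      have h3 := ih (cent2 x y) ⟨z, hES.z_mem_cent2 x y⟩ hES' hcard'
        (φ.comp (cent2 x y).subtype) (fixIn F (φ x)) hinv' (hne hF) hfix'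
      calc r ^ (n * p ^ (w + 1)) = (r ^ (n * p ^ w)) ^ p := by rw [← pow_mul]; ring_nf
        _ ≤ Nat.card (fixIn F (φ x)) ^ p := Nat.pow_le_pow_left h3 p
        _ ≤ Nat.card F := hle
    · -- the quaternion case
      subst hp2
      rw [h8] at hcard
      have hw : w = 0 := by
        have h2 : 2 ^ 3 = 2 ^ (2 * (w + 1) + 1) := by rw [← hcard]; norm_num
        have := Nat.pow_right_injective (le_refl 2) h2
        omega
      subst hw
      have hn1 : n ≤ 1 := by
        apply hmin 1 le_rfl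
        rw [pow_one]
        rcases hr.eq_two_or_odd with h | h
        · exact absurd h.symm hpr
        · omega
      obtain ⟨d, hd1, hd⟩ := card_eq_pow hVr F hF
      have hd2 : 2 ≤ d := by
        by_contra h
        have hd' : d = 1 := by omega
        rw [hd', pow_one] at hd
        obtain ⟨x, y, hxy⟩ := hES.exists_pair hab
        have h1 := comm_act_trivial_of_card_prime φ F hd hinv x y
        rw [hxy] at h1
        obtain ⟨g, hgF, hg1⟩ := (F.bot_or_exists_ne_one).resolve_left hF
        exact hg1 (hfix g hgF (h1 g hgF))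
      rw [hd]
      apply Nat.pow_le_pow_right hr.pos
      calc n * 2 ^ (0 + 1) ≤ 1 * 2 ^ (0 + 1) := Nat.mul_le_mul_right _ hn1
        _ = 2 := by norm_num
        _ ≤ d := hd2

end Main

end Cfsg.Agent.Lib.Lead.ExtraG
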