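import Mathlib
import Cfsg.Agent.Lib.Lead.ExtraG5
import Cfsg.Agent.Lib.Lead.FrobConj3
import Cfsg.Prelude.Def_Transfer

set_option autoImplicit false

namespace Cfsg.Agent.Lib.Lead.ExtraG

open scoped commutatorElement
open Cfsg.Agent.Lib.Lead Cfsg.Agent.Lib.Lead.Extra

universe u v

section Top

variable {p r n : ℕ} [hpf : Fact p.Prime] [hrf : Fact r.Prime] {V : Type v} [CommGroup V]

/-- the kernel of the norm -/
def normKer (ζ : MulAut V) (p : ℕ) : Subgroup V where
  carrier := {v | ∏ j ∈ Finset.range p, (ζ ^ j) v = 1}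
  one_mem' := by simp
  mul_mem' := by
    intro a b ha hb
    simp only [Set.mem_setOf_eq, map_mul, Finset.prod_mul_distrib] at *
    rw [ha, hb, one_mul]
  inv_mem' := by
    intro a ha
    simp only [Set.mem_setOf_eq, map_inv, Finset.prod_inv_distrib] at *
    rw [ha, inv_one]

theorem mem_normKer {ζ : MulAut V} {p : ℕ} {v : V} :
    v ∈ normKer ζ p ↔ ∏ j ∈ Finset.range p, (ζ ^ j) v = 1 := Iff.rfl

theorem bound_top (hpr : p ≠ r) (hmin : ∀ k : ℕ, 1 ≤ k → p ∣ r ^ k - 1 → n ≤ k)
    (hVr : ∀ v : V, v ^ r = 1) [Finite V] (w : ℕ) (E : Type u) [Group E] [Finite E] (z : E)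
    (hES : ESg p E z) (hcard : Nat.card E = p ^ (2 * w + 1)) (φ : E →* MulAut V)
    (hz : φ z ≠ 1) : r ^ (n * p ^ w) ≤ Nat.card V := by
  have hp := hpf.out
  have hr := hrf.out
  have hζp : φ z ^ p = 1 := by rw [← map_pow, hES.zp, map_one]
  have hinv : ∀ e, ∀ v ∈ normKer (φ z) p, φ e v ∈ normKer (φ z) p := by
    intro e v hv
    rw [mem_normKer] at hv ⊢
    have h1 : ∀ j ∈ Finset.range p, (φ z ^ j) (φ e v) = φ e ((φ z ^ j) v) := by
      intro j _
      have h2 : φ z ^ j * φ e = φ e * φ z ^ j := by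
        rw [← map_pow, ← map_mul, ← map_mul]
        congr 1
        have : Commute e z := hES.z_comm e
        exact ((this.pow_right j).eq).symm
      rw [← MulAut.mul_apply, h2, MulAut.mul_apply]
    rw [Finset.prod_congr rfl h1, ← map_prod, hv, map_one]
  have hF : normKer (φ z) p ≠ ⊥ := by
    have h1 : ∃ w₀ : V, φ z w₀ ≠ w₀ := by
      by_contra h
      push Not at h
      apply hz
      ext v
      rw [h v, MulAut.one_apply]
    obtain ⟨w₀, hw₀⟩ := h1
    intro hbot
    have h2 : φ z w₀ / w₀ ∈ normKer (φ z) p := by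
      rw [mem_normKer]
      have h3 : ∀ j ∈ Finset.range p, (φ z ^ j) (φ z w₀ / w₀)
          = (fun i => (φ z ^ i) w₀) (j + 1) / (fun i => (φ z ^ i) w₀) j := by
        intro j _
        show (φ z ^ j) (φ z w₀ / w₀) = (φ z ^ (j + 1)) w₀ / (φ z ^ j) w₀
        rw [map_div, pow_succ, MulAut.mul_apply]
      rw [Finset.prod_congr rfl h3]
      have h4 := Finset.prod_range_div (fun i => (φ z ^ i) w₀) p
      rw [h4]
      show (φ z ^ p) w₀ / (φ z ^ 0) w₀ = 1
      rw [hζp, pow_zero, div_self']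
    rw [hbot, Subgroup.mem_bot, div_eq_one] at h2
    exact hw₀ h2
  have hfix : ∀ v ∈ normKer (φ z) p, φ z v = v → v = 1 := by
    intro v hv h
    rw [mem_normKer] at hv
    have h1 : ∀ j : ℕ, (φ z ^ j) v = v := by
      intro j
      induction j with
      | zero => rw [pow_zero, MulAut.one_apply]
      | succ j ih => rw [pow_succ, MulAut.mul_apply, h, ih]
    rw [Finset.prod_congr rfl (fun j _ => h1 j), Finset.prod_const, Finset.card_range] at hv
    have hcop : Nat.Coprime p r := (Nat.coprime_primes hp hr).mpr hpr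
    have := (pow_gcd_eq_one (a := v) (m := p) (n := r)).mpr ⟨hv, hVr v⟩
    rwa [Nat.Coprime.gcd_eq_one hcop, pow_one] at this
  have h1 := bound_aux hpr hmin hVr w E z hES hcard φ (normKer (φ z) p) hinv hF hfix
  exact h1.trans (Subgroup.card_le_card_group _)

end Top

section Final

variable {G : Type*} [Group G] [Finite G]

theorem extraspecial_bound {p r : ℕ} [Fact p.Prime] [hr : Fact r.Prime] (hpr : p ≠ r)
    (E A : Subgroup G) (w : ℕ) (hE : Cfsg.IsExtraspecial p ↥E)
    (hEcard : Nat.card ↥E = p ^ (2 * w + 1)) (hA : Cfsg.IsElementaryAbelian r A)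
    (hnorm : E ≤ Subgroup.normalizer (A : Set G))
    (hfaith : E ⊓ Subgroup.centralizer (A : Set G) = ⊥) (n : ℕ)
    (hmin : ∀ k : ℕ, 1 ≤ k → p ∣ r ^ k - 1 → n ≤ k) : r ^ (n * p ^ w) ≤ Nat.card ↥A := by
  obtain ⟨z, hES⟩ := exists_ESg hE
  obtain ⟨hAc, hAr⟩ := hA
  letI : CommGroup ↥A :=
    { (inferInstance : Group ↥A) with mul_comm := fun a b => hAc.is_comm.comm a b }
  have hVr : ∀ v : ↥A, v ^ r = 1 := by
    intro v
    apply Subtype.ext
    rw [Subgroup.coe_pow]
    exact hAr v.1 v.2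
  have hz : conjAutHom A E hnorm z ≠ 1 := by
    intro h
    apply hES.z_ne
    have h1 : (z : G) ∈ E ⊓ Subgroup.centralizer (A : Set G) := by
      refine Subgroup.mem_inf.mpr ⟨z.2, ?_⟩
      rw [Subgroup.mem_centralizer_iff]
      intro a ha
      have h2 : conjAutHom A E hnorm z ⟨a, ha⟩ = ⟨a, ha⟩ := by rw [h, MulAut.one_apply]
      have h3 := congrArg Subtype.val h2
      rw [conjAutHom_apply] at h3
      have h4 : (z : G) * a = a * z := by
        calc (z : G) * a = (z * a * (z : G)⁻¹) * z := by group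
          _ = a * z := by rw [h3]
      exact h4.symm
    rw [hfaith, Subgroup.mem_bot] at h1
    exact Subtype.ext h1
  exact bound_top hpr hmin hVr w ↥E z hES hEcard (conjAutHom A E hnorm) hz

end Final

end Cfsg.Agent.Lib.Lead.ExtraG
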