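import Mathlib
import Cfsg.Agent.Lib.Lead.ExtraP1
import Cfsg.Agent.Lib.Lead.Extra3

set_option autoImplicit false

namespace Cfsg.Agent.Lib.Lead.Extra

open scoped commutatorElement
open Cfsg.Agent.Lib.Lead

universe u v

/-- Elementary description of extraspecial `p`-groups of exponent `p` (including the degenerate
group of order `p`). -/
structure ESp (p : ℕ) (E : Type u) [Group E] (z : E) : Prop where
  z_ne : z ≠ 1
  z_mem : z ∈ Subgroup.center E
  comm : ∀ x y : E, ⁅x, y⁆ ∈ Subgroup.zpowers z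
  pw : ∀ x : E, x ^ p = 1
  cen : ∀ w ∈ Subgroup.center E, w ∈ Subgroup.zpowers z

section basics

variable {p : ℕ} [hp : Fact p.Prime] {E : Type u} [Group E] {z : E}

theorem ESp.z_comm (h : ESp p E z) (g : E) : g * z = z * g :=
  Subgroup.mem_center_iff.mp h.z_mem g

theorem ESp.zpowers_le_center (h : ESp p E z) : Subgroup.zpowers z ≤ Subgroup.center E := by
  rw [Subgroup.zpowers_le]
  exact h.z_mem

theorem ESp.center_eq (h : ESp p E z) : Subgroup.center E = Subgroup.zpowers z :=
  le_antisymm h.cen h.zpowers_le_center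

theorem ESp.orderOf_z (h : ESp p E z) : orderOf z = p :=
  orderOf_eq_prime (h.pw z) h.z_ne

theorem ESp.card_center [Finite E] (h : ESp p E z) : Nat.card (Subgroup.center E) = p := by
  rw [h.center_eq, Nat.card_zpowers, h.orderOf_z]

theorem ESp.comm_mem_center (h : ESp p E z) (x y : E) : ⁅x, y⁆ ∈ Subgroup.center E :=
  h.zpowers_le_center (h.comm x y)

/-- commutation with a fixed element, as a homomorphism to the centre -/
noncomputable def ESp.cHom (h : ESp p E z) (t : E) : E →* Subgroup.center E :=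
  commutatorHom (Subgroup.center E) le_rfl t (fun g => h.comm_mem_center g t)

theorem ESp.cHom_apply (h : ESp p E z) (t g : E) : ((h.cHom t g : Subgroup.center E) : E) = ⁅g, t⁆ := rfl

theorem ESp.comm_mul_left (h : ESp p E z) (a b t : E) : ⁅a * b, t⁆ = ⁅a, t⁆ * ⁅b, t⁆ := by
  have h1 := map_mul (h.cHom t) a b
  exact congrArg Subtype.val h1

theorem ESp.comm_inv_left (h : ESp p E z) (a t : E) : ⁅a⁻¹, t⁆ = ⁅a, t⁆⁻¹ := by
  have h1 := map_inv (h.cHom t) a
  exact congrArg Subtype.val h1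

theorem ESp.comm_zpow_left (h : ESp p E z) (a t : E) (k : ℤ) : ⁅a ^ k, t⁆ = ⁅a, t⁆ ^ k := by
  have h1 := map_zpow (h.cHom t) a k
  exact congrArg Subtype.val h1

theorem ESp.comm_swap (x y : E) : ⁅y, x⁆ = ⁅x, y⁆⁻¹ := (commutatorElement_inv x y).symm

theorem ESp.comm_zpow_right (h : ESp p E z) (a t : E) (k : ℤ) : ⁅a, t ^ k⁆ = ⁅a, t⁆ ^ k := by
  rw [ESp.comm_swap (t ^ k) a, h.comm_zpow_left, ESp.comm_swap t a, inv_zpow]

end basics

section split

variable {p : ℕ} [hp : Fact p.Prime] {E : Type u} [Group E] {z : E}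

theorem ESp.z_mem_cent2 (h : ESp p E z) (x y : E) : z ∈ cent2 x y := by
  rw [mem_cent2']
  exact ⟨(h.z_comm x).symm, (h.z_comm y).symm⟩

/-- coset representatives of the common centraliser of a pair with commutator `z` -/
theorem ESp.exists_rep (h : ESp p E z) {x y : E} (hxy : ⁅x, y⁆ = z) (g : E) :
    ∃ r ∈ Subgroup.closure ({x, y} : Set E), r⁻¹ * g ∈ cent2 x y := by
  obtain ⟨a, ha⟩ := Subgroup.mem_zpowers_iff.mp (h.comm g x)
  obtain ⟨b, hb⟩ := Subgroup.mem_zpowers_iff.mp (h.comm g y)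
  have hxm : x ∈ Subgroup.closure ({x, y} : Set E) := Subgroup.subset_closure (by simp)
  have hym : y ∈ Subgroup.closure ({x, y} : Set E) := Subgroup.subset_closure (by simp)
  have hyx : ⁅y, x⁆ = z⁻¹ := by rw [ESp.comm_swap, hxy]
  refine ⟨x ^ b * y ^ (-a), Subgroup.mul_mem _ (Subgroup.zpow_mem _ hxm b) (Subgroup.zpow_mem _ hym (-a)), ?_⟩
  rw [mem_cent2, h.comm_mul_left, h.comm_mul_left, h.comm_inv_left, h.comm_inv_left,
    h.comm_mul_left, h.comm_mul_left, h.comm_zpow_left, h.comm_zpow_left, h.comm_zpow_left,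
    h.comm_zpow_left, commutatorElement_self, commutatorElement_self, hxy, hyx, ← ha, ← hb]
  constructor
  · simp
  · simp

theorem ESp.card_split [Finite E] (h : ESp p E z) {x y : E} (hxy : ⁅x, y⁆ ≠ 1) :
    Nat.card E = p * p * Nat.card (cent2 x y) := by
  have hyx : ⁅y, x⁆ ≠ 1 := by
    rw [ESp.comm_swap]
    intro h1
    apply hxy
    rw [← inv_inv ⁅x, y⁆, h1, inv_one]
  have h1 := card_eq_mul_card_centralizer (p := p) h.card_center (fun g t => h.comm_mem_center g t)
    (⊤ : Subgroup E) x y (Subgroup.mem_top y) hyx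
  have h2 := card_eq_mul_card_centralizer (p := p) h.card_center (fun g t => h.comm_mem_center g t)
    (Subgroup.centralizer {x}) y x (by
      rw [Subgroup.mem_centralizer_iff]
      intro w hw
      rw [Set.mem_singleton_iff] at hw
      rw [hw]) hxy
  rw [Subgroup.card_top, top_inf_eq] at h1
  rw [h1, h2]
  unfold cent2
  ring

theorem ESp.closure_sup_cent2 (h : ESp p E z) {x y : E} (hxy : ⁅x, y⁆ = z) :
    Subgroup.closure ({x, y} : Set E) ⊔ cent2 x y = ⊤ := by
  rw [eq_top_iff]
  intro g _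
  obtain ⟨r, hrm, hrg⟩ := h.exists_rep hxy g
  have : g = r * (r⁻¹ * g) := by group
  rw [this]
  exact Subgroup.mul_mem _ (Subgroup.mem_sup_left hrm) (Subgroup.mem_sup_right hrg)

theorem ESp.central_of_mem_inf (h : ESp p E z) {x y : E} (hxy : ⁅x, y⁆ = z) (g : E)
    (hg1 : ∀ a ∈ Subgroup.closure ({x, y} : Set E), a * g = g * a)
    (hg2 : ∀ b ∈ cent2 x y, b * g = g * b) : g ∈ Subgroup.zpowers z := by
  apply h.cen
  rw [Subgroup.mem_center_iff]
  intro w
  have hw : w ∈ Subgroup.closure ({x, y} : Set E) ⊔ cent2 x y := by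
    rw [h.closure_sup_cent2 hxy]; exact Subgroup.mem_top w
  have hle : Subgroup.closure ({x, y} : Set E) ⊔ cent2 x y ≤ Subgroup.centralizer ({g} : Set E) := by
    rw [sup_le_iff]
    constructor
    · intro a ha
      rw [Subgroup.mem_centralizer_iff]
      intro v hv
      rw [Set.mem_singleton_iff] at hv
      rw [hv]; exact (hg1 a ha).symm
    · intro b hb
      rw [Subgroup.mem_centralizer_iff]
      intro v hv
      rw [Set.mem_singleton_iff] at hv
      rw [hv]; exact (hg2 b hb).symm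
  have := hle hw
  rw [Subgroup.mem_centralizer_iff] at this
  exact (this g rfl).symm

theorem ESp.inf_mem (h : ESp p E z) {x y : E} (hxy : ⁅x, y⁆ = z) (g : E)
    (hg1 : g ∈ Subgroup.closure ({x, y} : Set E)) (hg2 : g ∈ cent2 x y) : g ∈ Subgroup.zpowers z := by
  apply h.central_of_mem_inf hxy g
  · intro a ha
    exact ES.closure_comm_cent2 a ha g hg2
  · intro b hb
    exact (ES.closure_comm_cent2 g hg1 b hb).symm

theorem ESp.z_mem_closure {x y : E} (hxy : ⁅x, y⁆ = z) :
    z ∈ Subgroup.closure ({x, y} : Set E) := by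
  rw [← hxy, commutatorElement_def]
  have hxm : x ∈ Subgroup.closure ({x, y} : Set E) := Subgroup.subset_closure (by simp)
  have hym : y ∈ Subgroup.closure ({x, y} : Set E) := Subgroup.subset_closure (by simp)
  exact Subgroup.mul_mem _ (Subgroup.mul_mem _ (Subgroup.mul_mem _ hxm hym) (Subgroup.inv_mem _ hxm))
    (Subgroup.inv_mem _ hym)

theorem zpowers_subtype_mem {C : Subgroup E} {w : E} (hz : z ∈ C) (hw : w ∈ Subgroup.zpowers z)
    (hwC : w ∈ C) : (⟨w, hwC⟩ : C) ∈ Subgroup.zpowers (⟨z, hz⟩ : C) := by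
  obtain ⟨k, hk⟩ := Subgroup.mem_zpowers_iff.mp hw
  rw [Subgroup.mem_zpowers_iff]
  refine ⟨k, ?_⟩
  apply Subtype.ext
  rw [Subgroup.coe_zpow]
  exact hk

/-- the common centraliser is again of the same kind -/
theorem ESp.cent2_ESp (h : ESp p E z) {x y : E} (hxy : ⁅x, y⁆ = z) :
    ESp p (cent2 x y) ⟨z, h.z_mem_cent2 x y⟩ where
  z_ne := by
    intro h1
    exact h.z_ne (congrArg Subtype.val h1)
  z_mem := by
    rw [Subgroup.mem_center_iff]
    intro g
    apply Subtype.ext
    exact h.z_comm g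
  comm := by
    intro a b
    exact zpowers_subtype_mem (h.z_mem_cent2 x y) (h.comm a b) _
  pw := by
    intro a
    apply Subtype.ext
    rw [Subgroup.coe_pow]
    exact h.pw a
  cen := by
    intro w hw
    have h1 : (w : E) ∈ Subgroup.zpowers z := by
      apply h.central_of_mem_inf hxy
      · intro a ha
        exact ES.closure_comm_cent2 a ha w w.2
      · intro b hb
        have := Subgroup.mem_center_iff.mp hw ⟨b, hb⟩
        exact congrArg Subtype.val this
    exact zpowers_subtype_mem (h.z_mem_cent2 x y) h1 w.2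

/-- normalising a noncommuting pair so that its commutator is `z` -/
theorem ESp.exists_pair (h : ESp p E z) (hab : ∃ a b : E, ⁅a, b⁆ ≠ 1) :
    ∃ x y : E, ⁅x, y⁆ = z := by
  obtain ⟨a, b, hab⟩ := hab
  obtain ⟨k, hk⟩ := Subgroup.mem_zpowers_iff.mp (h.comm a b)
  -- p does not divide k
  have hpk : ¬ (p : ℤ) ∣ k := by
    rintro ⟨j, rfl⟩
    apply hab
    rw [← hk, zpow_mul, zpow_natCast, h.pw z, one_zpow]
  have hcop : IsCoprime (p : ℤ) k :=
    ((Nat.prime_iff_prime_int.mp hp.out).coprime_iff_not_dvd).mpr hpk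
  obtain ⟨u, v, huv⟩ := hcop
  refine ⟨a ^ v, b, ?_⟩
  rw [h.comm_zpow_left, ← hk, ← zpow_mul]
  have : k * v = 1 - u * p := by linarith
  rw [this, zpow_sub, zpow_one, zpow_mul, zpow_natCast]
  have h1 : (z ^ u) ^ p = 1 := by rw [← zpow_natCast, ← zpow_mul, mul_comm, zpow_mul, zpow_natCast, h.pw z, one_zpow]
  rw [h1, inv_one, mul_one]

end split

end Cfsg.Agent.Lib.Lead.Extra
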