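import Mathlib
import Cfsg.Agent.Lib.Lead.ExtraP2
import Cfsg.Agent.Lib.Lead.QuatRecog

set_option autoImplicit false

namespace Cfsg.Agent.Lib.Lead.Extra

open scoped commutatorElement
open Cfsg.Agent.Lib.Lead

universe u v

/-- The Heisenberg group over `ZMod p`. -/
@[ext] structure Heis (p : ℕ) where
  a : ZMod p
  b : ZMod p
  c : ZMod p

namespace Heis

variable {p : ℕ}

instance : Mul (Heis p) := ⟨fun u v => ⟨u.a + v.a, u.b + v.b, u.c + v.c - u.b * v.a⟩⟩
instance : One (Heis p) := ⟨⟨0, 0, 0⟩⟩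
instance : Inv (Heis p) := ⟨fun u => ⟨-u.a, -u.b, -u.c - u.a * u.b⟩⟩

@[simp] theorem mul_a (u v : Heis p) : (u * v).a = u.a + v.a := rfl
@[simp] theorem mul_b (u v : Heis p) : (u * v).b = u.b + v.b := rfl
@[simp] theorem mul_c (u v : Heis p) : (u * v).c = u.c + v.c - u.b * v.a := rfl
@[simp] theorem one_a : (1 : Heis p).a = 0 := rfl
@[simp] theorem one_b : (1 : Heis p).b = 0 := rfl
@[simp] theorem one_c : (1 : Heis p).c = 0 := rfl
@[simp] theorem inv_a (u : Heis p) : (u⁻¹).a = -u.a := rfl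
@[simp] theorem inv_b (u : Heis p) : (u⁻¹).b = -u.b := rfl
@[simp] theorem inv_c (u : Heis p) : (u⁻¹).c = -u.c - u.a * u.b := rfl

instance : Group (Heis p) :=
  Group.ofLeftAxioms
    (by intro u v w; ext <;> simp <;> ring)
    (by intro u; ext <;> simp)
    (by intro u; ext <;> simp; ring)

end Heis

section recog

variable {p : ℕ} [hp : Fact p.Prime] {E : Type u} [Group E] {z : E}

/-- powers indexed by `ZMod p` -/
noncomputable def zp (t : E) (ht : t ^ p = 1) (i : ZMod p) : E := (zmodPow p t ht i).toMul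

theorem zp_add (t : E) (ht : t ^ p = 1) (i j : ZMod p) : zp t ht (i + j) = zp t ht i * zp t ht j :=
  zmodPow_add p t ht i j

theorem zp_neg (t : E) (ht : t ^ p = 1) (i : ZMod p) : zp t ht (-i) = (zp t ht i)⁻¹ :=
  zmodPow_neg p t ht i

theorem zp_intCast (t : E) (ht : t ^ p = 1) (k : ℤ) : zp t ht (k : ZMod p) = t ^ k :=
  zmodPow_intCast p t ht k

theorem zp_zero (t : E) (ht : t ^ p = 1) : zp t ht 0 = 1 := by
  have := zp_intCast t ht 0
  simpa using this

theorem zp_one (t : E) (ht : t ^ p = 1) : zp t ht 1 = t := by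
  have := zp_intCast t ht 1
  simpa using this

theorem zp_mem_zpowers (t : E) (ht : t ^ p = 1) (i : ZMod p) : zp t ht i ∈ Subgroup.zpowers t :=
  zmodPow_mem_zpowers p t ht i

theorem zp_eq_one (t : E) (ht : t ^ p = 1) (ht1 : t ≠ 1) (i : ZMod p) (h : zp t ht i = 1) : i = 0 := by
  haveI : NeZero p := ⟨hp.out.ne_zero⟩
  exact zmodPow_eq_one p t ht (orderOf_eq_prime ht ht1) i h

theorem heis_calc {E : Type u} [Monoid E] (A A' B B' C C' D : E)
    (hC : ∀ g, g * C = C * g) (hD : ∀ g, g * D = D * g) (r : B * A' = A' * B * D) :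
    A * A' * (B * B') * (C * C' * D) = A * B * C * (A' * B' * C') := by
  symm
  calc A * B * C * (A' * B' * C') = A * (B * (C * (A' * (B' * C')))) := by simp only [mul_assoc]
    _ = A * (B * (A' * (B' * C') * C)) := by rw [← hC (A' * (B' * C'))]
    _ = A * (B * A' * (B' * (C' * C))) := by simp only [mul_assoc]
    _ = A * (A' * B * D * (B' * (C' * C))) := by rw [r]
    _ = A * (A' * (B * (D * (B' * (C' * C))))) := by simp only [mul_assoc]
    _ = A * (A' * (B * ((B' * (C' * C)) * D))) := by rw [← hD (B' * (C' * C))]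
    _ = A * (A' * (B * ((B' * (C * C')) * D))) := by rw [hC C']
    _ = A * A' * (B * B') * (C * C' * D) := by simp only [mul_assoc]

/-- the map from the Heisenberg group -/
theorem ESp.heis (h : ESp p E z) {x y : E} (hxy : ⁅x, y⁆ = z) :
    ∃ e : Heis p ≃* Subgroup.closure ({x, y} : Set E),
      ((e ⟨0, 0, 1⟩ : Subgroup.closure ({x, y} : Set E)) : E) = z := by
  have hx := h.pw x
  have hy := h.pw y
  have hz := h.pw z
  -- the commutation rule
  have rule : ∀ i j : ZMod p, zp y hy j * zp x hx i = zp x hx i * zp y hy j * zp z hz (-(j * i)) := by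
    intro i j
    obtain ⟨m, rfl⟩ := ZMod.intCast_surjective i
    obtain ⟨n, rfl⟩ := ZMod.intCast_surjective j
    have e1 : (-((n : ZMod p) * (m : ZMod p))) = ((-(n * m) : ℤ) : ZMod p) := by push_cast; ring
    rw [e1, zp_intCast, zp_intCast, zp_intCast]
    have h1 : ⁅x ^ m, y ^ n⁆ = z ^ (n * m) := by
      rw [h.comm_zpow_left, h.comm_zpow_right, hxy, ← zpow_mul, mul_comm]
    have h2 : x ^ m * y ^ n = ⁅x ^ m, y ^ n⁆ * (y ^ n * x ^ m) := by
      rw [commutatorElement_def]; group
    have hzc : ∀ g : E, g * z ^ (n * m) = z ^ (n * m) * g := by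
      intro g
      exact ((Commute.zpow_right (show Commute g z from h.z_comm g) (n * m))).eq
    rw [h2, h1, mul_assoc, ← hzc, mul_assoc, ← zpow_add]
    simp
  have hzc : ∀ (k : ZMod p) (g : E), g * zp z hz k = zp z hz k * g := by
    intro k g
    have := zp_mem_zpowers z hz k
    have := h.zpowers_le_center this
    exact (Subgroup.mem_center_iff.mp this g)
  let Ψ : Heis p →* E :=
    { toFun := fun u => zp x hx u.a * zp y hy u.b * zp z hz u.c
      map_one' := by
        show zp x hx 0 * zp y hy 0 * zp z hz 0 = 1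
        rw [zp_zero, zp_zero, zp_zero]; simp
      map_mul' := by
        intro u v
        show zp x hx (u.a + v.a) * zp y hy (u.b + v.b) * zp z hz (u.c + v.c - u.b * v.a) =
          zp x hx u.a * zp y hy u.b * zp z hz u.c * (zp x hx v.a * zp y hy v.b * zp z hz v.c)
        rw [zp_add, zp_add, sub_eq_add_neg, zp_add, zp_add]
        exact heis_calc _ _ _ _ _ _ _ (hzc u.c) (hzc _) (rule v.a u.b) }
  have hΨ : ∀ u : Heis p, Ψ u = zp x hx u.a * zp y hy u.b * zp z hz u.c := fun _ => rfl
  have cx : ∀ a, ⁅zp x hx a, y⁆ = zp z hz a := by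
    intro a
    obtain ⟨m, rfl⟩ := ZMod.intCast_surjective a
    rw [zp_intCast, zp_intCast, h.comm_zpow_left, hxy]
  have cy : ∀ b, ⁅zp y hy b, x⁆ = zp z hz (-b) := by
    intro b
    obtain ⟨n, rfl⟩ := ZMod.intCast_surjective b
    rw [zp_neg, zp_intCast, zp_intCast, h.comm_zpow_left, ESp.comm_swap, hxy, inv_zpow]
  have cxx : ∀ a, ⁅zp x hx a, x⁆ = 1 := by
    intro a
    obtain ⟨m, rfl⟩ := ZMod.intCast_surjective a
    rw [zp_intCast, h.comm_zpow_left, commutatorElement_self, one_zpow]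
  have cyy : ∀ b, ⁅zp y hy b, y⁆ = 1 := by
    intro b
    obtain ⟨n, rfl⟩ := ZMod.intCast_surjective b
    rw [zp_intCast, h.comm_zpow_left, commutatorElement_self, one_zpow]
  have czg : ∀ (c : ZMod p) (g : E), ⁅zp z hz c, g⁆ = 1 := by
    intro c g
    rw [commutatorElement_eq_one_iff_commute]
    exact (hzc c g).symm
  have hinj : Function.Injective Ψ := by
    rw [injective_iff_map_eq_one]
    intro u hu
    have e1 : ⁅Ψ u, y⁆ = zp z hz u.a := by
      rw [hΨ, h.comm_mul_left, h.comm_mul_left, cx, cyy, czg]; simp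
    have e2 : ⁅Ψ u, x⁆ = zp z hz (-u.b) := by
      rw [hΨ, h.comm_mul_left, h.comm_mul_left, cxx, cy, czg]; simp
    rw [hu, commutatorElement_one_left] at e1 e2
    have ha : u.a = 0 := zp_eq_one z hz h.z_ne _ e1.symm
    have hb : u.b = 0 := by
      have := zp_eq_one z hz h.z_ne _ e2.symm
      simpa using this
    have hc : u.c = 0 := by
      rw [hΨ, ha, hb, zp_zero, zp_zero, one_mul, one_mul] at hu
      exact zp_eq_one z hz h.z_ne _ hu
    ext
    · exact ha
    · exact hb
    · exact hc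
  have hxm : x ∈ Subgroup.closure ({x, y} : Set E) := Subgroup.subset_closure (by simp)
  have hym : y ∈ Subgroup.closure ({x, y} : Set E) := Subgroup.subset_closure (by simp)
  have hzm : z ∈ Subgroup.closure ({x, y} : Set E) := by
    rw [← hxy, commutatorElement_def]
    exact Subgroup.mul_mem _ (Subgroup.mul_mem _ (Subgroup.mul_mem _ hxm hym)
      (Subgroup.inv_mem _ hxm)) (Subgroup.inv_mem _ hym)
  have hrange : Ψ.range = Subgroup.closure ({x, y} : Set E) := by
    apply le_antisymm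
    · rintro _ ⟨u, rfl⟩
      rw [hΨ]
      refine Subgroup.mul_mem _ (Subgroup.mul_mem _ ?_ ?_) ?_
      · exact (Subgroup.zpowers_le.mpr hxm) (zp_mem_zpowers x hx _)
      · exact (Subgroup.zpowers_le.mpr hym) (zp_mem_zpowers y hy _)
      · exact (Subgroup.zpowers_le.mpr hzm) (zp_mem_zpowers z hz _)
    · rw [Subgroup.closure_le]
      intro w hw
      rcases hw with rfl | hw
      · refine ⟨⟨1, 0, 0⟩, ?_⟩
        rw [hΨ]
        show zp w hx 1 * zp y hy 0 * zp z hz 0 = w
        rw [zp_zero, zp_zero, zp_one, mul_one, mul_one]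
      · rw [Set.mem_singleton_iff] at hw
        subst hw
        refine ⟨⟨0, 1, 0⟩, ?_⟩
        rw [hΨ]
        show zp x hx 0 * zp w hy 1 * zp z hz 0 = w
        rw [zp_zero, zp_zero, zp_one, mul_one, one_mul]
  refine ⟨(MonoidHom.ofInjective hinj).trans (MulEquiv.subgroupCongr hrange), ?_⟩
  show Ψ ⟨0, 0, 1⟩ = z
  rw [hΨ]
  show zp x hx 0 * zp y hy 0 * zp z hz 1 = z
  rw [zp_zero, zp_zero, zp_one, one_mul, one_mul]

end recog

end Cfsg.Agent.Lib.Lead.Extra
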