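import Mathlib
import Cfsg.Agent.Lib.Lead.ExtraP3

set_option autoImplicit false

namespace Cfsg.Agent.Lib.Lead.Extra

open scoped commutatorElement
open Cfsg.Agent.Lib.Lead

universe u v

section main

variable {p : ℕ} [hp : Fact p.Prime]

theorem ESp.all_mem_of_abelian {E : Type u} [Group E] {z : E} (h : ESp p E z)
    (hab : ¬ ∃ a b : E, ⁅a, b⁆ ≠ 1) (g : E) : g ∈ Subgroup.zpowers z := by
  apply h.cen
  rw [Subgroup.mem_center_iff]
  intro w
  push Not at hab
  have := hab w g
  rw [commutatorElement_eq_one_iff_commute] at this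
  exact this.eq

theorem ESp.top_eq_of_abelian {E : Type u} [Group E] {z : E} (h : ESp p E z)
    (hab : ¬ ∃ a b : E, ⁅a, b⁆ ≠ 1) : (⊤ : Subgroup E) = Subgroup.zpowers z := by
  symm
  rw [eq_top_iff]
  intro g _
  exact h.all_mem_of_abelian hab g

theorem ESp.card_of_abelian {E : Type u} [Group E] {z : E} (h : ESp p E z)
    (hab : ¬ ∃ a b : E, ⁅a, b⁆ ≠ 1) : Nat.card E = p := by
  rw [← Subgroup.card_top, h.top_eq_of_abelian hab, Nat.card_zpowers, h.orderOf_z]

theorem ESp.card_ne_of_nonabelian {E : Type u} [Group E] [Finite E] {z : E} (h : ESp p E z)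
    (hab : ∃ a b : E, ⁅a, b⁆ ≠ 1) : Nat.card E ≠ p := by
  obtain ⟨a, b, hab⟩ := hab
  rw [h.card_split hab]
  intro h1
  have hc : 0 < Nat.card (cent2 a b) := Nat.card_pos
  have hp2 := hp.out.two_le
  have : p * (p * Nat.card (cent2 a b)) = p * 1 := by rw [← mul_assoc, h1, mul_one]
  have h2 := Nat.eq_of_mul_eq_mul_left hp.out.pos this
  have h3 : p ∣ 1 := ⟨_, h2.symm⟩
  have := Nat.le_of_dvd one_pos h3
  omega

theorem ESp.cyclic_iso {E : Type u} {E' : Type v} [Group E] [Group E'] {z : E} {z' : E'}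
    (h : ESp p E z) (h' : ESp p E' z')
    (hab : ¬ ∃ a b : E, ⁅a, b⁆ ≠ 1) (hab' : ¬ ∃ a b : E', ⁅a, b⁆ ≠ 1) :
    ∃ f : E ≃* E', f z = z' := by
  have ho : orderOf z = orderOf z' := by rw [h.orderOf_z, h'.orderOf_z]
  exact ⟨mulEquivOfOrderOfEq (h.all_mem_of_abelian hab) (h'.all_mem_of_abelian hab') ho,
    mulEquivOfOrderOfEq_apply_gen _ _ _⟩

/-- the main uniqueness theorem -/
theorem ESp.unique_aux (n : ℕ) : ∀ (E : Type u) (E' : Type v) [Group E] [Group E'] [Finite E] [Finite E']
    (z : E) (z' : E'), ESp p E z → ESp p E' z' → Nat.card E = n → Nat.card E' = n →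
    ∃ f : E ≃* E', f z = z' := by
  induction n using Nat.strong_induction_on with
  | _ n ih =>
    intro E E' _ _ _ _ z z' h h' hn hn'
    by_cases hab : ∃ a b : E, ⁅a, b⁆ ≠ 1
    · by_cases hab' : ∃ a b : E', ⁅a, b⁆ ≠ 1
      · obtain ⟨x, y, hxy⟩ := h.exists_pair hab
        obtain ⟨x', y', hxy'⟩ := h'.exists_pair hab'
        obtain ⟨e, he⟩ := h.heis hxy
        obtain ⟨e', he'⟩ := h'.heis hxy'
        have hzH : z ∈ Subgroup.closure ({x, y} : Set E) := ESp.z_mem_closure hxy
        have hzH' : z' ∈ Subgroup.closure ({x', y'} : Set E') := ESp.z_mem_closure hxy'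
        have hzC := h.z_mem_cent2 x y
        have hzC' := h'.z_mem_cent2 x' y'
        let f₀ : Subgroup.closure ({x, y} : Set E) ≃* Subgroup.closure ({x', y'} : Set E') :=
          e.symm.trans e'
        have hf₀ : f₀ ⟨z, hzH⟩ = ⟨z', hzH'⟩ := by
          have e1 : e ⟨0, 0, 1⟩ = ⟨z, hzH⟩ := Subtype.ext he
          have e2 : e' ⟨0, 0, 1⟩ = ⟨z', hzH'⟩ := Subtype.ext he'
          show e' (e.symm ⟨z, hzH⟩) = _
          rw [← e1, MulEquiv.symm_apply_apply, e2]
        -- cardinalities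
        have hne : ⁅x, y⁆ ≠ 1 := by rw [hxy]; exact h.z_ne
        have hne' : ⁅x', y'⁆ ≠ 1 := by rw [hxy']; exact h'.z_ne
        have hcard := h.card_split hne
        have hcard' := h'.card_split hne'
        have hpp : 0 < p * p := Nat.mul_pos hp.out.pos hp.out.pos
        have hCC : Nat.card (cent2 x y) = Nat.card (cent2 x' y') := by
          apply Nat.eq_of_mul_eq_mul_left hpp
          rw [← hcard, ← hcard', hn, hn']
        have hlt : Nat.card (cent2 x y) < n := by
          rw [← hn, hcard]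
          have hc : 0 < Nat.card (cent2 x y) := Nat.card_pos
          have : 2 ≤ p := hp.out.two_le
          nlinarith
        obtain ⟨f₁, hf₁⟩ := ih _ hlt (cent2 x y) (cent2 x' y') ⟨z, hzC⟩ ⟨z', hzC'⟩
          (h.cent2_ESp hxy) (h'.cent2_ESp hxy') rfl hCC.symm
        -- powers
        have pw₀ : ∀ k : ℤ, f₀ (⟨z, hzH⟩ ^ k) = ⟨z', hzH'⟩ ^ k := by
          intro k; rw [map_zpow, hf₀]
        have pw₁ : ∀ k : ℤ, f₁ (⟨z, hzC⟩ ^ k) = ⟨z', hzC'⟩ ^ k := by
          intro k; rw [map_zpow, hf₁]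
        obtain ⟨F, hF⟩ := glue' (Subgroup.closure ({x, y} : Set E)) (cent2 x y)
          (Subgroup.closure ({x', y'} : Set E')) (cent2 x' y')
          ES.closure_comm_cent2 ES.closure_comm_cent2
          (h.closure_sup_cent2 hxy) (h'.closure_sup_cent2 hxy') f₀ f₁
          (by
            intro a ha hb
            obtain ⟨k, hk⟩ := Subgroup.mem_zpowers_iff.mp (h.inf_mem hxy a ha hb)
            have e1 : (⟨a, ha⟩ : Subgroup.closure ({x, y} : Set E)) = ⟨z, hzH⟩ ^ k := by
              apply Subtype.ext; rw [Subgroup.coe_zpow]; exact hk.symm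
            have e2 : (⟨a, hb⟩ : cent2 x y) = ⟨z, hzC⟩ ^ k := by
              apply Subtype.ext; rw [Subgroup.coe_zpow]; exact hk.symm
            rw [e1, e2, pw₀, pw₁, Subgroup.coe_zpow, Subgroup.coe_zpow])
          (by
            intro a ha
            obtain ⟨k, hk⟩ := Subgroup.mem_zpowers_iff.mp
              (h'.inf_mem hxy' (f₀ a : E') (f₀ a).2 ha)
            have e1 : f₀ a = f₀ (⟨z, hzH⟩ ^ k) := by
              rw [pw₀]; apply Subtype.ext; rw [Subgroup.coe_zpow]; exact hk.symm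
            have e2 := f₀.injective e1
            rw [e2, Subgroup.coe_zpow]
            exact Subgroup.zpow_mem _ hzC k)
        refine ⟨F, ?_⟩
        have := hF ⟨z, hzH⟩ 1
        rw [hf₀, map_one] at this
        simpa using this
      · exfalso
        exact h.card_ne_of_nonabelian hab (by rw [hn, ← hn']; exact h'.card_of_abelian hab')
    · by_cases hab' : ∃ a b : E', ⁅a, b⁆ ≠ 1
      · exfalso
        exact h'.card_ne_of_nonabelian hab' (by rw [hn', ← hn]; exact h.card_of_abelian hab)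
      · exact h.cyclic_iso h' hab hab'

theorem ESp.unique {E : Type u} {E' : Type v} [Group E] [Group E'] [Finite E] [Finite E']
    {z : E} {z' : E'} (h : ESp p E z) (h' : ESp p E' z') (hc : Nat.card E = Nat.card E') :
    ∃ f : E ≃* E', f z = z' :=
  ESp.unique_aux (Nat.card E) E E' z z' h h' rfl hc.symm

end main

end Cfsg.Agent.Lib.Lead.Extra
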