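import Mathlib
import Cfsg.Agent.Lib.Lead.ExtraP4

set_option autoImplicit false

namespace Cfsg.Agent.Lib.Lead.Extra

open scoped commutatorElement
open Cfsg.Agent.Lib.Lead

universe u v

theorem exists_ESp {p : ℕ} [hp : Fact p.Prime] {E : Type u} [Group E] [Finite E]
    (hE : Cfsg.IsExtraspecial p E) (he : Monoid.exponent E = p) : ∃ z : E, ESp p E z := by
  obtain ⟨⟨hpg, hfr, hcm⟩, hcard⟩ := hE
  have hpw : ∀ x : E, x ^ p = 1 := fun x => by rw [← he]; exact Monoid.pow_exponent_eq_one x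
  haveI : Nontrivial (Subgroup.center E) := by
    rw [← Finite.one_lt_card_iff_nontrivial, hcard]; exact hp.out.one_lt
  obtain ⟨w, hw⟩ := exists_ne (1 : Subgroup.center E)
  have hw1 : (w : E) ≠ 1 := fun h => hw (Subtype.ext h)
  have ho : orderOf (w : E) = p := orderOf_eq_prime (hpw w) hw1
  have hzc : Subgroup.zpowers (w : E) = Subgroup.center E := by
    apply Subgroup.eq_of_le_of_card_ge
    · rw [Subgroup.zpowers_le]; exact w.2
    · rw [Nat.card_zpowers, ho, hcard]
  refine ⟨w, hw1, w.2, ?_, hpw, ?_⟩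
  · intro x y
    rw [hzc, ← hcm, commutator_def]
    exact Subgroup.commutator_mem_commutator (Subgroup.mem_top x) (Subgroup.mem_top y)
  · intro v hv
    rw [hzc]; exact hv

theorem extraspecial_exponent_p_iso {p : ℕ} [hp : Fact p.Prime] {E : Type u} {E' : Type v}
    [Group E] [Group E'] [Finite E] [Finite E']
    (h₁ : Cfsg.IsExtraspecial p E) (h₂ : Cfsg.IsExtraspecial p E')
    (he₁ : Monoid.exponent E = p) (he₂ : Monoid.exponent E' = p)
    (hc : Nat.card E = Nat.card E') : Nonempty (E ≃* E') := by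
  obtain ⟨z, hz⟩ := exists_ESp h₁ he₁
  obtain ⟨z', hz'⟩ := exists_ESp h₂ he₂
  obtain ⟨f, -⟩ := hz.unique hz' hc
  exact ⟨f⟩

end Cfsg.Agent.Lib.Lead.Extra
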