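import Mathlib
import Cfsg.Agent.Lib.Lead.FF17
import Cfsg.Agent.Lib.Lead.FF11
import Cfsg.Agent.S0035
import Cfsg.Agent.S0039

set_option autoImplicit false

universe u

namespace Cfsg.Agent.Lib.Lead.FF

variable {X : Type u} [Group X] [Finite X]

/-- commutative group structure on a commutative subgroup -/
@[reducible] def commOfSub (V : Subgroup X) (hV : ∀ a ∈ V, ∀ b ∈ V, a * b = b * a) :
    CommGroup ↥V :=
  { (inferInstance : Group ↥V) with
    mul_comm := fun a b => Subtype.ext (hV a a.2 b b.2) }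

/-- Frobenius data extracted from a Frobenius complement -/
theorem frob_data {Γ : Type u} [Group Γ] [Finite Γ] (R : Subgroup Γ)
    (hR : Cfsg.IsFrobeniusComplement R) :
    ∃ N : Subgroup Γ, (N : Set Γ) = Cfsg.frobeniusKernel R ∧ N.Normal ∧
      (∀ e ∈ R, e ≠ 1 → ∀ u ∈ N, e * u = u * e → u = 1) ∧
      (∀ g : Γ, ∃ u ∈ N, ∃ e ∈ R, g = u * e) := by
  classical
  obtain ⟨N, hNk, hNn, hc⟩ := Cfsg.Agent.S0035.result R hR
  haveI := hNn
  refine ⟨N, hNk, hNn, ?_, ?_⟩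
  · have hN1 : N ≠ ⊥ := by
      intro hb
      apply hR.2.1
      have h1 := hc.card_mul_card
      rw [hb, Subgroup.card_bot, one_mul] at h1
      exact (Subgroup.card_eq_iff_eq_top R).mp h1
    have hfix := (Cfsg.Agent.S0039.result N R hc hN1 hR.1).mp hR
    intro e he he1 u hu heu
    have : u ∈ N ⊓ Subgroup.centralizer {e} := by
      exact ⟨hu, Subgroup.mem_centralizer_singleton_iff.mpr heu.symm⟩
    rw [hfix e he he1, Subgroup.mem_bot] at this
    exact this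
  · intro g
    obtain ⟨⟨n, r⟩, hnr⟩ := hc.2 g
    exact ⟨n, n.2, r, r.2, hnr.symm⟩

theorem s3770 (G V : Subgroup X) {ℓ : ℕ} (hℓ : ℓ.Prime)
    (hVc : ∀ a ∈ V, ∀ b ∈ V, a * b = b * a) (hVe : ∀ a ∈ V, a ^ ℓ = 1)
    (hℓG : ¬ ℓ ∣ Nat.card G) (hGV : G ≤ Subgroup.normalizer (V : Set X)) (R : Subgroup ↥G)
    (hR : Cfsg.IsFrobeniusComplement R)
    (hCV : Nat.card ↥(V ⊓ Subgroup.centralizer ((R.map G.subtype : Subgroup X) : Set X)) ≤ ℓ) :
    ⁅Subgroup.closure (Subtype.val '' Cfsg.frobeniusKernel R),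
      Subgroup.closure (Subtype.val '' Cfsg.frobeniusKernel R)⁆ ≤
      Subgroup.centralizer (V : Set X) := by
  classical
  haveI : Fact ℓ.Prime := ⟨hℓ⟩
  obtain ⟨N, hNk, hNn, hfpf, hG⟩ := frob_data R hR
  haveI := hNn
  letI : CommGroup ↥V := commOfSub V hVc
  have hexp : ∀ q : ↥V, q ^ ℓ = 1 := by
    intro q
    apply Subtype.ext
    simpa using hVe q q.2
  have hU : ¬ ℓ ∣ Nat.card N := fun h => hℓG (h.trans (Subgroup.card_subgroup_dvd_card N))
  have hE : ¬ ℓ ∣ Nat.card R := fun h => hℓG (h.trans (Subgroup.card_subgroup_dvd_card R))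
  have h1 : Nat.card ↥(FP (conjAct V G hGV) R) ≤ ℓ := by
    refine le_trans (le_of_eq ?_) hCV
    apply Nat.card_congr
    refine ⟨fun q => ⟨((q : ↥V) : X), (q : ↥V).2, ?_⟩, fun x => ⟨⟨(x : X), x.2.1⟩, ?_⟩,
      fun q => rfl, fun x => rfl⟩
    · show ((q : ↥V) : X) ∈ Subgroup.centralizer ((R.map G.subtype : Subgroup X) : Set X)
      rw [Subgroup.mem_centralizer_iff]
      rintro _ ⟨r, hr, rfl⟩
      have := q.2 r hr
      have h2 := congrArg Subtype.val this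
      rw [conjAct_apply] at h2
      simp only [Subgroup.coe_subtype]
      calc (r : X) * ((q : ↥V) : X) = (r : X) * ((q : ↥V) : X) * (r : X)⁻¹ * r := by group
        _ = ((q : ↥V) : X) * r := by rw [h2]
    · intro r hr
      apply Subtype.ext
      rw [conjAct_apply]
      have := (Subgroup.mem_centralizer_iff.mp x.2.2) (r : X) ⟨r, hr, rfl⟩
      simp only
      rw [this]
      group
  have key := one_dim_elem ℓ hexp N R hfpf hG (conjAct V G hGV) hU hE h1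
  have hcl : Subgroup.closure (Subtype.val '' Cfsg.frobeniusKernel R) = N.map G.subtype := by
    rw [← hNk]
    have : (Subtype.val '' (N : Set ↥G)) = ((N.map G.subtype : Subgroup X) : Set X) := by
      ext x
      simp
    rw [this, Subgroup.closure_eq]
  rw [hcl, Subgroup.commutator_le]
  rintro _ ⟨a, ha, rfl⟩ _ ⟨b, hb, rfl⟩
  rw [Subgroup.mem_centralizer_iff]
  intro v hv
  have h2 := key a⁻¹ (N.inv_mem ha) b⁻¹ (N.inv_mem hb)
  have h3 := congrArg Subtype.val (MulEquiv.congr_fun h2 ⟨v, hv⟩)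
  rw [conjAct_apply, conjAct_apply] at h3
  simp only [Subgroup.coe_mul, Subgroup.coe_inv, Subgroup.coe_subtype] at h3 ⊢
  rw [commutatorElement_def]
  have h4 : ((a : X)⁻¹ * (b : X)⁻¹)⁻¹ * ((a : X)⁻¹ * (b : X)⁻¹ * v * ((a : X)⁻¹ * (b : X)⁻¹)⁻¹) *
      ((a : X)⁻¹ * (b : X)⁻¹) = v := by group
  rw [h3] at h4
  calc v * ((a : X) * b * (a : X)⁻¹ * (b : X)⁻¹)
      = ((a : X) * b * (a : X)⁻¹ * (b : X)⁻¹) * (((a : X)⁻¹ * (b : X)⁻¹)⁻¹ *
        ((b : X)⁻¹ * (a : X)⁻¹ * v * ((b : X)⁻¹ * (a : X)⁻¹)⁻¹) * ((a : X)⁻¹ * (b : X)⁻¹)) *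
        ((a : X) * b * (a : X)⁻¹ * (b : X)⁻¹)⁻¹ * ((a : X) * b * (a : X)⁻¹ * (b : X)⁻¹) := by
        group
    _ = _ := by rw [h4]; group

end Cfsg.Agent.Lib.Lead.FF
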