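import Mathlib
import Cfsg.Agent.Lib.Lead.SCF1
import Cfsg.Agent.Lib.Helper4.Sect6

set_option autoImplicit false

/-! Control of strong fusion by `N(W(E))`, `E` strongly closed, in `Qd(p)`-free groups: the two
reductions for `O_p(X) ≠ 1`. -/

namespace Cfsg.Agent.Lib.Lead

namespace SCF

open Cfsg Cfsg.Agent.Lib.Helper4 Cfsg.Agent.Lib.Helper7

universe u

variable {p : ℕ} [Fact p.Prime] {X : Type u} [Group X] [Finite X]

/-- first reduction: the two overgroups `S C_X(Q)` and `N_X(Q C_S(Q))` -/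
theorem step_two_overgroups {n : ℕ} (hqf : QF p X) (S : Sylow p X) (E : Subgroup X)
    (hE : ZJ.SClosed E (S : Subgroup X))
    (IHsub : ∀ H : Subgroup X, H ≠ ⊤ → Main p n ↥H)
    (hA : ¬ (S : Subgroup X) ⊓ Subgroup.centralizer ((pCore p X : Subgroup X) : Set X) ≤ pCore p X)
    (hG1 : (S : Subgroup X) ⊔ Subgroup.centralizer ((pCore p X : Subgroup X) : Set X) ≠ ⊤)
    (D : Subgroup X) (hD : D ∈ GoldFam S) (x : X) (hx : x ∈ Subgroup.normalizer (D : Set X)) :
    ∃ y ∈ Subgroup.normalizer (ZJ.wsub n E : Set X), ∀ d ∈ D, y * d * y⁻¹ = x * d * x⁻¹ := by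
  have hSp : IsPGroup p (S : Subgroup X) := S.isPGroup'
  have hDS : D ≤ (S : Subgroup X) := hD.1
  have hDsub : (D : Set X) ⊆ ((S : Subgroup X) : Set X) := by exact_mod_cast hDS
  have hQS : pCore p X ≤ (S : Subgroup X) := Cfsg.Agent.Lib.Helper6.pCore_le_sylow S
  obtain ⟨c, hc, m, hm, hxcm, hmD⟩ := decomp_centralizer S (pCore p X) hDS hx
  have hS2 : (S : Subgroup X) ≤ Subgroup.normalizer ((pCore p X ⊔ ((S : Subgroup X) ⊓
        Subgroup.centralizer ((pCore p X : Subgroup X) : Set X)) : Subgroup X) : Set X) := by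
    intro s hs
    rw [mem_normalizer_iff_cj, cj_sup, cj_inf]
    have e1 : Helper7.cj s (pCore p X) = pCore p X := by
      apply mem_normalizer_iff_cj.mp
      rw [Subgroup.normalizer_eq_top_iff.mpr inferInstance]; exact Subgroup.mem_top _
    have e2 : Helper7.cj s (Subgroup.centralizer ((pCore p X : Subgroup X) : Set X)) =
        Subgroup.centralizer ((pCore p X : Subgroup X) : Set X) := by
      apply mem_normalizer_iff_cj.mp
      rw [Subgroup.normalizer_eq_top_iff.mpr Subgroup.normal_centralizer]; exact Subgroup.mem_top _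
    rw [e1, e2, cj_eq_self_of_mem hs]
  have hH2 : Subgroup.normalizer ((pCore p X ⊔ ((S : Subgroup X) ⊓
        Subgroup.centralizer ((pCore p X : Subgroup X) : Set X)) : Subgroup X) : Set X) ≠ ⊤ := by
    intro htop
    apply hA
    have hn : (pCore p X ⊔ ((S : Subgroup X) ⊓
        Subgroup.centralizer ((pCore p X : Subgroup X) : Set X)) : Subgroup X).Normal :=
      Subgroup.normalizer_eq_top_iff.mp htop
    have hpg : IsPGroup p (pCore p X ⊔ ((S : Subgroup X) ⊓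
        Subgroup.centralizer ((pCore p X : Subgroup X) : Set X)) : Subgroup X) :=
      hSp.to_le (sup_le hQS inf_le_left)
    exact le_sup_right.trans (Cfsg.Agent.Lib.Helper6.le_pCore hn hpg)
  obtain ⟨y1, hy1, h1eq⟩ := ctl_of_overgroup hqf S E hE _ hS2 (IHsub _ hH2) (D : Set X) m hm hDsub hmD
  have hxD : lc c (lc m (D : Set X)) ⊆ ((S : Subgroup X) : Set X) := by
    rw [← lc_mul, ← hxcm, lc_eq_of_mem_normalizer hx]; exact hDsub
  obtain ⟨y2, hy2, h2eq⟩ := ctl_of_overgroup hqf S E hE _ le_sup_left (IHsub _ hG1)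
    (lc m (D : Set X)) c (Subgroup.mem_sup_right hc) hmD hxD
  refine ⟨y2 * y1, Subgroup.mul_mem _ hy2 hy1, ?_⟩
  intro d hd
  have e1 := h1eq d hd
  have e2 := h2eq (m * d * m⁻¹) (mem_lc_of_mem hd)
  calc y2 * y1 * d * (y2 * y1)⁻¹ = y2 * (y1 * d * y1⁻¹) * y2⁻¹ := by group
    _ = y2 * (m * d * m⁻¹) * y2⁻¹ := by rw [e1]
    _ = c * (m * d * m⁻¹) * c⁻¹ := e2
    _ = x * d * x⁻¹ := by rw [hxcm]; group

/-- second reduction: the quotient by `O_p(X)` -/
theorem step_quotient {n : ℕ} (hn : p ∣ n) (hqf : QF p X) (S : Sylow p X) (E : Subgroup X)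
    (hE : ZJ.SClosed E (S : Subgroup X))
    (IHsub : ∀ H : Subgroup X, H ≠ ⊤ → Main p n ↥H)
    (IHquot : Main p n (X ⧸ pCore p X))
    (hG1 : (S : Subgroup X) ⊔ Subgroup.centralizer ((pCore p X : Subgroup X) : Set X) = ⊤)
    (D : Subgroup X) (hD : D ∈ GoldFam S) (x : X) (hx : x ∈ Subgroup.normalizer (D : Set X)) :
    ∃ y ∈ Subgroup.normalizer (ZJ.wsub n E : Set X), ∀ d ∈ D, y * d * y⁻¹ = x * d * x⁻¹ := by
  classical
  have hSp : IsPGroup p (S : Subgroup X) := S.isPGroup'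
  have hDS : D ≤ (S : Subgroup X) := hD.1
  have hDsub : (D : Set X) ⊆ ((S : Subgroup X) : Set X) := by exact_mod_cast hDS
  have hQS : pCore p X ≤ (S : Subgroup X) := Cfsg.Agent.Lib.Helper6.pCore_le_sylow S
  have hQp : IsPGroup p (pCore p X) := Cfsg.Agent.Lib.Helper6.pCore_isPGroup p
  have hQD : pCore p X ≤ D := pCore_le_of_mem_goldFam hD
  have hSW : (S : Subgroup X) ≤ Subgroup.normalizer (ZJ.wsub n E : Set X) :=
    le_trans hE.le_normalizer (ZJ.normalizer_le_normalizer_wsub n E)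
  by_cases hEQ : E ≤ pCore p X
  · -- `E` is normal
    have hEn : Subgroup.normalizer (E : Set X) = ⊤ := by
      rw [eq_top_iff]
      intro g _
      apply Subgroup.mem_normalizer_fintype
      intro e he
      have h1 : g * e * g⁻¹ ∈ pCore p X :=
        (inferInstance : (pCore p X).Normal).conj_mem e (hEQ he) g
      exact hE.2 e he g (hQS h1)
    refine ⟨x, ?_, fun _ _ => rfl⟩
    apply ZJ.normalizer_le_normalizer_wsub n E
    rw [hEn]; exact Subgroup.mem_top x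
  set π := QuotientGroup.mk' (pCore p X) with hπ
  have hπs : Function.Surjective π := QuotientGroup.mk'_surjective _
  set Sb : Sylow p (X ⧸ pCore p X) := S.mapSurjective hπs with hSb
  have hSbc : (Sb : Subgroup (X ⧸ pCore p X)) = (S : Subgroup X).map π := Sylow.coe_mapSurjective _ _
  have hsc : ZJ.SClosed (E.map π) (Sb : Subgroup (X ⧸ pCore p X)) := by
    rw [hSbc]; exact GT.sClosed_map_mk_of_le hE (pCore p X) hQS
  have hxD : ∀ d ∈ D, x * d * x⁻¹ ∈ D := fun d hd => (Subgroup.mem_normalizer_iff.mp hx d).mp hd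
  have hAb : π '' (D : Set X) ⊆ ((Sb : Subgroup (X ⧸ pCore p X)) : Set (X ⧸ pCore p X)) := by
    rintro _ ⟨a, ha, rfl⟩
    rw [SetLike.mem_coe, hSbc]
    exact ⟨a, hDS ha, rfl⟩
  have hgAb : lc (π x) (π '' (D : Set X)) ⊆
      ((Sb : Subgroup (X ⧸ pCore p X)) : Set (X ⧸ pCore p X)) := by
    rintro _ ⟨_, ⟨a, ha, rfl⟩, rfl⟩
    rw [SetLike.mem_coe, hSbc]
    exact ⟨x * a * x⁻¹, hDS (hxD a ha), by rw [map_mul, map_mul, map_inv]⟩
  obtain ⟨cb, hcb, hcbeq⟩ := IHquot (hqf.quotient _) Sb (E.map π) hsc _ _ hAb hgAb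
  obtain ⟨c, rfl⟩ := hπs cb
  -- the subgroup `Kc`
  set Kc : Subgroup X :=
    (Subgroup.normalizer (ZJ.wsub n (E.map π) : Set (X ⧸ pCore p X))).comap π with hKc
  have hcK : c ∈ Kc := Subgroup.mem_comap.mpr hcb
  have hSK : (S : Subgroup X) ≤ Kc := by
    intro s hs
    rw [hKc, Subgroup.mem_comap]
    apply le_trans hsc.le_normalizer (ZJ.normalizer_le_normalizer_wsub n (E.map π))
    rw [hSbc]; exact ⟨s, hs, rfl⟩
  have hKne : Kc ≠ ⊤ := by
    intro htop
    have hnorm : (ZJ.wsub n (E.map π)).Normal := by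
      apply Subgroup.normalizer_eq_top_iff.mp
      rw [eq_top_iff]
      intro yb _
      obtain ⟨y, rfl⟩ := hπs yb
      have : y ∈ Kc := by rw [htop]; exact Subgroup.mem_top y
      exact Subgroup.mem_comap.mp this
    have hEbp : IsPGroup p (E.map π) := (hSp.to_le hE.1).map _
    have hWp : IsPGroup p (ZJ.wsub n (E.map π)) := hEbp.to_le (ZJ.wsub_le n _)
    have hcore : pCore p (X ⧸ pCore p X) = ⊥ := by
      rw [Cfsg.Agent.Lib.Helper6.pCore_quotient_of_isPGroup (pCore p X) hQp]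
      rw [Subgroup.map_eq_bot_iff, QuotientGroup.ker_mk']
    have h1 := Cfsg.Agent.Lib.Helper6.le_pCore hnorm hWp
    rw [hcore, le_bot_iff] at h1
    have hEbne : E.map π ≠ ⊥ := by
      intro hbot
      apply hEQ
      intro e he
      have h2 : π e ∈ E.map π := ⟨e, he, rfl⟩
      rw [hbot, Subgroup.mem_bot] at h2
      exact (QuotientGroup.eq_one_iff e).mp h2
    exact ZJ.wsub_ne_bot n hn (E.map π) hEbp hEbne h1
  -- `c` normalizes `D`
  have hcD : ∀ d ∈ D, c * d * c⁻¹ ∈ D := by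
    intro d hd
    have h1 := hcbeq (π d) ⟨d, hd, rfl⟩
    have h2 : (x * d * x⁻¹)⁻¹ * (c * d * c⁻¹) ∈ pCore p X := by
      rw [← QuotientGroup.eq_one_iff, ← QuotientGroup.mk'_apply]
      simp only [map_mul, map_inv]
      rw [← hπ, h1]; group
    have : c * d * c⁻¹ = (x * d * x⁻¹) * ((x * d * x⁻¹)⁻¹ * (c * d * c⁻¹)) := by group
    rw [this]
    exact D.mul_mem (hxD d hd) (hQD h2)
  have hcN : c ∈ Subgroup.normalizer (D : Set X) := by
    apply Subgroup.mem_normalizer_fintype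
    intro d hd
    exact hcD d hd
  have hcDS : lc c (D : Set X) ⊆ ((S : Subgroup X) : Set X) := by
    rintro _ ⟨d, hd, rfl⟩
    exact hDS (hcD d hd)
  obtain ⟨y1, hy1, h1eq⟩ := ctl_of_overgroup hqf S E hE Kc hSK (IHsub Kc hKne) (D : Set X) c hcK
    hDsub hcDS
  -- the correction `e = x⁻¹ c`
  have heN : x⁻¹ * c ∈ Subgroup.normalizer (D : Set X) :=
    Subgroup.mul_mem _ (Subgroup.inv_mem _ hx) hcN
  have heC : QuotientGroup.mk' (pCore p X) (x⁻¹ * c) ∈ Subgroup.centralizer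
      ((D.map (QuotientGroup.mk' (pCore p X)) : Subgroup (X ⧸ pCore p X)) : Set (X ⧸ pCore p X)) := by
    rw [Subgroup.mem_centralizer_iff]
    rintro _ ⟨d, hd, rfl⟩
    have h1 := hcbeq (π d) ⟨d, hd, rfl⟩
    rw [map_mul, map_inv]
    set xb := QuotientGroup.mk' (pCore p X) x
    set cb' := QuotientGroup.mk' (pCore p X) c
    set db := QuotientGroup.mk' (pCore p X) d
    calc db * (xb⁻¹ * cb') = xb⁻¹ * (xb * db * xb⁻¹) * cb' := by group
      _ = xb⁻¹ * (cb' * db * cb'⁻¹) * cb' := by rw [h1]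
      _ = xb⁻¹ * cb' * db := by group
  obtain ⟨r, hr', hre⟩ := exists_sylow_action S hG1 hD heN heC
  have hrN : r⁻¹ ∈ Subgroup.normalizer (D : Set X) := Subgroup.inv_mem _ hr'.2
  refine ⟨y1 * r⁻¹, Subgroup.mul_mem _ hy1 (Subgroup.inv_mem _ (hSW hr'.1)), ?_⟩
  intro d hd
  have hd' : r⁻¹ * d * r ∈ D := by
    have := (Subgroup.mem_normalizer_iff.mp hrN d).mp hd
    simpa using this
  have h1 := hre (r⁻¹ * d * r) hd'
  have h2 : r * (r⁻¹ * d * r) * r⁻¹ = d := by group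
  rw [h2] at h1
  have h3 : r⁻¹ * d * r = (x⁻¹ * c)⁻¹ * d * (x⁻¹ * c) := by
    calc r⁻¹ * d * r = (x⁻¹ * c)⁻¹ * (x⁻¹ * c * (r⁻¹ * d * r) * (x⁻¹ * c)⁻¹) * (x⁻¹ * c) := by group
      _ = (x⁻¹ * c)⁻¹ * d * (x⁻¹ * c) := by rw [h1]
  have h4 := h1eq (r⁻¹ * d * r) hd'
  calc y1 * r⁻¹ * d * (y1 * r⁻¹)⁻¹ = y1 * (r⁻¹ * d * r) * y1⁻¹ := by group
    _ = c * (r⁻¹ * d * r) * c⁻¹ := h4
    _ = c * ((x⁻¹ * c)⁻¹ * d * (x⁻¹ * c)) * c⁻¹ := by rw [h3]
    _ = x * d * x⁻¹ := by group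

end SCF

end Cfsg.Agent.Lib.Lead
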