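import Mathlib
import Cfsg.Agent.Lib.Lead.SCF2

set_option autoImplicit false

/-! Control of strong fusion by `N(W(E))`, `E` strongly closed, in `Qd(p)`-free groups: the main
induction. -/

namespace Cfsg.Agent.Lib.Lead

namespace SCF

open Cfsg Cfsg.Agent.Lib.Helper4 Cfsg.Agent.Lib.Helper7

universe u

variable {p : ℕ} [Fact p.Prime]

theorem main_aux (hp : p ≠ 2) (n : ℕ) (hn : p ∣ n) :
    ∀ k : ℕ, ∀ (X : Type u) [Group X] [Finite X], Nat.card X = k → Main p n X := by
  intro k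
  induction k using Nat.strong_induction_on with
  | _ k ih =>
  intro X _ _ hk hqf S E hE
  have IHsub : ∀ H : Subgroup X, H ≠ ⊤ → Main p n ↥H := by
    intro H hH
    exact ih (Nat.card ↥H) (by rw [← hk]; exact card_subgroup_lt_of_ne_top hH) ↥H rfl
  have IHquot : ∀ (N : Subgroup X) [N.Normal], N ≠ ⊥ → Main p n (X ⧸ N) := by
    intro N _ hN
    exact ih (Nat.card (X ⧸ N)) (by rw [← hk]; exact card_quotient_lt_of_ne_bot hN) (X ⧸ N) rfl
  have hSp : IsPGroup p (S : Subgroup X) := S.isPGroup'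
  have hSW : (S : Subgroup X) ≤ Subgroup.normalizer (ZJ.wsub n E : Set X) :=
    le_trans hE.le_normalizer (ZJ.normalizer_le_normalizer_wsub n E)
  by_cases hE1 : E = ⊥
  · intro A g _ _
    refine ⟨g, ?_, fun _ _ => rfl⟩
    have : ZJ.wsub n E = ⊥ := by
      rw [eq_bot_iff, ← hE1]; exact ZJ.wsub_le n E
    rw [this]
    apply Subgroup.mem_normalizer_fintype
    intro y hy
    rw [SetLike.mem_coe, Subgroup.mem_bot] at hy
    rw [hy]; simp
  have hS1 : (S : Subgroup X) ≠ ⊥ := by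
    intro h
    apply hE1
    rw [eq_bot_iff, ← h]; exact hE.1
  -- the normalizer of `Z(J(S))`
  have hctl0 := ctl_zj_of_qf hp hqf S
  rw [ZJ.centerThompsonAOf_eq] at hctl0
  by_cases hH0 : Subgroup.normalizer (ZJ.wsub 0 (S : Subgroup X) : Set X) = ⊤
  swap
  · intro A g hA hgA
    obtain ⟨c, hc, hceq⟩ := hctl0 A g hA hgA
    have hSH0 : (S : Subgroup X) ≤ Subgroup.normalizer (ZJ.wsub 0 (S : Subgroup X) : Set X) :=
      le_trans Subgroup.le_normalizer (ZJ.normalizer_le_normalizer_wsub 0 (S : Subgroup X))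
    have hlc : lc c A = lc g A := lc_congr hceq
    obtain ⟨x, hx, hxeq⟩ := ctl_of_overgroup hqf S E hE _ hSH0 (IHsub _ hH0) A c hc hA
      (by rw [hlc]; exact hgA)
    exact ⟨x, hx, fun a ha => (hxeq a ha).trans (hceq a ha)⟩
  -- now `O_p(X) ≠ 1`
  have hQne : pCore p X ≠ ⊥ := by
    have hn0 : (ZJ.wsub 0 (S : Subgroup X)).Normal := Subgroup.normalizer_eq_top_iff.mp hH0
    have hWp : IsPGroup p (ZJ.wsub 0 (S : Subgroup X)) := hSp.to_le (ZJ.wsub_le 0 _)
    have h1 := Cfsg.Agent.Lib.Helper6.le_pCore hn0 hWp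
    intro hbot
    rw [hbot, le_bot_iff] at h1
    exact ZJ.wsub_ne_bot 0 (dvd_zero p) (S : Subgroup X) hSp hS1 h1
  by_cases hA : (S : Subgroup X) ⊓ Subgroup.centralizer ((pCore p X : Subgroup X) : Set X) ≤
      pCore p X
  · exact ctl_of_constrained hp n hqf S E hE hA
  -- reduction to the Alperin–Goldschmidt family
  have hstep : ∀ D ∈ GoldFam S, ∀ x ∈ Subgroup.normalizer (D : Set X),
      ∃ y ∈ Subgroup.normalizer (ZJ.wsub n E : Set X), ∀ d ∈ D, y * d * y⁻¹ = x * d * x⁻¹ := by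
    intro D hD x hx
    by_cases hG1 : (S : Subgroup X) ⊔ Subgroup.centralizer ((pCore p X : Subgroup X) : Set X) = ⊤
    · exact step_quotient hn hqf S E hE IHsub (IHquot _ hQne) hG1 D hD x hx
    · exact step_two_overgroups hqf S E hE IHsub hA hG1 D hD x hx
  intro A g hAS hgA
  have hreach := reach_of_goldFam
    (𝓥 := ({fun _ => ZJ.wsub n E} : Set (Subgroup X → Subgroup X))) S (by
      intro D hD x hx
      obtain ⟨y, hy, hyeq⟩ := hstep D hD x hx
      have hDsub : (D : Set X) ⊆ ((S : Subgroup X) : Set X) := by exact_mod_cast hD.1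
      have hlc : lc y (D : Set X) = lc x (D : Set X) := lc_congr hyeq
      have r1 : Reach ({fun _ => ZJ.wsub n E} : Set (Subgroup X → Subgroup X)) ⊤ (S : Subgroup X)
          (D : Set X) y := by
        apply Reach.single hDsub
        · exact ⟨fun _ => ZJ.wsub n E, rfl, ⟨Subgroup.mem_top _, hy⟩⟩
        · rw [hlc, lc_eq_of_mem_normalizer hx]; exact hDsub
      exact r1.congr hyeq) A g hAS hgA
  obtain ⟨c, hc, hceq⟩ := hreach
  refine ⟨c, ?_, hceq⟩
  apply Cfsg.Agent.S1969.fchain_mem hc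
  intro W' hW'
  rw [Set.mem_singleton_iff.mp hW']

/-- **Main theorem.** In a `Qd(p)`-free group, `p` odd, with Sylow `p`-subgroup `S` and `E` strongly
closed in `S`, the normalizer of `W(E)` controls strong fusion in `S`. -/
theorem main (hp : p ≠ 2) (n : ℕ) (hn : p ∣ n) (X : Type u) [Group X] [Finite X] : Main p n X :=
  main_aux hp n hn _ X rfl

end SCF

end Cfsg.Agent.Lib.Lead
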