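import Mathlib
import Cfsg.Prelude.Def_FusionComponents
import Cfsg.Agent.S3081
import Cfsg.Agent.Lib.Lead.ZJFun

set_option autoImplicit false

/-! The fusion system of a `Qd(p)`-free group is solvable: group-level preliminaries. -/

namespace Cfsg.Agent.Lib.Lead

namespace FSolv

open Cfsg Cfsg.FusionSystem

variable {G : Type*} [Group G]

/-- an element conjugating the finite subgroup `R` into itself normalizes it -/
theorem mem_normalizer_of_conj_mem [Finite G] (R : Subgroup G) (g : G)
    (h : ∀ r ∈ R, g * r * g⁻¹ ∈ R) : g ∈ Subgroup.normalizer (R : Set G) := by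
  apply Subgroup.mem_normalizer_fintype
  intro y hy
  exact h y hy

/-- a subgroup strongly closed in the fusion system of a group is normalized by every element
conjugating it into `S` -/
theorem conj_mem_of_stronglyClosed (S R : Subgroup G)
    (hsc : (groupFusionSystem S).StronglyClosed R) (g : G) (h : ∀ r ∈ R, g * r * g⁻¹ ∈ S) :
    ∀ r ∈ R, g * r * g⁻¹ ∈ R := by
  intro r hr
  have hmem : Cfsg.conjHom R g ∈ (groupFusionSystem S).Hom R := by
    refine ⟨hsc.1, fun x => h x x.2, g, fun x => rfl⟩
  exact hsc.2 R le_rfl (Cfsg.conjHom R g) hmem ⟨r, hr⟩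

section main

variable [Finite G] {p : ℕ} [Fact p.Prime]

/-- the comparison map `S/R → N_G(R)/R` -/
noncomputable def iota (S R : Subgroup G) [(R.subgroupOf S).Normal]
    (hSK : S ≤ Subgroup.normalizer (R : Set G)) :
    ↥S ⧸ R.subgroupOf S →* ↥(Subgroup.normalizer (R : Set G)) ⧸
      R.subgroupOf (Subgroup.normalizer (R : Set G)) :=
  QuotientGroup.map (R.subgroupOf S) (R.subgroupOf (Subgroup.normalizer (R : Set G)))
    (Subgroup.inclusion hSK) (by
      intro x hx
      rw [Subgroup.mem_comap, Subgroup.mem_subgroupOf]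
      exact Subgroup.mem_subgroupOf.mp hx)

theorem iota_mk (S R : Subgroup G) [(R.subgroupOf S).Normal]
    (hSK : S ≤ Subgroup.normalizer (R : Set G)) (s : S) :
    iota S R hSK (QuotientGroup.mk' (R.subgroupOf S) s) =
      QuotientGroup.mk' (R.subgroupOf (Subgroup.normalizer (R : Set G)))
        (Subgroup.inclusion hSK s) := rfl

theorem iota_injective (S R : Subgroup G) [(R.subgroupOf S).Normal]
    (hSK : S ≤ Subgroup.normalizer (R : Set G)) : Function.Injective (iota S R hSK) := by
  rw [injective_iff_map_eq_one]
  intro y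
  induction y using QuotientGroup.induction_on with
  | H s =>
    intro h
    have h' := iota_mk S R hSK s
    rw [QuotientGroup.mk'_apply] at h'
    rw [h'] at h
    rw [QuotientGroup.mk'_apply, QuotientGroup.eq_one_iff, Subgroup.mem_subgroupOf] at h
    rw [QuotientGroup.eq_one_iff, Subgroup.mem_subgroupOf]
    exact h

end main

end FSolv

end Cfsg.Agent.Lib.Lead
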