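import Mathlib
import Cfsg.Agent.Lib.Lead.FSolv1

set_option autoImplicit false

/-! The fusion system of a `Qd(p)`-free group is solvable: the factor systems have a nontrivial
normal subgroup. -/

namespace Cfsg.Agent.Lib.Lead

namespace FSolv

open Cfsg Cfsg.FusionSystem

variable {G : Type*} [Group G] [Finite G] {p : ℕ} [Fact p.Prime]

theorem core_ne_bot (hp : p ≠ 2) (hqd : ¬ Cfsg.Involves ↥(Cfsg.qd p) G) (P : Sylow p G)
    (R : Subgroup G) (hsc : (groupFusionSystem (P : Subgroup G)).StronglyClosed R)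
    (hne : R ≠ (P : Subgroup G)) [hn : (R.subgroupOf (P : Subgroup G)).Normal]
    (E : FusionSystem (⊤ : Subgroup (↥(P : Subgroup G) ⧸ R.subgroupOf (P : Subgroup G))))
    (hE : (groupFusionSystem (P : Subgroup G)).IsFactorSystem R
      (QuotientGroup.mk' (R.subgroupOf (P : Subgroup G))) E) : E.core ≠ ⊥ := by
  classical
  have hRS : R ≤ (P : Subgroup G) := hsc.1
  have hSK : (P : Subgroup G) ≤ Subgroup.normalizer (R : Set G) := by
    intro s hs
    apply mem_normalizer_of_conj_mem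
    intro r hr
    have h1 := hn.conj_mem ⟨r, hRS hr⟩ (Subgroup.mem_subgroupOf.mpr hr) ⟨s, hs⟩
    exact Subgroup.mem_subgroupOf.mp h1
  -- the section `H = N_G(R)/R`
  set K : Subgroup G := Subgroup.normalizer (R : Set G) with hK
  haveI hRK : (R.subgroupOf K).Normal := Subgroup.normal_in_normalizer
  set π : ↥K →* ↥K ⧸ R.subgroupOf K := QuotientGroup.mk' (R.subgroupOf K) with hπ
  set θ : ↥(P : Subgroup G) →* ↥(P : Subgroup G) ⧸ R.subgroupOf (P : Subgroup G) :=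
    QuotientGroup.mk' (R.subgroupOf (P : Subgroup G)) with hθ
  have hπs : Function.Surjective π := QuotientGroup.mk'_surjective _
  set T : Sylow p (↥K ⧸ R.subgroupOf K) := (P.subtype hSK).mapSurjective hπs with hT
  have hTc : (T : Subgroup (↥K ⧸ R.subgroupOf K)) = ((P : Subgroup G).subgroupOf K).map π := by
    rw [hT, Sylow.coe_mapSurjective, Sylow.coe_subtype]
  have hqdH : ¬ Cfsg.Involves ↥(Cfsg.qd p) (↥K ⧸ R.subgroupOf K) := by
    intro hinv
    apply hqd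
    apply Cfsg.Agent.Lib.Helper9.involves_of_isSectionOf
    have h1 : Cfsg.Agent.Lib.Helper9.IsSectionOf ↥(Cfsg.qd p) (↥K ⧸ R.subgroupOf K) :=
      Cfsg.Agent.Lib.Helper9.isSectionOf_of_involves hinv
    have h2 : Cfsg.Agent.Lib.Helper9.IsSectionOf (↥K ⧸ R.subgroupOf K) G :=
      ⟨K, QuotientGroup.mk' _, QuotientGroup.mk'_surjective _⟩
    exact h1.trans h2
  have hctl := (Cfsg.Agent.S3081.result hp T (T : Subgroup (↥K ⧸ R.subgroupOf K))
    ⟨le_rfl, fun x hx g hg => hg⟩ hqdH).1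
  set Z : Subgroup (↥K ⧸ R.subgroupOf K) :=
    Cfsg.centerThompsonAOf (T : Subgroup (↥K ⧸ R.subgroupOf K)) with hZ
  have hZT : Z ≤ (T : Subgroup (↥K ⧸ R.subgroupOf K)) := by
    rw [hZ]
    unfold Cfsg.centerThompsonAOf Cfsg.thompsonSubgroupAOf
    exact le_trans inf_le_left (Subgroup.map_subtype_le _)
  -- membership in `T`
  have hmemT : ∀ k : ↥K, π k ∈ (T : Subgroup (↥K ⧸ R.subgroupOf K)) → (k : G) ∈ (P : Subgroup G) := by
    intro k hk
    rw [hTc, Subgroup.mem_map] at hk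
    obtain ⟨s', hs', hsk⟩ := hk
    rw [hπ, QuotientGroup.mk'_apply, QuotientGroup.mk'_apply, QuotientGroup.eq,
      Subgroup.mem_subgroupOf] at hsk
    have h1 : (k : G) = (s' : G) * ((s'⁻¹ * k : ↥K) : G) := by
      simp
    rw [h1]
    exact (P : Subgroup G).mul_mem (Subgroup.mem_subgroupOf.mp hs') (hRS hsk)
  set ι := iota (P : Subgroup G) R hSK with hι
  have hιinj : Function.Injective ι := iota_injective _ R hSK
  have hιθ : ∀ s : ↥(P : Subgroup G), ι (θ s) = π (Subgroup.inclusion hSK s) := fun s => rfl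
  have hθs : Function.Surjective θ := QuotientGroup.mk'_surjective _
  have hιT : ∀ y, ι y ∈ (T : Subgroup (↥K ⧸ R.subgroupOf K)) := by
    intro y
    obtain ⟨s, rfl⟩ := hθs y
    rw [hιθ, hTc]
    exact Subgroup.mem_map_of_mem _ (Subgroup.mem_subgroupOf.mpr s.2)
  have hTι : ∀ t ∈ (T : Subgroup (↥K ⧸ R.subgroupOf K)), ∃ y, ι y = t := by
    intro t ht
    rw [hTc, Subgroup.mem_map] at ht
    obtain ⟨s', hs', rfl⟩ := ht
    exact ⟨θ ⟨(s' : G), Subgroup.mem_subgroupOf.mp hs'⟩, rfl⟩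
  set Q' : Subgroup (↥(P : Subgroup G) ⧸ R.subgroupOf (P : Subgroup G)) := Z.comap ι with hQ'
  have hQ'ne : Q' ≠ ⊥ := by
    -- `T` is nontrivial
    obtain ⟨s, hsP, hsR⟩ := SetLike.exists_of_lt (lt_of_le_of_ne hRS hne)
    have hTnt : Nontrivial ↥(T : Subgroup (↥K ⧸ R.subgroupOf K)) := by
      refine ⟨⟨π ⟨s, hSK hsP⟩, ?_⟩, 1, ?_⟩
      · rw [hTc]
        exact Subgroup.mem_map_of_mem _ (Subgroup.mem_subgroupOf.mpr hsP)
      · intro h
        have h2 := congrArg Subtype.val h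
        simp only [OneMemClass.coe_one] at h2
        rw [hπ, QuotientGroup.mk'_apply, QuotientGroup.eq_one_iff, Subgroup.mem_subgroupOf] at h2
        exact hsR h2
    have hZne : Z ≠ ⊥ := by
      rw [hZ, ← ZJFun.inducedFunctor_WZJ]
      unfold Cfsg.inducedFunctor
      intro h
      rw [Subgroup.map_eq_bot_iff_of_injective _ (Subgroup.subtype_injective _)] at h
      exact ZJFun.WZJ_ne_bot T.isPGroup' h
    obtain ⟨⟨z, hz⟩, hz1'⟩ := (Subgroup.ne_bot_iff_exists_ne_one).mp hZne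
    have hz1 : z ≠ 1 := fun h => hz1' (Subtype.ext h)
    obtain ⟨y, rfl⟩ := hTι z (hZT hz)
    intro hbot
    have hy : y ∈ Q' := by rw [hQ']; exact hz
    rw [hbot, Subgroup.mem_bot] at hy
    rw [hy, map_one] at hz1
    exact hz1 rfl
  have hnormal : E.IsNormal Q' := by
    refine ⟨le_top, ?_⟩
    intro P' φ' hφ'
    obtain ⟨hE1, hE2, hE3, hE4⟩ := hE
    obtain ⟨-, φ, hφ, hind⟩ := (hE4 P' φ').mp hφ'
    obtain ⟨hXS, hφS, g, hg⟩ := hφ
    obtain ⟨hX, hφX, hP'X, heq⟩ := hind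
    have hXmem : ∀ s : ↥(P : Subgroup G), θ s ∈ P' → (s : G) ∈ preimageAlong θ P' := by
      intro s hs
      exact ⟨s, hs, rfl⟩
    have hRX : ∀ r ∈ R, r ∈ preimageAlong θ P' := by
      intro r hr
      have h1 : θ ⟨r, hRS hr⟩ = 1 := (hE2 _).mpr hr
      exact hXmem ⟨r, hRS hr⟩ (by rw [h1]; exact P'.one_mem)
    -- `g` normalizes `R`
    have hgK : g ∈ K := by
      apply mem_normalizer_of_conj_mem
      apply conj_mem_of_stronglyClosed _ R hsc g
      intro r hr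
      have h1 := hφS ⟨r, hRX r hr⟩
      rw [hg] at h1
      exact h1
    have hgs : ∀ s : ↥(P : Subgroup G), θ s ∈ P' → g * (s : G) * g⁻¹ ∈ (P : Subgroup G) := by
      intro s hs
      have h1 := hφS ⟨s, hXmem s hs⟩
      rw [hg] at h1
      exact h1
    set A : Set (↥K ⧸ R.subgroupOf K) := ι '' (P' : Set _) with hAdef
    have hA : A ⊆ (T : Subgroup (↥K ⧸ R.subgroupOf K)) := by
      rintro _ ⟨y, -, rfl⟩
      exact hιT y
    have hconj : ∀ (k : ↥K) (s : ↥(P : Subgroup G)) (h : (k : G) * s * (k : G)⁻¹ ∈ (P : Subgroup G)),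
        π k * ι (θ s) * (π k)⁻¹ = ι (θ ⟨(k : G) * s * (k : G)⁻¹, h⟩) := by
      intro k s h
      rw [hιθ, hιθ, ← map_inv, ← map_mul, ← map_mul]
      congr 1
    have hgA : (fun a => π ⟨g, hgK⟩ * a * (π ⟨g, hgK⟩)⁻¹) '' A ⊆
        (T : Subgroup (↥K ⧸ R.subgroupOf K)) := by
      rintro _ ⟨_, ⟨y, hy, rfl⟩, rfl⟩
      obtain ⟨s, rfl⟩ := hθs y
      show π ⟨g, hgK⟩ * ι (θ s) * (π ⟨g, hgK⟩)⁻¹ ∈ _
      rw [hconj ⟨g, hgK⟩ s (hgs s hy)]
      exact hιT _
    obtain ⟨xb, hxbN, hxbeq⟩ := (hctl A hA).2 (π ⟨g, hgK⟩) hgA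
    obtain ⟨n, rfl⟩ := hπs xb
    have hnZ : ∀ z, z ∈ Z ↔ π n * z * (π n)⁻¹ ∈ Z := fun z =>
      Subgroup.mem_normalizer_iff.mp hxbN z
    have hsub : P' ⊔ Q' ≤
        (((T : Subgroup (↥K ⧸ R.subgroupOf K)).comap (MulAut.conj (π n)).toMonoidHom).comap ι) := by
      apply sup_le
      · intro y hy
        rw [Subgroup.mem_comap, Subgroup.mem_comap]
        show π n * ι y * (π n)⁻¹ ∈ _
        rw [← hxbeq (ι y) ⟨y, hy, rfl⟩]
        exact hgA ⟨ι y, ⟨y, hy, rfl⟩, rfl⟩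
      · intro y hy
        rw [Subgroup.mem_comap, Subgroup.mem_comap]
        show π n * ι y * (π n)⁻¹ ∈ _
        exact hZT ((hnZ (ι y)).mp hy)
    have hnS : ∀ s : ↥(P : Subgroup G), θ s ∈ P' ⊔ Q' →
        (n : G) * (s : G) * (n : G)⁻¹ ∈ (P : Subgroup G) := by
      intro s hs
      have h1 := hsub hs
      rw [Subgroup.mem_comap, Subgroup.mem_comap] at h1
      have h2 : π n * ι (θ s) * (π n)⁻¹ = π (n * Subgroup.inclusion hSK s * n⁻¹) := by
        rw [hιθ, map_mul, map_mul, map_inv]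
      have h3 : π (n * Subgroup.inclusion hSK s * n⁻¹) ∈ (T : Subgroup (↥K ⧸ R.subgroupOf K)) := by
        rw [← h2]; exact h1
      exact hmemT _ h3
    -- the lift of the conjugation by `n`
    have hX₂S : preimageAlong θ (P' ⊔ Q') ≤ (P : Subgroup G) := Subgroup.map_subtype_le _
    have hX₂θ : ∀ x : ↥(preimageAlong θ (P' ⊔ Q')), θ ⟨x, hX₂S x.2⟩ ∈ P' ⊔ Q' := by
      intro x
      obtain ⟨s, hs, hsx⟩ := x.2
      have h1 : (⟨(x : G), hX₂S x.2⟩ : ↥(P : Subgroup G)) = s := Subtype.ext hsx.symm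
      rw [h1]
      exact hs
    have hφ₂ : Cfsg.conjHom (preimageAlong θ (P' ⊔ Q')) (n : G) ∈
        (groupFusionSystem (P : Subgroup G)).Hom (preimageAlong θ (P' ⊔ Q')) :=
      ⟨hX₂S, fun x => hnS ⟨x, hX₂S x.2⟩ (hX₂θ x), (n : G), fun x => rfl⟩
    -- the induced map on `P' ⊔ Q'`
    set f : ↥((P' ⊔ Q').comap θ) →* ↥(P' ⊔ Q') := θ.subgroupComap (P' ⊔ Q') with hf
    have hfs : Function.Surjective f := MonoidHom.subgroupComap_surjective_of_surjective θ _ hθs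
    set cn : ↥((P' ⊔ Q').comap θ) →* ↥(P : Subgroup G) :=
      MonoidHom.codRestrict ((MulAut.conj (n : G)).toMonoidHom.comp
        ((P : Subgroup G).subtype.comp ((P' ⊔ Q').comap θ).subtype)) (P : Subgroup G)
        (fun s => hnS s.1 s.2) with hcn
    have hker : f.ker ≤ (θ.comp cn).ker := by
      intro s hs
      rw [MonoidHom.mem_ker] at hs ⊢
      have h1 : θ s.1 = 1 := congrArg Subtype.val hs
      have h2 : ((s.1 : ↥(P : Subgroup G)) : G) ∈ R := (hE2 _).mp h1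
      have h3 : (n : G) * ((s.1 : ↥(P : Subgroup G)) : G) * (n : G)⁻¹ ∈ R :=
        (Subgroup.mem_normalizer_iff.mp n.2 _).mp h2
      exact (hE2 _).mpr h3
    set ψ : ↥(P' ⊔ Q') →* ↥(P : Subgroup G) ⧸ R.subgroupOf (P : Subgroup G) :=
      f.liftOfSurjective hfs ⟨θ.comp cn, hker⟩ with hψdef
    have hψ : ∀ s : ↥((P' ⊔ Q').comap θ), ψ (f s) = θ (cn s) := fun s =>
      MonoidHom.liftOfRightInverse_comp_apply _ _ _ ⟨θ.comp cn, hker⟩ s
    have hψ' : ∀ (s : ↥(P : Subgroup G)) (hs : θ s ∈ P' ⊔ Q'),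
        ψ ⟨θ s, hs⟩ = θ ⟨(n : G) * (s : G) * (n : G)⁻¹, hnS s hs⟩ := fun s hs =>
      hψ ⟨s, hs⟩
    have hψE : ψ ∈ E.Hom (P' ⊔ Q') := by
      refine (hE4 (P' ⊔ Q') ψ).mpr ⟨le_top, _, hφ₂, hX₂S,
        fun x => hnS ⟨x, hX₂S x.2⟩ (hX₂θ x), hX₂θ, fun x => ?_⟩
      exact hψ' ⟨x, hX₂S x.2⟩ (hX₂θ x)
    refine ⟨ψ, hψE, ?_, ?_⟩
    · intro y
      obtain ⟨s, hs⟩ := hθs y.1
      have hsP' : θ s ∈ P' := by rw [hs]; exact y.2
      have hy : y = ⟨θ s, hsP'⟩ := Subtype.ext hs.symm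
      rw [hy]
      have h1 : ψ (Subgroup.inclusion le_sup_left ⟨θ s, hsP'⟩) =
          θ ⟨(n : G) * (s : G) * (n : G)⁻¹, hnS s (le_sup_left (a := P') hsP')⟩ := hψ' s _
      rw [h1]
      have h2 := heq ⟨(s : G), hXmem s hsP'⟩
      have h3 : φ' ⟨θ s, hsP'⟩ = θ ⟨g * (s : G) * g⁻¹, hgs s hsP'⟩ := by
        refine Eq.trans h2 ?_
        congr 1
        apply Subtype.ext
        exact hg _
      rw [h3]
      apply hιinj
      rw [← hconj n s, ← hconj ⟨g, hgK⟩ s]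
      exact (hxbeq (ι (θ s)) ⟨θ s, hsP', rfl⟩).symm
    · have hle : (Q'.subgroupOf (P' ⊔ Q')).map ψ ≤ Q' := by
        rintro _ ⟨q, hq, rfl⟩
        obtain ⟨s, hs⟩ := hθs q.1
        have hsq : θ s ∈ P' ⊔ Q' := by rw [hs]; exact q.2
        have hq' : q = ⟨θ s, hsq⟩ := Subtype.ext hs.symm
        rw [hq'] at hq ⊢
        rw [hψ' s hsq, hQ', Subgroup.mem_comap, ← hconj n s]
        have h1 : ι (θ s) ∈ Z := Subgroup.mem_subgroupOf.mp hq
        exact (hnZ _).mp h1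
      apply Subgroup.eq_of_le_of_card_ge hle
      rw [Subgroup.card_map_of_injective (E.injective_of_mem hψE)]
      exact le_of_eq (Nat.card_congr (Subgroup.subgroupOfEquivOfLe le_sup_right).toEquiv).symm
  intro hcore
  have hle : Q' ≤ E.core := le_sSup hnormal
  rw [hcore, le_bot_iff] at hle
  exact hQ'ne hle

end FSolv

end Cfsg.Agent.Lib.Lead
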