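import Mathlib

set_option autoImplicit false
set_option linter.unusedSectionVars false

/-!
# Fixed points of products of conjugates in symmetric groups: local moves
-/

namespace Cfsg.Agent.Lib.Lead.FixProd

variable {n : ℕ}

/-- number of points where `c` and `α` agree -/
def agr (c α : Equiv.Perm (Fin n)) : ℕ := (Finset.univ.filter (fun ξ => c ξ = α ξ)).card

theorem card_fixedPoints (σ : Equiv.Perm (Fin n)) :
    Nat.card (Function.fixedPoints ⇑σ) = (Finset.univ.filter (fun ξ => σ ξ = ξ)).card := by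
  classical
  rw [Nat.card_eq_fintype_card, Fintype.card_subtype]
  congr 1

theorem card_fixedPoints_mul (a c : Equiv.Perm (Fin n)) :
    Nat.card (Function.fixedPoints ⇑(a * c)) = agr c a⁻¹ := by
  rw [card_fixedPoints]
  unfold agr
  refine congrArg Finset.card (Finset.filter_congr ?_)
  intro ξ _
  rw [Equiv.Perm.mul_apply, Equiv.Perm.eq_inv_iff_eq]

/-- the `3`-cycle `x → y → w → x` -/
def cyc3 (x y w : Fin n) : Equiv.Perm (Fin n) := Equiv.swap x y * Equiv.swap y w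

section cyc

variable {x y w : Fin n} (hxy : x ≠ y) (hwx : w ≠ x) (hwy : w ≠ y)

include hxy hwx hwy

theorem cyc3_x : cyc3 x y w x = y := by
  unfold cyc3
  rw [Equiv.Perm.mul_apply, Equiv.swap_apply_of_ne_of_ne hxy hwx.symm, Equiv.swap_apply_left]

theorem cyc3_y : cyc3 x y w y = w := by
  unfold cyc3
  rw [Equiv.Perm.mul_apply, Equiv.swap_apply_left, Equiv.swap_apply_of_ne_of_ne hwx hwy]

theorem cyc3_w : cyc3 x y w w = x := by
  unfold cyc3
  rw [Equiv.Perm.mul_apply, Equiv.swap_apply_right, Equiv.swap_apply_right]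

omit hxy hwx hwy in
theorem cyc3_of_ne {ξ : Fin n} (h1 : ξ ≠ x) (h2 : ξ ≠ y) (h3 : ξ ≠ w) : cyc3 x y w ξ = ξ := by
  unfold cyc3
  rw [Equiv.Perm.mul_apply, Equiv.swap_apply_of_ne_of_ne h2 h3, Equiv.swap_apply_of_ne_of_ne h1 h2]

theorem cyc3_inv_x : (cyc3 x y w)⁻¹ x = w := by
  rw [Equiv.Perm.inv_eq_iff_eq]; exact (cyc3_w hxy hwx hwy).symm

theorem cyc3_inv_y : (cyc3 x y w)⁻¹ y = x := by
  rw [Equiv.Perm.inv_eq_iff_eq]; exact (cyc3_x hxy hwx hwy).symm

theorem cyc3_inv_w : (cyc3 x y w)⁻¹ w = y := by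
  rw [Equiv.Perm.inv_eq_iff_eq]; exact (cyc3_y hxy hwx hwy).symm

omit hxy hwx hwy in
theorem cyc3_inv_of_ne {ξ : Fin n} (h1 : ξ ≠ x) (h2 : ξ ≠ y) (h3 : ξ ≠ w) :
    (cyc3 x y w)⁻¹ ξ = ξ := by
  rw [Equiv.Perm.inv_eq_iff_eq]; exact (cyc3_of_ne h1 h2 h3).symm

omit hwx in
theorem sign_cyc3 : Equiv.Perm.sign (cyc3 x y w) = 1 := by
  unfold cyc3
  rw [map_mul, Equiv.Perm.sign_swap hxy, Equiv.Perm.sign_swap hwy.symm]
  decide

end cyc

/-- the unified local move -/
theorem move (α c : Equiv.Perm (Fin n)) (x y w : Fin n)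
    (hxy : x ≠ y) (hwx : w ≠ x) (hwy : w ≠ y)
    (hcx : c x = y) (hαx : α x = y)
    (hw : c w ≠ x)
    (hy1 : α y = w → c y = w)
    (hy2a : c y = w → α w ≠ x)
    (hy2b : c y ≠ w → c y ≠ x → α w ≠ c y)
    (hq : ∀ ξ, ξ ≠ x → ξ ≠ y → ξ ≠ w → c ξ = w → α ξ ≠ x) :
    agr (cyc3 x y w * c * (cyc3 x y w)⁻¹) α < agr c α := by
  unfold agr
  set t := cyc3 x y w with ht
  have hsub : (Finset.univ.filter (fun ξ => (t * c * t⁻¹) ξ = α ξ)) ⊆
      (Finset.univ.filter (fun ξ => c ξ = α ξ)).erase x := by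
    intro ξ hξ
    rw [Finset.mem_filter] at hξ
    have hξ' : t (c (t⁻¹ ξ)) = α ξ := by
      have := hξ.2
      simpa [Equiv.Perm.mul_apply] using this
    rw [Finset.mem_erase, Finset.mem_filter]
    by_cases h1 : ξ = x
    · exfalso
      subst h1
      rw [ht, cyc3_inv_x hxy hwx hwy, hαx] at hξ'
      have : cyc3 ξ y w (c w) = cyc3 ξ y w ξ := by rw [hξ', cyc3_x hxy hwx hwy]
      exact hw ((cyc3 ξ y w).injective this)
    by_cases h2 : ξ = y
    · subst h2
      rw [ht, cyc3_inv_y hxy hwx hwy, hcx, cyc3_y hxy hwx hwy] at hξ'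
      refine ⟨h1, Finset.mem_univ _, ?_⟩
      rw [hy1 hξ'.symm, hξ']
    by_cases h3 : ξ = w
    · exfalso
      subst h3
      rw [ht, cyc3_inv_w hxy hwx hwy] at hξ'
      by_cases hc1 : c y = ξ
      · rw [hc1, cyc3_w hxy hwx hwy] at hξ'
        exact hy2a hc1 hξ'.symm
      by_cases hc2 : c y = x
      · rw [hc2, cyc3_x hxy hwx hwy] at hξ'
        have : α x = α ξ := by rw [hαx, hξ']
        exact hwx (α.injective this).symm
      have hc3 : c y ≠ y := by
        intro h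
        have : c y = c x := by rw [h, hcx]
        exact hxy (c.injective this).symm
      rw [cyc3_of_ne hc2 hc3 hc1] at hξ'
      exact hy2b hc1 hc2 hξ'.symm
    · rw [ht, cyc3_inv_of_ne h1 h2 h3] at hξ'
      refine ⟨h1, Finset.mem_univ _, ?_⟩
      by_cases hc1 : c ξ = x
      · exfalso
        rw [hc1, cyc3_x hxy hwx hwy] at hξ'
        have : α x = α ξ := by rw [hαx, hξ']
        exact h1 (α.injective this).symm
      by_cases hc2 : c ξ = y
      · exfalso
        have : c ξ = c x := by rw [hc2, hcx]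
        exact h1 (c.injective this)
      by_cases hc3 : c ξ = w
      · exfalso
        rw [hc3, cyc3_w hxy hwx hwy] at hξ'
        exact hq ξ h1 h2 h3 hc3 hξ'.symm
      · rw [cyc3_of_ne hc1 hc2 hc3] at hξ'
        exact hξ'
  have hx : x ∈ Finset.univ.filter (fun ξ => c ξ = α ξ) := by
    rw [Finset.mem_filter]
    exact ⟨Finset.mem_univ _, by rw [hcx, hαx]⟩
  calc (Finset.univ.filter (fun ξ => (t * c * t⁻¹) ξ = α ξ)).card
      ≤ ((Finset.univ.filter (fun ξ => c ξ = α ξ)).erase x).card := Finset.card_le_card hsub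
    _ < (Finset.univ.filter (fun ξ => c ξ = α ξ)).card := Finset.card_erase_lt_of_mem hx

end Cfsg.Agent.Lib.Lead.FixProd
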