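import Cfsg.Agent.Lib.Lead.FixProd1

set_option autoImplicit false

/-!
# Fixed points of products of conjugates in symmetric groups: assembly
-/

namespace Cfsg.Agent.Lib.Lead.FixProd

variable {n : ℕ}

/-- the conclusion of the statement -/
def Good (a b : Equiv.Perm (Fin n)) : Prop :=
  ∃ g₁ h₁ g₂ h₂ : Equiv.Perm (Fin n), g₁ ∈ alternatingGroup (Fin n) ∧
    h₁ ∈ alternatingGroup (Fin n) ∧ g₂ ∈ alternatingGroup (Fin n) ∧
    h₂ ∈ alternatingGroup (Fin n) ∧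
      Nat.card (Function.fixedPoints ⇑(g₁ * a * g₁⁻¹ * (h₁ * b * h₁⁻¹))) ≠
        Nat.card (Function.fixedPoints ⇑(g₂ * a * g₂⁻¹ * (h₂ * b * h₂⁻¹)))

theorem card_fixedPoints_mul_comm (x y : Equiv.Perm (Fin n)) :
    Nat.card (Function.fixedPoints ⇑(x * y)) = Nat.card (Function.fixedPoints ⇑(y * x)) := by
  rw [card_fixedPoints, card_fixedPoints]
  refine Finset.card_bij (fun ξ _ => y ξ) ?_ ?_ ?_
  · intro ξ hξ
    rw [Finset.mem_filter] at hξ ⊢
    refine ⟨Finset.mem_univ _, ?_⟩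
    have := hξ.2
    rw [Equiv.Perm.mul_apply] at this ⊢
    rw [this]
  · intro ξ _ ξ' _ h
    exact y.injective h
  · intro η hη
    rw [Finset.mem_filter] at hη
    refine ⟨x η, ?_, ?_⟩
    · rw [Finset.mem_filter]
      refine ⟨Finset.mem_univ _, ?_⟩
      have := hη.2
      rw [Equiv.Perm.mul_apply] at this ⊢
      rw [this]
    · have := hη.2
      rwa [Equiv.Perm.mul_apply] at this

theorem good_swap {a b : Equiv.Perm (Fin n)} (h : Good b a) : Good a b := by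
  obtain ⟨g₁, h₁, g₂, h₂, hg₁, hh₁, hg₂, hh₂, hne⟩ := h
  refine ⟨h₁, g₁, h₂, g₂, hh₁, hg₁, hh₂, hg₂, ?_⟩
  rw [card_fixedPoints_mul_comm (h₁ * a * h₁⁻¹), card_fixedPoints_mul_comm (h₂ * a * h₂⁻¹)]
  exact hne

theorem good_of_move (a b h t : Equiv.Perm (Fin n)) (hh : h ∈ alternatingGroup (Fin n))
    (ht : t ∈ alternatingGroup (Fin n))
    (hlt : agr (t * (h * b * h⁻¹) * t⁻¹) a⁻¹ < agr (h * b * h⁻¹) a⁻¹) : Good a b := by
  refine ⟨1, t * h, 1, h, one_mem _, mul_mem ht hh, one_mem _, hh, ?_⟩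
  have e1 : (1 : Equiv.Perm (Fin n)) * a * 1⁻¹ = a := by group
  have e2 : t * h * b * (t * h)⁻¹ = t * (h * b * h⁻¹) * t⁻¹ := by group
  rw [e1, e2, card_fixedPoints_mul, card_fixedPoints_mul]
  exact hlt.ne

theorem conj_apply (h b : Equiv.Perm (Fin n)) (u : Fin n) :
    (h * b * h⁻¹) (h u) = h (b u) := by
  simp [Equiv.Perm.mul_apply]

theorem exists_avoid (hn : 5 ≤ n) (s : Finset (Fin n)) (hs : s.card ≤ 4) : ∃ w, w ∉ s := by
  by_contra hcon
  push Not at hcon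
  have : s = Finset.univ := Finset.eq_univ_iff_forall.mpr hcon
  rw [this, Finset.card_univ, Fintype.card_fin] at hs
  omega

theorem T3 (hn : 5 ≤ n) {u1 u2 u3 x1 x2 x3 : Fin n} (hu12 : u1 ≠ u2) (hu13 : u1 ≠ u3)
    (hu23 : u2 ≠ u3) (hx12 : x1 ≠ x2) (hx13 : x1 ≠ x3) (hx23 : x2 ≠ x3) :
    ∃ h : Equiv.Perm (Fin n), h ∈ alternatingGroup (Fin n) ∧ h u1 = x1 ∧ h u2 = x2 ∧
      h u3 = x3 := by
  have h3 : MulAction.IsMultiplyPretransitive (alternatingGroup (Fin n)) (Fin n) 3 := by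
    have := alternatingGroup.isMultiplyPretransitive (Fin n)
    exact MulAction.isMultiplyPretransitive_of_le (n := Nat.card (Fin n) - 2)
      (by rw [Nat.card_eq_fintype_card, Fintype.card_fin]; omega) (Nat.sub_le _ _)
  let eu : Fin 3 ↪ Fin n := ⟨![u1, u2, u3], by
    intro i j hij
    fin_cases i <;> fin_cases j <;> simp_all⟩
  let ex : Fin 3 ↪ Fin n := ⟨![x1, x2, x3], by
    intro i j hij
    fin_cases i <;> fin_cases j <;> simp_all⟩
  obtain ⟨g, hg⟩ := MulAction.exists_smul_eq (alternatingGroup (Fin n)) eu ex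
  refine ⟨g.1, g.2, ?_, ?_, ?_⟩
  · have := DFunLike.congr_fun hg 0
    rw [Function.Embedding.smul_apply] at this
    exact this
  · have := DFunLike.congr_fun hg 1
    rw [Function.Embedding.smul_apply] at this
    exact this
  · have := DFunLike.congr_fun hg 2
    rw [Function.Embedding.smul_apply] at this
    exact this

theorem card3_le (x y z : Fin n) : ({x, y, z} : Finset (Fin n)).card ≤ 4 := by
  refine (Finset.card_insert_le _ _).trans ?_
  have := Finset.card_insert_le y ({z} : Finset (Fin n))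
  rw [Finset.card_singleton] at this
  omega

theorem card2_le (x y : Fin n) : ({x, y} : Finset (Fin n)).card ≤ 4 := by
  refine (Finset.card_insert_le _ _).trans ?_
  rw [Finset.card_singleton]
  omega

theorem card4_le (x y z v : Fin n) : ({x, y, z, v} : Finset (Fin n)).card ≤ 4 := by
  refine (Finset.card_insert_le _ _).trans ?_
  have := card3_le y z v
  have h1 := Finset.card_insert_le y ({z, v} : Finset (Fin n))
  have h2 := Finset.card_insert_le z ({v} : Finset (Fin n))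
  rw [Finset.card_singleton] at h2
  omega

theorem T2 (hn : 5 ≤ n) {u1 u2 x1 x2 : Fin n} (hu12 : u1 ≠ u2) (hx12 : x1 ≠ x2) :
    ∃ h : Equiv.Perm (Fin n), h ∈ alternatingGroup (Fin n) ∧ h u1 = x1 ∧ h u2 = x2 := by
  obtain ⟨u3, hu3⟩ := exists_avoid hn {u1, u2} (by
    exact card2_le _ _)
  obtain ⟨x3, hx3⟩ := exists_avoid hn {x1, x2} (by
    exact card2_le _ _)
  rw [Finset.mem_insert, Finset.mem_singleton, not_or] at hu3 hx3
  obtain ⟨h, hh, e1, e2, _⟩ := T3 hn hu12 (Ne.symm hu3.1) (Ne.symm hu3.2) hx12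
    (Ne.symm hx3.1) (Ne.symm hx3.2)
  exact ⟨h, hh, e1, e2⟩

theorem good_of_data (a b h : Equiv.Perm (Fin n)) (hh : h ∈ alternatingGroup (Fin n))
    (x y w : Fin n) (hxy : x ≠ y) (hwx : w ≠ x) (hwy : w ≠ y)
    (hcx : (h * b * h⁻¹) x = y) (hαx : a⁻¹ x = y)
    (hw : (h * b * h⁻¹) w ≠ x)
    (hy1 : a⁻¹ y = w → (h * b * h⁻¹) y = w)
    (hy2a : (h * b * h⁻¹) y = w → a⁻¹ w ≠ x)
    (hy2b : (h * b * h⁻¹) y ≠ w → (h * b * h⁻¹) y ≠ x → a⁻¹ w ≠ (h * b * h⁻¹) y)
    (hq : ∀ ξ, ξ ≠ x → ξ ≠ y → ξ ≠ w → (h * b * h⁻¹) ξ = w → a⁻¹ ξ ≠ x) : Good a b :=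
  good_of_move a b h (cyc3 x y w) hh (Equiv.Perm.mem_alternatingGroup.mpr (sign_cyc3 hxy hwy))
    (move a⁻¹ (h * b * h⁻¹) x y w hxy hwx hwy hcx hαx hw hy1 hy2a hy2b hq)

/-- `σ` has a cycle of length at least `4` -/
def Long (σ : Equiv.Perm (Fin n)) : Prop := ∃ u, σ u ≠ u ∧ σ (σ u) ≠ u ∧ σ (σ (σ u)) ≠ u

/-- `σ` has a `2`-cycle -/
def Has2 (σ : Equiv.Perm (Fin n)) : Prop := ∃ x y, x ≠ y ∧ σ x = y ∧ σ y = x

/-- `σ` has a `3`-cycle -/
def Has3 (σ : Equiv.Perm (Fin n)) : Prop :=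
  ∃ x y z, x ≠ y ∧ y ≠ z ∧ x ≠ z ∧ σ x = y ∧ σ y = z ∧ σ z = x

theorem exists_moved (σ : Equiv.Perm (Fin n)) (hσ : σ ≠ 1) : ∃ u, σ u ≠ u := by
  by_contra hcon
  push Not at hcon
  exact hσ (Equiv.Perm.ext hcon)

theorem trichotomy (σ : Equiv.Perm (Fin n)) (hσ : σ ≠ 1) : Has2 σ ∨ Has3 σ ∨ Long σ := by
  obtain ⟨u, hu⟩ := exists_moved σ hσ
  by_cases h2 : σ (σ u) = u
  · left
    exact ⟨u, σ u, hu.symm, rfl, h2⟩
  by_cases h3 : σ (σ (σ u)) = u
  · right; left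
    refine ⟨u, σ u, σ (σ u), hu.symm, ?_, Ne.symm h2, rfl, rfl, h3⟩
    exact fun h => hu (σ.injective h).symm
  · right; right
    exact ⟨u, hu, h2, h3⟩

theorem has2_inv {σ : Equiv.Perm (Fin n)} (h : Has2 σ) : Has2 σ⁻¹ := by
  obtain ⟨x, y, hxy, h1, h2⟩ := h
  exact ⟨x, y, hxy, Equiv.Perm.inv_eq_iff_eq.mpr h2.symm, Equiv.Perm.inv_eq_iff_eq.mpr h1.symm⟩

theorem has3_inv {σ : Equiv.Perm (Fin n)} (h : Has3 σ) : Has3 σ⁻¹ := by
  obtain ⟨x, y, z, hxy, hyz, hxz, h1, h2, h3⟩ := h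
  exact ⟨x, z, y, hxz, hyz.symm, hxy, Equiv.Perm.inv_eq_iff_eq.mpr h3.symm,
    Equiv.Perm.inv_eq_iff_eq.mpr h2.symm, Equiv.Perm.inv_eq_iff_eq.mpr h1.symm⟩

theorem caseL (hn : 5 ≤ n) (a b : Equiv.Perm (Fin n)) (ha : a ≠ 1) (hb : Long b) :
    Good a b := by
  obtain ⟨u0, h1, h2, h3⟩ := hb
  obtain ⟨x, hx⟩ := exists_moved a⁻¹ (inv_ne_one.mpr ha)
  obtain ⟨w, hw⟩ := exists_avoid hn {x, a⁻¹ x, a x} (card3_le _ _ _)
  rw [Finset.mem_insert, Finset.mem_insert, Finset.mem_singleton, not_or, not_or] at hw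
  obtain ⟨hwx, hwy, hwa⟩ := hw
  have hu12 : b u0 ≠ b (b u0) := fun h => h1 (b.injective h).symm
  obtain ⟨h, hh, e0, e1, e2⟩ := T3 hn h1.symm h2.symm hu12 hx.symm (Ne.symm hwx) (Ne.symm hwy)
  have cx : (h * b * h⁻¹) x = a⁻¹ x := by
    have := conj_apply h b u0
    rw [e0, e1] at this
    exact this
  have cy : (h * b * h⁻¹) (a⁻¹ x) = w := by
    have := conj_apply h b (b u0)
    rw [e1, e2] at this
    exact this
  have cw : (h * b * h⁻¹) w ≠ x := by
    have := conj_apply h b (b (b u0))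
    rw [e2] at this
    rw [this, ← e0]
    exact fun hc => h3 (h.injective hc)
  refine good_of_data a b h hh x (a⁻¹ x) w hx.symm hwx hwy cx rfl cw (fun _ => cy) ?_ ?_ ?_
  · intro _ hc
    exact hwa (Equiv.Perm.inv_eq_iff_eq.mp hc)
  · intro hc
    exact absurd cy hc
  · intro ξ _ h2' _ hc
    exact absurd ((h * b * h⁻¹).injective (hc.trans cy.symm)) h2'

theorem case22 (hn : 5 ≤ n) (a b : Equiv.Perm (Fin n)) (ha : Has2 a⁻¹) (hb : Has2 b) :
    Good a b := by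
  obtain ⟨x, y, hxy, ax, ay⟩ := ha
  obtain ⟨u0, s0, hus, bu, bs⟩ := hb
  obtain ⟨h, hh, e0, e1⟩ := T2 hn hus hxy
  obtain ⟨w, hw⟩ := exists_avoid hn {x, y} (card2_le _ _)
  rw [Finset.mem_insert, Finset.mem_singleton, not_or] at hw
  obtain ⟨hwx, hwy⟩ := hw
  have cx : (h * b * h⁻¹) x = y := by
    have := conj_apply h b u0
    rw [e0, bu, e1] at this
    exact this
  have cy : (h * b * h⁻¹) y = x := by
    have := conj_apply h b s0
    rw [e1, bs, e0] at this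
    exact this
  refine good_of_data a b h hh x y w hxy hwx hwy cx ax ?_ ?_ ?_ ?_ ?_
  · exact fun hc => hwy ((h * b * h⁻¹).injective (hc.trans cy.symm))
  · intro hc
    exact absurd (hc.symm.trans ay) hwx
  · intro hc
    exact absurd (hc.symm.trans cy) hwx
  · intro _ hc2
    exact absurd cy hc2
  · intro ξ _ h2 _ _ hc
    exact h2 ((a⁻¹).injective (hc.trans ay.symm))

theorem case32 (hn : 5 ≤ n) (a b : Equiv.Perm (Fin n)) (ha : Has3 a⁻¹) (hb : Has2 b) :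
    Good a b := by
  obtain ⟨x, y, z, hxy, hyz, hxz, ax, ay, az⟩ := ha
  obtain ⟨u0, s0, hus, bu, bs⟩ := hb
  obtain ⟨h, hh, e0, e1⟩ := T2 hn hus hxy
  obtain ⟨w, hw⟩ := exists_avoid hn {x, y, z, (h * b * h⁻¹) z} (card4_le _ _ _ _)
  rw [Finset.mem_insert, Finset.mem_insert, Finset.mem_insert, Finset.mem_singleton, not_or,
    not_or, not_or] at hw
  obtain ⟨hwx, hwy, hwz, hwc⟩ := hw
  have cx : (h * b * h⁻¹) x = y := by
    have := conj_apply h b u0
    rw [e0, bu, e1] at this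
    exact this
  have cy : (h * b * h⁻¹) y = x := by
    have := conj_apply h b s0
    rw [e1, bs, e0] at this
    exact this
  refine good_of_data a b h hh x y w hxy hwx hwy cx ax ?_ ?_ ?_ ?_ ?_
  · exact fun hc => hwy ((h * b * h⁻¹).injective (hc.trans cy.symm))
  · intro hc
    exact absurd (hc.symm.trans ay) hwz
  · intro hc
    exact absurd (hc.symm.trans cy) hwx
  · intro _ hc2
    exact absurd cy hc2
  · intro ξ _ _ _ hcξ hc
    have : ξ = z := (a⁻¹).injective (hc.trans az.symm)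
    rw [this] at hcξ
    exact hwc hcξ.symm

theorem case33 (hn : 5 ≤ n) (a b : Equiv.Perm (Fin n)) (ha : Has3 a⁻¹) (hb : Has3 b) :
    Good a b := by
  obtain ⟨x, y, z, hxy, hyz, hxz, ax, ay, az⟩ := ha
  obtain ⟨u0, u1, u2, hu01, hu12, hu02, b0, b1, b2⟩ := hb
  obtain ⟨h, hh, e0, e1, e2⟩ := T3 hn hu01 hu02 hu12 hxy hxz hyz
  obtain ⟨w, hw⟩ := exists_avoid hn {x, y, z} (card3_le _ _ _)
  rw [Finset.mem_insert, Finset.mem_insert, Finset.mem_singleton, not_or, not_or] at hw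
  obtain ⟨hwx, hwy, hwz⟩ := hw
  have cx : (h * b * h⁻¹) x = y := by
    have := conj_apply h b u0
    rw [e0, b0, e1] at this
    exact this
  have cy : (h * b * h⁻¹) y = z := by
    have := conj_apply h b u1
    rw [e1, b1, e2] at this
    exact this
  have cz : (h * b * h⁻¹) z = x := by
    have := conj_apply h b u2
    rw [e2, b2, e0] at this
    exact this
  refine good_of_data a b h hh x y w hxy hwx hwy cx ax ?_ ?_ ?_ ?_ ?_
  · exact fun hc => hwz ((h * b * h⁻¹).injective (hc.trans cz.symm))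
  · intro hc
    exact absurd (hc.symm.trans ay) hwz
  · intro hc
    exact absurd (hc.symm.trans cy) hwz
  · intro _ _ hc
    rw [cy] at hc
    exact hwy ((a⁻¹).injective (hc.trans ay.symm))
  · intro ξ _ _ _ hcξ hc
    have : ξ = z := (a⁻¹).injective (hc.trans az.symm)
    rw [this, cz] at hcξ
    exact hwx hcξ.symm

theorem main (hn : 5 ≤ n) (a b : Equiv.Perm (Fin n)) (ha : a ≠ 1) (hb : b ≠ 1) : Good a b := by
  rcases trichotomy b hb with hb2 | hb3 | hbL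
  · rcases trichotomy a ha with ha2 | ha3 | haL
    · exact case22 hn a b (has2_inv ha2) hb2
    · exact case32 hn a b (has3_inv ha3) hb2
    · exact good_swap (caseL hn b a hb haL)
  · rcases trichotomy a ha with ha2 | ha3 | haL
    · exact good_swap (case32 hn b a (has3_inv hb3) ha2)
    · exact case33 hn a b (has3_inv ha3) hb3
    · exact good_swap (caseL hn b a hb haL)
  · exact caseL hn a b ha hbL

end Cfsg.Agent.Lib.Lead.FixProd
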