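import Mathlib
import Cfsg.Prelude.Def_LocalStructure
import Cfsg.Agent.Lib.Helper9.Thompson
import Cfsg.Agent.Lib.Helper6.ElemAb

set_option autoImplicit false

/-!
`UniqEA p E`: `E` is the only nontrivial elementary abelian `p`-subgroup of `N(E)` normalized by `N(E)`.
Transport along isomorphisms; the dihedral case.
-/

namespace Cfsg.Agent.Lib.Lead.FrakL

open Cfsg

/-- `E` is the only nontrivial elementary abelian `p`-subgroup of `N(E)` that is normalized by `N(E)`. -/
def UniqEA {H : Type*} [Group H] (p : ℕ) (E : Subgroup H) : Prop :=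
  ∀ V : Subgroup H, V ≤ Subgroup.normalizer (E : Set H) →
    Subgroup.normalizer (E : Set H) ≤ Subgroup.normalizer (V : Set H) →
    IsElementaryAbelian p V → V ≠ ⊥ → V = E

theorem UniqEA.of_map_equiv {H K : Type*} [Group H] [Group K] {p : ℕ} (f : H ≃* K) {E : Subgroup H}
    (h : UniqEA p (E.map f.toMonoidHom)) : UniqEA p E := by
  intro V hVN hNV hVea hV1
  have h1 : V.map f.toMonoidHom = E.map f.toMonoidHom := by
    apply h
    · rw [← Subgroup.map_equiv_normalizer_eq]
      exact Subgroup.map_mono hVN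
    · rw [← Subgroup.map_equiv_normalizer_eq, ← Subgroup.map_equiv_normalizer_eq]
      exact Subgroup.map_mono hNV
    · exact Cfsg.Agent.Lib.Helper9.isElementaryAbelian_map hVea _
    · intro hb
      apply hV1
      rw [Subgroup.map_eq_bot_iff_of_injective _ f.injective] at hb
      exact hb
  exact Subgroup.map_injective f.injective h1

theorem UniqEA.of_map_conj {H : Type*} [Group H] {p : ℕ} (g : H) {E : Subgroup H}
    (h : UniqEA p (E.map (MulAut.conj g).toMonoidHom)) : UniqEA p E :=
  UniqEA.of_map_equiv (MulAut.conj g) h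

/-- The dihedral case. -/
theorem uniqEA_dihedral {r : ℕ} (hr : r.Prime) (hr2 : r ≠ 2) (E : Subgroup (DihedralGroup r))
    (hE : IsElementaryAbelian 2 E) (hE1 : E ≠ ⊥)
    (hN : Subgroup.normalizer (E : Set (DihedralGroup r)) ≠ ⊤) : UniqEA 2 E := by
  haveI : NeZero r := ⟨hr.ne_zero⟩
  haveI : Fact (Nat.Prime 2) := ⟨Nat.prime_two⟩
  have hcard : Nat.card (DihedralGroup r) = 2 * r := DihedralGroup.nat_card
  have hrodd : ¬ 2 ∣ r := by
    intro h
    exact hr2 ((Nat.prime_dvd_prime_iff_eq Nat.prime_two hr).mp h).symm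
  -- `E` is a `2`-group
  have hEp : IsPGroup 2 E := by
    intro a
    refine ⟨1, ?_⟩
    apply Subtype.ext
    have := hE.2 a.1 a.2
    simpa using this
  obtain ⟨k, hk⟩ := hEp.exists_card_eq
  have hEdvd : Nat.card E ∣ 2 * r := hcard ▸ Subgroup.card_subgroup_dvd_card E
  have hk1 : k = 1 := by
    rcases k with _ | _ | k
    · exfalso
      apply hE1
      rw [pow_zero] at hk
      exact Subgroup.card_eq_one.mp hk
    · rfl
    · exfalso
      rw [hk] at hEdvd
      have h4 : 2 * 2 ∣ 2 * r := Dvd.dvd.trans ⟨2 ^ k, by ring⟩ hEdvd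
      exact hrodd (Nat.dvd_of_mul_dvd_mul_left (by norm_num) h4)
  have hE2 : Nat.card E = 2 := by rw [hk, hk1, pow_one]
  -- the normalizer has order 2
  set N := Subgroup.normalizer (E : Set (DihedralGroup r)) with hNdef
  have hEN : E ≤ N := Subgroup.le_normalizer
  have h2N : 2 ∣ Nat.card N := hE2 ▸ Subgroup.card_dvd_of_le hEN
  have hNdvd : Nat.card N ∣ 2 * r := hcard ▸ Subgroup.card_subgroup_dvd_card N
  have hNne : Nat.card N ≠ 2 * r := by
    intro h
    apply hN
    exact (Subgroup.card_eq_iff_eq_top N).mp (h.trans hcard.symm)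
  have hN2 : Nat.card N = 2 := by
    obtain ⟨d, hd⟩ := h2N
    rw [hd] at hNdvd hNne
    have hdr : d ∣ r := Nat.dvd_of_mul_dvd_mul_left (by norm_num) hNdvd
    rcases (Nat.dvd_prime hr).mp hdr with h | h
    · rw [hd, h]
    · exact absurd (by rw [h]) hNne
  have hEeqN : E = N := Subgroup.eq_of_le_of_card_ge hEN (by rw [hN2, hE2])
  intro V hVN0 _ _ hV1
  have hVN : V ≤ E := by rw [hEeqN]; exact hVN0
  have hVdvd : Nat.card V ∣ 2 := hE2 ▸ Subgroup.card_dvd_of_le hVN
  have hVne : Nat.card V ≠ 1 := fun h => hV1 (Subgroup.card_eq_one.mp h)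
  have hV2 : Nat.card V = 2 := by
    rcases (Nat.dvd_prime Nat.prime_two).mp hVdvd with h | h
    · exact absurd h hVne
    · exact h
  exact Subgroup.eq_of_le_of_card_ge hVN (by rw [hV2, hE2])

end Cfsg.Agent.Lib.Lead.FrakL
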