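import Mathlib
import Cfsg.Agent.Lib.Lead.FrakL1

set_option autoImplicit false

/-!
The `SL₂(q)` case: a subgroup `E` of `SL₂(F)` of order `|F|` that is elementary abelian (for the
prime `p`) is conjugate to the group of upper unitriangular matrices, whose normalizer contains the
diagonal torus; hence `UniqEA p E`.
-/

namespace Cfsg.Agent.Lib.Lead.FrakL

open Cfsg Matrix

section
variable {F : Type*} [Field F]

local notation "SL2" => Matrix.SpecialLinearGroup (Fin 2) F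

/-- upper unitriangular element -/
def uMat (x : F) : SL2 := ⟨!![1, x; 0, 1], by simp [Matrix.det_fin_two]⟩

/-- diagonal element -/
def tMat (t : Fˣ) : SL2 := ⟨!![(t : F), 0; 0, ((t⁻¹ : Fˣ) : F)], by simp [Matrix.det_fin_two]⟩

theorem sl2_mul00 (g h : SL2) : (g * h).1 0 0 = g.1 0 0 * h.1 0 0 + g.1 0 1 * h.1 1 0 := by
  rw [Matrix.SpecialLinearGroup.coe_mul, Matrix.mul_apply, Fin.sum_univ_two]

theorem sl2_mul01 (g h : SL2) : (g * h).1 0 1 = g.1 0 0 * h.1 0 1 + g.1 0 1 * h.1 1 1 := by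
  rw [Matrix.SpecialLinearGroup.coe_mul, Matrix.mul_apply, Fin.sum_univ_two]

theorem sl2_mul10 (g h : SL2) : (g * h).1 1 0 = g.1 1 0 * h.1 0 0 + g.1 1 1 * h.1 1 0 := by
  rw [Matrix.SpecialLinearGroup.coe_mul, Matrix.mul_apply, Fin.sum_univ_two]

theorem sl2_mul11 (g h : SL2) : (g * h).1 1 1 = g.1 1 0 * h.1 0 1 + g.1 1 1 * h.1 1 1 := by
  rw [Matrix.SpecialLinearGroup.coe_mul, Matrix.mul_apply, Fin.sum_univ_two]

theorem sl2_inv00 (g : SL2) : (g⁻¹).1 0 0 = g.1 1 1 := by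
  rw [Matrix.SpecialLinearGroup.coe_inv, Matrix.adjugate_fin_two]; simp

theorem sl2_inv01 (g : SL2) : (g⁻¹).1 0 1 = - g.1 0 1 := by
  rw [Matrix.SpecialLinearGroup.coe_inv, Matrix.adjugate_fin_two]; simp

theorem sl2_inv10 (g : SL2) : (g⁻¹).1 1 0 = - g.1 1 0 := by
  rw [Matrix.SpecialLinearGroup.coe_inv, Matrix.adjugate_fin_two]; simp

theorem sl2_inv11 (g : SL2) : (g⁻¹).1 1 1 = g.1 0 0 := by
  rw [Matrix.SpecialLinearGroup.coe_inv, Matrix.adjugate_fin_two]; simp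

theorem sl2_det (g : SL2) : g.1 0 0 * g.1 1 1 - g.1 0 1 * g.1 1 0 = 1 := by
  have := g.2
  rwa [Matrix.det_fin_two] at this

theorem sl2_ext {g h : SL2} (h00 : g.1 0 0 = h.1 0 0) (h01 : g.1 0 1 = h.1 0 1)
    (h10 : g.1 1 0 = h.1 1 0) (h11 : g.1 1 1 = h.1 1 1) : g = h := by
  apply Subtype.ext
  ext i j
  fin_cases i <;> fin_cases j
  · exact h00
  · exact h01
  · exact h10
  · exact h11

@[simp] theorem uMat00 (x : F) : (uMat x).1 0 0 = 1 := rfl
@[simp] theorem uMat01 (x : F) : (uMat x).1 0 1 = x := rfl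
@[simp] theorem uMat10 (x : F) : (uMat x).1 1 0 = 0 := rfl
@[simp] theorem uMat11 (x : F) : (uMat x).1 1 1 = 1 := rfl
@[simp] theorem tMat00 (t : Fˣ) : (tMat t).1 0 0 = (t : F) := rfl
@[simp] theorem tMat01 (t : Fˣ) : (tMat t).1 0 1 = 0 := rfl
@[simp] theorem tMat10 (t : Fˣ) : (tMat t).1 1 0 = 0 := rfl
@[simp] theorem tMat11 (t : Fˣ) : (tMat t).1 1 1 = ((t⁻¹ : Fˣ) : F) := rfl

theorem one00 : (1 : SL2).1 0 0 = 1 := by simp
theorem one01 : (1 : SL2).1 0 1 = 0 := by simp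
theorem one10 : (1 : SL2).1 1 0 = 0 := by simp
theorem one11 : (1 : SL2).1 1 1 = 1 := by simp

/-- the upper unitriangular subgroup -/
def Usub : Subgroup SL2 where
  carrier := {g | g.1 0 0 = 1 ∧ g.1 1 0 = 0 ∧ g.1 1 1 = 1}
  mul_mem' := by
    rintro g h ⟨g1, g2, g3⟩ ⟨h1, h2, h3⟩
    refine ⟨?_, ?_, ?_⟩
    · rw [sl2_mul00, g1, h1, h2]; ring
    · rw [sl2_mul10, g2, h2]; ring
    · rw [sl2_mul11, g2, g3, h3]; ring
  one_mem' := ⟨one00, one10, one11⟩
  inv_mem' := by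
    rintro g ⟨g1, g2, g3⟩
    refine ⟨?_, ?_, ?_⟩
    · rw [sl2_inv00, g3]
    · rw [sl2_inv10, g2, neg_zero]
    · rw [sl2_inv11, g1]

theorem mem_Usub {g : SL2} : g ∈ (Usub : Subgroup SL2) ↔ g.1 0 0 = 1 ∧ g.1 1 0 = 0 ∧ g.1 1 1 = 1 :=
  Iff.rfl

theorem mem_Usub_of {g : SL2} (h00 : g.1 0 0 = 1) (h10 : g.1 1 0 = 0) : g ∈ (Usub : Subgroup SL2) := by
  refine ⟨h00, h10, ?_⟩
  have := sl2_det g
  rw [h00, h10] at this
  linear_combination this

theorem uMat_mem (x : F) : uMat x ∈ (Usub : Subgroup SL2) := ⟨rfl, rfl, rfl⟩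

theorem eq_uMat_of_mem {g : SL2} (hg : g ∈ (Usub : Subgroup SL2)) : g = uMat (g.1 0 1) := by
  obtain ⟨g1, g2, g3⟩ := hg
  exact sl2_ext (by rw [g1, uMat00]) (by rw [uMat01]) (by rw [g2, uMat10]) (by rw [g3, uMat11])

theorem uMat_mul (x y : F) : uMat x * uMat y = uMat (x + y) := by
  apply sl2_ext
  · rw [sl2_mul00]; simp
  · rw [sl2_mul01]; simp [add_comm]
  · rw [sl2_mul10]; simp
  · rw [sl2_mul11]; simp

theorem uMat_zero : uMat (0 : F) = 1 := by
  apply sl2_ext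
  · rw [one00, uMat00]
  · rw [one01, uMat01]
  · rw [one10, uMat10]
  · rw [one11, uMat11]

theorem uMat_inv (x : F) : (uMat x)⁻¹ = uMat (-x) := by
  apply sl2_ext
  · rw [sl2_inv00]; simp
  · rw [sl2_inv01]; simp
  · rw [sl2_inv10]; simp
  · rw [sl2_inv11]; simp

theorem uMat_injective : Function.Injective (uMat : F → SL2) := by
  intro x y h
  have := congrArg (fun g : SL2 => g.1 0 1) h
  simpa using this

theorem card_Usub [Finite F] : Nat.card (Usub : Subgroup SL2) = Nat.card F := by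
  symm
  apply Nat.card_congr
  refine Equiv.ofBijective (fun x => ⟨uMat x, uMat_mem x⟩) ⟨?_, ?_⟩
  · intro x y h
    exact uMat_injective (congrArg Subtype.val h)
  · rintro ⟨g, hg⟩
    exact ⟨g.1 0 1, Subtype.ext (eq_uMat_of_mem hg).symm⟩

theorem tMat_conj_uMat (t : Fˣ) (x : F) :
    tMat t * uMat x * (tMat t)⁻¹ = uMat ((t : F) ^ 2 * x) := by
  have ht : (t : F) * ((t⁻¹ : Fˣ) : F) = 1 := by rw [← Units.val_mul, mul_inv_cancel, Units.val_one]
  apply sl2_ext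
  · rw [sl2_mul00, sl2_mul00, sl2_mul01, sl2_inv00, sl2_inv10]
    simp [ht]
  · rw [sl2_mul01, sl2_mul00, sl2_mul01, sl2_inv01, sl2_inv11]
    simp
    ring
  · rw [sl2_mul10, sl2_mul10, sl2_mul11, sl2_inv00, sl2_inv10]
    simp
  · rw [sl2_mul11, sl2_mul10, sl2_mul11, sl2_inv01, sl2_inv11]
    simp

theorem tMat_mem_normalizer (t : Fˣ) :
    tMat t ∈ Subgroup.normalizer ((Usub : Subgroup SL2) : Set SL2) := by
  have ht : (t : F) * ((t⁻¹ : Fˣ) : F) = 1 := by rw [← Units.val_mul, mul_inv_cancel, Units.val_one]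
  have ht0 : ((t⁻¹ : Fˣ) : F) ≠ 0 := Units.ne_zero _
  rw [Subgroup.mem_normalizer_iff]
  intro h
  have e00 : (tMat t * h * (tMat t)⁻¹).1 0 0 = h.1 0 0 := by
    rw [sl2_mul00, sl2_mul00, sl2_mul01, sl2_inv00, sl2_inv10]
    simp
    field_simp
  have e10 : (tMat t * h * (tMat t)⁻¹).1 1 0 = ((t⁻¹ : Fˣ) : F) ^ 2 * h.1 1 0 := by
    rw [sl2_mul10, sl2_mul10, sl2_mul11, sl2_inv00, sl2_inv10]
    simp
    ring
  have e11 : (tMat t * h * (tMat t)⁻¹).1 1 1 = h.1 1 1 := by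
    rw [sl2_mul11, sl2_mul10, sl2_mul11, sl2_inv01, sl2_inv11]
    simp
    field_simp
  rw [mem_Usub, mem_Usub, e00, e10, e11]
  constructor
  · rintro ⟨h1, h2, h3⟩
    exact ⟨h1, by rw [h2, mul_zero], h3⟩
  · rintro ⟨h1, h2, h3⟩
    refine ⟨h1, ?_, h3⟩
    rcases mul_eq_zero.mp h2 with h | h
    · exact absurd ((pow_eq_zero_iff two_ne_zero).mp h) ht0
    · exact h

theorem apply10_of_mem_normalizer {g : SL2}
    (hg : g ∈ Subgroup.normalizer ((Usub : Subgroup SL2) : Set SL2)) : g.1 1 0 = 0 := by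
  have h1 : g * uMat 1 * g⁻¹ ∈ (Usub : Subgroup SL2) :=
    (Subgroup.mem_normalizer_iff.mp hg (uMat 1)).mp (uMat_mem 1)
  have h2 := h1.2.1
  have h3 : (g * uMat 1 * g⁻¹).1 1 0 = - (g.1 1 0) ^ 2 := by
    rw [sl2_mul10, sl2_mul10, sl2_mul11, sl2_inv00, sl2_inv10]
    simp
    ring
  rw [h3] at h2
  have h4 : (g.1 1 0) ^ 2 = 0 := by linear_combination -h2
  exact (pow_eq_zero_iff (two_ne_zero)).mp h4

theorem pow_upper {g : SL2} (hg : g.1 1 0 = 0) (n : ℕ) :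
    (g ^ n).1 1 0 = 0 ∧ (g ^ n).1 0 0 = (g.1 0 0) ^ n := by
  induction n with
  | zero => exact ⟨by rw [pow_zero, one10], by rw [pow_zero, pow_zero, one00]⟩
  | succ n ih =>
    obtain ⟨i1, i2⟩ := ih
    refine ⟨?_, ?_⟩
    · rw [pow_succ, sl2_mul10, i1, hg]; ring
    · rw [pow_succ, sl2_mul00, i2, hg, pow_succ]; ring

end

section
variable {F : Type*} [Field F] [Finite F]

local notation "SL2" => Matrix.SpecialLinearGroup (Fin 2) F

theorem eq_one_of_pow_char {p : ℕ} [hp : Fact p.Prime] [CharP F p] {a : F} (h : a ^ p = 1) : a = 1 := by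
  have h1 : (a - 1) ^ p = 0 := by rw [sub_pow_char, h, one_pow, sub_self]
  have h2 := (pow_eq_zero_iff hp.out.ne_zero).mp h1
  exact sub_eq_zero.mp h2

/-- every element is a combination of squares -/
theorem mul_mem_of_sq_mul_mem {p : ℕ} [hp : Fact p.Prime] [CharP F p] (W : F → Prop) (h0 : W 0)
    (hadd : ∀ x y, W x → W y → W (x + y)) (hneg : ∀ x, W x → W (-x))
    (hsq : ∀ (s : F) x, W x → W (s ^ 2 * x)) (c w : F) (hw : W w) : W (c * w) := by
  by_cases hp2 : p = 2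
  · subst hp2
    have hF : ringChar F = 2 := ringChar.eq F 2
    obtain ⟨s, hs⟩ := FiniteField.isSquare_of_char_two hF c
    have := hsq s w hw
    rwa [pow_two, ← hs] at this
  · have h2 : (2 : F) ≠ 0 := by
      apply Ring.two_ne_zero
      rw [ringChar.eq F p]
      exact hp2
    have e : c * w = ((c + 1) / 2) ^ 2 * w + -(((c - 1) / 2) ^ 2 * w) := by
      field_simp
      ring
    rw [e]
    exact hadd _ _ (hsq _ w hw) (hneg _ (hsq _ w hw))

theorem uniqEA_Usub {p : ℕ} [hp : Fact p.Prime] [CharP F p] : UniqEA p (Usub : Subgroup SL2) := by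
  intro V hVN hNV hVea hV1
  -- `V ≤ U`
  have hVU : V ≤ (Usub : Subgroup SL2) := by
    intro v hv
    have h10 := apply10_of_mem_normalizer (hVN hv)
    have hpow := hVea.2 v hv
    have h1 := (pow_upper h10 p).2
    rw [hpow, one00] at h1
    exact mem_Usub_of (eq_one_of_pow_char h1.symm) h10
  apply le_antisymm hVU
  -- the set of `x` with `u(x) ∈ V`
  have hconj : ∀ (t : Fˣ) (x : F), uMat x ∈ V → uMat ((t : F) ^ 2 * x) ∈ V := by
    intro t x hx
    have h1 := hNV (tMat_mem_normalizer t)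
    have h2 := (Subgroup.mem_normalizer_iff.mp h1 (uMat x)).mp hx
    rwa [tMat_conj_uMat] at h2
  obtain ⟨⟨v, hv⟩, hv1⟩ := (Subgroup.ne_bot_iff_exists_ne_one).mp hV1
  have hv1' : v ≠ 1 := fun h => hv1 (Subtype.ext h)
  have hvU := hVU hv
  have hveq := eq_uMat_of_mem hvU
  set w := v.1 0 1 with hw
  have hw0 : w ≠ 0 := by
    intro h
    apply hv1'
    rw [hveq, h, uMat_zero]
  have hwV : uMat w ∈ V := hveq ▸ hv
  have key : ∀ c : F, uMat (c * w) ∈ V := by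
    intro c
    refine mul_mem_of_sq_mul_mem (p := p) (fun x => uMat x ∈ V) ?_ ?_ ?_ ?_ c w hwV
    · show uMat (0 : F) ∈ V
      rw [uMat_zero]; exact V.one_mem
    · intro x y hx hy
      show uMat (x + y) ∈ V
      rw [← uMat_mul]; exact V.mul_mem hx hy
    · intro x hx
      show uMat (-x) ∈ V
      rw [← uMat_inv]; exact V.inv_mem hx
    · intro s x hx
      show uMat (s ^ 2 * x) ∈ V
      by_cases hs : s = 0
      · rw [hs]; simp only [ne_eq, OfNat.ofNat_ne_zero, not_false_eq_true, zero_pow, zero_mul]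
        rw [uMat_zero]; exact V.one_mem
      · exact hconj (Units.mk0 s hs) x hx
  intro g hg
  rw [eq_uMat_of_mem hg]
  have := key (g.1 0 1 / w)
  rwa [div_mul_cancel₀ _ hw0] at this

end

end Cfsg.Agent.Lib.Lead.FrakL
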