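import Mathlib
import Cfsg.Agent.Lib.Lead.FrakL2

set_option autoImplicit false

/-!
The `SL₂(q)` case, continued: an elementary abelian `p`-subgroup of `SL₂(F)` of order `|F|` is
conjugate to the upper unitriangular subgroup.
-/

namespace Cfsg.Agent.Lib.Lead.FrakL

open Cfsg Matrix

variable {F : Type*} [Field F] [Fintype F]

local notation "SL2" => Matrix.SpecialLinearGroup (Fin 2) F

/-- natural action of a subgroup of `SL₂` on column vectors -/
def vecAct (E : Subgroup SL2) : MulAction E (Fin 2 → F) where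
  smul g v := (g : SL2).1 *ᵥ v
  one_smul v := by
    show ((1 : E) : SL2).1 *ᵥ v = v
    rw [Subgroup.coe_one, Matrix.SpecialLinearGroup.coe_one, Matrix.one_mulVec]
  mul_smul g h v := by
    show ((g * h : E) : SL2).1 *ᵥ v = (g : SL2).1 *ᵥ ((h : SL2).1 *ᵥ v)
    rw [Subgroup.coe_mul, Matrix.SpecialLinearGroup.coe_mul, Matrix.mulVec_mulVec]

theorem charP_of_card_eq_pow {p k : ℕ} (hp : p.Prime) (hk : k ≠ 0) (h : Fintype.card F = p ^ k) :
    CharP F p := by
  obtain ⟨n, hr, hn⟩ := FiniteField.card F (ringChar F)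
  have h1 : p ∣ ringChar F ^ (n : ℕ) := by rw [← hn, h]; exact dvd_pow_self p hk
  have h2 : p = ringChar F := (Nat.prime_dvd_prime_iff_eq hp hr).mp (hp.dvd_of_dvd_pow h1)
  rw [h2]
  exact ringChar.charP F

theorem uniqEA_SL2 {p : ℕ} [hp : Fact p.Prime] (E : Subgroup SL2) (hE : IsElementaryAbelian p E)
    (hcard : Nat.card E = Fintype.card F) : UniqEA p E := by
  have hEp : IsPGroup p E := by
    intro a
    refine ⟨1, ?_⟩
    apply Subtype.ext
    have := hE.2 a.1 a.2
    simpa using this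
  obtain ⟨k, hk⟩ := hEp.exists_card_eq
  have hk0 : k ≠ 0 := by
    rintro rfl
    rw [pow_zero] at hk
    have := Fintype.one_lt_card (α := F)
    omega
  haveI : CharP F p := charP_of_card_eq_pow hp.out hk0 (by rw [← hcard, hk])
  letI := vecAct E
  have hdvd : p ∣ Nat.card (Fin 2 → F) := by
    rw [Nat.card_eq_fintype_card, Fintype.card_fun, Fintype.card_fin, ← hcard, hk]
    exact dvd_pow (dvd_pow_self p hk0) two_ne_zero
  have h0 : (0 : Fin 2 → F) ∈ MulAction.fixedPoints E (Fin 2 → F) := by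
    intro g
    show (g : SL2).1 *ᵥ 0 = 0
    exact Matrix.mulVec_zero _
  obtain ⟨b, hb, hb0⟩ := hEp.exists_fixed_point_of_prime_dvd_card_of_fixed_point (Fin 2 → F) hdvd h0
  have hfix : ∀ h ∈ E, h.1 0 0 * b 0 + h.1 0 1 * b 1 = b 0 ∧ h.1 1 0 * b 0 + h.1 1 1 * b 1 = b 1 := by
    intro h hh
    have e : h.1 *ᵥ b = b := hb ⟨h, hh⟩
    constructor
    · have := congrFun e 0
      simpa [Matrix.mulVec, dotProduct, Fin.sum_univ_two] using this
    · have := congrFun e 1
      simpa [Matrix.mulVec, dotProduct, Fin.sum_univ_two] using this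
  obtain ⟨g, g00, g10⟩ : ∃ g : SL2, g.1 0 0 = b 0 ∧ g.1 1 0 = b 1 := by
    by_cases hb0' : b 0 = 0
    · have hb1 : b 1 ≠ 0 := by
        intro h1
        apply hb0
        ext i
        fin_cases i
        · exact hb0'.symm
        · exact h1.symm
      refine ⟨⟨!![0, -(b 1)⁻¹; b 1, 0], ?_⟩, ?_, ?_⟩
      · rw [Matrix.det_fin_two]
        simp
        field_simp
      · simp [hb0']
      · simp
    · refine ⟨⟨!![b 0, 0; b 1, (b 0)⁻¹], ?_⟩, ?_, ?_⟩
      · rw [Matrix.det_fin_two]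
        simp
        field_simp
      · simp
      · simp
  have hdet := sl2_det g
  rw [g00, g10] at hdet
  have hle : E.map (MulAut.conj g⁻¹).toMonoidHom ≤ (Usub : Subgroup SL2) := by
    rintro _ ⟨h, hh, rfl⟩
    obtain ⟨f1, f2⟩ := hfix h hh
    show g⁻¹ * h * g⁻¹⁻¹ ∈ Usub
    rw [inv_inv]
    apply mem_Usub_of
    · rw [sl2_mul00, sl2_mul00, sl2_mul01, sl2_inv00, sl2_inv01, g00, g10]
      linear_combination (g.1 1 1) * f1 - (g.1 0 1) * f2 + hdet
    · rw [sl2_mul10, sl2_mul10, sl2_mul11, sl2_inv10, sl2_inv11, g00, g10]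
      linear_combination (-(b 1)) * f1 + (b 0) * f2
  have hcardE' : Nat.card (E.map (MulAut.conj g⁻¹).toMonoidHom) = Nat.card (Usub : Subgroup SL2) := by
    rw [card_Usub, Nat.card_eq_fintype_card (α := F), ← hcard]
    exact (Nat.card_congr (E.equivMapOfInjective _ (MulAut.conj g⁻¹).injective).toEquiv).symm
  have heq : E.map (MulAut.conj g⁻¹).toMonoidHom = Usub :=
    Subgroup.eq_of_le_of_card_ge hle (by rw [hcardE'])
  apply UniqEA.of_map_conj g⁻¹
  rw [heq]
  exact uniqEA_Usub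

end Cfsg.Agent.Lib.Lead.FrakL
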