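import Mathlib
import Cfsg.Agent.Lib.Lead.FrakL1

set_option autoImplicit false

/-!
Generic glue for `L ∈ 𝔏_G(Y)`: if the image `E` of `Y` in `L/A` satisfies `UniqEA p E`, then the
image of `Y` in `N_L(Y)/A` is the unique nontrivial normal elementary abelian `p`-subgroup.
-/

namespace Cfsg.Agent.Lib.Lead.FrakL

open Cfsg

variable {G : Type*} [Group G]

theorem glue {p : ℕ} (Y L : Subgroup G) (AL : Subgroup ↥L) [hAL : AL.Normal] (NL : Subgroup G)
    (hYL : Y ≤ L)
    (hAY : AL.map L.subtype ≤ Subgroup.normalizer (Y : Set G))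
    (hcl : Subgroup.normalClosure ((Y.subgroupOf L : Subgroup ↥L) : Set ↥L) = ⊤)
    (hNL : NL = L ⊓ Subgroup.normalizer (Y : Set G))
    (hlt : NL < L)
    (hmax : ∀ X : Subgroup G, Y ≤ X → X < L → X ≤ NL)
    (hYea : IsElementaryAbelian p Y)
    [hn : ((AL.map L.subtype).subgroupOf NL).Normal]
    (hU : UniqEA p ((Y.subgroupOf L).map (QuotientGroup.mk' AL))) :
    let Ybar : Subgroup (↥NL ⧸ (AL.map L.subtype).subgroupOf NL) :=
      (Y.subgroupOf NL).map (QuotientGroup.mk' ((AL.map L.subtype).subgroupOf NL));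
    Ybar ≠ ⊥ ∧ Ybar.Normal ∧ IsElementaryAbelian p Ybar ∧
      ∀ V : Subgroup (↥NL ⧸ (AL.map L.subtype).subgroupOf NL), V.Normal →
        IsElementaryAbelian p V → V ≠ ⊥ → V = Ybar := by
  intro Ybar
  set A : Subgroup G := AL.map L.subtype with hA
  have hAleL : A ≤ L := Subgroup.map_subtype_le AL
  have hNLL : NL ≤ L := hNL ▸ inf_le_left
  have hNLN : NL ≤ Subgroup.normalizer (Y : Set G) := hNL ▸ inf_le_right
  have hYN : Y ≤ Subgroup.normalizer (Y : Set G) := Subgroup.le_normalizer
  have hYNL : Y ≤ NL := hNL ▸ le_inf hYL hYN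
  have hANL : A ≤ NL := hNL ▸ le_inf hAleL hAY
  have memA : ∀ x : ↥L, (x : G) ∈ A ↔ x ∈ AL := by
    intro x
    constructor
    · rintro ⟨a, ha, hax⟩
      have : a = x := Subtype.ext hax
      exact this ▸ ha
    · intro hx
      exact ⟨x, hx, rfl⟩
  -- (F0) `L ≤ N(Y)` is impossible
  have F0 : ¬ L ≤ Subgroup.normalizer (Y : Set G) := by
    intro h
    have : NL = L := by rw [hNL]; exact inf_eq_left.mpr h
    exact hlt.ne this
  -- (F1) `A = L` is impossible
  have F1 : ¬ L ≤ A := fun h => F0 (h.trans hAY)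
  -- (F2) `Y ≤ A` is impossible
  have F2 : ¬ Y ≤ A := by
    intro hYA
    have h1 : ((Y.subgroupOf L : Subgroup ↥L) : Set ↥L) ⊆ AL := by
      intro x hx
      exact (memA x).mp (hYA (Subgroup.mem_subgroupOf.mp hx))
    have h2 : Subgroup.normalClosure ((Y.subgroupOf L : Subgroup ↥L) : Set ↥L) ≤ AL :=
      Subgroup.normalClosure_le_normal h1
    rw [hcl] at h2
    apply F1
    intro l hl
    exact (memA ⟨l, hl⟩).mpr (h2 (Subgroup.mem_top _))
  haveI hYnorm : (Y.subgroupOf NL).Normal := Subgroup.normal_subgroupOf_of_le_normalizer hNLN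
  refine ⟨?_, ?_, ?_, ?_⟩
  · -- `Ybar ≠ ⊥`
    intro hbot
    apply F2
    have h1 : Y.subgroupOf NL ≤ A.subgroupOf NL := by
      have := (Subgroup.map_eq_bot_iff _).mp hbot
      rwa [QuotientGroup.ker_mk'] at this
    intro y hy
    have h2 : (⟨y, hYNL hy⟩ : ↥NL) ∈ Y.subgroupOf NL := Subgroup.mem_subgroupOf.mpr hy
    exact Subgroup.mem_subgroupOf.mp (h1 h2)
  · exact Subgroup.Normal.map hYnorm _ (QuotientGroup.mk'_surjective _)
  · exact Cfsg.Agent.Lib.Helper9.isElementaryAbelian_map
      (Cfsg.Agent.Lib.Helper9.isElementaryAbelian_subgroupOf hYea NL) _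
  · -- uniqueness
    intro V hVn hVea hV1
    -- the embedding of `N_L(Y)/A` in `L/A`
    have hle : A.subgroupOf NL ≤ AL.comap (Subgroup.inclusion hNLL) := by
      intro x hx
      rw [Subgroup.mem_comap]
      exact (memA _).mp (Subgroup.mem_subgroupOf.mp hx)
    set ι : (↥NL ⧸ A.subgroupOf NL) →* (↥L ⧸ AL) :=
      QuotientGroup.map (A.subgroupOf NL) AL (Subgroup.inclusion hNLL) hle with hι
    have ι_mk : ∀ x : ↥NL, ι (QuotientGroup.mk' (A.subgroupOf NL) x) =
        QuotientGroup.mk' AL (Subgroup.inclusion hNLL x) := fun x => rfl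
    have hinj : Function.Injective ι := by
      rw [injective_iff_map_eq_one]
      intro q hq
      obtain ⟨x, rfl⟩ := QuotientGroup.mk'_surjective (A.subgroupOf NL) q
      rw [ι_mk] at hq
      have h1 : Subgroup.inclusion hNLL x ∈ AL := by
        have := (QuotientGroup.eq_one_iff (N := AL) (Subgroup.inclusion hNLL x)).mp hq
        exact this
      have h2 : (x : G) ∈ A := (memA _).mpr h1
      exact (QuotientGroup.eq_one_iff (N := A.subgroupOf NL) x).mpr (Subgroup.mem_subgroupOf.mpr h2)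
    set E : Subgroup (↥L ⧸ AL) := (Y.subgroupOf L).map (QuotientGroup.mk' AL) with hE
    -- `Ybar.map ι = E`
    have hYE : Ybar.map ι = E := by
      ext h
      constructor
      · rintro ⟨_, ⟨x, hx, rfl⟩, rfl⟩
        rw [ι_mk]
        exact ⟨Subgroup.inclusion hNLL x, Subgroup.mem_subgroupOf.mpr (Subgroup.mem_subgroupOf.mp hx), rfl⟩
      · rintro ⟨x, hx, rfl⟩
        have hxY : (x : G) ∈ Y := Subgroup.mem_subgroupOf.mp hx
        refine ⟨QuotientGroup.mk' (A.subgroupOf NL) ⟨x, hYNL hxY⟩, ⟨⟨x, hYNL hxY⟩, ?_, rfl⟩, ?_⟩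
        · exact Subgroup.mem_subgroupOf.mpr hxY
        · rw [ι_mk]
          rfl
    -- the image of `NL` normalizes `E`
    have hnormE : ∀ x : ↥NL, QuotientGroup.mk' AL (Subgroup.inclusion hNLL x) ∈
        Subgroup.normalizer (E : Set (↥L ⧸ AL)) := by
      intro x
      apply Subgroup.le_normalizer_map (QuotientGroup.mk' AL)
      refine ⟨Subgroup.inclusion hNLL x, ?_, rfl⟩
      rw [SetLike.mem_coe, Subgroup.mem_normalizer_iff]
      intro h
      have := Subgroup.mem_normalizer_iff.mp (hNLN x.2) (h : G)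
      simp only [Subgroup.mem_subgroupOf]
      exact this
    -- an element of `L` whose image normalizes `E` lies in `NL`
    have hback : ∀ l : ↥L, QuotientGroup.mk' AL l ∈ Subgroup.normalizer (E : Set (↥L ⧸ AL)) →
        (l : G) ∈ NL := by
      intro l hl
      set X : Subgroup G :=
        ((Subgroup.normalizer (E : Set (↥L ⧸ AL))).comap (QuotientGroup.mk' AL)).map L.subtype with hX
      have hlX : (l : G) ∈ X := ⟨l, hl, rfl⟩
      have hYX : Y ≤ X := by
        intro y hy
        refine ⟨⟨y, hYL hy⟩, ?_, rfl⟩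
        rw [SetLike.mem_coe, Subgroup.mem_comap]
        apply Subgroup.le_normalizer
        exact ⟨⟨y, hYL hy⟩, Subgroup.mem_subgroupOf.mpr hy, rfl⟩
      have hXL : X ≤ L := Subgroup.map_subtype_le _
      have hXne : X ≠ L := by
        intro hXeq
        -- then `E` is normal
        have h1 : ∀ l' : ↥L, QuotientGroup.mk' AL l' ∈ Subgroup.normalizer (E : Set (↥L ⧸ AL)) := by
          intro l'
          have : (l' : G) ∈ X := by rw [hXeq]; exact l'.2
          obtain ⟨z, hz, hzl⟩ := this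
          have : z = l' := Subtype.ext hzl
          exact this ▸ hz
        have h2 : Subgroup.normalizer (E : Set (↥L ⧸ AL)) = ⊤ := by
          rw [eq_top_iff]
          intro h _
          obtain ⟨l', rfl⟩ := QuotientGroup.mk'_surjective AL h
          exact h1 l'
        haveI hEn : E.Normal := Subgroup.normalizer_eq_top_iff.mp h2
        haveI : (E.comap (QuotientGroup.mk' AL)).Normal := hEn.comap _
        have h3 : Subgroup.normalClosure ((Y.subgroupOf L : Subgroup ↥L) : Set ↥L) ≤
            E.comap (QuotientGroup.mk' AL) := by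
          apply Subgroup.normalClosure_le_normal
          intro x hx
          exact ⟨x, hx, rfl⟩
        rw [hcl] at h3
        apply F0
        intro l' hl'
        have h4 := h3 (Subgroup.mem_top (⟨l', hl'⟩ : ↥L))
        obtain ⟨y, hy, hyl⟩ := h4
        -- `y⁻¹ * l' ∈ AL`
        have h5 : y⁻¹ * ⟨l', hl'⟩ ∈ AL := by
          have := (QuotientGroup.eq (s := AL)).mp hyl
          exact this
        have h6 : ((y⁻¹ * ⟨l', hl'⟩ : ↥L) : G) ∈ Subgroup.normalizer (Y : Set G) :=
          hAY ((memA _).mpr h5)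
        have h7 : (y : G) ∈ Subgroup.normalizer (Y : Set G) := hYN (Subgroup.mem_subgroupOf.mp hy)
        have h8 : l' = (y : G) * ((y⁻¹ * ⟨l', hl'⟩ : ↥L) : G) := by
          simp
        rw [h8]
        exact Subgroup.mul_mem _ h7 h6
      exact hmax X hYX (lt_of_le_of_ne hXL hXne) hlX
    -- apply `UniqEA`
    have h1 : V.map ι ≤ Subgroup.normalizer (E : Set (↥L ⧸ AL)) := by
      rintro _ ⟨q, _, rfl⟩
      obtain ⟨x, rfl⟩ := QuotientGroup.mk'_surjective (A.subgroupOf NL) q
      rw [ι_mk]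
      exact hnormE x
    have h2 : Subgroup.normalizer (E : Set (↥L ⧸ AL)) ≤
        Subgroup.normalizer ((V.map ι : Subgroup (↥L ⧸ AL)) : Set (↥L ⧸ AL)) := by
      intro n hn'
      obtain ⟨l, rfl⟩ := QuotientGroup.mk'_surjective AL n
      have hlNL := hback l hn'
      apply Subgroup.le_normalizer_map ι
      refine ⟨QuotientGroup.mk' (A.subgroupOf NL) ⟨l, hlNL⟩, ?_, ?_⟩
      · rw [Subgroup.normalizer_eq_top]
        exact Subgroup.mem_top _
      · rw [ι_mk]
        rfl
    have h3 : V.map ι = E := by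
      apply hU _ h1 h2 (Cfsg.Agent.Lib.Helper9.isElementaryAbelian_map hVea _)
      intro hb
      exact hV1 ((Subgroup.map_eq_bot_iff_of_injective V hinj).mp hb)
    rw [← hYE] at h3
    exact Subgroup.map_injective hinj h3

end Cfsg.Agent.Lib.Lead.FrakL
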