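import Mathlib
import Cfsg.Agent.Lib.Lead.FrakL3

set_option autoImplicit false

/-!
Further facts on the image `E` of `Y` in `L/A` in the setting of `glue`: `E ≠ ⊥`, `N(E) ≠ ⊤`, and
`|E| = |Y : Y ∩ A|`.
-/

namespace Cfsg.Agent.Lib.Lead.FrakL

open Cfsg

variable {G : Type*} [Group G]

theorem image_facts (Y L : Subgroup G) (AL : Subgroup ↥L) [hAL : AL.Normal]
    (hYL : Y ≤ L)
    (hAY : AL.map L.subtype ≤ Subgroup.normalizer (Y : Set G))
    (hcl : Subgroup.normalClosure ((Y.subgroupOf L : Subgroup ↥L) : Set ↥L) = ⊤)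
    (hlt : L ⊓ Subgroup.normalizer (Y : Set G) < L) :
    (Y.subgroupOf L).map (QuotientGroup.mk' AL) ≠ ⊥ ∧
      Subgroup.normalizer (((Y.subgroupOf L).map (QuotientGroup.mk' AL) : Subgroup (↥L ⧸ AL)) :
        Set (↥L ⧸ AL)) ≠ ⊤ := by
  have hYN : Y ≤ Subgroup.normalizer (Y : Set G) := Subgroup.le_normalizer
  have memA : ∀ x : ↥L, (x : G) ∈ AL.map L.subtype ↔ x ∈ AL := by
    intro x
    constructor
    · rintro ⟨a, ha, hax⟩
      have : a = x := Subtype.ext hax
      exact this ▸ ha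
    · intro hx
      exact ⟨x, hx, rfl⟩
  have F0 : ¬ L ≤ Subgroup.normalizer (Y : Set G) := by
    intro h
    exact hlt.ne (inf_eq_left.mpr h)
  -- if the normal closure of `Y` lies in a normal subgroup `N` of `L` all of whose elements are
  -- products `y * a`, then `L ≤ N(Y)`
  have key : ∀ N : Subgroup ↥L, N.Normal → Y.subgroupOf L ≤ N →
      (∀ l ∈ N, ∃ y ∈ Y.subgroupOf L, y⁻¹ * l ∈ AL) → False := by
    intro N hN hYN' hprod
    have h3 : Subgroup.normalClosure ((Y.subgroupOf L : Subgroup ↥L) : Set ↥L) ≤ N :=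
      Subgroup.normalClosure_le_normal hYN'
    rw [hcl] at h3
    apply F0
    intro l' hl'
    obtain ⟨y, hy, h5⟩ := hprod _ (h3 (Subgroup.mem_top (⟨l', hl'⟩ : ↥L)))
    have h6 : ((y⁻¹ * ⟨l', hl'⟩ : ↥L) : G) ∈ Subgroup.normalizer (Y : Set G) :=
      hAY ((memA _).mpr h5)
    have h7 : (y : G) ∈ Subgroup.normalizer (Y : Set G) := hYN (Subgroup.mem_subgroupOf.mp hy)
    have h8 : l' = (y : G) * ((y⁻¹ * ⟨l', hl'⟩ : ↥L) : G) := by simp
    rw [h8]
    exact Subgroup.mul_mem _ h7 h6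
  constructor
  · intro hbot
    have h1 : Y.subgroupOf L ≤ AL := by
      have := (Subgroup.map_eq_bot_iff _).mp hbot
      rwa [QuotientGroup.ker_mk'] at this
    apply key AL hAL h1
    intro l hl
    exact ⟨1, Subgroup.one_mem _, by simpa using hl⟩
  · intro h2
    set E : Subgroup (↥L ⧸ AL) := (Y.subgroupOf L).map (QuotientGroup.mk' AL) with hE
    haveI hEn : E.Normal := Subgroup.normalizer_eq_top_iff.mp h2
    apply key (E.comap (QuotientGroup.mk' AL)) (hEn.comap _)
    · intro x hx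
      exact ⟨x, hx, rfl⟩
    · intro l hl
      obtain ⟨y, hy, hyl⟩ := hl
      exact ⟨y, hy, (QuotientGroup.eq (s := AL)).mp hyl⟩

theorem card_image (Y L : Subgroup G) (AL : Subgroup ↥L) [hAL : AL.Normal] (hYL : Y ≤ L) :
    Nat.card ((Y.subgroupOf L).map (QuotientGroup.mk' AL)) =
      (Y ⊓ AL.map L.subtype).relIndex Y := by
  set f : ↥(Y.subgroupOf L) →* (↥L ⧸ AL) :=
    (QuotientGroup.mk' AL).comp (Y.subgroupOf L).subtype with hf
  have h1 : f.range = (Y.subgroupOf L).map (QuotientGroup.mk' AL) := by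
    rw [hf, MonoidHom.range_comp, Subgroup.range_subtype]
  have h2 : f.ker = AL.subgroupOf (Y.subgroupOf L) := by
    ext x
    rw [MonoidHom.mem_ker, hf, MonoidHom.comp_apply, Subgroup.mem_subgroupOf]
    exact QuotientGroup.eq_one_iff _
  rw [← h1, ← Subgroup.index_ker, h2, Subgroup.inf_relIndex_left]
  show AL.relIndex (Y.subgroupOf L) = _
  rw [← Subgroup.relIndex_map_map_of_injective AL (Y.subgroupOf L) L.subtype_injective,
    Subgroup.map_subgroupOf_eq_of_le hYL]

end Cfsg.Agent.Lib.Lead.FrakL
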