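import Mathlib

set_option autoImplicit false

/-!
Brute force over the field with two elements (modelled by `Bool` with its Boolean ring structure):
a `4 × 4` matrix satisfying the defining equations of `Sz(2)` normalizes an explicit subgroup of order 5.
(Generated file.)
-/

namespace Cfsg.Agent.Lib.Lead.FrakL

set_option maxRecDepth 100000 in
set_option synthInstance.maxSize 1000000 in
set_option synthInstance.maxHeartbeats 0 in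
set_option maxHeartbeats 0 in
theorem sz2_bf : ∀ a00 a01 a02 a03 a10 a11 a12 a13 a20 a21 a22 a23 a30 a31 a32 a33 : Bool,
  ((a00 * a30 + a10 * a20 + a20 * a10 + a30 * a00 = 0) ∧
  (a00 * a31 + a10 * a21 + a20 * a11 + a30 * a01 = 0) ∧
  (a00 * a32 + a10 * a22 + a20 * a12 + a30 * a02 = 0) ∧
  (a00 * a33 + a10 * a23 + a20 * a13 + a30 * a03 = 1) ∧
  (a01 * a31 + a11 * a21 + a21 * a11 + a31 * a01 = 0) ∧
  (a01 * a32 + a11 * a22 + a21 * a12 + a31 * a02 = 1) ∧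
  (a01 * a33 + a11 * a23 + a21 * a13 + a31 * a03 = 0) ∧
  (a02 * a32 + a12 * a22 + a22 * a12 + a32 * a02 = 0) ∧
  (a02 * a33 + a12 * a23 + a22 * a13 + a32 * a03 = 0) ∧
  (a03 * a33 + a13 * a23 + a23 * a13 + a33 * a03 = 0) ∧
  (a00 * a11 - a10 * a01 = a00) ∧
  (a00 * a12 - a10 * a02 = a01) ∧
  (a01 * a13 - a11 * a03 = a02) ∧
  (a02 * a13 - a12 * a03 = a03) ∧
  (a00 * a21 - a20 * a01 = a10) ∧
  (a00 * a22 - a20 * a02 = a11) ∧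
  (a01 * a23 - a21 * a03 = a12) ∧
  (a02 * a23 - a22 * a03 = a13) ∧
  (a10 * a31 - a30 * a11 = a20) ∧
  (a10 * a32 - a30 * a12 = a21) ∧
  (a11 * a33 - a31 * a13 = a22) ∧
  (a12 * a33 - a32 * a13 = a23) ∧
  (a20 * a31 - a30 * a21 = a30) ∧
  (a20 * a32 - a30 * a22 = a31) ∧
  (a21 * a33 - a31 * a23 = a32) ∧
  (a22 * a33 - a32 * a23 = a33)) →
  (((a03 = a30) ∧ (a02 = a31) ∧ (a01 + a03 = a32) ∧ (a00 + a02 + a03 = a33) ∧ (a13 = a20) ∧ (a12 = a21) ∧ (a11 + a13 = a22) ∧ (a10 + a12 + a13 = a23) ∧ (a23 = a10 + a30) ∧ (a22 = a11 + a31) ∧ (a21 + a23 = a12 + a32) ∧ (a20 + a22 + a23 = a13 + a33) ∧ (a33 = a00 + a20 + a30) ∧ (a32 = a01 + a21 + a31) ∧ (a31 + a33 = a02 + a22 + a32) ∧ (a30 + a32 + a33 = a03 + a23 + a33)) ∨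
  ((a03 = a00 + a20 + a30) ∧ (a02 = a01 + a21 + a31) ∧ (a01 + a03 = a02 + a22 + a32) ∧ (a00 + a02 + a03 = a03 + a23 + a33) ∧ (a13 = a10 + a30) ∧ (a12 = a11 + a31) ∧ (a11 + a13 = a12 + a32) ∧ (a10 + a12 + a13 = a13 + a33) ∧ (a23 = a00 + a30) ∧ (a22 = a01 + a31) ∧ (a21 + a23 = a02 + a32) ∧ (a20 + a22 + a23 = a03 + a33) ∧ (a33 = a00 + a10 + a20 + a30) ∧ (a32 = a01 + a11 + a21 + a31) ∧ (a31 + a33 = a02 + a12 + a22 + a32) ∧ (a30 + a32 + a33 = a03 + a13 + a23 + a33)) ∨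
  ((a03 = a00 + a10 + a20 + a30) ∧ (a02 = a01 + a11 + a21 + a31) ∧ (a01 + a03 = a02 + a12 + a22 + a32) ∧ (a00 + a02 + a03 = a03 + a13 + a23 + a33) ∧ (a13 = a00 + a30) ∧ (a12 = a01 + a31) ∧ (a11 + a13 = a02 + a32) ∧ (a10 + a12 + a13 = a03 + a33) ∧ (a23 = a00 + a20) ∧ (a22 = a01 + a21) ∧ (a21 + a23 = a02 + a22) ∧ (a20 + a22 + a23 = a03 + a23) ∧ (a33 = a00 + a10 + a30) ∧ (a32 = a01 + a11 + a31) ∧ (a31 + a33 = a02 + a12 + a32) ∧ (a30 + a32 + a33 = a03 + a13 + a33)) ∨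
  ((a03 = a00 + a10 + a30) ∧ (a02 = a01 + a11 + a31) ∧ (a01 + a03 = a02 + a12 + a32) ∧ (a00 + a02 + a03 = a03 + a13 + a33) ∧ (a13 = a00 + a20) ∧ (a12 = a01 + a21) ∧ (a11 + a13 = a02 + a22) ∧ (a10 + a12 + a13 = a03 + a23) ∧ (a23 = a10) ∧ (a22 = a11) ∧ (a21 + a23 = a12) ∧ (a20 + a22 + a23 = a13) ∧ (a33 = a00) ∧ (a32 = a01) ∧ (a31 + a33 = a02) ∧ (a30 + a32 + a33 = a03))) := by
  decide +kernel

end Cfsg.Agent.Lib.Lead.FrakL
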