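import Mathlib
import Cfsg.Prelude.Def_Sz
import Cfsg.Agent.Lib.Lead.FrakL4

set_option autoImplicit false

/-!
The case `Sz(2)`: transport of the brute-force lemma `sz2_bf` to an arbitrary field with two elements.
(Partly generated file.)
-/

namespace Cfsg.Agent.Lib.Lead.FrakL

open Matrix

section
variable {F : Type*} [Field F]

/-- the form matrix -/
def jM : Matrix (Fin 4) (Fin 4) F := !![0, 0, 0, 1; 0, 0, 1, 0; 0, 1, 0, 0; 1, 0, 0, 0]

/-- the `1`-th power of an element of order five -/
def s1M : Matrix (Fin 4) (Fin 4) F := !![0, 0, 0, 1; 0, 0, 1, 0; 0, 1, 0, 1; 1, 0, 1, 1]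

/-- the `2`-th power of an element of order five -/
def s2M : Matrix (Fin 4) (Fin 4) F := !![1, 0, 1, 1; 0, 1, 0, 1; 1, 0, 0, 1; 1, 1, 1, 1]

/-- the `3`-th power of an element of order five -/
def s3M : Matrix (Fin 4) (Fin 4) F := !![1, 1, 1, 1; 1, 0, 0, 1; 1, 0, 1, 0; 1, 1, 0, 1]

/-- the `4`-th power of an element of order five -/
def s4M : Matrix (Fin 4) (Fin 4) F := !![1, 1, 0, 1; 1, 0, 1, 0; 0, 1, 0, 0; 1, 0, 0, 0]

/-- the value of an element of a two-element field, as a Boolean -/
noncomputable def toB (x : F) : Bool := by classical exact decide (x = 1)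

theorem toB_zero : toB (0 : F) = 0 := by
  simp [toB]
  rfl

theorem toB_one : toB (1 : F) = 1 := by
  simp [toB]
  rfl

theorem toB_add (h01 : ∀ x : F, x = 0 ∨ x = 1) (h2 : (1 : F) + 1 = 0) (x y : F) :
    toB (x + y) = toB x + toB y := by
  rcases h01 x with rfl | rfl <;> rcases h01 y with rfl | rfl <;>
    simp only [zero_add, add_zero, h2, toB_zero, toB_one] <;> decide

theorem toB_sub (h01 : ∀ x : F, x = 0 ∨ x = 1) (h2 : (1 : F) + 1 = 0) (x y : F) :
    toB (x - y) = toB x - toB y := by
  have hneg : (-1 : F) = 1 := by linear_combination -h2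
  rcases h01 x with rfl | rfl <;> rcases h01 y with rfl | rfl <;>
    simp only [sub_zero, zero_sub, sub_self, neg_zero, hneg, toB_zero, toB_one] <;> decide

theorem toB_mul (h01 : ∀ x : F, x = 0 ∨ x = 1) (x y : F) :
    toB (x * y) = toB x * toB y := by
  rcases h01 x with rfl | rfl <;> rcases h01 y with rfl | rfl <;>
    simp only [zero_mul, mul_zero, mul_one, toB_zero, toB_one] <;> decide

theorem toB_inj (h01 : ∀ x : F, x = 0 ∨ x = 1) {x y : F} (h : toB x = toB y) : x = y := by
  rcases h01 x with rfl | rfl <;> rcases h01 y with rfl | rfl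
  · rfl
  · rw [toB_zero, toB_one] at h; exact absurd h (by decide)
  · rw [toB_zero, toB_one] at h; exact absurd h (by decide)
  · rfl

theorem presJ_entry (M : Matrix (Fin 4) (Fin 4) F) (i j : Fin 4) :
    (Mᵀ * jM * M : Matrix (Fin 4) (Fin 4) F) i j = M 0 i * M 3 j + M 1 i * M 2 j + M 2 i * M 1 j + M 3 i * M 0 j := by
  simp [Matrix.mul_apply, Fin.sum_univ_four, jM]
  ring

theorem ext16 {A B : Matrix (Fin 4) (Fin 4) F}
    (h00 : A 0 0 = B 0 0) (h01 : A 0 1 = B 0 1) (h02 : A 0 2 = B 0 2) (h03 : A 0 3 = B 0 3) (h10 : A 1 0 = B 1 0) (h11 : A 1 1 = B 1 1) (h12 : A 1 2 = B 1 2) (h13 : A 1 3 = B 1 3)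
    (h20 : A 2 0 = B 2 0) (h21 : A 2 1 = B 2 1) (h22 : A 2 2 = B 2 2) (h23 : A 2 3 = B 2 3) (h30 : A 3 0 = B 3 0) (h31 : A 3 1 = B 3 1) (h32 : A 3 2 = B 3 2) (h33 : A 3 3 = B 3 3) : A = B := by
  ext i j
  fin_cases i <;> fin_cases j
  · exact h00
  · exact h01
  · exact h02
  · exact h03
  · exact h10
  · exact h11
  · exact h12
  · exact h13
  · exact h20
  · exact h21
  · exact h22
  · exact h23
  · exact h30
  · exact h31
  · exact h32
  · exact h33

theorem sz2_normalizes (h01 : ∀ x : F, x = 0 ∨ x = 1) (h2 : (1 : F) + 1 = 0)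
    (M : Matrix (Fin 4) (Fin 4) F) (hP : Mᵀ * jM * M = jM)
    (hS : Cfsg.Lie.star4 M = M.map (fun x => x ^ 2)) :
    M * s1M = s1M * M ∨ M * s1M = s2M * M ∨ M * s1M = s3M * M ∨ M * s1M = s4M * M := by
  have hsq : ∀ x : F, x ^ 2 = x := by
    intro x
    rcases h01 x with rfl | rfl <;> simp
  have p00 : M 0 0 * M 3 0 + M 1 0 * M 2 0 + M 2 0 * M 1 0 + M 3 0 * M 0 0 = 0 := by
    rw [← presJ_entry, hP]; simp [jM]
  have P00 := congrArg toB p00
  simp only [toB_add h01 h2, toB_mul h01, toB_zero, toB_one] at P00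
  have p01 : M 0 0 * M 3 1 + M 1 0 * M 2 1 + M 2 0 * M 1 1 + M 3 0 * M 0 1 = 0 := by
    rw [← presJ_entry, hP]; simp [jM]
  have P01 := congrArg toB p01
  simp only [toB_add h01 h2, toB_mul h01, toB_zero, toB_one] at P01
  have p02 : M 0 0 * M 3 2 + M 1 0 * M 2 2 + M 2 0 * M 1 2 + M 3 0 * M 0 2 = 0 := by
    rw [← presJ_entry, hP]; simp [jM]
  have P02 := congrArg toB p02
  simp only [toB_add h01 h2, toB_mul h01, toB_zero, toB_one] at P02
  have p03 : M 0 0 * M 3 3 + M 1 0 * M 2 3 + M 2 0 * M 1 3 + M 3 0 * M 0 3 = 1 := by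
    rw [← presJ_entry, hP]; simp [jM]
  have P03 := congrArg toB p03
  simp only [toB_add h01 h2, toB_mul h01, toB_zero, toB_one] at P03
  have p11 : M 0 1 * M 3 1 + M 1 1 * M 2 1 + M 2 1 * M 1 1 + M 3 1 * M 0 1 = 0 := by
    rw [← presJ_entry, hP]; simp [jM]
  have P11 := congrArg toB p11
  simp only [toB_add h01 h2, toB_mul h01, toB_zero, toB_one] at P11
  have p12 : M 0 1 * M 3 2 + M 1 1 * M 2 2 + M 2 1 * M 1 2 + M 3 1 * M 0 2 = 1 := by
    rw [← presJ_entry, hP]; simp [jM]
  have P12 := congrArg toB p12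
  simp only [toB_add h01 h2, toB_mul h01, toB_zero, toB_one] at P12
  have p13 : M 0 1 * M 3 3 + M 1 1 * M 2 3 + M 2 1 * M 1 3 + M 3 1 * M 0 3 = 0 := by
    rw [← presJ_entry, hP]; simp [jM]
  have P13 := congrArg toB p13
  simp only [toB_add h01 h2, toB_mul h01, toB_zero, toB_one] at P13
  have p22 : M 0 2 * M 3 2 + M 1 2 * M 2 2 + M 2 2 * M 1 2 + M 3 2 * M 0 2 = 0 := by
    rw [← presJ_entry, hP]; simp [jM]
  have P22 := congrArg toB p22
  simp only [toB_add h01 h2, toB_mul h01, toB_zero, toB_one] at P22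
  have p23 : M 0 2 * M 3 3 + M 1 2 * M 2 3 + M 2 2 * M 1 3 + M 3 2 * M 0 3 = 0 := by
    rw [← presJ_entry, hP]; simp [jM]
  have P23 := congrArg toB p23
  simp only [toB_add h01 h2, toB_mul h01, toB_zero, toB_one] at P23
  have p33 : M 0 3 * M 3 3 + M 1 3 * M 2 3 + M 2 3 * M 1 3 + M 3 3 * M 0 3 = 0 := by
    rw [← presJ_entry, hP]; simp [jM]
  have P33 := congrArg toB p33
  simp only [toB_add h01 h2, toB_mul h01, toB_zero, toB_one] at P33
  have q00 : M 0 0 * M 1 1 - M 1 0 * M 0 1 = M 0 0 := by
    have h := congrFun (congrFun hS 0) 0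
    simp only [Cfsg.Lie.star4, Cfsg.Lie.pairOf, Matrix.of_apply, Matrix.map_apply] at h
    have h' := hsq (M 0 0)
    simp at h
    linear_combination h + h'
  have Q00 := congrArg toB q00
  simp only [toB_sub h01 h2, toB_mul h01] at Q00
  have q01 : M 0 0 * M 1 2 - M 1 0 * M 0 2 = M 0 1 := by
    have h := congrFun (congrFun hS 0) 1
    simp only [Cfsg.Lie.star4, Cfsg.Lie.pairOf, Matrix.of_apply, Matrix.map_apply] at h
    have h' := hsq (M 0 1)
    simp at h
    linear_combination h + h'
  have Q01 := congrArg toB q01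
  simp only [toB_sub h01 h2, toB_mul h01] at Q01
  have q02 : M 0 1 * M 1 3 - M 1 1 * M 0 3 = M 0 2 := by
    have h := congrFun (congrFun hS 0) 2
    simp only [Cfsg.Lie.star4, Cfsg.Lie.pairOf, Matrix.of_apply, Matrix.map_apply] at h
    have h' := hsq (M 0 2)
    simp at h
    linear_combination h + h'
  have Q02 := congrArg toB q02
  simp only [toB_sub h01 h2, toB_mul h01] at Q02
  have q03 : M 0 2 * M 1 3 - M 1 2 * M 0 3 = M 0 3 := by
    have h := congrFun (congrFun hS 0) 3
    simp only [Cfsg.Lie.star4, Cfsg.Lie.pairOf, Matrix.of_apply, Matrix.map_apply] at h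
    have h' := hsq (M 0 3)
    simp at h
    linear_combination h + h'
  have Q03 := congrArg toB q03
  simp only [toB_sub h01 h2, toB_mul h01] at Q03
  have q10 : M 0 0 * M 2 1 - M 2 0 * M 0 1 = M 1 0 := by
    have h := congrFun (congrFun hS 1) 0
    simp only [Cfsg.Lie.star4, Cfsg.Lie.pairOf, Matrix.of_apply, Matrix.map_apply] at h
    have h' := hsq (M 1 0)
    simp at h
    linear_combination h + h'
  have Q10 := congrArg toB q10
  simp only [toB_sub h01 h2, toB_mul h01] at Q10
  have q11 : M 0 0 * M 2 2 - M 2 0 * M 0 2 = M 1 1 := by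
    have h := congrFun (congrFun hS 1) 1
    simp only [Cfsg.Lie.star4, Cfsg.Lie.pairOf, Matrix.of_apply, Matrix.map_apply] at h
    have h' := hsq (M 1 1)
    simp at h
    linear_combination h + h'
  have Q11 := congrArg toB q11
  simp only [toB_sub h01 h2, toB_mul h01] at Q11
  have q12 : M 0 1 * M 2 3 - M 2 1 * M 0 3 = M 1 2 := by
    have h := congrFun (congrFun hS 1) 2
    simp only [Cfsg.Lie.star4, Cfsg.Lie.pairOf, Matrix.of_apply, Matrix.map_apply] at h
    have h' := hsq (M 1 2)
    simp at h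
    linear_combination h + h'
  have Q12 := congrArg toB q12
  simp only [toB_sub h01 h2, toB_mul h01] at Q12
  have q13 : M 0 2 * M 2 3 - M 2 2 * M 0 3 = M 1 3 := by
    have h := congrFun (congrFun hS 1) 3
    simp only [Cfsg.Lie.star4, Cfsg.Lie.pairOf, Matrix.of_apply, Matrix.map_apply] at h
    have h' := hsq (M 1 3)
    simp at h
    linear_combination h + h'
  have Q13 := congrArg toB q13
  simp only [toB_sub h01 h2, toB_mul h01] at Q13
  have q20 : M 1 0 * M 3 1 - M 3 0 * M 1 1 = M 2 0 := by
    have h := congrFun (congrFun hS 2) 0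
    simp only [Cfsg.Lie.star4, Cfsg.Lie.pairOf, Matrix.of_apply, Matrix.map_apply] at h
    have h' := hsq (M 2 0)
    simp at h
    linear_combination h + h'
  have Q20 := congrArg toB q20
  simp only [toB_sub h01 h2, toB_mul h01] at Q20
  have q21 : M 1 0 * M 3 2 - M 3 0 * M 1 2 = M 2 1 := by
    have h := congrFun (congrFun hS 2) 1
    simp only [Cfsg.Lie.star4, Cfsg.Lie.pairOf, Matrix.of_apply, Matrix.map_apply] at h
    have h' := hsq (M 2 1)
    simp at h
    linear_combination h + h'
  have Q21 := congrArg toB q21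
  simp only [toB_sub h01 h2, toB_mul h01] at Q21
  have q22 : M 1 1 * M 3 3 - M 3 1 * M 1 3 = M 2 2 := by
    have h := congrFun (congrFun hS 2) 2
    simp only [Cfsg.Lie.star4, Cfsg.Lie.pairOf, Matrix.of_apply, Matrix.map_apply] at h
    have h' := hsq (M 2 2)
    simp at h
    linear_combination h + h'
  have Q22 := congrArg toB q22
  simp only [toB_sub h01 h2, toB_mul h01] at Q22
  have q23 : M 1 2 * M 3 3 - M 3 2 * M 1 3 = M 2 3 := by
    have h := congrFun (congrFun hS 2) 3
    simp only [Cfsg.Lie.star4, Cfsg.Lie.pairOf, Matrix.of_apply, Matrix.map_apply] at h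
    have h' := hsq (M 2 3)
    simp at h
    linear_combination h + h'
  have Q23 := congrArg toB q23
  simp only [toB_sub h01 h2, toB_mul h01] at Q23
  have q30 : M 2 0 * M 3 1 - M 3 0 * M 2 1 = M 3 0 := by
    have h := congrFun (congrFun hS 3) 0
    simp only [Cfsg.Lie.star4, Cfsg.Lie.pairOf, Matrix.of_apply, Matrix.map_apply] at h
    have h' := hsq (M 3 0)
    simp at h
    linear_combination h + h'
  have Q30 := congrArg toB q30
  simp only [toB_sub h01 h2, toB_mul h01] at Q30
  have q31 : M 2 0 * M 3 2 - M 3 0 * M 2 2 = M 3 1 := by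
    have h := congrFun (congrFun hS 3) 1
    simp only [Cfsg.Lie.star4, Cfsg.Lie.pairOf, Matrix.of_apply, Matrix.map_apply] at h
    have h' := hsq (M 3 1)
    simp at h
    linear_combination h + h'
  have Q31 := congrArg toB q31
  simp only [toB_sub h01 h2, toB_mul h01] at Q31
  have q32 : M 2 1 * M 3 3 - M 3 1 * M 2 3 = M 3 2 := by
    have h := congrFun (congrFun hS 3) 2
    simp only [Cfsg.Lie.star4, Cfsg.Lie.pairOf, Matrix.of_apply, Matrix.map_apply] at h
    have h' := hsq (M 3 2)
    simp at h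
    linear_combination h + h'
  have Q32 := congrArg toB q32
  simp only [toB_sub h01 h2, toB_mul h01] at Q32
  have q33 : M 2 2 * M 3 3 - M 3 2 * M 2 3 = M 3 3 := by
    have h := congrFun (congrFun hS 3) 3
    simp only [Cfsg.Lie.star4, Cfsg.Lie.pairOf, Matrix.of_apply, Matrix.map_apply] at h
    have h' := hsq (M 3 3)
    simp at h
    linear_combination h + h'
  have Q33 := congrArg toB q33
  simp only [toB_sub h01 h2, toB_mul h01] at Q33
  rcases sz2_bf (toB (M 0 0)) (toB (M 0 1)) (toB (M 0 2)) (toB (M 0 3)) (toB (M 1 0)) (toB (M 1 1)) (toB (M 1 2)) (toB (M 1 3)) (toB (M 2 0)) (toB (M 2 1)) (toB (M 2 2)) (toB (M 2 3)) (toB (M 3 0)) (toB (M 3 1)) (toB (M 3 2)) (toB (M 3 3))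
    ⟨P00, P01, P02, P03, P11, P12, P13, P22, P23, P33, Q00, Q01, Q02, Q03, Q10, Q11, Q12, Q13, Q20, Q21, Q22, Q23, Q30, Q31, Q32, Q33⟩ with h | h | h | h
  · obtain ⟨e00, e01, e02, e03, e10, e11, e12, e13, e20, e21, e22, e23, e30, e31, e32, e33⟩ := h
    have f00 : M 0 3 = M 3 0 := toB_inj h01 (by first | (simp only [toB_add h01 h2]; exact e00) | exact e00)
    have f01 : M 0 2 = M 3 1 := toB_inj h01 (by first | (simp only [toB_add h01 h2]; exact e01) | exact e01)
    have f02 : M 0 1 + M 0 3 = M 3 2 := toB_inj h01 (by first | (simp only [toB_add h01 h2]; exact e02) | exact e02)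
    have f03 : M 0 0 + M 0 2 + M 0 3 = M 3 3 := toB_inj h01 (by first | (simp only [toB_add h01 h2]; exact e03) | exact e03)
    have f10 : M 1 3 = M 2 0 := toB_inj h01 (by first | (simp only [toB_add h01 h2]; exact e10) | exact e10)
    have f11 : M 1 2 = M 2 1 := toB_inj h01 (by first | (simp only [toB_add h01 h2]; exact e11) | exact e11)
    have f12 : M 1 1 + M 1 3 = M 2 2 := toB_inj h01 (by first | (simp only [toB_add h01 h2]; exact e12) | exact e12)
    have f13 : M 1 0 + M 1 2 + M 1 3 = M 2 3 := toB_inj h01 (by first | (simp only [toB_add h01 h2]; exact e13) | exact e13)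
    have f20 : M 2 3 = M 1 0 + M 3 0 := toB_inj h01 (by first | (simp only [toB_add h01 h2]; exact e20) | exact e20)
    have f21 : M 2 2 = M 1 1 + M 3 1 := toB_inj h01 (by first | (simp only [toB_add h01 h2]; exact e21) | exact e21)
    have f22 : M 2 1 + M 2 3 = M 1 2 + M 3 2 := toB_inj h01 (by first | (simp only [toB_add h01 h2]; exact e22) | exact e22)
    have f23 : M 2 0 + M 2 2 + M 2 3 = M 1 3 + M 3 3 := toB_inj h01 (by first | (simp only [toB_add h01 h2]; exact e23) | exact e23)
    have f30 : M 3 3 = M 0 0 + M 2 0 + M 3 0 := toB_inj h01 (by first | (simp only [toB_add h01 h2]; exact e30) | exact e30)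
    have f31 : M 3 2 = M 0 1 + M 2 1 + M 3 1 := toB_inj h01 (by first | (simp only [toB_add h01 h2]; exact e31) | exact e31)
    have f32 : M 3 1 + M 3 3 = M 0 2 + M 2 2 + M 3 2 := toB_inj h01 (by first | (simp only [toB_add h01 h2]; exact e32) | exact e32)
    have f33 : M 3 0 + M 3 2 + M 3 3 = M 0 3 + M 2 3 + M 3 3 := toB_inj h01 (by first | (simp only [toB_add h01 h2]; exact e33) | exact e33)
    left
    apply ext16
    · simp [Matrix.mul_apply, Fin.sum_univ_four, s1M, s1M] <;> linear_combination f00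
    · simp [Matrix.mul_apply, Fin.sum_univ_four, s1M, s1M] <;> linear_combination f01
    · simp [Matrix.mul_apply, Fin.sum_univ_four, s1M, s1M] <;> linear_combination f02
    · simp [Matrix.mul_apply, Fin.sum_univ_four, s1M, s1M] <;> linear_combination f03
    · simp [Matrix.mul_apply, Fin.sum_univ_four, s1M, s1M] <;> linear_combination f10
    · simp [Matrix.mul_apply, Fin.sum_univ_four, s1M, s1M] <;> linear_combination f11
    · simp [Matrix.mul_apply, Fin.sum_univ_four, s1M, s1M] <;> linear_combination f12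
    · simp [Matrix.mul_apply, Fin.sum_univ_four, s1M, s1M] <;> linear_combination f13
    · simp [Matrix.mul_apply, Fin.sum_univ_four, s1M, s1M] <;> linear_combination f20
    · simp [Matrix.mul_apply, Fin.sum_univ_four, s1M, s1M] <;> linear_combination f21
    · simp [Matrix.mul_apply, Fin.sum_univ_four, s1M, s1M] <;> linear_combination f22
    · simp [Matrix.mul_apply, Fin.sum_univ_four, s1M, s1M] <;> linear_combination f23
    · simp [Matrix.mul_apply, Fin.sum_univ_four, s1M, s1M] <;> linear_combination f30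
    · simp [Matrix.mul_apply, Fin.sum_univ_four, s1M, s1M] <;> linear_combination f31
    · simp [Matrix.mul_apply, Fin.sum_univ_four, s1M, s1M] <;> linear_combination f32
    · simp [Matrix.mul_apply, Fin.sum_univ_four, s1M, s1M] <;> linear_combination f33
  · obtain ⟨e00, e01, e02, e03, e10, e11, e12, e13, e20, e21, e22, e23, e30, e31, e32, e33⟩ := h
    have f00 : M 0 3 = M 0 0 + M 2 0 + M 3 0 := toB_inj h01 (by first | (simp only [toB_add h01 h2]; exact e00) | exact e00)
    have f01 : M 0 2 = M 0 1 + M 2 1 + M 3 1 := toB_inj h01 (by first | (simp only [toB_add h01 h2]; exact e01) | exact e01)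
    have f02 : M 0 1 + M 0 3 = M 0 2 + M 2 2 + M 3 2 := toB_inj h01 (by first | (simp only [toB_add h01 h2]; exact e02) | exact e02)
    have f03 : M 0 0 + M 0 2 + M 0 3 = M 0 3 + M 2 3 + M 3 3 := toB_inj h01 (by first | (simp only [toB_add h01 h2]; exact e03) | exact e03)
    have f10 : M 1 3 = M 1 0 + M 3 0 := toB_inj h01 (by first | (simp only [toB_add h01 h2]; exact e10) | exact e10)
    have f11 : M 1 2 = M 1 1 + M 3 1 := toB_inj h01 (by first | (simp only [toB_add h01 h2]; exact e11) | exact e11)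
    have f12 : M 1 1 + M 1 3 = M 1 2 + M 3 2 := toB_inj h01 (by first | (simp only [toB_add h01 h2]; exact e12) | exact e12)
    have f13 : M 1 0 + M 1 2 + M 1 3 = M 1 3 + M 3 3 := toB_inj h01 (by first | (simp only [toB_add h01 h2]; exact e13) | exact e13)
    have f20 : M 2 3 = M 0 0 + M 3 0 := toB_inj h01 (by first | (simp only [toB_add h01 h2]; exact e20) | exact e20)
    have f21 : M 2 2 = M 0 1 + M 3 1 := toB_inj h01 (by first | (simp only [toB_add h01 h2]; exact e21) | exact e21)
    have f22 : M 2 1 + M 2 3 = M 0 2 + M 3 2 := toB_inj h01 (by first | (simp only [toB_add h01 h2]; exact e22) | exact e22)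
    have f23 : M 2 0 + M 2 2 + M 2 3 = M 0 3 + M 3 3 := toB_inj h01 (by first | (simp only [toB_add h01 h2]; exact e23) | exact e23)
    have f30 : M 3 3 = M 0 0 + M 1 0 + M 2 0 + M 3 0 := toB_inj h01 (by first | (simp only [toB_add h01 h2]; exact e30) | exact e30)
    have f31 : M 3 2 = M 0 1 + M 1 1 + M 2 1 + M 3 1 := toB_inj h01 (by first | (simp only [toB_add h01 h2]; exact e31) | exact e31)
    have f32 : M 3 1 + M 3 3 = M 0 2 + M 1 2 + M 2 2 + M 3 2 := toB_inj h01 (by first | (simp only [toB_add h01 h2]; exact e32) | exact e32)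
    have f33 : M 3 0 + M 3 2 + M 3 3 = M 0 3 + M 1 3 + M 2 3 + M 3 3 := toB_inj h01 (by first | (simp only [toB_add h01 h2]; exact e33) | exact e33)
    right; left
    apply ext16
    · simp [Matrix.mul_apply, Fin.sum_univ_four, s1M, s2M] <;> linear_combination f00
    · simp [Matrix.mul_apply, Fin.sum_univ_four, s1M, s2M] <;> linear_combination f01
    · simp [Matrix.mul_apply, Fin.sum_univ_four, s1M, s2M] <;> linear_combination f02
    · simp [Matrix.mul_apply, Fin.sum_univ_four, s1M, s2M] <;> linear_combination f03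
    · simp [Matrix.mul_apply, Fin.sum_univ_four, s1M, s2M] <;> linear_combination f10
    · simp [Matrix.mul_apply, Fin.sum_univ_four, s1M, s2M] <;> linear_combination f11
    · simp [Matrix.mul_apply, Fin.sum_univ_four, s1M, s2M] <;> linear_combination f12
    · simp [Matrix.mul_apply, Fin.sum_univ_four, s1M, s2M] <;> linear_combination f13
    · simp [Matrix.mul_apply, Fin.sum_univ_four, s1M, s2M] <;> linear_combination f20
    · simp [Matrix.mul_apply, Fin.sum_univ_four, s1M, s2M] <;> linear_combination f21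
    · simp [Matrix.mul_apply, Fin.sum_univ_four, s1M, s2M] <;> linear_combination f22
    · simp [Matrix.mul_apply, Fin.sum_univ_four, s1M, s2M] <;> linear_combination f23
    · simp [Matrix.mul_apply, Fin.sum_univ_four, s1M, s2M] <;> linear_combination f30
    · simp [Matrix.mul_apply, Fin.sum_univ_four, s1M, s2M] <;> linear_combination f31
    · simp [Matrix.mul_apply, Fin.sum_univ_four, s1M, s2M] <;> linear_combination f32
    · simp [Matrix.mul_apply, Fin.sum_univ_four, s1M, s2M] <;> linear_combination f33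
  · obtain ⟨e00, e01, e02, e03, e10, e11, e12, e13, e20, e21, e22, e23, e30, e31, e32, e33⟩ := h
    have f00 : M 0 3 = M 0 0 + M 1 0 + M 2 0 + M 3 0 := toB_inj h01 (by first | (simp only [toB_add h01 h2]; exact e00) | exact e00)
    have f01 : M 0 2 = M 0 1 + M 1 1 + M 2 1 + M 3 1 := toB_inj h01 (by first | (simp only [toB_add h01 h2]; exact e01) | exact e01)
    have f02 : M 0 1 + M 0 3 = M 0 2 + M 1 2 + M 2 2 + M 3 2 := toB_inj h01 (by first | (simp only [toB_add h01 h2]; exact e02) | exact e02)
    have f03 : M 0 0 + M 0 2 + M 0 3 = M 0 3 + M 1 3 + M 2 3 + M 3 3 := toB_inj h01 (by first | (simp only [toB_add h01 h2]; exact e03) | exact e03)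
    have f10 : M 1 3 = M 0 0 + M 3 0 := toB_inj h01 (by first | (simp only [toB_add h01 h2]; exact e10) | exact e10)
    have f11 : M 1 2 = M 0 1 + M 3 1 := toB_inj h01 (by first | (simp only [toB_add h01 h2]; exact e11) | exact e11)
    have f12 : M 1 1 + M 1 3 = M 0 2 + M 3 2 := toB_inj h01 (by first | (simp only [toB_add h01 h2]; exact e12) | exact e12)
    have f13 : M 1 0 + M 1 2 + M 1 3 = M 0 3 + M 3 3 := toB_inj h01 (by first | (simp only [toB_add h01 h2]; exact e13) | exact e13)
    have f20 : M 2 3 = M 0 0 + M 2 0 := toB_inj h01 (by first | (simp only [toB_add h01 h2]; exact e20) | exact e20)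
    have f21 : M 2 2 = M 0 1 + M 2 1 := toB_inj h01 (by first | (simp only [toB_add h01 h2]; exact e21) | exact e21)
    have f22 : M 2 1 + M 2 3 = M 0 2 + M 2 2 := toB_inj h01 (by first | (simp only [toB_add h01 h2]; exact e22) | exact e22)
    have f23 : M 2 0 + M 2 2 + M 2 3 = M 0 3 + M 2 3 := toB_inj h01 (by first | (simp only [toB_add h01 h2]; exact e23) | exact e23)
    have f30 : M 3 3 = M 0 0 + M 1 0 + M 3 0 := toB_inj h01 (by first | (simp only [toB_add h01 h2]; exact e30) | exact e30)
    have f31 : M 3 2 = M 0 1 + M 1 1 + M 3 1 := toB_inj h01 (by first | (simp only [toB_add h01 h2]; exact e31) | exact e31)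
    have f32 : M 3 1 + M 3 3 = M 0 2 + M 1 2 + M 3 2 := toB_inj h01 (by first | (simp only [toB_add h01 h2]; exact e32) | exact e32)
    have f33 : M 3 0 + M 3 2 + M 3 3 = M 0 3 + M 1 3 + M 3 3 := toB_inj h01 (by first | (simp only [toB_add h01 h2]; exact e33) | exact e33)
    right; right; left
    apply ext16
    · simp [Matrix.mul_apply, Fin.sum_univ_four, s1M, s3M] <;> linear_combination f00
    · simp [Matrix.mul_apply, Fin.sum_univ_four, s1M, s3M] <;> linear_combination f01
    · simp [Matrix.mul_apply, Fin.sum_univ_four, s1M, s3M] <;> linear_combination f02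
    · simp [Matrix.mul_apply, Fin.sum_univ_four, s1M, s3M] <;> linear_combination f03
    · simp [Matrix.mul_apply, Fin.sum_univ_four, s1M, s3M] <;> linear_combination f10
    · simp [Matrix.mul_apply, Fin.sum_univ_four, s1M, s3M] <;> linear_combination f11
    · simp [Matrix.mul_apply, Fin.sum_univ_four, s1M, s3M] <;> linear_combination f12
    · simp [Matrix.mul_apply, Fin.sum_univ_four, s1M, s3M] <;> linear_combination f13
    · simp [Matrix.mul_apply, Fin.sum_univ_four, s1M, s3M] <;> linear_combination f20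
    · simp [Matrix.mul_apply, Fin.sum_univ_four, s1M, s3M] <;> linear_combination f21
    · simp [Matrix.mul_apply, Fin.sum_univ_four, s1M, s3M] <;> linear_combination f22
    · simp [Matrix.mul_apply, Fin.sum_univ_four, s1M, s3M] <;> linear_combination f23
    · simp [Matrix.mul_apply, Fin.sum_univ_four, s1M, s3M] <;> linear_combination f30
    · simp [Matrix.mul_apply, Fin.sum_univ_four, s1M, s3M] <;> linear_combination f31
    · simp [Matrix.mul_apply, Fin.sum_univ_four, s1M, s3M] <;> linear_combination f32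
    · simp [Matrix.mul_apply, Fin.sum_univ_four, s1M, s3M] <;> linear_combination f33
  · obtain ⟨e00, e01, e02, e03, e10, e11, e12, e13, e20, e21, e22, e23, e30, e31, e32, e33⟩ := h
    have f00 : M 0 3 = M 0 0 + M 1 0 + M 3 0 := toB_inj h01 (by first | (simp only [toB_add h01 h2]; exact e00) | exact e00)
    have f01 : M 0 2 = M 0 1 + M 1 1 + M 3 1 := toB_inj h01 (by first | (simp only [toB_add h01 h2]; exact e01) | exact e01)
    have f02 : M 0 1 + M 0 3 = M 0 2 + M 1 2 + M 3 2 := toB_inj h01 (by first | (simp only [toB_add h01 h2]; exact e02) | exact e02)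
    have f03 : M 0 0 + M 0 2 + M 0 3 = M 0 3 + M 1 3 + M 3 3 := toB_inj h01 (by first | (simp only [toB_add h01 h2]; exact e03) | exact e03)
    have f10 : M 1 3 = M 0 0 + M 2 0 := toB_inj h01 (by first | (simp only [toB_add h01 h2]; exact e10) | exact e10)
    have f11 : M 1 2 = M 0 1 + M 2 1 := toB_inj h01 (by first | (simp only [toB_add h01 h2]; exact e11) | exact e11)
    have f12 : M 1 1 + M 1 3 = M 0 2 + M 2 2 := toB_inj h01 (by first | (simp only [toB_add h01 h2]; exact e12) | exact e12)
    have f13 : M 1 0 + M 1 2 + M 1 3 = M 0 3 + M 2 3 := toB_inj h01 (by first | (simp only [toB_add h01 h2]; exact e13) | exact e13)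
    have f20 : M 2 3 = M 1 0 := toB_inj h01 (by first | (simp only [toB_add h01 h2]; exact e20) | exact e20)
    have f21 : M 2 2 = M 1 1 := toB_inj h01 (by first | (simp only [toB_add h01 h2]; exact e21) | exact e21)
    have f22 : M 2 1 + M 2 3 = M 1 2 := toB_inj h01 (by first | (simp only [toB_add h01 h2]; exact e22) | exact e22)
    have f23 : M 2 0 + M 2 2 + M 2 3 = M 1 3 := toB_inj h01 (by first | (simp only [toB_add h01 h2]; exact e23) | exact e23)
    have f30 : M 3 3 = M 0 0 := toB_inj h01 (by first | (simp only [toB_add h01 h2]; exact e30) | exact e30)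
    have f31 : M 3 2 = M 0 1 := toB_inj h01 (by first | (simp only [toB_add h01 h2]; exact e31) | exact e31)
    have f32 : M 3 1 + M 3 3 = M 0 2 := toB_inj h01 (by first | (simp only [toB_add h01 h2]; exact e32) | exact e32)
    have f33 : M 3 0 + M 3 2 + M 3 3 = M 0 3 := toB_inj h01 (by first | (simp only [toB_add h01 h2]; exact e33) | exact e33)
    right; right; right
    apply ext16
    · simp [Matrix.mul_apply, Fin.sum_univ_four, s1M, s4M] <;> linear_combination f00
    · simp [Matrix.mul_apply, Fin.sum_univ_four, s1M, s4M] <;> linear_combination f01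
    · simp [Matrix.mul_apply, Fin.sum_univ_four, s1M, s4M] <;> linear_combination f02
    · simp [Matrix.mul_apply, Fin.sum_univ_four, s1M, s4M] <;> linear_combination f03
    · simp [Matrix.mul_apply, Fin.sum_univ_four, s1M, s4M] <;> linear_combination f10
    · simp [Matrix.mul_apply, Fin.sum_univ_four, s1M, s4M] <;> linear_combination f11
    · simp [Matrix.mul_apply, Fin.sum_univ_four, s1M, s4M] <;> linear_combination f12
    · simp [Matrix.mul_apply, Fin.sum_univ_four, s1M, s4M] <;> linear_combination f13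
    · simp [Matrix.mul_apply, Fin.sum_univ_four, s1M, s4M] <;> linear_combination f20
    · simp [Matrix.mul_apply, Fin.sum_univ_four, s1M, s4M] <;> linear_combination f21
    · simp [Matrix.mul_apply, Fin.sum_univ_four, s1M, s4M] <;> linear_combination f22
    · simp [Matrix.mul_apply, Fin.sum_univ_four, s1M, s4M] <;> linear_combination f23
    · simp [Matrix.mul_apply, Fin.sum_univ_four, s1M, s4M] <;> linear_combination f30
    · simp [Matrix.mul_apply, Fin.sum_univ_four, s1M, s4M] <;> linear_combination f31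
    · simp [Matrix.mul_apply, Fin.sum_univ_four, s1M, s4M] <;> linear_combination f32
    · simp [Matrix.mul_apply, Fin.sum_univ_four, s1M, s4M] <;> linear_combination f33

end

end Cfsg.Agent.Lib.Lead.FrakL
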