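import Mathlib
import Cfsg.Agent.Lib.Lead.FrakL1
import Cfsg.Agent.Lib.Helper3.Sz21
import Cfsg.Agent.Lib.Helper3.Sz25

set_option autoImplicit false
set_option linter.unusedSectionVars false

/-!
The Suzuki case (`q > 2`): an elementary abelian `2`-subgroup of order `q` of `Sz(q)` is conjugate
to the centre `Z` of the standard Sylow `2`-subgroup `U`; `N(Z)` is the Borel subgroup, whose torus
is transitive on `Z ∖ 1`.
-/

namespace Cfsg.Agent.Lib.Lead.FrakL

open Cfsg Cfsg.Agent.Lib.Helper3.Sz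

section
variable {F : Type*} [Field F] [CharP F 2] (T : Tits F)

/-- the centre `Z` of `U` -/
abbrev Zc : Subgroup (Gam T) := Esub T ⊤

theorem mem_Zc {g : Gam T} : g ∈ Zc T ↔ ∃ b, g = uG T 0 b := by
  constructor
  · rintro ⟨b, _, rfl⟩; exact ⟨b, rfl⟩
  · rintro ⟨b, rfl⟩; exact ⟨b, AddSubgroup.mem_top b, rfl⟩

theorem card_Zc : Nat.card (Zc T) = Nat.card F := by
  rw [card_Esub]
  exact Nat.card_congr (AddSubgroup.topEquiv (G := F)).toEquiv

theorem uG_sq_eq_one {a b : F} (h : uG T a b ^ 2 = 1) : a = 0 := by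
  rw [uG_sq, uG_eq_one_iff] at h
  rcases mul_eq_zero.mp h.2 with h | h
  · exact h
  · exact T.eq_zero_iff.mp h

theorem normalizer_Zc [Fintype F] (hT : T.IsPow) :
    Subgroup.normalizer (Zc T : Set (Gam T)) = Borel T := by
  apply le_antisymm
  · intro g hg
    rw [Subgroup.mem_normalizer_iff] at hg
    by_contra hgB
    have h1 : g • oInf T ≠ oInf T := hgB
    have h2 : g⁻¹ * uG T 0 1 * g ∈ Zc T := by
      have := (hg (g⁻¹ * uG T 0 1 * g)).mpr (by
        have : g * (g⁻¹ * uG T 0 1 * g) * g⁻¹ = uG T 0 1 := by group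
        rw [this]; exact (mem_Zc T).mpr ⟨1, rfl⟩)
      exact this
    obtain ⟨b, hb⟩ := (mem_Zc T).mp h2
    have h3 : uG T 0 1 • (g • oInf T) = g • oInf T := by
      have : uG T 0 1 * g = g * uG T 0 b := by rw [← hb]; group
      rw [← mul_smul, this, mul_smul, uG_smul_oInf]
    have := (uG_fix T h3 h1).2
    exact one_ne_zero this
  · intro g hg
    have key : ∀ g ∈ Borel T, ∀ z ∈ Zc T, g * z * g⁻¹ ∈ Zc T := by
      intro g hg z hz
      obtain ⟨a, b, k, rfl⟩ := borel_decomp T hT hg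
      obtain ⟨d, rfl⟩ := (mem_Zc T).mp hz
      rw [borel_conj_center]
      exact (mem_Zc T).mpr ⟨_, rfl⟩
    rw [Subgroup.mem_normalizer_iff]
    intro z
    constructor
    · exact key g hg z
    · intro hz
      have := key g⁻¹ ((Borel T).inv_mem hg) _ hz
      have e : g⁻¹ * (g * z * g⁻¹) * g⁻¹⁻¹ = z := by group
      rwa [e] at this

theorem uniqEA_Zc [Fintype F] (hT : T.IsPow) : UniqEA 2 (Zc T) := by
  intro V hVN hNV hVea hV1
  rw [normalizer_Zc T hT] at hVN hNV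
  have hVZ : V ≤ Zc T := by
    intro v hv
    obtain ⟨a, b, k, rfl⟩ := borel_decomp T hT (hVN hv)
    have hsq : (uG T a b * hG T k) ^ 2 = 1 := hVea.2 _ hv
    have e : (uG T a b * hG T k) ^ 2 =
        uG T a b * uG T ((k : F) ^ 2 * a) (T.θ k ^ 2 * (k : F) ^ 2 * b) * hG T (k * k) := by
      rw [pow_two, mul_assoc, ← mul_assoc (hG T k), hG_mul_uG, mul_assoc, mul_assoc, hG_mul,
        ← mul_assoc]
    rw [uG_mul] at e
    have h1 : uG T (a + (k : F) ^ 2 * a) (b + T.θ k ^ 2 * (k : F) ^ 2 * b + T.θ a * ((k : F) ^ 2 * a)) *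
        hG T (k * k) = uG T 0 0 * hG T 1 := by
      rw [← e, hsq, uG_zero, hG_one, mul_one]
    obtain ⟨_, _, hk⟩ := uG_mul_hG_injective T h1
    have hk1 : k = 1 := by
      apply Units.ext
      have : (k : F) ^ 2 = 1 := by
        rw [pow_two, ← Units.val_mul, hk, Units.val_one]
      exact sq_eq_one_iff.mp this
    rw [hk1, hG_one, mul_one] at hsq ⊢
    have ha := uG_sq_eq_one T hsq
    rw [ha]
    exact (mem_Zc T).mpr ⟨b, rfl⟩
  apply le_antisymm hVZ
  obtain ⟨⟨v, hv⟩, hv1⟩ := (Subgroup.ne_bot_iff_exists_ne_one).mp hV1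
  obtain ⟨b, rfl⟩ := (mem_Zc T).mp (hVZ hv)
  have hb0 : b ≠ 0 := by
    rintro rfl
    exact hv1 (Subtype.ext (uG_zero T))
  intro z hz
  obtain ⟨c, rfl⟩ := (mem_Zc T).mp hz
  by_cases hc : c = 0
  · rw [hc, uG_zero]; exact V.one_mem
  · obtain ⟨s, hs⟩ := exists_sq (F := F) (c / b)
    obtain ⟨x, hx⟩ := T.norm_surjective s
    have hx0 : x ≠ 0 := by
      rintro rfl
      rw [zero_mul] at hx
      rw [← hx] at hs
      have : c / b = 0 := by rw [← hs]; ring
      rcases div_eq_zero_iff.mp this with h | h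
      · exact hc h
      · exact hb0 h
    have hmem := hNV (hG_mem_Borel T (Units.mk0 x hx0))
    have h2 := (Subgroup.mem_normalizer_iff.mp hmem (uG T 0 b)).mp hv
    have e := borel_conj_center T 0 0 (Units.mk0 x hx0) b
    rw [uG_zero, one_mul] at e
    rw [e, Units.val_mk0] at h2
    have e2 : T.θ x ^ 2 * x ^ 2 * b = c := by
      have h3 : T.θ x ^ 2 * x ^ 2 = s ^ 2 := by rw [← hx]; ring
      rw [h3, hs]
      field_simp
    rwa [e2] at h2

theorem uniqEA_Gam [Fintype F] (hT : T.IsPow) (E : Subgroup (Gam T))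
    (hE : IsElementaryAbelian 2 E) (hcard : Nat.card E = Nat.card F) : UniqEA 2 E := by
  haveI : Fact (Nat.Prime 2) := ⟨Nat.prime_two⟩
  have hEp : IsPGroup 2 E := by
    intro a
    refine ⟨1, ?_⟩
    apply Subtype.ext
    have := hE.2 a.1 a.2
    simpa using this
  obtain ⟨P, hP⟩ := hEp.exists_le_sylow
  obtain ⟨g, hg⟩ := exists_conj_sylow T hT P
  have hle : E.map (MulAut.conj g⁻¹).toMonoidHom ≤ Zc T := by
    rintro _ ⟨e, he, rfl⟩
    have h1 : e ∈ (Usub T).map (MulAut.conj g).toMonoidHom := hg ▸ hP he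
    obtain ⟨u, hu, hue⟩ := h1
    obtain ⟨a, b, rfl⟩ := hu
    have hue' : g * uG T a b * g⁻¹ = e := hue
    have h2 : (MulAut.conj g⁻¹).toMonoidHom e = uG T a b := by
      show g⁻¹ * e * g⁻¹⁻¹ = uG T a b
      rw [← hue']; group
    have h3 : uG T a b ^ 2 = 1 := by
      have h4 := hE.2 e he
      rw [← hue'] at h4
      have h5 : (g * uG T a b * g⁻¹) ^ 2 = g * uG T a b ^ 2 * g⁻¹ := by
        rw [pow_two, pow_two]; group
      rw [h5] at h4
      have h6 : uG T a b ^ 2 = g⁻¹ * (g * uG T a b ^ 2 * g⁻¹) * g := by group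
      rw [h6, h4]; group
    rw [h2, uG_sq_eq_one T h3]
    exact (mem_Zc T).mpr ⟨b, rfl⟩
  have hcard' : Nat.card (E.map (MulAut.conj g⁻¹).toMonoidHom) = Nat.card (Zc T) := by
    rw [card_Zc, ← hcard]
    exact (Nat.card_congr (E.equivMapOfInjective _ (MulAut.conj g⁻¹).injective).toEquiv).symm
  have heq : E.map (MulAut.conj g⁻¹).toMonoidHom = Zc T :=
    Subgroup.eq_of_le_of_card_ge hle (by rw [hcard'])
  apply UniqEA.of_map_conj g⁻¹
  rw [heq]
  exact uniqEA_Zc T hT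

end

/-- The Suzuki case, `m ≥ 1`. -/
theorem uniqEA_lieSz {F : Type*} [Field F] [Fintype F] {m : ℕ} (hm : 1 ≤ m)
    (hF : Fintype.card F = 2 ^ (2 * m + 1))
    (E : Subgroup ↥(Cfsg.Lie.Sz F (2 ^ (m + 1)))) (hE : IsElementaryAbelian 2 E)
    (hcard : Nat.card E = Fintype.card F) : UniqEA 2 E := by
  haveI : CharP F 2 := charP_two_of_card hF
  have hT : (titsOfCard hF).IsPow := titsOfCard_isPow hm hF
  have heq : Cfsg.Lie.Sz F (2 ^ (m + 1)) = GamGL (titsOfCard hF) :=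
    lieSz_eq (titsOfCard hF) hT (titsOfCard_apply hF)
  let ψ : ↥(Cfsg.Lie.Sz F (2 ^ (m + 1))) ≃* Gam (titsOfCard hF) :=
    (MulEquiv.subgroupCongr heq).trans (gamEquiv (titsOfCard hF)).symm
  apply UniqEA.of_map_equiv ψ
  apply uniqEA_Gam (titsOfCard hF) hT
  · exact Cfsg.Agent.Lib.Helper9.isElementaryAbelian_map hE _
  · rw [Nat.card_eq_fintype_card (α := F), ← hcard]
    exact (Nat.card_congr (E.equivMapOfInjective _ ψ.injective).toEquiv).symm

end Cfsg.Agent.Lib.Lead.FrakL
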