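import Mathlib
import Cfsg.Agent.Lib.Lead.FrakL5
import Cfsg.Agent.Lib.Helper3.Sz21

set_option autoImplicit false

/-!
The case `Sz(2)`: the group normalizes a subgroup of order five, and the elements inverting or
centralizing it form a proper normal subgroup containing all involutions.  Hence no subgroup of
exponent two has normal closure the whole group.
-/

namespace Cfsg.Agent.Lib.Lead.FrakL

open Cfsg

theorem mem_normalizer_of_conj_mem {Γ : Type*} [Group Γ] (P : Subgroup Γ) [Finite P] (g : Γ)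
    (h : ∀ x ∈ P, g * x * g⁻¹ ∈ P) : g ∈ Subgroup.normalizer (P : Set Γ) := by
  rw [Subgroup.mem_normalizer_iff]
  intro x
  refine ⟨h x, fun hx => ?_⟩
  let f : P → P := fun y => ⟨g * y * g⁻¹, h y y.2⟩
  have finj : Function.Injective f := by
    intro a b hab
    have h1 : g * (a : Γ) * g⁻¹ = g * (b : Γ) * g⁻¹ := congrArg Subtype.val hab
    exact Subtype.ext (mul_left_cancel (mul_right_cancel h1))
  obtain ⟨y, hy⟩ := (Finite.injective_iff_surjective.mp finj) ⟨g * x * g⁻¹, hx⟩
  have h1 : g * (y : Γ) * g⁻¹ = g * x * g⁻¹ := congrArg Subtype.val hy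
  have h2 : (y : Γ) = x := mul_left_cancel (mul_right_cancel h1)
  exact h2 ▸ y.2

theorem normalClosure_ne_top_of_order_five {Γ : Type*} [Group Γ] (s u : Γ) (hs : orderOf s = 5)
    (S : Set Γ)
    (hS : ∀ g ∈ S, g ∈ Subgroup.normalizer ((Subgroup.zpowers s : Subgroup Γ) : Set Γ))
    (hu : u ∈ S) (hus : u * s * u⁻¹ = s ^ 2)
    (E' : Subgroup ↥(Subgroup.closure S)) (hE : ∀ e ∈ E', e ^ 2 = 1) :
    Subgroup.normalClosure (E' : Set ↥(Subgroup.closure S)) ≠ ⊤ := by
  have hHK : Subgroup.closure S ≤ Subgroup.normalizer ((Subgroup.zpowers s : Subgroup Γ) : Set Γ) :=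
    (Subgroup.closure_le _).mpr hS
  have hs5 : s ^ 5 = 1 := by rw [← hs]; exact pow_orderOf_eq_one s
  have hs5z : s ^ (5 : ℤ) = 1 := by exact_mod_cast hs5
  have hs1 : s ≠ 1 := by
    intro h
    rw [h, orderOf_one] at hs
    norm_num at hs
  have hconj : ∀ g ∈ Subgroup.normalizer ((Subgroup.zpowers s : Subgroup Γ) : Set Γ),
      ∃ n : ℤ, g * s * g⁻¹ = s ^ n := by
    intro g hg
    have := (Subgroup.mem_normalizer_iff.mp hg s).mp (Subgroup.mem_zpowers s)
    obtain ⟨n, hn⟩ := Subgroup.mem_zpowers_iff.mp this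
    exact ⟨n, hn.symm⟩
  have hzpow : ∀ (g : Γ) (n : ℤ), g * s ^ n * g⁻¹ = (g * s * g⁻¹) ^ n := by
    intro g n
    exact (conj_zpow).symm
  let D : Subgroup Γ :=
    { carrier := {g | g * s * g⁻¹ = s ∨ g * s * g⁻¹ = s⁻¹}
      one_mem' := by left; group
      mul_mem' := by
        intro g h hg hh
        have e : (g * h) * s * (g * h)⁻¹ = g * (h * s * h⁻¹) * g⁻¹ := by group
        show (g * h) * s * (g * h)⁻¹ = s ∨ (g * h) * s * (g * h)⁻¹ = s⁻¹
        rw [e]
        rcases hh with hh | hh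
        · rw [hh]; exact hg
        · rw [hh, ← conj_inv]
          rcases hg with hg | hg
          · right; rw [hg]
          · left; rw [hg, inv_inv]
      inv_mem' := by
        intro g hg
        show g⁻¹ * s * g⁻¹⁻¹ = s ∨ g⁻¹ * s * g⁻¹⁻¹ = s⁻¹
        rw [inv_inv]
        rcases hg with hg | hg
        · left
          calc g⁻¹ * s * g = g⁻¹ * (g * s * g⁻¹) * g := by rw [hg]
            _ = s := by group
        · right
          have h1 : g⁻¹ * s⁻¹ * g = s := by
            calc g⁻¹ * s⁻¹ * g = g⁻¹ * (g * s * g⁻¹) * g := by rw [hg]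
              _ = s := by group
          have h2 : g⁻¹ * s * g = (g⁻¹ * s⁻¹ * g)⁻¹ := by group
          rw [h2, h1] }
  have memD : ∀ g : Γ, g ∈ D ↔ (g * s * g⁻¹ = s ∨ g * s * g⁻¹ = s⁻¹) := fun g => Iff.rfl
  have claimA : ∀ h ∈ Subgroup.normalizer ((Subgroup.zpowers s : Subgroup Γ) : Set Γ),
      h ^ 2 = 1 → h ∈ D := by
    intro h hK h2
    obtain ⟨n, hn⟩ := hconj h hK
    have hh : h * h = 1 := by rw [← pow_two]; exact h2
    have e1 : h * (h * s * h⁻¹) * h⁻¹ = s := by
      calc h * (h * s * h⁻¹) * h⁻¹ = (h * h) * s * (h * h)⁻¹ := by group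
        _ = s := by rw [hh]; group
    have e2 : h * (h * s * h⁻¹) * h⁻¹ = s ^ (n * n) := by
      rw [hn, hzpow, hn, ← _root_.zpow_mul]
    have e3 : s ^ (n * n - 1) = 1 := by
      rw [_root_.zpow_sub, zpow_one, ← e2, e1, mul_inv_cancel]
    have e4 : (5 : ℤ) ∣ n * n - 1 := by
      have := (orderOf_dvd_iff_zpow_eq_one).mpr e3
      rw [hs] at this
      exact_mod_cast this
    have e5 : (5 : ℤ) ∣ (n - 1) * (n + 1) := by
      have : (n - 1) * (n + 1) = n * n - 1 := by ring
      rw [this]; exact e4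
    have hp5 : Prime (5 : ℤ) := by norm_num
    rw [memD, hn]
    rcases hp5.dvd_or_dvd e5 with ⟨t, ht⟩ | ⟨t, ht⟩
    · left
      have : n = 1 + 5 * t := by linarith
      rw [this, _root_.zpow_add, zpow_one, _root_.zpow_mul, hs5z, one_zpow, mul_one]
    · right
      have : n = -1 + 5 * t := by linarith
      rw [this, _root_.zpow_add, zpow_neg_one, _root_.zpow_mul, hs5z, one_zpow, mul_one]
  have claimB : ∀ g ∈ Subgroup.normalizer ((Subgroup.zpowers s : Subgroup Γ) : Set Γ),
      ∀ d ∈ D, g * d * g⁻¹ ∈ D := by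
    intro g hg d hd
    obtain ⟨m, hm⟩ := hconj g⁻¹ (Subgroup.inv_mem _ hg)
    rw [inv_inv] at hm
    have e0 : (g * d * g⁻¹) * s * (g * d * g⁻¹)⁻¹ = g * (d * (g⁻¹ * s * g) * d⁻¹) * g⁻¹ := by
      group
    have e1 : g * s ^ m * g⁻¹ = s := by rw [← hm]; group
    rw [memD, e0, hm, hzpow d m]
    rcases (memD d).mp hd with hd | hd
    · left; rw [hd, e1]
    · right; rw [hd, _root_.inv_zpow, ← conj_inv, e1]
  intro htop
  have hDn : (D.subgroupOf (Subgroup.closure S)).Normal := by
    constructor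
    intro d hd g
    rw [Subgroup.mem_subgroupOf] at hd ⊢
    have := claimB g.1 (hHK g.2) d.1 hd
    simpa using this
  have hEle : (E' : Set ↥(Subgroup.closure S)) ⊆ D.subgroupOf (Subgroup.closure S) := by
    intro e he
    rw [SetLike.mem_coe, Subgroup.mem_subgroupOf]
    apply claimA e.1 (hHK e.2)
    have h1 := congrArg Subtype.val (hE e he)
    simpa using h1
  have hN : Subgroup.normalClosure (E' : Set ↥(Subgroup.closure S)) ≤
      D.subgroupOf (Subgroup.closure S) := Subgroup.normalClosure_le_normal hEle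
  rw [htop] at hN
  have huD : u ∈ D := by
    have := hN (Subgroup.mem_top (⟨u, Subgroup.subset_closure hu⟩ : ↥(Subgroup.closure S)))
    exact Subgroup.mem_subgroupOf.mp this
  rcases (memD u).mp huD with h | h
  · rw [hus] at h
    apply hs1
    have h3 : s * s = s * 1 := by rw [← pow_two, h, mul_one]
    exact mul_left_cancel h3
  · rw [hus] at h
    have h3 : s ^ 3 = 1 := by
      rw [pow_succ, h, inv_mul_cancel]
    have := orderOf_dvd_of_pow_eq_one h3
    rw [hs] at this
    norm_num at this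

end Cfsg.Agent.Lib.Lead.FrakL
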