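import Mathlib
import Cfsg.Agent.Lib.Lead.FrakL7

set_option autoImplicit false
set_option linter.unusedSectionVars false

/-!
The case `Sz(2)`, concretely: for a field `F` with two elements no subgroup of exponent two of
`Lie.Sz F 2` has normal closure the whole group.
-/

namespace Cfsg.Agent.Lib.Lead.FrakL

open Cfsg Cfsg.Agent.Lib.Helper3.Sz
open scoped Matrix

section
variable {F : Type*} [Field F]

theorem facts_card_two [Fintype F] (hF : Fintype.card F = 2) :
    (∀ x : F, x = 0 ∨ x = 1) ∧ (1 : F) + 1 = 0 := by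
  have h01 : ∀ x : F, x = 0 ∨ x = 1 := by
    intro x
    by_contra h
    push_neg at h
    have : 2 < Fintype.card F :=
      Fintype.two_lt_card_iff.mpr ⟨0, 1, x, zero_ne_one, h.1.symm, h.2.symm⟩
    omega
  refine ⟨h01, ?_⟩
  rcases h01 (1 + 1) with h | h
  · exact h
  · exfalso
    have : (1 : F) = 0 := by linear_combination h
    exact one_ne_zero this

theorem s1_mul_s1 (h2 : (1 : F) + 1 = 0) : (s1M : Matrix (Fin 4) (Fin 4) F) * s1M = s2M := by
  apply ext16 <;> simp [Matrix.mul_apply, Fin.sum_univ_four, s1M, s2M] <;>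
    first | linear_combination h2 | linear_combination 2 * h2 | linear_combination (-1 : F) * h2 | linear_combination (-2 : F) * h2 | linear_combination (0 : F) * h2

theorem s2_mul_s1 (h2 : (1 : F) + 1 = 0) : (s2M : Matrix (Fin 4) (Fin 4) F) * s1M = s3M := by
  apply ext16 <;> simp [Matrix.mul_apply, Fin.sum_univ_four, s1M, s2M, s3M] <;>
    first | linear_combination h2 | linear_combination 2 * h2 | linear_combination (-1 : F) * h2 | linear_combination (-2 : F) * h2 | linear_combination (0 : F) * h2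

theorem s3_mul_s1 (h2 : (1 : F) + 1 = 0) : (s3M : Matrix (Fin 4) (Fin 4) F) * s1M = s4M := by
  apply ext16 <;> simp [Matrix.mul_apply, Fin.sum_univ_four, s1M, s3M, s4M] <;>
    first | linear_combination h2 | linear_combination 2 * h2 | linear_combination (-1 : F) * h2 | linear_combination (-2 : F) * h2 | linear_combination (0 : F) * h2

theorem s4_mul_s1 (h2 : (1 : F) + 1 = 0) : (s4M : Matrix (Fin 4) (Fin 4) F) * s1M = 1 := by
  apply ext16 <;> simp [Matrix.mul_apply, Fin.sum_univ_four, s1M, s4M, Matrix.one_apply] <;>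
    first | linear_combination h2 | linear_combination 2 * h2 | linear_combination (-1 : F) * h2 | linear_combination (-2 : F) * h2 | linear_combination (0 : F) * h2

theorem s1_mul_s4 (h2 : (1 : F) + 1 = 0) : (s1M : Matrix (Fin 4) (Fin 4) F) * s4M = 1 := by
  apply ext16 <;> simp [Matrix.mul_apply, Fin.sum_univ_four, s1M, s4M, Matrix.one_apply] <;>
    first | linear_combination h2 | linear_combination 2 * h2 | linear_combination (-1 : F) * h2 | linear_combination (-2 : F) * h2 | linear_combination (0 : F) * h2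

/-- the element of order five -/
def sG (h2 : (1 : F) + 1 = 0) : GL (Fin 4) F := ⟨s1M, s4M, s1_mul_s4 h2, s4_mul_s1 h2⟩

theorem val_sG (h2 : (1 : F) + 1 = 0) : ((sG h2 : GL (Fin 4) F) : Matrix (Fin 4) (Fin 4) F) = s1M := rfl

theorem val_sG_pow2 (h2 : (1 : F) + 1 = 0) :
    (((sG h2) ^ 2 : GL (Fin 4) F) : Matrix (Fin 4) (Fin 4) F) = s2M := by
  rw [Units.val_pow_eq_pow_val, pow_two, val_sG, s1_mul_s1 h2]

theorem val_sG_pow3 (h2 : (1 : F) + 1 = 0) :
    (((sG h2) ^ 3 : GL (Fin 4) F) : Matrix (Fin 4) (Fin 4) F) = s3M := by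
  rw [pow_succ, Units.val_mul, val_sG_pow2, val_sG, s2_mul_s1 h2]

theorem val_sG_pow4 (h2 : (1 : F) + 1 = 0) :
    (((sG h2) ^ 4 : GL (Fin 4) F) : Matrix (Fin 4) (Fin 4) F) = s4M := by
  rw [pow_succ, Units.val_mul, val_sG_pow3, val_sG, s3_mul_s1 h2]

theorem sG_pow5 (h2 : (1 : F) + 1 = 0) : (sG h2) ^ 5 = 1 := by
  apply Units.ext
  rw [pow_succ, Units.val_mul, val_sG_pow4, val_sG, s4_mul_s1 h2, Units.val_one]

theorem sG_ne_one (h2 : (1 : F) + 1 = 0) : sG h2 ≠ 1 := by
  intro h
  have h1 := congrArg (fun g : GL (Fin 4) F => (g : Matrix (Fin 4) (Fin 4) F) 0 0) h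
  simp [val_sG, s1M] at h1

theorem orderOf_sG (h2 : (1 : F) + 1 = 0) : orderOf (sG h2) = 5 := by
  haveI : Fact (Nat.Prime 5) := ⟨by norm_num⟩
  exact orderOf_eq_prime (sG_pow5 h2) (sG_ne_one h2)

theorem jM_eq_tM : (jM : Matrix (Fin 4) (Fin 4) F) = tM := rfl

theorem sz2_normalClosure_ne_top [Fintype F] (hF : Fintype.card F = 2)
    (E' : Subgroup ↥(Cfsg.Lie.Sz F (2 ^ (0 + 1)))) (hE : ∀ e ∈ E', e ^ 2 = 1) :
    Subgroup.normalClosure (E' : Set ↥(Cfsg.Lie.Sz F (2 ^ (0 + 1)))) ≠ ⊤ := by
  obtain ⟨h01, h2⟩ := facts_card_two hF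
  haveI : CharP F 2 := charP_two_of_card (n := 1) (by rw [hF]; norm_num)
  have hF' : Fintype.card F = 2 ^ (2 * 0 + 1) := by rw [hF]; norm_num
  have he : ∀ x, (titsOfCard hF').θ x = x ^ 2 ^ (0 + 1) := titsOfCard_apply hF'
  have hu : Matrix.SpecialLinearGroup.toGL (uS (titsOfCard hF') 1 0) ∈ szSet (F := F) (2 ^ (0 + 1)) :=
    toGL_mem_szSet (titsOfCard hF') he _ (isSz_uM (titsOfCard hF') 1 0)
  -- the elements of the defining set normalize `⟨s⟩`
  have hS : ∀ g ∈ szSet (F := F) (2 ^ (0 + 1)),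
      g ∈ Subgroup.normalizer ((Subgroup.zpowers (sG h2) : Subgroup (GL (Fin 4) F)) : Set (GL (Fin 4) F)) := by
    intro g hg
    have hP : (g : Matrix (Fin 4) (Fin 4) F)ᵀ * jM * (g : Matrix (Fin 4) (Fin 4) F) = jM := by
      rw [jM_eq_tM]
      exact (mem_Sp4_iff g).mp hg.1
    have hS' : Cfsg.Lie.star4 (g : Matrix (Fin 4) (Fin 4) F) =
        (g : Matrix (Fin 4) (Fin 4) F).map (fun x => x ^ 2) := by
      have := hg.2
      have e : (2 : ℕ) ^ (0 + 1) = 2 := by norm_num
      rw [e] at this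
      exact this
    have key : g * sG h2 * g⁻¹ ∈ Subgroup.zpowers (sG h2) := by
      rcases sz2_normalizes h01 h2 _ hP hS' with h | h | h | h
      · have e : g * sG h2 = sG h2 * g := Units.ext (by
          rw [Units.val_mul, Units.val_mul, val_sG]; exact h)
        rw [e, mul_inv_cancel_right]
        exact Subgroup.mem_zpowers _
      · have e : g * sG h2 = (sG h2) ^ 2 * g := Units.ext (by
          rw [Units.val_mul, Units.val_mul, val_sG, val_sG_pow2]; exact h)
        rw [e, mul_inv_cancel_right]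
        exact Subgroup.pow_mem _ (Subgroup.mem_zpowers _) 2
      · have e : g * sG h2 = (sG h2) ^ 3 * g := Units.ext (by
          rw [Units.val_mul, Units.val_mul, val_sG, val_sG_pow3]; exact h)
        rw [e, mul_inv_cancel_right]
        exact Subgroup.pow_mem _ (Subgroup.mem_zpowers _) 3
      · have e : g * sG h2 = (sG h2) ^ 4 * g := Units.ext (by
          rw [Units.val_mul, Units.val_mul, val_sG, val_sG_pow4]; exact h)
        rw [e, mul_inv_cancel_right]
        exact Subgroup.pow_mem _ (Subgroup.mem_zpowers _) 4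
    apply mem_normalizer_of_conj_mem
    intro x hx
    obtain ⟨n, rfl⟩ := Subgroup.mem_zpowers_iff.mp hx
    rw [← conj_zpow]
    exact Subgroup.zpow_mem _ key n
  -- `u s u⁻¹ = s²`
  have hus : Matrix.SpecialLinearGroup.toGL (uS (titsOfCard hF') 1 0) * sG h2 *
      (Matrix.SpecialLinearGroup.toGL (uS (titsOfCard hF') 1 0))⁻¹ = (sG h2) ^ 2 := by
    have e : Matrix.SpecialLinearGroup.toGL (uS (titsOfCard hF') 1 0) * sG h2 =
        (sG h2) ^ 2 * Matrix.SpecialLinearGroup.toGL (uS (titsOfCard hF') 1 0) := by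
      apply Units.ext
      rw [Units.val_mul, Units.val_mul, val_sG, val_sG_pow2]
      show uM (titsOfCard hF') 1 0 * s1M = s2M * uM (titsOfCard hF') 1 0
      apply ext16 <;>
        simp [Matrix.mul_apply, Fin.sum_univ_four, s1M, s2M, uM, Tits.f] <;>
        first | linear_combination h2 | linear_combination 2 * h2 | linear_combination (-1 : F) * h2 | linear_combination (-2 : F) * h2 | linear_combination (0 : F) * h2
    rw [e, mul_inv_cancel_right]
  exact normalClosure_ne_top_of_order_five (sG h2) _ (orderOf_sG h2) (szSet (F := F) (2 ^ (0 + 1)))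
    hS hu hus E' hE

end

end Cfsg.Agent.Lib.Lead.FrakL
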