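import Mathlib

set_option autoImplicit false

/-!
Abstract setting for the fixed-point-free action on `A / C` in a `Y`-minimal group `Λ`:
`A` normal, `C = Y ∩ Z(Λ) ≤ A`, `Y` abelian, normalized by `A`, with normal closure `Λ`, and
`N(Y)` containing every proper subgroup over `Y`; `A = ⟨(Y ∩ A)^Λ⟩`.

Main result (`key`): if `t₁ ∈ Y₁`, `t₂ ∈ Y₂` (two such subgroups), `t₂ ∉ N(Y₁)`, `t₁ ∉ N(Y₂)`,
`a ∈ A` and `[t₁ t₂, a] ∈ C`, then `a ∈ C`.
-/

namespace Cfsg.Agent.Lib.Lead.FrakV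

variable {Λ : Type*} [Group Λ]

/-- conjugate subgroup `g Y g⁻¹` -/
abbrev cj (g : Λ) (Y : Subgroup Λ) : Subgroup Λ := Y.map (MulAut.conj g).toMonoidHom

theorem mem_cj {g y : Λ} {Y : Subgroup Λ} : y ∈ cj g Y ↔ g⁻¹ * y * g ∈ Y := by
  rw [Subgroup.mem_map_equiv, MulAut.conj_symm_apply]

theorem conj_mem_cj {g y : Λ} {Y : Subgroup Λ} (hy : y ∈ Y) : g * y * g⁻¹ ∈ cj g Y :=
  ⟨y, hy, rfl⟩

theorem central_comm {C : Subgroup Λ} (hC : C ≤ Subgroup.center Λ) {c : Λ} (hc : c ∈ C) (g : Λ) :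
    g * c = c * g := Subgroup.mem_center_iff.mp (hC hc) g

theorem central_conj {C : Subgroup Λ} (hC : C ≤ Subgroup.center Λ) {c : Λ} (hc : c ∈ C) (g : Λ) :
    g * c * g⁻¹ = c := by
  rw [central_comm hC hc g, mul_inv_cancel_right]

/-- the elements whose commutator with `b` lies in the central subgroup `C` -/
def Tset (C : Subgroup Λ) (hC : C ≤ Subgroup.center Λ) (b : Λ) : Subgroup Λ where
  carrier := {l | l * b * l⁻¹ * b⁻¹ ∈ C}
  one_mem' := by
    show 1 * b * 1⁻¹ * b⁻¹ ∈ C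
    have : 1 * b * 1⁻¹ * b⁻¹ = 1 := by group
    rw [this]; exact C.one_mem
  mul_mem' := by
    intro l l' hl hl'
    show (l * l') * b * (l * l')⁻¹ * b⁻¹ ∈ C
    have e : (l * l') * b * (l * l')⁻¹ * b⁻¹ =
        l * (l' * b * l'⁻¹ * b⁻¹) * l⁻¹ * (l * b * l⁻¹ * b⁻¹) := by group
    rw [e, central_conj hC hl' l]
    exact C.mul_mem hl' hl
  inv_mem' := by
    intro l hl
    show l⁻¹ * b * l⁻¹⁻¹ * b⁻¹ ∈ C
    have e : l⁻¹ * b * l⁻¹⁻¹ * b⁻¹ = l⁻¹ * (l * b * l⁻¹ * b⁻¹)⁻¹ * l⁻¹⁻¹ := by group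
    rw [e, central_conj hC (C.inv_mem hl) l⁻¹]
    exact C.inv_mem hl

theorem mem_Tset {C : Subgroup Λ} {hC : C ≤ Subgroup.center Λ} {b l : Λ} :
    l ∈ Tset C hC b ↔ l * b * l⁻¹ * b⁻¹ ∈ C := Iff.rfl

/-- The hypotheses on `(A, C, Y)`. -/
structure Setup (A C Y : Subgroup Λ) : Prop where
  hAn : A.Normal
  hCc : C ≤ Subgroup.center Λ
  hCA : C ≤ A
  hCY : C = Y ⊓ Subgroup.center Λ
  hYab : ∀ y ∈ Y, ∀ y' ∈ Y, y * y' = y' * y
  hAY : A ≤ Subgroup.normalizer (Y : Set Λ)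
  hcl : Subgroup.normalClosure (Y : Set Λ) = ⊤
  hmax : ∀ X : Subgroup Λ, Y ≤ X → X ≠ ⊤ → X ≤ Subgroup.normalizer (Y : Set Λ)
  hgen : A = Subgroup.normalClosure ((Y ⊓ A : Subgroup Λ) : Set Λ)

variable {A C Y : Subgroup Λ}

theorem mem_normalizer_cj {g x : Λ} : x ∈ Subgroup.normalizer ((cj g Y : Subgroup Λ) : Set Λ) ↔
    g⁻¹ * x * g ∈ Subgroup.normalizer (Y : Set Λ) := by
  have h := Subgroup.map_equiv_normalizer_eq Y (MulAut.conj g)
  rw [← h]
  exact mem_cj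

theorem Setup.conj (S : Setup A C Y) (g : Λ) : Setup A C (cj g Y) where
  hAn := S.hAn
  hCc := S.hCc
  hCA := S.hCA
  hCY := by
    ext c
    rw [Subgroup.mem_inf, mem_cj]
    constructor
    · intro hc
      have hc' := hc
      rw [S.hCY, Subgroup.mem_inf] at hc'
      refine ⟨?_, hc'.2⟩
      have : g⁻¹ * c * g = c := by
        have := central_conj S.hCc hc g⁻¹
        rwa [inv_inv] at this
      rw [this]; exact hc'.1
    · rintro ⟨h1, h2⟩
      rw [S.hCY, Subgroup.mem_inf]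
      refine ⟨?_, h2⟩
      have : g⁻¹ * c * g = c := by
        have := Subgroup.mem_center_iff.mp h2 g⁻¹
        rw [this, inv_mul_cancel_right]
      rwa [this] at h1
  hYab := by
    intro y hy y' hy'
    have h := S.hYab _ (mem_cj.mp hy) _ (mem_cj.mp hy')
    have e1 : g⁻¹ * y * g * (g⁻¹ * y' * g) = g⁻¹ * (y * y') * g := by group
    have e2 : g⁻¹ * y' * g * (g⁻¹ * y * g) = g⁻¹ * (y' * y) * g := by group
    rw [e1, e2] at h
    exact mul_left_cancel (mul_right_cancel h)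
  hAY := by
    intro a ha
    rw [mem_normalizer_cj]
    apply S.hAY
    have := S.hAn.conj_mem a ha g⁻¹
    rwa [inv_inv] at this
  hcl := by
    rw [eq_top_iff, ← S.hcl]
    apply Subgroup.normalClosure_le_normal
    intro y hy
    have h1 : g * y * g⁻¹ ∈ Subgroup.normalClosure ((cj g Y : Subgroup Λ) : Set Λ) :=
      Subgroup.subset_normalClosure (conj_mem_cj hy)
    have h2 := (Subgroup.normalClosure_normal (s := ((cj g Y : Subgroup Λ) : Set Λ))).conj_mem _ h1 g⁻¹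
    have e : g⁻¹ * (g * y * g⁻¹) * g⁻¹⁻¹ = y := by group
    rwa [e] at h2
  hmax := by
    intro X hYX hX x hx
    rw [mem_normalizer_cj]
    have h1 : Y ≤ cj g⁻¹ X := by
      intro y hy
      rw [mem_cj, inv_inv]
      exact hYX (conj_mem_cj hy)
    have h2 : cj g⁻¹ X ≠ ⊤ := by
      intro h
      apply hX
      rw [eq_top_iff]
      intro z _
      have : g⁻¹ * z * g ∈ cj g⁻¹ X := by rw [h]; exact Subgroup.mem_top _
      rw [mem_cj, inv_inv] at this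
      have e : g * (g⁻¹ * z * g) * g⁻¹ = z := by group
      rwa [e] at this
    apply S.hmax _ h1 h2
    rw [mem_cj, inv_inv]
    have e : g * (g⁻¹ * x * g) * g⁻¹ = x := by group
    rw [e]; exact hx
  hgen := by
    haveI := S.hAn
    apply le_antisymm
    · conv_lhs => rw [S.hgen]
      apply Subgroup.normalClosure_le_normal
      intro w hw
      have hw' : w ∈ Y ∧ w ∈ A := Subgroup.mem_inf.mp hw
      have h1 : g * w * g⁻¹ ∈ Subgroup.normalClosure (((cj g Y ⊓ A : Subgroup Λ)) : Set Λ) := by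
        apply Subgroup.subset_normalClosure
        exact Subgroup.mem_inf.mpr ⟨conj_mem_cj hw'.1, S.hAn.conj_mem w hw'.2 g⟩
      have h2 := (Subgroup.normalClosure_normal
        (s := (((cj g Y ⊓ A : Subgroup Λ)) : Set Λ))).conj_mem _ h1 g⁻¹
      have e : g⁻¹ * (g * w * g⁻¹) * g⁻¹⁻¹ = w := by group
      rwa [e] at h2
    · apply Subgroup.normalClosure_le_normal
      intro w hw
      exact (Subgroup.mem_inf.mp hw).2

theorem Setup.C_le_Y (S : Setup A C Y) : C ≤ Y := by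
  intro c hc
  have := hc
  rw [S.hCY] at this
  exact (Subgroup.mem_inf.mp this).1

/-- commutators of `Y` and `A` lie in `Y ∩ A` -/
theorem Setup.comm_mem (S : Setup A C Y) {a y : Λ} (ha : a ∈ A) (hy : y ∈ Y) :
    y * a * y⁻¹ * a⁻¹ ∈ Y ⊓ A ∧ a * y * a⁻¹ * y⁻¹ ∈ Y ⊓ A := by
  have hn := S.hAY ha
  have h1 : a * y * a⁻¹ ∈ Y := (Subgroup.mem_normalizer_iff.mp hn y).mp hy
  have h2 : a * y⁻¹ * a⁻¹ ∈ Y := (Subgroup.mem_normalizer_iff.mp hn y⁻¹).mp (Y.inv_mem hy)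
  have h3 : y * a * y⁻¹ ∈ A := S.hAn.conj_mem a ha y
  have h4 : y * a⁻¹ * y⁻¹ ∈ A := S.hAn.conj_mem a⁻¹ (A.inv_mem ha) y
  refine ⟨Subgroup.mem_inf.mpr ⟨?_, ?_⟩, Subgroup.mem_inf.mpr ⟨?_, ?_⟩⟩
  · have e : y * a * y⁻¹ * a⁻¹ = y * (a * y⁻¹ * a⁻¹) := by group
    rw [e]; exact Y.mul_mem hy h2
  · exact A.mul_mem h3 (A.inv_mem ha)
  · exact Y.mul_mem h1 (Y.inv_mem hy)
  · have e : a * y * a⁻¹ * y⁻¹ = a * (y * a⁻¹ * y⁻¹) := by group
    rw [e]; exact A.mul_mem ha h4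

/-- conjugation by an element of `A` preserves `Y ∩ A` -/
theorem Setup.conj_inf_mem (S : Setup A C Y) {a w : Λ} (ha : a ∈ A) (hw : w ∈ Y ⊓ A) :
    a * w * a⁻¹ ∈ Y ⊓ A := by
  obtain ⟨h1, h2⟩ := Subgroup.mem_inf.mp hw
  exact Subgroup.mem_inf.mpr
    ⟨(Subgroup.mem_normalizer_iff.mp (S.hAY ha) w).mp h1, S.hAn.conj_mem w h2 a⟩

/-- an element of `Y` all of whose commutators are in `C` lies in `C` -/
theorem Setup.mem_C_of_Tset_top (S : Setup A C Y) {w : Λ} (hw : w ∈ Y)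
    (hT : ∀ l : Λ, l * w * l⁻¹ * w⁻¹ ∈ C) : w ∈ C := by
  -- the centralizer of `w` is normal
  have hK : (Subgroup.centralizer ({w} : Set Λ)).Normal := by
    constructor
    intro k hk l
    rw [Subgroup.mem_centralizer_singleton_iff] at hk ⊢
    -- `l⁻¹ w l = c w`
    have hc := hT l⁻¹
    rw [inv_inv] at hc
    set c := l⁻¹ * w * l * w⁻¹ with hcdef
    have e1 : l⁻¹ * w * l = c * w := by rw [hcdef]; group
    have e2 : w = l * (c * w) * l⁻¹ := by rw [← e1]; group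
    have hkc : k * c = c * k := central_comm S.hCc hc k
    calc l * k * l⁻¹ * w = l * k * (l⁻¹ * w * l) * l⁻¹ := by group
      _ = l * k * (c * w) * l⁻¹ := by rw [e1]
      _ = l * (k * c) * w * l⁻¹ := by group
      _ = l * (c * k) * w * l⁻¹ := by rw [hkc]
      _ = l * c * (k * w) * l⁻¹ := by group
      _ = l * c * (w * k) * l⁻¹ := by rw [hk]
      _ = l * (c * w) * l⁻¹ * (l * k * l⁻¹) := by group
      _ = w * (l * k * l⁻¹) := by rw [← e2]
  have h1 : Subgroup.normalClosure (Y : Set Λ) ≤ Subgroup.centralizer ({w} : Set Λ) := by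
    apply Subgroup.normalClosure_le_normal
    intro y hy
    rw [SetLike.mem_coe, Subgroup.mem_centralizer_singleton_iff]
    exact S.hYab y hy w hw
  rw [S.hcl] at h1
  rw [S.hCY]
  refine Subgroup.mem_inf.mpr ⟨hw, ?_⟩
  rw [Subgroup.mem_center_iff]
  intro g
  have := h1 (Subgroup.mem_top g)
  rw [Subgroup.mem_centralizer_singleton_iff] at this
  exact this

end Cfsg.Agent.Lib.Lead.FrakV
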