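import Mathlib
import Cfsg.Agent.Lib.Lead.FrakV1

set_option autoImplicit false

/-!
Two subgroups `Y₁, Y₂` satisfying `Setup A C ·` with `Y₁ ⊔ Y₂ = ⊤`: `A = W₁ W₂` (`Wᵢ = Yᵢ ∩ A`),
`W₁ ∩ W₂ ≤ C`, `A / C` abelian and without fixed points of `Λ`; the key lemma.
-/

namespace Cfsg.Agent.Lib.Lead.FrakV

variable {Λ : Type*} [Group Λ] {A C Y₁ Y₂ : Subgroup Λ}

/-- `W₁ ∩ W₂ ≤ C` -/
theorem inter_le_C (S₁ : Setup A C Y₁) (hgen : Y₁ ⊔ Y₂ = ⊤)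
    (hab₂ : ∀ y ∈ Y₂, ∀ y' ∈ Y₂, y * y' = y' * y) {x : Λ} (h1 : x ∈ Y₁) (h2 : x ∈ Y₂) : x ∈ C := by
  have h3 : Y₁ ⊔ Y₂ ≤ Subgroup.centralizer ({x} : Set Λ) := by
    apply sup_le
    · intro y hy
      rw [Subgroup.mem_centralizer_singleton_iff]
      exact S₁.hYab y hy x h1
    · intro y hy
      rw [Subgroup.mem_centralizer_singleton_iff]
      exact hab₂ y hy x h2
  rw [hgen] at h3
  rw [S₁.hCY]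
  refine Subgroup.mem_inf.mpr ⟨h1, ?_⟩
  rw [Subgroup.mem_center_iff]
  intro g
  have := h3 (Subgroup.mem_top g)
  rw [Subgroup.mem_centralizer_singleton_iff] at this
  exact this

/-- the product set `W₁ W₂` as a subgroup -/
def prodW (S₁ : Setup A C Y₁) (S₂ : Setup A C Y₂) : Subgroup Λ where
  carrier := {a | ∃ w₁ ∈ Y₁ ⊓ A, ∃ w₂ ∈ Y₂ ⊓ A, a = w₁ * w₂}
  one_mem' := ⟨1, Subgroup.one_mem _, 1, Subgroup.one_mem _, (mul_one 1).symm⟩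
  mul_mem' := by
    rintro _ _ ⟨w₁, hw₁, w₂, hw₂, rfl⟩ ⟨v₁, hv₁, v₂, hv₂, rfl⟩
    refine ⟨w₁ * (w₂ * v₁ * w₂⁻¹), ?_, w₂ * v₂, Subgroup.mul_mem _ hw₂ hv₂, by group⟩
    exact Subgroup.mul_mem _ hw₁ (S₁.conj_inf_mem (Subgroup.mem_inf.mp hw₂).2 hv₁)
  inv_mem' := by
    rintro _ ⟨w₁, hw₁, w₂, hw₂, rfl⟩
    refine ⟨w₂⁻¹ * w₁⁻¹ * w₂⁻¹⁻¹, ?_, w₂⁻¹, Subgroup.inv_mem _ hw₂, by group⟩
    exact S₁.conj_inf_mem (A.inv_mem (Subgroup.mem_inf.mp hw₂).2) (Subgroup.inv_mem _ hw₁)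

theorem mem_normalizer_of_forall {D : Subgroup Λ} {y : Λ}
    (h1 : ∀ d ∈ D, y * d * y⁻¹ ∈ D) (h2 : ∀ d ∈ D, y⁻¹ * d * y ∈ D) :
    y ∈ Subgroup.normalizer (D : Set Λ) := by
  rw [Subgroup.mem_normalizer_iff]
  intro d
  refine ⟨h1 d, fun hd => ?_⟩
  have := h2 _ hd
  have e : y⁻¹ * (y * d * y⁻¹) * y = d := by group
  rwa [e] at this

/-- `A = W₁ W₂` -/
theorem exists_prod (S₁ : Setup A C Y₁) (S₂ : Setup A C Y₂) (hgen : Y₁ ⊔ Y₂ = ⊤) {a : Λ}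
    (ha : a ∈ A) : ∃ w₁ ∈ Y₁ ⊓ A, ∃ w₂ ∈ Y₂ ⊓ A, a = w₁ * w₂ := by
  -- `Y₁` and `Y₂` normalize `prodW`
  have n1 : ∀ y ∈ Y₁, ∀ d ∈ prodW S₁ S₂, y * d * y⁻¹ ∈ prodW S₁ S₂ := by
    rintro y hy _ ⟨w₁, hw₁, w₂, hw₂, rfl⟩
    have hc := (S₁.comm_mem (Subgroup.mem_inf.mp hw₂).2 hy).1
    have hyw : y * w₁ = w₁ * y := S₁.hYab y hy w₁ (Subgroup.mem_inf.mp hw₁).1
    refine ⟨w₁ * (y * w₂ * y⁻¹ * w₂⁻¹), Subgroup.mul_mem _ hw₁ hc, w₂, hw₂, ?_⟩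
    calc y * (w₁ * w₂) * y⁻¹ = (y * w₁) * w₂ * y⁻¹ := by group
      _ = (w₁ * y) * w₂ * y⁻¹ := by rw [hyw]
      _ = w₁ * (y * w₂ * y⁻¹ * w₂⁻¹) * w₂ := by group
  have n2 : ∀ y ∈ Y₂, ∀ d ∈ prodW S₁ S₂, y * d * y⁻¹ ∈ prodW S₁ S₂ := by
    rintro y hy _ ⟨w₁, hw₁, w₂, hw₂, rfl⟩
    have hw₁A := (Subgroup.mem_inf.mp hw₁).2
    have hc := (S₂.comm_mem hw₁A hy).1
    have hc' : w₁⁻¹ * (y * w₁ * y⁻¹ * w₁⁻¹) * w₁⁻¹⁻¹ ∈ Y₂ ⊓ A :=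
      S₂.conj_inf_mem (A.inv_mem hw₁A) hc
    have hyw : y * w₂ = w₂ * y := S₂.hYab y hy w₂ (Subgroup.mem_inf.mp hw₂).1
    refine ⟨w₁, hw₁, (w₁⁻¹ * (y * w₁ * y⁻¹ * w₁⁻¹) * w₁⁻¹⁻¹) * w₂, Subgroup.mul_mem _ hc' hw₂, ?_⟩
    calc y * (w₁ * w₂) * y⁻¹ = y * w₁ * (w₂ * y⁻¹) := by group
      _ = y * w₁ * (y⁻¹ * w₂) := by
          have : w₂ * y⁻¹ = y⁻¹ * w₂ := by
            have e1 : w₂ * y⁻¹ = y⁻¹ * (y * w₂) * y⁻¹ := by group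
            rw [e1, hyw]; group
          rw [this]
      _ = w₁ * (w₁⁻¹ * (y * w₁ * y⁻¹ * w₁⁻¹) * w₁⁻¹⁻¹ * w₂) := by group
  have hN : Y₁ ⊔ Y₂ ≤ Subgroup.normalizer ((prodW S₁ S₂ : Subgroup Λ) : Set Λ) := by
    apply sup_le
    · intro y hy
      exact mem_normalizer_of_forall (n1 y hy) (fun d hd => by
        have := n1 y⁻¹ (Y₁.inv_mem hy) d hd
        rwa [inv_inv] at this)
    · intro y hy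
      exact mem_normalizer_of_forall (n2 y hy) (fun d hd => by
        have := n2 y⁻¹ (Y₂.inv_mem hy) d hd
        rwa [inv_inv] at this)
  rw [hgen] at hN
  haveI : (prodW S₁ S₂).Normal := Subgroup.normalizer_eq_top_iff.mp (eq_top_iff.mpr hN)
  have h1 : Subgroup.normalClosure ((Y₁ ⊓ A : Subgroup Λ) : Set Λ) ≤ prodW S₁ S₂ := by
    apply Subgroup.normalClosure_le_normal
    intro w hw
    exact ⟨w, hw, 1, Subgroup.one_mem _, (mul_one w).symm⟩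
  rw [← S₁.hgen] at h1
  exact h1 ha

/-- commutators of `W₁` and `W₂` lie in `C` -/
theorem comm_W_mem_C (S₁ : Setup A C Y₁) (S₂ : Setup A C Y₂) (hgen : Y₁ ⊔ Y₂ = ⊤) {w v : Λ}
    (hw : w ∈ Y₁ ⊓ A) (hv : v ∈ Y₂ ⊓ A) : w * v * w⁻¹ * v⁻¹ ∈ C := by
  obtain ⟨hw1, hw2⟩ := Subgroup.mem_inf.mp hw
  obtain ⟨hv1, hv2⟩ := Subgroup.mem_inf.mp hv
  have h1 := (S₁.comm_mem hv2 hw1).1
  have h2 := (S₂.comm_mem hw2 hv1).2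
  exact inter_le_C S₁ hgen S₂.hYab (Subgroup.mem_inf.mp h1).1 (Subgroup.mem_inf.mp h2).1

/-- `A / C` is abelian -/
theorem A_le_Tset (S₁ : Setup A C Y₁) (S₂ : Setup A C Y₂) (hgen : Y₁ ⊔ Y₂ = ⊤) {b : Λ}
    (hb : b ∈ A) : A ≤ Tset C S₁.hCc b := by
  obtain ⟨v₁, hv₁, v₂, hv₂, rfl⟩ := exists_prod S₁ S₂ hgen hb
  have hW1 : Y₁ ⊓ A ≤ Tset C S₁.hCc (v₁ * v₂) := by
    intro w hw
    rw [mem_Tset]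
    have hc := comm_W_mem_C S₁ S₂ hgen hw hv₂
    have hwv : w * v₁ = v₁ * w :=
      S₁.hYab w (Subgroup.mem_inf.mp hw).1 v₁ (Subgroup.mem_inf.mp hv₁).1
    have e : w * (v₁ * v₂) * w⁻¹ * (v₁ * v₂)⁻¹ = v₁ * (w * v₂ * w⁻¹ * v₂⁻¹) * v₁⁻¹ := by
      calc w * (v₁ * v₂) * w⁻¹ * (v₁ * v₂)⁻¹ = (w * v₁) * v₂ * w⁻¹ * v₂⁻¹ * v₁⁻¹ := by group
        _ = (v₁ * w) * v₂ * w⁻¹ * v₂⁻¹ * v₁⁻¹ := by rw [hwv]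
        _ = v₁ * (w * v₂ * w⁻¹ * v₂⁻¹) * v₁⁻¹ := by group
    rw [e, central_conj S₁.hCc hc]
    exact hc
  have hW2 : Y₂ ⊓ A ≤ Tset C S₁.hCc (v₁ * v₂) := by
    intro w hw
    rw [mem_Tset]
    have hc := comm_W_mem_C S₁ S₂ hgen hv₁ hw
    have hwv : w * v₂ = v₂ * w :=
      S₂.hYab w (Subgroup.mem_inf.mp hw).1 v₂ (Subgroup.mem_inf.mp hv₂).1
    have e : w * (v₁ * v₂) * w⁻¹ * (v₁ * v₂)⁻¹ = (v₁ * w * v₁⁻¹ * w⁻¹)⁻¹ := by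
      calc w * (v₁ * v₂) * w⁻¹ * (v₁ * v₂)⁻¹ = w * v₁ * (v₂ * w⁻¹) * v₂⁻¹ * v₁⁻¹ := by group
        _ = w * v₁ * (w⁻¹ * v₂) * v₂⁻¹ * v₁⁻¹ := by
            have : v₂ * w⁻¹ = w⁻¹ * v₂ := by
              have e1 : v₂ * w⁻¹ = w⁻¹ * (w * v₂) * w⁻¹ := by group
              rw [e1, hwv]; group
            rw [this]
        _ = (v₁ * w * v₁⁻¹ * w⁻¹)⁻¹ := by group
    rw [e]
    exact C.inv_mem hc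
  intro a ha
  obtain ⟨w₁, hw₁, w₂, hw₂, rfl⟩ := exists_prod S₁ S₂ hgen ha
  exact Subgroup.mul_mem _ (hW1 hw₁) (hW2 hw₂)

/-- `C_{A/C}(Λ) = 0` -/
theorem mem_C_of_Tset_top (S₁ : Setup A C Y₁) (S₂ : Setup A C Y₂) (hgen : Y₁ ⊔ Y₂ = ⊤) {b : Λ}
    (hb : b ∈ A) (hT : Tset C S₁.hCc b = ⊤) : b ∈ C := by
  obtain ⟨w₁, hw₁, w₂, hw₂, rfl⟩ := exists_prod S₁ S₂ hgen hb
  have hT' : ∀ l : Λ, l * (w₁ * w₂) * l⁻¹ * (w₁ * w₂)⁻¹ ∈ C := by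
    intro l
    have : l ∈ Tset C S₁.hCc (w₁ * w₂) := by rw [hT]; exact Subgroup.mem_top _
    exact this
  -- `Tset w₂ = ⊤`
  have h2 : Y₁ ⊔ Y₂ ≤ Tset C S₁.hCc w₂ := by
    apply sup_le
    · intro y hy
      rw [mem_Tset]
      have hyw : y * w₁ = w₁ * y := S₁.hYab y hy w₁ (Subgroup.mem_inf.mp hw₁).1
      have h := hT' y
      have e : y * (w₁ * w₂) * y⁻¹ * (w₁ * w₂)⁻¹ = w₁ * (y * w₂ * y⁻¹ * w₂⁻¹) * w₁⁻¹ := by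
        calc y * (w₁ * w₂) * y⁻¹ * (w₁ * w₂)⁻¹ = (y * w₁) * w₂ * y⁻¹ * w₂⁻¹ * w₁⁻¹ := by group
          _ = (w₁ * y) * w₂ * y⁻¹ * w₂⁻¹ * w₁⁻¹ := by rw [hyw]
          _ = w₁ * (y * w₂ * y⁻¹ * w₂⁻¹) * w₁⁻¹ := by group
      rw [e] at h
      have h' := central_conj S₁.hCc h w₁⁻¹
      have e2 : w₁⁻¹ * (w₁ * (y * w₂ * y⁻¹ * w₂⁻¹) * w₁⁻¹) * w₁⁻¹⁻¹ = y * w₂ * y⁻¹ * w₂⁻¹ := by
        group
      rw [e2] at h'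
      rw [h']; exact h
    · intro y hy
      rw [mem_Tset]
      have hyw : y * w₂ = w₂ * y := S₂.hYab y hy w₂ (Subgroup.mem_inf.mp hw₂).1
      have : y * w₂ * y⁻¹ * w₂⁻¹ = 1 := by rw [hyw]; group
      rw [this]; exact C.one_mem
  have h1 : Y₁ ⊔ Y₂ ≤ Tset C S₁.hCc w₁ := by
    apply sup_le
    · intro y hy
      rw [mem_Tset]
      have hyw : y * w₁ = w₁ * y := S₁.hYab y hy w₁ (Subgroup.mem_inf.mp hw₁).1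
      have : y * w₁ * y⁻¹ * w₁⁻¹ = 1 := by rw [hyw]; group
      rw [this]; exact C.one_mem
    · intro y hy
      rw [mem_Tset]
      have hyw : y * w₂ = w₂ * y := S₂.hYab y hy w₂ (Subgroup.mem_inf.mp hw₂).1
      have h := hT' y
      have e : y * (w₁ * w₂) * y⁻¹ * (w₁ * w₂)⁻¹ = y * w₁ * y⁻¹ * w₁⁻¹ := by
        calc y * (w₁ * w₂) * y⁻¹ * (w₁ * w₂)⁻¹ = y * w₁ * (w₂ * y⁻¹) * w₂⁻¹ * w₁⁻¹ := by group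
          _ = y * w₁ * (y⁻¹ * w₂) * w₂⁻¹ * w₁⁻¹ := by
              have : w₂ * y⁻¹ = y⁻¹ * w₂ := by
                have e1 : w₂ * y⁻¹ = y⁻¹ * (y * w₂) * y⁻¹ := by group
                rw [e1, hyw]; group
              rw [this]
          _ = y * w₁ * y⁻¹ * w₁⁻¹ := by group
      rwa [e] at h
  rw [hgen] at h1 h2
  have c1 : w₁ ∈ C := S₁.mem_C_of_Tset_top (Subgroup.mem_inf.mp hw₁).1
    (fun l => h1 (Subgroup.mem_top l))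
  have c2 : w₂ ∈ C := S₂.mem_C_of_Tset_top (Subgroup.mem_inf.mp hw₂).1
    (fun l => h2 (Subgroup.mem_top l))
  exact C.mul_mem c1 c2

/-- **Key lemma.** -/
theorem key (S₁ : Setup A C Y₁) (S₂ : Setup A C Y₂) {t₁ t₂ a : Λ} (ht₁ : t₁ ∈ Y₁) (ht₂ : t₂ ∈ Y₂)
    (hn₁ : t₂ ∉ Subgroup.normalizer (Y₁ : Set Λ)) (hn₂ : t₁ ∉ Subgroup.normalizer (Y₂ : Set Λ))
    (ha : a ∈ A) (hx : t₁ * t₂ ∈ Tset C S₁.hCc a) : a ∈ C := by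
  have hgen : Y₁ ⊔ Y₂ = ⊤ := by
    by_contra h
    exact hn₁ (S₁.hmax _ le_sup_left h ((le_sup_right : Y₂ ≤ Y₁ ⊔ Y₂) ht₂))
  obtain ⟨w₁, hw₁, w₂, hw₂, rfl⟩ := exists_prod S₁ S₂ hgen ha
  obtain ⟨hw₁Y, hw₁A⟩ := Subgroup.mem_inf.mp hw₁
  obtain ⟨hw₂Y, hw₂A⟩ := Subgroup.mem_inf.mp hw₂
  rw [mem_Tset] at hx
  set c := t₁ * t₂ * (w₁ * w₂) * (t₁ * t₂)⁻¹ * (w₁ * w₂)⁻¹ with hc
  -- `u = [t₂, w₁] ∈ W₂`, `v = [t₁⁻¹, w₂] ∈ W₁`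
  set u := t₂ * w₁ * t₂⁻¹ * w₁⁻¹ with hu
  set v := t₁⁻¹ * w₂ * t₁⁻¹⁻¹ * w₂⁻¹ with hv
  have huW : u ∈ Y₂ ⊓ A := (S₂.comm_mem hw₁A ht₂).1
  have hvW : v ∈ Y₁ ⊓ A := (S₁.comm_mem hw₂A (Y₁.inv_mem ht₁)).1
  have h₁ : t₂ * w₂ = w₂ * t₂ := S₂.hYab t₂ ht₂ w₂ hw₂Y
  have h₂ : w₁ * v = v * w₁ := S₁.hYab w₁ hw₁Y v (Subgroup.mem_inf.mp hvW).1
  -- `t₂ a t₂⁻¹ = u w₁ w₂`
  have e1 : t₂ * (w₁ * w₂) * t₂⁻¹ = u * w₁ * w₂ := by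
    calc t₂ * (w₁ * w₂) * t₂⁻¹ = t₂ * w₁ * t₂⁻¹ * (t₂ * w₂) * t₂⁻¹ := by group
      _ = t₂ * w₁ * t₂⁻¹ * (w₂ * t₂) * t₂⁻¹ := by rw [h₁]
      _ = u * w₁ * w₂ := by rw [hu]; group
  -- `t₁⁻¹ a t₁ = w₁ v w₂`
  have e2 : t₁⁻¹ * (w₁ * w₂) * t₁ = w₁ * v * w₂ := by
    have h₃ : t₁⁻¹ * w₁ = w₁ * t₁⁻¹ := S₁.hYab _ (Y₁.inv_mem ht₁) w₁ hw₁Y
    calc t₁⁻¹ * (w₁ * w₂) * t₁ = (t₁⁻¹ * w₁) * w₂ * t₁ := by group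
      _ = (w₁ * t₁⁻¹) * w₂ * t₁ := by rw [h₃]
      _ = w₁ * v * w₂ := by rw [hv]; group
  -- from `t₁ t₂ a (t₁ t₂)⁻¹ = c a`: `t₂ a t₂⁻¹ = c (t₁⁻¹ a t₁)`
  have e3 : t₂ * (w₁ * w₂) * t₂⁻¹ = c * (t₁⁻¹ * (w₁ * w₂) * t₁) := by
    have hcc : t₁⁻¹ * c = c * t₁⁻¹ := central_comm S₁.hCc hx t₁⁻¹
    calc t₂ * (w₁ * w₂) * t₂⁻¹ = t₁⁻¹ * (c * (w₁ * w₂)) * t₁ := by rw [hc]; group
      _ = (t₁⁻¹ * c) * (w₁ * w₂) * t₁ := by group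
      _ = (c * t₁⁻¹) * (w₁ * w₂) * t₁ := by rw [hcc]
      _ = c * (t₁⁻¹ * (w₁ * w₂) * t₁) := by group
  rw [e1, e2] at e3
  -- `u = c v`
  have e4 : u = c * v := by
    have : u * w₁ * w₂ = c * (v * w₁) * w₂ := by
      rw [e3, ← h₂]; group
    have := mul_right_cancel this
    have e5 : c * (v * w₁) = c * v * w₁ := by group
    rw [e5] at this
    exact mul_right_cancel this
  -- so `u ∈ W₁ ∩ W₂ ≤ C`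
  have huY₁ : u ∈ Y₁ := by
    rw [e4]
    exact Y₁.mul_mem (S₁.C_le_Y hx) (Subgroup.mem_inf.mp hvW).1
  have huC : u ∈ C := inter_le_C S₁ hgen S₂.hYab huY₁ (Subgroup.mem_inf.mp huW).1
  have hvC : v ∈ C := by
    have : v = c⁻¹ * u := by rw [e4]; group
    rw [this]
    exact C.mul_mem (C.inv_mem hx) huC
  -- `Tset w₁ = ⊤`
  have hT1 : Tset C S₁.hCc w₁ = ⊤ := by
    by_contra h
    apply hn₁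
    have hY : Y₁ ≤ Tset C S₁.hCc w₁ := by
      intro y hy
      rw [mem_Tset]
      have hyw : y * w₁ = w₁ * y := S₁.hYab y hy w₁ hw₁Y
      have : y * w₁ * y⁻¹ * w₁⁻¹ = 1 := by rw [hyw]; group
      rw [this]; exact C.one_mem
    exact S₁.hmax _ hY h huC
  have hT2 : Tset C S₁.hCc w₂ = ⊤ := by
    by_contra h
    apply hn₂
    have hY : Y₂ ≤ Tset C S₁.hCc w₂ := by
      intro y hy
      rw [mem_Tset]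
      have hyw : y * w₂ = w₂ * y := S₂.hYab y hy w₂ hw₂Y
      have : y * w₂ * y⁻¹ * w₂⁻¹ = 1 := by rw [hyw]; group
      rw [this]; exact C.one_mem
    have ht : t₁⁻¹ ∈ Tset C S₁.hCc w₂ := hvC
    have := S₂.hmax _ hY h ht
    have := Subgroup.inv_mem _ this
    rwa [inv_inv] at this
  exact C.mul_mem (mem_C_of_Tset_top S₁ S₂ hgen hw₁A hT1) (mem_C_of_Tset_top S₁ S₂ hgen hw₂A hT2)

end Cfsg.Agent.Lib.Lead.FrakV
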