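import Mathlib
import Cfsg.Agent.Lib.Lead.FrakV2

set_option autoImplicit false

/-!
`Dec E x`: `x` is a product `t₁ t₂` of elements of two conjugates `E₁, E₂` of `E` with
`t₂ ∉ N(E₁)`, `t₁ ∉ N(E₂)`.  If the image of `x` in `Λ / A` has such a decomposition with respect
to the image of `Y`, then `x` acts without fixed points on `A / C`.
-/

namespace Cfsg.Agent.Lib.Lead.FrakV

/-- `x = t₁ t₂` with `tᵢ` in conjugates `Eᵢ` of `E`, `t₂ ∉ N(E₁)`, `t₁ ∉ N(E₂)`. -/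
def Dec {H : Type*} [Group H] (E : Subgroup H) (x : H) : Prop :=
  ∃ g₁ g₂ t₁ t₂ : H, t₁ ∈ cj g₁ E ∧ t₂ ∈ cj g₂ E ∧ x = t₁ * t₂ ∧
    t₂ ∉ Subgroup.normalizer ((cj g₁ E : Subgroup H) : Set H) ∧
    t₁ ∉ Subgroup.normalizer ((cj g₂ E : Subgroup H) : Set H)

theorem Dec.of_map_equiv {H K : Type*} [Group H] [Group K] (φ : H ≃* K) {E : Subgroup H} {x : H}
    (h : Dec (E.map φ.toMonoidHom) (φ x)) : Dec E x := by
  obtain ⟨g₁, g₂, t₁, t₂, h1, h2, h3, h4, h5⟩ := h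
  have hcj : ∀ g : K, cj g (E.map φ.toMonoidHom) = (cj (φ.symm g) E).map φ.toMonoidHom := by
    intro g
    ext z
    rw [mem_cj, Subgroup.mem_map_equiv, Subgroup.mem_map_equiv, mem_cj]
    simp
  refine ⟨φ.symm g₁, φ.symm g₂, φ.symm t₁, φ.symm t₂, ?_, ?_, ?_, ?_, ?_⟩
  · rw [hcj, Subgroup.mem_map_equiv] at h1; exact h1
  · rw [hcj, Subgroup.mem_map_equiv] at h2; exact h2
  · apply φ.injective
    rw [h3, map_mul, φ.apply_symm_apply, φ.apply_symm_apply]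
  · intro h
    apply h4
    rw [hcj, ← Subgroup.map_equiv_normalizer_eq, Subgroup.mem_map_equiv]
    exact h
  · intro h
    apply h5
    rw [hcj, ← Subgroup.map_equiv_normalizer_eq, Subgroup.mem_map_equiv]
    exact h

/-- conjugating `E` does not change `Dec` -/
theorem Dec.of_cj {H : Type*} [Group H] {E : Subgroup H} {x : H} (k : H) (h : Dec (cj k E) x) :
    Dec E x := by
  obtain ⟨g₁, g₂, t₁, t₂, h1, h2, h3, h4, h5⟩ := h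
  have hcj : ∀ g : H, cj g (cj k E) = cj (g * k) E := by
    intro g
    ext z
    rw [mem_cj, mem_cj, mem_cj]
    have e : k⁻¹ * (g⁻¹ * z * g) * k = (g * k)⁻¹ * z * (g * k) := by group
    rw [e]
  rw [hcj] at h1 h2 h4 h5
  exact ⟨g₁ * k, g₂ * k, t₁, t₂, h1, h2, h3, h4, h5⟩

variable {Λ : Type*} [Group Λ] {A C Y : Subgroup Λ} [A.Normal]

theorem exists_lift (S : Setup A C Y) {g : Λ} {t : Λ ⧸ A}
    (ht : t ∈ cj (QuotientGroup.mk' A g) (Y.map (QuotientGroup.mk' A))) :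
    ∃ t' ∈ cj g Y, QuotientGroup.mk' A t' = t := by
  rw [mem_cj] at ht
  obtain ⟨y, hy, hyt⟩ := ht
  refine ⟨g * y * g⁻¹, conj_mem_cj hy, ?_⟩
  rw [map_mul, map_mul, hyt, map_inv]
  group

theorem not_mem_normalizer_of_map (S : Setup A C Y) {g t : Λ}
    (h : QuotientGroup.mk' A t ∉ Subgroup.normalizer
      ((cj (QuotientGroup.mk' A g) (Y.map (QuotientGroup.mk' A)) : Subgroup (Λ ⧸ A)) : Set (Λ ⧸ A))) :
    t ∉ Subgroup.normalizer ((cj g Y : Subgroup Λ) : Set Λ) := by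
  intro ht
  apply h
  have h1 := Subgroup.le_normalizer_map (QuotientGroup.mk' A) (H := cj g Y)
    (Subgroup.mem_map_of_mem _ ht)
  have h2 : (cj g Y).map (QuotientGroup.mk' A) =
      cj (QuotientGroup.mk' A g) (Y.map (QuotientGroup.mk' A)) := by
    ext z
    constructor
    · rintro ⟨_, ⟨y, hy, rfl⟩, rfl⟩
      rw [mem_cj]
      refine ⟨y, hy, ?_⟩
      simp only [MulEquiv.coe_toMonoidHom, MulAut.conj_apply, map_mul, map_inv]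
      group
    · intro hz
      obtain ⟨t', ht', rfl⟩ := exists_lift S hz
      exact Subgroup.mem_map_of_mem _ ht'
  rw [h2] at h1
  exact h1

/-- lifting a decomposition from `Λ / A` to `Λ` -/
theorem exists_of_dec (S : Setup A C Y) {x : Λ}
    (h : Dec (Y.map (QuotientGroup.mk' A)) (QuotientGroup.mk' A x)) :
    ∃ g₁ g₂ t₁ t₂ a₀ : Λ, t₁ ∈ cj g₁ Y ∧ t₂ ∈ cj g₂ Y ∧ a₀ ∈ A ∧ x = t₁ * t₂ * a₀ ∧
      t₂ ∉ Subgroup.normalizer ((cj g₁ Y : Subgroup Λ) : Set Λ) ∧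
      t₁ ∉ Subgroup.normalizer ((cj g₂ Y : Subgroup Λ) : Set Λ) := by
  obtain ⟨g₁, g₂, t₁, t₂, h1, h2, h3, h4, h5⟩ := h
  obtain ⟨g₁, rfl⟩ := QuotientGroup.mk'_surjective A g₁
  obtain ⟨g₂, rfl⟩ := QuotientGroup.mk'_surjective A g₂
  obtain ⟨t₁, ht₁, rfl⟩ := exists_lift S h1
  obtain ⟨t₂, ht₂, rfl⟩ := exists_lift S h2
  refine ⟨g₁, g₂, t₁, t₂, (t₁ * t₂)⁻¹ * x, ht₁, ht₂, ?_, by group,
    not_mem_normalizer_of_map S h4, not_mem_normalizer_of_map S h5⟩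
  rw [← map_mul] at h3
  exact (QuotientGroup.eq (s := A)).mp h3.symm

/-- the pair of conjugates coming from a decomposition generates `Λ` -/
theorem sup_eq_top_of_not_mem (S : Setup A C Y) {g₁ g₂ t₂ : Λ} (ht₂ : t₂ ∈ cj g₂ Y)
    (hn : t₂ ∉ Subgroup.normalizer ((cj g₁ Y : Subgroup Λ) : Set Λ)) : cj g₁ Y ⊔ cj g₂ Y = ⊤ := by
  by_contra h
  exact hn ((S.conj g₁).hmax _ le_sup_left h ((le_sup_right : cj g₂ Y ≤ cj g₁ Y ⊔ cj g₂ Y) ht₂))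

/-- if the image of `x` in `Λ / A` decomposes, `x` has no fixed points on `A / C` -/
theorem fpf_of_dec (S : Setup A C Y) {x a : Λ} (ha : a ∈ A) (hx : x ∈ Tset C S.hCc a)
    (h : Dec (Y.map (QuotientGroup.mk' A)) (QuotientGroup.mk' A x)) : a ∈ C := by
  obtain ⟨g₁, g₂, t₁, t₂, a₀, ht₁, ht₂, ha₀, rfl, hn₁, hn₂⟩ := exists_of_dec S h
  have hgen := sup_eq_top_of_not_mem S ht₂ hn₁
  have hA := A_le_Tset (S.conj g₁) (S.conj g₂) hgen ha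
  have h1 : t₁ * t₂ ∈ Tset C S.hCc a := by
    have h2 := Subgroup.mul_mem _ hx (Subgroup.inv_mem _ (hA ha₀))
    have e : t₁ * t₂ * a₀ * a₀⁻¹ = t₁ * t₂ := by group
    rwa [e] at h2
  exact key (S.conj g₁) (S.conj g₂) ht₁ ht₂ hn₁ hn₂ ha h1

/-- `A ≤ Tset a` as soon as some element decomposes -/
theorem A_le_Tset_of_dec (S : Setup A C Y) {e a : Λ} (ha : a ∈ A)
    (h : Dec (Y.map (QuotientGroup.mk' A)) (QuotientGroup.mk' A e)) : A ≤ Tset C S.hCc a := by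
  obtain ⟨g₁, g₂, t₁, t₂, a₀, ht₁, ht₂, ha₀, rfl, hn₁, hn₂⟩ := exists_of_dec S h
  exact A_le_Tset (S.conj g₁) (S.conj g₂) (sup_eq_top_of_not_mem S ht₂ hn₁) ha

/-- if `e² ≡ x` modulo `A`, `x` fixes `a` modulo `C` and `e` decomposes, then `e` inverts `a`
modulo `C` -/
theorem inv_of_sq (S : Setup A C Y) {x e a : Λ} (ha : a ∈ A) (hx : x ∈ Tset C S.hCc a)
    (hsq : QuotientGroup.mk' A (e * e) = QuotientGroup.mk' A x)
    (h : Dec (Y.map (QuotientGroup.mk' A)) (QuotientGroup.mk' A e)) :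
    a * (e * a * e⁻¹) ∈ C := by
  haveI := S.hAn
  have hA := A_le_Tset_of_dec S ha h
  have ha' : e * a * e⁻¹ ∈ A := S.hAn.conj_mem a ha e
  have hb : a * (e * a * e⁻¹) ∈ A := A.mul_mem ha ha'
  apply fpf_of_dec S hb _ h
  rw [mem_Tset]
  -- `e² = x a₁`
  have ha₁ : x⁻¹ * (e * e) ∈ A := (QuotientGroup.eq (s := A)).mp hsq.symm
  set a₁ := x⁻¹ * (e * e) with ha₁def
  have he2 : e * e = x * a₁ := by rw [ha₁def]; group
  -- `a₁ a a₁⁻¹ = c₁ a`, `x a x⁻¹ = c₂ a`, `a' a a'⁻¹ = c₃ a`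
  have hc₁ : a₁ * a * a₁⁻¹ * a⁻¹ ∈ C := hA ha₁
  have hc₂ : x * a * x⁻¹ * a⁻¹ ∈ C := hx
  have hc₃ : (e * a * e⁻¹) * a * (e * a * e⁻¹)⁻¹ * a⁻¹ ∈ C := hA ha'
  set c₁ := a₁ * a * a₁⁻¹ * a⁻¹ with hc₁def
  set c₂ := x * a * x⁻¹ * a⁻¹ with hc₂def
  set c₃ := (e * a * e⁻¹) * a * (e * a * e⁻¹)⁻¹ * a⁻¹ with hc₃def
  have e1 : a₁ * a * a₁⁻¹ = c₁ * a := by rw [hc₁def]; group
  have e2 : x * a * x⁻¹ = c₂ * a := by rw [hc₂def]; group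
  have e3 : (e * e) * a * (e * e)⁻¹ = c₁ * c₂ * a := by
    rw [he2]
    calc x * a₁ * a * (x * a₁)⁻¹ = x * (a₁ * a * a₁⁻¹) * x⁻¹ := by group
      _ = x * (c₁ * a) * x⁻¹ := by rw [e1]
      _ = (x * c₁) * a * x⁻¹ := by group
      _ = (c₁ * x) * a * x⁻¹ := by rw [central_comm S.hCc hc₁ x]
      _ = c₁ * (x * a * x⁻¹) := by group
      _ = c₁ * (c₂ * a) := by rw [e2]
      _ = c₁ * c₂ * a := by group
  have e4 : e * (a * (e * a * e⁻¹)) * e⁻¹ * (a * (e * a * e⁻¹))⁻¹ = c₁ * c₂ * c₃ := by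
    have hcc : (e * a * e⁻¹) * (c₁ * c₂) = (c₁ * c₂) * (e * a * e⁻¹) :=
      central_comm S.hCc (C.mul_mem hc₁ hc₂) _
    calc e * (a * (e * a * e⁻¹)) * e⁻¹ * (a * (e * a * e⁻¹))⁻¹
        = (e * a * e⁻¹) * ((e * e) * a * (e * e)⁻¹) * (e * a * e⁻¹)⁻¹ * a⁻¹ := by group
      _ = (e * a * e⁻¹) * (c₁ * c₂ * a) * (e * a * e⁻¹)⁻¹ * a⁻¹ := by rw [e3]
      _ = ((e * a * e⁻¹) * (c₁ * c₂)) * a * (e * a * e⁻¹)⁻¹ * a⁻¹ := by group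
      _ = ((c₁ * c₂) * (e * a * e⁻¹)) * a * (e * a * e⁻¹)⁻¹ * a⁻¹ := by rw [hcc]
      _ = c₁ * c₂ * c₃ := by rw [hc₃def]; group
  rw [e4]
  exact C.mul_mem (C.mul_mem hc₁ hc₂) hc₃

/-- the case of a central involution of `Λ / A` that is the square of elements `e₁, e₂, e₁e₂` -/
theorem fpf_of_quaternion (S : Setup A C Y) {x e₁ e₂ a : Λ} (ha : a ∈ A) (hx : x ∈ Tset C S.hCc a)
    (hsq₁ : QuotientGroup.mk' A (e₁ * e₁) = QuotientGroup.mk' A x)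
    (hsq₂ : QuotientGroup.mk' A (e₂ * e₂) = QuotientGroup.mk' A x)
    (hsq₃ : QuotientGroup.mk' A ((e₁ * e₂) * (e₁ * e₂)) = QuotientGroup.mk' A x)
    (h₁ : Dec (Y.map (QuotientGroup.mk' A)) (QuotientGroup.mk' A e₁))
    (h₂ : Dec (Y.map (QuotientGroup.mk' A)) (QuotientGroup.mk' A e₂))
    (h₃ : Dec (Y.map (QuotientGroup.mk' A)) (QuotientGroup.mk' A (e₁ * e₂)))
    {n : ℕ} (hn : Odd n) (han : a ^ n ∈ C) : a ∈ C := by
  have i₁ := inv_of_sq S ha hx hsq₁ h₁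
  have i₂ := inv_of_sq S ha hx hsq₂ h₂
  have i₃ := inv_of_sq S ha hx hsq₃ h₃
  set c₁ := a * (e₁ * a * e₁⁻¹) with hc₁
  set c₂ := a * (e₂ * a * e₂⁻¹) with hc₂
  have f₁ : e₁ * a * e₁⁻¹ = a⁻¹ * c₁ := by rw [hc₁]; group
  have f₂ : e₂ * a * e₂⁻¹ = a⁻¹ * c₂ := by rw [hc₂]; group
  have f₃ : (e₁ * e₂) * a * (e₁ * e₂)⁻¹ = c₁⁻¹ * a * c₂ := by
    calc (e₁ * e₂) * a * (e₁ * e₂)⁻¹ = e₁ * (e₂ * a * e₂⁻¹) * e₁⁻¹ := by group
      _ = e₁ * (a⁻¹ * c₂) * e₁⁻¹ := by rw [f₂]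
      _ = (e₁ * a * e₁⁻¹)⁻¹ * (e₁ * c₂ * e₁⁻¹) := by group
      _ = (a⁻¹ * c₁)⁻¹ * c₂ := by rw [f₁, central_conj S.hCc i₂ e₁]
      _ = c₁⁻¹ * a * c₂ := by group
  rw [f₃] at i₃
  -- `a * (c₁⁻¹ * a * c₂) ∈ C`, hence `a * a ∈ C`
  have hsq : a * a ∈ C := by
    have hcomm : a * c₁⁻¹ = c₁⁻¹ * a := central_comm S.hCc (C.inv_mem i₁) a
    have e : a * (c₁⁻¹ * a * c₂) = c₁⁻¹ * (a * a) * c₂ := by
      calc a * (c₁⁻¹ * a * c₂) = (a * c₁⁻¹) * a * c₂ := by group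
        _ = (c₁⁻¹ * a) * a * c₂ := by rw [hcomm]
        _ = c₁⁻¹ * (a * a) * c₂ := by group
    rw [e] at i₃
    have h5 : a * a = c₁ * (c₁⁻¹ * (a * a) * c₂) * c₂⁻¹ := by group
    rw [h5]
    exact C.mul_mem (C.mul_mem i₁ i₃) (C.inv_mem i₂)
  obtain ⟨k, hk⟩ := hn
  have h6 : a = a ^ n * ((a * a) ^ k)⁻¹ := by
    rw [hk, ← pow_two, ← pow_mul, pow_succ]
    group
  rw [h6]
  exact C.mul_mem han (C.inv_mem (C.pow_mem hsq k))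

end Cfsg.Agent.Lib.Lead.FrakV
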