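import Mathlib
import Cfsg.Agent.Lib.Lead.FrakV3

set_option autoImplicit false

/-!
`Good p E`: every nontrivial `p'`-element decomposes with respect to `E` (or is the common square
of a quaternion triple of such elements).  Abstract main theorem: if the image of `Y` in `Λ / A`
is good, every element of `Λ` whose order is not a power of `p` acts without fixed points on
`A / C`.
-/

namespace Cfsg.Agent.Lib.Lead.FrakV

section
variable {H : Type*} [Group H]

theorem cj_cj (g k : H) (E : Subgroup H) : cj g (cj k E) = cj (g * k) E := by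
  ext z
  rw [mem_cj, mem_cj, mem_cj]
  have e : k⁻¹ * (g⁻¹ * z * g) * k = (g * k)⁻¹ * z * (g * k) := by group
  rw [e]

/-- conjugating the element -/
theorem Dec.conj {E : Subgroup H} {x : H} (h : Dec E x) (k : H) : Dec E (k * x * k⁻¹) := by
  obtain ⟨g₁, g₂, t₁, t₂, h1, h2, h3, h4, h5⟩ := h
  refine ⟨k * g₁, k * g₂, k * t₁ * k⁻¹, k * t₂ * k⁻¹, ?_, ?_, ?_, ?_, ?_⟩
  · rw [← cj_cj]; exact conj_mem_cj h1
  · rw [← cj_cj]; exact conj_mem_cj h2
  · rw [h3]; group
  · rw [← cj_cj, mem_normalizer_cj]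
    have e : k⁻¹ * (k * t₂ * k⁻¹) * k = t₂ := by group
    rw [e]; exact h4
  · rw [← cj_cj, mem_normalizer_cj]
    have e : k⁻¹ * (k * t₁ * k⁻¹) * k = t₁ := by group
    rw [e]; exact h5

/-- every nontrivial `p'`-element decomposes, or is the common square of a "quaternion" triple of
decomposing elements (and `p` is odd) -/
def Good (p : ℕ) (E : Subgroup H) : Prop :=
  ∀ x : H, x ≠ 1 → (orderOf x).Coprime p → Dec E x ∨
    (p ≠ 2 ∧ ∃ e₁ e₂ : H, e₁ * e₁ = x ∧ e₂ * e₂ = x ∧ (e₁ * e₂) * (e₁ * e₂) = x ∧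
      Dec E e₁ ∧ Dec E e₂ ∧ Dec E (e₁ * e₂))

theorem Good.of_map_equiv {K : Type*} [Group K] {p : ℕ} (φ : H ≃* K) {E : Subgroup H}
    (h : Good p (E.map φ.toMonoidHom)) : Good p E := by
  intro x hx1 hxp
  have h1 : φ x ≠ 1 := by
    intro h2
    apply hx1
    apply φ.injective
    rw [h2, map_one]
  have h2 : (orderOf (φ x)).Coprime p := by
    rw [MulEquiv.orderOf_eq φ x]
    exact hxp
  rcases h (φ x) h1 h2 with hd | ⟨hp2, e₁, e₂, s1, s2, s3, d1, d2, d3⟩
  · exact Or.inl (Dec.of_map_equiv φ hd)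
  · right
    refine ⟨hp2, φ.symm e₁, φ.symm e₂, ?_, ?_, ?_, ?_, ?_, ?_⟩
    · apply φ.injective; rw [map_mul, φ.apply_symm_apply, s1]
    · apply φ.injective; rw [map_mul, φ.apply_symm_apply, s2]
    · apply φ.injective
      rw [map_mul, map_mul, φ.apply_symm_apply, φ.apply_symm_apply, s3]
    · apply Dec.of_map_equiv φ; rw [φ.apply_symm_apply]; exact d1
    · apply Dec.of_map_equiv φ; rw [φ.apply_symm_apply]; exact d2
    · apply Dec.of_map_equiv φ
      rw [map_mul, φ.apply_symm_apply, φ.apply_symm_apply]; exact d3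

theorem Good.of_cj {p : ℕ} {E : Subgroup H} (k : H) (h : Good p (cj k E)) : Good p E := by
  intro x hx1 hxp
  rcases h x hx1 hxp with hd | ⟨hp2, e₁, e₂, s1, s2, s3, d1, d2, d3⟩
  · exact Or.inl (Dec.of_cj k hd)
  · exact Or.inr ⟨hp2, e₁, e₂, s1, s2, s3, Dec.of_cj k d1, Dec.of_cj k d2, Dec.of_cj k d3⟩

theorem cj_comm {Z : Subgroup H} (hZ : ∀ a ∈ Z, ∀ b ∈ Z, a * b = b * a) (g : H) :
    ∀ a ∈ cj g Z, ∀ b ∈ cj g Z, a * b = b * a := by
  intro a ha b hb
  have h := hZ _ (mem_cj.mp ha) _ (mem_cj.mp hb)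
  have e1 : g⁻¹ * a * g * (g⁻¹ * b * g) = g⁻¹ * (a * b) * g := by group
  have e2 : g⁻¹ * b * g * (g⁻¹ * a * g) = g⁻¹ * (b * a) * g := by group
  rw [e1, e2] at h
  exact mul_left_cancel (mul_right_cancel h)

/-- an element inverted by an involution decomposes, when all involutions lie in conjugates of the
abelian subgroup `Z` and involutions normalizing a conjugate of `Z` lie in it -/
theorem dec_of_inverted {Z : Subgroup H} (hZ : ∀ a ∈ Z, ∀ b ∈ Z, a * b = b * a)
    (hinv : ∀ t : H, t * t = 1 → t ≠ 1 → ∃ g, t ∈ cj g Z)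
    (hnorm : ∀ g t : H, t * t = 1 →
      t ∈ Subgroup.normalizer ((cj g Z : Subgroup H) : Set H) → t ∈ cj g Z)
    {x t : H} (ht : t * t = 1) (hx : t * x * t = x⁻¹) (hx2 : x * x ≠ 1) : Dec Z x := by
  have ht1 : t ≠ 1 := by
    rintro rfl
    apply hx2
    rw [one_mul, mul_one] at hx
    calc x * x = x * x⁻¹ := congrArg (fun y => x * y) hx
      _ = 1 := mul_inv_cancel x
  have ht2 : (t * x) * (t * x) = 1 := by
    calc (t * x) * (t * x) = (t * x * t) * x := by group
      _ = x⁻¹ * x := by rw [hx]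
      _ = 1 := inv_mul_cancel x
  have ht21 : t * x ≠ 1 := by
    intro h
    apply hx2
    have hxt : x = t := by
      calc x = (t * t) * x := by rw [ht, one_mul]
        _ = t * (t * x) := by group
        _ = t := by rw [h, mul_one]
    rw [hxt]; exact ht
  obtain ⟨g₁, hg₁⟩ := hinv t ht ht1
  obtain ⟨g₂, hg₂⟩ := hinv (t * x) ht2 ht21
  have hxe : x = t * (t * x) := by
    rw [← mul_assoc, ht, one_mul]
  have hcontra : ∀ g : H, t ∈ cj g Z → t * x ∈ cj g Z → False := by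
    intro g h1 h2
    apply hx2
    have hc : t * (t * x) = (t * x) * t := cj_comm hZ g _ h1 _ h2
    calc x * x = (t * (t * x)) * (t * (t * x)) := by rw [← hxe]
      _ = t * ((t * x) * t) * (t * x) := by group
      _ = t * (t * (t * x)) * (t * x) := by rw [← hc]
      _ = (t * t) * ((t * x) * (t * x)) := by group
      _ = 1 := by rw [ht, ht2, one_mul]
  refine ⟨g₁, g₂, t, t * x, hg₁, hg₂, hxe, ?_, ?_⟩
  · intro hn
    exact hcontra g₁ hg₁ (hnorm g₁ (t * x) ht2 hn)
  · intro hn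
    exact hcontra g₂ (hnorm g₂ t ht hn) hg₂

end

variable {Λ : Type*} [Group Λ] [Finite Λ] {A C Y : Subgroup Λ} [A.Normal]

/-- **Abstract main theorem.** -/
theorem main_abstract {p : ℕ} [hp : Fact p.Prime] (S : Setup A C Y) (hA : IsPGroup p A)
    (hgood : Good p (Y.map (QuotientGroup.mk' A))) {h a : Λ}
    (hnp : ¬ ∃ k : ℕ, orderOf h = p ^ k) (ha : a ∈ A) (hh : h ∈ Tset C S.hCc a) : a ∈ C := by
  have hn0 : orderOf h ≠ 0 := (orderOf_pos h).ne'
  obtain ⟨k, m, hm, hkm⟩ := Nat.exists_eq_pow_mul_and_not_dvd hn0 p hp.out.ne_one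
  have hm1 : m ≠ 1 := by
    rintro rfl
    exact hnp ⟨k, by rw [hkm, mul_one]⟩
  have hox : orderOf (h ^ (p ^ k)) = m := by
    rw [orderOf_pow_of_dvd (pow_ne_zero k hp.out.ne_zero)
      (by rw [hkm]; exact dvd_mul_right _ _), hkm]
    exact Nat.mul_div_cancel_left m (pow_pos hp.out.pos k)
  have hcop : (orderOf (h ^ (p ^ k))).Coprime p := by
    rw [hox]
    exact ((Nat.Prime.coprime_iff_not_dvd hp.out).mpr hm).symm
  have hxT : h ^ (p ^ k) ∈ Tset C S.hCc a := Subgroup.pow_mem _ hh _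
  have hxb1 : QuotientGroup.mk' A (h ^ (p ^ k)) ≠ 1 := by
    intro h1
    have hxA : h ^ (p ^ k) ∈ A := (QuotientGroup.eq_one_iff _).mp h1
    obtain ⟨j, hj⟩ := hA ⟨_, hxA⟩
    have hj' : (h ^ (p ^ k)) ^ (p ^ j) = 1 := by
      have := congrArg Subtype.val hj
      simpa using this
    have h2 : orderOf (h ^ (p ^ k)) ∣ p ^ j := orderOf_dvd_of_pow_eq_one hj'
    have h3 : orderOf (h ^ (p ^ k)) = 1 := Nat.Coprime.eq_one_of_dvd (hcop.pow_right j) h2
    rw [hox] at h3
    exact hm1 h3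
  have hcopb : (orderOf (QuotientGroup.mk' A (h ^ (p ^ k)))).Coprime p :=
    Nat.Coprime.coprime_dvd_left (orderOf_map_dvd _ _) hcop
  rcases hgood _ hxb1 hcopb with hd | ⟨hp2, e₁, e₂, s1, s2, s3, d1, d2, d3⟩
  · exact fpf_of_dec S ha hxT hd
  · obtain ⟨ε₁, rfl⟩ := QuotientGroup.mk'_surjective A e₁
    obtain ⟨ε₂, rfl⟩ := QuotientGroup.mk'_surjective A e₂
    obtain ⟨j, hj⟩ := hA ⟨a, ha⟩
    have hj' : a ^ (p ^ j) = 1 := by
      have := congrArg Subtype.val hj
      simpa using this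
    have hodd : Odd (p ^ j) := (hp.out.odd_of_ne_two hp2).pow
    refine fpf_of_quaternion S ha hxT ?_ ?_ ?_ d1 d2 ?_ hodd (by rw [hj']; exact C.one_mem)
    · rw [map_mul]; exact s1
    · rw [map_mul]; exact s2
    · rw [map_mul, map_mul]; exact s3
    · rw [map_mul]; exact d3

end Cfsg.Agent.Lib.Lead.FrakV
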