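import Mathlib
import Cfsg.Agent.Lib.Lead.FrakV4
import Cfsg.Agent.Lib.Lead.FrakL2b

set_option autoImplicit false

/-!
The `SL₂(q)` case: a non-scalar element of trace `≠ 2` is a product of two unipotent elements from
different Sylow `p`-subgroups; the central involution is the square of a quaternion triple.
-/

namespace Cfsg.Agent.Lib.Lead.FrakV

open Cfsg Cfsg.Agent.Lib.Lead.FrakL
open scoped Matrix

section
variable {F : Type*} [Field F]

local notation "SL2" => Matrix.SpecialLinearGroup (Fin 2) F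

theorem cji00 (g M : SL2) : (g⁻¹ * M * g).1 0 0 =
    (g.1 1 1 * M.1 0 0 - g.1 0 1 * M.1 1 0) * g.1 0 0 +
      (g.1 1 1 * M.1 0 1 - g.1 0 1 * M.1 1 1) * g.1 1 0 := by
  rw [sl2_mul00, sl2_mul00, sl2_mul01, sl2_inv00, sl2_inv01]
  ring

theorem cji10 (g M : SL2) : (g⁻¹ * M * g).1 1 0 =
    (-(g.1 1 0) * M.1 0 0 + g.1 0 0 * M.1 1 0) * g.1 0 0 +
      (-(g.1 1 0) * M.1 0 1 + g.1 0 0 * M.1 1 1) * g.1 1 0 := by
  rw [sl2_mul10, sl2_mul10, sl2_mul11, sl2_inv10, sl2_inv11]

theorem cjk00 (k x : SL2) : (k * x * k⁻¹).1 0 0 =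
    (k.1 0 0 * x.1 0 0 + k.1 0 1 * x.1 1 0) * k.1 1 1 -
      (k.1 0 0 * x.1 0 1 + k.1 0 1 * x.1 1 1) * k.1 1 0 := by
  rw [sl2_mul00, sl2_mul00, sl2_mul01, sl2_inv00, sl2_inv10]
  ring

theorem cjk10 (k x : SL2) : (k * x * k⁻¹).1 1 0 =
    (k.1 1 0 * x.1 0 0 + k.1 1 1 * x.1 1 0) * k.1 1 1 -
      (k.1 1 0 * x.1 0 1 + k.1 1 1 * x.1 1 1) * k.1 1 0 := by
  rw [sl2_mul10, sl2_mul10, sl2_mul11, sl2_inv00, sl2_inv10]
  ring

theorem cjk11 (k x : SL2) : (k * x * k⁻¹).1 1 1 =
    -((k.1 1 0 * x.1 0 0 + k.1 1 1 * x.1 1 0) * k.1 0 1) +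
      (k.1 1 0 * x.1 0 1 + k.1 1 1 * x.1 1 1) * k.1 0 0 := by
  rw [sl2_mul11, sl2_mul10, sl2_mul11, sl2_inv01, sl2_inv11]
  ring

theorem cjk_trace (k x : SL2) :
    (k * x * k⁻¹).1 0 0 + (k * x * k⁻¹).1 1 1 = x.1 0 0 + x.1 1 1 := by
  rw [cjk00, cjk11]
  linear_combination (x.1 0 0 + x.1 1 1) * sl2_det k

/-- `[[u, -c⁻¹], [c, 0]]` -/
def lowMat (u c : F) (hc : c ≠ 0) : SL2 :=
  ⟨!![u, -c⁻¹; c, 0], by simp [Matrix.det_fin_two, hc]⟩

/-- the Weyl element -/
def wMat : SL2 := ⟨!![0, 1; -1, 0], by simp [Matrix.det_fin_two]⟩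

/-- a lower unitriangular element -/
def lMat : SL2 := ⟨!![1, 0; 1, 1], by simp [Matrix.det_fin_two]⟩

theorem dec_Usub_of_ne {x : SL2} (hc : x.1 1 0 ≠ 0) (htr : x.1 0 0 + x.1 1 1 ≠ 2) :
    Dec (Usub : Subgroup SL2) x := by
  have hdet := sl2_det x
  obtain ⟨s, hs⟩ : ∃ s : F, s * x.1 1 0 = x.1 0 0 + x.1 1 1 - 2 :=
    ⟨(x.1 0 0 + x.1 1 1 - 2) / x.1 1 0, by field_simp⟩
  have hcc : (x.1 1 0)⁻¹ * x.1 1 0 = 1 := inv_mul_cancel₀ hc
  have g00 : (lowMat (1 - x.1 1 1) (x.1 1 0) hc).1 0 0 = 1 - x.1 1 1 := rfl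
  have g01 : (lowMat (1 - x.1 1 1) (x.1 1 0) hc).1 0 1 = -(x.1 1 0)⁻¹ := rfl
  have g10 : (lowMat (1 - x.1 1 1) (x.1 1 0) hc).1 1 0 = x.1 1 0 := rfl
  have g11 : (lowMat (1 - x.1 1 1) (x.1 1 0) hc).1 1 1 = 0 := rfl
  have m00 : ((uMat s)⁻¹ * x).1 0 0 = x.1 0 0 - s * x.1 1 0 := by
    rw [sl2_mul00, sl2_inv00, sl2_inv01, uMat11, uMat01]; ring
  have m01 : ((uMat s)⁻¹ * x).1 0 1 = x.1 0 1 - s * x.1 1 1 := by
    rw [sl2_mul01, sl2_inv00, sl2_inv01, uMat11, uMat01]; ring
  have m10 : ((uMat s)⁻¹ * x).1 1 0 = x.1 1 0 := by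
    rw [sl2_mul10, sl2_inv10, sl2_inv11, uMat10, uMat00]; ring
  have m11 : ((uMat s)⁻¹ * x).1 1 1 = x.1 1 1 := by
    rw [sl2_mul11, sl2_inv10, sl2_inv11, uMat10, uMat00]; ring
  refine ⟨1, lowMat (1 - x.1 1 1) (x.1 1 0) hc, uMat s, (uMat s)⁻¹ * x, ?_, ?_, by group, ?_, ?_⟩
  · rw [mem_cj, inv_one, one_mul, mul_one]
    exact uMat_mem s
  · rw [mem_cj]
    apply mem_Usub_of
    · rw [cji00, m00, m01, m10, m11, g00, g01, g10, g11]
      linear_combination hcc
    · rw [cji10, m00, m01, m10, m11, g00, g10]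
      linear_combination (x.1 1 0) * hs + (x.1 1 0) * hdet
  · intro hn
    rw [mem_normalizer_cj, inv_one, one_mul, mul_one] at hn
    have := apply10_of_mem_normalizer hn
    rw [m10] at this
    exact hc this
  · intro hn
    rw [mem_normalizer_cj] at hn
    have h1 := apply10_of_mem_normalizer hn
    rw [cji10, uMat00, uMat01, uMat10, uMat11, g00, g10] at h1
    have h2 : x.1 1 0 * x.1 1 0 * s = 0 := by linear_combination -h1
    have h3 : s = 0 := by
      rcases mul_eq_zero.mp h2 with h | h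
      · rcases mul_eq_zero.mp h with h | h <;> exact absurd h hc
      · exact h
    apply htr
    rw [h3, zero_mul] at hs
    linear_combination -hs

/-- a non-scalar element of trace `≠ 2` decomposes -/
theorem dec_Usub {x : SL2} (hns : ¬ (x.1 0 1 = 0 ∧ x.1 1 0 = 0 ∧ x.1 0 0 = x.1 1 1))
    (htr : x.1 0 0 + x.1 1 1 ≠ 2) : Dec (Usub : Subgroup SL2) x := by
  have red : ∀ k : SL2, (k * x * k⁻¹).1 1 0 ≠ 0 → Dec (Usub : Subgroup SL2) x := by
    intro k hk
    have h1 := dec_Usub_of_ne hk (by rw [cjk_trace]; exact htr)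
    have h2 := h1.conj k⁻¹
    have e : k⁻¹ * (k * x * k⁻¹) * k⁻¹⁻¹ = x := by group
    rwa [e] at h2
  by_cases hc : x.1 1 0 = 0
  · by_cases hb : x.1 0 1 = 0
    · have had : x.1 0 0 ≠ x.1 1 1 := fun h => hns ⟨hb, hc, h⟩
      apply red lMat
      rw [cjk10]
      have k10 : (lMat : SL2).1 1 0 = 1 := rfl
      have k11 : (lMat : SL2).1 1 1 = 1 := rfl
      rw [k10, k11, hc, hb]
      intro h
      apply had
      linear_combination h
    · apply red wMat
      rw [cjk10]
      have k10 : (wMat : SL2).1 1 0 = -1 := rfl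
      have k11 : (wMat : SL2).1 1 1 = 0 := rfl
      rw [k10, k11]
      intro h
      apply hb
      linear_combination -h
  · exact dec_Usub_of_ne hc htr

end

section
variable {F : Type*} [Field F] [Fintype F]

local notation "SL2" => Matrix.SpecialLinearGroup (Fin 2) F

theorem pow_of_trace_two {x : SL2} (htr : x.1 0 0 + x.1 1 1 = 2) (n : ℕ) :
    (x ^ n).1 0 0 = 1 + n * (x.1 0 0 - 1) ∧ (x ^ n).1 0 1 = n * x.1 0 1 ∧
      (x ^ n).1 1 0 = n * x.1 1 0 ∧ (x ^ n).1 1 1 = 1 + n * (x.1 1 1 - 1) := by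
  have hdet := sl2_det x
  induction n with
  | zero =>
    refine ⟨?_, ?_, ?_, ?_⟩
    · rw [pow_zero, one00]; simp
    · rw [pow_zero, one01]; simp
    · rw [pow_zero, one10]; simp
    · rw [pow_zero, one11]; simp
  | succ n ih =>
    obtain ⟨i1, i2, i3, i4⟩ := ih
    refine ⟨?_, ?_, ?_, ?_⟩
    · rw [pow_succ, sl2_mul00, i1, i2]
      push_cast
      linear_combination (n : F) * x.1 0 0 * htr - (n : F) * hdet
    · rw [pow_succ, sl2_mul01, i1, i2]
      push_cast
      linear_combination (n : F) * x.1 0 1 * htr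
    · rw [pow_succ, sl2_mul10, i3, i4]
      push_cast
      linear_combination (n : F) * x.1 1 0 * htr
    · rw [pow_succ, sl2_mul11, i3, i4]
      push_cast
      linear_combination (n : F) * x.1 1 1 * htr - (n : F) * hdet

theorem trace_ne_two {p : ℕ} [hp : Fact p.Prime] [CharP F p] {x : SL2} (hx1 : x ≠ 1)
    (hcop : (orderOf x).Coprime p) : x.1 0 0 + x.1 1 1 ≠ 2 := by
  intro htr
  obtain ⟨i1, i2, i3, i4⟩ := pow_of_trace_two htr p
  have hp0 : ((p : ℕ) : F) = 0 := CharP.cast_eq_zero F p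
  have hxp : x ^ p = 1 := by
    apply sl2_ext
    · rw [i1, hp0, one00]; ring
    · rw [i2, hp0, one01]; ring
    · rw [i3, hp0, one10]; ring
    · rw [i4, hp0, one11]; ring
  have h1 : orderOf x ∣ p := orderOf_dvd_of_pow_eq_one hxp
  have h2 : orderOf x = 1 := Nat.Coprime.eq_one_of_dvd hcop h1
  exact hx1 (orderOf_eq_one_iff.mp h2)

/-- `[[α, β], [β, -α]]` with `α² + β² = -1` -/
def qMat (α β : F) (h : α ^ 2 + β ^ 2 = -1) : SL2 :=
  ⟨!![α, β; β, -α], by rw [Matrix.det_fin_two]; simp; linear_combination -h⟩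

theorem good_Usub {p : ℕ} [hp : Fact p.Prime] [CharP F p] : Good p (Usub : Subgroup SL2) := by
  intro x hx1 hcop
  have htr := trace_ne_two hx1 hcop
  by_cases hns : x.1 0 1 = 0 ∧ x.1 1 0 = 0 ∧ x.1 0 0 = x.1 1 1
  · right
    obtain ⟨hb, hc, had⟩ := hns
    have hdet := sl2_det x
    rw [hb, zero_mul, sub_zero, ← had] at hdet
    have hxm : x.1 0 0 = -1 := by
      have h1 : (x.1 0 0 - 1) * (x.1 0 0 + 1) = 0 := by linear_combination hdet
      rcases mul_eq_zero.mp h1 with h | h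
      · exfalso
        apply hx1
        have h00 : x.1 0 0 = 1 := by linear_combination h
        exact sl2_ext (by rw [h00, one00]) (by rw [hb, one01]) (by rw [hc, one10])
          (by rw [← had, h00, one11])
      · linear_combination h
    have h2ne : (2 : F) ≠ 0 := by
      intro h2
      apply htr
      rw [← had, hxm]
      linear_combination (-2) * h2
    have hp2 : p ≠ 2 := by
      rintro rfl
      apply h2ne
      have := CharP.cast_eq_zero F 2
      exact_mod_cast this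
    haveI : NeZero p := ⟨hp.out.ne_zero⟩
    obtain ⟨a, b, hab⟩ := CharP.sq_add_sq F p (-1)
    have hab' : (a : F) ^ 2 + (b : F) ^ 2 = -1 := by
      rw [hab]; simp
    have q00 : (qMat (a : F) (b : F) hab').1 0 0 = (a : F) := rfl
    have q01 : (qMat (a : F) (b : F) hab').1 0 1 = (b : F) := rfl
    have q10 : (qMat (a : F) (b : F) hab').1 1 0 = (b : F) := rfl
    have q11 : (qMat (a : F) (b : F) hab').1 1 1 = -(a : F) := rfl
    have w00 : (wMat : SL2).1 0 0 = 0 := rfl
    have w01 : (wMat : SL2).1 0 1 = 1 := rfl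
    have w10 : (wMat : SL2).1 1 0 = -1 := rfl
    have w11 : (wMat : SL2).1 1 1 = 0 := rfl
    have p00 : (wMat * qMat (a : F) (b : F) hab').1 0 0 = (b : F) := by
      rw [sl2_mul00, w00, w01, q10]; ring
    have p01 : (wMat * qMat (a : F) (b : F) hab').1 0 1 = -(a : F) := by
      rw [sl2_mul01, w00, w01, q11]; ring
    have p10 : (wMat * qMat (a : F) (b : F) hab').1 1 0 = -(a : F) := by
      rw [sl2_mul10, w10, w11, q00]; ring
    have p11 : (wMat * qMat (a : F) (b : F) hab').1 1 1 = -(b : F) := by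
      rw [sl2_mul11, w10, w11, q01]; ring
    have hab0 : ¬ ((a : F) = 0 ∧ (b : F) = 0) := by
      rintro ⟨ha, hb'⟩
      have hab2 := hab'
      rw [ha, hb'] at hab2
      have : (1 : F) = 0 := by linear_combination hab2
      exact one_ne_zero this
    refine ⟨hp2, wMat, qMat (a : F) (b : F) hab', ?_, ?_, ?_, ?_, ?_, ?_⟩
    · apply sl2_ext
      · rw [sl2_mul00, w00, w01, w10, hxm]; ring
      · rw [sl2_mul01, w00, w01, w11, hb]; ring
      · rw [sl2_mul10, w00, w10, w11, hc]; ring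
      · rw [sl2_mul11, w01, w10, w11, ← had, hxm]; ring
    · apply sl2_ext
      · rw [sl2_mul00, q00, q01, q10, hxm]; linear_combination hab'
      · rw [sl2_mul01, q00, q01, q11, hb]; ring
      · rw [sl2_mul10, q00, q10, q11, hc]; ring
      · rw [sl2_mul11, q01, q10, q11, ← had, hxm]; linear_combination hab'
    · apply sl2_ext
      · rw [sl2_mul00, p00, p01, p10, hxm]; linear_combination hab'
      · rw [sl2_mul01, p00, p01, p11, hb]; ring
      · rw [sl2_mul10, p00, p10, p11, hc]; ring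
      · rw [sl2_mul11, p01, p10, p11, ← had, hxm]; linear_combination hab'
    · apply dec_Usub
      · rintro ⟨h, -, -⟩
        rw [w01] at h
        exact one_ne_zero h
      · rw [w00, w11]
        intro h
        apply h2ne
        linear_combination -h
    · apply dec_Usub
      · rintro ⟨h1, -, h3⟩
        rw [q01] at h1
        rw [q00, q11] at h3
        apply hab0
        refine ⟨?_, h1⟩
        have : (2 : F) * a = 0 := by linear_combination h3
        rcases mul_eq_zero.mp this with h | h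
        · exact absurd h h2ne
        · exact h
      · rw [q00, q11]
        intro h
        apply h2ne
        linear_combination -h
    · apply dec_Usub
      · rintro ⟨h1, -, h3⟩
        rw [p01] at h1
        rw [p00, p11] at h3
        apply hab0
        refine ⟨by linear_combination -h1, ?_⟩
        have : (2 : F) * b = 0 := by linear_combination h3
        rcases mul_eq_zero.mp this with h | h
        · exact absurd h h2ne
        · exact h
      · rw [p00, p11]
        intro h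
        apply h2ne
        linear_combination -h
  · exact Or.inl (dec_Usub hns htr)

/-- an elementary abelian `p`-subgroup of order `|F|` of `SL₂(F)` is good -/
theorem good_SL2 {p : ℕ} [hp : Fact p.Prime] (E : Subgroup SL2) (hE : IsElementaryAbelian p E)
    (hcard : Nat.card E = Fintype.card F) : Good p E := by
  have hEp : IsPGroup p E := by
    intro a
    refine ⟨1, ?_⟩
    apply Subtype.ext
    have := hE.2 a.1 a.2
    simpa using this
  obtain ⟨k, hk⟩ := hEp.exists_card_eq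
  have hk0 : k ≠ 0 := by
    rintro rfl
    rw [pow_zero] at hk
    have := Fintype.one_lt_card (α := F)
    omega
  haveI : CharP F p := charP_of_card_eq_pow hp.out hk0 (by rw [← hcard, hk])
  letI := vecAct E
  have hdvd : p ∣ Nat.card (Fin 2 → F) := by
    rw [Nat.card_eq_fintype_card, Fintype.card_fun, Fintype.card_fin, ← hcard, hk]
    exact dvd_pow (dvd_pow_self p hk0) two_ne_zero
  have h0 : (0 : Fin 2 → F) ∈ MulAction.fixedPoints E (Fin 2 → F) := by
    intro g
    show (g : SL2).1 *ᵥ 0 = 0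
    exact Matrix.mulVec_zero _
  obtain ⟨b, hb, hb0⟩ := hEp.exists_fixed_point_of_prime_dvd_card_of_fixed_point (Fin 2 → F) hdvd h0
  have hfix : ∀ h ∈ E, h.1 0 0 * b 0 + h.1 0 1 * b 1 = b 0 ∧ h.1 1 0 * b 0 + h.1 1 1 * b 1 = b 1 := by
    intro h hh
    have e : h.1 *ᵥ b = b := hb ⟨h, hh⟩
    constructor
    · have := congrFun e 0
      simpa [Matrix.mulVec, dotProduct, Fin.sum_univ_two] using this
    · have := congrFun e 1
      simpa [Matrix.mulVec, dotProduct, Fin.sum_univ_two] using this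
  obtain ⟨g, g00, g10⟩ : ∃ g : SL2, g.1 0 0 = b 0 ∧ g.1 1 0 = b 1 := by
    by_cases hb0' : b 0 = 0
    · have hb1 : b 1 ≠ 0 := by
        intro h1
        apply hb0
        ext i
        fin_cases i
        · exact hb0'.symm
        · exact h1.symm
      refine ⟨⟨!![0, -(b 1)⁻¹; b 1, 0], ?_⟩, ?_, ?_⟩
      · rw [Matrix.det_fin_two]
        simp
        field_simp
      · simp [hb0']
      · simp
    · refine ⟨⟨!![b 0, 0; b 1, (b 0)⁻¹], ?_⟩, ?_, ?_⟩
      · rw [Matrix.det_fin_two]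
        simp
        field_simp
      · simp
      · simp
  have hdet := sl2_det g
  rw [g00, g10] at hdet
  have hle : cj g⁻¹ E ≤ (Usub : Subgroup SL2) := by
    rintro _ ⟨h, hh, rfl⟩
    obtain ⟨f1, f2⟩ := hfix h hh
    show g⁻¹ * h * g⁻¹⁻¹ ∈ Usub
    rw [inv_inv]
    apply mem_Usub_of
    · rw [sl2_mul00, sl2_mul00, sl2_mul01, sl2_inv00, sl2_inv01, g00, g10]
      linear_combination (g.1 1 1) * f1 - (g.1 0 1) * f2 + hdet
    · rw [sl2_mul10, sl2_mul10, sl2_mul11, sl2_inv10, sl2_inv11, g00, g10]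
      linear_combination (-(b 1)) * f1 + (b 0) * f2
  have hcardE' : Nat.card (cj g⁻¹ E) = Nat.card (Usub : Subgroup SL2) := by
    rw [card_Usub, Nat.card_eq_fintype_card (α := F), ← hcard]
    exact (Nat.card_congr (E.equivMapOfInjective _ (MulAut.conj g⁻¹).injective).toEquiv).symm
  have heq : cj g⁻¹ E = Usub :=
    Subgroup.eq_of_le_of_card_ge hle (by rw [hcardE'])
  apply Good.of_cj g⁻¹
  rw [heq]
  exact good_Usub

end

end Cfsg.Agent.Lib.Lead.FrakV
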