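import Mathlib
import Cfsg.Agent.Lib.Lead.FrakV4
import Cfsg.Agent.Lib.Lead.FrakL6
import Cfsg.Agent.Lib.Helper3.Sz39

set_option autoImplicit false
set_option linter.unusedSectionVars false

/-!
The Suzuki case (`q > 2`): every nontrivial element of odd order of `Sz(q)` is inverted by an
involution, hence is a product of two involutions from the centres of two different Sylow
`2`-subgroups.
-/

namespace Cfsg.Agent.Lib.Lead.FrakV

open Cfsg Cfsg.Agent.Lib.Helper3.Sz Cfsg.Agent.Lib.Lead.FrakL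

section
variable {F : Type*} [Field F] [CharP F 2] (T : Tits F)

theorem Zc_comm : ∀ a ∈ Zc T, ∀ b ∈ Zc T, a * b = b * a := by
  intro a ha b hb
  obtain ⟨c, rfl⟩ := (mem_Zc T).mp ha
  obtain ⟨d, rfl⟩ := (mem_Zc T).mp hb
  rw [uG_zero_mul, uG_zero_mul, add_comm]

/-- an element of the Borel subgroup of square one lies in `Z` -/
theorem mem_Zc_of_sq [Fintype F] (hT : T.IsPow) {v : Gam T} (hv : v ∈ Borel T) (hsq : v ^ 2 = 1) :
    v ∈ Zc T := by
  obtain ⟨a, b, k, rfl⟩ := borel_decomp T hT hv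
  have e : (uG T a b * hG T k) ^ 2 =
      uG T a b * uG T ((k : F) ^ 2 * a) (T.θ k ^ 2 * (k : F) ^ 2 * b) * hG T (k * k) := by
    rw [pow_two, mul_assoc, ← mul_assoc (hG T k), hG_mul_uG, mul_assoc, mul_assoc, hG_mul,
      ← mul_assoc]
  rw [uG_mul] at e
  have h1 : uG T (a + (k : F) ^ 2 * a) (b + T.θ k ^ 2 * (k : F) ^ 2 * b + T.θ a * ((k : F) ^ 2 * a)) *
      hG T (k * k) = uG T 0 0 * hG T 1 := by
    rw [← e, hsq, uG_zero, hG_one, mul_one]
  obtain ⟨_, _, hk⟩ := uG_mul_hG_injective T h1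
  have hk1 : k = 1 := by
    apply Units.ext
    have : (k : F) ^ 2 = 1 := by
      rw [pow_two, ← Units.val_mul, hk, Units.val_one]
    exact sq_eq_one_iff.mp this
  rw [hk1, hG_one, mul_one] at hsq ⊢
  have ha := uG_sq_eq_one T hsq
  rw [ha]
  exact (mem_Zc T).mpr ⟨b, rfl⟩

theorem odd_sq_add_one [Fintype F] : ¬ 2 ∣ Nat.card F ^ 2 + 1 := by
  obtain ⟨n, hn⟩ := even_card (F := F)
  rw [hn]
  intro h
  have : (n + n) ^ 2 + 1 = 2 * (2 * n ^ 2) + 1 := by ring
  rw [this] at h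
  omega

/-- involutions have a fixed point -/
theorem not_fpf_of_invol [Fintype F] (hT : T.IsPow) {t : Gam T} (ht : t * t = 1) (ht1 : t ≠ 1) :
    ¬ Fpf T t := by
  intro hf
  have h2 : orderOf t = 2 := orderOf_eq_prime (by rw [pow_two]; exact ht) ht1
  have h3 : orderOf t ∣ Nat.card (Tor T t) := Subgroup.orderOf_dvd_natCard _ (self_mem_Tor t)
  rw [h2] at h3
  exact odd_sq_add_one (Dvd.dvd.trans h3 (hf.card_dvd hT))

theorem hG_sq_ne_one {k : Fˣ} (hk : k ≠ 1) : hG T k * hG T k ≠ 1 := by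
  intro h
  rw [hG_mul, ← hG_one T] at h
  have h1 := hG_injective T h
  apply hk
  apply Units.ext
  have : (k : F) ^ 2 = 1 := by
    rw [pow_two, ← Units.val_mul, h1, Units.val_one]
  exact sq_eq_one_iff.mp this

/-- every involution lies in a conjugate of `Z` -/
theorem invol_mem_cj [Fintype F] (hT : T.IsPow) {t : Gam T} (ht : t * t = 1) (ht1 : t ≠ 1) :
    ∃ g, t ∈ cj g (Zc T) := by
  have hnf := not_fpf_of_invol T hT ht ht1
  have hex : ∃ P : ovoid T, t • P = P := by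
    by_contra h
    push Not at h
    exact hnf h
  obtain ⟨P, hP⟩ := hex
  have hsq : ∀ z : Gam T, (z⁻¹ * t * z) * (z⁻¹ * t * z) = 1 := by
    intro z
    calc (z⁻¹ * t * z) * (z⁻¹ * t * z) = z⁻¹ * (t * t) * z := by group
      _ = 1 := by rw [ht]; group
  obtain ⟨z, ⟨a, b, -, hz⟩ | ⟨k, hk, hz⟩⟩ := exists_conj_of_fix T hT ht1 hP
  · refine ⟨z, ?_⟩
    rw [mem_cj, hz]
    have h1 := hsq z
    rw [hz, ← pow_two] at h1
    rw [uG_sq_eq_one T h1]
    exact (mem_Zc T).mpr ⟨b, rfl⟩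
  · exfalso
    have h1 := hsq z
    rw [hz] at h1
    exact hG_sq_ne_one T hk h1

/-- involutions normalizing a conjugate of `Z` lie in it -/
theorem invol_mem_of_normalizer [Fintype F] (hT : T.IsPow) (g t : Gam T) (ht : t * t = 1)
    (hn : t ∈ Subgroup.normalizer ((cj g (Zc T) : Subgroup (Gam T)) : Set (Gam T))) :
    t ∈ cj g (Zc T) := by
  rw [mem_normalizer_cj, normalizer_Zc T hT] at hn
  rw [mem_cj]
  apply mem_Zc_of_sq T hT hn
  rw [pow_two]
  calc (g⁻¹ * t * g) * (g⁻¹ * t * g) = g⁻¹ * (t * t) * g := by group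
    _ = 1 := by rw [ht]; group

/-- the involutions of the normalizer of an exceptional torus invert it -/
theorem Fpf.exists_inverting [Fintype F] (hT : T.IsPow) {g : Gam T} (hg : Fpf T g)
    (hN : Nat.card (Subgroup.normalizer (Tor T g : Set (Gam T))) = 4 * Nat.card (Tor T g)) :
    ∃ t : Gam T, t * t = 1 ∧ ∀ c ∈ Tor T g, t * c * t = c⁻¹ := by
  haveI : Fact (Nat.Prime 2) := ⟨Nat.prime_two⟩
  have h2 : 2 ∣ Nat.card (Subgroup.normalizer (Tor T g : Set (Gam T))) := by
    rw [hN]; exact ⟨2 * Nat.card (Tor T g), by ring⟩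
  obtain ⟨⟨t, htN⟩, hto⟩ := exists_prime_orderOf_dvd_card' 2 h2
  have hto' : orderOf t = 2 := by
    rw [← hto]; exact (Subgroup.orderOf_mk t htN).symm
  have htt : t * t = 1 := by
    rw [← pow_two, ← hto']; exact pow_orderOf_eq_one t
  have htinv : t⁻¹ = t := inv_eq_of_mul_eq_one_left htt
  have htC : t ∉ Tor T g := by
    intro h
    have h3 : orderOf t ∣ Nat.card (Tor T g) := Subgroup.orderOf_dvd_natCard _ h
    rw [hto'] at h3
    exact odd_sq_add_one (Dvd.dvd.trans h3 (hg.card_dvd hT))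
  refine ⟨t, htt, ?_⟩
  intro c hc
  have hc' : t * c * t ∈ Tor T g := by
    have := (Subgroup.mem_normalizer_iff.mp htN c).mp hc
    rwa [htinv] at this
  have hcc : c * (t * c * t) ∈ Tor T g := Subgroup.mul_mem _ hc hc'
  have hcomm : c * (t * c * t) = (t * c * t) * c := hg.centralizer_comm hT _ hc _ hc'
  -- `t` centralizes `c * (t c t)`
  have hcent : t * (c * (t * c * t)) = (c * (t * c * t)) * t := by
    calc t * (c * (t * c * t)) = ((t * c * t) * c) * t := by group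
      _ = (c * (t * c * t)) * t := by rw [← hcomm]
  have hone : c * (t * c * t) = 1 := by
    by_contra hne
    have h5 := hg.centralizer_eq hT hcc hne
    apply htC
    show t ∈ Subgroup.centralizer ({g} : Set (Gam T))
    rw [← h5]
    exact mem_Tor_iff.mpr hcent
  exact eq_inv_of_mul_eq_one_right hone

/-- every nontrivial element of odd order is inverted by an involution -/
theorem exists_inverting [Fintype F] (hT : T.IsPow) {m : ℕ} (hm : 1 ≤ m)
    (hq : Nat.card F = 2 ^ (2 * m + 1)) {x : Gam T} (hx1 : x ≠ 1) (hcop : (orderOf x).Coprime 2) :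
    ∃ t : Gam T, t * t = 1 ∧ t * x * t = x⁻¹ := by
  by_cases hf : Fpf T x
  · obtain ⟨g₁, g₂, hg₁, hg₂, -, -, n1, n2, hall⟩ := fpf_classes hT hm hq
    have main : ∀ g : Gam T, Fpf T g →
        Nat.card (Subgroup.normalizer (Tor T g : Set (Gam T))) = 4 * Nat.card (Tor T g) →
        x ∈ Kcl T g → ∃ t, t * t = 1 ∧ t * x * t = x⁻¹ := by
      intro g hg hN hxK
      obtain ⟨-, y, hy⟩ := hxK
      obtain ⟨t, htt, hinv⟩ := Fpf.exists_inverting T hT hg hN
      refine ⟨y * t * y⁻¹, ?_, ?_⟩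
      · calc y * t * y⁻¹ * (y * t * y⁻¹) = y * (t * t) * y⁻¹ := by group
          _ = 1 := by rw [htt]; group
      · have h := hinv _ hy
        calc y * t * y⁻¹ * x * (y * t * y⁻¹) = y * (t * (y⁻¹ * x * y) * t) * y⁻¹ := by group
          _ = y * (y⁻¹ * x * y)⁻¹ * y⁻¹ := by rw [h]
          _ = x⁻¹ := by group
    rcases hall x hf with h | h
    · exact main g₁ hg₁ n1 h
    · exact main g₂ hg₂ n2 h
  · have hex : ∃ P : ovoid T, x • P = P := by
      by_contra h
      push Not at h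
      exact hf h
    obtain ⟨P, hP⟩ := hex
    obtain ⟨z, ⟨a, b, -, hz⟩ | ⟨k, hk, hz⟩⟩ := exists_conj_of_fix T hT hx1 hP
    · exfalso
      apply hx1
      have h4 : x ^ 4 = 1 := by
        have : x = z * uG T a b * z⁻¹ := by rw [← hz]; group
        rw [this, conj_pow, uG_pow_four]; group
      have h1 : orderOf x ∣ 2 ^ 2 := orderOf_dvd_of_pow_eq_one (by norm_num; exact h4)
      have h2 : orderOf x = 1 := Nat.Coprime.eq_one_of_dvd (hcop.pow_right 2) h1
      exact orderOf_eq_one_iff.mp h2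
    · refine ⟨z * tG T * z⁻¹, ?_, ?_⟩
      · calc z * tG T * z⁻¹ * (z * tG T * z⁻¹) = z * (tG T * tG T) * z⁻¹ := by group
          _ = 1 := by rw [tG_mul_tG]; group
      · have hx : x = z * hG T k * z⁻¹ := by rw [← hz]; group
        calc z * tG T * z⁻¹ * x * (z * tG T * z⁻¹)
            = z * (tG T * (z⁻¹ * x * z) * tG T) * z⁻¹ := by group
          _ = z * (hG T k)⁻¹ * z⁻¹ := by rw [hz, tG_hG_tG, hG_inv]
          _ = x⁻¹ := by rw [hx]; group

theorem good_Zc [Fintype F] (hT : T.IsPow) {m : ℕ} (hm : 1 ≤ m)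
    (hq : Nat.card F = 2 ^ (2 * m + 1)) : Good 2 (Zc T) := by
  intro x hx1 hcop
  left
  obtain ⟨t, htt, hinv⟩ := exists_inverting T hT hm hq hx1 hcop
  refine dec_of_inverted (Zc_comm T) (fun t ht ht1 => invol_mem_cj T hT ht ht1)
    (fun g t ht hn => invol_mem_of_normalizer T hT g t ht hn) htt hinv ?_
  intro h
  apply hx1
  have h1 : orderOf x ∣ 2 := orderOf_dvd_of_pow_eq_one (by rw [pow_two]; exact h)
  exact orderOf_eq_one_iff.mp (Nat.Coprime.eq_one_of_dvd hcop h1)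

theorem good_Gam [Fintype F] (hT : T.IsPow) {m : ℕ} (hm : 1 ≤ m)
    (hq : Nat.card F = 2 ^ (2 * m + 1)) (E : Subgroup (Gam T))
    (hE : IsElementaryAbelian 2 E) (hcard : Nat.card E = Nat.card F) : Good 2 E := by
  haveI : Fact (Nat.Prime 2) := ⟨Nat.prime_two⟩
  have hEp : IsPGroup 2 E := by
    intro a
    refine ⟨1, ?_⟩
    apply Subtype.ext
    have := hE.2 a.1 a.2
    simpa using this
  obtain ⟨P, hP⟩ := hEp.exists_le_sylow
  obtain ⟨g, hg⟩ := exists_conj_sylow T hT P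
  have hle : cj g⁻¹ E ≤ Zc T := by
    rintro _ ⟨e, he, rfl⟩
    have h1 : e ∈ (Usub T).map (MulAut.conj g).toMonoidHom := hg ▸ hP he
    obtain ⟨u, hu, hue⟩ := h1
    obtain ⟨a, b, rfl⟩ := hu
    have hue' : g * uG T a b * g⁻¹ = e := hue
    have h2 : (MulAut.conj g⁻¹).toMonoidHom e = uG T a b := by
      show g⁻¹ * e * g⁻¹⁻¹ = uG T a b
      rw [← hue']; group
    have h3 : uG T a b ^ 2 = 1 := by
      have h4 := hE.2 e he
      rw [← hue'] at h4
      have h5 : (g * uG T a b * g⁻¹) ^ 2 = g * uG T a b ^ 2 * g⁻¹ := by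
        rw [pow_two, pow_two]; group
      rw [h5] at h4
      have h6 : uG T a b ^ 2 = g⁻¹ * (g * uG T a b ^ 2 * g⁻¹) * g := by group
      rw [h6, h4]; group
    rw [h2, uG_sq_eq_one T h3]
    exact (mem_Zc T).mpr ⟨b, rfl⟩
  have hcard' : Nat.card (cj g⁻¹ E) = Nat.card (Zc T) := by
    rw [card_Zc, ← hcard]
    exact (Nat.card_congr (E.equivMapOfInjective _ (MulAut.conj g⁻¹).injective).toEquiv).symm
  have heq : cj g⁻¹ E = Zc T :=
    Subgroup.eq_of_le_of_card_ge hle (by rw [hcard'])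
  apply Good.of_cj g⁻¹
  rw [heq]
  exact good_Zc T hT hm hq

end

/-- The Suzuki case, `m ≥ 1`. -/
theorem good_lieSz {F : Type*} [Field F] [Fintype F] {m : ℕ} (hm : 1 ≤ m)
    (hF : Fintype.card F = 2 ^ (2 * m + 1))
    (E : Subgroup ↥(Cfsg.Lie.Sz F (2 ^ (m + 1)))) (hE : IsElementaryAbelian 2 E)
    (hcard : Nat.card E = Fintype.card F) : Good 2 E := by
  haveI : CharP F 2 := charP_two_of_card hF
  have hT : (titsOfCard hF).IsPow := titsOfCard_isPow hm hF
  have heq : Cfsg.Lie.Sz F (2 ^ (m + 1)) = GamGL (titsOfCard hF) :=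
    lieSz_eq (titsOfCard hF) hT (titsOfCard_apply hF)
  let ψ : ↥(Cfsg.Lie.Sz F (2 ^ (m + 1))) ≃* Gam (titsOfCard hF) :=
    (MulEquiv.subgroupCongr heq).trans (gamEquiv (titsOfCard hF)).symm
  apply Good.of_map_equiv ψ
  apply good_Gam (titsOfCard hF) hT hm (by rw [Nat.card_eq_fintype_card]; exact hF)
  · exact Cfsg.Agent.Lib.Helper9.isElementaryAbelian_map hE _
  · rw [Nat.card_eq_fintype_card (α := F), ← hcard]
    exact (Nat.card_congr (E.equivMapOfInjective _ ψ.injective).toEquiv).symm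

end Cfsg.Agent.Lib.Lead.FrakV
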