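import Mathlib
import Cfsg.Agent.Lib.Lead.FrakV4
import Cfsg.Agent.Lib.Lead.FrakL1

set_option autoImplicit false

/-!
The dihedral case: a rotation of `D_r` (`r` an odd prime) is a product of two reflections, and the
normalizer of the group generated by a reflection is that group.
-/

namespace Cfsg.Agent.Lib.Lead.FrakV

open Cfsg DihedralGroup

theorem two_ne_zero_zmod {r : ℕ} (hr : r.Prime) (hr2 : r ≠ 2) : (2 : ZMod r) ≠ 0 := by
  intro h
  have h1 : ((2 : ℕ) : ZMod r) = 0 := by exact_mod_cast h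
  rw [ZMod.natCast_eq_zero_iff] at h1
  exact hr2 ((Nat.prime_dvd_prime_iff_eq hr Nat.prime_two).mp h1)

theorem eq_zero_of_add_self {r : ℕ} [Fact r.Prime] (h2 : (2 : ZMod r) ≠ 0) {i : ZMod r}
    (h : i + i = 0) : i = 0 := by
  have : (2 : ZMod r) * i = 0 := by rw [two_mul]; exact h
  rcases mul_eq_zero.mp this with h | h
  · exact absurd h h2
  · exact h

theorem eq_sr_of_invol {r : ℕ} [Fact r.Prime] (h2 : (2 : ZMod r) ≠ 0) {t : DihedralGroup r}
    (ht : t * t = 1) (ht1 : t ≠ 1) : ∃ a, t = sr a := by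
  rcases t with i | a
  · exfalso
    apply ht1
    rw [r_mul_r, one_def] at ht
    have := DihedralGroup.r.inj ht
    rw [eq_zero_of_add_self h2 this, one_def]
  · exact ⟨a, rfl⟩

theorem sr_eq_of_mem_normalizer {r : ℕ} [Fact r.Prime] (h2 : (2 : ZMod r) ≠ 0)
    {E' : Subgroup (DihedralGroup r)} (hexp : ∀ e ∈ E', e * e = 1) {a b : ZMod r}
    (ha : sr a ∈ E') (hb : sr b ∈ Subgroup.normalizer (E' : Set (DihedralGroup r))) : b = a := by
  have h1 : sr b * sr a * (sr b)⁻¹ ∈ E' := (Subgroup.mem_normalizer_iff.mp hb (sr a)).mp ha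
  rw [inv_sr, sr_mul_sr, r_mul_sr] at h1
  have h3 := hexp _ (E'.mul_mem h1 ha)
  rw [sr_mul_sr, r_mul_r, one_def] at h3
  have h4 := DihedralGroup.r.inj h3
  have h5 : (a - b) + (a - b) = 0 := by
    apply eq_zero_of_add_self h2
    linear_combination h4
  have h6 := eq_zero_of_add_self h2 h5
  linear_combination -h6

theorem good_dihedral {r : ℕ} (hr : r.Prime) (hr2 : r ≠ 2) (E : Subgroup (DihedralGroup r))
    (hE : IsElementaryAbelian 2 E) (hbot : E ≠ ⊥) : Good 2 E := by
  haveI : Fact r.Prime := ⟨hr⟩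
  have h2 := two_ne_zero_zmod hr hr2
  have hZ : ∀ a ∈ E, ∀ b ∈ E, a * b = b * a := by
    intro a ha b hb
    have := hE.1.is_comm.comm (⟨a, ha⟩ : E) ⟨b, hb⟩
    exact congrArg Subtype.val this
  have hexp : ∀ e ∈ E, e * e = 1 := by
    intro e he
    rw [← pow_two]; exact hE.2 e he
  have hexp' : ∀ g : DihedralGroup r, ∀ e ∈ cj g E, e * e = 1 := by
    intro g e he
    have h := hexp _ (mem_cj.mp he)
    have e1 : g⁻¹ * e * g * (g⁻¹ * e * g) = g⁻¹ * (e * e) * g := by group
    rw [e1] at h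
    calc e * e = g * (g⁻¹ * (e * e) * g) * g⁻¹ := by group
      _ = 1 := by rw [h]; group
  have hsr1 : ∀ j : ZMod r, (sr j : DihedralGroup r) ≠ 1 := by
    intro j h
    rw [one_def] at h
    cases h
  obtain ⟨j, hj⟩ : ∃ j, sr j ∈ E := by
    obtain ⟨⟨e, he⟩, he1⟩ := (Subgroup.ne_bot_iff_exists_ne_one).mp hbot
    have he1' : e ≠ 1 := fun h => he1 (Subtype.ext h)
    obtain ⟨a, rfl⟩ := eq_sr_of_invol h2 (hexp e he) he1'
    exact ⟨a, he⟩
  have hcjsr : ∀ k : ZMod r, sr (j - (k + k)) ∈ cj (DihedralGroup.r k) E := by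
    intro k
    have := conj_mem_cj (g := DihedralGroup.r k) hj
    rw [r_mul_sr, inv_r, sr_mul_r] at this
    have e : j - k + -k = j - (k + k) := by ring
    rwa [e] at this
  intro x hx1 hcop
  left
  rcases x with i | a
  · have hi : i ≠ 0 := by
      rintro rfl
      exact hx1 one_def.symm
    refine dec_of_inverted hZ ?_ ?_ (t := sr 0) ?_ ?_ ?_
    · intro t ht ht1
      obtain ⟨a, rfl⟩ := eq_sr_of_invol h2 ht ht1
      refine ⟨DihedralGroup.r ((j - a) / 2), ?_⟩
      have := hcjsr ((j - a) / 2)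
      have e : j - ((j - a) / 2 + (j - a) / 2) = a := by
        field_simp
        ring
      rwa [e] at this
    · intro g t ht hn
      by_cases ht1 : t = 1
      · rw [ht1]; exact Subgroup.one_mem _
      · obtain ⟨b, rfl⟩ := eq_sr_of_invol h2 ht ht1
        have hmem : g * sr j * g⁻¹ ∈ cj g E := conj_mem_cj hj
        have hinv' : (g * sr j * g⁻¹) * (g * sr j * g⁻¹) = 1 := hexp' g _ hmem
        have hne : g * sr j * g⁻¹ ≠ 1 := by
          intro h
          have : sr j = 1 := by
            calc sr j = g⁻¹ * (g * sr j * g⁻¹) * g := by group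
              _ = 1 := by rw [h]; group
          exact hsr1 j this
        obtain ⟨a', ha'⟩ := eq_sr_of_invol h2 hinv' hne
        rw [ha'] at hmem
        have := sr_eq_of_mem_normalizer h2 (hexp' g) hmem hn
        rw [this]; exact hmem
    · exact sr_mul_self 0
    · rw [sr_mul_r, sr_mul_sr, inv_r]; congr 1; ring
    · rw [r_mul_r, one_def]
      intro h
      exact hi (eq_zero_of_add_self h2 (DihedralGroup.r.inj h))
  · exfalso
    rw [orderOf_sr] at hcop
    exact absurd hcop (by decide)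

end Cfsg.Agent.Lib.Lead.FrakV
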