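import Mathlib
import Cfsg.Agent.Lib.Lead.FrakV4
import Cfsg.Agent.Lib.Helper6.PCore

set_option autoImplicit false

/-!
Glue: the abstract setting `Setup` for `Λ = L`, `A = O_p(L)`, `C = C_Y(L)`, and the main theorem
in terms of subgroups of `G`.
-/

namespace Cfsg.Agent.Lib.Lead.FrakV

open Cfsg

variable {G : Type*} [Group G]

theorem setup_of (Y L : Subgroup G) (AL : Subgroup ↥L) [hAL : AL.Normal]
    (hYL : Y ≤ L)
    (hAcl : AL.map L.subtype = (Subgroup.normalClosure
        (((Y ⊓ AL.map L.subtype).subgroupOf L : Subgroup ↥L) : Set ↥L)).map L.subtype)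
    (hAY : AL.map L.subtype ≤ Subgroup.normalizer (Y : Set G))
    (hcl : Subgroup.normalClosure ((Y.subgroupOf L : Subgroup ↥L) : Set ↥L) = ⊤)
    (hmax : ∀ X : Subgroup G, Y ≤ X → X < L → X ≤ L ⊓ Subgroup.normalizer (Y : Set G))
    (hYab : ∀ y ∈ Y, ∀ y' ∈ Y, y * y' = y' * y)
    (hCA : (Y ⊓ Subgroup.centralizer (L : Set G)).subgroupOf L ≤ AL) :
    Setup AL ((Y ⊓ Subgroup.centralizer (L : Set G)).subgroupOf L) (Y.subgroupOf L) where
  hAn := hAL
  hCc := by
    intro c hc
    rw [Subgroup.mem_center_iff]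
    intro g
    have h1 : (c : G) ∈ Subgroup.centralizer (L : Set G) :=
      (Subgroup.mem_inf.mp (Subgroup.mem_subgroupOf.mp hc)).2
    have h2 := Subgroup.mem_centralizer_iff.mp h1 (g : G) g.2
    apply Subtype.ext
    simpa using h2
  hCA := hCA
  hCY := by
    ext c
    rw [Subgroup.mem_inf, Subgroup.mem_subgroupOf, Subgroup.mem_subgroupOf, Subgroup.mem_inf,
      Subgroup.mem_center_iff]
    constructor
    · rintro ⟨h1, h2⟩
      refine ⟨h1, ?_⟩
      intro g
      have := Subgroup.mem_centralizer_iff.mp h2 (g : G) g.2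
      apply Subtype.ext
      simpa using this
    · rintro ⟨h1, h2⟩
      refine ⟨h1, ?_⟩
      rw [Subgroup.mem_centralizer_iff]
      intro l hl
      have := h2 ⟨l, hl⟩
      have := congrArg Subtype.val this
      simpa using this
  hYab := by
    intro y hy y' hy'
    apply Subtype.ext
    have := hYab _ (Subgroup.mem_subgroupOf.mp hy) _ (Subgroup.mem_subgroupOf.mp hy')
    simpa using this
  hAY := by
    intro a ha
    have h1 : (a : G) ∈ Subgroup.normalizer (Y : Set G) := hAY ⟨a, ha, rfl⟩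
    rw [Subgroup.mem_normalizer_iff] at h1 ⊢
    intro l
    rw [Subgroup.mem_subgroupOf, Subgroup.mem_subgroupOf]
    have := h1 (l : G)
    simpa using this
  hcl := hcl
  hmax := by
    intro X hYX hXtop x hx
    have h1 : Y ≤ X.map L.subtype := by
      intro y hy
      exact ⟨⟨y, hYL hy⟩, hYX (Subgroup.mem_subgroupOf.mpr hy), rfl⟩
    have h2 : X.map L.subtype < L := by
      refine lt_of_le_of_ne (Subgroup.map_subtype_le X) ?_
      intro h
      apply hXtop
      rw [eq_top_iff]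
      intro l _
      have : (l : G) ∈ X.map L.subtype := by rw [h]; exact l.2
      obtain ⟨x', hx', hxl⟩ := this
      have : x' = l := Subtype.ext hxl
      exact this ▸ hx'
    have h3 : (x : G) ∈ Subgroup.normalizer (Y : Set G) :=
      (Subgroup.mem_inf.mp (hmax _ h1 h2 ⟨x, hx, rfl⟩)).2
    rw [Subgroup.mem_normalizer_iff] at h3 ⊢
    intro l
    rw [Subgroup.mem_subgroupOf, Subgroup.mem_subgroupOf]
    have := h3 (l : G)
    simpa using this
  hgen := by
    have h1 : AL = Subgroup.normalClosure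
        (((Y ⊓ AL.map L.subtype).subgroupOf L : Subgroup ↥L) : Set ↥L) :=
      Subgroup.map_injective L.subtype_injective hAcl
    have h2 : (Y ⊓ AL.map L.subtype).subgroupOf L = Y.subgroupOf L ⊓ AL := by
      ext l
      rw [Subgroup.mem_subgroupOf, Subgroup.mem_inf, Subgroup.mem_inf, Subgroup.mem_subgroupOf]
      constructor
      · rintro ⟨h3, a, ha, hal⟩
        have : a = l := Subtype.ext hal
        exact ⟨h3, this ▸ ha⟩
      · rintro ⟨h3, h4⟩
        exact ⟨h3, l, h4, rfl⟩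
    rw [h2] at h1
    exact h1

theorem C_le_pCore {p : ℕ} (Y L : Subgroup G) (hYexp : ∀ y ∈ Y, y ^ p = 1) :
    (Y ⊓ Subgroup.centralizer (L : Set G)).subgroupOf L ≤ Cfsg.pCore p ↥L := by
  apply Cfsg.Agent.Lib.Helper6.le_pCore
  · constructor
    intro c hc g
    have h1 : (c : G) ∈ Subgroup.centralizer (L : Set G) :=
      (Subgroup.mem_inf.mp (Subgroup.mem_subgroupOf.mp hc)).2
    have h2 : (g : G) * c = c * g := Subgroup.mem_centralizer_iff.mp h1 (g : G) g.2
    have : g * c * g⁻¹ = c := by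
      apply Subtype.ext
      rw [Subgroup.coe_mul, Subgroup.coe_mul, Subgroup.coe_inv, h2, mul_inv_cancel_right]
    rw [this]; exact hc
  · intro c
    refine ⟨1, ?_⟩
    have h1 : ((c : ↥L) : G) ∈ Y := (Subgroup.mem_inf.mp (Subgroup.mem_subgroupOf.mp c.2)).1
    have h2 := hYexp _ h1
    apply Subtype.ext
    apply Subtype.ext
    simpa using h2

theorem main_glue [Finite G] {p : ℕ} [hp : Fact p.Prime] (Y L : Subgroup G) (AL : Subgroup ↥L)
    [hAL : AL.Normal] (hYL : Y ≤ L)
    (hAcl : AL.map L.subtype = (Subgroup.normalClosure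
        (((Y ⊓ AL.map L.subtype).subgroupOf L : Subgroup ↥L) : Set ↥L)).map L.subtype)
    (hAY : AL.map L.subtype ≤ Subgroup.normalizer (Y : Set G))
    (hcl : Subgroup.normalClosure ((Y.subgroupOf L : Subgroup ↥L) : Set ↥L) = ⊤)
    (hmax : ∀ X : Subgroup G, Y ≤ X → X < L → X ≤ L ⊓ Subgroup.normalizer (Y : Set G))
    (hYab : ∀ y ∈ Y, ∀ y' ∈ Y, y * y' = y' * y)
    (hCA : (Y ⊓ Subgroup.centralizer (L : Set G)).subgroupOf L ≤ AL)
    (hALp : IsPGroup p AL)
    (hgood : Good p ((Y.subgroupOf L).map (QuotientGroup.mk' AL)))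
    {h a : G} (hh : h ∈ L) (hnp : ¬ ∃ k : ℕ, orderOf h = p ^ k) (ha : a ∈ AL.map L.subtype)
    (hc : h * a * h⁻¹ * a⁻¹ ∈ Y ⊓ Subgroup.centralizer (L : Set G)) :
    a ∈ Y ⊓ Subgroup.centralizer (L : Set G) := by
  have S := setup_of Y L AL hYL hAcl hAY hcl hmax hYab hCA
  obtain ⟨al, hal, rfl⟩ := ha
  have hnp' : ¬ ∃ k : ℕ, orderOf (⟨h, hh⟩ : ↥L) = p ^ k := by
    rw [Subgroup.orderOf_mk]; exact hnp
  have hT : (⟨h, hh⟩ : ↥L) ∈ Tset _ S.hCc al := by
    rw [mem_Tset, Subgroup.mem_subgroupOf]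
    simpa using hc
  have key := main_abstract S hALp hgood hnp' hal hT
  exact Subgroup.mem_subgroupOf.mp key

end Cfsg.Agent.Lib.Lead.FrakV
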