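import Mathlib
import Cfsg.Agent.Lib.Helper1.Conj
import Cfsg.Agent.Lib.Lead.Frattini
import Cfsg.Agent.Lib.Lead.Frattini2

set_option autoImplicit false

/-! Simple groups in which the centralizer of an involution `z` is a Sylow 2-subgroup with
Frattini subgroup `⟨z⟩`: basic set-up. -/

namespace Cfsg.Agent.Lib.Lead.FrattZ

variable {L : Type*} [Group L]

/-- centralizer of a single element -/
abbrev Cz (w : L) : Subgroup L := Subgroup.centralizer ({w} : Set L)

theorem mem_Cz {w a : L} : a ∈ Cz w ↔ a * w = w * a := Subgroup.mem_centralizer_singleton_iff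

theorem self_mem_Cz (w : L) : w ∈ Cz w := mem_Cz.mpr rfl

theorem mem_zpowers_two {z a : L} (hz : orderOf z = 2) : a ∈ Subgroup.zpowers z ↔ a = 1 ∨ a = z := by
  constructor
  · intro ha
    rw [Subgroup.mem_zpowers_iff] at ha
    obtain ⟨k, rfl⟩ := ha
    have h2 : z ^ (2 : ℤ) = 1 := by
      have := pow_orderOf_eq_one z
      rw [hz] at this
      exact_mod_cast this
    rcases Int.emod_two_eq_zero_or_one k with h | h
    · left
      have : k = 2 * (k / 2) := by omega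
      rw [this, zpow_mul, h2, one_zpow]
    · right
      have : k = 2 * (k / 2) + 1 := by omega
      rw [this, zpow_add, zpow_mul, h2, one_zpow, one_mul, zpow_one]
  · rintro (rfl | rfl)
    · exact one_mem _
    · exact Subgroup.mem_zpowers _

/-- the working hypotheses on an involution `z` -/
structure ZH (z : L) : Prop where
  ord : orderOf z = 2
  syl : ∃ P : Sylow 2 L, (P : Subgroup L) = Cz z
  sq : ∀ a ∈ Cz z, a * a = 1 ∨ a * a = z
  comm : ∀ a ∈ Cz z, ∀ b ∈ Cz z, a * b * a⁻¹ * b⁻¹ = 1 ∨ a * b * a⁻¹ * b⁻¹ = z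
  wit : (∃ a ∈ Cz z, a * a = z) ∨ ∃ a ∈ Cz z, ∃ b ∈ Cz z, a * b * a⁻¹ * b⁻¹ = z

open scoped Pointwise in
theorem mem_smul_sylow {p : ℕ} (P : Sylow p L) (y x : L) :
    x ∈ ((y • P : Sylow p L) : Subgroup L) ↔ y⁻¹ * x * y ∈ (P : Subgroup L) := by
  rw [Sylow.coe_subgroup_smul, Subgroup.mem_pointwise_smul_iff_inv_smul_mem]
  simp [MulAut.smul_def, MulAut.conj_apply]

theorem mem_Cz_conj {z g a : L} : a ∈ Cz (g * z * g⁻¹) ↔ g⁻¹ * a * g ∈ Cz z := by
  rw [mem_Cz, mem_Cz]
  constructor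
  · intro h
    calc g⁻¹ * a * g * z = g⁻¹ * (a * (g * z * g⁻¹)) * g := by group
      _ = g⁻¹ * ((g * z * g⁻¹) * a) * g := by rw [h]
      _ = z * (g⁻¹ * a * g) := by group
  · intro h
    calc a * (g * z * g⁻¹) = g * ((g⁻¹ * a * g) * z) * g⁻¹ := by group
      _ = g * (z * (g⁻¹ * a * g)) * g⁻¹ := by rw [h]
      _ = g * z * g⁻¹ * a := by group

theorem conj_mem_Cz_conj {z g a : L} (h : a ∈ Cz z) : g * a * g⁻¹ ∈ Cz (g * z * g⁻¹) := by
  rw [mem_Cz_conj]
  have : g⁻¹ * (g * a * g⁻¹) * g = a := by group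
  rw [this]; exact h

theorem orderOf_conj_eq (z g : L) : orderOf (g * z * g⁻¹) = orderOf z := by
  have := orderOf_injective (MulAut.conj g).toMonoidHom (MulAut.conj g).injective z
  simpa [MulAut.conj_apply] using this

theorem ZH.conj {z : L} (h : ZH z) (g : L) : ZH (g * z * g⁻¹) := by
  refine ⟨?_, ?_, ?_, ?_, ?_⟩
  · rw [orderOf_conj_eq]; exact h.ord
  · obtain ⟨P, hP⟩ := h.syl
    refine ⟨g • P, ?_⟩
    ext a
    rw [mem_smul_sylow, hP, mem_Cz_conj]
  · intro a ha
    rw [mem_Cz_conj] at ha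
    rcases h.sq _ ha with h1 | h1
    · left
      calc a * a = g * ((g⁻¹ * a * g) * (g⁻¹ * a * g)) * g⁻¹ := by group
        _ = 1 := by rw [h1]; group
    · right
      calc a * a = g * ((g⁻¹ * a * g) * (g⁻¹ * a * g)) * g⁻¹ := by group
        _ = g * z * g⁻¹ := by rw [h1]
  · intro a ha b hb
    rw [mem_Cz_conj] at ha hb
    rcases h.comm _ ha _ hb with h1 | h1
    · left
      calc a * b * a⁻¹ * b⁻¹
          = g * ((g⁻¹ * a * g) * (g⁻¹ * b * g) * (g⁻¹ * a * g)⁻¹ * (g⁻¹ * b * g)⁻¹) * g⁻¹ := by group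
        _ = 1 := by rw [h1]; group
    · right
      calc a * b * a⁻¹ * b⁻¹
          = g * ((g⁻¹ * a * g) * (g⁻¹ * b * g) * (g⁻¹ * a * g)⁻¹ * (g⁻¹ * b * g)⁻¹) * g⁻¹ := by group
        _ = g * z * g⁻¹ := by rw [h1]
  · rcases h.wit with ⟨a, ha, h1⟩ | ⟨a, ha, b, hb, h1⟩
    · left
      refine ⟨g * a * g⁻¹, conj_mem_Cz_conj ha, ?_⟩
      calc g * a * g⁻¹ * (g * a * g⁻¹) = g * (a * a) * g⁻¹ := by group
        _ = g * z * g⁻¹ := by rw [h1]
    · right
      refine ⟨g * a * g⁻¹, conj_mem_Cz_conj ha, g * b * g⁻¹, conj_mem_Cz_conj hb, ?_⟩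
      calc g * a * g⁻¹ * (g * b * g⁻¹) * (g * a * g⁻¹)⁻¹ * (g * b * g⁻¹)⁻¹
          = g * (a * b * a⁻¹ * b⁻¹) * g⁻¹ := by group
        _ = g * z * g⁻¹ := by rw [h1]

theorem ZH.ne_one {z : L} (h : ZH z) : z ≠ 1 := by
  intro h1
  have := h.ord
  rw [h1, orderOf_one] at this
  omega

theorem ZH.mul_self {z : L} (h : ZH z) : z * z = 1 := by
  have := pow_orderOf_eq_one z
  rwa [h.ord, pow_two] at this

theorem ZH.inv_eq {z : L} (h : ZH z) : z⁻¹ = z := inv_eq_of_mul_eq_one_left h.mul_self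

/-- the hypotheses of the statement give `ZH z` -/
theorem ZH.of_hyp [Finite L] (z : L) (hz : orderOf z = 2) (R : Sylow 2 L)
    (hR : (R : Subgroup L) = Cz z)
    (hΦ : (frattini ↥(R : Subgroup L)).map (R : Subgroup L).subtype = Subgroup.zpowers z) :
    ZH z := by
  have : Fact (Nat.Prime 2) := ⟨Nat.prime_two⟩
  have hpg : IsPGroup 2 ↥(R : Subgroup L) := R.isPGroup'
  have key : ∀ x : ↥(R : Subgroup L), x ∈ frattini ↥(R : Subgroup L) → (x : L) = 1 ∨ (x : L) = z := by
    intro x hx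
    have : (x : L) ∈ (frattini ↥(R : Subgroup L)).map (R : Subgroup L).subtype := ⟨x, hx, rfl⟩
    rw [hΦ] at this
    exact (mem_zpowers_two hz).mp this
  refine ⟨hz, ⟨R, hR⟩, ?_, ?_, ?_⟩
  · intro a ha
    rw [← hR] at ha
    have := key (⟨a, ha⟩ ^ 2) (pow_mem_frattini_of_isPGroup hpg ⟨a, ha⟩)
    simpa [pow_two] using this
  · intro a ha b hb
    rw [← hR] at ha hb
    have hc : (⟨a, ha⟩ : ↥(R : Subgroup L)) * ⟨b, hb⟩ * (⟨a, ha⟩ : ↥(R : Subgroup L))⁻¹ *
        (⟨b, hb⟩ : ↥(R : Subgroup L))⁻¹ ∈ frattini ↥(R : Subgroup L) :=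
      commutator_le_frattini_of_isPGroup hpg
        (Subgroup.commutator_mem_commutator (Subgroup.mem_top _) (Subgroup.mem_top _))
    have := key _ hc
    simpa using this
  · by_contra hcon
    push Not at hcon
    obtain ⟨h1, h2⟩ := hcon
    have hsq : ∀ a ∈ (R : Subgroup L), a * a = 1 := by
      intro a ha
      have ha' : a ∈ Cz z := hR ▸ ha
      have hpg2 := key (⟨a, ha⟩ ^ 2) (pow_mem_frattini_of_isPGroup hpg ⟨a, ha⟩)
      rcases hpg2 with h | h
      · simpa [pow_two] using h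
      · exfalso; apply h1 a ha'; simpa [pow_two] using h
    have hcm : ∀ a ∈ (R : Subgroup L), ∀ b ∈ (R : Subgroup L), a * b * a⁻¹ * b⁻¹ = 1 := by
      intro a ha b hb
      have ha' : a ∈ Cz z := hR ▸ ha
      have hb' : b ∈ Cz z := hR ▸ hb
      have hc : (⟨a, ha⟩ : ↥(R : Subgroup L)) * ⟨b, hb⟩ * (⟨a, ha⟩ : ↥(R : Subgroup L))⁻¹ *
          (⟨b, hb⟩ : ↥(R : Subgroup L))⁻¹ ∈ frattini ↥(R : Subgroup L) :=
        commutator_le_frattini_of_isPGroup hpg
          (Subgroup.commutator_mem_commutator (Subgroup.mem_top _) (Subgroup.mem_top _))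
      rcases key _ hc with h | h
      · simpa using h
      · exfalso; apply h2 a ha' b hb'; simpa using h
    have hfr : frattini ↥(R : Subgroup L) ≤ ⊥ := by
      apply frattini_le_of_elementary_quotient (p := 2)
      · rw [commutator_def, Subgroup.commutator_le]
        intro a _ b _
        rw [Subgroup.mem_bot]
        apply Subtype.ext
        have := hcm a a.2 b b.2
        simpa [commutatorElement_def] using this
      · intro x
        rw [Subgroup.mem_bot]
        apply Subtype.ext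
        have := hsq x x.2
        simpa [pow_two] using this
    have hzm : z ∈ (frattini ↥(R : Subgroup L)).map (R : Subgroup L).subtype := by
      rw [hΦ]; exact Subgroup.mem_zpowers z
    obtain ⟨x, hx, hxz⟩ := hzm
    have := hfr hx
    rw [Subgroup.mem_bot] at this
    rw [this] at hxz
    have hz1 : z = 1 := by rw [← hxz]; rfl
    rw [hz1, orderOf_one] at hz
    omega

end Cfsg.Agent.Lib.Lead.FrattZ
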