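import Mathlib
import Cfsg.Agent.Lib.Lead.FrattZ1

set_option autoImplicit false

/-! Local lemmas: normalizer, Burnside for central elements, elementary abelian subgroups of
index two and the conjugates of `z` they contain. -/

namespace Cfsg.Agent.Lib.Lead.FrattZ

open Cfsg.Agent.Lib.Helper1

variable {L : Type*} [Group L]

/-- `c` is central in `C(w)` -/
def Cen (w c : L) : Prop := c ∈ Cz w ∧ ∀ a ∈ Cz w, a * c = c * a

theorem Cen.self (w : L) : Cen w w := ⟨self_mem_Cz w, fun _ ha => mem_Cz.mp ha⟩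

/-- an element normalizing `C(w)` lies in it -/
theorem ZH.mem_of_normalizes {w n : L} (h : ZH w) (hn : ∀ a ∈ Cz w, n * a * n⁻¹ ∈ Cz w) :
    n ∈ Cz w := by
  have key : n * w * n⁻¹ = w → n ∈ Cz w := by
    intro h1
    rw [mem_Cz]
    calc n * w = (n * w * n⁻¹) * n := by group
      _ = w * n := by rw [h1]
  have hne : n * w * n⁻¹ ≠ 1 := by
    intro h1
    apply h.ne_one
    calc w = n⁻¹ * (n * w * n⁻¹) * n := by group
      _ = 1 := by rw [h1]; group
  apply key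
  rcases h.wit with ⟨a, ha, h1⟩ | ⟨a, ha, b, hb, h1⟩
  · have e : n * a * n⁻¹ * (n * a * n⁻¹) = n * w * n⁻¹ := by
      rw [← h1]; group
    rcases h.sq _ (hn a ha) with h2 | h2
    · exact absurd (e.symm.trans h2) hne
    · exact e.symm.trans h2
  · have e : n * a * n⁻¹ * (n * b * n⁻¹) * (n * a * n⁻¹)⁻¹ * (n * b * n⁻¹)⁻¹ = n * w * n⁻¹ := by
      rw [← h1]; group
    rcases h.comm _ (hn a ha) _ (hn b hb) with h2 | h2
    · exact absurd (e.symm.trans h2) hne
    · exact e.symm.trans h2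

theorem ZH.isPGroup {w : L} (h : ZH w) : IsPGroup 2 (Cz w) := by
  obtain ⟨P, hP⟩ := h.syl
  rw [← hP]
  exact P.isPGroup'

/-- if `C(w) ≤ C(w')` for a conjugate `w'` of `w` then `w' = w` -/
theorem ZH.eq_of_Cz_le {w g : L} (hw : ZH w) (hle : Cz w ≤ Cz (g * w * g⁻¹)) :
    g * w * g⁻¹ = w := by
  obtain ⟨P, hP⟩ := hw.syl
  have heq : Cz (g * w * g⁻¹) = Cz w := by
    rw [← hP]
    exact P.is_maximal' (hw.conj g).isPGroup (hP ▸ hle)
  have hg : g ∈ Cz w := by
    apply hw.mem_of_normalizes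
    intro a ha
    rw [← heq]
    exact conj_mem_Cz_conj ha
  rw [mem_Cz] at hg
  calc g * w * g⁻¹ = w * g * g⁻¹ := by rw [hg]
    _ = w := by group

/-- Burnside's lemma for central elements of `C(w)` -/
theorem ZH.central_conj_eq [Finite L] {w a b g : L} (hw : ZH w) (ha : Cen w a) (hb : Cen w b)
    (hab : g * a * g⁻¹ = b) : a = b := by
  haveI : Fact (Nat.Prime 2) := ⟨Nat.prime_two⟩
  obtain ⟨P, hP⟩ := hw.syl
  have hPK : (P : Subgroup L) ≤ Cz b := by
    intro x hx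
    rw [hP] at hx
    rw [mem_Cz]
    exact hb.2 x hx
  have hgPK : cj g (P : Subgroup L) ≤ Cz b := by
    intro x hx
    rw [mem_cj, hP] at hx
    rw [mem_Cz]
    have h1 := ha.2 _ hx
    calc x * b = g * ((g⁻¹ * x * g) * a) * g⁻¹ := by rw [← hab]; group
      _ = g * (a * (g⁻¹ * x * g)) * g⁻¹ := by rw [h1]
      _ = b * x := by rw [← hab]; group
  let PK : Sylow 2 ↥(Cz b) := P.subtype hPK
  have hPKmap : (PK : Subgroup ↥(Cz b)).map (Cz b).subtype = (P : Subgroup L) := by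
    rw [Sylow.coe_subtype, Subgroup.subgroupOf_map_subtype, inf_eq_left]
    exact hPK
  obtain ⟨c, hc, hle⟩ := exists_cj_le_sylow' (Cz b) PK (cj g (P : Subgroup L))
    (isPGroup_cj g P.2) hgPK
  rw [hPKmap, cj_cj] at hle
  have heq : cj (c⁻¹ * g) (P : Subgroup L) = (P : Subgroup L) :=
    Subgroup.eq_of_le_of_card_ge hle (by rw [card_cj])
  have hn : c⁻¹ * g ∈ Cz w := by
    apply hw.mem_of_normalizes
    intro x hx
    rw [← hP, ← heq]
    exact conj_mem_cj _ _ (hP ▸ hx)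
  have h1 := ha.2 _ hn
  have hcb : c * b = b * c := mem_Cz.mp hc
  calc a = (c⁻¹ * g) * a * (c⁻¹ * g)⁻¹ := by rw [h1]; group
    _ = c⁻¹ * (g * a * g⁻¹) * c := by group
    _ = c⁻¹ * b * c := by rw [hab]
    _ = c⁻¹ * (b * c) := by group
    _ = c⁻¹ * (c * b) := by rw [hcb]
    _ = b := by group

/-- the local situation: `E` is an elementary abelian subgroup of index two in `C(w)` -/
structure Loc (w : L) (E : Subgroup L) : Prop where
  zh : ZH w
  le : E ≤ Cz w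
  sq : ∀ d ∈ E, d * d = 1
  ab : ∀ d ∈ E, ∀ d' ∈ E, d * d' = d' * d
  idx : ∀ a ∈ Cz w, ∀ b ∈ Cz w, a ∉ E → b ∉ E → a * b ∈ E
  nab : ∃ a ∈ Cz w, ∃ b ∈ Cz w, a * b ≠ b * a

namespace Loc

variable {w : L} {E : Subgroup L}

theorem exists_out (h : Loc w E) : ∃ v ∈ Cz w, v ∉ E := by
  by_contra hcon
  push Not at hcon
  obtain ⟨a, ha, b, hb, hab⟩ := h.nab
  exact hab (h.ab a (hcon a ha) b (hcon b hb))

theorem cen_mem (h : Loc w E) {c : L} (hc : Cen w c) : c ∈ E := by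
  by_contra hcE
  obtain ⟨a, ha, b, hb, hab⟩ := h.nab
  apply hab
  have hcc : ∀ x ∈ Cz w, x * c = c * x := hc.2
  by_cases haE : a ∈ E
  · by_cases hbE : b ∈ E
    · exact h.ab a haE b hbE
    · have h1 := h.ab a haE _ (h.idx b hb c hc.1 hbE hcE)
      have h2 := hcc a ha
      calc a * b = a * (b * c) * c⁻¹ := by group
        _ = b * c * a * c⁻¹ := by rw [h1]
        _ = b * (c * a) * c⁻¹ := by group
        _ = b * (a * c) * c⁻¹ := by rw [h2]
        _ = b * a := by group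
  · by_cases hbE : b ∈ E
    · have h1 := h.ab _ (h.idx a ha c hc.1 haE hcE) b hbE
      have h2 := hcc b hb
      calc a * b = a * (b * c) * c⁻¹ := by group
        _ = a * (c * b) * c⁻¹ := by rw [h2]
        _ = (a * c) * b * c⁻¹ := by group
        _ = b * (a * c) * c⁻¹ := by rw [h1]
        _ = b * a := by group
    · have h1 := h.ab _ (h.idx a ha c hc.1 haE hcE) _ (h.idx b hb c hc.1 hbE hcE)
      have h2 := hcc b hb
      have h3 := hcc a ha
      calc a * b = a * (b * c) * c⁻¹ := by group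
        _ = a * (c * b) * c⁻¹ := by rw [h2]
        _ = (a * c) * (b * c) * c⁻¹ * c⁻¹ := by group
        _ = (b * c) * (a * c) * c⁻¹ * c⁻¹ := by rw [h1]
        _ = b * (c * a) * c⁻¹ := by group
        _ = b * (a * c) * c⁻¹ := by rw [h3]
        _ = b * a := by group

theorem w_mem (h : Loc w E) : w ∈ E := h.cen_mem (Cen.self w)

theorem conj_eq (h : Loc w E) {v d : L} (hv : v ∈ Cz w) (hd : d ∈ E) :
    v * d * v⁻¹ = d ∨ v * d * v⁻¹ = d * w := by
  rcases h.zh.comm v hv d (h.le hd) with h1 | h1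
  · left
    calc v * d * v⁻¹ = (v * d * v⁻¹ * d⁻¹) * d := by group
      _ = d := by rw [h1, one_mul]
  · right
    calc v * d * v⁻¹ = (v * d * v⁻¹ * d⁻¹) * d := by group
      _ = w * d := by rw [h1]
      _ = d * w := h.ab w h.w_mem d hd

theorem conj_mem (h : Loc w E) {v d : L} (hv : v ∈ Cz w) (hd : d ∈ E) : v * d * v⁻¹ ∈ E := by
  rcases h.conj_eq hv hd with h1 | h1
  · rw [h1]; exact hd
  · rw [h1]; exact E.mul_mem hd h.w_mem

theorem cen_iff (h : Loc w E) {v d : L} (hv : v ∈ Cz w) (hvE : v ∉ E) (hd : d ∈ E) :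
    Cen w d ↔ v * d = d * v := by
  constructor
  · intro hc
    exact hc.2 v hv
  · intro hvd
    refine ⟨h.le hd, ?_⟩
    intro a ha
    by_cases haE : a ∈ E
    · exact h.ab a haE d hd
    · have h1 := h.ab _ (h.idx a ha v hv haE hvE) d hd
      calc a * d = a * (d * v) * v⁻¹ := by group
        _ = a * (v * d) * v⁻¹ := by rw [hvd]
        _ = (a * v) * d * v⁻¹ := by group
        _ = d * (a * v) * v⁻¹ := by rw [h1]
        _ = d * a := by group

theorem mul_cen (h : Loc w E) {d d' : L} (hd : d ∈ E) (hd' : d' ∈ E) (h1 : ¬ Cen w d)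
    (h2 : ¬ Cen w d') : Cen w (d * d') := by
  obtain ⟨v, hv, hvE⟩ := h.exists_out
  have key : ∀ x ∈ E, ¬ Cen w x → v * x * v⁻¹ = x * w := by
    intro x hx hnx
    rcases h.conj_eq hv hx with h3 | h3
    · exfalso
      apply hnx
      rw [h.cen_iff hv hvE hx]
      calc v * x = (v * x * v⁻¹) * v := by group
        _ = x * v := by rw [h3]
    · exact h3
  rw [h.cen_iff hv hvE (E.mul_mem hd hd')]
  have e1 := key d hd h1
  have e2 := key d' hd' h2
  have e3 := h.ab w h.w_mem d' hd'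
  calc v * (d * d') = (v * d * v⁻¹) * (v * d' * v⁻¹) * v := by group
    _ = d * w * (d' * w) * v := by rw [e1, e2]
    _ = d * (w * d') * w * v := by group
    _ = d * (d' * w) * w * v := by rw [e3]
    _ = d * d' * (w * w) * v := by group
    _ = d * d' * v := by rw [h.zh.mul_self, mul_one]

/-- Claim A: a conjugate of `w` other than `w` is not central in `C(w)` -/
theorem not_cen_conj (h : Loc w E) {w' : L} (hc : ∃ g, w' = g * w * g⁻¹) (hne : w' ≠ w) :
    ¬ Cen w w' := by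
  intro hcen
  obtain ⟨g, rfl⟩ := hc
  apply hne
  apply h.zh.eq_of_Cz_le
  intro a ha
  rw [mem_Cz]
  exact hcen.2 a ha

theorem conj_other (h : Loc w E) {w' v : L} (hw' : w' ∈ E) (hc : ∃ g, w' = g * w * g⁻¹)
    (hne : w' ≠ w) (hv : v ∈ Cz w) (hvE : v ∉ E) : v * w' * v⁻¹ = w' * w := by
  rcases h.conj_eq hv hw' with h3 | h3
  · exfalso
    apply h.not_cen_conj hc hne
    rw [h.cen_iff hv hvE hw']
    calc v * w' = (v * w' * v⁻¹) * v := by group
      _ = w' * v := by rw [h3]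
  · exact h3

end Loc

/-- Claim B: three distinct conjugates of `z` in `E` multiply to one -/
theorem claimB {w₁ w₂ w₃ : L} {E : Subgroup L} (h1 : Loc w₁ E) (h2 : Loc w₂ E) (h3 : Loc w₃ E)
    (c21 : ∃ g, w₂ = g * w₁ * g⁻¹) (c31 : ∃ g, w₃ = g * w₁ * g⁻¹)
    (n12 : w₁ ≠ w₂) (n13 : w₁ ≠ w₃) (n23 : w₂ ≠ w₃) : w₃ = w₁ * w₂ := by
  by_contra hne
  obtain ⟨g₂, hg₂⟩ := c21
  obtain ⟨g₃, hg₃⟩ := c31
  have c13 : ∃ g, w₁ = g * w₃ * g⁻¹ := ⟨g₃⁻¹, by rw [hg₃]; group⟩
  have c12 : ∃ g, w₁ = g * w₂ * g⁻¹ := ⟨g₂⁻¹, by rw [hg₂]; group⟩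
  have c23 : ∃ g, w₂ = g * w₃ * g⁻¹ := ⟨g₂ * g₃⁻¹, by rw [hg₃, hg₂]; group⟩
  obtain ⟨v, hv, hvE⟩ := h2.exists_out
  have e12 : v * w₁ * v⁻¹ = w₁ * w₂ := h2.conj_other h1.w_mem c12 n12 hv hvE
  have c123 : ∃ g, w₁ * w₂ = g * w₃ * g⁻¹ := by
    obtain ⟨g, hg⟩ := c13
    exact ⟨v * g, by rw [← e12, hg]; group⟩
  have k1 : ¬ Cen w₃ w₁ := h3.not_cen_conj c13 n13
  have k2 : ¬ Cen w₃ (w₁ * w₂) := h3.not_cen_conj c123 (fun h => hne h.symm)
  have k3 := h3.mul_cen h1.w_mem (E.mul_mem h1.w_mem h2.w_mem) k1 k2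
  have e : w₁ * (w₁ * w₂) = w₂ := by rw [← mul_assoc, h1.zh.mul_self, one_mul]
  rw [e] at k3
  exact h3.not_cen_conj c23 n23 k3

end Cfsg.Agent.Lib.Lead.FrattZ
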