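import Mathlib
import Cfsg.Agent.Lib.Lead.FrattZ2

set_option autoImplicit false

/-! Structure of `R = C(z)`: the two elementary abelian maximal subgroups; transport of `Loc`;
the key step on conjugates of central elements. -/

namespace Cfsg.Agent.Lib.Lead.FrattZ

open Cfsg.Agent.Lib.Helper1

variable {L : Type*} [Group L]

theorem Cz_conj_eq_cj (z g : L) : Cz (g * z * g⁻¹) = cj g (Cz z) := by
  ext a
  rw [mem_cj, mem_Cz_conj]

theorem ZH.conj_of_not_comm {z a x : L} (hz : ZH z) (ha : a ∈ Cz z) (hx : x ∈ Cz z)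
    (hne : a * x ≠ x * a) : a * x * a⁻¹ = z * x := by
  rcases hz.comm a ha x hx with h1 | h1
  · exfalso
    apply hne
    calc a * x = (a * x * a⁻¹ * x⁻¹) * x * a := by group
      _ = x * a := by rw [h1, one_mul]
  · calc a * x * a⁻¹ = (a * x * a⁻¹ * x⁻¹) * x := by group
      _ = z * x := by rw [h1]

/-- the centralizer of a noncentral element of `C(z)` has index two in `C(z)` -/
theorem ZH.idx_centralizer {z x : L} (hz : ZH z) (hx : x ∈ Cz z) :
    ∀ a ∈ Cz z, ∀ b ∈ Cz z, a ∉ Cz z ⊓ Cz x → b ∉ Cz z ⊓ Cz x → a * b ∈ Cz z ⊓ Cz x := by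
  intro a ha b hb haE hbE
  have ha' : a * x ≠ x * a := fun h => haE ⟨ha, mem_Cz.mpr h⟩
  have hb' : b * x ≠ x * b := fun h => hbE ⟨hb, mem_Cz.mpr h⟩
  have e1 := hz.conj_of_not_comm ha hx ha'
  have e2 := hz.conj_of_not_comm hb hx hb'
  have haz : a * z = z * a := mem_Cz.mp ha
  refine ⟨(Cz z).mul_mem ha hb, ?_⟩
  show a * b ∈ Cz x
  rw [mem_Cz]
  have : a * b * x * (a * b)⁻¹ = x := by
    calc a * b * x * (a * b)⁻¹ = a * (b * x * b⁻¹) * a⁻¹ := by group
      _ = a * (z * x) * a⁻¹ := by rw [e2]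
      _ = (a * z) * x * a⁻¹ := by group
      _ = (z * a) * x * a⁻¹ := by rw [haz]
      _ = z * (a * x * a⁻¹) := by group
      _ = z * (z * x) := by rw [e1]
      _ = (z * z) * x := by group
      _ = x := by rw [hz.mul_self, one_mul]
  calc a * b * x = (a * b * x * (a * b)⁻¹) * (a * b) := by group
    _ = x * (a * b) := by rw [this]

/-- the first elementary abelian maximal subgroup `D = C(z) ⊓ C(t)` -/
theorem loc_D {z t : L} (hz : ZH z) (ht : ZH t) (hc : ∃ g, t = g * z * g⁻¹) (htz : t ∈ Cz z)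
    (hne : t ≠ z) : Loc z (Cz z ⊓ Cz t) := by
  have hout : ∃ u ∈ Cz z, u ∉ Cz t := by
    by_contra hcon
    push Not at hcon
    obtain ⟨g, rfl⟩ := hc
    exact hne (hz.eq_of_Cz_le hcon)
  obtain ⟨u, hu, hut⟩ := hout
  refine ⟨hz, inf_le_left, ?_, ?_, hz.idx_centralizer htz, ⟨u, hu, t, htz, fun h => hut (mem_Cz.mpr h)⟩⟩
  · intro d hd
    rcases hz.sq d hd.1 with h1 | h1
    · exact h1
    · rcases ht.sq d hd.2 with h2 | h2
      · exact h2
      · exact absurd (h2.symm.trans h1) hne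
  · intro d hd d' hd'
    have key : d * d' * d⁻¹ * d'⁻¹ = 1 := by
      rcases hz.comm d hd.1 d' hd'.1 with h1 | h1
      · exact h1
      · rcases ht.comm d hd.2 d' hd'.2 with h2 | h2
        · exact h2
        · exact absurd (h2.symm.trans h1) hne
    calc d * d' = (d * d' * d⁻¹ * d'⁻¹) * d' * d := by group
      _ = d' * d := by rw [key, one_mul]

/-- an involution of `C(z)` outside `D` -/
theorem exists_invol_out {z t : L} (hz : ZH z) (ht : ZH t) (hc : ∃ g, t = g * z * g⁻¹)
    (htz : t ∈ Cz z) (hne : t ≠ z) : ∃ u ∈ Cz z, u ∉ Cz t ∧ u * u = 1 := by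
  have hl := loc_D hz ht hc htz hne
  obtain ⟨u, hu, huD⟩ := hl.exists_out
  have hut : u ∉ Cz t := fun h => huD ⟨hu, h⟩
  rcases hz.sq u hu with h1 | h1
  · exact ⟨u, hu, hut, h1⟩
  · have hut' : u * t ≠ t * u := fun h => hut (mem_Cz.mpr h)
    have e1 := hz.conj_of_not_comm hu htz hut'
    have htz' : t * z = z * t := mem_Cz.mp htz
    refine ⟨t * u, (Cz z).mul_mem htz hu, ?_, ?_⟩
    · intro h
      apply hut
      have : u = t⁻¹ * (t * u) := by group
      rw [this]
      exact (Cz t).mul_mem ((Cz t).inv_mem (self_mem_Cz t)) h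
    · calc t * u * (t * u) = t * (u * t * u⁻¹) * (u * u) := by group
        _ = t * (z * t) * z := by rw [e1, h1]
        _ = (t * z) * t * z := by group
        _ = (z * t) * t * z := by rw [htz']
        _ = z * (t * t) * z := by group
        _ = 1 := by rw [ht.mul_self, mul_one, hz.mul_self]

/-- every element of `C(z)` centralizing `D` ... : elements of `D` commuting with `u` are central -/
theorem cen_of_mem_D_comm {z u a : L} {D : Subgroup L} (hl : Loc z D) (hu : u ∈ Cz z)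
    (huD : u ∉ D) (ha : a ∈ D) (hau : a * u = u * a) : Cen z a := by
  rw [hl.cen_iff hu huD ha]
  exact hau.symm

/-- the second elementary abelian maximal subgroup `D₁ = C(z) ⊓ C(u)` -/
theorem loc_D1 {z t u : L} {D : Subgroup L} (hl : Loc z D) (ht : t ∈ D) (hu : u ∈ Cz z)
    (huD : u ∉ D) (huu : u * u = 1) (htu : t * u ≠ u * t) : Loc z (Cz z ⊓ Cz u) := by
  have hz := hl.zh
  have hinv : u⁻¹ = u := inv_eq_of_mul_eq_one_left huu
  have hstr : ∀ a ∈ Cz z ⊓ Cz u, Cen z a ∨ Cen z (a * u) := by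
    intro a ha
    have hau : a * u = u * a := mem_Cz.mp ha.2
    by_cases haD : a ∈ D
    · left
      exact cen_of_mem_D_comm hl hu huD haD hau
    · right
      have h1 : a * u ∈ D := hl.idx a ha.1 u hu haD huD
      apply cen_of_mem_D_comm hl hu huD h1
      calc a * u * u = (u * a) * u := by rw [hau]
        _ = u * (a * u) := by group
  refine ⟨hz, inf_le_left, ?_, ?_, hz.idx_centralizer hu, ⟨t, hl.le ht, u, hu, htu⟩⟩
  · intro a ha
    rcases hstr a ha with h1 | h1
    · exact hl.sq a (hl.cen_mem h1)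
    · have h2 := hl.sq _ (hl.cen_mem h1)
      have hau : a * u = u * a := mem_Cz.mp ha.2
      calc a * a = (a * u) * (a * u) * u⁻¹ * u⁻¹ := by
            rw [show a * u * (a * u) = a * (u * a) * u by group, ← hau]; group
        _ = 1 := by rw [h2, hinv, one_mul, huu]
  · intro a ha b hb
    have hbu : b * u = u * b := mem_Cz.mp hb.2
    rcases hstr a ha with h1 | h1
    · exact (h1.2 b hb.1).symm
    · have h2 : b * (a * u) = a * u * b := h1.2 b hb.1
      calc a * b = (a * u) * u⁻¹ * b := by group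
        _ = (a * u) * u * b := by rw [hinv]
        _ = (a * u) * (u * b) := by group
        _ = (a * u) * (b * u) := by rw [hbu]
        _ = (a * u * b) * u := by group
        _ = b * (a * u) * u := by rw [h2]
        _ = b * a * (u * u) := by group
        _ = b * a := by rw [huu, mul_one]

/-- involutions of `C(z)` lie in `D` or `D₁` -/
theorem invol_mem {z u y : L} {D : Subgroup L} (hl : Loc z D) (hu : u ∈ Cz z)
    (huD : u ∉ D) (huu : u * u = 1) (hy : y ∈ Cz z) (hyy : y * y = 1) :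
    y ∈ D ∨ y ∈ Cz z ⊓ Cz u := by
  by_cases hyD : y ∈ D
  · exact Or.inl hyD
  · right
    refine ⟨hy, ?_⟩
    have h1 := hl.sq _ (hl.idx y hy u hu hyD huD)
    show y ∈ Cz u
    rw [mem_Cz]
    have hyi : y⁻¹ = y := inv_eq_of_mul_eq_one_left hyy
    have hui : u⁻¹ = u := inv_eq_of_mul_eq_one_left huu
    calc y * u = (y * u)⁻¹ := (inv_eq_of_mul_eq_one_left h1).symm
      _ = u⁻¹ * y⁻¹ := by group
      _ = u * y := by rw [hyi, hui]

/-- cardinality of `C(w)` in the local situation -/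
theorem Loc.card [Finite L] {w : L} {E : Subgroup L} (h : Loc w E) :
    Nat.card (Cz w) = 2 * Nat.card E := by
  obtain ⟨v, hv, hvE⟩ := h.exists_out
  have hidx : (E.subgroupOf (Cz w)).index = 2 := by
    rw [Subgroup.index_eq_two_iff]
    refine ⟨⟨v, hv⟩, ?_⟩
    intro b
    by_cases hb : (b : L) ∈ E
    · right
      refine ⟨Subgroup.mem_subgroupOf.mpr hb, ?_⟩
      intro h1
      rw [Subgroup.mem_subgroupOf] at h1
      apply hvE
      have : v = (b : L)⁻¹ * ((b : L) * v) := by group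
      rw [this]
      exact E.mul_mem (E.inv_mem hb) h1
    · left
      refine ⟨Subgroup.mem_subgroupOf.mpr (h.idx b b.2 v hv hb hvE), ?_⟩
      intro h1
      exact hb (Subgroup.mem_subgroupOf.mp h1)
  have h1 := Subgroup.card_mul_index (E.subgroupOf (Cz w))
  rw [hidx] at h1
  have h2 : Nat.card (E.subgroupOf (Cz w)) = Nat.card E :=
    Nat.card_congr (Subgroup.subgroupOfEquivOfLe h.le).toEquiv
  rw [h2] at h1
  omega

/-- the local situation from a cardinality condition -/
theorem Loc.of_card [Finite L] {w : L} {E : Subgroup L} (hw : ZH w) (hle : E ≤ Cz w)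
    (hsq : ∀ d ∈ E, d * d = 1) (hab : ∀ d ∈ E, ∀ d' ∈ E, d * d' = d' * d)
    (hnab : ∃ a ∈ Cz w, ∃ b ∈ Cz w, a * b ≠ b * a)
    (hcard : Nat.card (Cz w) = 2 * Nat.card E) : Loc w E := by
  refine ⟨hw, hle, hsq, hab, ?_, hnab⟩
  have h1 := Subgroup.card_mul_index (E.subgroupOf (Cz w))
  have h2 : Nat.card (E.subgroupOf (Cz w)) = Nat.card E :=
    Nat.card_congr (Subgroup.subgroupOfEquivOfLe hle).toEquiv
  rw [h2, hcard] at h1
  have hpos : 0 < Nat.card E := Nat.card_pos
  have hidx : (E.subgroupOf (Cz w)).index = 2 := by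
    have : Nat.card E * (E.subgroupOf (Cz w)).index = Nat.card E * 2 := by rw [h1]; ring
    exact Nat.eq_of_mul_eq_mul_left hpos this
  intro a ha b hb haE hbE
  have := Subgroup.mul_mem_iff_of_index_two hidx (a := ⟨a, ha⟩) (b := ⟨b, hb⟩)
  simp only [Subgroup.mem_subgroupOf, MulMemClass.mk_mul_mk] at this
  rw [this]
  exact ⟨fun h => absurd h haE, fun h => absurd h hbE⟩

/-- transport of the local situation to a conjugate containing `E` -/
theorem Loc.transport [Finite L] {z : L} {E : Subgroup L} (h : Loc z E) (n : L)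
    (hle : E ≤ Cz (n * z * n⁻¹)) : Loc (n * z * n⁻¹) E := by
  apply Loc.of_card (h.zh.conj n) hle h.sq h.ab
  · obtain ⟨a, ha, b, hb, hab⟩ := h.nab
    refine ⟨n * a * n⁻¹, conj_mem_Cz_conj ha, n * b * n⁻¹, conj_mem_Cz_conj hb, ?_⟩
    intro h1
    apply hab
    calc a * b = n⁻¹ * (n * a * n⁻¹ * (n * b * n⁻¹)) * n := by group
      _ = n⁻¹ * (n * b * n⁻¹ * (n * a * n⁻¹)) * n := by rw [h1]
      _ = b * a := by group
  · rw [Cz_conj_eq_cj, card_cj, h.card]

theorem Cen.conj {z c : L} (h : Cen z c) (n : L) : Cen (n * z * n⁻¹) (n * c * n⁻¹) := by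
  refine ⟨conj_mem_Cz_conj h.1, ?_⟩
  intro a ha
  rw [mem_Cz_conj] at ha
  have h1 := h.2 _ ha
  calc a * (n * c * n⁻¹) = n * ((n⁻¹ * a * n) * c) * n⁻¹ := by group
    _ = n * (c * (n⁻¹ * a * n)) * n⁻¹ := by rw [h1]
    _ = n * c * n⁻¹ * a := by group

theorem Cen.mul {z c c' : L} (h : Cen z c) (h' : Cen z c') : Cen z (c * c') := by
  refine ⟨(Cz z).mul_mem h.1 h'.1, ?_⟩
  intro a ha
  have h1 := h.2 a ha
  have h2 := h'.2 a ha
  calc a * (c * c') = (a * c) * c' := by group
    _ = c * (a * c') := by rw [h1]; group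
    _ = c * c' * a := by rw [h2]; group

/-- the key step: conjugates of a central element `e` of `C(z)` lying in `E` -/
theorem key_step [Finite L] {z e y g : L} {E : Subgroup L} (h : Loc z E) (he : Cen z e)
    (hy : y = g * e * g⁻¹) (hyE : y ∈ E) :
    y = e ∨ ∃ w ∈ E, (∃ n, w = n * z * n⁻¹) ∧ w ≠ z ∧ y = e * z * w := by
  have : Fact (Nat.Prime 2) := ⟨Nat.prime_two⟩
  have hz := h.zh
  obtain ⟨P, hP⟩ := hz.syl
  -- the conjugate Sylow subgroup lies in `C(y)`
  have hgP : ((g • P : Sylow 2 L) : Subgroup L) ≤ Cz y := by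
    intro x hx
    rw [mem_smul_sylow, hP] at hx
    have h1 := he.2 _ hx
    rw [mem_Cz, hy]
    calc x * (g * e * g⁻¹) = g * ((g⁻¹ * x * g) * e) * g⁻¹ := by group
      _ = g * (e * (g⁻¹ * x * g)) * g⁻¹ := by rw [h1]
      _ = g * e * g⁻¹ * x := by group
  have hEK : E ≤ Cz y := by
    intro x hx
    rw [mem_Cz]
    exact h.ab x hx y hyE
  have hE2 : IsPGroup 2 E := by
    intro x
    refine ⟨1, ?_⟩
    apply Subtype.ext
    have := h.sq x x.2
    simpa [pow_two] using this
  let PK : Sylow 2 ↥(Cz y) := (g • P).subtype hgP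
  have hPKmap : (PK : Subgroup ↥(Cz y)).map (Cz y).subtype = ((g • P : Sylow 2 L) : Subgroup L) := by
    rw [Sylow.coe_subtype, Subgroup.subgroupOf_map_subtype, inf_eq_left]
    exact hgP
  obtain ⟨c, hc, hle⟩ := exists_cj_le_sylow' (Cz y) PK E hE2 hEK
  rw [hPKmap] at hle
  have hcy : c * y = y * c := mem_Cz.mp hc
  -- `n = c * g`
  have hEw : E ≤ Cz ((c * g) * z * (c * g)⁻¹) := by
    intro d hd
    have h1 : c⁻¹ * d * c ∈ cj c⁻¹ E := by
      have := conj_mem_cj c⁻¹ E hd
      simpa using this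
    have h2 := hle h1
    rw [mem_smul_sylow, hP] at h2
    rw [mem_Cz_conj]
    have : (c * g)⁻¹ * d * (c * g) = g⁻¹ * (c⁻¹ * d * c) * g := by group
    rw [this]
    exact h2
  have hyn : y = (c * g) * e * (c * g)⁻¹ := by
    calc y = c * y * c⁻¹ := by rw [hcy]; group
      _ = (c * g) * e * (c * g)⁻¹ := by rw [hy]; group
  obtain ⟨n, hn⟩ : ∃ n, n = c * g := ⟨_, rfl⟩
  rw [← hn] at hEw hyn
  have hlw : Loc (n * z * n⁻¹) E := h.transport n hEw
  have hceny : Cen (n * z * n⁻¹) y := by rw [hyn]; exact he.conj n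
  by_cases hwz : n * z * n⁻¹ = z
  · left
    have hnz : n ∈ Cz z := by
      rw [mem_Cz]
      calc n * z = (n * z * n⁻¹) * n := by group
        _ = z * n := by rw [hwz]
    have h1 := he.2 n hnz
    rw [hyn, h1]; group
  · have hzE : z ∈ E := h.w_mem
    have heE : e ∈ E := h.cen_mem he
    have hzc : ∃ k, z = k * (n * z * n⁻¹) * k⁻¹ := ⟨n⁻¹, by group⟩
    have hnz : ¬ Cen (n * z * n⁻¹) z := hlw.not_cen_conj hzc (fun h => hwz h.symm)
    by_cases hce : Cen (n * z * n⁻¹) e
    · left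
      exact (hlw.zh.central_conj_eq hce hceny hyn.symm).symm
    · right
      refine ⟨n * z * n⁻¹, hlw.w_mem, ⟨n, rfl⟩, hwz, ?_⟩
      have hca : Cen (n * z * n⁻¹) (e * z) := hlw.mul_cen heE hzE hce hnz
      have hca' : Cen (n * z * n⁻¹) (n * (e * z) * n⁻¹) := (he.mul (Cen.self z)).conj n
      have heq : e * z = n * (e * z) * n⁻¹ := hlw.zh.central_conj_eq hca hca' rfl
      have hez : e = e * z * z := by rw [mul_assoc, hz.mul_self, mul_one]
      calc y = n * e * n⁻¹ := hyn
        _ = n * (e * z * z) * n⁻¹ := by rw [← hez]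
        _ = (n * (e * z) * n⁻¹) * (n * z * n⁻¹) := by group
        _ = e * z * (n * z * n⁻¹) := by rw [← heq]

end Cfsg.Agent.Lib.Lead.FrattZ
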