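import Mathlib
import Cfsg.Agent.Lib.Lead.FrattZ3

set_option autoImplicit false

/-! A maximal subgroup avoiding a given element, in a 2-group with Frattini subgroup of order 2;
the centre of the dihedral group of order 8. -/

namespace Cfsg.Agent.Lib.Lead.FrattZ

theorem dihedral_center : ∀ x : DihedralGroup 4, (∀ g : DihedralGroup 4, g * x = x * g) →
    x = 1 ∨ x = DihedralGroup.r 2 := by decide

theorem exists_index_two {G : Type*} [Group G] [Finite G] (X₀ : Subgroup G) (ζ e : G)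
    (hζ : ζ ∈ X₀) (hsq : ∀ a : G, a * a = 1 ∨ a * a = ζ)
    (hcomm : ∀ a b : G, a * b * a⁻¹ * b⁻¹ = 1 ∨ a * b * a⁻¹ * b⁻¹ = ζ)
    (he : e ∉ X₀) : ∃ M : Subgroup G, X₀ ≤ M ∧ e ∉ M ∧ M.index = 2 := by
  have hfin : {K : Subgroup G | X₀ ≤ K ∧ e ∉ K}.Finite := Set.toFinite _
  obtain ⟨M, hM⟩ := hfin.exists_maximal ⟨X₀, le_refl X₀, he⟩
  obtain ⟨⟨hXM, heM⟩, hmax⟩ := hM
  have hζM : ζ ∈ M := hXM hζ
  have hMn : M.Normal := by
    refine ⟨fun m hm a => ?_⟩
    rcases hcomm a m with h1 | h1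
    · have : a * m * a⁻¹ = (a * m * a⁻¹ * m⁻¹) * m := by group
      rw [this, h1, one_mul]; exact hm
    · have : a * m * a⁻¹ = (a * m * a⁻¹ * m⁻¹) * m := by group
      rw [this, h1]; exact M.mul_mem hζM hm
  refine ⟨M, hXM, heM, ?_⟩
  rw [Subgroup.index_eq_card]
  have hmk : ∀ a : G, (a : G ⧸ M) * (a : G ⧸ M) = 1 := by
    intro a
    rw [← QuotientGroup.mk_mul, QuotientGroup.eq_one_iff]
    rcases hsq a with h1 | h1
    · rw [h1]; exact M.one_mem
    · rw [h1]; exact hζM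
  have he1 : (e : G ⧸ M) ≠ 1 := by
    rw [Ne, QuotientGroup.eq_one_iff]; exact heM
  have key : ∀ b : G, b ∉ M → (b : G ⧸ M) = (e : G ⧸ M) := by
    intro b hb
    have hb1 : (b : G ⧸ M) ≠ 1 := by
      rw [Ne, QuotientGroup.eq_one_iff]; exact hb
    have hord : orderOf (b : G ⧸ M) = 2 :=
      orderOf_eq_prime (by rw [pow_two]; exact hmk b) hb1
    set K : Subgroup G := (Subgroup.zpowers (b : G ⧸ M)).comap (QuotientGroup.mk' M) with hK
    have hMK : M ≤ K := by
      intro m hm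
      rw [hK, Subgroup.mem_comap]
      have : (QuotientGroup.mk' M) m = 1 := by
        rw [QuotientGroup.mk'_apply, QuotientGroup.eq_one_iff]; exact hm
      rw [this]; exact Subgroup.one_mem _
    have hbK : b ∈ K := by
      rw [hK, Subgroup.mem_comap]
      exact Subgroup.mem_zpowers _
    have heK : e ∈ K := by
      by_contra heK
      have := hmax (show K ∈ {K : Subgroup G | X₀ ≤ K ∧ e ∉ K} from ⟨hXM.trans hMK, heK⟩) hMK
      exact hb (this hbK)
    rw [hK, Subgroup.mem_comap, QuotientGroup.mk'_apply, mem_zpowers_two hord] at heK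
    rcases heK with h | h
    · exact absurd h he1
    · exact h.symm
  rw [Nat.card_eq_two_iff' (1 : G ⧸ M)]
  refine ⟨(e : G ⧸ M), he1, ?_⟩
  intro y hy
  obtain ⟨b, rfl⟩ := QuotientGroup.mk_surjective y
  apply key
  intro hb
  apply hy
  rw [QuotientGroup.eq_one_iff]; exact hb

end Cfsg.Agent.Lib.Lead.FrattZ
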