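import Mathlib
import Cfsg.Agent.Lib.Lead.FrattZ4
import Cfsg.Agent.Lib.Lead.ThompsonTransfer
import Cfsg.Agent.Lib.Helper8.ZS7
import Cfsg.Agent.Lib.Helper1.DihedralIso

set_option autoImplicit false

/-! The main theorem: a simple group in which `C(z)` is a Sylow 2-subgroup with Frattini
subgroup `⟨z⟩` has dihedral Sylow 2-subgroups of order 8. -/

namespace Cfsg.Agent.Lib.Lead.FrattZ

open Cfsg

variable {L : Type*} [Group L]

theorem exists_conj_comm [Finite L] [IsSimpleGroup L] (hL : ¬ IsMulCommutative L) (z : L)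
    (hz : orderOf z = 2) :
    ∃ g, z * (g * z * g⁻¹) = (g * z * g⁻¹) * z ∧ g * z * g⁻¹ ≠ z := by
  by_contra hcon
  push Not at hcon
  have hiso : IsIsolatedInvolution z := ⟨hz, fun g hc => hcon g hc.eq⟩
  obtain ⟨N, hN, hodd, hc⟩ := Cfsg.Agent.Lib.Helper8.zstar_isolated hiso
  rcases hN.eq_bot_or_eq_top with rfl | rfl
  · have hcen : ∀ g, g * z = z * g := by
      intro g
      have h1 := hc g
      rw [Subgroup.mem_bot] at h1
      calc g * z = (z * g * z⁻¹ * g⁻¹)⁻¹ * z * g := by group
        _ = z * g := by rw [h1]; group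
    have hn : (Subgroup.zpowers z).Normal := by
      refine ⟨fun x hx g => ?_⟩
      obtain ⟨k, rfl⟩ := Subgroup.mem_zpowers_iff.mp hx
      have : g * z ^ k * g⁻¹ = z ^ k := by
        have hcm : Commute g z := hcen g
        rw [(hcm.zpow_right k).eq]; group
      rw [this]; exact hx
    rcases hn.eq_bot_or_eq_top with h | h
    · rw [Subgroup.zpowers_eq_bot] at h
      rw [h, orderOf_one] at hz
      omega
    · apply hL
      refine ⟨⟨fun a b => ?_⟩⟩
      have ha : a ∈ Subgroup.zpowers z := h ▸ Subgroup.mem_top a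
      have hb : b ∈ Subgroup.zpowers z := h ▸ Subgroup.mem_top b
      obtain ⟨i, rfl⟩ := Subgroup.mem_zpowers_iff.mp ha
      obtain ⟨j, rfl⟩ := Subgroup.mem_zpowers_iff.mp hb
      exact ((Commute.refl z).zpow_zpow i j).eq
  · rw [Subgroup.card_top] at hodd
    have h2 : 2 ∣ Nat.card L := hz ▸ orderOf_dvd_natCard z
    rcases hodd with ⟨k, hk⟩
    omega

theorem main [Finite L] [IsSimpleGroup L] (hL : ¬ IsMulCommutative L) (z : L)
    (hz : orderOf z = 2) (R : Sylow 2 L) (hR : (R : Subgroup L) = Cz z)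
    (hΦ : (frattini ↥(R : Subgroup L)).map (R : Subgroup L).subtype = Subgroup.zpowers z) :
    Nonempty (↥(R : Subgroup L) ≃* DihedralGroup 4) := by
  have hzh : ZH z := ZH.of_hyp z hz R hR hΦ
  obtain ⟨g, hcomm, hne⟩ := exists_conj_comm hL z hz
  obtain ⟨t, ht⟩ : ∃ t, t = g * z * g⁻¹ := ⟨_, rfl⟩
  rw [← ht] at hcomm hne
  have hth : ZH t := ht ▸ hzh.conj g
  have htz : t ∈ Cz z := mem_Cz.mpr hcomm.symm
  have hzt : z ∈ Cz t := mem_Cz.mpr hcomm
  have hlD : Loc z (Cz z ⊓ Cz t) := loc_D hzh hth ⟨g, ht⟩ htz hne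
  -- the choice of `u`
  have hu_ex : ∃ u ∈ Cz z, u ∉ Cz t ∧ u * u = 1 ∧
      ((∃ n, u = n * z * n⁻¹) ∨ ∀ y ∈ Cz z, y ∉ Cz t → ¬ ∃ n, y = n * z * n⁻¹) := by
    by_cases hex : ∃ y ∈ Cz z, y ∉ Cz t ∧ ∃ n, y = n * z * n⁻¹
    · obtain ⟨y, hy, hyt, n, hn⟩ := hex
      refine ⟨y, hy, hyt, ?_, Or.inl ⟨n, hn⟩⟩
      rw [hn]; exact (hzh.conj n).mul_self
    · obtain ⟨u, hu, hut, huu⟩ := exists_invol_out hzh hth ⟨g, ht⟩ htz hne
      refine ⟨u, hu, hut, huu, Or.inr ?_⟩
      intro y hy hyt hyc
      exact hex ⟨y, hy, hyt, hyc⟩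
  obtain ⟨u, hu, hut, huu, huc⟩ := hu_ex
  have huD : u ∉ Cz z ⊓ Cz t := fun h => hut h.2
  have htD : t ∈ Cz z ⊓ Cz t := ⟨htz, self_mem_Cz t⟩
  have htu : t * u ≠ u * t := fun h => hut (mem_Cz.mpr h.symm)
  have hlD1 : Loc z (Cz z ⊓ Cz u) := loc_D1 hlD htD hu huD huu htu
  have e_ut : u * t * u⁻¹ = z * t := hzh.conj_of_not_comm hu htz (fun h => htu h.symm)
  have hui : u⁻¹ = u := inv_eq_of_mul_eq_one_left huu
  have htt : t * t = 1 := hth.mul_self
  have htzc : t * z = z * t := hcomm.symm
  have htu2 : t * u * (t * u) = z := by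
    calc t * u * (t * u) = t * (u * t * u⁻¹) * (u * u) := by group
      _ = t * (z * t) := by rw [e_ut, huu, mul_one]
      _ = (t * z) * t := by group
      _ = z * (t * t) := by rw [htzc]; group
      _ = z := by rw [htt, mul_one]
  have hu1 : u ≠ 1 := by
    intro h
    apply htu
    rw [h, mul_one, one_mul]
  have hu2 : orderOf u = 2 := orderOf_eq_prime (by rw [pow_two]; exact huu) hu1
  have h4 : orderOf (t * u) = 4 := by
    have := orderOf_eq_prime_pow (p := 2) (n := 1) (x := t * u)
      (by rw [pow_one, pow_two, htu2]; exact hzh.ne_one)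
      (by
        show (t * u) ^ (2 ^ 2) = 1
        rw [show (2 : ℕ) ^ 2 = 2 * 2 from rfl, pow_mul, pow_two (t * u), htu2, pow_two]
        exact hzh.mul_self)
    simpa using this
  obtain ⟨φ⟩ := Cfsg.Agent.Lib.Helper1.DihedralIso.closure_equiv_dihedral t u hth.ord hu2 (by rw [h4]; norm_num)
  rw [h4] at φ
  obtain ⟨X₀, hX₀⟩ : ∃ X₀ : Subgroup L, X₀ = Subgroup.closure ({t, u} : Set L) := ⟨_, rfl⟩
  rw [← hX₀] at φ
  have htX : t ∈ X₀ := hX₀ ▸ Subgroup.subset_closure (by simp)
  have huX : u ∈ X₀ := hX₀ ▸ Subgroup.subset_closure (by simp)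
  have hX0le : X₀ ≤ Cz z := by
    rw [hX₀, Subgroup.closure_le]
    intro x hx
    rcases hx with rfl | rfl
    · exact htz
    · exact hu
  have hzX : z ∈ X₀ := by
    have : z = u * t * u⁻¹ * t⁻¹ := by rw [e_ut]; group
    rw [this]
    exact X₀.mul_mem (X₀.mul_mem (X₀.mul_mem huX htX) (X₀.inv_mem huX)) (X₀.inv_mem htX)
  have htncen : ¬ Cen z t := fun h => htu (h.2 u hu).symm
  by_cases hH : ∀ c, Cen z c → c = 1 ∨ c = z
  · -- `R = X₀`
    have keyD : ∀ d ∈ Cz z ⊓ Cz t, d ∈ X₀ := by
      intro d hd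
      by_cases hcd : Cen z d
      · rcases hH d hcd with rfl | rfl
        · exact X₀.one_mem
        · exact hzX
      · have h1 := hlD.mul_cen hd htD hcd htncen
        have h2 : d * t ∈ X₀ := by
          rcases hH _ h1 with h3 | h3
          · rw [h3]; exact X₀.one_mem
          · rw [h3]; exact hzX
        have : d = (d * t) * t⁻¹ := by group
        rw [this]
        exact X₀.mul_mem h2 (X₀.inv_mem htX)
    have hle : Cz z ≤ X₀ := by
      intro a ha
      by_cases haD : a ∈ Cz z ⊓ Cz t
      · exact keyD a haD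
      · have h1 := keyD _ (hlD.idx a ha u hu haD huD)
        have : a = (a * u) * u⁻¹ := by group
        rw [this]
        exact X₀.mul_mem h1 (X₀.inv_mem huX)
    have heq : (R : Subgroup L) = X₀ := by rw [hR]; exact le_antisymm hle hX0le
    exact ⟨(MulEquiv.subgroupCongr heq).trans φ⟩
  · exfalso
    push Not at hH
    obtain ⟨e, hce, he1, hez⟩ := hH
    have heD : e ∈ Cz z ⊓ Cz t := hlD.cen_mem hce
    have hee : e * e = 1 := hlD.sq e heD
    have he2 : orderOf e = 2 := orderOf_eq_prime (by rw [pow_two]; exact hee) he1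
    -- `e ∉ X₀`
    have heX : e ∉ X₀ := by
      intro heX
      have hcenX : ∀ c, Cen z c → ∀ hc : c ∈ X₀, φ ⟨c, hc⟩ = 1 ∨ φ ⟨c, hc⟩ = DihedralGroup.r 2 := by
        intro c hc hcX
        apply dihedral_center
        intro y
        obtain ⟨x, rfl⟩ := φ.surjective y
        rw [← map_mul, ← map_mul]
        congr 1
        apply Subtype.ext
        exact hc.2 x (hX0le x.2)
      have hzφ : φ ⟨z, hzX⟩ = DihedralGroup.r 2 := by
        rcases hcenX z (Cen.self z) hzX with h | h
        · exfalso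
          have := φ.injective (h.trans (map_one φ).symm)
          exact hzh.ne_one (congrArg Subtype.val this)
        · exact h
      rcases hcenX e hce heX with h | h
      · have := φ.injective (h.trans (map_one φ).symm)
        exact he1 (congrArg Subtype.val this)
      · have := φ.injective (h.trans hzφ.symm)
        exact hez (congrArg Subtype.val this)
    -- the maximal subgroup
    have hzR : z ∈ (R : Subgroup L) := hR ▸ self_mem_Cz z
    have heR : e ∈ (R : Subgroup L) := hR ▸ hce.1
    obtain ⟨M', hXM', heM', hidx⟩ := exists_index_two (G := ↥(R : Subgroup L))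
      (X₀.subgroupOf (R : Subgroup L)) ⟨z, hzR⟩ ⟨e, heR⟩
      (by rw [Subgroup.mem_subgroupOf]; exact hzX)
      (by
        intro a
        have ha : (a : L) ∈ Cz z := hR ▸ a.2
        rcases hzh.sq a ha with h | h
        · left; apply Subtype.ext; simpa using h
        · right; apply Subtype.ext; simpa using h)
      (by
        intro a b
        have ha : (a : L) ∈ Cz z := hR ▸ a.2
        have hb : (b : L) ∈ Cz z := hR ▸ b.2
        rcases hzh.comm a ha b hb with h | h
        · left; apply Subtype.ext; simpa using h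
        · right; apply Subtype.ext; simpa using h)
      (by rw [Subgroup.mem_subgroupOf]; exact heX)
    obtain ⟨M, hM⟩ : ∃ M : Subgroup L, M = M'.map (R : Subgroup L).subtype := ⟨_, rfl⟩
    have hMR : M ≤ (R : Subgroup L) := by
      rw [hM]; exact Subgroup.map_subtype_le M'
    have hmemM : ∀ x : L, x ∈ M ↔ ∃ hx : x ∈ (R : Subgroup L), (⟨x, hx⟩ : ↥(R : Subgroup L)) ∈ M' := by
      intro x
      rw [hM]
      constructor
      · rintro ⟨y, hy, rfl⟩
        exact ⟨y.2, hy⟩
      · rintro ⟨hx, hy⟩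
        exact ⟨⟨x, hx⟩, hy, rfl⟩
    have hXM : X₀ ≤ M := by
      intro x hx
      rw [hmemM]
      have hxR : x ∈ (R : Subgroup L) := hR ▸ hX0le hx
      exact ⟨hxR, hXM' (Subgroup.mem_subgroupOf.mpr hx)⟩
    have heM : e ∉ M := by
      rw [hmemM]
      rintro ⟨_, h⟩
      exact heM' h
    have hrel : M.relIndex (R : Subgroup L) = 2 := by
      rw [Subgroup.relIndex, hM]
      have : (M'.map (R : Subgroup L).subtype).subgroupOf (R : Subgroup L) = M' :=
        Subgroup.comap_map_eq_self_of_injective (Subgroup.subtype_injective _) M'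
      rw [this]; exact hidx
    -- conjugates of `z` in `D` and `D₁` lie in `X₀`
    have hwD : ∀ w ∈ Cz z ⊓ Cz t, (∃ n, w = n * z * n⁻¹) → w ≠ z → w ∈ X₀ := by
      intro w hw hwc hwz
      by_cases hwt : w = t
      · rw [hwt]; exact htX
      · obtain ⟨n, hn⟩ := hwc
        have hlt : Loc t (Cz z ⊓ Cz t) := by
          have := hlD.transport g (by rw [← ht]; exact inf_le_right)
          rwa [← ht] at this
        have hlw : Loc w (Cz z ⊓ Cz t) := by
          have := hlD.transport n (by
            rw [← hn]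
            intro d hd
            rw [mem_Cz]
            exact hlD.ab d hd w hw)
          rwa [← hn] at this
        have := claimB hlD hlt hlw ⟨g, ht⟩ ⟨n, hn⟩ (fun h => hne h.symm) (fun h => hwz h.symm)
          (fun h => hwt h.symm)
        rw [this]
        exact X₀.mul_mem hzX htX
    have hwD1 : ∀ w ∈ Cz z ⊓ Cz u, (∃ n, w = n * z * n⁻¹) → w ≠ z → w ∈ X₀ := by
      intro w hw hwc hwz
      rcases huc with ⟨m, hm⟩ | hno
      · by_cases hwu : w = u
        · rw [hwu]; exact huX
        · obtain ⟨n, hn⟩ := hwc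
          have huz : u ≠ z := fun h => hut (h ▸ hzt)
          have huD1 : u ∈ Cz z ⊓ Cz u := ⟨hu, self_mem_Cz u⟩
          have hlu : Loc u (Cz z ⊓ Cz u) := by
            have := hlD1.transport m (by rw [← hm]; exact inf_le_right)
            rwa [← hm] at this
          have hlw : Loc w (Cz z ⊓ Cz u) := by
            have := hlD1.transport n (by
              rw [← hn]
              intro d hd
              rw [mem_Cz]
              exact hlD1.ab d hd w hw)
            rwa [← hn] at this
          have := claimB hlD1 hlu hlw ⟨m, hm⟩ ⟨n, hn⟩ (fun h => huz h.symm) (fun h => hwz h.symm)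
            (fun h => hwu h.symm)
          rw [this]
          exact X₀.mul_mem hzX huX
      · exfalso
        have hwt : w ∈ Cz t := by
          by_contra hwt
          exact hno w hw.1 hwt hwc
        have hwu : w * u = u * w := mem_Cz.mp hw.2
        have hcw : Cen z w := cen_of_mem_D_comm hlD hu huD ⟨hw.1, hwt⟩ hwu
        exact hlD.not_cen_conj hwc hwz hcw
    -- Thompson transfer
    have hnc : ∀ k : L, k * e * k⁻¹ ∉ M := by
      intro k hk
      have hy : k * e * k⁻¹ ∈ Cz z := hR ▸ hMR hk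
      have hyy : k * e * k⁻¹ * (k * e * k⁻¹) = 1 := by
        calc k * e * k⁻¹ * (k * e * k⁻¹) = k * (e * e) * k⁻¹ := by group
          _ = 1 := by rw [hee]; group
      have finish : ∀ w ∈ X₀, k * e * k⁻¹ = e * z * w → False := by
        intro w hw h
        apply heM
        have : e = (k * e * k⁻¹) * (z * w)⁻¹ := by rw [h]; group
        rw [this]
        exact M.mul_mem hk (M.inv_mem (hXM (X₀.mul_mem hzX hw)))
      rcases invol_mem hlD hu huD huu hy hyy with hyD | hyD1
      · rcases key_step hlD hce rfl hyD with h | ⟨w, hw, hwc, hwz, h⟩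
        · exact heM (h ▸ hk)
        · exact finish w (hwD w hw hwc hwz) h
      · rcases key_step hlD1 hce rfl hyD1 with h | ⟨w, hw, hwc, hwz, h⟩
        · exact heM (h ▸ hk)
        · exact finish w (hwD1 w hw hwc hwz) h
    obtain ⟨K, hKn, hKi, -⟩ := Cfsg.Agent.Lib.Lead.thompson_transfer R M hrel e he2 hnc
    rcases hKn.eq_bot_or_eq_top with rfl | rfl
    · rw [Subgroup.index_bot] at hKi
      have := orderOf_dvd_natCard (t * u)
      rw [h4, hKi] at this
      omega
    · rw [Subgroup.index_top] at hKi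
      omega

end Cfsg.Agent.Lib.Lead.FrattZ
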