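import Mathlib
import Cfsg.Agent.Lib.Helper1.ConjCount

set_option autoImplicit false

/-!
# The Frobenius–Hall theorem on the number of `n`-th roots of a conjugacy class: basic counting
-/

namespace Cfsg.Agent.Lib.Lead.FrobHall

universe u

/-- number of `n`-th roots of `c` -/
noncomputable def rts (G : Type u) [Group G] (n : ℕ) (c : G) : ℕ := Nat.card {x : G // x ^ n = c}

/-- number of `n`-th roots of the class of `c` -/
noncomputable def cnt (G : Type u) [Group G] (n : ℕ) (c : G) : ℕ :=
  Nat.card {x : G // IsConj c (x ^ n)}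

/-- size of the class of `c` -/
noncomputable def clsN (G : Type u) [Group G] (c : G) : ℕ := Nat.card {y : G // IsConj c y}

theorem card_fiber_sum {α β : Type*} [Finite α] [DecidableEq β] (f : α → β) (Y : Finset β) :
    Nat.card {x : α // f x ∈ Y} = ∑ y ∈ Y, Nat.card {x : α // f x = y} := by
  classical
  haveI := Fintype.ofFinite α
  simp only [Nat.card_eq_fintype_card, Fintype.card_subtype]
  rw [Finset.card_eq_sum_card_fiberwise (f := f) (t := Y)]
  · apply Finset.sum_congr rfl
    intro y hy
    congr 1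
    ext x
    simp only [Finset.mem_filter, Finset.mem_univ, true_and]
    constructor
    · rintro ⟨_, h⟩; exact h
    · intro h; exact ⟨h ▸ hy, h⟩
  · intro x hx
    simpa using hx

theorem dvd_card_of_blocks {α : Type*} [DecidableEq α] (S : Finset α) (F : α → Finset α) (n : ℕ)
    (h1 : ∀ x ∈ S, x ∈ F x) (h2 : ∀ x ∈ S, F x ⊆ S) (h3 : ∀ x ∈ S, (F x).card = n)
    (h4 : ∀ x ∈ S, ∀ x' ∈ F x, F x' = F x) : n ∣ S.card := by
  rw [Finset.card_eq_sum_card_image F S]
  apply Finset.dvd_sum
  intro B hB
  obtain ⟨x₀, hx₀, rfl⟩ := Finset.mem_image.mp hB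
  have : S.filter (fun x => F x = F x₀) = F x₀ := by
    ext x
    simp only [Finset.mem_filter]
    constructor
    · rintro ⟨hx, hFx⟩
      rw [← hFx]
      exact h1 x hx
    · intro hx
      exact ⟨h2 x₀ hx₀ hx, h4 x₀ hx₀ x hx⟩
  rw [this, h3 x₀ hx₀]

variable {G : Type u} [Group G]

theorem rts_conj (n : ℕ) (c g : G) : rts G n (g * c * g⁻¹) = rts G n c := by
  unfold rts
  apply Nat.card_congr
  refine ⟨fun x => ⟨g⁻¹ * x.1 * g, ?_⟩, fun x => ⟨g * x.1 * g⁻¹, ?_⟩, ?_, ?_⟩
  · have := x.2
    have e : (g⁻¹ * x.1 * g) ^ n = g⁻¹ * x.1 ^ n * g := by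
      have := conj_pow (i := n) (a := g⁻¹) (b := x.1)
      rwa [inv_inv] at this
    rw [e, this]; group
  · have := x.2
    rw [conj_pow, this]
  · intro x; apply Subtype.ext; simp only; group
  · intro x; apply Subtype.ext; simp only; group

theorem cnt_eq [Finite G] (n : ℕ) (c : G) : cnt G n c = clsN G c * rts G n c := by
  classical
  haveI := Fintype.ofFinite G
  have h1 : cnt G n c =
      Nat.card {x : G // x ^ n ∈ Finset.univ.filter (fun y : G => IsConj c y)} := by
    unfold cnt
    apply Nat.card_congr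
    exact Equiv.subtypeEquivRight (fun x => by simp)
  rw [h1, card_fiber_sum]
  have h2 : ∀ y ∈ Finset.univ.filter (fun y : G => IsConj c y),
      Nat.card {x : G // x ^ n = y} = rts G n c := by
    intro y hy
    rw [Finset.mem_filter] at hy
    obtain ⟨g, rfl⟩ := isConj_iff.mp hy.2
    exact rts_conj n c g
  rw [Finset.sum_congr rfl h2, Finset.sum_const, smul_eq_mul]
  congr 1
  unfold clsN
  rw [Nat.card_eq_fintype_card, Fintype.card_subtype]

theorem isConj_central_iff {c : G} (hc : c ∈ Subgroup.center G) (z : G) : IsConj c z ↔ z = c := by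
  rw [isConj_iff]
  constructor
  · rintro ⟨g, rfl⟩
    rw [Subgroup.mem_center_iff] at hc
    rw [hc g]; group
  · rintro rfl
    exact ⟨1, by group⟩

theorem clsN_central {c : G} (hc : c ∈ Subgroup.center G) : clsN G c = 1 := by
  unfold clsN
  have : {y : G // IsConj c y} ≃ Unit :=
    ⟨fun _ => (), fun _ => ⟨c, IsConj.refl c⟩, fun y => by
      apply Subtype.ext
      exact ((isConj_central_iff hc y.1).mp y.2).symm, fun _ => rfl⟩
  rw [Nat.card_congr this]
  simp

theorem cnt_central [Finite G] {c : G} (hc : c ∈ Subgroup.center G) (n : ℕ) :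
    cnt G n c = rts G n c := by
  rw [cnt_eq, clsN_central hc, one_mul]

theorem rts_centralizer (n : ℕ) (c : G) :
    rts G n c = rts (Subgroup.centralizer ({c} : Set G)) n
      ⟨c, Subgroup.mem_centralizer_singleton_iff.mpr rfl⟩ := by
  unfold rts
  apply Nat.card_congr
  refine ⟨fun x => ⟨⟨x.1, ?_⟩, ?_⟩, fun x => ⟨x.1.1, ?_⟩, ?_, ?_⟩
  · rw [Subgroup.mem_centralizer_singleton_iff]
    have hx := x.2
    calc x.1 * c = x.1 * x.1 ^ n := by rw [hx]
      _ = x.1 ^ n * x.1 := by rw [← pow_succ, ← pow_succ']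
      _ = c * x.1 := by rw [hx]
  · apply Subtype.ext
    simp only [Subgroup.coe_pow]
    exact x.2
  · have := congrArg Subtype.val x.2
    simpa using this
  · intro x; rfl
  · intro x; rfl

theorem central_in_centralizer (c : G) :
    (⟨c, Subgroup.mem_centralizer_singleton_iff.mpr rfl⟩ : Subgroup.centralizer ({c} : Set G)) ∈
      Subgroup.center (Subgroup.centralizer ({c} : Set G)) := by
  rw [Subgroup.mem_center_iff]
  intro g
  apply Subtype.ext
  have := g.2
  rw [Subgroup.mem_centralizer_singleton_iff] at this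
  simp only [Subgroup.coe_mul]
  exact this

/-- the claim -/
def Claim (G : Type u) [Group G] (n : ℕ) (c : G) : Prop :=
  Nat.gcd (clsN G c * n) (Nat.card G) ∣ cnt G n c

theorem claim_of_centralizer [Finite G] (n : ℕ) (c : G)
    (h : Claim (Subgroup.centralizer ({c} : Set G)) n
      ⟨c, Subgroup.mem_centralizer_singleton_iff.mpr rfl⟩) : Claim G n c := by
  unfold Claim at h ⊢
  rw [clsN_central (central_in_centralizer c), one_mul, cnt_central (central_in_centralizer c),
    ← rts_centralizer] at h
  rw [cnt_eq, ← Cfsg.Agent.Lib.Helper1.card_isConj_mul_card_centralizer c]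
  change Nat.gcd (clsN G c * n) (clsN G c * _) ∣ _
  rw [Nat.gcd_mul_left]
  exact Nat.mul_dvd_mul_left _ h

end Cfsg.Agent.Lib.Lead.FrobHall
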