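import Cfsg.Agent.Lib.Lead.FrobHall1

set_option autoImplicit false

/-!
# The Frobenius–Hall theorem: the lemmas of the induction
-/

namespace Cfsg.Agent.Lib.Lead.FrobHall

universe u

variable {G : Type u} [Group G]

/-- roots landing in a conjugation-invariant set -/
theorem dvd_card_pow_mem_of_invariant [Finite G] [DecidableEq G] (n d : ℕ) :
    ∀ (k : ℕ) (Y : Finset G), Y.card ≤ k → (∀ y ∈ Y, ∀ g : G, g * y * g⁻¹ ∈ Y) →
      (∀ y ∈ Y, d ∣ cnt G n y) → d ∣ Nat.card {x : G // x ^ n ∈ Y} := by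
  intro k
  induction k with
  | zero =>
    intro Y hY _ _
    have : Y = ∅ := Finset.card_eq_zero.mp (Nat.le_zero.mp hY)
    subst this
    simp
  | succ k ih =>
    intro Y hY hinv hd
    classical
    have := Fintype.ofFinite G
    by_cases hne : Y = ∅
    · subst hne
      simp
    obtain ⟨y, hy⟩ := Finset.nonempty_iff_ne_empty.mpr hne
    set D : Finset G := Finset.univ.filter (fun z : G => IsConj y z) with hD
    have hDY : D ⊆ Y := by
      intro z hz
      rw [hD, Finset.mem_filter] at hz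
      obtain ⟨g, rfl⟩ := isConj_iff.mp hz.2
      exact hinv y hy g
    have hyD : y ∈ D := by
      rw [hD, Finset.mem_filter]
      exact ⟨Finset.mem_univ _, IsConj.refl y⟩
    have hcard : (Y \ D).card ≤ k := by
      have h1 : (Y \ D).card < Y.card := by
        apply Finset.card_lt_card
        refine ⟨Finset.sdiff_subset, ?_⟩
        intro hsub
        have := hsub hy
        rw [Finset.mem_sdiff] at this
        exact this.2 hyD
      omega
    have hinv' : ∀ z ∈ Y \ D, ∀ g : G, g * z * g⁻¹ ∈ Y \ D := by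
      intro z hz g
      rw [Finset.mem_sdiff] at hz ⊢
      refine ⟨hinv z hz.1 g, ?_⟩
      intro hmem
      apply hz.2
      rw [hD, Finset.mem_filter] at hmem ⊢
      refine ⟨Finset.mem_univ _, ?_⟩
      have h2 : IsConj (g * z * g⁻¹) z := (isConj_iff.mpr ⟨g, rfl⟩ : IsConj z (g * z * g⁻¹)).symm
      exact hmem.2.trans h2
    have hd' : ∀ z ∈ Y \ D, d ∣ cnt G n z := fun z hz => hd z (Finset.mem_sdiff.mp hz).1
    have h1 := ih (Y \ D) hcard hinv' hd'
    have h2 : d ∣ Nat.card {x : G // x ^ n ∈ D} := by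
      have : Nat.card {x : G // x ^ n ∈ D} = cnt G n y := by
        unfold cnt
        apply Nat.card_congr
        exact Equiv.subtypeEquivRight (fun x => by simp [hD])
      rw [this]
      exact hd y hy
    rw [card_fiber_sum] at h1 h2 ⊢
    rw [← Finset.sum_sdiff hDY]
    exact Nat.dvd_add h1 h2

/-- orders of roots -/
theorem orderOf_root [Finite G] {p : ℕ} (hp : p.Prime) (s : ℕ) {c x : G} (hpc : p ∣ orderOf c)
    (hx : x ^ (p ^ s) = c) : orderOf x = p ^ s * orderOf c := by
  have hN : 0 < orderOf x := orderOf_pos x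
  have h1 : orderOf c = orderOf x / (orderOf x).gcd (p ^ s) := by
    rw [← hx, orderOf_pow]
  have hgd : (orderOf x).gcd (p ^ s) ∣ orderOf x := Nat.gcd_dvd_left _ _
  have h2 : orderOf x = orderOf c * (orderOf x).gcd (p ^ s) := by
    rw [h1, Nat.div_mul_cancel hgd]
  obtain ⟨j, hj, hgj⟩ := (Nat.dvd_prime_pow hp).mp (Nat.gcd_dvd_right (orderOf x) (p ^ s))
  have hjs : j = s := by
    by_contra hne
    have hlt : j + 1 ≤ s := by omega
    have d1 : p ^ (j + 1) ∣ p ^ s := pow_dvd_pow p hlt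
    have d2 : p ^ (j + 1) ∣ orderOf x := by
      rw [h2, hgj, pow_succ, mul_comm]
      exact Nat.mul_dvd_mul_right hpc _
    have d3 : p ^ (j + 1) ∣ p ^ j := by
      rw [← hgj]
      exact Nat.dvd_gcd d2 d1
    have := (Nat.pow_dvd_pow_iff_le_right hp.one_lt).mp d3
    omega
  rw [h2, hgj, hjs, mul_comm]

theorem pow_dvd_rts_of_dvd_orderOf [Finite G] {p : ℕ} (hp : p.Prime) (s : ℕ) (c : G)
    (hpc : p ∣ orderOf c) : p ^ s ∣ rts G (p ^ s) c := by
  classical
  haveI := Fintype.ofFinite G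
  have hm0 : 0 < orderOf c := orderOf_pos c
  have hm2 : 2 ≤ orderOf c := le_trans hp.two_le (Nat.le_of_dvd hm0 hpc)
  have hn0 : 0 < p ^ s := pow_pos hp.pos s
  unfold rts
  rw [Nat.card_eq_fintype_card, Fintype.card_subtype]
  set m := orderOf c with hm
  set S : Finset G := Finset.univ.filter (fun x : G => x ^ (p ^ s) = c) with hS
  have hSmem : ∀ x, x ∈ S ↔ x ^ (p ^ s) = c := by
    intro x
    rw [hS, Finset.mem_filter]
    simp
  have hord : ∀ x ∈ S, orderOf x = p ^ s * m := fun x hx =>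
    orderOf_root hp s hpc ((hSmem x).mp hx)
  let F : G → Finset G := fun x => (Finset.range (p ^ s)).image (fun j => x ^ (1 + j * m))
  have hexp : ∀ j, j < p ^ s → 1 + j * m < p ^ s * m := by
    intro j hj
    have : (j + 1) * m ≤ p ^ s * m := Nat.mul_le_mul_right m hj
    rw [Nat.add_mul, one_mul] at this
    omega
  have hF1 : ∀ x ∈ S, x ∈ F x := by
    intro x _
    refine Finset.mem_image.mpr ⟨0, Finset.mem_range.mpr hn0, ?_⟩
    simp
  have hF2 : ∀ x ∈ S, F x ⊆ S := by
    intro x hx z hz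
    obtain ⟨j, _, rfl⟩ := Finset.mem_image.mp hz
    rw [hSmem] at hx ⊢
    rw [← pow_mul, mul_comm, pow_mul, hx, pow_add, pow_one, mul_comm j m, pow_mul, hm,
      pow_orderOf_eq_one, one_pow, mul_one]
  have hF3 : ∀ x ∈ S, (F x).card = p ^ s := by
    intro x hx
    have hinj : Set.InjOn (fun j => x ^ (1 + j * m)) (Finset.range (p ^ s) : Set ℕ) := by
      intro j hj j' hj' hjj'
      rw [Finset.coe_range, Set.mem_Iio] at hj hj'
      have e1 : 1 + j * m < orderOf x := by rw [hord x hx]; exact hexp j hj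
      have e2 : 1 + j' * m < orderOf x := by rw [hord x hx]; exact hexp j' hj'
      have := pow_injOn_Iio_orderOf (x := x) (Set.mem_Iio.mpr e1) (Set.mem_Iio.mpr e2) hjj'
      have h3 : j * m = j' * m := by omega
      exact Nat.eq_of_mul_eq_mul_right hm0 h3
    rw [Finset.card_image_of_injOn hinj, Finset.card_range]
  have hF4 : ∀ x ∈ S, ∀ x' ∈ F x, F x' = F x := by
    intro x hx x' hx'
    have hx'S : x' ∈ S := hF2 x hx hx'
    apply Finset.eq_of_subset_of_card_le
    · intro z hz
      obtain ⟨j, _, rfl⟩ := Finset.mem_image.mp hx'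
      obtain ⟨j', _, rfl⟩ := Finset.mem_image.mp hz
      refine Finset.mem_image.mpr ⟨(j + j' + j * j' * m) % (p ^ s),
        Finset.mem_range.mpr (Nat.mod_lt _ hn0), ?_⟩
      have hxo : x ^ (p ^ s * m) = 1 := by rw [← hord x hx]; exact pow_orderOf_eq_one x
      have e : (1 + j * m) * (1 + j' * m) =
          1 + ((j + j' + j * j' * m) % (p ^ s)) * m +
            ((j + j' + j * j' * m) / (p ^ s)) * (p ^ s * m) := by
        have hdm := Nat.div_add_mod (j + j' + j * j' * m) (p ^ s)
        calc (1 + j * m) * (1 + j' * m) = 1 + (j + j' + j * j' * m) * m := by ring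
          _ = 1 + (p ^ s * ((j + j' + j * j' * m) / p ^ s) +
                (j + j' + j * j' * m) % p ^ s) * m := by rw [hdm]
          _ = _ := by ring
      have hgoal : (x ^ (1 + j * m)) ^ (1 + j' * m) =
          x ^ (1 + ((j + j' + j * j' * m) % (p ^ s)) * m) := by
        rw [← pow_mul, e, pow_add, mul_comm ((j + j' + j * j' * m) / p ^ s) (p ^ s * m),
          pow_mul x (p ^ s * m), hxo, one_pow, mul_one]
      exact hgoal.symm
    · rw [hF3 x hx, hF3 x' hx'S]
  exact dvd_card_of_blocks S F (p ^ s) hF1 hF2 hF3 hF4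

/-- shifting by a central root -/
theorem rts_central_coprime [Finite G] {c : G} (hc : c ∈ Subgroup.center G) (n : ℕ)
    (hcop : Nat.Coprime n (orderOf c)) : rts G n c = rts G n 1 := by
  by_cases h1 : orderOf c = 1
  · rw [orderOf_eq_one_iff] at h1
    rw [h1]
  have ho : 1 < orderOf c := by
    have := orderOf_pos c
    omega
  obtain ⟨n', -, hn'⟩ := Nat.exists_mul_mod_eq_one_of_coprime hcop ho
  have hc0 : (c ^ n') ^ n = c := by
    rw [← pow_mul, mul_comm, ← pow_mod_orderOf, hn', pow_one]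
  have hc0c : c ^ n' ∈ Subgroup.center G := Subgroup.pow_mem _ hc n'
  have hcomm : ∀ x : G, Commute x (c ^ n') := fun x =>
    (Subgroup.mem_center_iff.mp hc0c x)
  unfold rts
  apply Nat.card_congr
  refine ⟨fun x => ⟨x.1 * (c ^ n')⁻¹, ?_⟩, fun y => ⟨y.1 * c ^ n', ?_⟩, ?_, ?_⟩
  · rw [((hcomm x.1).inv_right).mul_pow, x.2, inv_pow, hc0, mul_inv_cancel]
  · rw [(hcomm y.1).mul_pow, y.2, hc0, one_mul]
  · intro x; apply Subtype.ext; simp
  · intro y; apply Subtype.ext; simp

/-- the central elements of order prime to `p` -/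
def pPrimeCenter (G : Type u) [Group G] {p : ℕ} (hp : p.Prime) : Subgroup G where
  carrier := {y | y ∈ Subgroup.center G ∧ ¬ p ∣ orderOf y}
  mul_mem' := by
    rintro a b ⟨ha, hpa⟩ ⟨hb, hpb⟩
    refine ⟨mul_mem ha hb, ?_⟩
    have hcomm : Commute a b := Subgroup.mem_center_iff.mp hb a
    intro h
    have h2 : p ∣ orderOf a * orderOf b :=
      (h.trans hcomm.orderOf_mul_dvd_lcm).trans (Nat.lcm_dvd_mul _ _)
    rcases (Nat.Prime.dvd_mul hp).mp h2 with h3 | h3
    · exact hpa h3
    · exact hpb h3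
  one_mem' := by
    refine ⟨one_mem _, ?_⟩
    rw [orderOf_one]
    exact hp.one_lt.ne' ∘ Nat.dvd_one.mp
  inv_mem' := by
    rintro a ⟨ha, hpa⟩
    refine ⟨inv_mem ha, ?_⟩
    rwa [orderOf_inv]

theorem coprime_card_pPrimeCenter [Finite G] {p : ℕ} (hp : p.Prime) :
    Nat.Coprime p (Nat.card (pPrimeCenter G hp)) := by
  rw [Nat.Prime.coprime_iff_not_dvd hp]
  intro hdvd
  have : Fact p.Prime := ⟨hp⟩
  obtain ⟨w, hw⟩ := exists_prime_orderOf_dvd_card' p hdvd
  have h1 : orderOf (w : G) = p := by rw [Subgroup.orderOf_coe]; exact hw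
  exact w.2.2 (by rw [h1])

end Cfsg.Agent.Lib.Lead.FrobHall
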