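import Cfsg.Agent.Lib.Lead.FrobHall2

set_option autoImplicit false

/-!
# The Frobenius–Hall theorem: the induction
-/

namespace Cfsg.Agent.Lib.Lead.FrobHall

universe u

variable {G : Type u} [Group G]

/-- coprime factor step -/
theorem gcd_dvd_rts_mul [Finite G] {c : G} (hc : c ∈ Subgroup.center G) (n₁ n₂ : ℕ)
    (hR : ∀ y : G, Nat.gcd n₁ (Nat.card G) ∣ cnt G n₁ y) :
    Nat.gcd n₁ (Nat.card G) ∣ rts G (n₁ * n₂) c := by
  classical
  have := Fintype.ofFinite G
  have h1 : rts G (n₁ * n₂) c =
      Nat.card {x : G // x ^ n₁ ∈ Finset.univ.filter (fun y : G => y ^ n₂ = c)} := by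
    unfold rts
    apply Nat.card_congr
    exact Equiv.subtypeEquivRight (fun x => by simp [pow_mul])
  rw [h1]
  apply dvd_card_pow_mem_of_invariant n₁ _ _ _ le_rfl
  · intro y hy g
    rw [Finset.mem_filter] at hy ⊢
    refine ⟨Finset.mem_univ _, ?_⟩
    rw [conj_pow, hy.2]
    rw [Subgroup.mem_center_iff] at hc
    rw [hc g]; group
  · intro y _
    exact hR y

theorem conj_mem_center_iff (y g : G) :
    g * y * g⁻¹ ∈ Subgroup.center G ↔ y ∈ Subgroup.center G := by
  constructor
  · intro h
    have h2 : g⁻¹ * (g * y * g⁻¹) * g⁻¹⁻¹ ∈ Subgroup.center G :=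
      (inferInstance : (Subgroup.center G).Normal).conj_mem _ h g⁻¹
    have e : g⁻¹ * (g * y * g⁻¹) * g⁻¹⁻¹ = y := by group
    rwa [e] at h2
  · intro h
    exact (inferInstance : (Subgroup.center G).Normal).conj_mem _ h g

/-- the prime power case with trivial target -/
theorem gcd_dvd_rts_one [Finite G] {p : ℕ} (hp : p.Prime) (s : ℕ)
    (hnc : ∀ y : G, y ∉ Subgroup.center G →
      Nat.gcd (p ^ s) (Nat.card G) ∣ cnt G (p ^ s) y) :
    Nat.gcd (p ^ s) (Nat.card G) ∣ rts G (p ^ s) 1 := by
  classical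
  have := Fintype.ofFinite G
  have htot : Nat.card G = ∑ y : G, rts G (p ^ s) y := by
    have h := card_fiber_sum (fun x : G => x ^ (p ^ s)) (Finset.univ : Finset G)
    unfold rts
    rw [← h]
    apply Nat.card_congr
    exact (Equiv.subtypeUnivEquiv (fun x => Finset.mem_univ _)).symm
  have hsplit := (Finset.sum_filter_add_sum_filter_not (Finset.univ : Finset G)
    (fun y : G => y ∈ Subgroup.center G) (fun y => rts G (p ^ s) y)).symm
  have hsplit2 := (Finset.sum_filter_add_sum_filter_not
    (Finset.univ.filter (fun y : G => y ∈ Subgroup.center G))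
    (fun y : G => p ∣ orderOf y) (fun y => rts G (p ^ s) y)).symm
  have hA : Nat.gcd (p ^ s) (Nat.card G) ∣
      ∑ y ∈ Finset.univ.filter (fun y : G => y ∉ Subgroup.center G), rts G (p ^ s) y := by
    have h := card_fiber_sum (fun x : G => x ^ (p ^ s))
      (Finset.univ.filter (fun y : G => y ∉ Subgroup.center G))
    unfold rts
    rw [← h]
    apply dvd_card_pow_mem_of_invariant (p ^ s) _ _ _ le_rfl
    · intro y hy g
      rw [Finset.mem_filter] at hy ⊢
      refine ⟨Finset.mem_univ _, ?_⟩
      rw [conj_mem_center_iff]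
      exact hy.2
    · intro y hy
      exact hnc y (Finset.mem_filter.mp hy).2
  have hB : Nat.gcd (p ^ s) (Nat.card G) ∣
      ∑ y ∈ (Finset.univ.filter (fun y : G => y ∈ Subgroup.center G)).filter
        (fun y : G => p ∣ orderOf y), rts G (p ^ s) y := by
    apply Finset.dvd_sum
    intro y hy
    exact (Nat.gcd_dvd_left _ _).trans
      (pow_dvd_rts_of_dvd_orderOf hp s y (Finset.mem_filter.mp hy).2)
  have hC : ∑ y ∈ (Finset.univ.filter (fun y : G => y ∈ Subgroup.center G)).filter
        (fun y : G => ¬ p ∣ orderOf y), rts G (p ^ s) y =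
      Nat.card (pPrimeCenter G hp) * rts G (p ^ s) 1 := by
    have h2 : ∀ y ∈ (Finset.univ.filter (fun y : G => y ∈ Subgroup.center G)).filter
        (fun y : G => ¬ p ∣ orderOf y), rts G (p ^ s) y = rts G (p ^ s) 1 := by
      intro y hy
      rw [Finset.mem_filter, Finset.mem_filter] at hy
      apply rts_central_coprime hy.1.2
      exact Nat.Coprime.pow_left s ((Nat.Prime.coprime_iff_not_dvd hp).mpr hy.2)
    rw [Finset.sum_congr rfl h2, Finset.sum_const, smul_eq_mul]
    congr 1
    rw [Nat.card_eq_fintype_card, ← Fintype.card_coe]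
    apply Fintype.card_congr
    refine ⟨fun y => ⟨y.1, ?_⟩, fun y => ⟨y.1, ?_⟩, fun _ => rfl, fun _ => rfl⟩
    · have := y.2
      rw [Finset.mem_filter, Finset.mem_filter] at this
      exact ⟨this.1.2, this.2⟩
    · rw [Finset.mem_filter, Finset.mem_filter]
      exact ⟨⟨Finset.mem_univ _, y.2.1⟩, y.2.2⟩
  have hdG : Nat.gcd (p ^ s) (Nat.card G) ∣ Nat.card G := Nat.gcd_dvd_right _ _
  have hmul : Nat.gcd (p ^ s) (Nat.card G) ∣ Nat.card (pPrimeCenter G hp) * rts G (p ^ s) 1 := by
    rw [← hC]
    have h3 : Nat.gcd (p ^ s) (Nat.card G) ∣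
        ∑ y : G, rts G (p ^ s) y := by rw [← htot]; exact hdG
    rw [hsplit, hsplit2] at h3
    have h4 := (Nat.dvd_add_iff_left hA).mpr h3
    exact (Nat.dvd_add_iff_right hB).mpr h4
  have hcop : Nat.Coprime (Nat.gcd (p ^ s) (Nat.card G)) (Nat.card (pPrimeCenter G hp)) := by
    obtain ⟨j, _, hj⟩ := (Nat.dvd_prime_pow hp).mp (Nat.gcd_dvd_left (p ^ s) (Nat.card G))
    rw [hj]
    exact Nat.Coprime.pow_left j (coprime_card_pPrimeCenter hp)
  exact hcop.dvd_of_dvd_mul_left hmul

theorem rts_zero [Finite G] (c : G) : Nat.card G ∣ rts G 0 c := by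
  unfold rts
  by_cases hc : c = 1
  · subst hc
    have : Nat.card {x : G // x ^ 0 = 1} = Nat.card G := by
      apply Nat.card_congr
      exact Equiv.subtypeUnivEquiv (fun x => pow_zero x)
    rw [this]
  · have : IsEmpty {x : G // x ^ 0 = c} := by
      constructor
      rintro ⟨x, hx⟩
      rw [pow_zero] at hx
      exact hc hx.symm
    rw [Nat.card_eq_zero.mpr (Or.inl this)]
    exact dvd_zero _

/-- the central case, given the noncentral case -/
theorem central_case [Finite G]
    (hnc : ∀ (n : ℕ) (y : G), y ∉ Subgroup.center G → Claim G n y) :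
    ∀ (n : ℕ) (c : G), c ∈ Subgroup.center G → Nat.gcd n (Nat.card G) ∣ rts G n c := by
  intro n
  induction n using Nat.strong_induction_on with
  | _ n ihn =>
    intro c hc
    -- the full claim below n
    have hR : ∀ n' < n, ∀ y : G, Nat.gcd n' (Nat.card G) ∣ cnt G n' y := by
      intro n' hn' y
      by_cases hy : y ∈ Subgroup.center G
      · rw [cnt_central hy]
        exact ihn n' hn' y hy
      · exact (Nat.gcd_dvd_gcd_mul_left_left _ _ _).trans (hnc n' y hy)
    have hnc' : ∀ y : G, y ∉ Subgroup.center G → Nat.gcd n (Nat.card G) ∣ cnt G n y :=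
      fun y hy => (Nat.gcd_dvd_gcd_mul_left_left _ _ _).trans (hnc n y hy)
    rcases Nat.eq_zero_or_pos n with h0 | hpos
    · subst h0
      rw [Nat.gcd_zero_left]
      exact rts_zero c
    by_cases h1 : n = 1
    · subst h1
      rw [Nat.gcd_one_left]
      exact one_dvd _
    obtain ⟨p, hp, hpn⟩ : ∃ p : ℕ, p.Prime ∧ p ∣ n := ⟨n.minFac, Nat.minFac_prime h1, Nat.minFac_dvd n⟩
    obtain ⟨s, n₂, hn₂, hn⟩ := Nat.exists_eq_pow_mul_and_not_dvd hpos.ne' p hp.ne_one
    have hs : s ≠ 0 := by
      rintro rfl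
      rw [pow_zero, one_mul] at hn
      exact hn₂ (hn ▸ hpn)
    by_cases h2 : n₂ = 1
    · -- prime power
      rw [h2, mul_one] at hn
      rw [hn]
      rw [hn] at hnc'
      by_cases hpc : p ∣ orderOf c
      · exact (Nat.gcd_dvd_left _ _).trans (pow_dvd_rts_of_dvd_orderOf hp s c hpc)
      · rw [rts_central_coprime hc _
          (Nat.Coprime.pow_left s ((Nat.Prime.coprime_iff_not_dvd hp).mpr hpc))]
        exact gcd_dvd_rts_one hp s hnc'
    · -- two coprime factors
      have hn₂0 : n₂ ≠ 0 := by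
        rintro rfl
        rw [mul_zero] at hn
        omega
      have hn₂2 : 1 < n₂ := by omega
      have hps2 : 1 < p ^ s := Nat.one_lt_pow hs hp.one_lt
      have hlt1 : p ^ s < n := by
        rw [hn]
        exact lt_mul_of_one_lt_right (by omega) hn₂2
      have hlt2 : n₂ < n := by
        rw [hn]
        exact lt_mul_of_one_lt_left (by omega) hps2
      have hcop : Nat.Coprime (p ^ s) n₂ :=
        Nat.Coprime.pow_left s ((Nat.Prime.coprime_iff_not_dvd hp).mpr hn₂)
      have d1 : Nat.gcd (p ^ s) (Nat.card G) ∣ rts G n c := by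
        rw [hn]
        exact gcd_dvd_rts_mul hc _ _ (hR _ hlt1)
      have d2 : Nat.gcd n₂ (Nat.card G) ∣ rts G n c := by
        rw [hn, mul_comm]
        exact gcd_dvd_rts_mul hc _ _ (hR _ hlt2)
      have hcop' : Nat.Coprime (Nat.gcd (p ^ s) (Nat.card G)) (Nat.gcd n₂ (Nat.card G)) :=
        Nat.Coprime.coprime_dvd_left (Nat.gcd_dvd_left _ _)
          (Nat.Coprime.coprime_dvd_right (Nat.gcd_dvd_left _ _) hcop)
      have e : Nat.gcd n (Nat.card G) =
          Nat.gcd (p ^ s) (Nat.card G) * Nat.gcd n₂ (Nat.card G) := by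
        rw [hn, Nat.gcd_comm, Nat.Coprime.gcd_mul _ hcop, Nat.gcd_comm (Nat.card G),
          Nat.gcd_comm (Nat.card G)]
      rw [e]
      exact hcop'.mul_dvd_of_dvd_of_dvd d1 d2

/-- The Frobenius–Hall theorem -/
theorem main_aux : ∀ (k : ℕ) (G : Type u) [Group G] [Finite G], Nat.card G = k →
    ∀ (n : ℕ) (c : G), Claim G n c := by
  intro k
  induction k using Nat.strong_induction_on with
  | _ k ih =>
    intro G _ _ hk
    have hnc : ∀ (n : ℕ) (c : G), c ∉ Subgroup.center G → Claim G n c := by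
      intro n c hc
      apply claim_of_centralizer
      have hne : Subgroup.centralizer ({c} : Set G) ≠ ⊤ := by
        intro htop
        rw [Subgroup.centralizer_eq_top_iff_subset] at htop
        exact hc (htop (Set.mem_singleton c))
      have hlt : Nat.card (Subgroup.centralizer ({c} : Set G)) < k := by
        rw [← hk]
        apply lt_of_le_of_ne (Subgroup.card_le_card_group _)
        intro heq
        exact hne ((Subgroup.card_eq_iff_eq_top _).mp heq)
      exact ih _ hlt _ rfl n _
    intro n c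
    by_cases hc : c ∈ Subgroup.center G
    · unfold Claim
      rw [clsN_central hc, one_mul, cnt_central hc]
      exact central_case hnc n c hc
    · exact hnc n c hc

theorem main {G : Type u} [Group G] [Finite G] (c : G) (n : ℕ) :
    Nat.gcd (Nat.card {y : G // IsConj c y} * n) (Nat.card G) ∣
      Nat.card {x : G // IsConj c (x ^ n)} :=
  main_aux _ G rfl n c

end Cfsg.Agent.Lib.Lead.FrobHall
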