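import Cfsg.Agent.Lib.Lead.FrobHall3
import Cfsg.Agent.Lib.Lead.HallThm

set_option autoImplicit false

/-!
# Frobenius' conjecture for solvable groups
-/

namespace Cfsg.Agent.Lib.Lead.FrobSolv

open Cfsg.Agent.Lib.Lead.FrobHall

universe u

variable {G : Type u} [Group G]

theorem frobenius_one [Finite G] (n : ℕ) :
    Nat.gcd n (Nat.card G) ∣ Nat.card {x : G // x ^ n = 1} := by
  have h := main_aux _ G rfl n (1 : G)
  unfold Claim at h
  rw [clsN_central (one_mem _), one_mul, cnt_central (one_mem _)] at h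
  exact h

theorem card_fiber_mk [Finite G] (K : Subgroup G) [K.Normal] (q : G ⧸ K) :
    Nat.card {x : G // (x : G ⧸ K) = q} = Nat.card K := by
  obtain ⟨y₀, rfl⟩ := QuotientGroup.mk_surjective q
  apply Nat.card_congr
  refine ⟨fun x => ⟨y₀⁻¹ * x.1, ?_⟩, fun k => ⟨y₀ * k.1, ?_⟩, ?_, ?_⟩
  · have := x.2
    rw [eq_comm, QuotientGroup.eq] at this
    exact this
  · rw [eq_comm, QuotientGroup.eq]
    simp
  · intro x; apply Subtype.ext; simp
  · intro k; apply Subtype.ext; simp

theorem card_preimage [Finite G] (K : Subgroup G) [K.Normal] (T : Set (G ⧸ K)) :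
    Nat.card {x : G // (x : G ⧸ K) ∈ T} = Nat.card K * Nat.card T := by
  classical
  have := Fintype.ofFinite (G ⧸ K)
  have h1 : Nat.card {x : G // (x : G ⧸ K) ∈ T} =
      Nat.card {x : G // (x : G ⧸ K) ∈ T.toFinset} := by
    apply Nat.card_congr
    exact Equiv.subtypeEquivRight (fun x => by simp)
  rw [h1, card_fiber_sum (fun x : G => (x : G ⧸ K)) T.toFinset]
  rw [Finset.sum_congr rfl (fun q _ => card_fiber_mk K q), Finset.sum_const, smul_eq_mul,
    mul_comm]
  congr 1
  rw [Set.toFinset_card, Nat.card_eq_fintype_card]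

theorem pow_card_sub_eq_one [Finite G] (Q : Subgroup G) {x : G} (hx : x ∈ Q) :
    x ^ Nat.card Q = 1 := by
  have h := pow_card_eq_one' (G := Q) (x := ⟨x, hx⟩)
  have := congrArg Subtype.val h
  rwa [Subgroup.coe_pow] at this

/-- a conjugation-invariant set which is the carrier of a subgroup gives a normal subgroup -/
theorem normal_of_carrier (n : ℕ) (H : Subgroup G) (hH : (H : Set G) = {x : G | x ^ n = 1}) :
    H.Normal := by
  constructor
  intro x hx g
  have hx' : x ∈ (H : Set G) := hx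
  rw [hH, Set.mem_setOf_eq] at hx'
  have : g * x * g⁻¹ ∈ (H : Set G) := by
    rw [hH, Set.mem_setOf_eq, conj_pow, hx']
    group
  exact this

/-- the case `p ∤ n` -/
theorem case_coprime [Finite G] (K : Subgroup G) [K.Normal] {p : ℕ} (hp : p.Prime)
    (hKp : IsPGroup p K) (hKexp : ∀ x ∈ K, x ^ p = 1) (n : ℕ) (hn : n ∣ Nat.card G)
    (hcount : Nat.card {x : G // x ^ n = 1} = n) (hpn : ¬ p ∣ n)
    (ih : n ∣ Nat.card (G ⧸ K) → Nat.card {x : G ⧸ K // x ^ n = 1} = n →
      ∃ H : Subgroup (G ⧸ K), H.Normal ∧ (H : Set (G ⧸ K)) = {x : G ⧸ K | x ^ n = 1}) :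
    ∃ H : Subgroup G, H.Normal ∧ (H : Set G) = {x : G | x ^ n = 1} := by
  have hn0 : n ≠ 0 := by
    rintro rfl
    rw [zero_dvd_iff] at hn
    exact Nat.card_pos.ne' hn
  have hpf : Fact p.Prime := ⟨hp⟩
  obtain ⟨a, ha⟩ := hKp.exists_card_eq
  have hcop : Nat.Coprime n (p ^ a) :=
    Nat.Coprime.pow_right a ((Nat.Prime.coprime_iff_not_dvd hp).mpr hpn).symm
  have hcard : Nat.card G = Nat.card (G ⧸ K) * Nat.card K :=
    Subgroup.card_eq_card_quotient_mul_card_subgroup K
  have hnq : n ∣ Nat.card (G ⧸ K) := by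
    rw [hcard, ha] at hn
    exact hcop.dvd_of_dvd_mul_right hn
  -- surjection of solution sets
  have hsurj : Nat.card {x : G ⧸ K // x ^ n = 1} ≤ Nat.card {x : G // x ^ n = 1} := by
    by_cases hn1 : n = 1
    · subst hn1
      have e1 : Nat.card {x : G ⧸ K // x ^ 1 = 1} = 1 := by
        have : {x : G ⧸ K // x ^ 1 = 1} ≃ Unit :=
          ⟨fun _ => (), fun _ => ⟨1, one_pow 1⟩, fun x => by
            apply Subtype.ext
            have := x.2
            rw [pow_one] at this
            exact this.symm, fun _ => rfl⟩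
        rw [Nat.card_congr this]; simp
      rw [e1, hcount]
    have hn2 : 1 < n := by omega
    obtain ⟨v, -, hv⟩ := Nat.exists_mul_mod_eq_one_of_coprime
      ((Nat.Prime.coprime_iff_not_dvd hp).mpr hpn) hn2
    have hpv : p * v = n * (p * v / n) + 1 := by
      have := Nat.div_add_mod (p * v) n
      omega
    let f : {x : G // x ^ n = 1} → {x : G ⧸ K // x ^ n = 1} := fun x =>
      ⟨(x.1 : G ⧸ K), by rw [← QuotientGroup.mk_pow, x.2]; rfl⟩
    apply Nat.card_le_card_of_surjective f
    rintro ⟨q, hq⟩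
    obtain ⟨y, rfl⟩ := QuotientGroup.mk_surjective q
    have hyK : y ^ n ∈ K := by
      rw [← QuotientGroup.eq_one_iff, QuotientGroup.mk_pow]
      exact hq
    have hy1 : (y ^ (p * v)) ^ n = 1 := by
      have e : (y ^ (p * v)) ^ n = ((y ^ n) ^ p) ^ v := by
        rw [← pow_mul, ← pow_mul, ← pow_mul]
        congr 1
        ring
      rw [e, hKexp _ hyK, one_pow]
    refine ⟨⟨y ^ (p * v), hy1⟩, ?_⟩
    apply Subtype.ext
    show ((y ^ (p * v) : G) : G ⧸ K) = (y : G ⧸ K)
    rw [QuotientGroup.mk_pow, hpv, pow_add, pow_mul, hq, one_pow, one_mul, pow_one]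
  have hfrob := frobenius_one (G := G ⧸ K) n
  rw [Nat.gcd_eq_left hnq] at hfrob
  have hpos : 0 < Nat.card {x : G ⧸ K // x ^ n = 1} := by
    haveI : Nonempty {x : G ⧸ K // x ^ n = 1} := ⟨⟨1, one_pow n⟩⟩
    exact Nat.card_pos
  have hq : Nat.card {x : G ⧸ K // x ^ n = 1} = n := by
    apply le_antisymm
    · rw [hcount] at hsurj
      exact hsurj
    · exact Nat.le_of_dvd hpos hfrob
  obtain ⟨Hbar, hHn, hHc⟩ := ih hnq hq
  have hHbar_card : Nat.card Hbar = n := by
    rw [← hq]
    apply Nat.card_congr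
    exact Equiv.setCongr hHc
  -- the preimage
  set H : Subgroup G := Hbar.comap (QuotientGroup.mk' K) with hH
  have hKH : K ≤ H := by
    intro k hk
    rw [hH, Subgroup.mem_comap]
    have : (QuotientGroup.mk' K) k = 1 := (QuotientGroup.eq_one_iff k).mpr hk
    rw [this]
    exact one_mem _
  have hrel : K.relIndex H = n := by
    calc K.relIndex H = ((⊥ : Subgroup (G ⧸ K)).comap (QuotientGroup.mk' K)).relIndex
          (Hbar.comap (QuotientGroup.mk' K)) := by
          rw [MonoidHom.comap_bot, QuotientGroup.ker_mk']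
      _ = n := by
          rw [Subgroup.relIndex_comap, Subgroup.map_comap_eq_self_of_surjective
            (QuotientGroup.mk'_surjective K), Subgroup.relIndex_bot_left, hHbar_card]
  have hKHn : (K.subgroupOf H).Normal := Subgroup.normal_subgroupOf
  have hcopH : Nat.Coprime (Nat.card (K.subgroupOf H)) (K.subgroupOf H).index := by
    have e1 : Nat.card (K.subgroupOf H) = p ^ a := by
      rw [← ha]
      exact Nat.card_congr (Subgroup.subgroupOfEquivOfLe hKH).toEquiv
    rw [e1]
    show Nat.Coprime (p ^ a) (K.relIndex H)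
    rw [hrel]
    exact hcop.symm
  obtain ⟨Q', hQ'⟩ := Subgroup.exists_right_complement'_of_coprime hcopH
  have hQ'card : Nat.card Q' = n := by
    have h1 := hQ'.card_mul
    have h2 := (K.subgroupOf H).card_mul_index
    have h3 : (K.subgroupOf H).index = n := hrel
    have h4 : 0 < Nat.card (K.subgroupOf H) := Nat.card_pos
    rw [h3] at h2
    have : Nat.card (K.subgroupOf H) * Nat.card Q' = Nat.card (K.subgroupOf H) * n := by
      rw [h1, h2]
    exact Nat.eq_of_mul_eq_mul_left h4 this
  set Q : Subgroup G := Q'.map H.subtype with hQ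
  have hQcard : Nat.card Q = n := by
    rw [hQ, Subgroup.card_map_of_injective H.subtype_injective, hQ'card]
  have hQsub : (Q : Set G) ⊆ {x : G | x ^ n = 1} := by
    intro x hx
    have := pow_card_sub_eq_one Q hx
    rw [hQcard] at this
    exact this
  have hQeq : (Q : Set G) = {x : G | x ^ n = 1} := by
    apply Set.eq_of_subset_of_ncard_le hQsub
    · rw [← Nat.card_coe_set_eq, ← Nat.card_coe_set_eq]
      have : Nat.card (Q : Set G) = n := hQcard
      rw [this]
      exact hcount.le
  exact ⟨Q, normal_of_carrier n Q hQeq, hQeq⟩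

end Cfsg.Agent.Lib.Lead.FrobSolv
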