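import Cfsg.Agent.Lib.Lead.FrobSolv1

set_option autoImplicit false

/-!
# Frobenius' conjecture for solvable groups: the case `p ∣ n` and the induction
-/

namespace Cfsg.Agent.Lib.Lead.FrobSolv

open Cfsg.Agent.Lib.Lead.FrobHall

universe u

variable {G : Type u} [Group G]

theorem case_dvd [Finite G] (K : Subgroup G) [K.Normal] {p : ℕ} (hp : p.Prime)
    (hKp : IsPGroup p K) (hK1 : K ≠ ⊥) (hKexp : ∀ x ∈ K, x ^ p = 1) (n : ℕ)
    (hn : n ∣ Nat.card G)
    (hcount : Nat.card {x : G // x ^ n = 1} = n) (hpn : p ∣ n)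
    (ih : ∀ m : ℕ, m ∣ Nat.card (G ⧸ K) → Nat.card {x : G ⧸ K // x ^ m = 1} = m →
      ∃ H : Subgroup (G ⧸ K), H.Normal ∧ (H : Set (G ⧸ K)) = {x : G ⧸ K | x ^ m = 1}) :
    ∃ H : Subgroup G, H.Normal ∧ (H : Set G) = {x : G | x ^ n = 1} := by
  have hn0 : n ≠ 0 := by
    rintro rfl
    rw [zero_dvd_iff] at hn
    exact Nat.card_pos.ne' hn
  have hpf : Fact p.Prime := ⟨hp⟩
  obtain ⟨a, ha⟩ := hKp.exists_card_eq
  have ha0 : a ≠ 0 := by
    rintro rfl
    rw [pow_zero] at ha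
    exact hK1 (Subgroup.card_eq_one.mp ha)
  have hcard : Nat.card G = Nat.card (G ⧸ K) * Nat.card K :=
    Subgroup.card_eq_card_quotient_mul_card_subgroup K
  have hnp : n / p * p = n := Nat.div_mul_cancel hpn
  -- the reduced exponent
  obtain ⟨nb, hnb⟩ : ∃ nb, nb = Nat.gcd (n / p) (Nat.card (G ⧸ K)) := ⟨_, rfl⟩
  have hnb_dvd : nb ∣ Nat.card (G ⧸ K) := hnb ▸ Nat.gcd_dvd_right _ _
  have hnb_dvd' : nb ∣ n / p := hnb ▸ Nat.gcd_dvd_left _ _
  have hiff : ∀ x : G ⧸ K, x ^ nb = 1 ↔ x ^ (n / p) = 1 := by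
    intro x
    constructor
    · intro h
      exact orderOf_dvd_iff_pow_eq_one.mp ((orderOf_dvd_iff_pow_eq_one.mpr h).trans hnb_dvd')
    · intro h
      apply orderOf_dvd_iff_pow_eq_one.mp
      rw [hnb]
      exact Nat.dvd_gcd (orderOf_dvd_iff_pow_eq_one.mpr h) (orderOf_dvd_natCard x)
  -- the preimage lies in the solution set
  have hsub : {x : G | ((x : G ⧸ K)) ^ nb = 1} ⊆ {x : G | x ^ n = 1} := by
    intro x hx
    rw [Set.mem_setOf_eq, hiff, ← QuotientGroup.mk_pow, QuotientGroup.eq_one_iff] at hx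
    rw [Set.mem_setOf_eq, ← hnp, pow_mul]
    exact hKexp _ hx
  have hcardP : Nat.card {x : G // ((x : G ⧸ K)) ^ nb = 1} =
      Nat.card K * Nat.card {q : G ⧸ K // q ^ nb = 1} :=
    card_preimage K {q : G ⧸ K | q ^ nb = 1}
  have hfrob := frobenius_one (G := G ⧸ K) nb
  rw [Nat.gcd_eq_left hnb_dvd] at hfrob
  have hposT : 0 < Nat.card {q : G ⧸ K // q ^ nb = 1} := by
    haveI : Nonempty {q : G ⧸ K // q ^ nb = 1} := ⟨⟨1, one_pow nb⟩⟩
    exact Nat.card_pos
  have hle1 : nb ≤ Nat.card {q : G ⧸ K // q ^ nb = 1} := Nat.le_of_dvd hposT hfrob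
  have hKpos : 0 < Nat.card K := Nat.card_pos
  have hnbpos : 0 < nb := Nat.pos_of_ne_zero (by
    rintro rfl
    rw [zero_dvd_iff] at hfrob
    omega)
  have hdvd : n ∣ Nat.card K * nb := by
    rw [hnb, ← Nat.gcd_mul_left]
    apply Nat.dvd_gcd
    · obtain ⟨b, rfl⟩ := Nat.exists_eq_succ_of_ne_zero ha0
      rw [ha, pow_succ, mul_assoc, mul_comm p (n / p), hnp]
      exact Dvd.intro_left _ rfl
    · rw [mul_comm, ← hcard]
      exact hn
  have hle0 : n ≤ Nat.card K * nb := Nat.le_of_dvd (Nat.mul_pos hKpos hnbpos) hdvd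
  have hle2 : Nat.card {x : G // ((x : G ⧸ K)) ^ nb = 1} ≤ Nat.card {x : G // x ^ n = 1} := by
    have h := Set.ncard_le_ncard hsub (Set.toFinite _)
    rw [← Nat.card_coe_set_eq, ← Nat.card_coe_set_eq] at h
    exact h
  have hchain : Nat.card K * Nat.card {q : G ⧸ K // q ^ nb = 1} ≤ Nat.card K * nb := by
    rw [← hcardP]
    exact hle2.trans (hcount.le.trans hle0)
  have hT : Nat.card {q : G ⧸ K // q ^ nb = 1} = nb :=
    le_antisymm (Nat.le_of_mul_le_mul_left hchain hKpos) hle1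
  have hP : n ≤ Nat.card {x : G // ((x : G ⧸ K)) ^ nb = 1} := by
    rw [hcardP, hT]
    exact hle0
  obtain ⟨Hbar, hHn, hHc⟩ := ih nb hnb_dvd hT
  refine ⟨Hbar.comap (QuotientGroup.mk' K), hHn.comap _, ?_⟩
  have hcar : ((Hbar.comap (QuotientGroup.mk' K) : Subgroup G) : Set G) =
      {x : G | ((x : G ⧸ K)) ^ nb = 1} := by
    ext x
    rw [Subgroup.coe_comap, Set.mem_preimage, hHc]
    rfl
  rw [hcar]
  apply Set.eq_of_subset_of_ncard_le hsub
  · rw [← Nat.card_coe_set_eq, ← Nat.card_coe_set_eq]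
    exact le_trans hcount.le hP

theorem main_aux : ∀ (k : ℕ) (G : Type u) [Group G] [Finite G] [Group.IsSolvable G],
    Nat.card G = k → ∀ n : ℕ, n ∣ Nat.card G → Nat.card {x : G // x ^ n = 1} = n →
      ∃ H : Subgroup G, H.Normal ∧ (H : Set G) = {x : G | x ^ n = 1} := by
  intro k
  induction k using Nat.strong_induction_on with
  | _ k ih =>
    intro G _ _ _ hk n hn hcount
    by_cases hnt : Nontrivial G
    · obtain ⟨p, K, hp, hKn, _, hKp, hK1, hKexp⟩ :=
        Cfsg.Agent.Lib.Lead.exists_normal_abelian_pgroup (G := G)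
      have hcard : Nat.card G = Nat.card (G ⧸ K) * Nat.card K :=
        Subgroup.card_eq_card_quotient_mul_card_subgroup K
      have hK2 : 1 < Nat.card K := by
        have h1 : 0 < Nat.card K := Nat.card_pos
        have h2 : Nat.card K ≠ 1 := fun h => hK1 (Subgroup.card_eq_one.mp h)
        omega
      have hqpos : 0 < Nat.card (G ⧸ K) := Nat.card_pos
      have hlt : Nat.card (G ⧸ K) < k := by
        rw [← hk, hcard]
        exact lt_mul_of_one_lt_right hqpos hK2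
      have : Group.IsSolvable (G ⧸ K) := inferInstance
      have ihq : ∀ m : ℕ, m ∣ Nat.card (G ⧸ K) → Nat.card {x : G ⧸ K // x ^ m = 1} = m →
          ∃ H : Subgroup (G ⧸ K), H.Normal ∧ (H : Set (G ⧸ K)) = {x : G ⧸ K | x ^ m = 1} :=
        fun m hm hc => ih _ hlt (G ⧸ K) rfl m hm hc
      by_cases hpn : p ∣ n
      · exact case_dvd K hp hKp hK1 hKexp n hn hcount hpn ihq
      · exact case_coprime K hp hKp hKexp n hn hcount hpn (ihq n)
    · rw [not_nontrivial_iff_subsingleton] at hnt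
      refine ⟨⊤, inferInstance, ?_⟩
      ext x
      simp only [Subgroup.coe_top, Set.mem_univ, Set.mem_setOf_eq, true_iff]
      rw [Subsingleton.elim x 1]
      exact one_pow n

theorem main {G : Type u} [Group G] [Finite G] [Group.IsSolvable G] (n : ℕ)
    (hn : n ∣ Nat.card G) (hcount : Nat.card {x : G // x ^ n = 1} = n) :
    ∃ H : Subgroup G, H.Normal ∧ (H : Set G) = {x : G | x ^ n = 1} :=
  main_aux _ G rfl n hn hcount

end Cfsg.Agent.Lib.Lead.FrobSolv
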