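import Mathlib
import Cfsg.Agent.Lib.Helper2.G2LDefs
import Cfsg.Agent.Lib.Helper2.Basic

set_option autoImplicit false

/-!
# S3801 package E2h : the `±1`-decomposition of a class two `q`-group under an involution
centralising the centre (`exists_split`)
-/

namespace Cfsg.Agent.Lib.Lead.G2LE2h

open Cfsg Cfsg.Agent.Lib.Helper2.G2L

universe u

variable {H : Type u} [Group H]

/-- the centre of `D` as a subgroup of `H` -/
abbrev ZD (D : Subgroup H) : Subgroup H := (Subgroup.center D).map D.subtype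

theorem mem_ZD_iff (D : Subgroup H) (z : H) :
    z ∈ ZD D ↔ z ∈ D ∧ ∀ c ∈ D, z * c = c * z := by
  constructor
  · rintro ⟨y, hy, rfl⟩
    refine ⟨y.2, fun c hc => ?_⟩
    have := Subgroup.mem_center_iff.1 hy ⟨c, hc⟩
    exact (congrArg Subtype.val this).symm
  · rintro ⟨hz, hc⟩
    exact ⟨⟨z, hz⟩, Subgroup.mem_center_iff.2 (fun g => Subtype.ext (hc g g.2).symm), rfl⟩

theorem ZD_conj (D : Subgroup H) (hDn : D.Normal) {z : H} (hz : z ∈ ZD D) (x : H) :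
    x * z * x⁻¹ ∈ ZD D := by
  rw [mem_ZD_iff] at hz ⊢
  refine ⟨hDn.conj_mem z hz.1 x, fun c hc => ?_⟩
  have hc' : x⁻¹ * c * x ∈ D := by
    have := hDn.conj_mem c hc x⁻¹
    rwa [inv_inv] at this
  have h := hz.2 _ hc'
  calc x * z * x⁻¹ * c = x * (z * (x⁻¹ * c * x)) * x⁻¹ := by group
    _ = x * ((x⁻¹ * c * x) * z) * x⁻¹ := by rw [h]
    _ = c * (x * z * x⁻¹) := by group

/-- conjugation by `t` -/
abbrev cj (t : H) : MulAut H := MulAut.conj t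

theorem cj_cj {t : H} (ht2 : t * t = 1) (x : H) : cj t (cj t x) = x := by
  have : (MulAut.conj t * MulAut.conj t) x = x := by
    rw [← map_mul, ht2, map_one]; rfl
  exact this

theorem cj_eq_self_iff {t x : H} : cj t x = x ↔ t * x = x * t := by
  rw [MulAut.conj_apply, mul_inv_eq_iff_eq_mul]

/-- the subgroup of elements inverted modulo the centre -/
def D1 (D : Subgroup H) (hDn : D.Normal)
    (hcl : ∀ a ∈ D, ∀ b ∈ D, ∀ c ∈ D, cm a b * c = c * cm a b) (t : H) : Subgroup H where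
  carrier := {d | d ∈ D ∧ d * cj t d ∈ ZD D}
  one_mem' := ⟨one_mem _, by simp⟩
  mul_mem' := by
    rintro a b ⟨haD, ha⟩ ⟨hbD, hb⟩
    refine ⟨mul_mem haD hbD, ?_⟩
    have hcomm : (a * cj t a) * b⁻¹ = b⁻¹ * (a * cj t a) :=
      ((mem_ZD_iff D _).1 ha).2 _ (inv_mem hbD)
    have e : a * b * cj t (a * b) = (a * b * a⁻¹) * ((a * cj t a) * b⁻¹) * (b * cj t b) := by
      rw [map_mul]; group
    rw [e, hcomm]
    have e2 : a * b * a⁻¹ * (b⁻¹ * (a * cj t a)) * (b * cj t b)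
        = cm a⁻¹ b⁻¹ * (a * cj t a) * (b * cj t b) := by
      unfold cm; rw [inv_inv, inv_inv]; group
    rw [e2]
    have hc : cm a⁻¹ b⁻¹ ∈ ZD D := by
      rw [mem_ZD_iff]
      refine ⟨?_, fun c hc => hcl _ (inv_mem haD) _ (inv_mem hbD) c hc⟩
      unfold cm
      exact mul_mem (mul_mem (mul_mem (inv_mem (inv_mem haD)) (inv_mem (inv_mem hbD)))
        (inv_mem haD)) (inv_mem hbD)
    exact mul_mem (mul_mem hc ha) hb
  inv_mem' := by
    rintro a ⟨haD, ha⟩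
    refine ⟨inv_mem haD, ?_⟩
    have hcomm : (a * cj t a) * a = a * (a * cj t a) := ((mem_ZD_iff D _).1 ha).2 _ haD
    have e : a⁻¹ * cj t a⁻¹ = (a⁻¹ * ((a * cj t a) * a))⁻¹ := by
      rw [map_inv]; group
    rw [e, hcomm, inv_mul_cancel_left]
    exact inv_mem ha

theorem mem_D1 {D : Subgroup H} {hDn : D.Normal}
    {hcl : ∀ a ∈ D, ∀ b ∈ D, ∀ c ∈ D, cm a b * c = c * cm a b} {t d : H} :
    d ∈ D1 D hDn hcl t ↔ d ∈ D ∧ d * cj t d ∈ ZD D := Iff.rfl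

section main

variable [Finite H] (q : ℕ) (hq : q.Prime) (hq2 : q ≠ 2)
  (D : Subgroup H) (hDn : D.Normal) (hDq : IsPGroup q D)
  (hcl : ∀ a ∈ D, ∀ b ∈ D, ∀ c ∈ D, cm a b * c = c * cm a b)
  (t : H) (ht2 : t * t = 1)
  (hZt : ∀ z ∈ D, (∀ c ∈ D, z * c = c * z) → t * z = z * t)

include hq hq2 hDq in
theorem odd_orderOf {d : H} (hd : d ∈ D) : Odd (orderOf d) := by
  obtain ⟨k, hk⟩ := hDq ⟨d, hd⟩
  have hk' : d ^ q ^ k = 1 := by
    have := congrArg Subtype.val hk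
    simpa using this
  exact Odd.of_dvd_nat (Odd.pow (hq.odd_of_ne_two hq2)) (orderOf_dvd_of_pow_eq_one hk')

theorem eq_one_of_sq_of_odd {c : H} (ho : Odd (orderOf c)) (h : c * c = 1) : c = 1 := by
  have h2 : orderOf c ∣ 2 := orderOf_dvd_of_pow_eq_one (by rw [pow_two, h])
  rcases (Nat.dvd_prime Nat.prime_two).1 h2 with h1 | h1
  · exact orderOf_eq_one_iff.1 h1
  · rw [h1] at ho; exact absurd ho (by decide)

include hq hq2 hDq in
/-- the decomposition `d = d₁ d₀` -/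
theorem exists_decomp (ht2 : t * t = 1) {d : H} (hd : d ∈ D) :
    ∃ d₁ ∈ D1 D hDn hcl t, ∃ d₀ ∈ D ⊓ Subgroup.centralizer {t}, d = d₁ * d₀ := by
  set w : H := d * (cj t d)⁻¹ with hw
  have hcjd : cj t d ∈ D := by rw [MulAut.conj_apply]; exact hDn.conj_mem d hd t
  have hwD : w ∈ D := mul_mem hd (inv_mem hcjd)
  have hcw : cj t w = w⁻¹ := by
    rw [hw, map_mul, map_inv, cj_cj ht2, mul_inv_rev, inv_inv]
  have hw1 : w ∈ D1 D hDn hcl t := by
    refine ⟨hwD, ?_⟩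
    rw [hcw, mul_inv_cancel]; exact one_mem _
  obtain ⟨k, hk⟩ := odd_orderOf q hq hq2 D hDq hwD
  have hee : w ^ (k + 1) * w ^ (k + 1) = w := by
    rw [← pow_add, show k + 1 + (k + 1) = orderOf w + 1 by omega, pow_succ, pow_orderOf_eq_one,
      one_mul]
  have hcd : cj t d = w⁻¹ * d := by rw [hw]; group
  refine ⟨w ^ (k + 1), pow_mem hw1 _, (w ^ (k + 1))⁻¹ * d, Subgroup.mem_inf.2 ⟨?_, ?_⟩, by group⟩
  · exact mul_mem (inv_mem (pow_mem hwD _)) hd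
  · rw [Subgroup.mem_centralizer_iff]
    intro h hh
    rw [Set.mem_singleton_iff] at hh
    subst hh
    rw [← cj_eq_self_iff, map_mul, map_inv, map_pow, hcw, hcd, inv_pow, inv_inv]
    have : w ^ (k + 1) * w⁻¹ = (w ^ (k + 1))⁻¹ := by
      calc w ^ (k + 1) * w⁻¹ = w ^ (k + 1) * (w ^ (k + 1) * w ^ (k + 1))⁻¹ := by rw [hee]
        _ = (w ^ (k + 1))⁻¹ := by group
    rw [← mul_assoc, this]

include hq hq2 hDq hZt in
/-- elements of `C_D(t)` commute with elements of `D₁` -/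
theorem comm_of_fixed {a b : H} (haD : a ∈ D) (hat : t * a = a * t) (hb : b ∈ D1 D hDn hcl t) :
    a * b = b * a := by
  obtain ⟨hbD, hbz⟩ := hb
  set u : H := cj t b with hu
  set zb : H := b * u with hzb
  obtain ⟨hzbD, hzbc⟩ := (mem_ZD_iff D _).1 hbz
  set k : H := cm a b with hk
  have hkD : k ∈ D := by
    rw [hk]; unfold cm
    exact mul_mem (mul_mem (mul_mem (inv_mem haD) (inv_mem hbD)) haD) hbD
  have hkc : ∀ c ∈ D, k * c = c * k := fun c hc => hcl a haD b hbD c hc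
  have hk1 : cj t k = k := cj_eq_self_iff.2 (hZt k hkD hkc)
  have ha1 : cj t a = a := cj_eq_self_iff.2 hat
  have hk2 : cj t k = a⁻¹ * u⁻¹ * a * u := by
    rw [hk]; unfold cm
    rw [map_mul, map_mul, map_mul, map_inv, map_inv, ha1]
  have hub : u = b⁻¹ * zb := by rw [hzb]; group
  have hza : a⁻¹ * zb⁻¹ * a = zb⁻¹ := by
    have h1 : zb * a = a * zb := hzbc a haD
    have h2 : zb⁻¹ * a = a * zb⁻¹ := by
      calc zb⁻¹ * a = zb⁻¹ * (a * zb) * zb⁻¹ := by group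
        _ = zb⁻¹ * (zb * a) * zb⁻¹ := by rw [h1]
        _ = a * zb⁻¹ := by group
    rw [mul_assoc, h2, inv_mul_cancel_left]
  have hXD : a⁻¹ * b * a * b⁻¹ ∈ D :=
    mul_mem (mul_mem (mul_mem (inv_mem haD) hbD) haD) (inv_mem hbD)
  have hzX := hzbc _ hXD
  have hk3 : a⁻¹ * u⁻¹ * a * u = a⁻¹ * b * a * b⁻¹ := by
    rw [hub]
    calc a⁻¹ * (b⁻¹ * zb)⁻¹ * a * (b⁻¹ * zb)
        = (a⁻¹ * zb⁻¹ * a) * (a⁻¹ * b * a * b⁻¹) * zb := by group
      _ = zb⁻¹ * (a⁻¹ * b * a * b⁻¹) * zb := by rw [hza]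
      _ = a⁻¹ * b * a * b⁻¹ := by rw [mul_assoc, ← hzX, ← mul_assoc, inv_mul_cancel, one_mul]
  have hk4 : k = a⁻¹ * b * a * b⁻¹ := by rw [← hk1, hk2, hk3]
  have hk5 : k = k⁻¹ := by
    have h1 : b⁻¹ * k * b = k := by
      rw [mul_assoc, hkc b hbD, inv_mul_cancel_left]
    have h2 : b⁻¹ * (a⁻¹ * b * a * b⁻¹) * b = k⁻¹ := by
      rw [hk]; unfold cm; group
    rw [← hk4] at h2
    rw [← h2, h1]
  have hk6 : k * k = 1 := by
    nth_rewrite 2 [hk5]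
    exact mul_inv_cancel k
  have hk7 : k = 1 := eq_one_of_sq_of_odd (odd_orderOf q hq hq2 D hDq hkD) hk6
  have : a * b = b * a * k := by rw [hk]; unfold cm; group
  rw [this, hk7, mul_one]

/-- E2h -/
theorem exists_split (H : Type u) [Group H] [Finite H] (q : ℕ) (hq : q.Prime) (hq2 : q ≠ 2)
    (D : Subgroup H) (hDn : D.Normal) (hDq : IsPGroup q D)
    (hcl : ∀ a ∈ D, ∀ b ∈ D, ∀ c ∈ D, cm a b * c = c * cm a b)
    (t : H) (ht2 : t * t = 1)
    (hZt : ∀ z ∈ D, (∀ c ∈ D, z * c = c * z) → t * z = z * t) :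
    ∃ D₀ D₁ : Subgroup H, D₀ ≤ D ∧ D₁ ≤ D ∧
      D₀ = (D ⊓ Subgroup.centralizer {t}) ⊔ (Subgroup.center D).map D.subtype ∧
      (Subgroup.center D).map D.subtype ≤ D₁ ∧
      (∀ a ∈ D₀, ∀ b ∈ D₁, a * b = b * a) ∧
      (∀ b ∈ D₁, (∀ c ∈ D₁, b * c = c * b) → ∀ c ∈ D, b * c = c * b) ∧
      (∀ b ∈ D₁, t * b = b * t → ∀ c ∈ D, b * c = c * b) ∧
      (∀ x : H, x * t = t * x → ∀ b ∈ D₁, x * b * x⁻¹ ∈ D₁) ∧
      ((∃ d ∈ D, t * d ≠ d * t) → ∃ b ∈ D₁, t * b ≠ b * t) ∧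
      Nat.card D * Nat.card ((Subgroup.center D).map D.subtype) = Nat.card D₀ * Nat.card D₁ := by
  have hZD : ZD D ≤ D := fun z hz => ((mem_ZD_iff D z).1 hz).1
  set D₀ : Subgroup H := (D ⊓ Subgroup.centralizer {t}) ⊔ ZD D with hD₀
  set D₁ : Subgroup H := D1 D hDn hcl t with hD₁
  have hD₀D : D₀ ≤ D := sup_le inf_le_left hZD
  have hD₁D : D₁ ≤ D := fun d hd => hd.1
  have hmemC : ∀ a : H, a ∈ Subgroup.centralizer ({t} : Set H) ↔ t * a = a * t := by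
    intro a
    rw [Subgroup.mem_centralizer_iff]
    constructor
    · intro h; exact h t rfl
    · intro h x hx; rw [Set.mem_singleton_iff] at hx; subst hx; exact h
  -- (2)
  have hZD₁ : ZD D ≤ D₁ := by
    intro z hz
    obtain ⟨hzD, hzc⟩ := (mem_ZD_iff D z).1 hz
    refine ⟨hzD, ?_⟩
    rw [cj_eq_self_iff.2 (hZt z hzD hzc)]
    exact mul_mem hz hz
  -- (3)
  have h3 : ∀ a ∈ D₀, ∀ b ∈ D₁, a * b = b * a := by
    intro a ha b hb
    have hle : D₀ ≤ Subgroup.centralizer (D₁ : Set H) := by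
      refine sup_le ?_ ?_
      · intro a ha
        rw [Subgroup.mem_centralizer_iff]
        intro b hb
        exact (comm_of_fixed q hq hq2 D hDn hDq hcl t hZt ha.1 ((hmemC a).1 ha.2) hb).symm
      · intro z hz
        rw [Subgroup.mem_centralizer_iff]
        intro b hb
        exact (((mem_ZD_iff D z).1 hz).2 b hb.1).symm
    exact ((Subgroup.mem_centralizer_iff.1 (hle ha)) b hb).symm
  -- decomposition
  have hdec : ∀ d ∈ D, ∃ d₁ ∈ D₁, ∃ d₀ ∈ D ⊓ Subgroup.centralizer {t}, d = d₁ * d₀ :=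
    fun d hd => exists_decomp q hq hq2 D hDn hDq hcl t ht2 hd
  -- (4)
  have h4 : ∀ b ∈ D₁, (∀ c ∈ D₁, b * c = c * b) → ∀ c ∈ D, b * c = c * b := by
    intro b hb hbc c hc
    obtain ⟨d₁, hd₁, d₀, hd₀, rfl⟩ := hdec c hc
    have e1 := hbc d₁ hd₁
    have e2 : d₀ * b = b * d₀ := h3 d₀ (le_sup_left (a := D ⊓ Subgroup.centralizer {t}) hd₀) b hb
    rw [← mul_assoc, e1, mul_assoc, ← e2, mul_assoc]
  -- (5)
  have h5 : ∀ b ∈ D₁, t * b = b * t → ∀ c ∈ D, b * c = c * b := by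
    intro b hb hbt
    have hbb : b * b ∈ ZD D := by
      have := hb.2
      rwa [cj_eq_self_iff.2 hbt] at this
    obtain ⟨k, hk⟩ := odd_orderOf q hq hq2 D hDq hb.1
    have hbe : b = (b * b) ^ (k + 1) := by
      rw [← pow_two, ← pow_mul, show 2 * (k + 1) = orderOf b + 1 by omega, pow_succ,
        pow_orderOf_eq_one, one_mul]
    have hbZ : b ∈ ZD D := by rw [hbe]; exact pow_mem hbb _
    exact ((mem_ZD_iff D b).1 hbZ).2
  -- (6)
  have h6 : ∀ x : H, x * t = t * x → ∀ b ∈ D₁, x * b * x⁻¹ ∈ D₁ := by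
    intro x hx b hb
    refine ⟨hDn.conj_mem b hb.1 x, ?_⟩
    have e : x * b * x⁻¹ * cj t (x * b * x⁻¹) = x * (b * cj t b) * x⁻¹ := by
      rw [MulAut.conj_apply, MulAut.conj_apply]
      calc x * b * x⁻¹ * (t * (x * b * x⁻¹) * t⁻¹)
          = x * b * x⁻¹ * ((t * x) * b * (t * x)⁻¹) := by group
        _ = x * b * x⁻¹ * ((x * t) * b * (x * t)⁻¹) := by rw [hx]
        _ = x * (b * (t * b * t⁻¹)) * x⁻¹ := by group
    rw [e]
    exact ZD_conj D hDn hb.2 x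
  -- (7)
  have h7 : (∃ d ∈ D, t * d ≠ d * t) → ∃ b ∈ D₁, t * b ≠ b * t := by
    rintro ⟨d, hd, hdt⟩
    by_contra hcon
    push Not at hcon
    apply hdt
    obtain ⟨d₁, hd₁, d₀, hd₀, rfl⟩ := hdec d hd
    have e1 := hcon d₁ hd₁
    have e2 := (hmemC d₀).1 hd₀.2
    rw [← mul_assoc, e1, mul_assoc, e2, mul_assoc]
  -- (8)
  have hsup : D₀ ⊔ D₁ = D := by
    apply le_antisymm (sup_le hD₀D hD₁D)
    intro d hd
    obtain ⟨d₁, hd₁, d₀, hd₀, rfl⟩ := hdec d hd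
    exact mul_mem (Subgroup.mem_sup_right hd₁)
      (Subgroup.mem_sup_left (le_sup_left (a := D ⊓ Subgroup.centralizer {t}) hd₀))
  have hinf : D₀ ⊓ D₁ = ZD D := by
    apply le_antisymm
    · intro b hb
      rw [mem_ZD_iff]
      exact ⟨hD₁D hb.2, h4 b hb.2 (fun c hc => h3 b hb.1 c hc)⟩
    · exact le_inf le_sup_right hZD₁
  have h8 : Nat.card D * Nat.card (ZD D) = Nat.card D₀ * Nat.card D₁ := by
    have hn : D₀ ≤ Subgroup.normalizer (D₁ : Set H) := by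
      intro a ha
      exact Cfsg.Agent.Lib.Helper2.mem_normalizer_of_commute D₁ a (fun n hn => h3 a ha n hn)
    have := Cfsg.Agent.Lib.Helper2.card_sup_mul_card_inf D₀ D₁ hn
    rw [hsup, hinf] at this
    exact this
  exact ⟨D₀, D₁, hD₀D, hD₁D, rfl, hZD₁, h3, h4, h5, h6, h7, h8⟩

end main

end Cfsg.Agent.Lib.Lead.G2LE2h
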