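import Mathlib

set_option autoImplicit false

/-!
# S3801 package NT : `q ^ m = (2 ^ n - 1) ^ 2` forces `q = 2 ^ n - 1`
-/

namespace Cfsg.Agent.Lib.Lead.G2LNT

/-- an odd natural number dividing a power of two is one -/
theorem eq_one_of_odd_of_dvd_two_pow {s n : ℕ} (ho : Odd s) (hd : s ∣ 2 ^ n) : s = 1 := by
  obtain ⟨j, -, hj⟩ := (Nat.dvd_prime_pow Nat.prime_two).1 hd
  rcases j with _ | j
  · simpa using hj
  · rw [hj] at ho
    exact absurd ho (by simp [pow_succ])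

/-- `q ^ c + 1 = 2 ^ n` with `q` odd, `c` odd forces `c = 1` -/
theorem odd_exp_eq_one {q c n : ℕ} (hq1 : 2 ≤ q) (hqodd : Odd q) (hcodd : Odd c)
    (h : 2 ^ n = q ^ c + 1) : c = 1 := by
  set S : ℤ := ∑ i ∈ Finset.range c, (-(q : ℤ)) ^ i with hSdef
  have hS : S * (-(q : ℤ) - 1) = (-(q : ℤ)) ^ c - 1 := geom_sum_mul (-(q : ℤ)) c
  have hneg : (-(q : ℤ)) ^ c = -((q : ℤ) ^ c) := Odd.neg_pow hcodd _
  have h2 : ((2 : ℤ)) ^ n = (q : ℤ) ^ c + 1 := by exact_mod_cast h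
  have hS2 : S * ((q : ℤ) + 1) = (2 : ℤ) ^ n := by
    rw [hneg] at hS
    rw [h2]
    linarith
  have hSodd : Odd S := by
    rw [← ZMod.intCast_eq_one_iff_odd, hSdef]
    have hq2 : ((q : ℤ) : ZMod 2) = 1 := by
      rw [ZMod.intCast_eq_one_iff_odd]
      exact_mod_cast hqodd
    push_cast
    have hq2' : ((q : ℕ) : ZMod 2) = 1 := by exact_mod_cast hq2
    rw [hq2']
    have : (-1 : ZMod 2) = 1 := by decide
    simp only [this, one_pow, Finset.sum_const, Finset.card_range, nsmul_eq_mul, mul_one]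
    exact (ZMod.natCast_eq_one_iff_odd).2 hcodd
  have hSpos : 0 < S := by
    have h1 : (0 : ℤ) < (2 : ℤ) ^ n := by positivity
    have h3 : (0 : ℤ) < (q : ℤ) + 1 := by positivity
    rw [← hS2] at h1
    by_contra hneg'
    rw [not_lt] at hneg'
    nlinarith
  have hS1 : S = 1 := by
    have hd : S.natAbs ∣ 2 ^ n := by
      have : S ∣ (2 : ℤ) ^ n := ⟨(q : ℤ) + 1, hS2.symm⟩
      have := Int.natAbs_dvd_natAbs.2 this
      simpa [Int.natAbs_pow] using this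
    have ho : Odd S.natAbs := Int.natAbs_odd.2 hSodd
    have := eq_one_of_odd_of_dvd_two_pow ho hd
    omega
  rw [hS1, one_mul, h2] at hS2
  have h5 : (q : ℤ) ^ c = (q : ℤ) ^ 1 := by linarith
  have h6 : q ^ c = q ^ 1 := by exact_mod_cast h5
  exact Nat.pow_right_injective hq1 h6

/-- NT -/
theorem mersenne_of_sq {q n m : ℕ} (hq : q.Prime) (hq2 : q ≠ 2) (hn : 2 ≤ n)
    (h : q ^ m = (2 ^ n - 1) ^ 2) : q = 2 ^ n - 1 := by
  have hqodd : Odd q := hq.odd_of_ne_two hq2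
  have h4 : 4 ≤ 2 ^ n := by
    calc 4 = 2 ^ 2 := rfl
      _ ≤ 2 ^ n := Nat.pow_le_pow_right (by norm_num) hn
  have hMd : (2 ^ n - 1) ∣ q ^ m := by rw [h]; exact dvd_pow_self _ (by norm_num)
  obtain ⟨c, -, hc⟩ := (Nat.dvd_prime_pow hq).1 hMd
  have h2n : 2 ^ n = q ^ c + 1 := by omega
  have hcodd : Odd c := by
    by_contra hce
    rw [Nat.not_odd_iff_even] at hce
    obtain ⟨k, hk⟩ := hce
    have hq4 : q ^ 2 % 4 = 1 := by
      obtain ⟨j, hj⟩ := hqodd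
      have : q ^ 2 = 4 * (j * j + j) + 1 := by rw [hj]; ring
      omega
    have h1 : q ^ c % 4 = 1 := by
      rw [hk, ← two_mul, pow_mul, Nat.pow_mod, hq4]
      simp
    have h0 : 2 ^ n % 4 = 0 := by
      obtain ⟨r, rfl⟩ := Nat.exists_eq_add_of_le hn
      rw [pow_add]
      norm_num
    omega
  have hc1 : c = 1 := odd_exp_eq_one hq.two_le hqodd hcodd h2n
  rw [hc1, pow_one] at hc
  exact hc.symm

end Cfsg.Agent.Lib.Lead.G2LNT
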