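import Mathlib
import Cfsg.Agent.Lib.Lead.GT12
import Cfsg.Agent.Lib.Helper4.Sect1

set_option autoImplicit false

namespace Cfsg.Agent.Lib.Lead

namespace GT

open scoped Pointwise commutatorElement
open Cfsg

universe u

section

variable {p : ℕ} [hpf : Fact p.Prime] {W : ∀ (Q : Type u) [Group Q], Subgroup Q}

/-- the section functor attached to an isomorphism-invariant `p`-group functor -/
theorem isSecFunctor_induced (hW : IsCharPFunctor.{u} p W) :
    IsSecFunctor.{u} p (fun (X : Type u) [Group X] (D : Subgroup X) => inducedFunctor W D) where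
  le := fun X _ _ D _ => Cfsg.Agent.Lib.Helper4.inducedFunctor_le D
  ne_bot := fun X _ _ D hD hD1 =>
    ((Cfsg.Agent.Lib.Helper4.isConjugacyFunctor_inducedFunctor hW (X := X)) D hD).2.1 hD1
  map := fun X Y _ _ _ _ f D hD hinj =>
    Cfsg.Agent.Lib.Helper4.inducedFunctor_map hW f D hD (fun x hx h1 =>
      hinj hx D.one_mem (by rw [h1, map_one]))

/-- transport of the quotient by `O_p` along an isomorphism -/
theorem pnilp_quot_pCore_of_equiv {X Y : Type u} [Group X] [Group Y] [Finite X] (e : X ≃* Y)
    (h : PNilp p (X ⧸ pCore p X)) : PNilp p (Y ⧸ pCore p Y) :=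
  h.of_equiv (QuotientGroup.congr (pCore p X) (pCore p Y) e
    (Cfsg.Agent.Lib.Helper6.pCore_map_equiv p e))

theorem isCoatom_map_equiv {X Y : Type*} [Group X] [Group Y] (e : X ≃* Y) (T : Subgroup X)
    (h : IsCoatom T) : IsCoatom (T.map e.toMonoidHom) :=
  (OrderIso.isCoatom_iff (MulEquiv.mapSubgroup e) T).mpr h

/-- normality pulls back along an isomorphism -/
theorem normal_of_map_equiv {X Y : Type*} [Group X] [Group Y] (e : X ≃* Y) (U : Subgroup X)
    (h : (U.map e.toMonoidHom).Normal) : U.Normal := by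
  have h1 : (U.map e.toMonoidHom).comap e.toMonoidHom = U :=
    Subgroup.comap_map_eq_self_of_injective e.injective U
  rw [← h1]
  exact Subgroup.Normal.comap h e.toMonoidHom

end

end GT

end Cfsg.Agent.Lib.Lead
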