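import Mathlib
import Cfsg.Agent.Lib.Lead.GT14
import Cfsg.Prelude.Def_LocalEven

set_option autoImplicit false

namespace Cfsg.Agent.Lib.Lead

namespace GT

open scoped Pointwise commutatorElement
open Cfsg

universe u

section

variable {p : ℕ} [hpf : Fact p.Prime] {W : ∀ (Q : Type u) [Group Q], Subgroup Q}

/-- two elements inducing the same map on a subgroup they normalize have powers with the same
property -/
theorem conj_pow_eq_of_agree {Y : Type*} [Group Y] (Q : Subgroup Y) (u g : Y)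
    (hg : ∀ a ∈ Q, g * a * g⁻¹ ∈ Q) (h : ∀ a ∈ Q, u * a * u⁻¹ = g * a * g⁻¹) :
    ∀ (j : ℕ), ∀ a ∈ Q, u ^ j * a * (u ^ j)⁻¹ = g ^ j * a * (g ^ j)⁻¹ := by
  intro j
  induction j with
  | zero => intro a _; simp
  | succ j ih =>
    intro a ha
    have hgj : g ^ j * a * (g ^ j)⁻¹ ∈ Q := by
      clear ih
      induction j with
      | zero => simpa using ha
      | succ i ihi =>
        have := hg _ ihi
        have e : g ^ (i + 1) * a * (g ^ (i + 1))⁻¹ = g * (g ^ i * a * (g ^ i)⁻¹) * g⁻¹ := by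
          rw [pow_succ']; group
        rw [e]; exact this
    calc u ^ (j + 1) * a * (u ^ (j + 1))⁻¹ = u * (u ^ j * a * (u ^ j)⁻¹) * u⁻¹ := by
          rw [pow_succ']; group
      _ = u * (g ^ j * a * (g ^ j)⁻¹) * u⁻¹ := by rw [ih a ha]
      _ = g * (g ^ j * a * (g ^ j)⁻¹) * g⁻¹ := h _ hgj
      _ = g ^ (j + 1) * a * (g ^ (j + 1))⁻¹ := by rw [pow_succ']; group

/-- if the normalizer of `W(T)` controls strong fusion and has a normal `p`-complement, so does
the group -/
theorem pnilp_of_controlsStrongFusion (hW : IsCharPFunctor.{u} p W) {Y : Type u} [Group Y]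
    [Finite Y] (T' : Sylow p Y)
    (hc : ControlsStrongFusion p (inducedFunctor W (T' : Subgroup Y)))
    (hN : PNilp p (Subgroup.normalizer (inducedFunctor W (T' : Subgroup Y) : Set Y))) :
    PNilp p Y := by
  have hWs := isSecFunctor_induced hW
  set U := inducedFunctor W (T' : Subgroup Y) with hU
  obtain ⟨T₀, hUT₀, hctl⟩ := hc
  set N := Subgroup.normalizer (U : Set Y) with hNdef
  -- weak closure of `U` in `T₀`
  have hwc : ∀ g : Y, (∀ u ∈ U, g * u * g⁻¹ ∈ (T₀ : Subgroup Y)) → ∀ u ∈ U, g * u * g⁻¹ ∈ U := by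
    intro g hg u hu
    obtain ⟨-, h2⟩ := hctl (U : Set Y) hUT₀
    obtain ⟨x, hx, hxe⟩ := h2 g (by rintro _ ⟨a, ha, rfl⟩; exact hg a ha)
    rw [hxe u hu]
    exact (Subgroup.mem_normalizer_iff.mp hx u).mp hu
  -- `U = W(T₀)`
  obtain ⟨y, hy⟩ := MulAction.exists_smul_eq Y T' T₀
  have hT₀ : (T₀ : Subgroup Y) = (T' : Subgroup Y).map (MulAut.conj y).toMonoidHom := by
    rw [← hy, Sylow.coe_subgroup_smul]; rfl
  have hWT₀ : inducedFunctor W (T₀ : Subgroup Y) = U.map (MulAut.conj y).toMonoidHom := by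
    rw [hT₀]
    exact hWs.map Y Y (MulAut.conj y).toMonoidHom T' T'.isPGroup'
      (Set.injOn_of_injective (MulAut.conj y).injective)
  have hUeq : inducedFunctor W (T₀ : Subgroup Y) = U := by
    have hle : U.map (MulAut.conj y).toMonoidHom ≤ U := by
      rintro _ ⟨u, hu, rfl⟩
      apply hwc y _ u hu
      intro u' hu'
      have : y * u' * y⁻¹ ∈ inducedFunctor W (T₀ : Subgroup Y) := by
        rw [hWT₀]; exact ⟨u', hu', rfl⟩
      exact Cfsg.Agent.Lib.Helper4.inducedFunctor_le _ this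
    rw [hWT₀]
    apply Subgroup.eq_of_le_of_card_ge hle
    rw [Subgroup.card_map_of_injective (MulAut.conj y).injective]
  have hT₀N : (T₀ : Subgroup Y) ≤ N := by
    rw [hNdef, ← hUeq]
    exact le_trans Subgroup.le_normalizer (hWs.normalizer_le (T₀ : Subgroup Y) T₀.isPGroup')
  -- Frobenius' criterion
  apply pnilp_iff.mpr
  apply hasNormalPComplement_iff_plocalCentral.mpr
  apply plocalCentral_of_sylow T₀
  intro Q hQT g hgQ hgo
  have hQp : IsPGroup p Q := T₀.isPGroup'.to_le hQT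
  have hQN : Q ≤ N := hQT.trans hT₀N
  have hgconj : ∀ a ∈ Q, g * a * g⁻¹ ∈ Q := fun a ha =>
    (Subgroup.mem_normalizer_iff.mp hgQ a).mp ha
  obtain ⟨-, h2⟩ := hctl (Q : Set Y) hQT
  obtain ⟨x, hxN, hxe⟩ := h2 g (by rintro _ ⟨a, ha, rfl⟩; exact hQT (hgconj a ha))
  have hxQ : x ∈ Subgroup.normalizer (Q : Set Y) := by
    apply Subgroup.mem_normalizer_fintype
    intro a ha
    show x * a * x⁻¹ ∈ Q
    rw [← hxe a ha]; exact hgconj a ha
  obtain ⟨u, v, hxuv, hu, hv, ⟨k, huk⟩, hvo⟩ := exists_ppart_decomp' p x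
  have hzN : Subgroup.zpowers x ≤ N := Subgroup.zpowers_le.mpr hxN
  have hzQ : Subgroup.zpowers x ≤ Subgroup.normalizer (Q : Set Y) := Subgroup.zpowers_le.mpr hxQ
  -- `v` centralizes `Q`
  have hvc : ∀ a ∈ Q, v * a * v⁻¹ = a := by
    intro a ha
    have hvN : v ∈ N := hzN hv
    have h3 := hN.centralizes (Q.subgroupOf N)
      (hQp.comap_of_injective N.subtype N.subtype_injective) ⟨v, hvN⟩ (by
        rw [Subgroup.mem_normalizer_iff]
        intro b
        exact Subgroup.mem_normalizer_iff.mp (hzQ hv) b.1)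
      (by rw [Subgroup.orderOf_mk]; exact hvo)
    have h4 := (Subgroup.mem_centralizer_iff.mp h3) ⟨a, hQN ha⟩ ha
    have h5 : a * v = v * a := congrArg Subtype.val h4
    rw [← h5, mul_inv_cancel_right]
  have hue : ∀ a ∈ Q, u * a * u⁻¹ = g * a * g⁻¹ := by
    intro a ha
    rw [hxe a ha, hxuv]
    have : u * v * a * (u * v)⁻¹ = u * (v * a * v⁻¹) * u⁻¹ := by group
    rw [this, hvc a ha]
  have hpow := conj_pow_eq_of_agree Q u g hgconj hue (p ^ k)
  rw [huk] at hpow
  have hgpk : g ^ p ^ k ∈ Subgroup.centralizer (Q : Set Y) := by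
    rw [Subgroup.mem_centralizer_iff]
    intro a ha
    have := hpow a ha
    rw [one_mul, inv_one, mul_one] at this
    calc a * g ^ p ^ k = (g ^ p ^ k * a * (g ^ p ^ k)⁻¹) * g ^ p ^ k := by rw [← this]
      _ = g ^ p ^ k * a := by group
  obtain ⟨m, hm⟩ := exists_pow_eq_self_of_coprime (x := g) (n := p ^ k)
    (Nat.Coprime.pow_left k hgo.symm)
  rw [← hm]
  exact Subgroup.pow_mem _ hgpk m

end

end GT

end Cfsg.Agent.Lib.Lead
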