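import Mathlib
import Cfsg.Agent.Lib.Lead.GT1

set_option autoImplicit false

namespace Cfsg.Agent.Lib.Lead

namespace GT

section EngelRing

variable {R : Type*} [Ring R]

/-- the conjugates `g ^ i * t * g' ^ i` -/
def cj (g g' t : R) (i : ℕ) : R := g ^ i * t * g' ^ i

/-- the subring generated by the conjugates -/
def cjRing (g g' t : R) : Subring R := Subring.closure (Set.range (cj g g' t))

theorem sub_one_pow_eq_zero_of {g : R} {k : ℕ} (h : (1 - g) ^ k = 0) : (g - 1) ^ k = 0 := by
  have h3 : g - 1 = -(1 - g) := by abel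
  rw [h3, neg_pow, h, mul_zero]

theorem cj_mem (g g' t : R) (i : ℕ) : cj g g' t i ∈ cjRing g g' t :=
  Subring.subset_closure ⟨i, rfl⟩

theorem pow_mul_pow_eq_one {g g' : R} (h : g * g' = 1) (i : ℕ) : g ^ i * g' ^ i = 1 := by
  induction i with
  | zero => simp
  | succ i ih =>
    calc g ^ (i + 1) * g' ^ (i + 1) = g ^ i * (g * g') * g' ^ i := by
          rw [pow_succ, pow_succ']; noncomm_ring
      _ = 1 := by rw [h, mul_one, ih]

theorem cjRing_comm {g g' t : R} (h : ∀ i j, Commute (cj g g' t i) (cj g g' t j)) :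
    ∀ x ∈ cjRing g g' t, ∀ y ∈ cjRing g g' t, Commute x y := by
  have h1 : cjRing g g' t ≤ Subring.centralizer (Set.range (cj g g' t)) := by
    apply Subring.closure_le.mpr
    rintro x ⟨i, rfl⟩
    rw [SetLike.mem_coe, Subring.mem_centralizer_iff]
    rintro y ⟨j, rfl⟩
    exact h j i
  have h2 : cjRing g g' t ≤ Subring.centralizer (cjRing g g' t : Set R) := by
    apply Subring.closure_le.mpr
    rintro x ⟨i, rfl⟩
    rw [SetLike.mem_coe, Subring.mem_centralizer_iff]
    intro y hy
    have := Subring.mem_centralizer_iff.mp (h1 hy) _ ⟨i, rfl⟩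
    exact this.symm
  intro x hx y hy
  exact Subring.mem_centralizer_iff.mp (h2 hy) x hx

theorem cjRing_conj {g g' t : R} (hgg' : g * g' = 1) (hg'g : g' * g = 1) {x : R}
    (hx : x ∈ cjRing g g' t) :
    g * x * g' ∈ cjRing g g' t := by
  induction hx using Subring.closure_induction with
  | mem x hx =>
    obtain ⟨i, rfl⟩ := hx
    have : g * cj g g' t i * g' = cj g g' t (i + 1) := by
      unfold cj
      rw [pow_succ', pow_succ]; noncomm_ring
    rw [this]; exact cj_mem g g' t (i + 1)
  | zero =>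
    have : g * 0 * g' = 0 := by simp
    rw [this]; exact Subring.zero_mem _
  | one =>
    have : g * 1 * g' = 1 := by rw [mul_one, hgg']
    rw [this]; exact Subring.one_mem _
  | add x y _ _ hx hy =>
    have : g * (x + y) * g' = g * x * g' + g * y * g' := by noncomm_ring
    rw [this]; exact Subring.add_mem _ hx hy
  | neg x _ hx =>
    have : g * (-x) * g' = -(g * x * g') := by noncomm_ring
    rw [this]; exact Subring.neg_mem _ hx
  | mul x y _ _ hx hy =>
    have : g * (x * y) * g' = (g * x * g') * (g * y * g') := by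
      calc g * (x * y) * g' = g * x * 1 * y * g' := by noncomm_ring
        _ = g * x * (g' * g) * y * g' := by rw [hg'g]
        _ = (g * x * g') * (g * y * g') := by noncomm_ring
    rw [this]; exact Subring.mul_mem _ hx hy

theorem cjRing_conj_pow {g g' t : R} (hgg' : g * g' = 1) (hg'g : g' * g = 1) {x : R}
    (hx : x ∈ cjRing g g' t) (i : ℕ) : g ^ i * x * g' ^ i ∈ cjRing g g' t := by
  induction i with
  | zero => simpa using hx
  | succ i ih =>
    have : g ^ (i + 1) * x * g' ^ (i + 1) = g * (g ^ i * x * g' ^ i) * g' := by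
      rw [pow_succ', pow_succ]; noncomm_ring
    rw [this]; exact cjRing_conj hgg' hg'g ih

variable {p : ℕ} [hpf : Fact p.Prime] [CharP R p]

theorem cjRing_frob {g g' t : R} (hgg' : g * g' = 1) (hg'g : g' * g = 1)
    (h : ∀ i j, Commute (cj g g' t i) (cj g g' t j)) {m : ℕ} (hm : m.Coprime p)
    (ht : t ^ m = 1) :
    ∃ k : ℕ, 2 ≤ p ^ k ∧ ∀ x ∈ cjRing g g' t, x ^ p ^ k = x := by
  obtain ⟨k, hk2, hk⟩ := exists_frob (R := R) (p := p) hm
  refine ⟨k, hk2, ?_⟩
  have hc := cjRing_comm h
  intro x hx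
  induction hx using Subring.closure_induction with
  | mem x hx =>
    obtain ⟨i, rfl⟩ := hx
    apply hk
    let u : Rˣ := ⟨g ^ i, g' ^ i, pow_mul_pow_eq_one hgg' i, pow_mul_pow_eq_one hg'g i⟩
    have := Units.conj_pow u t m
    have e : cj g g' t i = (u : R) * t * ((u⁻¹ : Rˣ) : R) := rfl
    rw [e, this, ht, mul_one]
    exact u.mul_inv
  | zero => exact zero_pow (by have := hpf.out.pos; positivity)
  | one => exact one_pow _
  | add x y hx hy hx' hy' =>
    rw [add_pow_char_pow_of_commute _ _ (hc x hx y hy), hx', hy']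
  | neg x hx hx' =>
    have : -x = 0 - x := by rw [zero_sub]
    rw [this, sub_pow_char_pow_of_commute _ _ (Commute.zero_left x), hx',
      zero_pow (by have := hpf.out.pos; positivity)]
  | mul x y hx hy hx' hy' =>
    rw [(hc x hx y hy).mul_pow, hx', hy']

theorem pow_p_eq_one_of_engel {g : R} (h : (g - 1) ^ (p - 1) = 0) : g ^ p = 1 := by
  have hp := hpf.out
  have h1 : g = 1 + (g - 1) := by abel
  have h2 : (g - 1) ^ p = 0 := by
    have : p = (p - 1) + 1 := by have := hp.pos; omega
    rw [this, pow_succ, h, zero_mul]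
  rw [h1, add_pow_char_of_commute _ (Commute.one_left _), one_pow, h2, add_zero]

omit hpf [CharP R p] in
theorem cj_add_mul_p {g g' t : R} (hg : g ^ p = 1) (hg' : g' ^ p = 1) (i r : ℕ) :
    cj g g' t (i + p * r) = cj g g' t i := by
  unfold cj
  rw [pow_add, pow_add, pow_mul, pow_mul, hg, hg', one_pow, mul_one, mul_one]

theorem exists_x {g g' t : R}
    (hg : g ^ p = 1) (hg' : g' ^ p = 1) (j : ℕ) (hj1 : 1 ≤ j) (hjp : j < p) :
    ∃ x ∈ cjRing g g' t, g ^ j * x * g' ^ j - x = g * t * g' - t := by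
  have hp := hpf.out
  have hcop : Nat.Coprime j p := by
    apply Nat.Coprime.symm
    rw [Nat.Prime.coprime_iff_not_dvd hp]
    intro hd
    have := Nat.le_of_dvd (by omega) hd
    omega
  obtain ⟨l, -, hl⟩ := Nat.exists_mul_mod_eq_one_of_coprime hcop hp.one_lt
  have hjl : j * l = 1 + p * (j * l / p) := by
    have := Nat.div_add_mod (j * l) p
    omega
  refine ⟨∑ s ∈ Finset.range l, cj g g' t (j * s), ?_, ?_⟩
  · apply Subring.sum_mem
    intro s _
    exact cj_mem g g' t _
  · have e1 : g ^ j * (∑ s ∈ Finset.range l, cj g g' t (j * s)) * g' ^ j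
        = ∑ s ∈ Finset.range l, cj g g' t (j * (s + 1)) := by
      rw [Finset.mul_sum, Finset.sum_mul]
      apply Finset.sum_congr rfl
      intro s _
      unfold cj
      rw [mul_add, mul_one, pow_add, pow_add]
      have hc : Commute (g' ^ (j * s)) (g' ^ j) := Commute.pow_pow (Commute.refl g') _ _
      calc g ^ j * (g ^ (j * s) * t * g' ^ (j * s)) * g' ^ j
          = g ^ j * g ^ (j * s) * t * (g' ^ (j * s) * g' ^ j) := by noncomm_ring
        _ = g ^ j * g ^ (j * s) * t * (g' ^ j * g' ^ (j * s)) := by rw [hc.eq]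
        _ = g ^ (j * s) * g ^ j * t * (g' ^ (j * s) * g' ^ j) := by
            rw [hc.eq, (Commute.pow_pow (Commute.refl g) (j * s) j).eq]
    rw [e1, ← Finset.sum_sub_distrib, Finset.sum_range_sub (fun s => cj g g' t (j * s)) l, hjl,
      cj_add_mul_p hg hg', mul_zero]
    unfold cj
    simp

theorem pow_mul_eq_conj_mul_pow {g g' : R} (hg'g : g' * g = 1) (x : R) (i : ℕ) :
    g ^ i * x * g' ^ i * g ^ i = g ^ i * x := by
  rw [mul_assoc, pow_mul_pow_eq_one hg'g, mul_one]

/-- the Dedekind-type elimination -/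
theorem engel_elim {g g' t : R} (hgg' : g * g' = 1) (hg'g : g' * g = 1)
    (h : ∀ i j, Commute (cj g g' t i) (cj g g' t j))
    (hg : g ^ p = 1) (hg' : g' ^ p = 1) :
    ∀ (k : ℕ), k + 1 ≤ p → ∀ a : ℕ → R, (∀ i, a i ∈ cjRing g g' t) →
      ∑ i ∈ Finset.range (k + 1), a i * g ^ i = 0 → a 0 * (g * t * g' - t) ^ k = 0 := by
  have hc := cjRing_comm h
  intro k
  induction k with
  | zero =>
    intro _ a _ hrel
    rw [Finset.sum_range_one, pow_zero] at hrel
    rw [pow_zero]; exact hrel
  | succ k ih =>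
    intro hkp a ha hrel
    obtain ⟨x, hxA, hx⟩ := exists_x (t := t) hg hg' (k + 1) (by omega) (by omega)
    have hγ : ∀ i, g ^ i * x * g' ^ i ∈ cjRing g g' t := fun i =>
      cjRing_conj_pow hgg' hg'g hxA i
    have ha' : ∀ i, a i * (g ^ (k + 1) * x * g' ^ (k + 1) - g ^ i * x * g' ^ i) ∈ cjRing g g' t :=
      fun i => Subring.mul_mem _ (ha i) (Subring.sub_mem _ (hγ (k + 1)) (hγ i))
    have hsum : ∑ i ∈ Finset.range (k + 1 + 1),
        a i * (g ^ (k + 1) * x * g' ^ (k + 1) - g ^ i * x * g' ^ i) * g ^ i = 0 := by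
      have e : ∀ i ∈ Finset.range (k + 1 + 1),
          a i * (g ^ (k + 1) * x * g' ^ (k + 1) - g ^ i * x * g' ^ i) * g ^ i
          = (g ^ (k + 1) * x * g' ^ (k + 1)) * (a i * g ^ i) - (a i * g ^ i) * x := by
        intro i _
        have h1 : a i * (g ^ (k + 1) * x * g' ^ (k + 1)) = (g ^ (k + 1) * x * g' ^ (k + 1)) * a i :=
          (hc _ (ha i) _ (hγ (k + 1))).eq
        have h2 := pow_mul_eq_conj_mul_pow hg'g x i
        calc a i * (g ^ (k + 1) * x * g' ^ (k + 1) - g ^ i * x * g' ^ i) * g ^ i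
            = a i * (g ^ (k + 1) * x * g' ^ (k + 1)) * g ^ i
              - a i * (g ^ i * x * g' ^ i * g ^ i) := by noncomm_ring
          _ = (g ^ (k + 1) * x * g' ^ (k + 1)) * a i * g ^ i - a i * (g ^ i * x) := by
              rw [h1, h2]
          _ = _ := by noncomm_ring
      rw [Finset.sum_congr rfl e, Finset.sum_sub_distrib, ← Finset.mul_sum, ← Finset.sum_mul,
        hrel, mul_zero, zero_mul, sub_zero]
    rw [Finset.sum_range_succ, sub_self, mul_zero, zero_mul, add_zero] at hsum
    have h0 := ih (by omega) _ ha' hsum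
    rw [pow_zero, one_mul, pow_zero, mul_one, hx] at h0
    rw [pow_succ', ← mul_assoc]
    exact h0

/-- an element `g` with `(g - 1) ^ (p - 1) = 0` commutes with any `p'`-element whose conjugates
under powers of `g` pairwise commute -/
theorem commute_of_engel {g g' t : R} (hgg' : g * g' = 1) (hg'g : g' * g = 1)
    (heng : (g - 1) ^ (p - 1) = 0) {m : ℕ} (hm : m.Coprime p) (ht : t ^ m = 1)
    (h : ∀ i j, Commute (cj g g' t i) (cj g g' t j)) : g * t = t * g := by
  have hp := hpf.out
  have hg : g ^ p = 1 := pow_p_eq_one_of_engel heng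
  have hg' : g' ^ p = 1 := by
    have h1 := pow_mul_pow_eq_one hg'g p
    rw [hg, mul_one] at h1
    exact h1
  obtain ⟨k, hk2, hk⟩ := cjRing_frob hgg' hg'g h hm ht
  -- the binomial expansion
  have hbin : ∑ i ∈ Finset.range (p - 1 + 1),
      ((-1 : R) ^ (p - 1 - i) * ((p - 1).choose i : R)) * g ^ i = 0 := by
    have h1 : g - 1 = g + (-1) := sub_eq_add_neg g 1
    have h2 := Commute.add_pow (Commute.neg_one_right g) (p - 1)
    rw [← h1, heng] at h2
    rw [h2]
    apply Finset.sum_congr rfl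
    intro i _
    have c1 : Commute (g ^ i) ((-1 : R) ^ (p - 1 - i)) := (Commute.neg_one_right _).pow_right _
    have c2 : Commute (g ^ i) (((p - 1).choose i : ℕ) : R) := Nat.commute_cast _ _
    rw [← (c1.mul_right c2).eq, mul_assoc]
  have hmem : ∀ i, ((-1 : R) ^ (p - 1 - i) * ((p - 1).choose i : R)) ∈ cjRing g g' t := fun i =>
    Subring.mul_mem _ (Subring.pow_mem _ (Subring.neg_mem _ (Subring.one_mem _)) _)
      (natCast_mem _ _)
  have h0 := engel_elim hgg' hg'g h hg hg' (p - 1) (by have := hp.pos; omega) _ hmem hbin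
  rw [Nat.sub_zero, Nat.choose_zero_right, Nat.cast_one, mul_one] at h0
  have hy : (g * t * g' - t) ^ (p - 1) = 0 := by
    have h3 : ((-1 : R) ^ (p - 1)) * ((-1 : R) ^ (p - 1)) = 1 := by
      rw [← pow_add, ← two_mul, pow_mul]; simp
    calc (g * t * g' - t) ^ (p - 1)
        = ((-1 : R) ^ (p - 1) * (-1 : R) ^ (p - 1)) * (g * t * g' - t) ^ (p - 1) := by
          rw [h3, one_mul]
      _ = 0 := by rw [mul_assoc, h0, mul_zero]
  have hyA : g * t * g' - t ∈ cjRing g g' t := by
    have e1 : g * t * g' = cj g g' t 1 := by unfold cj; simp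
    have e0 : t = cj g g' t 0 := by unfold cj; simp
    have m1 : g * t * g' ∈ cjRing g g' t := by rw [e1]; exact cj_mem _ _ _ _
    have m0 : t ∈ cjRing g g' t := by
      have := cj_mem g g' t 0
      rwa [← e0] at this
    exact Subring.sub_mem _ m1 m0
  have hyq := hk _ hyA
  have hy0 : g * t * g' - t = 0 := by
    rw [← hyq]
    have hle : p - 1 ≤ p ^ k := by
      have : p ^ 1 ≤ p ^ k := by
        apply Nat.pow_le_pow_right hp.pos
        rcases Nat.eq_zero_or_pos k with hk0 | hk0
        · rw [hk0, pow_zero] at hk2; omega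
        · exact hk0
      rw [pow_one] at this
      omega
    obtain ⟨j, hj⟩ := Nat.exists_eq_add_of_le hle
    rw [hj, pow_add, hy, zero_mul]
  have h4 : g * t * g' = t := sub_eq_zero.mp hy0
  calc g * t = g * t * (g' * g) := by rw [hg'g, mul_one]
    _ = (g * t * g') * g := by noncomm_ring
    _ = t * g := by rw [h4]

end EngelRing

end GT

end Cfsg.Agent.Lib.Lead
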