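import Mathlib
import Cfsg.Agent.Lib.Lead.GT16
import Cfsg.Agent.Lib.Lead.GT3

set_option autoImplicit false

namespace Cfsg.Agent.Lib.Lead

namespace GT

open scoped commutatorElement

section EngelIrr

variable {V : Type*} [CommGroup V] [Finite V] {p : ℕ} [hpf : Fact p.Prime]

/-- an element of `Γ = KT` centralizing the normal abelian `p'`-subgroup `K` and of `p`-power order
is trivial, if `Γ` is irreducible -/
theorem trivial_of_centralizes (hVp : ∀ v : V, v ^ p = 1) [Nontrivial V]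
    (Γ K T : Subgroup (MulAut V)) (hT : T ≤ Γ)
    (hfac : ∀ γ ∈ Γ, ∃ k ∈ K, ∃ t ∈ T, γ = k * t)
    (hKn : ∀ γ ∈ Γ, ∀ k ∈ K, γ * k * γ⁻¹ ∈ K)
    (hKab : ∀ a ∈ K, ∀ b ∈ K, a * b = b * a)
    (hKm : ∀ k ∈ K, ∃ m : ℕ, m.Coprime p ∧ k ^ m = 1)
    (hTp : IsPGroup p T) (hirr : Irr Γ)
    (γ : MulAut V) (hγ : γ ∈ Γ) (hcomm : ∀ y ∈ K, γ * y = y * γ) (hγp : γ ^ p = 1) : γ = 1 := by
  have hp := hpf.out
  have hV : IsPGroup p V := fun v => ⟨1, by rw [pow_one]; exact hVp v⟩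
  obtain ⟨k, hk, t, ht, hkt⟩ := hfac γ hγ
  have hkΓ : k ∈ Γ := by
    have : k = γ * t⁻¹ := by rw [hkt, mul_inv_cancel_right]
    rw [this]; exact Γ.mul_mem hγ (Γ.inv_mem (hT ht))
  have htcomm : ∀ y ∈ K, t * y = y * t := by
    intro y hy
    have ht' : t = k⁻¹ * γ := by rw [hkt, inv_mul_cancel_left]
    rw [ht', mul_assoc, hcomm y hy, ← mul_assoc, ← mul_assoc]
    congr 1
    have := hKab k hk y hy
    calc k⁻¹ * y = k⁻¹ * (y * k) * k⁻¹ := by group
      _ = k⁻¹ * (k * y) * k⁻¹ := by rw [this]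
      _ = y * k⁻¹ := by group
  set Q : Subgroup (MulAut V) := T ⊓ Subgroup.centralizer (K : Set (MulAut V)) with hQdef
  have htQ : t ∈ Q := by
    refine Subgroup.mem_inf.mpr ⟨ht, ?_⟩
    rw [Subgroup.mem_centralizer_iff]
    intro y hy
    exact (htcomm y hy).symm
  have hQnorm : ∀ δ ∈ Γ, ∀ π ∈ Q, δ * π * δ⁻¹ ∈ Q := by
    intro δ hδ π hπ
    obtain ⟨k', hk', t', ht', hδ'⟩ := hfac δ hδ
    have hπc : ∀ y ∈ K, y * π = π * y := fun y hy =>
      (Subgroup.mem_centralizer_iff.mp hπ.2) y hy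
    have h1 : t' * π * t'⁻¹ ∈ Q := by
      refine Subgroup.mem_inf.mpr ⟨T.mul_mem (T.mul_mem ht' hπ.1) (T.inv_mem ht'), ?_⟩
      rw [Subgroup.mem_centralizer_iff]
      intro y hy
      have hy' : t'⁻¹ * y * t' ∈ K := by
        have := hKn t'⁻¹ (Γ.inv_mem (hT ht')) y hy
        rwa [inv_inv] at this
      have h2 := hπc _ hy'
      calc y * (t' * π * t'⁻¹) = t' * ((t'⁻¹ * y * t') * π) * t'⁻¹ := by group
        _ = t' * (π * (t'⁻¹ * y * t')) * t'⁻¹ := by rw [h2]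
        _ = t' * π * t'⁻¹ * y := by group
    have h3 : δ * π * δ⁻¹ = t' * π * t'⁻¹ := by
      have h4 := (Subgroup.mem_centralizer_iff.mp h1.2) k' hk'
      rw [hδ']
      calc k' * t' * π * (k' * t')⁻¹ = (k' * (t' * π * t'⁻¹)) * k'⁻¹ := by group
        _ = ((t' * π * t'⁻¹) * k') * k'⁻¹ := by rw [h4]
        _ = t' * π * t'⁻¹ := by group
    rw [h3]; exact h1
  have hQbot : Q = ⊥ :=
    eq_bot_of_normal_pgroup hV Γ Q hirr (hTp.to_le inf_le_left) hQnorm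
  have ht1 : t = 1 := by
    rw [hQbot, Subgroup.mem_bot] at htQ
    exact htQ
  rw [ht1, mul_one] at hkt
  obtain ⟨m, hm, hkm⟩ := hKm k hk
  have hγm : γ ^ m = 1 := by rw [hkt]; exact hkm
  have := (pow_gcd_eq_one (a := γ) (m := m) (n := p)).mpr ⟨hγm, hγp⟩
  rw [Nat.Coprime.gcd_eq_one hm, pow_one] at this
  exact this

theorem engel_trivial (hVp : ∀ v : V, v ^ p = 1) [Nontrivial V]
    (Γ K T : Subgroup (MulAut V)) (hT : T ≤ Γ)
    (hfac : ∀ γ ∈ Γ, ∃ k ∈ K, ∃ t ∈ T, γ = k * t)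
    (hKn : ∀ γ ∈ Γ, ∀ k ∈ K, γ * k * γ⁻¹ ∈ K)
    (hKab : ∀ a ∈ K, ∀ b ∈ K, a * b = b * a)
    (hKm : ∀ k ∈ K, ∃ m : ℕ, m.Coprime p ∧ k ^ m = 1)
    (hTp : IsPGroup p T) (hirr : Irr Γ)
    (γ : MulAut V) (hγ : γ ∈ Γ) (heng : (toEnd γ - 1) ^ (p - 1) = 0) : γ = 1 := by
  have hp := hpf.out
  haveI : CharP (AddMonoid.End (Additive V)) p := charP_end hVp
  have hgg' : toEnd γ * toEnd γ⁻¹ = 1 := by rw [← toEnd_mul, mul_inv_cancel, toEnd_one]
  have hg'g : toEnd γ⁻¹ * toEnd γ = 1 := by rw [← toEnd_mul, inv_mul_cancel, toEnd_one]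
  have hcj : ∀ (y : MulAut V) (i : ℕ),
      cj (toEnd γ) (toEnd γ⁻¹) (toEnd y) i = toEnd (γ ^ i * y * (γ ^ i)⁻¹) := by
    intro y i
    unfold cj
    rw [toEnd_mul, toEnd_mul, toEnd_pow, ← inv_pow, toEnd_pow]
  have hcjK : ∀ y ∈ K, ∀ i : ℕ, γ ^ i * y * (γ ^ i)⁻¹ ∈ K := fun y hy i =>
    hKn _ (Γ.pow_mem hγ i) y hy
  have hcomm : ∀ y ∈ K, γ * y = y * γ := by
    intro y hy
    obtain ⟨m, hm, hym⟩ := hKm y hy
    have key := commute_of_engel (p := p) hgg' hg'g heng hm (t := toEnd y)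
      (by rw [← toEnd_pow, hym, toEnd_one])
      (by
        intro i j
        rw [hcj, hcj]
        show toEnd _ * toEnd _ = toEnd _ * toEnd _
        rw [← toEnd_mul, ← toEnd_mul, hKab _ (hcjK y hy i) _ (hcjK y hy j)])
    apply toEnd_injective
    rw [toEnd_mul, toEnd_mul, key]
  have hγp : γ ^ p = 1 := by
    apply toEnd_injective
    rw [toEnd_pow, toEnd_one]
    exact pow_p_eq_one_of_engel heng
  exact trivial_of_centralizes hVp Γ K T hT hfac hKn hKab hKm hTp hirr γ hγ hcomm hγp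

end EngelIrr

section EngelEnd

variable {V : Type*} [CommGroup V]

theorem toEnd_sub_one_pow_eq_zero (γ : MulAut V) (k : ℕ) (e : ℕ → V → V)
    (he0 : ∀ v, e 0 v = v) (hes : ∀ i v, e (i + 1) v * γ (e i v) = e i v)
    (hk : ∀ v, e k v = 1) : (toEnd γ - 1) ^ k = 0 := by
  have hpow : ∀ (i : ℕ) (v : V), ((1 - toEnd γ) ^ i) (Additive.ofMul v)
      = Additive.ofMul (e i v) := by
    intro i
    induction i with
    | zero => intro v; rw [he0]; rfl
    | succ i ih =>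
      intro v
      rw [pow_succ']
      show (1 - toEnd γ) (((1 - toEnd γ) ^ i) (Additive.ofMul v)) = _
      rw [ih]
      show Additive.ofMul (e i v) - toEnd γ (Additive.ofMul (e i v)) = _
      rw [toEnd_apply, sub_eq_iff_eq_add]
      show Additive.ofMul (e i v) = Additive.ofMul (e (i + 1) v * γ (e i v))
      rw [hes]
  have h1 : (1 - toEnd γ) ^ k = 0 := by
    ext x
    have := hpow k (Additive.toMul x)
    have e' : Additive.ofMul (Additive.toMul x) = x := rfl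
    rw [e', hk] at this
    rw [this]; rfl
  exact sub_one_pow_eq_zero_of h1

end EngelEnd

/-- the iterated commutator `[v, g, …, g]` -/
def engelElt {N : Type*} [Group N] (v g : N) : ℕ → N
  | 0 => v
  | i + 1 => ⁅engelElt v g i, g⁆

section IrrCaseEngel

variable {N : Type*} [Group N] [Finite N] {p : ℕ} [hpf : Fact p.Prime]

theorem engelElt_mem_normal (V : Subgroup N) [hVn : V.Normal] (g : N) {v : N} (hv : v ∈ V)
    (i : ℕ) : engelElt v g i ∈ V := by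
  induction i with
  | zero => exact hv
  | succ i ih =>
    show ⁅engelElt v g i, g⁆ ∈ V
    rw [commutatorElement_def]
    have h1 : g * (engelElt v g i)⁻¹ * g⁻¹ ∈ V := hVn.conj_mem _ (V.inv_mem ih) g
    have : engelElt v g i * g * (engelElt v g i)⁻¹ * g⁻¹
        = engelElt v g i * (g * (engelElt v g i)⁻¹ * g⁻¹) := by group
    rw [this]; exact V.mul_mem ih h1

/-- the irreducible case for an Engel condition -/
theorem irr_case_engel (H K V : Subgroup N) [hHn : H.Normal] [hKn : K.Normal]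
    [hVn : V.Normal]
    (hH : IsPGroup p H) (hKK : ⁅K, K⁆ ≤ H) (hKH : ∀ y ∈ K, ∃ m : ℕ, m.Coprime p ∧ y ^ m ∈ H)
    (hNK : IsPGroup p (N ⧸ K)) (hVp : IsPGroup p V)
    (hV1 : V ≠ ⊥) (hVmin : ∀ U : Subgroup N, U.Normal → U ≤ V → U = ⊥ ∨ U = V)
    (g : N) (hg : ∀ v ∈ V, engelElt v g (p - 1) = 1) : g ∈ Subgroup.centralizer (V : Set N) := by
  obtain ⟨hVab, hVexp⟩ := minNormal_elemAbelian V hVp hV1 hVmin
  letI : CommGroup V :=
    { (inferInstance : Group V) with mul_comm := fun a b => Subtype.ext (hVab a a.2 b b.2) }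
  haveI : Nontrivial V := (Subgroup.nontrivial_iff_ne_bot V).mpr hV1
  let ρ : N →* MulAut V := MulAut.conjNormal
  have hρ : ∀ (x : N) (v : V), ((ρ x v : V) : N) = x * v * x⁻¹ := fun x v =>
    MulAut.conjNormal_apply x v
  obtain ⟨T⟩ : Nonempty (Sylow p N) := inferInstance
  set Γ : Subgroup (MulAut V) := ρ.range with hΓ
  set K' : Subgroup (MulAut V) := K.map ρ with hK'
  set T' : Subgroup (MulAut V) := (T : Subgroup N).map ρ with hT'
  have hirr : Irr Γ := by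
    intro U hU
    have hUn : (U.map V.subtype).Normal := by
      refine ⟨fun x hx y => ?_⟩
      obtain ⟨u, hu, rfl⟩ := hx
      refine ⟨ρ y u, hU (ρ y) ⟨y, rfl⟩ u hu, ?_⟩
      exact hρ y u
    have hUV : U.map V.subtype ≤ V := by
      rintro x ⟨u, -, rfl⟩
      exact u.2
    rcases hVmin _ hUn hUV with h | h
    · left
      exact (Subgroup.map_eq_bot_iff_of_injective U V.subtype_injective).mp h
    · right
      rw [eq_top_iff]
      intro v _
      have : (v : N) ∈ U.map V.subtype := by rw [h]; exact v.2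
      obtain ⟨u, hu, huv⟩ := this
      have : u = v := Subtype.ext huv
      rw [← this]; exact hu
  have hVp' : IsPGroup p V := hVp
  -- `H` acts trivially
  have hρH : ∀ h ∈ H, ρ h = 1 := by
    have hbot : H.map ρ = ⊥ := by
      apply eq_bot_of_normal_pgroup hVp' Γ (H.map ρ) hirr (hH.map ρ)
      rintro γ ⟨x, rfl⟩ π ⟨h, hh, rfl⟩
      refine ⟨x * h * x⁻¹, hHn.conj_mem h hh x, ?_⟩
      rw [map_mul, map_mul, map_inv]
    intro h hh
    have : ρ h ∈ H.map ρ := ⟨h, hh, rfl⟩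
    rw [hbot, Subgroup.mem_bot] at this
    exact this
  have hfac : ∀ γ ∈ Γ, ∃ k ∈ K', ∃ t ∈ T', γ = k * t := by
    rintro γ ⟨x, rfl⟩
    have hsup := Cfsg.Agent.Lib.Helper3.sup_sylow_eq_top_of_isPGroup_quotient K hNK T
    have hx : x ∈ ((K ⊔ (T : Subgroup N) : Subgroup N) : Set N) := by
      rw [hsup]; exact Set.mem_univ x
    rw [Subgroup.normal_mul] at hx
    obtain ⟨k, hk, t, ht, rfl⟩ := Set.mem_mul.mp hx
    exact ⟨ρ k, ⟨k, hk, rfl⟩, ρ t, ⟨t, ht, rfl⟩, map_mul ρ k t⟩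
  have hKn' : ∀ γ ∈ Γ, ∀ k ∈ K', γ * k * γ⁻¹ ∈ K' := by
    rintro γ ⟨x, rfl⟩ k ⟨y, hy, rfl⟩
    refine ⟨x * y * x⁻¹, hKn.conj_mem y hy x, ?_⟩
    rw [map_mul, map_mul, map_inv]
  have hKab : ∀ a ∈ K', ∀ b ∈ K', a * b = b * a := by
    rintro a ⟨y₁, hy₁, rfl⟩ b ⟨y₂, hy₂, rfl⟩
    have h1 : ⁅y₁, y₂⁆ ∈ H := hKK (Subgroup.commutator_mem_commutator hy₁ hy₂)
    have h2 := hρH _ h1
    have e : y₁ * y₂ = ⁅y₁, y₂⁆ * (y₂ * y₁) := by
      rw [commutatorElement_def]; group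
    rw [← map_mul, ← map_mul, e, map_mul, h2, one_mul]
  have hKm : ∀ k ∈ K', ∃ m : ℕ, m.Coprime p ∧ k ^ m = 1 := by
    rintro k ⟨y, hy, rfl⟩
    obtain ⟨m, hm, hym⟩ := hKH y hy
    exact ⟨m, hm, by rw [← map_pow, hρH _ hym]⟩
  have hTp : IsPGroup p T' := T.isPGroup'.map ρ
  -- the Engel condition in the endomorphism ring
  have heng : (toEnd (ρ g) - 1) ^ (p - 1) = 0 := by
    apply toEnd_sub_one_pow_eq_zero (ρ g) (p - 1)
      (fun i v => (⟨engelElt (v : N) g i, engelElt_mem_normal V g v.2 i⟩ : V))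
    · intro v; rfl
    · intro i v
      apply Subtype.ext
      rw [Subgroup.coe_mul, hρ]
      show ⁅engelElt (v : N) g i, g⁆ * _ = _
      rw [commutatorElement_def]
      group
    · intro v
      exact Subtype.ext (hg _ v.2)
  have hone := engel_trivial (p := p) (fun v => Subtype.ext (by
      rw [Subgroup.coe_pow]; exact hVexp v v.2)) Γ K' T'
    (by rintro t ⟨x, -, rfl⟩; exact ⟨x, rfl⟩) hfac hKn' hKab hKm hTp hirr (ρ g) ⟨g, rfl⟩ heng
  rw [Subgroup.mem_centralizer_iff]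
  intro v hv
  have h1 := hρ g ⟨v, hv⟩
  rw [hone] at h1
  have h2 : v = g * v * g⁻¹ := h1
  calc v * g = (g * v * g⁻¹) * g := by rw [← h2]
    _ = g * v := by group

end IrrCaseEngel

end GT

end Cfsg.Agent.Lib.Lead
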