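import Mathlib
import Cfsg.Agent.Lib.Lead.GT17
import Cfsg.Agent.Lib.Lead.GT14

set_option autoImplicit false

namespace Cfsg.Agent.Lib.Lead

namespace GT

open scoped Pointwise commutatorElement
open Cfsg

universe u

section EngelChief

variable {p : ℕ} [hpf : Fact p.Prime]

theorem engelElt_map {N M : Type*} [Group N] [Group M] (f : N →* M) (v g : N) (i : ℕ) :
    engelElt (f v) (f g) i = f (engelElt v g i) := by
  induction i with
  | zero => rfl
  | succ i ih =>
    show ⁅engelElt (f v) (f g) i, f g⁆ = f ⁅engelElt v g i, g⁆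
    rw [ih, map_commutatorElement]

theorem engelElt_mem_iter {N : Type*} [Group N] (U : Subgroup N) (g : N) {u : N} (hu : u ∈ U)
    (i : ℕ) : engelElt u g i ∈ Cfsg.iterCommutator U (Subgroup.zpowers g) i := by
  induction i with
  | zero => exact hu
  | succ i ih =>
    exact Subgroup.commutator_mem_commutator ih (Subgroup.mem_zpowers g)

/-- an Engel condition of length `p - 1` on a chief factor inside a `p`-group forces trivial
action, for groups of the shape occurring in Thompson's reduction -/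
theorem engel_chief {Y : Type u} [Group Y] [Finite Y] (H K : Subgroup Y) (hs : Shape p H K)
    (U V : Subgroup Y) (hch : Cfsg.IsChiefFactor U V) (hUp : IsPGroup p U) (g : Y)
    (h1 : Cfsg.iterCommutator U (Subgroup.zpowers g) (p - 1) ≤ V) :
    ⁅U, Subgroup.zpowers g⁆ ≤ V := by
  obtain ⟨hlt, hUn, hVn, hmin⟩ := hch
  haveI := hUn
  haveI := hVn
  haveI := hs.nH
  haveI := hs.nK
  set f := QuotientGroup.mk' V with hf
  have hfs : Function.Surjective f := QuotientGroup.mk'_surjective V
  have hs' := hs.map f hfs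
  haveI := hs'.nH
  haveI := hs'.nK
  haveI hUn' : (U.map f).Normal := Subgroup.Normal.map hUn f hfs
  have hker : f.ker = V := QuotientGroup.ker_mk' V
  have hU1 : U.map f ≠ ⊥ := by
    intro h
    obtain ⟨u, huU, huV⟩ := SetLike.exists_of_lt hlt
    have : f u ∈ U.map f := ⟨u, huU, rfl⟩
    rw [h, Subgroup.mem_bot] at this
    apply huV
    rw [← hker]
    exact this
  have hVmin : ∀ M : Subgroup (Y ⧸ V), M.Normal → M ≤ U.map f → M = ⊥ ∨ M = U.map f := by
    intro M hMn hMU
    have hc1 : V ≤ M.comap f := by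
      intro x hx
      rw [Subgroup.mem_comap]
      have : f x = 1 := by rw [← MonoidHom.mem_ker, hker]; exact hx
      rw [this]; exact M.one_mem
    have hc2 : M.comap f ≤ U := by
      intro x hx
      rw [Subgroup.mem_comap] at hx
      obtain ⟨u, hu, hux⟩ := hMU hx
      have : u⁻¹ * x ∈ V := by
        rw [← hker, MonoidHom.mem_ker, map_mul, map_inv, hux, inv_mul_cancel]
      have hx' : x = u * (u⁻¹ * x) := by group
      rw [hx']
      exact U.mul_mem hu (hlt.le this)
    have hM : M = (M.comap f).map f := (Subgroup.map_comap_eq_self_of_surjective hfs M).symm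
    rcases hmin _ (Subgroup.Normal.comap hMn f) hc1 hc2 with h | h
    · left
      rw [hM, h]
      exact (Subgroup.map_eq_bot_iff _).mpr hker.ge
    · right
      rw [hM, h]
  have heng : ∀ v ∈ U.map f, engelElt v (f g) (p - 1) = 1 := by
    rintro v ⟨u, hu, rfl⟩
    rw [engelElt_map]
    have := h1 (engelElt_mem_iter U g hu (p - 1))
    rw [← MonoidHom.mem_ker, hker]
    exact this
  have hcent := irr_case_engel (p := p) (H.map f) (K.map f) (U.map f) hs'.pH hs'.comm hs'.cop
    hs'.isPGroup_quot (hUp.map f) hU1 hVmin (f g) heng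
  rw [Subgroup.commutator_le]
  intro u hu z hz
  have hz' : f z ∈ Subgroup.centralizer ((U.map f : Subgroup (Y ⧸ V)) : Set (Y ⧸ V)) := by
    obtain ⟨k, rfl⟩ := Subgroup.mem_zpowers_iff.mp hz
    rw [map_zpow]
    exact Subgroup.zpow_mem _ hcent k
  have h2 := (Subgroup.mem_centralizer_iff.mp hz') (f u) ⟨u, hu, rfl⟩
  rw [← hker, MonoidHom.mem_ker, map_commutatorElement, commutatorElement_eq_one_iff_mul_comm]
  exact h2

end EngelChief

section Main

variable {G : Type u} [Group G] [Finite G] {p : ℕ} [hpf : Fact p.Prime]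

/-- the normal `p`-complement theorem for an isomorphism-invariant functor, with an Engel
condition on chief factors as the local hypothesis -/
theorem engel_npc (W : ∀ (Q : Type u) [Group Q], Subgroup Q) (hW : Cfsg.IsCharPFunctor.{u} p W)
    (S : Sylow p G)
    (hN : Cfsg.HasNormalPComplement p ↥(Subgroup.normalizer
      ((Cfsg.inducedFunctor (G := G) W (S : Subgroup G) : Subgroup G) : Set G)))
    (hloc : ∀ (K R : Subgroup G) [hR : (R.subgroupOf K).Normal],
      Subgroup.centralizer ((Cfsg.pCore p (↥K ⧸ R.subgroupOf K) :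
        Subgroup (↥K ⧸ R.subgroupOf K)) : Set (↥K ⧸ R.subgroupOf K))
        ≤ Cfsg.pCore p (↥K ⧸ R.subgroupOf K) →
      ∀ T : Sylow p (↥K ⧸ R.subgroupOf K),
      ¬ (Cfsg.inducedFunctor (G := (↥K ⧸ R.subgroupOf K)) W
        ((T : Subgroup (↥K ⧸ R.subgroupOf K)))).Normal →
      ∃ g : (↥K ⧸ R.subgroupOf K), g ∈ (T : Subgroup (↥K ⧸ R.subgroupOf K)) ∧
        g ∉ Cfsg.pCore p (↥K ⧸ R.subgroupOf K) ∧
        ∃ U V : Subgroup (↥K ⧸ R.subgroupOf K), Cfsg.IsChiefFactor U V ∧
          U ≤ Cfsg.pCore p (↥K ⧸ R.subgroupOf K) ∧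
          Cfsg.iterCommutator U (Subgroup.zpowers g) (p - 1) ≤ V ∧
          ¬ ⁅U, Subgroup.zpowers g⁆ ≤ V) :
    Cfsg.HasNormalPComplement p G := by
  classical
  have hWs := isSecFunctor_induced hW
  have key := reduction (p := p)
    (C := fun (X : Type u) [Group X] => Cfsg.Agent.Lib.Helper4.IsSectionOf G X) (φ := True) hWs
    (fun X _ _ hX M => hX.subgroup M) (fun X _ _ hX R _ => hX.quotient R) (by
      intro X _ _ hmc T D hAdm hN hs
      have hDT : D = (T : Subgroup X) := hAdm.2 trivial
      subst hDT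
      obtain ⟨K, R, hn, ⟨e⟩⟩ := hmc.mem.exists_equiv
      have h1 := Cfsg.Agent.Lib.Helper4.centralizer_pCore_le_of_mulEquiv (p := p) e hs.cent
      have hes : Function.Surjective e.toMonoidHom := e.surjective
      have hnot : ¬ (Cfsg.inducedFunctor (G := (↥K ⧸ R.subgroupOf K)) W
          (((T.mapSurjective hes : Sylow p (↥K ⧸ R.subgroupOf K)) :
            Subgroup (↥K ⧸ R.subgroupOf K)))).Normal := by
        intro h3
        rw [Sylow.coe_mapSurjective, Cfsg.Agent.Lib.Helper4.inducedFunctor_map hW e.toMonoidHom _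
          T.isPGroup' (fun x _ hx => e.injective (by rw [map_one]; exact hx))] at h3
        have h4 := normal_of_map_equiv e _ h3
        apply hmc.not_nilp
        exact pnilp_of_eq_top (Subgroup.normalizer_eq_top_iff.mpr h4) hN
      obtain ⟨g, -, -, U, V, hch, hUO, hit, hnc⟩ := hloc K R h1 (T.mapSurjective hes) hnot
      obtain ⟨K0, hshape, -⟩ := hs.shape
      have hshape' := hshape.map e.toMonoidHom hes
      exact hnc (engel_chief _ _ hshape' U V hch
        ((Cfsg.Agent.Lib.Helper9.pCore_isPGroup' p).to_le hUO) g hit))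
  apply pnilp_iff.mp
  exact key G (Cfsg.Agent.Lib.Helper4.IsSectionOf.refl G) S (S : Subgroup G)
    ⟨Cfsg.Agent.Lib.Lead.ZJ.sClosed_self _, fun _ => rfl⟩
    (pnilp_iff.mpr hN)

end Main

end GT

end Cfsg.Agent.Lib.Lead
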