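import Mathlib

/-!
# S3067 (Glauberman), package (P3a): step (S1)(a),(b),(c)

Ambient language: `Gam` a finite group, `G ≤ Gam` normalized by `a`, `a` of prime order `r ∤ |G|`.
Points are the `G`-conjugates `b = g⁻¹ a g` of `a`; `K` is the `G`-class of the involution `tau`.
-/

set_option autoImplicit false

namespace Cfsg.Agent.Lib.Lead.GlFixS1a

variable {Gam : Type*} [Group Gam]

/-- The generators of `[H,a]`. -/
def commGen (H : Subgroup Gam) (a : Gam) : Set Gam := {x | ∃ h ∈ H, x = h * a * h⁻¹ * a⁻¹}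

theorem commGen_def (H : Subgroup Gam) (a : Gam) :
    commGen H a = {x | ∃ h ∈ H, x = h * a * h⁻¹ * a⁻¹} := rfl

section comm
variable (H : Subgroup Gam) (a : Gam)

theorem comm_le (hH : ∀ h ∈ H, a * h * a⁻¹ ∈ H) : Subgroup.closure (commGen H a) ≤ H := by
  rw [Subgroup.closure_le]
  rintro x ⟨h, hh, rfl⟩
  have h1 := hH h⁻¹ (H.inv_mem hh)
  have : h * a * h⁻¹ * a⁻¹ = h * (a * h⁻¹ * a⁻¹) := by group
  rw [this]
  exact H.mul_mem hh h1

/-- `[H,a]` is normalized by `H`. -/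
theorem comm_conj_mem {k y : Gam} (hk : k ∈ H) (hy : y ∈ Subgroup.closure (commGen H a)) :
    k * y * k⁻¹ ∈ Subgroup.closure (commGen H a) := by
  induction hy using Subgroup.closure_induction with
  | mem x hx =>
    obtain ⟨h, hh, rfl⟩ := hx
    have e : k * (h * a * h⁻¹ * a⁻¹) * k⁻¹
        = ((k * h) * a * (k * h)⁻¹ * a⁻¹) * (k * a * k⁻¹ * a⁻¹)⁻¹ := by group
    rw [e]
    apply Subgroup.mul_mem
    · exact Subgroup.subset_closure ⟨k * h, H.mul_mem hk hh, rfl⟩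
    · exact Subgroup.inv_mem _ (Subgroup.subset_closure ⟨k, hk, rfl⟩)
  | one => simp
  | mul x y _ _ hx hy =>
    have e : k * (x * y) * k⁻¹ = (k * x * k⁻¹) * (k * y * k⁻¹) := by group
    rw [e]; exact Subgroup.mul_mem _ hx hy
  | inv x _ hx =>
    have e : k * x⁻¹ * k⁻¹ = (k * x * k⁻¹)⁻¹ := by group
    rw [e]; exact Subgroup.inv_mem _ hx

/-- `[H,a]` is normalized by `a`. -/
theorem comm_conj_a_mem (hH : ∀ h ∈ H, a * h * a⁻¹ ∈ H) {y : Gam}
    (hy : y ∈ Subgroup.closure (commGen H a)) :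
    a * y * a⁻¹ ∈ Subgroup.closure (commGen H a) := by
  induction hy using Subgroup.closure_induction with
  | mem x hx =>
    obtain ⟨h, hh, rfl⟩ := hx
    have e : a * (h * a * h⁻¹ * a⁻¹) * a⁻¹ = (a * h * a⁻¹) * a * (a * h * a⁻¹)⁻¹ * a⁻¹ := by group
    rw [e]
    exact Subgroup.subset_closure ⟨a * h * a⁻¹, hH h hh, rfl⟩
  | one => simp
  | mul x y _ _ hx hy =>
    have e : a * (x * y) * a⁻¹ = (a * x * a⁻¹) * (a * y * a⁻¹) := by group
    rw [e]; exact Subgroup.mul_mem _ hx hy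
  | inv x _ hx =>
    have e : a * x⁻¹ * a⁻¹ = (a * x * a⁻¹)⁻¹ := by group
    rw [e]; exact Subgroup.inv_mem _ hx

theorem comm_conj_pow_mem (hH : ∀ h ∈ H, a * h * a⁻¹ ∈ H) {y : Gam}
    (hy : y ∈ Subgroup.closure (commGen H a)) (i : ℕ) :
    a ^ i * y * (a ^ i)⁻¹ ∈ Subgroup.closure (commGen H a) := by
  induction i with
  | zero => simpa using hy
  | succ i ih =>
    have e : a ^ (i + 1) * y * (a ^ (i + 1))⁻¹ = a * (a ^ i * y * (a ^ i)⁻¹) * a⁻¹ := by
      rw [pow_succ']; group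
    rw [e]; exact comm_conj_a_mem H a hH ih

theorem pow_conj_mem (hH : ∀ h ∈ H, a * h * a⁻¹ ∈ H) {x : Gam} (hx : x ∈ H) (i : ℕ) :
    a ^ i * x * (a ^ i)⁻¹ ∈ H := by
  induction i with
  | zero => simpa using hx
  | succ i ih =>
    have e : a ^ (i + 1) * x * (a ^ (i + 1))⁻¹ = a * (a ^ i * x * (a ^ i)⁻¹) * a⁻¹ := by
      rw [pow_succ']; group
    rw [e]; exact hH _ ih

/-- `a^i x a^{-i} x⁻¹ ∈ [H,a]` for `x ∈ H`. -/
theorem pow_comm_mem (hH : ∀ h ∈ H, a * h * a⁻¹ ∈ H) {x : Gam} (hx : x ∈ H) (i : ℕ) :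
    a ^ i * x * (a ^ i)⁻¹ * x⁻¹ ∈ Subgroup.closure (commGen H a) := by
  induction i with
  | zero => simp
  | succ i ih =>
    have e : a ^ (i + 1) * x * (a ^ (i + 1))⁻¹ * x⁻¹
        = (a * (a ^ i * x * (a ^ i)⁻¹ * x⁻¹) * a⁻¹) * (x * a * x⁻¹ * a⁻¹)⁻¹ := by
      rw [pow_succ']; group
    rw [e]
    apply Subgroup.mul_mem
    · exact comm_conj_a_mem H a hH ih
    · exact Subgroup.inv_mem _ (Subgroup.subset_closure ⟨x, hx, rfl⟩)

theorem pow_mul_decomp (hH : ∀ h ∈ H, a * h * a⁻¹ ∈ H) {c : Gam} (hc : c ∈ H) (k : ℕ) :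
    ∃ p ∈ H, (c * a) ^ k = p * a ^ k ∧ p * (c ^ k)⁻¹ ∈ Subgroup.closure (commGen H a) := by
  induction k with
  | zero => exact ⟨1, H.one_mem, by simp, by simp⟩
  | succ k ih =>
    obtain ⟨p, hp, h1, h2⟩ := ih
    refine ⟨p * (a ^ k * c * (a ^ k)⁻¹), H.mul_mem hp (pow_conj_mem H a hH hc k), ?_, ?_⟩
    · rw [pow_succ, h1, pow_succ]; group
    · have e : p * (a ^ k * c * (a ^ k)⁻¹) * (c ^ (k + 1))⁻¹
          = (p * (c ^ k)⁻¹) * (c ^ k * (a ^ k * c * (a ^ k)⁻¹ * c⁻¹) * (c ^ k)⁻¹) := by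
        rw [pow_succ]; group
      rw [e]
      exact Subgroup.mul_mem _ h2 (comm_conj_mem H a (H.pow_mem hc k) (pow_comm_mem H a hH hc k))

/-- If `c ∈ H` has order prime to `r`, `a ^ r = 1` and `(c a) ^ r = 1`, then `c ∈ [H,a]`. -/
theorem mem_comm_of_pow_eq_one (hH : ∀ h ∈ H, a * h * a⁻¹ ∈ H) {c : Gam} (hc : c ∈ H) {r : ℕ}
    (har : a ^ r = 1) (hcar : (c * a) ^ r = 1) (hcop : Nat.Coprime r (orderOf c)) :
    c ∈ Subgroup.closure (commGen H a) := by
  obtain ⟨p, _, h1, h2⟩ := pow_mul_decomp H a hH hc r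
  rw [hcar, har, mul_one] at h1
  rw [← h1, one_mul] at h2
  have h3 : c ^ r ∈ Subgroup.closure (commGen H a) := by
    have := Subgroup.inv_mem _ h2
    simpa using this
  obtain ⟨m, hm⟩ := exists_pow_eq_self_of_coprime hcop
  rw [← hm]
  exact Subgroup.pow_mem _ h3 m

end comm

theorem orderOf_dvd_card_of_mem [Finite Gam] {G : Subgroup Gam} {c : Gam} (hc : c ∈ G) :
    orderOf c ∣ Nat.card G := by
  have := orderOf_dvd_natCard (⟨c, hc⟩ : G)
  rwa [Subgroup.orderOf_mk] at this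

theorem coprime_orderOf_of_mem [Finite Gam] {G : Subgroup Gam} {r : ℕ} (hr : r.Prime)
    (hrG : ¬ r ∣ Nat.card G) {c : Gam} (hc : c ∈ G) : Nat.Coprime r (orderOf c) :=
  (Nat.Prime.coprime_iff_not_dvd hr).2 (fun h => hrG (h.trans (orderOf_dvd_card_of_mem hc)))

/-- A power of `a` lying in `G` is trivial. -/
theorem pow_eq_one_of_mem [Finite Gam] {G : Subgroup Gam} {a : Gam} {r : ℕ} (hr : r.Prime)
    (ha : orderOf a = r) (hrG : ¬ r ∣ Nat.card G) {i : ℕ} (hi : a ^ i ∈ G) : a ^ i = 1 := by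
  by_contra hne
  have h1 : orderOf (a ^ i) ∣ r := by
    apply orderOf_dvd_of_pow_eq_one
    rw [← pow_mul, mul_comm, pow_mul, ← ha, pow_orderOf_eq_one, one_pow]
  rcases (Nat.dvd_prime hr).1 h1 with h | h
  · exact hne (orderOf_eq_one_iff.1 h)
  · exact hrG (h ▸ orderOf_dvd_card_of_mem hi)

/-- **Key lemma** (Sylow-type): if `H ≤ G` is `a`-invariant and `b` is an element of order `r` with
`b a⁻¹ ∈ H`, then `⟨a,b⟩ ∩ G ≤ [H,a]`. -/
theorem closure_pair_inf_le_comm [Finite Gam] (G H : Subgroup Gam) (hHG : H ≤ G) (a : Gam)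
    (hH : ∀ h ∈ H, a * h * a⁻¹ ∈ H) {r : ℕ} (hr : r.Prime) (ha : orderOf a = r)
    (hrG : ¬ r ∣ Nat.card G) (b : Gam) (hb : orderOf b = r) (hba : b * a⁻¹ ∈ H) :
    Subgroup.closure {a, b} ⊓ G ≤ Subgroup.closure (commGen H a) := by
  have har : a ^ r = 1 := by rw [← ha]; exact pow_orderOf_eq_one a
  have hbr : b ^ r = 1 := by rw [← hb]; exact pow_orderOf_eq_one b
  have hbc : b = (b * a⁻¹) * a := by group
  have hcY : b * a⁻¹ ∈ Subgroup.closure (commGen H a) := by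
    apply mem_comm_of_pow_eq_one H a hH hba har
    · rw [← hbc]; exact hbr
    · exact coprime_orderOf_of_mem hr hrG (hHG hba)
  have key : ∀ x ∈ Subgroup.closure ({a, b} : Set Gam),
      ∃ y ∈ Subgroup.closure (commGen H a), ∃ i : ℕ, x = y * a ^ i := by
    intro x hx
    induction hx using Subgroup.closure_induction with
    | mem x hx =>
      rcases hx with rfl | rfl
      · exact ⟨1, Subgroup.one_mem _, 1, by simp⟩
      · exact ⟨x * a⁻¹, hcY, 1, by group⟩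
    | one => exact ⟨1, Subgroup.one_mem _, 0, by simp⟩
    | mul x y _ _ hx hy =>
      obtain ⟨y1, hy1, i, rfl⟩ := hx
      obtain ⟨y2, hy2, j, rfl⟩ := hy
      refine ⟨y1 * (a ^ i * y2 * (a ^ i)⁻¹), Subgroup.mul_mem _ hy1 (comm_conj_pow_mem H a hH hy2 i),
        i + j, ?_⟩
      rw [pow_add]; group
    | inv x _ hx =>
      obtain ⟨y1, hy1, i, rfl⟩ := hx
      have hinv : (a ^ i)⁻¹ = a ^ ((r - 1) * i) := by
        apply inv_eq_of_mul_eq_one_right
        rw [← pow_add]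
        have : i + (r - 1) * i = r * i := by
          have := hr.one_lt
          have h2 : r = (r - 1) + 1 := by omega
          conv_rhs => rw [h2]
          ring
        rw [this, pow_mul, har, one_pow]
      refine ⟨a ^ ((r - 1) * i) * y1⁻¹ * (a ^ ((r - 1) * i))⁻¹,
        comm_conj_pow_mem H a hH (Subgroup.inv_mem _ hy1) _, (r - 1) * i, ?_⟩
      rw [mul_inv_rev, hinv]; group
  rintro x ⟨hx1, hx2⟩
  obtain ⟨y, hy, i, rfl⟩ := key x hx1
  have hyG : y ∈ G := hHG (comm_le H a hH hy)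
  have hai : a ^ i ∈ G := by
    have : a ^ i = y⁻¹ * (y * a ^ i) := by group
    rw [this]; exact G.mul_mem (G.inv_mem hyG) hx2
  rw [pow_eq_one_of_mem hr ha hrG hai, mul_one]
  exact hy

end Cfsg.Agent.Lib.Lead.GlFixS1a
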