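import Mathlib
import Cfsg.Prelude.Def_PLocal
import Cfsg.Agent.Lib.Lead.QuadJ

set_option autoImplicit false

/-!
# `quad_center` without the constraint hypothesis

Same statement as `QuadCenter.quad_center`, with the hypothesis `C_G(O_p(G)) ≤ O_p(G)` replaced by the
weaker `x ∈ O_p(G)` (which is all that the proof uses).
-/

namespace Cfsg.Agent.Lib.Lead.GlaubB

open Cfsg Cfsg.Agent.Lib.Helper9 Cfsg.Agent.Lib.Lead Cfsg.Agent.Lib.Lead.Thom Cfsg.Agent.Lib.Lead.ZJ
open Cfsg.Agent.Lib.Lead.QuadCenter Cfsg.Agent.Lib.Lead.QuadJ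
open scoped commutatorElement

universe u

variable {p : ℕ}

section main

variable [hp : Fact p.Prime]

theorem quad_center_pcore_aux (W : ∀ (Q : Type u) [Group Q], Subgroup Q)
    (hW2 : ∀ (Q R : Type u) [Group Q] [Group R] [Finite Q], IsPGroup p Q → ∀ φ : Q ≃* R,
      (W Q).map φ.toMonoidHom = W R)
    (hq : ∀ (G : Type u) [Group G] [Finite G] (P : Sylow p G),
      ¬ (((W ↥(P : Subgroup G)).map (P : Subgroup G).subtype : Subgroup G)).Normal →
      ∃ g : G, g ∈ (P : Subgroup G) ∧ g ∉ Cfsg.pCore p G ∧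
        ⁅⁅Subgroup.center ↥(Cfsg.pCore p G) |>.map (Cfsg.pCore p G).subtype, Subgroup.zpowers g⁆,
          Subgroup.zpowers g⁆ = ⊥) :
    ∀ (n : ℕ) (G : Type u) [Group G] [Finite G] (P : Sylow p G), Nat.card G = n →
      ∀ x : G, x ∈ Cfsg.pCore p G → x ∈ (P : Subgroup G) → (∀ y ∈ (P : Subgroup G), y * x = x * y) →
      (∀ g ∈ Subgroup.normalizer ((((W ↥(P : Subgroup G)).map (P : Subgroup G).subtype : Subgroup G)) : Set G),
        g * x ^ p = x ^ p * g) →
      x ^ p ∈ Subgroup.center G := by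
  intro n
  induction n using Nat.strong_induction_on with
  | _ n ih =>
  intro G _ _ P hn x hxQ₀ hxP hxc hN
  by_cases hnorm : (((W ↥(P : Subgroup G)).map (P : Subgroup G).subtype : Subgroup G)).Normal
  · rw [Subgroup.mem_center_iff]
    intro g
    apply hN g
    rw [Subgroup.normalizer_eq_top_iff.mpr hnorm]
    trivial
  obtain ⟨g₀, hg₀P, hg₀Q, hquad₀⟩ := hq G P hnorm
  set Q := Cfsg.pCore p G with hQdef
  haveI hQn : Q.Normal := pCore_normal' p
  have hQp : IsPGroup p Q := pCore_isPGroup' p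
  have hQP : Q ≤ (P : Subgroup G) := pCore_le_sylow P
  set ZQ := (Subgroup.center ↥Q).map Q.subtype with hZQ
  -- `x ∈ Z(Q)`
  have hxQ : x ∈ Q := hxQ₀
  have hxZ : x ∈ ZQ := by
    rw [hZQ, mem_map_center_iff]
    exact ⟨hxQ, fun y hy => hxc y (hQP hy)⟩
  -- choose a power `g` of `g₀` with `g ∉ Q` and `g ^ p ∈ Q`
  have hex : ∃ k : ℕ, g₀ ^ (p ^ k) ∈ Q := by
    obtain ⟨k, hk⟩ := P.isPGroup' ⟨g₀, hg₀P⟩
    refine ⟨k, ?_⟩
    have : g₀ ^ (p ^ k) = 1 := by
      have := congrArg Subtype.val hk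
      simpa using this
    rw [this]
    exact Subgroup.one_mem _
  classical
  set k := Nat.find hex with hk
  have hk0 : k ≠ 0 := by
    intro h0
    have := Nat.find_spec hex
    rw [← hk, h0, pow_zero, pow_one] at this
    exact hg₀Q this
  obtain ⟨k', hk'⟩ := Nat.exists_eq_succ_of_ne_zero hk0
  set g := g₀ ^ (p ^ k') with hg
  have hgQ : g ∉ Q := by
    have := Nat.find_min hex (m := k') (by omega)
    exact this
  have hgp : g ^ p ∈ Q := by
    have := Nat.find_spec hex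
    rw [← hk, hk', pow_succ, pow_mul] at this
    exact this
  have hgP : g ∈ (P : Subgroup G) := Subgroup.pow_mem _ hg₀P _
  have hzle : Subgroup.zpowers g ≤ Subgroup.zpowers g₀ :=
    Subgroup.zpowers_le.mpr (Subgroup.pow_mem _ (Subgroup.mem_zpowers g₀) _)
  have hquad : ⁅⁅ZQ, Subgroup.zpowers g⁆, Subgroup.zpowers g⁆ = ⊥ := by
    rw [eq_bot_iff, ← hquad₀]
    exact Subgroup.commutator_mono (Subgroup.commutator_mono le_rfl hzle) hzle
  -- `g` centralises all conjugates of `z = x ^ p`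
  have hgz : ∀ h : G, g * (h * x ^ p * h⁻¹) = (h * x ^ p * h⁻¹) * g := by
    intro h
    have h1 : h * x * h⁻¹ ∈ ZQ := map_center_conj_mem Q hxZ h
    have h2 := commute_pow_of_quadratic Q g p hgp hquad h1
    rwa [conj_pow] at h2
  -- the centraliser of the conjugates of `z`
  set T : Set G := Set.range (fun h : G => h * x ^ p * h⁻¹) with hT
  set C₁ := Subgroup.centralizer T with hC₁
  have hC₁mem : ∀ c : G, c ∈ C₁ ↔ ∀ h : G, (h * x ^ p * h⁻¹) * c = c * (h * x ^ p * h⁻¹) := by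
    intro c
    rw [hC₁, Subgroup.mem_centralizer_iff]
    constructor
    · intro H h
      exact H _ ⟨h, rfl⟩
    · rintro H _ ⟨h, rfl⟩
      exact H h
  haveI hC₁n : C₁.Normal := by
    constructor
    intro c hc u
    rw [hC₁mem] at hc ⊢
    intro h
    have := hc (u⁻¹ * h)
    calc h * x ^ p * h⁻¹ * (u * c * u⁻¹)
        = u * ((u⁻¹ * h) * x ^ p * (u⁻¹ * h)⁻¹ * c) * u⁻¹ := by group
      _ = u * (c * ((u⁻¹ * h) * x ^ p * (u⁻¹ * h)⁻¹)) * u⁻¹ := by rw [this]
      _ = u * c * u⁻¹ * (h * x ^ p * h⁻¹) := by group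
  have hgC₁ : g ∈ C₁ := by
    rw [hC₁mem]
    intro h
    exact (hgz h).symm
  -- Frattini
  obtain ⟨T₀, hT₀⟩ := exists_sylow_map_eq_inf P C₁
  have hfr := Sylow.normalizer_sup_eq_top T₀
  rw [hT₀] at hfr
  set M := Subgroup.normalizer ((((P : Subgroup G) ⊓ C₁ : Subgroup G)) : Set G) with hM
  have hPM : (P : Subgroup G) ≤ M := by
    intro y hy
    rw [hM, Subgroup.mem_normalizer_iff]
    intro w
    constructor
    · rintro ⟨hw1, hw2⟩
      exact ⟨Subgroup.mul_mem _ (Subgroup.mul_mem _ hy hw1) (Subgroup.inv_mem _ hy), hC₁n.conj_mem w hw2 y⟩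
    · rintro ⟨hw1, hw2⟩
      have e : w = y⁻¹ * (y * w * y⁻¹) * y⁻¹⁻¹ := by group
      rw [e]
      exact ⟨Subgroup.mul_mem _ (Subgroup.mul_mem _ (Subgroup.inv_mem _ hy) hw1) (Subgroup.inv_mem _ (Subgroup.inv_mem _ hy)),
        hC₁n.conj_mem _ hw2 y⁻¹⟩
  have hMtop : M ≠ ⊤ := by
    intro htop
    have hnorm' : ((P : Subgroup G) ⊓ C₁).Normal := Subgroup.normalizer_eq_top_iff.mp htop
    have hle : (P : Subgroup G) ⊓ C₁ ≤ Q := le_pCore hnorm' (P.isPGroup'.to_le inf_le_left)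
    exact hgQ (hle ⟨hgP, hgC₁⟩)
  have hcardM : Nat.card M < n := by
    rw [← hn]
    have hle : Nat.card M ≤ Nat.card G := Subgroup.card_le_card_group M
    rcases hle.lt_or_eq with h | h
    · exact h
    · exact absurd ((Subgroup.card_eq_iff_eq_top M).mp h) hMtop
  -- the induction hypothesis for `M`
  have hQM : Q ≤ M := hQP.trans hPM
  have hQ' : Q.subgroupOf M ≤ Cfsg.pCore p ↥M := by
    apply le_pCore
    · exact Subgroup.Normal.subgroupOf hQn M
    · exact hQp.comap_subtype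
  have hIH := ih (Nat.card M) hcardM ↥M (P.subtype hPM) rfl ⟨x, hPM hxP⟩
    (hQ' (Subgroup.mem_subgroupOf.mpr hxQ))
    (by rw [Sylow.coe_subtype, Subgroup.mem_subgroupOf]; exact hxP)
    (by
      intro y hy
      rw [Sylow.coe_subtype, Subgroup.mem_subgroupOf] at hy
      exact Subtype.ext (hxc y hy))
    (by
      intro m hm
      apply Subtype.ext
      simp only [Subgroup.coe_mul, Subgroup.coe_pow]
      apply hN
      -- transport the normalizer
      have hmap := W_map_subgroupOf W hW2 M (P : Subgroup G) hPM P.isPGroup'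
      have hm' : m ∈ Subgroup.normalizer
          (((W ↥((P : Subgroup G).subgroupOf M)).map ((P : Subgroup G).subgroupOf M).subtype : Subgroup ↥M) : Set ↥M) := hm
      rw [← hmap, Subgroup.mem_normalizer_iff]
      have hmi : m⁻¹ ∈ Subgroup.normalizer
          (((W ↥((P : Subgroup G).subgroupOf M)).map ((P : Subgroup G).subgroupOf M).subtype : Subgroup ↥M) : Set ↥M) :=
        Subgroup.inv_mem _ hm'
      rw [Subgroup.mem_normalizer_iff] at hm' hmi
      intro w
      constructor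
      · rintro ⟨a, ha, rfl⟩
        exact ⟨m * a * m⁻¹, (hm' a).mp ha, by simp⟩
      · rintro ⟨a, ha, hae⟩
        have hw : w = ((m⁻¹ * a * m⁻¹⁻¹ : ↥M) : G) := by
          have : ((a : ↥M) : G) = (m : G) * w * (m : G)⁻¹ := hae
          simp only [Subgroup.coe_mul, Subgroup.coe_inv, this]
          group
        rw [hw]
        exact ⟨m⁻¹ * a * m⁻¹⁻¹, (hmi a).mp ha, rfl⟩)
  -- conclusion
  rw [Subgroup.mem_center_iff]
  intro u
  have hu : u ∈ M ⊔ C₁ := by rw [hfr]; trivial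
  obtain ⟨m, hm, c, hc, rfl⟩ := Subgroup.mem_sup_of_normal_right.mp hu
  have h1 : m * x ^ p = x ^ p * m := by
    have := Subgroup.mem_center_iff.mp hIH ⟨m, hm⟩
    have := congrArg Subtype.val this
    simpa using this
  have h2 : c * x ^ p = x ^ p * c := by
    have := (hC₁mem c).mp hc 1
    simpa using this.symm
  calc m * c * x ^ p = m * (c * x ^ p) := by group
    _ = m * (x ^ p * c) := by rw [h2]
    _ = (m * x ^ p) * c := by group
    _ = x ^ p * m * c := by rw [h1]
    _ = x ^ p * (m * c) := by group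

/-- variant of `quad_center` with `x ∈ O_p(G)` in place of the constraint hypothesis -/
theorem quad_center_pcore (W : ∀ (Q : Type u) [Group Q], Subgroup Q)
    (hW2 : ∀ (Q R : Type u) [Group Q] [Group R] [Finite Q], IsPGroup p Q → ∀ φ : Q ≃* R,
      (W Q).map φ.toMonoidHom = W R)
    (hq : ∀ (G : Type u) [Group G] [Finite G] (P : Sylow p G),
      ¬ (((W ↥(P : Subgroup G)).map (P : Subgroup G).subtype : Subgroup G)).Normal →
      ∃ g : G, g ∈ (P : Subgroup G) ∧ g ∉ Cfsg.pCore p G ∧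
        ⁅⁅Subgroup.center ↥(Cfsg.pCore p G) |>.map (Cfsg.pCore p G).subtype, Subgroup.zpowers g⁆,
          Subgroup.zpowers g⁆ = ⊥)
    (G : Type u) [Group G] [Finite G] (P : Sylow p G)
    (x : G) (hxQ : x ∈ Cfsg.pCore p G) (hxP : x ∈ (P : Subgroup G)) (hxc : ∀ y ∈ (P : Subgroup G), y * x = x * y)
    (hN : ∀ g ∈ Subgroup.normalizer ((((W ↥(P : Subgroup G)).map (P : Subgroup G).subtype : Subgroup G)) : Set G),
      g * x ^ p = x ^ p * g) :
    x ^ p ∈ Subgroup.center G :=
  quad_center_pcore_aux W hW2 hq (Nat.card G) G P rfl x hxQ hxP hxc hN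


/-- `thompsonA_center` with `x ∈ O_p(G)` in place of the constraint hypothesis. -/
theorem thompsonA_center_pcore (G : Type u) [Group G] [Finite G] (P : Sylow p G)
    (x : G) (hxQ : x ∈ Cfsg.pCore p G) (hxP : x ∈ (P : Subgroup G))
    (hxc : ∀ y ∈ (P : Subgroup G), y * x = x * y)
    (hN : ∀ g ∈ Subgroup.normalizer ((Cfsg.thompsonSubgroupAOf (P : Subgroup G) : Subgroup G) : Set G),
      g * x ^ p = x ^ p * g) :
    x ^ p ∈ Subgroup.center G :=
  quad_center_pcore WJ hW2_WJ hq_WJ G P x hxQ hxP hxc hN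

end main

end Cfsg.Agent.Lib.Lead.GlaubB
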