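import Mathlib

set_option autoImplicit false

/-!
# Orbit products for quadratic actions, `p = 2`

`trace_aux2`: if a finite group `A` acts quadratically on an abelian group `M`, no `A`-orbit on the
`A`-invariant finite set `Ω` has exactly two elements, and all elements of `Ω` have the same square `z`,
then the product of `Ω` equals the product of the `A`-fixed points of `Ω` times a power of `z`.
-/

namespace Cfsg.Agent.Lib.Lead.GlaubD

open scoped BigOperators

/-- the product of all elements of a finite abelian group of exponent two whose order is divisible by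
four is trivial -/
theorem prod_univ_eq_one_of_sq {U : Type*} [CommGroup U] [Fintype U] (hsq : ∀ u : U, u * u = 1)
    (h4 : 4 ∣ Fintype.card U) (c : U) (hc : c ≠ 1) : ∏ u : U, u = 1 := by
  classical
  set e := Fintype.equivFin U with he
  set S : Finset U := Finset.univ.filter (fun u => e u < e (c * u)) with hS
  have hcu : ∀ u : U, c * u ≠ u := fun u h => hc (by simpa using h)
  have hccu : ∀ u : U, c * (c * u) = u := fun u => by rw [← mul_assoc, hsq c, one_mul]
  have hdisj : Disjoint S (S.image (fun u => c * u)) := by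
    rw [Finset.disjoint_left]
    intro u hu hu'
    obtain ⟨w, hw, rfl⟩ := Finset.mem_image.mp hu'
    rw [hS, Finset.mem_filter] at hu hw
    rw [hccu] at hu
    exact lt_asymm hu.2 hw.2
  have hunion : S ∪ S.image (fun u => c * u) = Finset.univ := by
    ext u
    simp only [Finset.mem_union, Finset.mem_image, Finset.mem_univ, iff_true]
    rcases lt_trichotomy (e u) (e (c * u)) with h | h | h
    · left
      rw [hS, Finset.mem_filter]
      exact ⟨Finset.mem_univ _, h⟩
    · exact absurd (e.injective h).symm (hcu u)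
    · right
      refine ⟨c * u, ?_, hccu u⟩
      rw [hS, Finset.mem_filter]
      refine ⟨Finset.mem_univ _, ?_⟩
      rw [hccu]
      exact h
  have hinj : ∀ a ∈ S, ∀ b ∈ S, (fun u => c * u) a = (fun u => c * u) b → a = b :=
    fun a _ b _ h => mul_left_cancel h
  have hcard : Fintype.card U = 2 * S.card := by
    rw [← Finset.card_univ, ← hunion, Finset.card_union_of_disjoint hdisj,
      Finset.card_image_of_injOn hinj]
    ring
  have heven : Even S.card := by
    obtain ⟨k, hk⟩ := h4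
    rw [hcard] at hk
    exact ⟨k, by omega⟩
  rw [← hunion, Finset.prod_union hdisj, Finset.prod_image hinj, ← Finset.prod_mul_distrib]
  have : ∀ u ∈ S, u * (c * u) = c := fun u _ => by
    rw [mul_comm c u, ← mul_assoc, hsq u, one_mul]
  rw [Finset.prod_congr rfl this, Finset.prod_const]
  obtain ⟨k, hk⟩ := heven
  rw [hk, pow_add, ← mul_pow, hsq c, one_pow]

section Trace

variable {M : Type*} [CommGroup M] [DecidableEq M] {A : Type*} [Group A] [Finite A]

theorem trace_aux2 (ρ : A →* MulAut M) (z : M)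
    [DecidablePred (fun ω : M => ∀ a : A, ρ a ω = ω)]
    (hquad : ∀ a b : A, ∀ m : M, ρ a (ρ b m / m) = ρ b m / m) :
    ∀ (n : ℕ) (Ω : Finset M), Ω.card = n → (∀ a : A, ∀ ω ∈ Ω, ρ a ω ∈ Ω) → (∀ ω ∈ Ω, ω ^ 2 = z) →
      (∀ ω ∈ Ω, ∀ a : A, ρ a ω ≠ ω → ∃ b : A, ρ b ω ≠ ω ∧ ρ b ω ≠ ρ a ω) →
      ∃ k : ℕ, ∏ ω ∈ Ω, ω = (∏ ω ∈ Ω.filter (fun ω => ∀ a : A, ρ a ω = ω), ω) * z ^ k := by
  intro n
  induction n using Nat.strong_induction_on with
  | _ n ih =>
  intro Ω hn hinv hz hno2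
  by_cases hall : ∀ ω ∈ Ω, ∀ a : A, ρ a ω = ω
  · refine ⟨0, ?_⟩
    rw [pow_zero, mul_one, Finset.filter_true_of_mem hall]
  push Not at hall
  obtain ⟨ω, hω, a₀, ha₀⟩ := hall
  obtain ⟨b₀, hb₀, hb₀a⟩ := hno2 ω hω a₀ ha₀
  -- the homomorphism `a ↦ (a • ω) / ω`
  have hmulφ : ∀ a b : A, ρ (a * b) ω / ω = (ρ a ω / ω) * (ρ b ω / ω) := by
    intro a b
    have h1 : ρ (a * b) ω = ρ a (ρ b ω) := by rw [map_mul]; rfl
    have h2 : ρ b ω = (ρ b ω / ω) * ω := by rw [div_mul_cancel]
    have h3 : ρ a (ρ b ω) = (ρ b ω / ω) * ρ a ω := by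
      conv_lhs => rw [h2]
      rw [map_mul, hquad a b ω]
    rw [h1, h3, mul_div_assoc, mul_comm]
  let φ : A →* M :=
    { toFun := fun a => ρ a ω / ω
      map_one' := by simp
      map_mul' := hmulφ }
  have hφ : ∀ a : A, φ a = ρ a ω / ω := fun a => rfl
  set U : Subgroup M := φ.range with hU
  haveI : Finite ↥U := Finite.of_surjective φ.rangeRestrict φ.rangeRestrict_surjective
  haveI : Fintype ↥U := Fintype.ofFinite _
  have hUexp : ∀ u : ↥U, u ^ 2 = 1 := by
    rintro ⟨_, ⟨a, rfl⟩⟩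
    apply Subtype.ext
    rw [Subgroup.coe_pow, Subgroup.coe_one]
    show (φ a) ^ 2 = 1
    rw [hφ, div_pow, hz _ (hinv a ω hω), hz ω hω, div_self']
  have hUsq : ∀ u : ↥U, u * u = 1 := fun u => by rw [← pow_two]; exact hUexp u
  have hUnt : Nontrivial ↥U := by
    refine ⟨⟨⟨φ a₀, a₀, rfl⟩, 1, ?_⟩⟩
    intro h
    have h1 : φ a₀ = 1 := congrArg Subtype.val h
    rw [hφ, div_eq_one] at h1
    exact ha₀ h1
  have hUp : IsPGroup 2 ↥U := fun u => ⟨1, by rw [pow_one]; exact hUexp u⟩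
  haveI : Fact (Nat.Prime 2) := ⟨Nat.prime_two⟩
  obtain ⟨j, hj0, hj⟩ := hUp.nontrivial_iff_card.mp hUnt
  -- `U` has more than two elements
  have hj2 : 2 ≤ j := by
    by_contra hlt
    have hj1 : j = 1 := by omega
    rw [hj1, pow_one] at hj
    -- three distinct elements `1, φ a₀, φ b₀`
    have hne1 : (⟨φ a₀, a₀, rfl⟩ : ↥U) ≠ 1 := by
      intro h
      have h1 : φ a₀ = 1 := congrArg Subtype.val h
      rw [hφ, div_eq_one] at h1
      exact ha₀ h1
    have hne2 : (⟨φ b₀, b₀, rfl⟩ : ↥U) ≠ 1 := by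
      intro h
      have h1 : φ b₀ = 1 := congrArg Subtype.val h
      rw [hφ, div_eq_one] at h1
      exact hb₀ h1
    have hne3 : (⟨φ b₀, b₀, rfl⟩ : ↥U) ≠ ⟨φ a₀, a₀, rfl⟩ := by
      intro h
      have h1 : φ b₀ = φ a₀ := congrArg Subtype.val h
      rw [hφ, hφ] at h1
      exact hb₀a (div_left_injective h1)
    have h3 : 3 ≤ Fintype.card ↥U := by
      classical
      have hsub : ({1, ⟨φ a₀, a₀, rfl⟩, ⟨φ b₀, b₀, rfl⟩} : Finset ↥U).card = 3 := by
        rw [Finset.card_insert_of_notMem, Finset.card_insert_of_notMem, Finset.card_singleton]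
        · rw [Finset.mem_singleton]
          exact hne3.symm
        · rw [Finset.mem_insert, Finset.mem_singleton]
          rintro (h | h)
          · exact hne1 h.symm
          · exact hne2 h.symm
      calc 3 = ({1, ⟨φ a₀, a₀, rfl⟩, ⟨φ b₀, b₀, rfl⟩} : Finset ↥U).card := hsub.symm
        _ ≤ Fintype.card ↥U := Finset.card_le_univ _
    rw [← Nat.card_eq_fintype_card, hj] at h3
    omega
  obtain ⟨j', rfl⟩ : ∃ j', j = j' + 2 := ⟨j - 2, by omega⟩
  have h4 : 4 ∣ Fintype.card ↥U := by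
    rw [← Nat.card_eq_fintype_card, hj, pow_add]
    exact Dvd.intro_left _ rfl
  -- the orbit of `ω`
  set O : Finset M := (Finset.univ : Finset ↥U).image (fun u : ↥U => (u : M) * ω) with hO
  have hOmem : ∀ m : M, m ∈ O ↔ ∃ a : A, m = ρ a ω := by
    intro m
    rw [hO, Finset.mem_image]
    constructor
    · rintro ⟨⟨_, ⟨a, rfl⟩⟩, -, rfl⟩
      exact ⟨a, by show φ a * ω = ρ a ω; rw [hφ, div_mul_cancel]⟩
    · rintro ⟨a, rfl⟩
      exact ⟨⟨φ a, a, rfl⟩, Finset.mem_univ _, by show φ a * ω = ρ a ω; rw [hφ, div_mul_cancel]⟩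
  have hOΩ : O ⊆ Ω := by
    intro m hm
    obtain ⟨a, rfl⟩ := (hOmem m).mp hm
    exact hinv a ω hω
  have hOinv : ∀ b : A, ∀ m ∈ O, ρ b m ∈ O := by
    intro b m hm
    obtain ⟨a, rfl⟩ := (hOmem m).mp hm
    rw [hOmem]
    exact ⟨b * a, by rw [map_mul]; rfl⟩
  have hOnofix : ∀ m ∈ O, ¬ ∀ b : A, ρ b m = m := by
    intro m hm hfix
    obtain ⟨a, rfl⟩ := (hOmem m).mp hm
    apply ha₀
    have h1 := hfix (a * a₀ * a⁻¹)
    have h2 : ρ (a * a₀ * a⁻¹) (ρ a ω) = ρ a (ρ a₀ ω) := by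
      rw [map_mul, map_mul, map_inv]
      simp
    rw [h2] at h1
    exact (ρ a).injective h1
  -- the product over the orbit
  have hprodO : ∏ m ∈ O, m = z ^ (2 ^ (j' + 1)) := by
    rw [hO, Finset.prod_image]
    · rw [Finset.prod_mul_distrib, Finset.prod_const, Finset.card_univ]
      have h1 : ∏ u : ↥U, (u : M) = 1 := by
        have hc1 : (⟨φ a₀, a₀, rfl⟩ : ↥U) ≠ 1 := by
          intro h
          have h1 : φ a₀ = 1 := congrArg Subtype.val h
          rw [hφ, div_eq_one] at h1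
          exact ha₀ h1
        have := prod_univ_eq_one_of_sq (U := ↥U) hUsq h4 _ hc1
        have h2 := congrArg Subtype.val this
        rwa [Subgroup.val_finset_prod] at h2
      rw [h1, one_mul, ← Nat.card_eq_fintype_card, hj,
        show 2 ^ (j' + 2) = 2 * 2 ^ (j' + 1) by ring, pow_mul, hz ω hω]
    · intro u _ v _ huv
      exact Subtype.ext (mul_right_cancel huv)
  -- the complement
  have hΩ'inv : ∀ a : A, ∀ m ∈ Ω \ O, ρ a m ∈ Ω \ O := by
    intro a m hm
    rw [Finset.mem_sdiff] at hm ⊢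
    refine ⟨hinv a m hm.1, fun h => hm.2 ?_⟩
    have := hOinv a⁻¹ _ h
    rwa [map_inv, MulAut.inv_apply_self] at this
  have hωO : ω ∈ O := (hOmem ω).mpr ⟨1, by simp⟩
  have hcard : (Ω \ O).card < n := by
    rw [← hn]
    apply Finset.card_lt_card
    refine ⟨Finset.sdiff_subset, fun h => ?_⟩
    have := h hω
    rw [Finset.mem_sdiff] at this
    exact this.2 hωO
  obtain ⟨k, hk⟩ := ih _ hcard (Ω \ O) rfl hΩ'inv (fun m hm => hz m (Finset.mem_sdiff.mp hm).1)
    (fun m hm => hno2 m (Finset.mem_sdiff.mp hm).1)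
  have hfilt : (Ω \ O).filter (fun ω => ∀ a : A, ρ a ω = ω) = Ω.filter (fun ω => ∀ a : A, ρ a ω = ω) := by
    ext m
    simp only [Finset.mem_filter, Finset.mem_sdiff]
    constructor
    · rintro ⟨⟨h1, _⟩, h3⟩
      exact ⟨h1, h3⟩
    · rintro ⟨h1, h3⟩
      exact ⟨⟨h1, fun h => hOnofix m h h3⟩, h3⟩
  refine ⟨k + 2 ^ (j' + 1), ?_⟩
  rw [← Finset.prod_sdiff hOΩ, hk, hfilt, hprodO, mul_assoc, ← pow_add]

end Trace

end Cfsg.Agent.Lib.Lead.GlaubD
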