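import Mathlib
import Cfsg.Agent.Lib.Lead.GenCentralizers
import Cfsg.Agent.Lib.Lead.ZJ1
import Cfsg.Agent.Lib.Lead.FF2a

set_option autoImplicit false

/-!
An elementary abelian `2`-group acting on a group of odd order: an invariant cyclic subgroup
inverted by a given element.
-/

namespace Cfsg.Agent.Lib.Lead

namespace S4F

open scoped IsMulCommutative

variable {Γ : Type*} [Group Γ]

/-- the four-group generated by two commuting involutions -/
def four (a b : Γ) (ha : a * a = 1) (hb : b * b = 1) (hab : a * b = b * a) : Subgroup Γ where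
  carrier := {x | x = 1 ∨ x = a ∨ x = b ∨ x = a * b}
  one_mem' := Or.inl rfl
  mul_mem' := by
    have e1 : a * (a * b) = b := by rw [← mul_assoc, ha, one_mul]
    have e2 : b * (a * b) = a := by rw [← mul_assoc, ← hab, mul_assoc, hb, mul_one]
    have e3 : a * b * a = b := by rw [hab, mul_assoc, ha, mul_one]
    have e4 : a * b * b = a := by rw [mul_assoc, hb, mul_one]
    have e5 : a * b * (a * b) = 1 := by rw [← mul_assoc, e3, hb]
    rintro x y (rfl | rfl | rfl | rfl) (rfl | rfl | rfl | rfl)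
    · left; rw [one_mul]
    · right; left; rw [one_mul]
    · right; right; left; rw [one_mul]
    · right; right; right; rw [one_mul]
    · right; left; rw [mul_one]
    · left; exact ha
    · right; right; right; rfl
    · right; right; left; exact e1
    · right; right; left; rw [mul_one]
    · right; right; right; exact hab.symm
    · left; exact hb
    · right; left; exact e2
    · right; right; right; rw [mul_one]
    · right; right; left; exact e3
    · right; left; exact e4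
    · left; exact e5
  inv_mem' := by
    have ia : a⁻¹ = a := inv_eq_of_mul_eq_one_right ha
    have ib : b⁻¹ = b := inv_eq_of_mul_eq_one_right hb
    rintro x (rfl | rfl | rfl | rfl)
    · left; exact inv_one
    · right; left; exact ia
    · right; right; left; exact ib
    · right; right; right; rw [mul_inv_rev, ia, ib, hab]

theorem mem_four {a b : Γ} {ha : a * a = 1} {hb : b * b = 1} {hab : a * b = b * a} {x : Γ} :
    x ∈ four a b ha hb hab ↔ x = 1 ∨ x = a ∨ x = b ∨ x = a * b := Iff.rfl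

theorem four_sq {a b : Γ} {ha : a * a = 1} {hb : b * b = 1} {hab : a * b = b * a} {x : Γ}
    (hx : x ∈ four a b ha hb hab) : x * x = 1 := by
  rcases hx with rfl | rfl | rfl | rfl
  · rw [one_mul]
  · exact ha
  · exact hb
  · calc a * b * (a * b) = a * (b * a) * b := by group
      _ = a * (a * b) * b := by rw [hab]
      _ = (a * a) * (b * b) := by group
      _ = 1 := by rw [ha, hb, one_mul]

theorem four_comm {a b : Γ} {ha : a * a = 1} {hb : b * b = 1} {hab : a * b = b * a} {x y : Γ}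
    (hx : x ∈ four a b ha hb hab) (hy : y ∈ four a b ha hb hab) : x * y = y * x := by
  have hxy : x * y ∈ four a b ha hb hab := Subgroup.mul_mem _ hx hy
  have h1 := four_sq hxy
  have h2 := four_sq hx
  have h3 := four_sq hy
  have h4 : (x * y)⁻¹ = x * y := inv_eq_of_mul_eq_one_right h1
  rw [← h4, mul_inv_rev, inv_eq_of_mul_eq_one_right h3, inv_eq_of_mul_eq_one_right h2]

theorem four_not_cyclic {a b : Γ} {ha : a * a = 1} {hb : b * b = 1} {hab : a * b = b * a}
    (ha1 : a ≠ 1) (hb1 : b ≠ 1) (hne : a ≠ b) : ¬ IsCyclic (four a b ha hb hab) := by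
  intro hcyc
  obtain ⟨g, hg⟩ := hcyc.exists_generator
  have hg2 : g * g = 1 := Subtype.ext (four_sq g.2)
  have hmem : ∀ x : four a b ha hb hab, x = 1 ∨ x = g := by
    intro x
    obtain ⟨k, hk⟩ := Subgroup.mem_zpowers_iff.mp (hg x)
    rcases Int.emod_two_eq_zero_or_one k with h | h
    · left
      rw [← hk, ← Int.mul_ediv_add_emod k 2, h, add_zero, zpow_mul, zpow_two, hg2, one_zpow]
    · right
      rw [← hk, ← Int.mul_ediv_add_emod k 2, h, zpow_add, zpow_mul, zpow_two, hg2, one_zpow,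
        one_mul, zpow_one]
  have haE : a ∈ four a b ha hb hab := Or.inr (Or.inl rfl)
  have hbE : b ∈ four a b ha hb hab := Or.inr (Or.inr (Or.inl rfl))
  rcases hmem ⟨a, haE⟩ with h | h
  · exact ha1 (congrArg Subtype.val h)
  · rcases hmem ⟨b, hbE⟩ with h' | h'
    · exact hb1 (congrArg Subtype.val h')
    · apply hne
      have := h.trans h'.symm
      exact congrArg Subtype.val this

theorem four_isPGroup {a b : Γ} {ha : a * a = 1} {hb : b * b = 1} {hab : a * b = b * a} :
    IsPGroup 2 (four a b ha hb hab) := by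
  intro x
  refine ⟨1, ?_⟩
  rw [pow_one, pow_two]
  exact Subtype.ext (four_sq x.2)

/-- the key lemma: an invariant cyclic subgroup inverted by `a₀` -/
theorem exists_inverted_invariant [Finite Γ] (Ab P : Subgroup Γ)
    (hAc : ∀ a ∈ Ab, ∀ b ∈ Ab, a * b = b * a) (hA2 : ∀ a ∈ Ab, a * a = 1)
    (hAP : Ab ≤ Subgroup.normalizer (P : Set Γ)) (hPodd : Odd (Nat.card P))
    (a₀ : Γ) (ha₀ : a₀ ∈ Ab) (hnc : a₀ ∉ Subgroup.centralizer (P : Set Γ)) :
    ∃ x ∈ P, x ≠ 1 ∧ a₀ * x * a₀⁻¹ = x⁻¹ ∧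
      ∀ b ∈ Ab, b * x * b⁻¹ = x ∨ b * x * b⁻¹ = x⁻¹ := by
  classical
  have hinv : ∀ a ∈ Ab, a⁻¹ = a := fun a ha => inv_eq_of_mul_eq_one_right (hA2 a ha)
  set Good : Subgroup Γ → Prop := fun B =>
    B ≤ Ab ∧ ∃ y ∈ P, (∀ z ∈ B, z * y = y * z) ∧ a₀ * y ≠ y * a₀ with hGood
  have hgood0 : Good ⊥ := by
    refine ⟨bot_le, ?_⟩
    have : ∃ y ∈ P, a₀ * y ≠ y * a₀ := by
      by_contra hall
      push Not at hall
      apply hnc
      rw [Subgroup.mem_centralizer_iff]
      intro y hy
      exact (hall y hy).symm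
    obtain ⟨y, hy, hne⟩ := this
    refine ⟨y, hy, ?_, hne⟩
    intro z hz
    rw [Subgroup.mem_bot] at hz
    rw [hz, one_mul, mul_one]
  obtain ⟨B, ⟨hBA, hBg⟩, hmax⟩ := ZJ.exists_max_subgroup Good (fun B => Nat.card B) ⟨⊥, hgood0⟩
  set P₁ : Subgroup Γ := P ⊓ Subgroup.centralizer (B : Set Γ) with hP₁
  have hP₁P : P₁ ≤ P := inf_le_left
  have hmemP₁ : ∀ y, y ∈ P₁ ↔ y ∈ P ∧ ∀ z ∈ B, z * y = y * z := by
    intro y
    rw [hP₁, Subgroup.mem_inf, Subgroup.mem_centralizer_iff]
    rfl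
  -- `Ab` normalizes `P₁`
  have hconjP₁ : ∀ a ∈ Ab, ∀ y ∈ P₁, a * y * a⁻¹ ∈ P₁ := by
    intro a ha y hy
    rw [hmemP₁] at hy ⊢
    refine ⟨?_, ?_⟩
    · exact ((Subgroup.mem_normalizer_iff.mp (hAP ha)) y).mp hy.1
    · intro z hz
      have h1 : z * y = y * z := hy.2 z hz
      have h2 : z * a = a * z := hAc z (hBA hz) a ha
      have h3 : z * a⁻¹ = a⁻¹ * z := by rw [hinv a ha]; exact h2
      calc z * (a * y * a⁻¹) = (z * a) * y * a⁻¹ := by group
        _ = a * (z * y) * a⁻¹ := by rw [h2]; group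
        _ = a * y * (z * a⁻¹) := by rw [h1]; group
        _ = a * y * a⁻¹ * z := by rw [h3]; group
  have hAP₁ : Ab ≤ Subgroup.normalizer (P₁ : Set Γ) := by
    intro a ha
    apply Subgroup.mem_normalizer_fintype
    intro y hy
    exact hconjP₁ a ha y hy
  -- not good supergroups
  have hbad : ∀ b ∈ Ab, b ∉ B →
      P₁ ⊓ Subgroup.centralizer {b} ≤ Subgroup.centralizer {a₀} := by
    intro b hb hbB
    have hng : ¬ Good (B ⊔ Subgroup.zpowers b) := by
      intro hg
      have h1 := hmax _ hg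
      have hlt : B < B ⊔ Subgroup.zpowers b := by
        refine lt_of_le_of_ne le_sup_left ?_
        intro h
        apply hbB
        rw [h]
        exact Subgroup.mem_sup_right (Subgroup.mem_zpowers b)
      have := FF2.card_lt_of_lt2 hlt
      omega
    intro y hy
    rw [Subgroup.mem_inf, hmemP₁, Subgroup.mem_centralizer_singleton_iff] at hy
    rw [Subgroup.mem_centralizer_singleton_iff]
    by_contra hne
    apply hng
    refine ⟨sup_le hBA (Subgroup.zpowers_le.mpr hb), y, hy.1.1, ?_, fun h => hne h.symm⟩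
    have hle : B ⊔ Subgroup.zpowers b ≤ Subgroup.centralizer {y} := by
      refine sup_le ?_ (Subgroup.zpowers_le.mpr ?_)
      · intro z hz
        rw [Subgroup.mem_centralizer_singleton_iff]
        exact hy.1.2 z hz
      · rw [Subgroup.mem_centralizer_singleton_iff]
        exact hy.2.symm
    intro z hz
    exact Subgroup.mem_centralizer_singleton_iff.mp (hle hz)
  obtain ⟨y, hyP, hyB, hya⟩ := hBg
  have hyP₁ : y ∈ P₁ := (hmemP₁ y).mpr ⟨hyP, hyB⟩
  have ha₀B : a₀ ∉ B := fun h => hya (hyB a₀ h)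
  have ha₀1 : a₀ ≠ 1 := fun h => ha₀B (h ▸ B.one_mem)
  -- `B` has index two
  have hprod : ∀ b ∈ Ab, b ∉ B → a₀ * b ∈ B := by
    intro b hb hbB
    by_contra hnot
    have hb1 : b ≠ 1 := fun h => hbB (h ▸ B.one_mem)
    have hne : a₀ ≠ b := by
      intro h
      apply hnot
      rw [← h, hA2 a₀ ha₀]
      exact B.one_mem
    have hab : a₀ * b = b * a₀ := hAc a₀ ha₀ b hb
    set E := four a₀ b (hA2 a₀ ha₀) (hA2 b hb) hab with hE
    haveI : IsMulCommutative E := ⟨⟨fun x y => Subtype.ext (four_comm x.2 y.2)⟩⟩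
    have hEA : E ≤ Ab := by
      rintro x (rfl | rfl | rfl | rfl)
      · exact Ab.one_mem
      · exact ha₀
      · exact hb
      · exact Ab.mul_mem ha₀ hb
    have hcop : (Nat.card E).Coprime (Nat.card P₁) := by
      obtain ⟨k, hk⟩ := IsPGroup.iff_card.mp (four_isPGroup (a := a₀) (b := b)
        (ha := hA2 a₀ ha₀) (hb := hA2 b hb) (hab := hab))
      rw [hk]
      apply Nat.Coprime.pow_left
      rw [Nat.coprime_two_left]
      exact hPodd.of_dvd_nat (Subgroup.card_dvd_of_le hP₁P)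
    have hgen := generated_by_centralizers E P₁ (four_not_cyclic ha₀1 hb1 hne)
      (hEA.trans hAP₁) hcop
    have hle : P₁ ≤ Subgroup.centralizer {a₀} := by
      rw [← hgen]
      apply iSup₂_le
      rintro e ⟨heE, he1⟩
      rcases heE with rfl | rfl | rfl | rfl
      · exact absurd rfl he1
      · exact inf_le_right
      · exact hbad e hb hbB
      · exact hbad _ (Ab.mul_mem ha₀ hb) hnot
    apply hya
    exact (Subgroup.mem_centralizer_singleton_iff.mp (hle hyP₁)).symm
  -- the element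
  set x := y⁻¹ * (a₀ * y * a₀⁻¹) with hx
  have hxP₁ : x ∈ P₁ := P₁.mul_mem (P₁.inv_mem hyP₁) (hconjP₁ a₀ ha₀ y hyP₁)
  have hx1 : x ≠ 1 := by
    intro h
    apply hya
    have : a₀ * y * a₀⁻¹ = y := by
      calc a₀ * y * a₀⁻¹ = y * x := by rw [hx]; group
        _ = y := by rw [h, mul_one]
    calc a₀ * y = (a₀ * y * a₀⁻¹) * a₀ := by group
      _ = y * a₀ := by rw [this]
  have hxinv : a₀ * x * a₀⁻¹ = x⁻¹ := by
    have e : a₀ * x * a₀⁻¹ = (a₀ * y * a₀⁻¹)⁻¹ * ((a₀ * a₀) * y * (a₀ * a₀)⁻¹) := by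
      rw [hx]; group
    rw [e, hA2 a₀ ha₀, hx]
    group
  have hxB := ((hmemP₁ x).mp hxP₁).2
  refine ⟨x, hxP₁.1, hx1, hxinv, ?_⟩
  intro b hb
  by_cases hbB : b ∈ B
  · left
    have := hxB b hbB
    calc b * x * b⁻¹ = x * b * b⁻¹ := by rw [this]
      _ = x := by group
  · right
    have h1 := hprod b hb hbB
    have h2 := hxB _ h1
    have h3 : b * x * b⁻¹ = a₀⁻¹ * x * a₀ := by
      calc b * x * b⁻¹ = a₀⁻¹ * ((a₀ * b) * x) * b⁻¹ := by group
        _ = a₀⁻¹ * (x * (a₀ * b)) * b⁻¹ := by rw [h2]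
        _ = a₀⁻¹ * x * a₀ := by group
    rw [h3]
    have h4 : a₀⁻¹ = a₀ := hinv a₀ ha₀
    calc a₀⁻¹ * x * a₀ = a₀ * x * a₀⁻¹ := by rw [h4]
      _ = x⁻¹ := hxinv

end S4F

end Cfsg.Agent.Lib.Lead
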