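import Mathlib
import Cfsg.Prelude.Def_LocalEven
import Cfsg.Agent.Lib.Lead.S4e
import Cfsg.Agent.Lib.Lead.S4F1
import Cfsg.Agent.Lib.Helper9.PCore
import Cfsg.Agent.S0199

set_option autoImplicit false

/-!
# Transvections in groups not involving the symmetric group of degree four

Let `V` be an abelian normal subgroup of the finite group `G` not involving `S₄`, and let `a` act on `V`
as a transvection (`a v a⁻¹ ∈ {v, v t}` for an involution `t` fixed by `a`, `a² ∈ C_G(V)`).  Then the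
image of `a` in `G / C_G(V)` lies in `O_2(G / C_G(V))` (Baer–Suzuki).
-/

namespace Cfsg.Agent.Lib.Lead.GlaubD

open Cfsg.Agent.Lib.Lead Cfsg.Agent.Lib.Helper9

variable {G : Type*} [Group G]

theorem card_four {t t' : G} (ht : t * t = 1) (ht' : t' * t' = 1) (hc : t * t' = t' * t)
    (h1 : t ≠ 1) (h2 : t' ≠ 1) (h3 : t ≠ t') : Nat.card ↥(S4F.four t t' ht ht' hc) = 4 := by
  classical
  have hset : ((S4F.four t t' ht ht' hc : Subgroup G) : Set G) =
      ↑({1, t, t', t * t'} : Finset G) := by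
    ext x
    simp only [SetLike.mem_coe, S4F.mem_four, Finset.coe_insert, Finset.coe_singleton,
      Set.mem_insert_iff, Set.mem_singleton_iff]
  have hcard : ({1, t, t', t * t'} : Finset G).card = 4 := by
    rw [Finset.card_insert_of_notMem, Finset.card_insert_of_notMem, Finset.card_insert_of_notMem,
      Finset.card_singleton]
    · rw [Finset.mem_singleton]
      intro h
      apply h1
      have : 1 * t' = t * t' := by rw [one_mul]; exact h
      exact (mul_right_cancel this).symm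
    · rw [Finset.mem_insert, Finset.mem_singleton]
      rintro (h | h)
      · exact h3 h
      · apply h2
        have : t * 1 = t * t' := by rw [mul_one]; exact h
        exact (mul_left_cancel this).symm
    · rw [Finset.mem_insert, Finset.mem_insert, Finset.mem_singleton]
      rintro (h | h | h)
      · exact h1 h.symm
      · exact h2 h.symm
      · apply h3
        have : t * t' = t' * t' := by rw [ht', ← h]
        exact mul_right_cancel this
  have : Nat.card ↥(S4F.four t t' ht ht' hc) =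
      Set.ncard ((S4F.four t t' ht ht' hc : Subgroup G) : Set G) := rfl
  rw [this, hset, Set.ncard_coe_finset, hcard]

/-- an element stabilising a chain `1 ≤ U₁ ≤ U ≤ V` with `U` of exponent two has fourth power
centralising `V` -/
theorem pow_four_centralizes {V U U₁ : Subgroup G} (y : G)
    (hU2 : ∀ u ∈ U, u * u = 1) (hU₁U : U₁ ≤ U)
    (h1 : ∀ v ∈ V, ∃ u ∈ U, y * v * y⁻¹ = v * u)
    (h2 : ∀ u ∈ U, ∃ u₁ ∈ U₁, y * u * y⁻¹ = u * u₁)
    (h3 : ∀ u₁ ∈ U₁, y * u₁ * y⁻¹ = u₁) :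
    ∀ v ∈ V, y ^ 4 * v * (y ^ 4)⁻¹ = v := by
  have hA : ∀ v ∈ V, ∃ u₁ ∈ U₁, y ^ 2 * v * (y ^ 2)⁻¹ = v * u₁ := by
    intro v hv
    obtain ⟨u, hu, e1⟩ := h1 v hv
    obtain ⟨u₁, hu₁, e2⟩ := h2 u hu
    refine ⟨u₁, hu₁, ?_⟩
    calc y ^ 2 * v * (y ^ 2)⁻¹ = y * (y * v * y⁻¹) * y⁻¹ := by
          rw [pow_two, mul_inv_rev]; simp only [mul_assoc]
      _ = y * (v * u) * y⁻¹ := by rw [e1]
      _ = (y * v * y⁻¹) * (y * u * y⁻¹) := by group
      _ = (v * u) * (u * u₁) := by rw [e1, e2]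
      _ = v * (u * u) * u₁ := by group
      _ = v * u₁ := by rw [hU2 u hu, mul_one]
  have hB : ∀ u₁ ∈ U₁, y ^ 2 * u₁ * (y ^ 2)⁻¹ = u₁ := by
    intro u₁ hu₁
    calc y ^ 2 * u₁ * (y ^ 2)⁻¹ = y * (y * u₁ * y⁻¹) * y⁻¹ := by
          rw [pow_two, mul_inv_rev]; simp only [mul_assoc]
      _ = u₁ := by rw [h3 u₁ hu₁, h3 u₁ hu₁]
  intro v hv
  obtain ⟨u₁, hu₁, e⟩ := hA v hv
  calc y ^ 4 * v * (y ^ 4)⁻¹ = y ^ 2 * (y ^ 2 * v * (y ^ 2)⁻¹) * (y ^ 2)⁻¹ := by
        rw [show y ^ 4 = y ^ 2 * y ^ 2 by rw [← pow_add], mul_inv_rev]; simp only [mul_assoc]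
    _ = y ^ 2 * (v * u₁) * (y ^ 2)⁻¹ := by rw [e]
    _ = (y ^ 2 * v * (y ^ 2)⁻¹) * (y ^ 2 * u₁ * (y ^ 2)⁻¹) := by group
    _ = (v * u₁) * u₁ := by rw [e, hB u₁ hu₁]
    _ = v * (u₁ * u₁) := by group
    _ = v := by rw [hU2 u₁ (hU₁U hu₁), mul_one]

/-- two involutions whose product has order dividing four generate a `2`-group -/
theorem isPGroup_two_sup_zpowers {H : Type*} [Group H] (s t : H) (hs : s * s = 1) (ht : t * t = 1)
    (hst : (s * t) ^ 4 = 1) : IsPGroup 2 ↥(Subgroup.zpowers s ⊔ Subgroup.zpowers t) := by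
  have hsi : s⁻¹ = s := inv_eq_of_mul_eq_one_right hs
  have hti : t⁻¹ = t := inv_eq_of_mul_eq_one_right ht
  have hzp : ∀ (x : H) (n : ℕ), x ^ 2 ^ n = 1 → IsPGroup 2 ↥(Subgroup.zpowers x) := by
    intro x n hx
    rintro ⟨_, ⟨k, rfl⟩⟩
    refine ⟨n, Subtype.ext ?_⟩
    show (x ^ k) ^ 2 ^ n = 1
    rw [← zpow_natCast, ← zpow_mul, mul_comm, zpow_mul, zpow_natCast, hx, one_zpow]
  have h1 : IsPGroup 2 ↥(Subgroup.zpowers s) := hzp s 1 (by rw [pow_one, pow_two]; exact hs)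
  have h2 : IsPGroup 2 ↥(Subgroup.zpowers (s * t)) := hzp (s * t) 2 (by norm_num; exact hst)
  have hconj : ∀ h ∈ Subgroup.zpowers (s * t), s * h * s⁻¹ ∈ Subgroup.zpowers (s * t) := by
    rintro _ ⟨k, rfl⟩
    have e : s * (s * t) ^ k * s⁻¹ = ((s * t)⁻¹) ^ k := by
      have e1 : s * (s * t) * s⁻¹ = (s * t)⁻¹ := by
        rw [mul_inv_rev, hsi, hti]
        calc s * (s * t) * s = (s * s) * t * s := by group
          _ = t * s := by rw [hs, one_mul]
      rw [← e1]
      exact (MulAut.conj s).toMonoidHom.map_zpow (s * t) k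
    show s * (s * t) ^ k * s⁻¹ ∈ Subgroup.zpowers (s * t)
    rw [e]
    exact Subgroup.zpow_mem _ (Subgroup.inv_mem _ (Subgroup.mem_zpowers _)) k
  have hsN : s ∈ Subgroup.normalizer ((Subgroup.zpowers (s * t) : Subgroup H) : Set H) := by
    rw [Subgroup.mem_normalizer_iff]
    intro h
    refine ⟨hconj h, fun hh => ?_⟩
    have := hconj _ hh
    have e : s * (s * h * s⁻¹) * s⁻¹ = h := by
      rw [hsi]
      calc s * (s * h * s) * s = (s * s) * h * (s * s) := by group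
        _ = h := by rw [hs, one_mul, mul_one]
    rwa [e] at this
  have h3 := IsPGroup.to_sup_of_normal_right' h1 h2 (Subgroup.zpowers_le.mpr hsN)
  apply h3.to_le
  apply sup_le le_sup_left
  rw [Subgroup.zpowers_le]
  have hmem : s⁻¹ * (s * t) ∈ Subgroup.zpowers s ⊔ Subgroup.zpowers (s * t) :=
    Subgroup.mul_mem _
      (le_sup_left (a := Subgroup.zpowers s) (Subgroup.inv_mem _ (Subgroup.mem_zpowers s)))
      (le_sup_right (a := Subgroup.zpowers s) (Subgroup.mem_zpowers (s * t)))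
  rwa [inv_mul_cancel_left] at hmem

end Cfsg.Agent.Lib.Lead.GlaubD
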