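import Mathlib
import Cfsg.Agent.Lib.Lead.GlaubD3

set_option autoImplicit false

/-!
# Pairs of transvections on an abelian normal subgroup (no `S₄` involved)
-/

namespace Cfsg.Agent.Lib.Lead.GlaubD

open Cfsg.Agent.Lib.Lead Cfsg.Agent.Lib.Helper9

variable {G : Type*} [Group G]

theorem conj_mul (y a b : G) : y * (a * b) * y⁻¹ = (y * a * y⁻¹) * (y * b * y⁻¹) := by group

theorem conj_cube (y u : G) : y ^ 3 * u * (y ^ 3)⁻¹ = y * (y * (y * u * y⁻¹) * y⁻¹) * y⁻¹ := by
  have : y ^ 3 = y * y * y := by rw [pow_succ, pow_two]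
  rw [this]; group

theorem transvection_pair [Finite G] (hS4 : ¬ Cfsg.Involves (Equiv.Perm (Fin 4)) G)
    (V : Subgroup G) (hVab : ∀ v ∈ V, ∀ w ∈ V, v * w = w * v)
    (a a' t t' : G) (htV : t ∈ V) (ht'V : t' ∈ V) (ht : t * t = 1) (ht' : t' * t' = 1)
    (ha : ∀ v ∈ V, a * v * a⁻¹ = v ∨ a * v * a⁻¹ = v * t)
    (ha' : ∀ v ∈ V, a' * v * a'⁻¹ = v ∨ a' * v * a'⁻¹ = v * t')
    (hat : a * t * a⁻¹ = t) (ha't' : a' * t' * a'⁻¹ = t')
    (ha2 : a * a ∈ Subgroup.centralizer (V : Set G)) :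
    ∀ v ∈ V, (a * a') ^ 4 * v * ((a * a') ^ 4)⁻¹ = v := by
  have hc : t * t' = t' * t := hVab t htV t' ht'V
  set U := S4F.four t t' ht ht' hc with hU
  have hU2 : ∀ u ∈ U, u * u = 1 := fun u hu => S4F.four_sq hu
  have hUV : U ≤ V := by
    rintro u (rfl | rfl | rfl | rfl)
    · exact V.one_mem
    · exact htV
    · exact ht'V
    · exact V.mul_mem htV ht'V
  have h1U : (1 : G) ∈ U := U.one_mem
  have htU : t ∈ U := Or.inr (Or.inl rfl)
  have ht'U : t' ∈ U := Or.inr (Or.inr (Or.inl rfl))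
  have htt'U : t * t' ∈ U := Or.inr (Or.inr (Or.inr rfl))
  have e1 : t' * t = t * t' := hc.symm
  have e2 : t * t' * t = t' := by rw [hc, mul_assoc, ht, mul_one]
  have e3 : t' * (t * t') = t := by rw [hc, ← mul_assoc, ht', one_mul]
  -- conjugation by `y = a a'`
  have hy : ∀ g : G, (a * a') * g * (a * a')⁻¹ = a * (a' * g * a'⁻¹) * a⁻¹ := by
    intro g; group
  have hat' : a * t' * a⁻¹ = t' ∨ a * t' * a⁻¹ = t' * t := ha t' ht'V
  have ha't : a' * t * a'⁻¹ = t ∨ a' * t * a'⁻¹ = t * t' := ha' t htV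
  have h1 : ∀ v ∈ V, ∃ u ∈ U, (a * a') * v * (a * a')⁻¹ = v * u := by
    intro v hv
    rw [hy]
    rcases ha' v hv with h | h
    · rw [h]
      rcases ha v hv with h' | h'
      · exact ⟨1, h1U, by rw [h', mul_one]⟩
      · exact ⟨t, htU, h'⟩
    · rw [h, conj_mul]
      rcases ha v hv with h' | h' <;> rcases hat' with h'' | h''
      · exact ⟨t', ht'U, by rw [h', h'']⟩
      · exact ⟨t * t', htt'U, by rw [h', h'', e1]⟩
      · exact ⟨t * t', htt'U, by rw [h', h'', mul_assoc]⟩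
      · exact ⟨t', ht'U, by rw [h', h'', mul_assoc, ← mul_assoc t, e2]⟩
  by_cases P2 : a' * t * a'⁻¹ = t
  · -- chain `1 ≤ ⟨t⟩ ≤ U ≤ V`
    set U₁ := S4F.four t 1 ht (one_mul 1) (by rw [mul_one, one_mul]) with hU₁
    have hU₁U : U₁ ≤ U := by
      rintro u (rfl | rfl | rfl | rfl)
      · exact h1U
      · exact htU
      · exact h1U
      · rw [mul_one]; exact htU
    have h1U₁ : (1 : G) ∈ U₁ := U₁.one_mem
    have htU₁ : t ∈ U₁ := Or.inr (Or.inl rfl)
    have hyt : (a * a') * t * (a * a')⁻¹ = t := by rw [hy, P2, hat]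
    have hyt' : (a * a') * t' * (a * a')⁻¹ = t' ∨ (a * a') * t' * (a * a')⁻¹ = t' * t := by
      rw [hy, ha't']; exact hat'
    apply pow_four_centralizes (a * a') hU2 hU₁U h1
    · rintro u (rfl | rfl | rfl | rfl)
      · exact ⟨1, h1U₁, by group⟩
      · exact ⟨1, h1U₁, by rw [hyt, mul_one]⟩
      · rcases hyt' with h | h
        · exact ⟨1, h1U₁, by rw [h, mul_one]⟩
        · exact ⟨t, htU₁, h⟩
      · rw [conj_mul, hyt]
        rcases hyt' with h | h
        · exact ⟨1, h1U₁, by rw [h, mul_one]⟩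
        · exact ⟨t, htU₁, by rw [h, mul_assoc]⟩
    · rintro u (rfl | rfl | rfl | rfl)
      · group
      · exact hyt
      · group
      · rw [mul_one]; exact hyt
  by_cases P1 : a * t' * a⁻¹ = t'
  · set U₁ := S4F.four t' 1 ht' (one_mul 1) (by rw [mul_one, one_mul]) with hU₁
    have hU₁U : U₁ ≤ U := by
      rintro u (rfl | rfl | rfl | rfl)
      · exact h1U
      · exact ht'U
      · exact h1U
      · rw [mul_one]; exact ht'U
    have h1U₁ : (1 : G) ∈ U₁ := U₁.one_mem
    have ht'U₁ : t' ∈ U₁ := Or.inr (Or.inl rfl)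
    have hyt' : (a * a') * t' * (a * a')⁻¹ = t' := by rw [hy, ha't', P1]
    have hyt : (a * a') * t * (a * a')⁻¹ = t ∨ (a * a') * t * (a * a')⁻¹ = t * t' := by
      rw [hy]
      rcases ha't with h | h
      · left; rw [h, hat]
      · right; rw [h, conj_mul, hat, P1]
    apply pow_four_centralizes (a * a') hU2 hU₁U h1
    · rintro u (rfl | rfl | rfl | rfl)
      · exact ⟨1, h1U₁, by group⟩
      · rcases hyt with h | h
        · exact ⟨1, h1U₁, by rw [h, mul_one]⟩
        · exact ⟨t', ht'U₁, h⟩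
      · exact ⟨1, h1U₁, by rw [hyt', mul_one]⟩
      · rw [conj_mul, hyt']
        rcases hyt with h | h
        · exact ⟨1, h1U₁, by rw [h, mul_one]⟩
        · exact ⟨t', ht'U₁, by rw [h]⟩
    · rintro u (rfl | rfl | rfl | rfl)
      · group
      · exact hyt'
      · group
      · rw [mul_one]; exact hyt'
  -- the symmetric group of degree four is involved
  exfalso
  apply hS4
  have hat'2 : a * t' * a⁻¹ = t' * t := hat'.resolve_left P1
  have ha't2 : a' * t * a'⁻¹ = t * t' := ha't.resolve_left P2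
  have ht1 : t ≠ 1 := by
    intro h
    apply P1
    rw [hat'2, h, mul_one]
  have ht'1 : t' ≠ 1 := by
    intro h
    apply P2
    rw [ha't2, h, mul_one]
  have htt' : t ≠ t' := by
    intro h
    apply P1
    rw [← h]
    exact hat
  have hU4 : Nat.card ↥U = 4 := card_four ht ht' hc ht1 ht'1 htt'
  -- action of `y`
  have hyt : (a * a') * t * (a * a')⁻¹ = t' := by
    rw [hy, ha't2, conj_mul, hat, hat'2, ← mul_assoc, e2]
  have hyt' : (a * a') * t' * (a * a')⁻¹ = t * t' := by
    rw [hy, ha't', hat'2, e1]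
  have hytt' : (a * a') * (t * t') * (a * a')⁻¹ = t := by
    rw [conj_mul, hyt, hyt', e3]
  have hy1 : (a * a') * 1 * (a * a')⁻¹ = 1 := by group
  have hyN : a * a' ∈ Subgroup.normalizer (U : Set G) := by
    apply Subgroup.mem_normalizer_fintype
    rintro u (rfl | rfl | rfl | rfl)
    · rw [hy1]; exact h1U
    · rw [hyt]; exact ht'U
    · rw [hyt']; exact htt'U
    · rw [hytt']; exact htU
  have hatt' : a * (t * t') * a⁻¹ = t' := by
    rw [conj_mul, hat, hat'2, ← mul_assoc, e2]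
  have haN : a ∈ Subgroup.normalizer (U : Set G) := by
    apply Subgroup.mem_normalizer_fintype
    rintro u (rfl | rfl | rfl | rfl)
    · have : a * 1 * a⁻¹ = 1 := by group
      rw [this]; exact h1U
    · rw [hat]; exact htU
    · rw [hat'2, e1]; exact htt'U
    · rw [hatt']; exact ht'U
  have hcube : ∀ u ∈ U, (a * a') ^ 3 * u * ((a * a') ^ 3)⁻¹ = u := by
    intro u hu
    rw [conj_cube]
    rcases hu with h0 | h0 | h0 | h0 <;> rw [h0]
    · rw [hy1, hy1, hy1]
    · rw [hyt, hyt', hytt']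
    · rw [hyt', hytt', hyt]
    · rw [hytt', hyt, hyt']
  apply S4.involves_S4 U hU4 hU2 (a * a') a hyN haN
  · rintro u hu h
    rcases hu with h0 | h0 | h0 | h0 <;> rw [h0] at h
    · exact h0
    · rw [hyt] at h; exact absurd h.symm htt'
    · rw [hyt'] at h
      exfalso; apply ht1
      have : t * t' = 1 * t' := by rw [one_mul]; exact h
      exact mul_right_cancel this
    · rw [hytt'] at h
      exfalso; apply ht'1
      have : t * 1 = t * t' := by rw [mul_one]; exact h
      exact (mul_left_cancel this).symm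
  · refine ⟨3, by decide, ?_⟩
    rw [Subgroup.mem_centralizer_iff]
    intro u hu
    have := hcube u hu
    calc u * (a * a') ^ 3 = ((a * a') ^ 3 * u * ((a * a') ^ 3)⁻¹) * (a * a') ^ 3 := by rw [this]
      _ = (a * a') ^ 3 * u := by group
  · intro h
    apply P1
    have := (Subgroup.mem_centralizer_iff.mp h) t' ht'U
    rw [← this, mul_inv_cancel_right]
  · refine ⟨1, ?_⟩
    rw [pow_one, pow_two]
    exact Subgroup.centralizer_le hUV ha2

end Cfsg.Agent.Lib.Lead.GlaubD
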