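import Mathlib
import Cfsg.Agent.Lib.Lead.GlaubD4

set_option autoImplicit false

/-!
# A transvection on an abelian normal subgroup lies in `O_2` modulo the centraliser (no `S₄` involved)
-/

namespace Cfsg.Agent.Lib.Lead.GlaubD

open Cfsg.Agent.Lib.Lead Cfsg.Agent.Lib.Helper9

variable {G : Type*} [Group G]

theorem mk_mem_pCore_of_transvection [Finite G] (hS4 : ¬ Cfsg.Involves (Equiv.Perm (Fin 4)) G)
    (V : Subgroup G) [hVn : V.Normal] (hVab : ∀ v ∈ V, ∀ w ∈ V, v * w = w * v)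
    (a t : G) (htV : t ∈ V) (ht : t * t = 1)
    (ha : ∀ v ∈ V, a * v * a⁻¹ = v ∨ a * v * a⁻¹ = v * t)
    (hat : a * t * a⁻¹ = t) (ha2 : a * a ∈ Subgroup.centralizer (V : Set G)) :
    (QuotientGroup.mk' (Subgroup.centralizer (V : Set G)) a) ∈
      Cfsg.pCore 2 (G ⧸ Subgroup.centralizer (V : Set G)) := by
  haveI : Fact (Nat.Prime 2) := ⟨Nat.prime_two⟩
  set C := Subgroup.centralizer (V : Set G) with hC
  set f := QuotientGroup.mk' C with hf
  have hfs : Function.Surjective f := QuotientGroup.mk'_surjective C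
  have hf1 : ∀ c : G, c ∈ C → f c = 1 := fun c hc => (QuotientGroup.eq_one_iff c).mpr hc
  have hfa2 : f a * f a = 1 := by rw [← map_mul]; exact hf1 _ ha2
  set X := Subgroup.zpowers (f a) with hX
  have hXp : IsPGroup 2 ↥X := by
    rintro ⟨_, ⟨k, rfl⟩⟩
    refine ⟨1, Subtype.ext ?_⟩
    show (f a ^ k) ^ 2 ^ 1 = 1
    rw [pow_one, ← zpow_natCast, ← zpow_mul, mul_comm, zpow_mul, zpow_natCast, pow_two, hfa2,
      one_zpow]
  have hBS : ∀ gb : G ⧸ C, IsPGroup 2 ↥(X ⊔ X.map (MulAut.conj gb).toMonoidHom) := by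
    intro gb
    obtain ⟨g, rfl⟩ := hfs gb
    have hmap : X.map (MulAut.conj (f g)).toMonoidHom = Subgroup.zpowers (f (g * a * g⁻¹)) := by
      rw [hX, MonoidHom.map_zpowers]
      congr 1
    rw [hmap]
    have ht'V : g * t * g⁻¹ ∈ V := hVn.conj_mem t htV g
    have ht' : (g * t * g⁻¹) * (g * t * g⁻¹) = 1 := by
      calc (g * t * g⁻¹) * (g * t * g⁻¹) = g * (t * t) * g⁻¹ := by group
        _ = 1 := by rw [ht]; group
    have ha' : ∀ v ∈ V, (g * a * g⁻¹) * v * (g * a * g⁻¹)⁻¹ = v ∨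
        (g * a * g⁻¹) * v * (g * a * g⁻¹)⁻¹ = v * (g * t * g⁻¹) := by
      intro v hv
      have hw : g⁻¹ * v * g ∈ V := by
        have := hVn.conj_mem v hv g⁻¹
        rwa [inv_inv] at this
      have e : (g * a * g⁻¹) * v * (g * a * g⁻¹)⁻¹ = g * (a * (g⁻¹ * v * g) * a⁻¹) * g⁻¹ := by
        group
      rw [e]
      rcases ha _ hw with h | h
      · left; rw [h]; group
      · right; rw [h]; group
    have ha't' : (g * a * g⁻¹) * (g * t * g⁻¹) * (g * a * g⁻¹)⁻¹ = g * t * g⁻¹ := by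
      calc (g * a * g⁻¹) * (g * t * g⁻¹) * (g * a * g⁻¹)⁻¹ = g * (a * t * a⁻¹) * g⁻¹ := by group
        _ = g * t * g⁻¹ := by rw [hat]
    have ha'2 : (g * a * g⁻¹) * (g * a * g⁻¹) ∈ C := by
      have : (g * a * g⁻¹) * (g * a * g⁻¹) = g * (a * a) * g⁻¹ := by group
      rw [this]
      exact (inferInstance : C.Normal).conj_mem _ ha2 g
    apply isPGroup_two_sup_zpowers (f a) (f (g * a * g⁻¹)) hfa2
    · rw [← map_mul]; exact hf1 _ ha'2
    · rw [← map_mul, ← map_pow]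
      apply hf1
      rw [hC, Subgroup.mem_centralizer_iff]
      intro v hv
      have := transvection_pair hS4 V hVab a (g * a * g⁻¹) t (g * t * g⁻¹) htV ht'V ht ht' ha ha'
        hat ha't' ha2 v hv
      calc v * (a * (g * a * g⁻¹)) ^ 4
          = ((a * (g * a * g⁻¹)) ^ 4 * v * ((a * (g * a * g⁻¹)) ^ 4)⁻¹) * (a * (g * a * g⁻¹)) ^ 4 := by
            rw [this]
        _ = (a * (g * a * g⁻¹)) ^ 4 * v := by group
  obtain ⟨N, hNn, hNp, hXN⟩ := Cfsg.Agent.S0199.result X hXp hBS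
  exact le_pCore hNn hNp (hXN (Subgroup.mem_zpowers _))

end Cfsg.Agent.Lib.Lead.GlaubD
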