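import Mathlib
import Cfsg.Agent.Lib.Lead.ZJ1
import Cfsg.Agent.Lib.Lead.FF2a
import Cfsg.Agent.Lib.Helper2.Basic

set_option autoImplicit false

/-!
# An orbit of length two forces a transvection

Let `V ≤ T` be an abelian normal subgroup of `G` and `A ∈ 𝒜(T)` with `|A ∩ V|` maximal among the members
of `𝒜(T)` not centralising `V`.  If some `A`-orbit on `V` has exactly two elements, then the elements of
`A` moving it act on `V` as transvections.
-/

namespace Cfsg.Agent.Lib.Lead.GlaubD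

open Cfsg.Agent.Lib.Lead Cfsg.Agent.Lib.Lead.ZJ

variable {G : Type*} [Group G]

theorem transvection_of_orbit_two [Finite G] {T V A : Subgroup G} [hVn : V.Normal]
    (hVT : V ≤ T) (hVab : ∀ v ∈ V, ∀ w ∈ V, v * w = w * v)
    (hA : A ∈ maxIn 0 T)
    (hmax : ∀ B ∈ maxIn 0 T, ¬ B ≤ Subgroup.centralizer (V : Set G) →
      Nat.card ↥(B ⊓ V) ≤ Nat.card ↥(A ⊓ V))
    (ω : G) (hωV : ω ∈ V) (a₀ : G) (ha₀A : a₀ ∈ A) (ha₀ : a₀ * ω * a₀⁻¹ ≠ ω)
    (horb : ∀ b ∈ A, b * ω * b⁻¹ ≠ ω → b * ω * b⁻¹ = a₀ * ω * a₀⁻¹) :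
    ∃ t ∈ V, t * t = 1 ∧ (∀ v ∈ V, a₀ * v * a₀⁻¹ = v ∨ a₀ * v * a₀⁻¹ = v * t) ∧
      a₀ * t * a₀⁻¹ = t ∧ a₀ * a₀ ∈ Subgroup.centralizer (V : Set G) := by
  classical
  set C := Subgroup.centralizer (V : Set G) with hC
  have hAT : A ≤ T := hA.1
  have hAexp : AbelExp 0 A := hA.2.1
  have hAab := hAexp.1
  have hVexp : AbelExp 0 V := ⟨hVab, fun a _ => pow_zero a⟩
  set B := A ⊓ Subgroup.centralizer ({ω} : Set G) with hB
  have hBmem : ∀ b : G, b ∈ B ↔ b ∈ A ∧ b * ω * b⁻¹ = ω := by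
    intro b
    rw [hB, Subgroup.mem_inf, Subgroup.mem_centralizer_iff]
    constructor
    · rintro ⟨h1, h2⟩
      refine ⟨h1, ?_⟩
      have := h2 ω (Set.mem_singleton ω)
      rw [← this, mul_inv_cancel_right]
    · rintro ⟨h1, h2⟩
      refine ⟨h1, fun h hh => ?_⟩
      rw [Set.mem_singleton_iff] at hh
      rw [hh]
      calc ω * b = (b * ω * b⁻¹) * b := by rw [h2]
        _ = b * ω := by group
  have hBA : B ≤ A := inf_le_left
  have ha₀B : a₀ ∉ B := fun h => ha₀ ((hBmem a₀).mp h).2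
  have hF2 : ∀ b ∈ A, b ∉ B → a₀⁻¹ * b ∈ B := by
    intro b hbA hbB
    have h1 : b * ω * b⁻¹ ≠ ω := fun h => hbB ((hBmem b).mpr ⟨hbA, h⟩)
    have h2 := horb b hbA h1
    rw [hBmem]
    refine ⟨A.mul_mem (A.inv_mem ha₀A) hbA, ?_⟩
    calc a₀⁻¹ * b * ω * (a₀⁻¹ * b)⁻¹ = a₀⁻¹ * (b * ω * b⁻¹) * a₀ := by group
      _ = a₀⁻¹ * (a₀ * ω * a₀⁻¹) * a₀ := by rw [h2]
      _ = ω := by group
  have hωA : ω ∉ A := by
    intro h
    apply ha₀
    rw [hAab a₀ ha₀A ω h, mul_inv_cancel_right]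
  set K := V ⊓ Subgroup.centralizer (B : Set G) with hK
  have hωK : ω ∈ K := by
    rw [hK, Subgroup.mem_inf, Subgroup.mem_centralizer_iff]
    refine ⟨hωV, fun b hb => ?_⟩
    have := ((hBmem b).mp hb).2
    calc b * ω = (b * ω * b⁻¹) * b := by group
      _ = ω * b := by rw [this]
  set A₂ := B ⊔ K with hA₂
  have hBA₂ : B ≤ A₂ := le_sup_left
  have hKA₂ : K ≤ A₂ := le_sup_right
  have hA₂exp : AbelExp 0 A₂ := (hAexp.mono hBA).sup (hVexp.mono inf_le_left) (by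
    intro x hx b hb
    rw [hK, Subgroup.mem_inf, Subgroup.mem_centralizer_iff] at hx
    exact (hx.2 b hb).symm)
  have hA₂T : A₂ ≤ T := sup_le (hBA.trans hAT) (inf_le_left.trans hVT)
  -- `|A| ≤ |A₂|`
  have hcard : Nat.card ↥A ≤ Nat.card ↥A₂ := by
    let f : ↥A → ↥A₂ := fun a =>
      if h : (a : G) ∈ B then ⟨a, hBA₂ h⟩
      else ⟨a₀⁻¹ * a * ω, A₂.mul_mem (hBA₂ (hF2 a a.2 h)) (hKA₂ hωK)⟩
    have hf : Function.Injective f := by
      intro a a' h
      by_cases ha : (a : G) ∈ B <;> by_cases ha' : (a' : G) ∈ B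
      · simp only [f, dif_pos ha, dif_pos ha'] at h
        have h1 : (a : G) = a' := congrArg (Subtype.val : ↥A₂ → G) h
        exact Subtype.ext h1
      · simp only [f, dif_pos ha, dif_neg ha'] at h
        exfalso
        have h1 : (a : G) = a₀⁻¹ * a' * ω := congrArg Subtype.val h
        apply hωA
        have : ω = (a₀⁻¹ * a')⁻¹ * a := by rw [h1]; group
        rw [this]
        exact A.mul_mem (A.inv_mem (A.mul_mem (A.inv_mem ha₀A) a'.2)) a.2
      · simp only [f, dif_neg ha, dif_pos ha'] at h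
        exfalso
        have h1 : a₀⁻¹ * a * ω = (a' : G) := congrArg Subtype.val h
        apply hωA
        have : ω = (a₀⁻¹ * a)⁻¹ * a' := by rw [← h1]; group
        rw [this]
        exact A.mul_mem (A.inv_mem (A.mul_mem (A.inv_mem ha₀A) a.2)) a'.2
      · simp only [f, dif_neg ha, dif_neg ha'] at h
        have h1 : a₀⁻¹ * (a : G) * ω = a₀⁻¹ * a' * ω := congrArg Subtype.val h
        exact Subtype.ext (mul_left_cancel (mul_right_cancel h1))
    exact Nat.card_le_card_of_injective f hf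
  have hA₂max : A₂ ∈ maxIn 0 T :=
    ⟨hA₂T, hA₂exp, fun B' hB'T hB' => (hA.2.2 B' hB'T hB').trans hcard⟩
  have hlt : A ⊓ V < A₂ ⊓ V := by
    rw [SetLike.lt_iff_le_and_exists]
    refine ⟨?_, ω, ⟨hKA₂ hωK, hωV⟩, fun h => hωA h.1⟩
    intro x hx
    refine ⟨hKA₂ ?_, hx.2⟩
    rw [hK, Subgroup.mem_inf, Subgroup.mem_centralizer_iff]
    exact ⟨hx.2, fun b hb => hAab b (hBA hb) x hx.1⟩
  have hA₂C : A₂ ≤ C := by
    by_contra hnot
    have := hmax A₂ hA₂max hnot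
    exact absurd (FF2.card_lt_of_lt2 hlt) (not_lt.mpr this)
  have hBC : B ≤ C := hBA₂.trans hA₂C
  -- `a₀² ∈ C`
  have ha₀i : a₀⁻¹ ∉ B := fun h => ha₀B (by simpa using B.inv_mem h)
  have ha₀2 : a₀ * a₀ ∈ C := by
    have h1 := hF2 a₀⁻¹ (A.inv_mem ha₀A) ha₀i
    have := C.inv_mem (hBC h1)
    rwa [mul_inv_rev, inv_inv] at this
  -- `|A| = 2 |B|`
  have hidxA : (B.subgroupOf A).index = 2 := by
    rw [Subgroup.index_eq_two_iff]
    refine ⟨⟨a₀, ha₀A⟩, fun b => ?_⟩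
    by_cases hb : (b : G) ∈ B
    · right
      refine ⟨Subgroup.mem_subgroupOf.mpr hb, fun h => ?_⟩
      rw [Subgroup.mem_subgroupOf] at h
      apply ha₀B
      have h2 : (b : G)⁻¹ * ((b : G) * a₀) ∈ B := B.mul_mem (B.inv_mem hb) h
      rwa [inv_mul_cancel_left] at h2
    · left
      refine ⟨?_, fun h => hb (Subgroup.mem_subgroupOf.mp h)⟩
      rw [Subgroup.mem_subgroupOf]
      have hbi : (b : G)⁻¹ ∉ B := fun h => hb (by simpa using B.inv_mem h)
      have h1 := hF2 (b : G)⁻¹ (A.inv_mem b.2) hbi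
      have := B.inv_mem h1
      rwa [mul_inv_rev, inv_inv, inv_inv] at this
  have hcardA : Nat.card ↥A = Nat.card ↥B * 2 := by
    have := Subgroup.card_mul_index (B.subgroupOf A)
    rw [hidxA, Nat.card_congr (Subgroup.subgroupOfEquivOfLe hBA).toEquiv] at this
    exact this.symm
  -- `|V| ≤ 2 |B ∩ V|`
  have hBVexp : AbelExp 0 (B ⊔ V) := (hAexp.mono hBA).sup hVexp (by
    intro x hx b hb
    exact Subgroup.mem_centralizer_iff.mp (hBC hb) x hx)
  have hBVT : B ⊔ V ≤ T := sup_le (hBA.trans hAT) hVT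
  have h1 := hA.2.2 _ hBVT hBVexp
  have h2 := Cfsg.Agent.Lib.Helper2.card_sup_mul_card_inf B V (by
    rw [Subgroup.normalizer_eq_top_iff.mpr hVn]; exact le_top)
  set D := B ⊓ V with hD
  have hDV : D ≤ V := inf_le_right
  have hcardV : Nat.card ↥V ≤ 2 * Nat.card ↥D := by
    have hpos : 0 < Nat.card ↥B := Nat.card_pos
    have h3 : Nat.card ↥B * Nat.card ↥V ≤ Nat.card ↥B * (2 * Nat.card ↥D) := by
      calc Nat.card ↥B * Nat.card ↥V = Nat.card ↥(B ⊔ V) * Nat.card ↥D := h2.symm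
        _ ≤ Nat.card ↥A * Nat.card ↥D := Nat.mul_le_mul_right _ h1
        _ = Nat.card ↥B * (2 * Nat.card ↥D) := by rw [hcardA]; ring
    exact Nat.le_of_mul_le_mul_left h3 hpos
  have hωD : ω ∉ D := fun h => hωA (hBA h.1)
  have hidxD : (D.subgroupOf V).index = 2 := by
    have h3 := Subgroup.card_mul_index (D.subgroupOf V)
    rw [Nat.card_congr (Subgroup.subgroupOfEquivOfLe hDV).toEquiv] at h3
    have hDpos : 0 < Nat.card ↥D := Nat.card_pos
    have hle : (D.subgroupOf V).index ≤ 2 := by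
      have : Nat.card ↥D * (D.subgroupOf V).index ≤ Nat.card ↥D * 2 := by
        rw [h3, mul_comm]; exact hcardV
      exact Nat.le_of_mul_le_mul_left this hDpos
    have hne1 : (D.subgroupOf V).index ≠ 1 := by
      intro h
      rw [Subgroup.index_eq_one, Subgroup.subgroupOf_eq_top] at h
      exact hωD (h hωV)
    have hne0 : (D.subgroupOf V).index ≠ 0 := Subgroup.index_ne_zero_of_finite
    omega
  have hiff : ∀ v w : G, v ∈ V → w ∈ V → (v * w ∈ D ↔ (v ∈ D ↔ w ∈ D)) := by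
    intro v w hv hw
    have := Subgroup.mul_mem_iff_of_index_two hidxD (a := ⟨v, hv⟩) (b := ⟨w, hw⟩)
    simpa [Subgroup.mem_subgroupOf] using this
  have hfixD : ∀ d ∈ D, a₀ * d * a₀⁻¹ = d := by
    intro d hd
    rw [hAab a₀ ha₀A d (hBA hd.1), mul_inv_cancel_right]
  -- the transvection
  set t := a₀ * ω * a₀⁻¹ * ω⁻¹ with ht
  have htV : t ∈ V := V.mul_mem (hVn.conj_mem ω hωV a₀) (V.inv_mem hωV)
  have hconjω : a₀ * ω * a₀⁻¹ = t * ω := by rw [ht, inv_mul_cancel_right]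
  have hdich : ∀ v ∈ V, a₀ * v * a₀⁻¹ = v ∨ a₀ * v * a₀⁻¹ = v * t := by
    intro v hv
    by_cases hvD : v ∈ D
    · left; exact hfixD v hvD
    · right
      have hωi : ω⁻¹ ∉ D := fun h => hωD (by simpa using D.inv_mem h)
      have hd : ω⁻¹ * v ∈ D := (hiff ω⁻¹ v (V.inv_mem hωV) hv).mpr
        ⟨fun h => absurd h hωi, fun h => absurd h hvD⟩
      have e : v = ω * (ω⁻¹ * v) := by group
      calc a₀ * v * a₀⁻¹ = a₀ * (ω * (ω⁻¹ * v)) * a₀⁻¹ := by rw [← e]
        _ = (a₀ * ω * a₀⁻¹) * (a₀ * (ω⁻¹ * v) * a₀⁻¹) := by group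
        _ = (t * ω) * (ω⁻¹ * v) := by rw [hconjω, hfixD _ hd]
        _ = t * v := by group
        _ = v * t := hVab t htV v hv
  have htt : t * t = 1 := by
    have hω2 : ω * ω ∈ D := (hiff ω ω hωV hωV).mpr Iff.rfl
    have h3 := hfixD _ hω2
    have h4 : a₀ * (ω * ω) * a₀⁻¹ = (t * ω) * (t * ω) := by
      rw [← hconjω]; group
    rw [h4] at h3
    have h5 : (t * ω) * (t * ω) = (t * t) * (ω * ω) := by
      calc (t * ω) * (t * ω) = t * (ω * t) * ω := by group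
        _ = t * (t * ω) * ω := by rw [hVab ω hωV t htV]
        _ = (t * t) * (ω * ω) := by group
    rw [h5] at h3
    exact mul_eq_right.mp h3
  refine ⟨t, htV, htt, hdich, ?_, ha₀2⟩
  rcases hdich t htV with h | h
  · exact h
  · rw [htt] at h
    have ht1 : t = 1 := by
      have : a₀⁻¹ * (a₀ * t * a₀⁻¹) * a₀ = t := by group
      rw [h] at this
      rw [← this]; group
    rw [ht1]; group

end Cfsg.Agent.Lib.Lead.GlaubD
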