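import Mathlib
import Cfsg.Prelude.Def_PLocal
import Cfsg.Prelude.Def_LocalEven
import Cfsg.Agent.Lib.Helper9.SylowAux
import Cfsg.Agent.Lib.Helper9.GroupFusion
import Cfsg.Agent.Lib.Lead.QuadJ
import Cfsg.Agent.Lib.Lead.Thom11
import Cfsg.Agent.Lib.Lead.GlaubA
import Cfsg.Agent.Lib.Lead.GlaubB
import Cfsg.Agent.Lib.Lead.GlaubD2
import Cfsg.Agent.Lib.Lead.GlaubD5
import Cfsg.Agent.Lib.Lead.GlaubD6

set_option autoImplicit false

/-!
# Glauberman's Theorem A for `p = 2` in groups not involving `S₄` (local form)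

If the symmetric group of degree four is not involved in `G`, `x ∈ Z(P) ∩ O_2(G)` for a Sylow
`2`-subgroup `P`, and `N_G(J(P))` centralises `x`, then `x ∈ Z(G)`.
-/

namespace Cfsg.Agent.Lib.Lead.GlaubD

open Cfsg Cfsg.Agent.Lib.Helper9 Cfsg.Agent.Lib.Lead Cfsg.Agent.Lib.Lead.Thom Cfsg.Agent.Lib.Lead.ZJ
open Cfsg.Agent.Lib.Lead.QuadCenter Cfsg.Agent.Lib.Lead.QuadJ Cfsg.Agent.Lib.Lead.GlaubA
open Cfsg.Agent.Lib.Lead.GlaubB
open scoped commutatorElement

universe u

theorem glauberman_center_S4free_aux :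
    ∀ (n : ℕ) (G : Type u) [Group G] [Finite G] (P : Sylow 2 G), Nat.card G = n →
      ¬ Cfsg.Involves (Equiv.Perm (Fin 4)) G →
      ∀ x : G, x ∈ Cfsg.pCore 2 G → x ∈ (P : Subgroup G) →
      (∀ y ∈ (P : Subgroup G), y * x = x * y) →
      (∀ g ∈ Subgroup.normalizer ((Cfsg.thompsonSubgroupAOf (P : Subgroup G) : Subgroup G) : Set G),
        g * x = x * g) →
      x ∈ Subgroup.center G := by
  intro n
  induction n using Nat.strong_induction_on with
  | _ n ih =>
  intro G _ _ P hn hS4 x hxQ₀ hxP hxc hN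
  -- `z = x ^ 2` is central
  have hz : x ^ 2 ∈ Subgroup.center G := thompsonA_center_pcore G P x hxQ₀ hxP hxc (fun g hg =>
    ((show Commute g x from hN g hg).pow_right 2).eq)
  set Q := Cfsg.pCore 2 G with hQdef
  haveI hQn : Q.Normal := pCore_normal' 2
  have hQp : IsPGroup 2 Q := pCore_isPGroup' 2
  have hQP : Q ≤ (P : Subgroup G) := pCore_le_sylow P
  set ZQ := (Subgroup.center ↥Q).map Q.subtype with hZQ
  haveI hZQn : ZQ.Normal := ⟨fun v hv h => map_center_conj_mem Q hv h⟩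
  have hZQQ : ZQ ≤ Q := fun v hv => ((mem_map_center_iff Q v).mp hv).1
  have hxQ : x ∈ Q := hxQ₀
  have hxZ : x ∈ ZQ := by
    rw [hZQ, mem_map_center_iff]
    exact ⟨hxQ, fun y hy => hxc y (hQP hy)⟩
  -- the normal closure of `x`
  set V := Subgroup.normalClosure ({x} : Set G) with hV
  haveI hVn : V.Normal := Subgroup.normalClosure_normal
  have hVZ : V ≤ ZQ := Subgroup.normalClosure_le_normal (Set.singleton_subset_iff.mpr hxZ)
  have hVP : V ≤ (P : Subgroup G) := hVZ.trans (hZQQ.trans hQP)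
  have hVab : ∀ a ∈ V, ∀ b ∈ V, a * b = b * a := fun a ha b hb =>
    ((mem_map_center_iff Q b).mp (hVZ hb)).2 a (hZQQ (hVZ ha))
  have hxV : x ∈ V := Subgroup.subset_normalClosure (Set.mem_singleton x)
  have hVexp : AbelExp 0 V := ⟨hVab, fun a _ => pow_zero a⟩
  set C := Subgroup.centralizer (V : Set G) with hC
  haveI hCn : C.Normal := Subgroup.normal_centralizer
  have hQC : Q ≤ C := by
    intro y hy
    rw [Subgroup.mem_centralizer_iff]
    intro v hv
    exact (((mem_map_center_iff Q v).mp (hVZ hv)).2 y hy).symm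
  have hCx : ∀ c ∈ C, c * x = x * c := fun c hc =>
    ((Subgroup.mem_centralizer_iff.mp hc) x hxV).symm
  -- the induction hypothesis for proper subgroups containing `P`
  have hIHsub : ∀ L : Subgroup G, (P : Subgroup G) ≤ L → L ≠ ⊤ → ∀ l ∈ L, l * x = x * l := by
    intro L hPL hLtop
    have hcardL : Nat.card L < n := by
      rw [← hn]
      have hle : Nat.card L ≤ Nat.card G := Subgroup.card_le_card_group L
      rcases hle.lt_or_eq with h | h
      · exact h
      · exact absurd ((Subgroup.card_eq_iff_eq_top L).mp h) hLtop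
    have hQ' : Q.subgroupOf L ≤ Cfsg.pCore 2 ↥L := by
      apply le_pCore
      · exact Subgroup.Normal.subgroupOf hQn L
      · exact hQp.comap_subtype
    have hS4L : ¬ Cfsg.Involves (Equiv.Perm (Fin 4)) ↥L := fun h => hS4 (involves_of_subgroup L h)
    have hIH := ih (Nat.card L) hcardL ↥L (P.subtype hPL) rfl hS4L ⟨x, hPL hxP⟩
      (hQ' (Subgroup.mem_subgroupOf.mpr hxQ))
      (by rw [Sylow.coe_subtype, Subgroup.mem_subgroupOf]; exact hxP)
      (by
        intro y hy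
        rw [Sylow.coe_subtype, Subgroup.mem_subgroupOf] at hy
        exact Subtype.ext (hxc y hy))
      (by
        intro m hm
        apply Subtype.ext
        simp only [Subgroup.coe_mul]
        apply hN
        have hmap := W_map_subgroupOf (p := 2) WJ hW2_WJ L (P : Subgroup G) hPL P.isPGroup'
        have hm' : m ∈ Subgroup.normalizer
            (((WJ ↥((P : Subgroup G).subgroupOf L)).map ((P : Subgroup G).subgroupOf L).subtype :
              Subgroup ↥L) : Set ↥L) := hm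
        rw [← WJ_map_eq, ← hmap, Subgroup.mem_normalizer_iff]
        have hmi : m⁻¹ ∈ Subgroup.normalizer
            (((WJ ↥((P : Subgroup G).subgroupOf L)).map ((P : Subgroup G).subgroupOf L).subtype :
              Subgroup ↥L) : Set ↥L) :=
          Subgroup.inv_mem _ hm'
        rw [Subgroup.mem_normalizer_iff] at hm' hmi
        intro w
        constructor
        · rintro ⟨a, ha, rfl⟩
          exact ⟨m * a * m⁻¹, (hm' a).mp ha, by simp⟩
        · rintro ⟨a, ha, hae⟩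
          have hw : w = ((m⁻¹ * a * m⁻¹⁻¹ : ↥L) : G) := by
            have : ((a : ↥L) : G) = (m : G) * w * (m : G)⁻¹ := hae
            simp only [Subgroup.coe_mul, Subgroup.coe_inv, this]
            group
          rw [hw]
          exact ⟨m⁻¹ * a * m⁻¹⁻¹, (hmi a).mp ha, rfl⟩)
    intro l hl
    have := Subgroup.mem_center_iff.mp hIH ⟨l, hl⟩
    exact congrArg Subtype.val this
  by_cases hall : ∀ A ∈ maxIn 0 (P : Subgroup G), A ≤ C
  · -- `J(P)` centralises `V`: Frattini argument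
    have hJC : Jn 0 G (P : Subgroup G) ≤ C := sSup_le hall
    obtain ⟨T₀, hT₀⟩ := exists_sylow_map_eq_inf P C
    have hfr := Sylow.normalizer_sup_eq_top T₀
    rw [hT₀] at hfr
    have hmid := Jn_mid 0 (P : Subgroup G) ((P : Subgroup G) ⊓ C) (le_inf (Jn_le 0 _) hJC)
      inf_le_left
    have h1 := (isJFunctor_Jn (p := 2) (n := 0) (dvd_zero 2)).sec.normalizer_le
      ((P : Subgroup G) ⊓ C) (P.isPGroup'.to_le inf_le_left)
    rw [hmid, ← thompsonSubgroupAOf_eq] at h1
    rw [Subgroup.mem_center_iff]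
    intro u
    have hu : u ∈ Subgroup.normalizer ((((P : Subgroup G) ⊓ C : Subgroup G)) : Set G) ⊔ C := by
      rw [hfr]; trivial
    obtain ⟨m, hm, c, hc, rfl⟩ := Subgroup.mem_sup_of_normal_right.mp hu
    have h2 : m * x = x * m := hN m (h1 hm)
    have h3 : c * x = x * c := hCx c hc
    calc m * c * x = m * (c * x) := by group
      _ = m * (x * c) := by rw [h3]
      _ = (m * x) * c := by group
      _ = x * m * c := by rw [h2]
      _ = x * (m * c) := by group
  push Not at hall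
  obtain ⟨A₀, hA₀, hA₀C⟩ := hall
  -- the preimage of `O_2(G / C)`
  set Y := (Cfsg.pCore 2 (G ⧸ C)).comap (QuotientGroup.mk' C) with hY
  haveI hYn : Y.Normal := (pCore_normal' 2).comap _
  have hYx : ∀ y ∈ Y, y * x = x * y := by
    intro y hy
    have h1 : QuotientGroup.mk' C y ∈ Cfsg.pCore 2 (G ⧸ C) := hy
    have h2 := pCore_le_sylow (P.mapSurjective (QuotientGroup.mk'_surjective C)) h1
    rw [Sylow.coe_mapSurjective] at h2
    obtain ⟨s, hsP, hs⟩ := h2
    have h3 : s⁻¹ * y ∈ C := QuotientGroup.eq.mp hs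
    have h4 := hxc s hsP
    have h5 := hCx _ h3
    calc y * x = s * ((s⁻¹ * y) * x) := by group
      _ = s * (x * (s⁻¹ * y)) := by rw [h5]
      _ = (s * x) * (s⁻¹ * y) := by group
      _ = (x * s) * (s⁻¹ * y) := by rw [h4]
      _ = x * y := by group
  by_cases hPY : (P : Subgroup G) ⊓ Y ≤ Q
  swap
  · -- Frattini argument with `Y`
    obtain ⟨T₀, hT₀⟩ := exists_sylow_map_eq_inf P Y
    have hfr := Sylow.normalizer_sup_eq_top T₀
    rw [hT₀] at hfr
    set L := Subgroup.normalizer ((((P : Subgroup G) ⊓ Y : Subgroup G)) : Set G) with hL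
    have hPL : (P : Subgroup G) ≤ L := by
      intro y hy
      rw [hL, Subgroup.mem_normalizer_iff]
      intro w
      constructor
      · rintro ⟨hw1, hw2⟩
        exact ⟨Subgroup.mul_mem _ (Subgroup.mul_mem _ hy hw1) (Subgroup.inv_mem _ hy),
          hYn.conj_mem w hw2 y⟩
      · rintro ⟨hw1, hw2⟩
        have e : w = y⁻¹ * (y * w * y⁻¹) * y⁻¹⁻¹ := by group
        rw [e]
        exact ⟨Subgroup.mul_mem _ (Subgroup.mul_mem _ (Subgroup.inv_mem _ hy) hw1)
          (Subgroup.inv_mem _ (Subgroup.inv_mem _ hy)), hYn.conj_mem _ hw2 y⁻¹⟩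
    have hLtop : L ≠ ⊤ := by
      intro htop
      have hnorm' : ((P : Subgroup G) ⊓ Y).Normal := Subgroup.normalizer_eq_top_iff.mp htop
      exact hPY (le_pCore hnorm' (P.isPGroup'.to_le inf_le_left))
    have hLx := hIHsub L hPL hLtop
    rw [Subgroup.mem_center_iff]
    intro u
    have hu : u ∈ L ⊔ Y := by rw [hfr]; trivial
    obtain ⟨m, hm, c, hc, rfl⟩ := Subgroup.mem_sup_of_normal_right.mp hu
    have h2 : m * x = x * m := hLx m hm
    have h3 : c * x = x * c := hYx c hc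
    calc m * c * x = m * (c * x) := by group
      _ = m * (x * c) := by rw [h3]
      _ = (m * x) * c := by group
      _ = x * m * c := by rw [h2]
      _ = x * (m * c) := by group
  -- the members of `𝒜(P)` not centralising `V` with `|A ∩ V|` maximal
  obtain ⟨A₁, ⟨hA₁m, hA₁C⟩, hA₁best⟩ := exists_max_subgroup
    (fun A : Subgroup G => A ∈ maxIn 0 (P : Subgroup G) ∧ ¬ A ≤ C)
    (fun A => Nat.card ↥(A ⊓ V)) ⟨A₀, hA₀, hA₀C⟩
  set 𝒬 : Set (Subgroup G) := {A | A ∈ maxIn 0 (P : Subgroup G) ∧ ¬ A ≤ C ∧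
    ∀ B ∈ maxIn 0 (P : Subgroup G), ¬ B ≤ C → Nat.card ↥(B ⊓ V) ≤ Nat.card ↥(A ⊓ V)} with h𝒬
  have hA₁𝒬 : A₁ ∈ 𝒬 := ⟨hA₁m, hA₁C, fun B hB hBC => hA₁best B ⟨hB, hBC⟩⟩
  have hVAV : ∀ A : Subgroup G, ⁅V, A⁆ ≤ V := fun A => Subgroup.commutator_le_left V A
  -- members of `𝒬` act quadratically
  have hquad𝒬 : ∀ A ∈ 𝒬, ⁅⁅V, A⁆, A⁆ = ⊥ := by
    rintro A ⟨hAm, hAC, hAbest⟩
    obtain ⟨h1, h2, h3⟩ := replacement_maxIn P.isPGroup' hVP hVexp hAm
    set A' := ⁅V, A⁆ ⊔ (A ⊓ Subgroup.centralizer ((⁅V, A⁆ : Subgroup G) : Set G)) with hA'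
    have hne : ⁅V, A⁆ ≠ ⊥ := by
      intro hbot
      apply hAC
      rw [Subgroup.commutator_comm, Subgroup.commutator_eq_bot_iff_le_centralizer] at hbot
      exact hbot
    have hA'C : ¬ A' ≤ C := by
      intro hle
      apply h3 hne
      rw [Subgroup.commutator_comm, Subgroup.commutator_eq_bot_iff_le_centralizer]
      exact hle
    have hc := hAbest A' h1 hA'C
    have hle : A ⊓ V ≤ A' ⊓ V := by
      intro y hy
      refine ⟨le_sup_right (a := ⁅V, A⁆) ⟨hy.1, ?_⟩, hy.2⟩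
      show y ∈ Subgroup.centralizer ((⁅V, A⁆ : Subgroup G) : Set G)
      rw [Subgroup.mem_centralizer_iff]
      intro e he
      exact hVab e (hVAV A he) y hy.2
    have heq : A ⊓ V = A' ⊓ V := Subgroup.eq_of_le_of_card_ge hle hc
    have hVA_A : ⁅V, A⁆ ≤ A := by
      intro e he
      have : e ∈ A' ⊓ V := ⟨le_sup_left (b := A ⊓ Subgroup.centralizer ((⁅V, A⁆ : Subgroup G) : Set G)) he,
        hVAV A he⟩
      rw [← heq] at this
      exact this.1
    rw [eq_bot_iff]
    calc ⁅⁅V, A⁆, A⁆ ≤ ⁅A, A⁆ := Subgroup.commutator_mono hVA_A le_rfl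
      _ = ⊥ := by
        rw [Subgroup.commutator_eq_bot_iff_le_centralizer]
        intro a ha
        rw [Subgroup.mem_centralizer_iff]
        intro b hb
        exact hAm.2.1.1 b hb a ha
  -- no orbits of length two
  have hno2 : ∀ A ∈ 𝒬, ∀ v ∈ V, ∀ a ∈ A, a * v * a⁻¹ ≠ v →
      ∃ b ∈ A, b * v * b⁻¹ ≠ v ∧ b * v * b⁻¹ ≠ a * v * a⁻¹ := by
    intro A hA v hv a haA hav
    by_contra hcon
    push Not at hcon
    obtain ⟨t, htV, htt, hdich, hat, ha2⟩ :=
      transvection_of_orbit_two hVP hVab hA.1 hA.2.2 v hv a haA hav hcon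
    have hmem := mk_mem_pCore_of_transvection hS4 V hVab a t htV htt hdich hat ha2
    have haY : a ∈ Y := hmem
    have haC : a ∈ C := hQC (hPY ⟨hA.1.1 haA, haY⟩)
    apply hav
    have := (Subgroup.mem_centralizer_iff.mp haC) v hv
    rw [← this, mul_inv_cancel_right]
  set Jq := sSup 𝒬 with hJq
  have hJqP : Jq ≤ (P : Subgroup G) := sSup_le (fun A hA => hA.1.1)
  have hJqp : IsPGroup 2 ↥Jq := P.isPGroup'.to_le hJqP
  have hJqC : ¬ Jq ≤ C := fun hle => hA₁C ((le_sSup hA₁𝒬).trans hle)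
  -- conjugates of members of `𝒬` inside `P` are members of `𝒬`
  have hconj𝒬 : ∀ A ∈ 𝒬, ∀ c : G, A.map (MulAut.conj c).toMonoidHom ≤ (P : Subgroup G) →
      A.map (MulAut.conj c).toMonoidHom ∈ 𝒬 := by
    intro A hA c hle
    refine ⟨⟨hle, hA.1.2.1.map (MulAut.conj c), fun B hBP hB => ?_⟩, ?_, ?_⟩
    · rw [card_map_conj]
      exact hA.1.2.2 B hBP hB
    · intro hAC
      apply hA.2.1
      intro a ha
      have h1 : c * a * c⁻¹ ∈ C := hAC ⟨a, ha, rfl⟩
      have h2 := hCn.conj_mem _ h1 c⁻¹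
      have e : c⁻¹ * (c * a * c⁻¹) * c⁻¹⁻¹ = a := by group
      rwa [e] at h2
    · intro B hB hBC
      have h1 : (A ⊓ V).map (MulAut.conj c).toMonoidHom = A.map (MulAut.conj c).toMonoidHom ⊓ V := by
        rw [Subgroup.map_inf _ _ _ (MulAut.conj c).injective, map_conj_normal V c]
      rw [← h1, card_map_conj]
      exact hA.2.2 B hB hBC
  have hconjP : ∀ A ∈ 𝒬, ∀ g ∈ (P : Subgroup G), A.map (MulAut.conj g).toMonoidHom ∈ 𝒬 := by
    intro A hA g hg
    apply hconj𝒬 A hA g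
    rintro _ ⟨a, ha, rfl⟩
    exact Subgroup.mul_mem _ (Subgroup.mul_mem _ hg (hA.1.1 ha)) (Subgroup.inv_mem _ hg)
  -- if `k` conjugates `Jq` into `P` then `k` normalises `Jq`
  have hnormJq : ∀ k : G, Jq.map (MulAut.conj k).toMonoidHom ≤ (P : Subgroup G) →
      k ∈ Subgroup.normalizer (Jq : Set G) := by
    intro k hk
    apply mem_normalizer_of_map_conj_le
    rw [Subgroup.map_le_iff_le_comap]
    apply sSup_le
    intro A hA
    rw [← Subgroup.map_le_iff_le_comap]
    exact le_sSup (hconj𝒬 A hA k ((Subgroup.map_mono (le_sSup hA)).trans hk))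
  -- `H = N_G(Jq)`
  set H := Subgroup.normalizer (Jq : Set G) with hH
  have hPH : (P : Subgroup G) ≤ H := by
    intro y hy
    apply hnormJq
    rintro _ ⟨a, ha, rfl⟩
    exact Subgroup.mul_mem _ (Subgroup.mul_mem _ hy (hJqP ha)) (Subgroup.inv_mem _ hy)
  have hHtop : H ≠ ⊤ := by
    intro htop
    have hnorm' : Jq.Normal := Subgroup.normalizer_eq_top_iff.mp htop
    have hle : Jq ≤ Q := le_pCore hnorm' hJqp
    exact hJqC (hle.trans hQC)
  have hHx : ∀ h ∈ H, h * x = x * h := hIHsub H hPH hHtop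
  -- the trace argument
  apply trace_center2 V hVab x hxV hz 𝒬 hJqp (fun A hA g hg => hconjP A hA g (hJqP hg))
    hquad𝒬 hno2 (fun a ha => hxc a (hJqP ha))
  intro g hg
  set K := Subgroup.centralizer ({x} : Set G) with hK
  have hKmem : ∀ c : G, c ∈ K ↔ x * c = c * x := by
    intro c
    rw [hK, Subgroup.mem_centralizer_iff]
    constructor
    · intro h
      exact h x (Set.mem_singleton x)
    · intro h y hy
      rw [Set.mem_singleton_iff] at hy
      rw [hy]; exact h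
  have hPK : (P : Subgroup G) ≤ K := fun y hy => (hKmem y).mpr (hxc y hy).symm
  set R := Jq.map (MulAut.conj g⁻¹).toMonoidHom with hR
  have hRK : R ≤ K := by
    rintro _ ⟨a, ha, rfl⟩
    rw [hKmem]
    show x * (g⁻¹ * a * g⁻¹⁻¹) = g⁻¹ * a * g⁻¹⁻¹ * x
    have := hg a ha
    calc x * (g⁻¹ * a * g⁻¹⁻¹) = g⁻¹ * ((g * x * g⁻¹) * a) * g := by group
      _ = g⁻¹ * (a * (g * x * g⁻¹)) * g := by rw [this]
      _ = g⁻¹ * a * g⁻¹⁻¹ * x := by group
  have hRp : IsPGroup 2 ↥R := hJqp.map _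
  obtain ⟨m, hmK, hm⟩ := exists_conj_mem_sylow_of_le P K hPK R hRp hRK
  set k := m * g⁻¹ with hk
  have hkP : Jq.map (MulAut.conj k).toMonoidHom ≤ (P : Subgroup G) := by
    rintro _ ⟨a, ha, rfl⟩
    have h4 := hm (g⁻¹ * a * g⁻¹⁻¹) ⟨a, ha, rfl⟩
    have e : m * (g⁻¹ * a * g⁻¹⁻¹) * m⁻¹ = k * a * k⁻¹ := by rw [hk]; group
    rw [e] at h4
    exact h4
  have hkH : k ∈ H := hnormJq k hkP
  have h5 : k * x = x * k := hHx k hkH
  have h6 : x * m = m * x := (hKmem m).mp hmK
  have h7 : g = k⁻¹ * m := by rw [hk]; group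
  have h8 : k⁻¹ * x = x * k⁻¹ := by
    calc k⁻¹ * x = k⁻¹ * (x * k) * k⁻¹ := by group
      _ = k⁻¹ * (k * x) * k⁻¹ := by rw [h5]
      _ = x * k⁻¹ := by group
  calc g * x * g⁻¹ = k⁻¹ * (m * x) * m⁻¹ * k := by rw [h7]; group
    _ = k⁻¹ * (x * m) * m⁻¹ * k := by rw [h6]
    _ = (k⁻¹ * x) * k := by group
    _ = x * k⁻¹ * k := by rw [h8]
    _ = x := by group

/-- **Glauberman's Theorem A, local form, `p = 2`, no `S₄` involved.** -/
theorem glauberman_center_S4free_pcore (G : Type u) [Group G] [Finite G]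
    (hS4 : ¬ Cfsg.Involves (Equiv.Perm (Fin 4)) G) (P : Sylow 2 G)
    (x : G) (hxQ : x ∈ Cfsg.pCore 2 G) (hxP : x ∈ (P : Subgroup G))
    (hxc : ∀ y ∈ (P : Subgroup G), y * x = x * y)
    (hN : ∀ g ∈ Subgroup.normalizer
      ((Cfsg.thompsonSubgroupAOf (P : Subgroup G) : Subgroup G) : Set G), g * x = x * g) :
    x ∈ Subgroup.center G :=
  glauberman_center_S4free_aux (Nat.card G) G P rfl hS4 x hxQ hxP hxc hN

/-- the constrained form -/
theorem glauberman_center_S4free (G : Type u) [Group G] [Finite G]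
    (hS4 : ¬ Cfsg.Involves (Equiv.Perm (Fin 4)) G) (P : Sylow 2 G)
    (hcent : Subgroup.centralizer ((Cfsg.pCore 2 G : Subgroup G) : Set G) ≤ Cfsg.pCore 2 G)
    (x : G) (hxP : x ∈ (P : Subgroup G)) (hxc : ∀ y ∈ (P : Subgroup G), y * x = x * y)
    (hN : ∀ g ∈ Subgroup.normalizer
      ((Cfsg.thompsonSubgroupAOf (P : Subgroup G) : Subgroup G) : Set G), g * x = x * g) :
    x ∈ Subgroup.center G := by
  apply glauberman_center_S4free_pcore G hS4 P x ?_ hxP hxc hN
  apply hcent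
  rw [Subgroup.mem_centralizer_iff]
  intro y hy
  exact hxc y (pCore_le_sylow P hy)

end Cfsg.Agent.Lib.Lead.GlaubD
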