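import Mathlib
import Cfsg.Agent.Lib.Lead.SCF2
import Cfsg.Agent.Lib.Lead.Qd5

set_option autoImplicit false

/-! Local control of fusion by `N(Z(J(S)))`: basic tools. -/

namespace Cfsg.Agent.Lib.Lead

namespace LocZJ

open Cfsg.Agent.Lib.Helper4 Cfsg.Agent.Lib.Helper7

universe u

variable {G : Type u} [Group G]

/-- the conjugation by `g` on `A` is realized by an element of `N` -/
def Real (N : Subgroup G) (A : Set G) (g : G) : Prop :=
  ∃ n ∈ N, ∀ a ∈ A, n * a * n⁻¹ = g * a * g⁻¹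

theorem Real.mono {N : Subgroup G} {A B : Set G} {g : G} (h : Real N A g) (hBA : B ⊆ A) :
    Real N B g := by
  obtain ⟨n, hn, h⟩ := h
  exact ⟨n, hn, fun b hb => h b (hBA hb)⟩

theorem Real.congr {N : Subgroup G} {A : Set G} {g g' : G} (h : Real N A g)
    (he : ∀ a ∈ A, g * a * g⁻¹ = g' * a * g'⁻¹) : Real N A g' := by
  obtain ⟨n, hn, h⟩ := h
  exact ⟨n, hn, fun a ha => (h a ha).trans (he a ha)⟩

theorem Real.trans {N : Subgroup G} {A : Set G} {g h : G} (h1 : Real N A g)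
    (h2 : Real N (lc g A) h) : Real N A (h * g) := by
  obtain ⟨n1, hn1, e1⟩ := h1
  obtain ⟨n2, hn2, e2⟩ := h2
  refine ⟨n2 * n1, N.mul_mem hn2 hn1, ?_⟩
  intro a ha
  have h3 := e2 (g * a * g⁻¹) ⟨a, ha, rfl⟩
  calc n2 * n1 * a * (n2 * n1)⁻¹ = n2 * (n1 * a * n1⁻¹) * n2⁻¹ := by group
    _ = n2 * (g * a * g⁻¹) * n2⁻¹ := by rw [e1 a ha]
    _ = h * (g * a * g⁻¹) * h⁻¹ := h3
    _ = h * g * a * (h * g)⁻¹ := by group

theorem real_one (N : Subgroup G) (A : Set G) : Real N A 1 :=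
  ⟨1, N.one_mem, fun _ _ => rfl⟩

/-- `p`-centric subgroups, in the strong sense -/
def PC (p : ℕ) (T : Subgroup G) : Prop :=
  ∀ y ∈ Subgroup.centralizer (T : Set G), (∃ k : ℕ, y ^ p ^ k = 1) → y ∈ T

theorem PC.mono {p : ℕ} {T Q : Subgroup G} (h : PC p T) (hTQ : T ≤ Q) : PC p Q :=
  fun y hy hk => hTQ (h y (Subgroup.centralizer_le hTQ hy) hk)

theorem PC.conj {p : ℕ} {T : Subgroup G} (h : PC p T) (g : G) : PC p (Helper7.cj g T) := by
  intro y hy hk
  rw [mem_cj]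
  apply h
  · rw [Subgroup.mem_centralizer_iff]
    intro t ht
    have h1 : g * t * g⁻¹ ∈ cj g T := by
      rw [mem_cj]
      have : g⁻¹ * (g * t * g⁻¹) * g = t := by group
      rw [this]; exact ht
    have h2 := Subgroup.mem_centralizer_iff.mp hy _ h1
    calc t * (g⁻¹ * y * g) = g⁻¹ * ((g * t * g⁻¹) * y) * g := by group
      _ = g⁻¹ * (y * (g * t * g⁻¹)) * g := by rw [h2]
      _ = g⁻¹ * y * g * t := by group
  · obtain ⟨k, hk⟩ := hk
    refine ⟨k, ?_⟩
    have : (g⁻¹ * y * g) ^ p ^ k = g⁻¹ * y ^ p ^ k * g := by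
      have := conj_pow (a := g⁻¹) (b := y) (i := p ^ k)
      simpa using this
    rw [this, hk]; group

theorem center_le_of_pc {p : ℕ} {S T : Subgroup G} (hS : IsPGroup p S) (h : PC p T) (hTS : T ≤ S) :
    S ⊓ Subgroup.centralizer (S : Set G) ≤ T := by
  intro y hy
  apply h y (Subgroup.centralizer_le hTS hy.2)
  obtain ⟨k, hk⟩ := hS ⟨y, hy.1⟩
  exact ⟨k, by simpa using congrArg Subtype.val hk⟩

section Finite

variable [Finite G] {p : ℕ} [Fact p.Prime]

/-- `Z(J(T))`, abelian version -/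
abbrev W (T : Subgroup G) : Subgroup G := ZJ.wsub 0 T

theorem center_le_W (T : Subgroup G) : T ⊓ Subgroup.centralizer (T : Set G) ≤ W T := by
  apply ZJ.le_wsub_of_centralizes inf_le_left
  · constructor
    · intro x hx y hy
      exact (Subgroup.mem_centralizer_iff.mp hy.2 x hx.1)
    · intro a _
      exact pow_zero a
  · intro A hA x hx a ha
    exact (Subgroup.mem_centralizer_iff.mp hx.2 a (hA.1 ha)).symm

theorem W_le (T : Subgroup G) : W T ≤ T := ZJ.wsub_le 0 T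

theorem W_cj (g : G) (T : Subgroup G) : W (cj g T) = cj g (W T) :=
  (ZJ.map_wsub 0 T (MulAut.conj g)).symm

theorem center_le_W_of_pc {S T : Subgroup G} (hS : IsPGroup p S) (h : PC p T) (hTS : T ≤ S) :
    S ⊓ Subgroup.centralizer (S : Set G) ≤ W T := by
  refine le_trans ?_ (center_le_W T)
  refine le_inf (center_le_of_pc hS h hTS) ?_
  exact inf_le_right.trans (Subgroup.centralizer_le hTS)


/-- members of the Alperin–Goldschmidt family are `p`-centric -/
theorem pc_of_goldFam {S : Sylow p G} {D : Subgroup G} (hD : D ∈ GoldFam S) : PC p D := by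
  obtain ⟨hDS, hCL, ⟨hKL, hDL, hcomm, hKD, hsup⟩, _⟩ := hD
  obtain ⟨N, hNdef⟩ : ∃ N : Subgroup G, N = Subgroup.normalizer (D : Set G) := ⟨_, rfl⟩
  rw [← hNdef] at hCL hKL hDL hcomm hKD hsup
  have hDN : D ≤ N := by rw [hNdef]; exact Subgroup.le_normalizer
  have hDp : IsPGroup p D := S.isPGroup'.to_le hDS
  intro y hy ⟨k, hk⟩
  set Y := Subgroup.zpowers y with hY
  have hYp : IsPGroup p Y := by
    rintro ⟨z, hz⟩
    obtain ⟨i, rfl⟩ := Subgroup.mem_zpowers_iff.mp hz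
    refine ⟨k, Subtype.ext ?_⟩
    show (y ^ i) ^ p ^ k = 1
    rw [← zpow_natCast, ← zpow_mul, mul_comm, zpow_mul, zpow_natCast, hk, one_zpow]
  have hYD : Y ≤ Subgroup.normalizer (D : Set G) := by
    rw [hY, Subgroup.zpowers_le]
    exact Subgroup.centralizer_le_normalizer _ hy
  have hQp : IsPGroup p (Y ⊔ D : Subgroup G) := IsPGroup.to_sup_of_normal_right' hYp hDp hYD
  have hQL : Y ⊔ D ≤ LG p N := sup_le (by rw [hY, Subgroup.zpowers_le]; exact hCL hy) hDL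
  have hQK : (Y ⊔ D) ⊓ KG p N = ⊥ :=
    Cfsg.Agent.Lib.Helper6.isPGroup_inf_coprime_eq_bot (KG_coprime N) hQp
  have hDK : D ⊓ KG p N = ⊥ := by rw [inf_comm]; exact hKD
  have h1 := Cfsg.Agent.Lib.Lead.card_sup_of_disjoint (Y ⊔ D) (KG p N)
    ((hQL.trans (LG_le N)).trans (le_normalizer_KG N)) hQK
  have h2 := Cfsg.Agent.Lib.Lead.card_sup_of_disjoint D (KG p N) (hDN.trans (le_normalizer_KG N)) hDK
  have h3 : (Y ⊔ D) ⊔ KG p N ≤ D ⊔ KG p N := by
    rw [sup_comm D, hsup]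
    exact sup_le hQL hKL
  have h4 := Subgroup.card_le_of_le h3
  rw [h1, h2] at h4
  have h5 : Nat.card (Y ⊔ D : Subgroup G) ≤ Nat.card D := Nat.le_of_mul_le_mul_right h4 Nat.card_pos
  have h6 : D = Y ⊔ D := Subgroup.eq_of_le_of_card_ge le_sup_right h5
  rw [h6]
  exact (le_sup_left : Y ≤ Y ⊔ D) (Subgroup.mem_zpowers y)

end Finite

end LocZJ

end Cfsg.Agent.Lib.Lead
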