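import Mathlib
import Cfsg.Agent.Lib.Lead.LocZJ1

set_option autoImplicit false

/-! Local control of fusion by `N(Z(J(S)))`: transfer lemmas. -/

namespace Cfsg.Agent.Lib.Lead

namespace LocZJ

open Cfsg.Agent.Lib.Helper4 Cfsg.Agent.Lib.Helper7

universe u

variable {G : Type u} [Group G] [Finite G] {p : ℕ} [Fact p.Prime]

/-- control of fusion in a `Qd(p)`-free subgroup `M`, relative to a Sylow subgroup `R` of `M` -/
theorem ctl_in_subgroup (hp : p ≠ 2) (M R : Subgroup G) (hqf : SCF.QF p ↥M) (hR : SylIn p M R)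
    (A : Set G) (g : G) (hg : g ∈ M) (hA : A ⊆ (R : Set G)) (hgA : lc g A ⊆ (R : Set G)) :
    ∃ x ∈ M, x ∈ Subgroup.normalizer (W R : Set G) ∧ ∀ a ∈ A, x * a * x⁻¹ = g * a * g⁻¹ := by
  obtain ⟨hRM, hRp, hRi⟩ := hR
  have hR'p : IsPGroup p (R.subgroupOf M) := hRp.comap_subtype
  have hRi' : ¬ p ∣ (R.subgroupOf M).index := hRi
  obtain ⟨R', hR'c⟩ : ∃ R' : Sylow p ↥M, (R' : Subgroup ↥M) = R.subgroupOf M :=
    ⟨hR'p.toSylow hRi', rfl⟩
  obtain ⟨x', hx', hact⟩ := SCF.ctl_zj_of_qf hp hqf R' {a' : ↥M | (a' : G) ∈ A} ⟨g, hg⟩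
    (by
      intro a' ha'
      rw [SetLike.mem_coe, hR'c, Subgroup.mem_subgroupOf]
      exact hA ha')
    (by
      rintro _ ⟨a', ha', rfl⟩
      rw [SetLike.mem_coe, hR'c, Subgroup.mem_subgroupOf]
      exact hgA ⟨(a' : G), ha', rfl⟩)
  have hmap : (ZJ.wsub 0 (R.subgroupOf M)).map M.subtype = W R := by
    show _ = ZJ.wsub 0 R
    rw [ZJ.wsub_map_of_injective 0 (R.subgroupOf M) M.subtype M.subtype_injective,
      Subgroup.map_subgroupOf_eq_of_le hRM]
  rw [ZJ.centerThompsonAOf_eq, hR'c] at hx'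
  refine ⟨(x' : G), x'.2, ?_, ?_⟩
  · apply Subgroup.mem_normalizer_fintype
    intro y hy
    rw [SetLike.mem_coe, ← hmap] at hy
    obtain ⟨y', hy', rfl⟩ := hy
    rw [SetLike.mem_coe, ← hmap]
    exact ⟨x' * y' * x'⁻¹, (Subgroup.mem_normalizer_iff.mp hx' y').mp hy', rfl⟩
  · intro a ha
    have haM : a ∈ M := hRM (hA ha)
    have := hact ⟨a, haM⟩ ha
    exact congrArg (fun w : ↥M => (w : G)) this

/-- subgroups without `SL₂(p)` sections are `Qd(p)`-free -/
theorem qf_of_sl2_free {M : Subgroup G}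
    (h : ¬ ∃ (H K : Subgroup G) (_ : (K.subgroupOf H).Normal), H ≤ M ∧
      Nonempty ((H ⧸ K.subgroupOf H) ≃* Matrix.SpecialLinearGroup (Fin 2) (ZMod p))) :
    SCF.QF p ↥M := by
  intro hs
  apply h
  have h1 : Cfsg.Agent.Lib.Helper9.IsSectionOf (Matrix.SpecialLinearGroup (Fin 2) (ZMod p))
      ↥(Cfsg.qd p) :=
    ⟨⊤, (QdLib.beta p).comp (⊤ : Subgroup ↥(Cfsg.qd p)).subtype, fun A => by
      obtain ⟨x, hx⟩ := QdLib.beta_surjective p A
      exact ⟨⟨x, Subgroup.mem_top x⟩, hx⟩⟩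
  obtain ⟨K', f, hf⟩ := h1.trans hs
  set H := K'.map M.subtype with hH
  set e := K'.equivMapOfInjective M.subtype M.subtype_injective with he
  set f' : ↥H →* Matrix.SpecialLinearGroup (Fin 2) (ZMod p) := f.comp e.symm.toMonoidHom with hf'
  have hf's : Function.Surjective f' := hf.comp e.symm.surjective
  have hker : (f'.ker.map H.subtype).subgroupOf H = f'.ker := by
    ext x
    rw [Subgroup.mem_subgroupOf]
    constructor
    · rintro ⟨y, hy, hyx⟩
      have : y = x := Subtype.ext hyx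
      rwa [← this]
    · intro hx
      exact ⟨x, hx, rfl⟩
  have hN : ((f'.ker.map H.subtype).subgroupOf H).Normal := by
    rw [hker]; infer_instance
  refine ⟨H, f'.ker.map H.subtype, hN, Subgroup.map_subtype_le _, ⟨?_⟩⟩
  exact (QuotientGroup.quotientMulEquivOfEq hker).trans
    (QuotientGroup.quotientKerEquivOfSurjective f' hf's)

end LocZJ

end Cfsg.Agent.Lib.Lead
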