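import Mathlib
import Cfsg.Agent.Lib.Lead.LocZJ2

set_option autoImplicit false

/-! Local control of fusion by `N(Z(J(S)))`: the induction. -/

namespace Cfsg.Agent.Lib.Lead

namespace LocZJ

open Cfsg.Agent.Lib.Helper4 Cfsg.Agent.Lib.Helper7

universe u

variable {G : Type u} [Group G] [Finite G] {p : ℕ} [Fact p.Prime]

/-- the local hypothesis -/
def Hyp (p : ℕ) (S : Subgroup G) : Prop :=
  ∀ P : Subgroup G, S ⊓ Subgroup.centralizer (S : Set G) ≤ P → P ≤ S →
    SCF.QF p ↥(Subgroup.normalizer (P : Set G))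

/-- elements of `N(W(T))` acting inside `T` are realized in `N` -/
def Theta (N T : Subgroup G) : Prop :=
  ∀ m ∈ Subgroup.normalizer (W T : Set G), ∀ A : Set G, A ⊆ (T : Set G) → lc m A ⊆ (T : Set G) →
    Real N A m

theorem card_lt_of_lt {H K : Subgroup G} (h : H < K) : Nat.card H < Nat.card K := by
  by_contra hge
  push Not at hge
  exact h.ne (Subgroup.eq_of_le_of_card_ge h.le hge)

theorem SylIn.conj' {N R : Subgroup G} (h : SylIn p N R) (g : G) : SylIn p (cj g N) (cj g R) :=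
  ⟨cj_mono g h.1, isPGroup_cj g h.2.1, by rw [relIndex_cj]; exact h.2.2⟩

theorem sylIn_top (S : Sylow p G) : SylIn p ⊤ (S : Subgroup G) :=
  ⟨le_top, S.isPGroup', by rw [Subgroup.relIndex_top_right]; exact S.not_dvd_index⟩

/-- Lemma A -/
theorem step_of_theta (hp : p ≠ 2) (S : Sylow p G) (hH : Hyp p (S : Subgroup G)) {D : Subgroup G}
    (hD : D ∈ GoldFam S)
    (hΘ : ∀ T : Subgroup G, PC p T → T ≤ (S : Subgroup G) → Nat.card D < Nat.card T →
      Theta (Subgroup.normalizer (W (S : Subgroup G) : Set G)) T)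
    {x : G} (hx : x ∈ Subgroup.normalizer (D : Set G)) :
    Real (Subgroup.normalizer (W (S : Subgroup G) : Set G)) (D : Set G) x := by
  have hPC := pc_of_goldFam hD
  have hDS : D ≤ (S : Subgroup G) := hD.1
  have hSp : IsPGroup p (S : Subgroup G) := S.isPGroup'
  have hZ := center_le_of_pc hSp hPC hDS
  have hqf := hH D hZ hDS
  obtain ⟨M, hMdef⟩ : ∃ M : Subgroup G, M = Subgroup.normalizer (D : Set G) := ⟨_, rfl⟩
  rw [← hMdef] at hqf hx
  have hR : SylIn p M ((S : Subgroup G) ⊓ M) := by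
    refine ⟨inf_le_right, hSp.to_le inf_le_left, ?_⟩
    rw [hMdef]; exact hD.2.2.2
  have hDM : D ≤ M := by rw [hMdef]; exact Subgroup.le_normalizer
  have hDR : D ≤ (S : Subgroup G) ⊓ M := le_inf hDS hDM
  have hlc : lc x (D : Set G) ⊆ (D : Set G) := by
    rintro _ ⟨d, hd, rfl⟩
    rw [hMdef] at hx
    exact (Subgroup.mem_normalizer_iff.mp hx d).mp hd
  obtain ⟨m, hmM, hmN, hact⟩ := ctl_in_subgroup hp M _ hqf hR (D : Set G) x hx
    (fun d hd => hDR hd) (hlc.trans (fun d hd => hDR hd))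
  by_cases hDS' : D = (S : Subgroup G)
  · have hRS : (S : Subgroup G) ⊓ M = (S : Subgroup G) := by
      apply inf_eq_left.mpr
      rw [hMdef, hDS']; exact Subgroup.le_normalizer
    rw [hRS] at hmN
    exact ⟨m, hmN, hact⟩
  · have hlt : D < (S : Subgroup G) := lt_of_le_of_ne hDS hDS'
    have hgrow := Cfsg.Agent.Lib.Lead.pgroup_normalizer_grows p _ D hSp hlt
    rw [← hMdef] at hgrow
    have hcard := card_lt_of_lt hgrow
    have h1 := hΘ _ (hPC.mono hDR) inf_le_left hcard m hmN (D : Set G) (fun d hd => hDR hd) (by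
      rintro _ ⟨d, hd, rfl⟩
      show m * d * m⁻¹ ∈ _
      rw [hact d hd]
      exact hDR (hlc ⟨d, hd, rfl⟩))
    exact h1.congr hact

/-- Lemma B -/
theorem real_of_step (S : Sylow p G) (N : Subgroup G) (k : ℕ)
    (hstep : ∀ D ∈ GoldFam S, k ≤ Nat.card D → ∀ x ∈ Subgroup.normalizer (D : Set G),
      Real N (D : Set G) x)
    (A : Set G) (hA : A ⊆ ((S : Subgroup G) : Set G)) (hk : k ≤ Nat.card (Subgroup.closure A))
    (g : G) (hgA : lc g A ⊆ ((S : Subgroup G) : Set G)) : Real N A g := by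
  have key : ∀ {A : Set G} {g' : G}, Via (GoldFam S) A g' → A ⊆ ((S : Subgroup G) : Set G) →
      k ≤ Nat.card (Subgroup.closure A) → Real N A g'⁻¹ := by
    intro A g' hv
    induction hv with
    | nil A =>
      intro _ _
      rw [inv_one]; exact real_one N A
    | cons A T x g'' hT hx hAT _ ih =>
      intro hA hk
      have hcl : Subgroup.closure A ≤ T := (Subgroup.closure_le _).mpr hAT
      have hkT : k ≤ Nat.card T := hk.trans (Subgroup.card_le_of_le hcl)
      have h1 : Real N A x⁻¹ := (hstep T hT hkT x⁻¹ (Subgroup.inv_mem _ hx)).mono hAT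
      have e : lc x⁻¹ A = cs x A := by
        unfold lc cs
        rw [inv_inv]
      have hcs : cs x A ⊆ ((S : Subgroup G) : Set G) :=
        (cs_subset_of_mem_normalizer hx hAT).trans (by exact_mod_cast hT.1)
      have hk' : k ≤ Nat.card (Subgroup.closure (cs x A)) := by
        have h2 : Subgroup.closure (cs x A) =
            (Subgroup.closure A).map (MulAut.conj x⁻¹).toMonoidHom := by
          rw [MonoidHom.map_closure]
          congr 1
          ext y
          simp only [cs, Set.mem_image, MulEquiv.coe_toMonoidHom, MulAut.conj_apply, inv_inv]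
        rw [h2, Subgroup.card_map_of_injective (MulAut.conj x⁻¹).injective]
        exact hk
      have h3 := ih hcs hk'
      rw [mul_inv_rev]
      exact h1.trans (by rw [e]; exact h3)
  have h1 : cs g⁻¹ A ⊆ ((S : Subgroup G) : Set G) := by
    have e : cs g⁻¹ A = lc g A := by
      unfold lc cs
      rw [inv_inv]
    rw [e]; exact hgA
  obtain ⟨c, g', hc, hg, hv⟩ := alperin_goldschmidt_set S A g⁻¹ hA h1
  have h2 := key hv hA hk
  apply h2.congr
  intro a ha
  have hca := Subgroup.mem_centralizer_iff.mp hc a ha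
  have hg' : g = g'⁻¹ * c⁻¹ := by
    have : g = (g⁻¹)⁻¹ := by group
    rw [this, hg]; group
  rw [hg']
  have e : c⁻¹ * a * c = a := by
    calc c⁻¹ * a * c = c⁻¹ * (a * c) := by group
      _ = c⁻¹ * (c * a) := by rw [hca]
      _ = a := by group
  calc g'⁻¹ * a * g'⁻¹⁻¹ = g'⁻¹ * (c⁻¹ * a * c) * g'⁻¹⁻¹ := by rw [e]
    _ = g'⁻¹ * c⁻¹ * a * (g'⁻¹ * c⁻¹)⁻¹ := by group

/-- Lemma C -/
theorem theta_step (hp : p ≠ 2) (S : Sylow p G) (hH : Hyp p (S : Subgroup G)) {T : Subgroup G}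
    (hPC : PC p T) (hTS : T ≤ (S : Subgroup G))
    (hR : ∀ A : Set G, A ⊆ ((S : Subgroup G) : Set G) → Nat.card T < Nat.card (Subgroup.closure A) →
      ∀ g : G, lc g A ⊆ ((S : Subgroup G) : Set G) →
        Real (Subgroup.normalizer (W (S : Subgroup G) : Set G)) A g)
    (hΘ : ∀ T' : Subgroup G, PC p T' → T' ≤ (S : Subgroup G) → Nat.card T < Nat.card T' →
      Theta (Subgroup.normalizer (W (S : Subgroup G) : Set G)) T') :
    Theta (Subgroup.normalizer (W (S : Subgroup G) : Set G)) T := by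
  intro m hm A hA hmA
  have hSp : IsPGroup p (S : Subgroup G) := S.isPGroup'
  by_cases hTS' : T = (S : Subgroup G)
  · rw [hTS'] at hm
    exact ⟨m, hm, fun _ _ => rfl⟩
  have hlt : T < (S : Subgroup G) := lt_of_le_of_ne hTS hTS'
  obtain ⟨MT, hMT⟩ : ∃ MT : Subgroup G, MT = Subgroup.normalizer (W T : Set G) := ⟨_, rfl⟩
  rw [← hMT] at hm
  set T2 := (S : Subgroup G) ⊓ MT with hT2
  have hT_T2 : T < T2 := by
    have h1 := Cfsg.Agent.Lib.Lead.pgroup_normalizer_grows p _ T hSp hlt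
    refine lt_of_lt_of_le h1 (inf_le_inf_left _ ?_)
    rw [hMT]
    exact ZJ.normalizer_le_normalizer_wsub 0 T
  have hT2p : IsPGroup p T2 := hSp.to_le inf_le_left
  obtain ⟨T2s, hT2le, hT2s⟩ := exists_sylIn_ge (p := p) (N := MT) (A := T2) inf_le_right hT2p
  obtain ⟨h, _, hh⟩ := (sylIn_top S).exists_conj_le le_top hT2s.2.1
  have hT2card : Nat.card T < Nat.card T2 := card_lt_of_lt hT_T2
  have hlcT2 : lc h (T2 : Set G) ⊆ ((S : Subgroup G) : Set G) := by
    rw [lc_subgroup]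
    exact fun y hy => hh (cj_mono h hT2le hy)
  obtain ⟨n1, hn1, e1⟩ := hR (T2 : Set G) (fun y hy => hy.1)
    (by rw [Subgroup.closure_eq]; exact hT2card) h hlcT2
  -- the conjugated configuration
  have hPC' : PC p (cj h T) := hPC.conj h
  have hT'T1 : cj h T ≤ cj h T2s := cj_mono h (hT_T2.le.trans hT2le)
  have hT'S : cj h T ≤ (S : Subgroup G) := hT'T1.trans hh
  have hZU' := center_le_W_of_pc hSp hPC' hT'S
  have hU'S : W (cj h T) ≤ (S : Subgroup G) := (W_le _).trans hT'S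
  have hqf' := hH (W (cj h T)) hZU' hU'S
  have hM' : Subgroup.normalizer (W (cj h T) : Set G) = cj h MT := by
    rw [W_cj, normalizer_cj, hMT]
  have hT1 : SylIn p (Subgroup.normalizer (W (cj h T) : Set G)) (cj h T2s) := by
    rw [hM']; exact SylIn.conj' hT2s h
  have hm' : h * m * h⁻¹ ∈ Subgroup.normalizer (W (cj h T) : Set G) := by
    rw [hM', mem_cj]
    have : h⁻¹ * (h * m * h⁻¹) * h = m := by group
    rw [this]; exact hm
  have hA'T' : lc h A ⊆ ((cj h T : Subgroup G) : Set G) := by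
    rw [← lc_subgroup]; exact lc_mono h hA
  have hA'T1 : lc h A ⊆ ((cj h T2s : Subgroup G) : Set G) := hA'T'.trans (fun y hy => hT'T1 hy)
  have hlc' : lc (h * m * h⁻¹) (lc h A) ⊆ ((cj h T : Subgroup G) : Set G) := by
    rintro _ ⟨_, ⟨a, ha, rfl⟩, rfl⟩
    rw [SetLike.mem_coe, mem_cj]
    have : h⁻¹ * (h * m * h⁻¹ * (h * a * h⁻¹) * (h * m * h⁻¹)⁻¹) * h = m * a * m⁻¹ := by group
    rw [this]
    exact hmA ⟨a, ha, rfl⟩
  obtain ⟨m2, _, hm2N, e2⟩ := ctl_in_subgroup hp _ _ hqf' hT1 (lc h A) (h * m * h⁻¹) hm' hA'T1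
    (hlc'.trans (fun y hy => hT'T1 hy))
  have hcard1 : Nat.card T < Nat.card (cj h T2s : Subgroup G) := by
    rw [card_cj]
    exact lt_of_lt_of_le hT2card (Subgroup.card_le_of_le hT2le)
  obtain ⟨n2, hn2, e3⟩ := hΘ (cj h T2s) (hPC'.mono hT'T1) hh hcard1 m2 hm2N (lc h A) hA'T1 (by
    rintro _ ⟨a', ha', rfl⟩
    show m2 * a' * m2⁻¹ ∈ _
    rw [e2 a' ha']
    exact hT'T1 (hlc' ⟨a', ha', rfl⟩))
  refine ⟨n1⁻¹ * n2 * n1, Subgroup.mul_mem _ (Subgroup.mul_mem _ (Subgroup.inv_mem _ hn1) hn2) hn1, ?_⟩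
  intro a ha
  have ht : m * a * m⁻¹ ∈ T := hmA ⟨a, ha, rfl⟩
  have ea : n1 * a * n1⁻¹ = h * a * h⁻¹ := e1 a (hT_T2.le (hA ha))
  have et : n1 * (m * a * m⁻¹) * n1⁻¹ = h * (m * a * m⁻¹) * h⁻¹ := e1 _ (hT_T2.le ht)
  have e2a := e2 (h * a * h⁻¹) ⟨a, ha, rfl⟩
  have e3a := e3 (h * a * h⁻¹) ⟨a, ha, rfl⟩
  calc n1⁻¹ * n2 * n1 * a * (n1⁻¹ * n2 * n1)⁻¹
      = n1⁻¹ * (n2 * (n1 * a * n1⁻¹) * n2⁻¹) * n1 := by group
    _ = n1⁻¹ * (n2 * (h * a * h⁻¹) * n2⁻¹) * n1 := by rw [ea]
    _ = n1⁻¹ * (h * m * h⁻¹ * (h * a * h⁻¹) * (h * m * h⁻¹)⁻¹) * n1 := by rw [e3a, e2a]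
    _ = n1⁻¹ * (h * (m * a * m⁻¹) * h⁻¹) * n1 := by group
    _ = n1⁻¹ * (n1 * (m * a * m⁻¹) * n1⁻¹) * n1 := by rw [et]
    _ = m * a * m⁻¹ := by group

theorem theta_all (hp : p ≠ 2) (S : Sylow p G) (hH : Hyp p (S : Subgroup G)) :
    ∀ T : Subgroup G, PC p T → T ≤ (S : Subgroup G) →
      Theta (Subgroup.normalizer (W (S : Subgroup G) : Set G)) T := by
  have key : ∀ n : ℕ, ∀ T : Subgroup G, Nat.card (S : Subgroup G) - Nat.card T = n → PC p T →
      T ≤ (S : Subgroup G) → Theta (Subgroup.normalizer (W (S : Subgroup G) : Set G)) T := by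
    intro n
    induction n using Nat.strong_induction_on with
    | _ n ih =>
      intro T hn hPC hTS
      have hΘ : ∀ T' : Subgroup G, PC p T' → T' ≤ (S : Subgroup G) → Nat.card T < Nat.card T' →
          Theta (Subgroup.normalizer (W (S : Subgroup G) : Set G)) T' := by
        intro T' h1 h2 h3
        have h4 : Nat.card T' ≤ Nat.card (S : Subgroup G) := Subgroup.card_le_of_le h2
        exact ih (Nat.card (S : Subgroup G) - Nat.card T') (by omega) T' rfl h1 h2
      have hstep : ∀ D ∈ GoldFam S, Nat.card T + 1 ≤ Nat.card D →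
          ∀ x ∈ Subgroup.normalizer (D : Set G),
            Real (Subgroup.normalizer (W (S : Subgroup G) : Set G)) (D : Set G) x := by
        intro D hD hk x hx
        exact step_of_theta hp S hH hD (fun T'' h1 h2 h3 => hΘ T'' h1 h2 (by omega)) hx
      have hR := real_of_step S (Subgroup.normalizer (W (S : Subgroup G) : Set G)) (Nat.card T + 1) hstep
      exact theta_step hp S hH hPC hTS (fun A hA hc g hg => hR A hA hc g hg) hΘ
  intro T hPC hTS
  exact key _ T rfl hPC hTS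

/-- `N(Z(J(S)))` controls strong fusion in `S` under the local hypothesis -/
theorem ctl_main (hp : p ≠ 2) (S : Sylow p G) (hH : Hyp p (S : Subgroup G))
    (A : Set G) (hA : A ⊆ ((S : Subgroup G) : Set G)) (g : G)
    (hgA : lc g A ⊆ ((S : Subgroup G) : Set G)) :
    Real (Subgroup.normalizer (W (S : Subgroup G) : Set G)) A g :=
  real_of_step S _ 0
    (fun D hD _ x hx => step_of_theta hp S hH hD (fun T h1 h2 _ => theta_all hp S hH T h1 h2) hx)
    A hA (Nat.zero_le _) g hgA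

end LocZJ

end Cfsg.Agent.Lib.Lead
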