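import Mathlib
import Cfsg.Agent.S5093
import Cfsg.Agent.Lib.Helper4.AlperinTame
import Cfsg.Agent.Lib.Lead.LocZJ3

set_option autoImplicit false

/-! Grün's second theorem, in the `O^p` form, via the hyperfocal subgroup theorem. -/

namespace Cfsg.Agent.Lib.Lead

namespace GrunTwo

open Cfsg Cfsg.FusionSystem Cfsg.Agent.Lib.Helper9 Cfsg.Agent.Lib.Helper6 Cfsg.Agent.Lib.Helper4
  Cfsg.Agent.Lib.Helper7

variable {G : Type*} [Group G] [Finite G] {p : ℕ} [Fact p.Prime]

/-- the centre of a subgroup, inside `G` -/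
abbrev Zof (P : Subgroup G) : Subgroup G := P ⊓ Subgroup.centralizer (P : Set G)

theorem Zof_cj (g : G) (P : Subgroup G) : Zof (cj g P) = cj g (Zof P) := by
  ext x
  simp only [Zof, Subgroup.mem_inf, mem_cj, Subgroup.mem_centralizer_iff]
  constructor
  · rintro ⟨h1, h2⟩
    refine ⟨h1, ?_⟩
    intro y hy
    have h3 : g * y * g⁻¹ ∈ ((cj g P : Subgroup G) : Set G) := by
      rw [SetLike.mem_coe, mem_cj]
      have : g⁻¹ * (g * y * g⁻¹) * g = y := by group
      rw [this]; exact hy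
    have h4 := h2 _ h3
    calc y * (g⁻¹ * x * g) = g⁻¹ * ((g * y * g⁻¹) * x) * g := by group
      _ = g⁻¹ * (x * (g * y * g⁻¹)) * g := by rw [h4]
      _ = g⁻¹ * x * g * y := by group
  · rintro ⟨h1, h2⟩
    refine ⟨h1, ?_⟩
    intro y hy
    rw [SetLike.mem_coe, mem_cj] at hy
    have h4 := h2 _ hy
    calc y * x = g * ((g⁻¹ * y * g) * (g⁻¹ * x * g)) * g⁻¹ := by group
      _ = g * ((g⁻¹ * x * g) * (g⁻¹ * y * g)) * g⁻¹ := by rw [h4]
      _ = x * y := by group

/-- in a `p`-normal group, automorphisms of `Q ≤ P` induced by `G` are induced by `N_G(Z(P))` -/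
theorem exists_mem_normalizer (P : Sylow p G)
    (hn : ∀ Q : Sylow p G, Zof (P : Subgroup G) ≤ (Q : Subgroup G) →
      Zof (Q : Subgroup G) = Zof (P : Subgroup G))
    (Q : Subgroup G) (hQ : Q ≤ (P : Subgroup G)) (g : G)
    (hg : g ∈ Subgroup.normalizer (Q : Set G)) :
    ∃ c ∈ Subgroup.centralizer (Q : Set G),
      c * g ∈ Subgroup.normalizer (Zof (P : Subgroup G) : Set G) := by
  set Z := Zof (P : Subgroup G) with hZ
  set C := Subgroup.centralizer (Q : Set G) with hC
  have hPp : IsPGroup p (P : Subgroup G) := P.isPGroup'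
  have hZp : IsPGroup p Z := hPp.to_le inf_le_left
  have hZC : Z ≤ C := inf_le_right.trans (Subgroup.centralizer_le hQ)
  have hgC : cj g Z ≤ C := by
    intro y hy
    rw [mem_cj] at hy
    rw [hC, Subgroup.mem_centralizer_iff]
    intro q hq
    have hq' : g⁻¹ * q * g ∈ Q := by
      have := (Subgroup.mem_normalizer_iff.mp (Subgroup.inv_mem _ hg) q).mp hq
      simpa using this
    have h1 := Subgroup.mem_centralizer_iff.mp (hZC hy) _ hq'
    calc q * y = g * ((g⁻¹ * q * g) * (g⁻¹ * y * g)) * g⁻¹ := by group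
      _ = g * ((g⁻¹ * y * g) * (g⁻¹ * q * g)) * g⁻¹ := by rw [h1]
      _ = y * q := by group
  obtain ⟨T, hZT, hT⟩ := exists_sylIn_ge (p := p) hZC hZp
  obtain ⟨c, hc, hcT⟩ := hT.exists_conj_le hgC (isPGroup_cj g hZp)
  obtain ⟨P₂, hP₂⟩ := hT.2.1.exists_le_sylow
  refine ⟨c, hc, ?_⟩
  have h1 : cj (c * g) Z ≤ (P₂ : Subgroup G) := by
    rw [cj_mul]; exact hcT.trans hP₂
  -- `Z ≤ (c g)⁻¹ P₂ (c g)`
  obtain ⟨P₄, hP₄⟩ : ∃ P₄ : Sylow p G, (P₄ : Subgroup G) = cj (c * g)⁻¹ (P₂ : Subgroup G) :=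
    ⟨(MulAut.conj (c * g)⁻¹) • P₂, rfl⟩
  have h2 : Z ≤ (P₄ : Subgroup G) := by
    rw [hP₄]
    have := cj_mono (c * g)⁻¹ h1
    rwa [cj_inv_cj] at this
  have h3 : Zof (P₂ : Subgroup G) = Z := hn P₂ (hZT.trans hP₂)
  have h4 : Zof (P₄ : Subgroup G) = Z := hn P₄ h2
  rw [hP₄, Zof_cj, h3] at h4
  -- `(c g)⁻¹ Z (c g) = Z`
  have h5 : (c * g)⁻¹ ∈ Subgroup.normalizer (Z : Set G) := by
    rw [Subgroup.mem_normalizer_iff]
    intro z
    constructor
    · intro hz
      have : (c * g)⁻¹ * z * (c * g)⁻¹⁻¹ ∈ cj (c * g)⁻¹ Z := ⟨z, hz, rfl⟩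
      rwa [h4] at this
    · intro hz
      rw [← h4, mem_cj] at hz
      have e : (c * g)⁻¹⁻¹ * ((c * g)⁻¹ * z * (c * g)⁻¹⁻¹) * (c * g)⁻¹ = z := by group
      rwa [e] at hz
  have := Subgroup.inv_mem _ h5
  rwa [inv_inv] at this

/-- Grün's second theorem for `O^p` -/
theorem main (P : Sylow p G)
    (hn : ∀ Q : Sylow p G, Zof (P : Subgroup G) ≤ (Q : Subgroup G) →
      Zof (Q : Subgroup G) = Zof (P : Subgroup G))
    (V : Subgroup G) (hV : Subgroup.normalizer (Zof (P : Subgroup G) : Set G) ≤ V) :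
    (P : Subgroup G) ⊓ pResidual p G = (P : Subgroup G) ⊓ (pResidual p V).map V.subtype := by
  apply le_antisymm
  · refine le_inf inf_le_left ?_
    rw [← Cfsg.Agent.S5093.result p P]
    unfold FusionSystem.hyperfocalSubgroup
    rw [Subgroup.closure_le]
    rintro _ ⟨Q, α, x, hQP, hα, rfl⟩
    set Z := Zof (P : Subgroup G) with hZ
    set M := Subgroup.normalizer (Q : Set G) ⊓ Subgroup.normalizer (Z : Set G) with hM
    have hmem : ∀ n : M, Q.normalizerMonoidHom ⟨(n : G), n.2.1⟩ ∈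
        (groupFusionSystem (P : Subgroup G)).autGroup Q := by
      intro n
      rw [mem_groupFusion_autGroup_iff _ Q hQP]
      exact ⟨n, fun x => rfl⟩
    obtain ⟨f, hf⟩ : ∃ f : M →* (groupFusionSystem (P : Subgroup G)).autGroup Q,
        ∀ n : M, ((f n : (groupFusionSystem (P : Subgroup G)).autGroup Q) : MulAut Q) =
          Q.normalizerMonoidHom ⟨(n : G), n.2.1⟩ :=
      ⟨(Q.normalizerMonoidHom.comp (Subgroup.inclusion (inf_le_left :
          M ≤ Subgroup.normalizer (Q : Set G)))).codRestrict _ (fun n => hmem n), fun n => rfl⟩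
    have hsurj : Function.Surjective f := by
      rintro ⟨β, hβ⟩
      have hβ' := hβ
      rw [mem_groupFusion_autGroup_iff _ Q hQP] at hβ'
      obtain ⟨g, hg⟩ := hβ'
      have hgN : g ∈ Subgroup.normalizer (Q : Set G) := mem_normalizer_of_induces β g hg
      obtain ⟨c, hc, hcg⟩ := exists_mem_normalizer P hn Q hQP g hgN
      have hcN : c ∈ Subgroup.normalizer (Q : Set G) := Subgroup.centralizer_le_normalizer _ hc
      refine ⟨⟨c * g, ⟨Subgroup.mul_mem _ hcN hgN, hcg⟩⟩, ?_⟩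
      apply Subtype.ext
      apply MulEquiv.ext
      intro y
      apply Subtype.ext
      rw [hf]
      show c * g * (y : G) * (c * g)⁻¹ = _
      rw [hg y]
      have h1 : g * (y : G) * g⁻¹ ∈ Q := by rw [← hg y]; exact (β y).2
      have h2 := Subgroup.mem_centralizer_iff.mp hc _ h1
      calc c * g * (y : G) * (c * g)⁻¹ = c * (g * (y : G) * g⁻¹) * c⁻¹ := by group
        _ = (g * (y : G) * g⁻¹) * c * c⁻¹ := by rw [← h2]
        _ = g * (y : G) * g⁻¹ := by group
    have hmap := pResidual_map_of_surjective (p := p) f hsurj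
    rw [← hmap] at hα
    obtain ⟨n, hn', hnα⟩ := hα
    have hMV : M ≤ V := inf_le_right.trans hV
    have hnK : (Subgroup.inclusion hMV n) ∈ pResidual p V :=
      pResidual_map_le p (Subgroup.inclusion hMV) ⟨n, hn', rfl⟩
    have hxV : (x : G) ∈ V := by
      apply hV
      have hxP : (x : G) ∈ (P : Subgroup G) := hQP x.2
      rw [Subgroup.mem_normalizer_iff]
      intro z
      constructor
      · intro hz
        refine ⟨(P : Subgroup G).mul_mem ((P : Subgroup G).mul_mem hxP hz.1) ((P : Subgroup G).inv_mem hxP), ?_⟩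
        have hzc := Subgroup.mem_centralizer_iff.mp hz.2 x hxP
        have : (x : G) * z * (x : G)⁻¹ = z := by
          rw [hzc]; group
        rw [this]; exact hz.2
      · intro hz
        have hzc := Subgroup.mem_centralizer_iff.mp hz.2 (x : G)⁻¹ ((P : Subgroup G).inv_mem hxP)
        have e : z = (x : G)⁻¹ * ((x : G) * z * (x : G)⁻¹) * (x : G) := by group
        have e2 : (x : G)⁻¹ * ((x : G) * z * (x : G)⁻¹) * (x : G) = (x : G) * z * (x : G)⁻¹ := by
          rw [hzc]; group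
        rw [e, e2]; exact hz
    have hval : (((α : MulAut Q) x : Q) : G) = (n : G) * x * (n : G)⁻¹ := by
      rw [← hnα, hf]
      rfl
    rw [SetLike.mem_coe, hval]
    have hnorm : (pResidual p V).Normal := inferInstance
    have h1 : (⟨x, hxV⟩ : V)⁻¹ * (Subgroup.inclusion hMV n) * (⟨x, hxV⟩ : V)⁻¹⁻¹ ∈ pResidual p V :=
      hnorm.conj_mem _ hnK _
    have h3 := Subgroup.mul_mem _ h1 (Subgroup.inv_mem _ hnK)
    refine ⟨_, h3, ?_⟩
    simp only [Subgroup.subtype_apply, Subgroup.coe_mul, Subgroup.coe_inv, Subgroup.coe_inclusion]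
    group
  · exact le_inf inf_le_left (inf_le_right.trans (pResidual_map_le p V.subtype))

end GrunTwo

end Cfsg.Agent.Lib.Lead
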