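import Mathlib
import Cfsg.Prelude.Def_Blocks
import Cfsg.Prelude.Def_BlockRank
import Cfsg.Agent.Lib.Helper8.MJ19
import Cfsg.Agent.Lib.Helper8.QB4
import Cfsg.Agent.Lib.Helper8.QB3
import Cfsg.Agent.Lib.Helper8.HKS_Defs

set_option autoImplicit false

/-!
S4588 swarm, package PK-C, part (1): `exists_genChar_pPrime`.
-/

namespace Cfsg.Agent.Lib.Helper8.HKS

open Cfsg
open scoped ComplexConjugate
open Cfsg.Agent.Lib.Helper1 Cfsg.Agent.Lib.Helper4 Cfsg.Agent.Lib.Helper8 Cfsg.Agent.Lib.Helper8.MJ

universe u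

namespace PkC1

/-- composition of a generalized character with a homomorphism -/
theorem genChar_comp_hom {G F : Type*} [Group G] [Group F] {θ : G → ℂ}
    (hθ : IsGeneralizedCharacter G θ) (e : F →* G) :
    IsGeneralizedCharacter F (fun f => θ (e f)) := by
  obtain ⟨a, b, ⟨n, ρ, rfl⟩, ⟨n', ρ', rfl⟩, rfl⟩ := hθ
  exact ⟨_, _, ⟨n, ρ.comp e, rfl⟩, ⟨n', ρ'.comp e, rfl⟩, rfl⟩

/-- the exponent `N`: `N ≡ 0` modulo the `p`-part `a` and `N ≡ 1` modulo the `p'`-part `m` -/
theorem exists_exponent {a m : ℕ} (h : a.Coprime m) : ∃ N : ℕ, a ∣ N ∧ N ≡ 1 [MOD m] := by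
  obtain ⟨N, h1, h2⟩ := Nat.chineseRemainder h 0 1
  exact ⟨N, (Nat.modEq_zero_iff_dvd).1 h1, h2⟩

theorem pow_eq_self_of_modEq {X : Type*} [Group X] (x : X) {N m : ℕ} (hN : N ≡ 1 [MOD m])
    (hx : orderOf x ∣ m) : x ^ N = x := by
  have h1 : N ≡ 1 [MOD orderOf x] := hN.of_dvd hx
  have := pow_eq_pow_iff_modEq.2 h1
  rw [this, pow_one]

theorem pow_eq_one_of_dvd {X : Type*} [Group X] (x : X) {N a : ℕ} (hN : a ∣ N)
    (hx : orderOf x ∣ a) : x ^ N = 1 :=
  orderOf_dvd_iff_pow_eq_one.1 (hx.trans hN)

end PkC1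

section PkC
variable {H : Type u} [Group H] [Fintype H] {p : ℕ} [Fact p.Prime] {M : Ideal AlgInt}

open PkC1

theorem PkC1.exists_genChar_pPrime {θ : H → ℂ} (h : IsGeneralizedCharacter H θ) :
    ∃ θ' : H → ℂ, IsGeneralizedCharacter H θ' ∧ (∀ g, ¬ p ∣ orderOf g → θ' g = θ g) ∧
      ∀ z g : H, z ∈ Subgroup.center H → (∃ k : ℕ, orderOf z = p ^ k) → θ' (z * g) = θ' g := by
  classical
  have hp : p.Prime := Fact.out
  -- |H| = a * m, a the p-part
  set a : ℕ := p ^ (Nat.card H).factorization p with ha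
  set m : ℕ := Nat.card H / a with hm
  have hcard0 : Nat.card H ≠ 0 := Nat.card_pos.ne'
  have ham : a * m = Nat.card H := Nat.mul_div_cancel' (Nat.ordProj_dvd _ _)
  have hcop : a.Coprime m := by
    apply Nat.Coprime.pow_left
    exact Nat.coprime_ordCompl hp hcard0
  obtain ⟨N, hN0, hN1⟩ := exists_exponent hcop
  -- orders of p-regular elements divide m, orders of p-elements divide a (in any group whose
  -- element orders divide |H|)
  have hreg : ∀ {X : Type u} [Group X] (x : X), orderOf x ∣ Nat.card H → ¬ p ∣ orderOf x →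
      x ^ N = x := by
    intro X _ x hx hpx
    apply pow_eq_self_of_modEq x hN1
    have h1 : (orderOf x).Coprime a :=
      Nat.Coprime.pow_right _ (((Nat.Prime.coprime_iff_not_dvd hp).2 hpx).symm)
    rw [← ham] at hx
    exact h1.dvd_of_dvd_mul_left hx
  have hsing : ∀ {X : Type u} [Group X] (x : X), orderOf x ∣ Nat.card H →
      (∃ k : ℕ, orderOf x = p ^ k) → x ^ N = 1 := by
    intro X _ x hx hk
    obtain ⟨k, hk⟩ := hk
    apply pow_eq_one_of_dvd x hN0
    rw [hk, ha]
    apply pow_dvd_pow
    rw [hk] at hx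
    exact (Nat.Prime.pow_dvd_iff_le_factorization hp hcard0).1 hx
  have hθcf : IsClassFunction H θ := by
    obtain ⟨χ, ψ, hχ, hψ, rfl⟩ := h
    intro g k
    rw [Pi.sub_apply, Pi.sub_apply, isClassFunction_of_isCharacter hχ g k,
      isClassFunction_of_isCharacter hψ g k]
  refine ⟨fun g => θ (g ^ N), ?_, ?_, ?_⟩
  · -- generalized character, by Brauer's characterisation
    apply Cfsg.Agent.S0164.result
    · intro g k
      show θ ((k * g * k⁻¹) ^ N) = θ (g ^ N)
      rw [conj_pow]
      exact hθcf _ _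
    · intro E q hq hE
      have : Fact q.Prime := ⟨hq⟩
      have hnil : Group.IsNilpotent E :=
        Cfsg.Agent.Lib.Helper2.BrauerInd.isNilpotent_of_isElementary hE
      -- the decomposition of `E` into its Sylow subgroups
      obtain ⟨φ⟩ := (Group.isNilpotent_of_finite_tfae (G := E)).out 0 4 rfl rfl |>.mp hnil
      -- kill the `p`-components
      let ψ : (∀ r : (Nat.card E).primeFactors, ∀ P : Sylow r E, (↑P : Subgroup E)) →*
          (∀ r : (Nat.card E).primeFactors, ∀ P : Sylow r E, (↑P : Subgroup E)) :=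
        { toFun := fun f r P => if (r : ℕ) = p then 1 else f r P
          map_one' := by
            funext r P
            by_cases hr : (r : ℕ) = p
            · rw [if_pos hr]; rfl
            · rw [if_neg hr]
          map_mul' := by
            intro f g
            funext r P
            show (if (r : ℕ) = p then (1 : (↑P : Subgroup E)) else f r P * g r P) =
              (if (r : ℕ) = p then 1 else f r P) * (if (r : ℕ) = p then 1 else g r P)
            by_cases hr : (r : ℕ) = p
            · rw [if_pos hr, if_pos hr, if_pos hr, mul_one]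
            · rw [if_neg hr, if_neg hr, if_neg hr] }
      have hψ : ∀ f, ψ f = f ^ N := by
        intro f
        funext r P
        show (if (r : ℕ) = p then (1 : (↑P : Subgroup E)) else f r P) = (f r P) ^ N
        have hord : orderOf (f r P) ∣ Nat.card H := by
          have h1 : orderOf ((f r P : E) : H) ∣ Nat.card H := orderOf_dvd_natCard _
          rwa [Subgroup.orderOf_coe, Subgroup.orderOf_coe] at h1
        have hrp : (r : ℕ).Prime := Nat.prime_of_mem_primeFactors r.2
        have : Fact (r : ℕ).Prime := ⟨hrp⟩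
        obtain ⟨k, hk⟩ := (IsPGroup.iff_orderOf.1 P.isPGroup') (f r P)
        by_cases hr : (r : ℕ) = p
        · rw [if_pos hr]
          have hk' : orderOf (f r P) = p ^ k := by rw [hk, hr]
          exact (hsing (f r P) hord ⟨k, hk'⟩).symm
        · rw [if_neg hr]
          symm
          apply hreg (f r P) hord
          rw [hk]
          intro hd
          exact hr ((Nat.prime_dvd_prime_iff_eq hp hrp).1 (hp.dvd_of_dvd_pow hd)).symm
      let ρ : E →* E := (φ.toMonoidHom.comp ψ).comp φ.symm.toMonoidHom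
      have hρ : ∀ e : E, ρ e = e ^ N := by
        intro e
        show φ (ψ (φ.symm e)) = e ^ N
        rw [hψ, map_pow, MulEquiv.apply_symm_apply]
      have h1 := genChar_comp_hom (isGenChar_restrict E h) ρ
      convert h1 using 1
      funext e
      show θ (((e : H)) ^ N) = θ ((ρ e : E) : H)
      rw [hρ e]
      rfl
  · intro g hg
    show θ (g ^ N) = θ g
    rw [hreg g (orderOf_dvd_natCard g) hg]
  · intro z g hz hk
    show θ ((z * g) ^ N) = θ (g ^ N)
    have hcomm : Commute z g := (Subgroup.mem_center_iff.1 hz g).symm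
    rw [hcomm.mul_pow, hsing z (orderOf_dvd_natCard z) hk, one_mul]

end PkC

end Cfsg.Agent.Lib.Helper8.HKS
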