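import Mathlib
import Cfsg.Agent.Lib.Lead.HallThm
import Cfsg.Agent.Lib.Lead.CoprimeSylow

set_option autoImplicit false

/-!
# Counting Hall subgroups of solvable groups: tools
-/

namespace Cfsg.Agent.Lib.Lead.HallCount

open scoped Pointwise

universe u

/-- the number of subgroups of order `m` -/
noncomputable def hc (X : Type u) [Group X] (m : ℕ) : ℕ :=
  Nat.card {H : Subgroup X // Nat.card H = m}

section orbit

variable {G : Type u} [Group G]

theorem hc_eq_index_normalizer [Finite G] (m : ℕ)
    (hconj : ∀ H K : Subgroup G, Nat.card H = m → Nat.card K = m →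
      ∃ g : G, MulAut.conj g • H = K)
    (H : Subgroup G) (hH : Nat.card H = m) :
    hc G m = (Subgroup.normalizer (H : Set G)).index := by
  letI : MulAction G (Subgroup G) := MulAction.compHom (Subgroup G) (MulAut.conj : G →* MulAut G)
  have hsmul : ∀ (g : G) (K : Subgroup G), g • K = MulAut.conj g • K := fun _ _ => rfl
  have hstab : MulAction.stabilizer G H = Subgroup.normalizer (H : Set G) := by
    ext g
    rw [MulAction.mem_stabilizer_iff, hsmul, Cfsg.Agent.Lib.Lead.mem_normalizer_iff_conj_smul]
  rw [← hstab, MulAction.index_stabilizer, ← Nat.card_coe_set_eq]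
  unfold hc
  apply Nat.card_congr
  refine Equiv.subtypeEquivRight ?_
  intro K
  rw [MulAction.mem_orbit_iff]
  constructor
  · intro hK
    obtain ⟨g, hg⟩ := hconj H K hH hK
    exact ⟨g, hg⟩
  · rintro ⟨g, rfl⟩
    rw [hsmul, Cfsg.Agent.Lib.Lead.card_conj_smul, hH]

end orbit

section module

/-- the fixed points of a group of automorphisms -/
def fixedSub {V : Type u} [Group V] (A : Subgroup (MulAut V)) : Subgroup V where
  carrier := {v | ∀ σ ∈ A, σ v = v}
  mul_mem' := by
    intro a b ha hb σ hσ
    rw [map_mul, ha σ hσ, hb σ hσ]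
  one_mem' := by
    intro σ _
    exact map_one σ
  inv_mem' := by
    intro a ha σ hσ
    rw [map_inv, ha σ hσ]

theorem mem_fixedSub {V : Type u} [Group V] (A : Subgroup (MulAut V)) (v : V) :
    v ∈ fixedSub A ↔ ∀ σ ∈ A, σ v = v := Iff.rfl

/-- the factorization statement for an action -/
def ModFact (p : ℕ) (V : Type u) [Group V] (A : Subgroup (MulAut V)) : Prop :=
  ∃ l : List ℕ, Nat.card V = Nat.card (fixedSub A) * l.prod ∧
    ∀ x ∈ l, x ∣ Nat.card V ∧ ∃ q : ℕ, q.Prime ∧ q ∣ Nat.card A ∧ x ≡ 1 [MOD q]

/-- the restricted action on an invariant subgroup -/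
def restrictAction {V : Type u} [Group V] (A : Subgroup (MulAut V)) (V₀ : Subgroup V)
    (hinv : ∀ a ∈ A, ∀ v ∈ V₀, a v ∈ V₀) : MulDistribMulAction A V₀ where
  smul a v := ⟨a.1 v.1, hinv a.1 a.2 v.1 v.2⟩
  one_smul v := by
    apply Subtype.ext
    rfl
  mul_smul a b v := by
    apply Subtype.ext
    rfl
  smul_mul a v w := by
    apply Subtype.ext
    show a.1 (v.1 * w.1) = a.1 v.1 * a.1 w.1
    exact map_mul _ _ _
  smul_one a := by
    apply Subtype.ext
    show a.1 1 = 1
    exact map_one _

theorem module_lemma_aux {p : ℕ} (hp : p.Prime) :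
    ∀ (n : ℕ) (V : Type u) [Group V] [Finite V] (A : Subgroup (MulAut V)),
      Nat.card V = n → Group.IsSolvable A → (Nat.card A).Coprime p → IsPGroup p V →
      ModFact p V A := by
  intro n
  induction n using Nat.strong_induction_on with
  | _ n ih =>
    intro V _ _ A hn hsol hcop hV
    by_cases hA : A = ⊥
    · refine ⟨[], ?_, ?_⟩
      · have : fixedSub A = ⊤ := by
          rw [eq_top_iff]
          intro v _ σ hσ
          rw [hA, Subgroup.mem_bot] at hσ
          rw [hσ]
          rfl
        rw [this, Subgroup.card_top, List.prod_nil, mul_one]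
      · intro x hx
        simp at hx
    · haveI : Nontrivial A := (Subgroup.nontrivial_iff_ne_bot A).mpr hA
      haveI := hsol
      obtain ⟨q, Q', hq, hQ'n, _, hQ'q, hQ'1, _⟩ :=
        Cfsg.Agent.Lib.Lead.exists_normal_abelian_pgroup (G := A)
      have hqf : Fact q.Prime := ⟨hq⟩
      have hpf : Fact p.Prime := ⟨hp⟩
      -- `Q` inside `MulAut V`
      set Q : Subgroup (MulAut V) := Q'.map A.subtype with hQ
      have hQA : Q ≤ A := by
        rintro _ ⟨x, _, rfl⟩
        exact x.2
      have hQq : IsPGroup q Q := hQ'q.map A.subtype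
      have hQne : Q ≠ ⊥ := by
        intro h
        apply hQ'1
        rw [hQ, (Subgroup.map_eq_bot_iff_of_injective Q' A.subtype_injective)] at h
        exact h
      have hQnorm : ∀ a ∈ A, ∀ σ ∈ Q, a⁻¹ * σ * a ∈ Q := by
        intro a ha σ hσ
        obtain ⟨x, hx, rfl⟩ := hσ
        refine ⟨(⟨a, ha⟩ : A)⁻¹ * x * ⟨a, ha⟩, ?_, rfl⟩
        have := hQ'n.conj_mem x hx (⟨a, ha⟩ : A)⁻¹
        simpa using this
      have hqA : q ∣ Nat.card A := by
        have h1 : Nat.card Q' ∣ Nat.card A := Subgroup.card_subgroup_dvd_card Q'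
        obtain ⟨k, hk0, hk⟩ := (hQ'q.nontrivial_iff_card).mp
          ((Subgroup.nontrivial_iff_ne_bot Q').mpr hQ'1)
        refine dvd_trans ?_ h1
        rw [hk]
        exact dvd_pow_self q hk0.ne'
      have hqp : q ≠ p := by
        rintro rfl
        have := Nat.Coprime.eq_one_of_dvd hcop.symm hqA
        exact hq.one_lt.ne' this
      -- the fixed points of `Q`
      set V₀ : Subgroup V := fixedSub Q with hV₀
      have hV₀top : V₀ ≠ ⊤ := by
        intro htop
        apply hQne
        rw [eq_bot_iff]
        intro σ hσ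
        rw [Subgroup.mem_bot]
        ext v
        have : v ∈ V₀ := htop ▸ Subgroup.mem_top v
        exact this σ hσ
      have hinv : ∀ a ∈ A, ∀ v ∈ V₀, a v ∈ V₀ := by
        intro a ha v hv σ hσ
        have h1 := hv (a⁻¹ * σ * a) (hQnorm a ha σ hσ)
        have h2 : (a⁻¹ * σ * a) v = a⁻¹ (σ (a v)) := rfl
        rw [h2] at h1
        have h3 := congrArg a h1
        rw [MulAut.apply_inv_self] at h3
        exact h3
      -- the congruence
      have hcong : Nat.card V ≡ Nat.card V₀ [MOD q] := by
        have h1 := hQq.card_modEq_card_fixedPoints V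
        have h2 : Nat.card (MulAction.fixedPoints Q V) = Nat.card V₀ := by
          apply Nat.card_congr
          refine Equiv.subtypeEquivRight ?_
          intro v
          rw [MulAction.mem_fixedPoints]
          constructor
          · intro h σ hσ
            exact h ⟨σ, hσ⟩
          · intro h σ
            exact h σ.1 σ.2
        rw [h2] at h1
        exact h1
      have hV₀p : IsPGroup p V₀ := hV.to_subgroup V₀
      have hidx : Nat.card V₀ * V₀.index = Nat.card V := V₀.card_mul_index
      have hr : V₀.index ≡ 1 [MOD q] := by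
        obtain ⟨j, hj⟩ := hV₀p.exists_card_eq
        have hc : Nat.gcd q (Nat.card V₀) = 1 := by
          rw [hj]
          exact Nat.Coprime.pow_right j ((Nat.coprime_primes hq hp).mpr hqp)
        apply Nat.ModEq.cancel_left_of_coprime hc
        rw [hidx, mul_one]
        exact hcong
      -- the restricted action
      letI act : MulDistribMulAction A V₀ := restrictAction A V₀ hinv
      let ρ : A →* MulAut V₀ := MulDistribMulAction.toMulAut A V₀
      have hρ : ∀ (a : A) (v : V₀), ((ρ a) v : V) = a.1 v.1 := fun _ _ => rfl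
      have hlt : Nat.card V₀ < n := by
        rw [← hn]
        have hi : V₀.index ≠ 1 := fun h => hV₀top (Subgroup.index_eq_one.mp h)
        have hi0 : 0 < V₀.index := Nat.pos_of_ne_zero (Subgroup.index_ne_zero_of_finite)
        have hc0 : 0 < Nat.card V₀ := Nat.card_pos
        rw [← hidx]
        exact lt_mul_of_one_lt_right hc0 (by omega)
      have hsol' : Group.IsSolvable ρ.range :=
        Group.isSolvable_of_surjective (f := ρ.rangeRestrict) ρ.rangeRestrict_surjective
      have hdvd' : Nat.card ρ.range ∣ Nat.card A := Subgroup.card_range_dvd ρ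
      have hcop' : (Nat.card ρ.range).Coprime p :=
        Nat.Coprime.coprime_dvd_left hdvd' hcop
      obtain ⟨l', hl', hl'2⟩ := ih _ hlt V₀ ρ.range rfl hsol' hcop' hV₀p
      -- fixed points agree
      have hfix : Nat.card (fixedSub ρ.range) = Nat.card (fixedSub A) := by
        apply Nat.card_congr
        refine ⟨fun v => ⟨v.1.1, ?_⟩, fun v => ⟨⟨v.1, ?_⟩, ?_⟩, ?_, ?_⟩
        · intro σ hσ
          have := v.2 (ρ ⟨σ, hσ⟩) ⟨⟨σ, hσ⟩, rfl⟩
          exact congrArg Subtype.val this
        · intro σ hσ
          exact v.2 σ (hQA hσ)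
        · rintro _ ⟨a, rfl⟩
          apply Subtype.ext
          rw [hρ]
          exact v.2 a.1 a.2
        · intro v; rfl
        · intro v; rfl
      refine ⟨V₀.index :: l', ?_, ?_⟩
      · rw [List.prod_cons, ← hidx, hl', hfix]
        ring
      · intro x hx
        rw [List.mem_cons] at hx
        rcases hx with rfl | hx
        · exact ⟨V₀.index_dvd_card, q, hq, hqA, hr⟩
        · obtain ⟨h1, q', hq', hq'd, hx1⟩ := hl'2 x hx
          exact ⟨h1.trans (Subgroup.card_subgroup_dvd_card V₀), q', hq', hq'd.trans hdvd', hx1⟩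

theorem module_lemma {p : ℕ} (hp : p.Prime) (V : Type u) [Group V] [Finite V]
    (A : Subgroup (MulAut V)) (hsol : Group.IsSolvable A) (hcop : (Nat.card A).Coprime p)
    (hV : IsPGroup p V) : ModFact p V A :=
  module_lemma_aux hp _ V A rfl hsol hcop hV

end module

end Cfsg.Agent.Lib.Lead.HallCount
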