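import Cfsg.Agent.Lib.Lead.HallDirect1

set_option autoImplicit false

/-!
# Wielandt's `D_π` theorem for a Hall subgroup with a nilpotent direct factor:
`{p, r}`-subgroups are nilpotent
-/

namespace Cfsg.Agent.Lib.Lead.HallDirect

open scoped Pointwise

open Cfsg.Agent.Lib.Lead

universe u

variable {G : Type u} [Group G] {σ τ : Set ℕ} {H Hs Ht : Subgroup G}

theorem isPGroup_zpowers_of_mem {p : ℕ} {A : Subgroup G} (hA : IsPGroup p A) {a : G}
    (ha : a ∈ A) : IsPGroup p (Subgroup.zpowers a) :=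
  hA.to_le (Subgroup.zpowers_le.mpr ha)

theorem orderOf_coprime_of_mem [Finite G] {p r : ℕ} [hp : Fact p.Prime] [hr : Fact r.Prime]
    (hrp : r ≠ p) {B : Subgroup G} (hB : IsPGroup r B) {b : G} (hb : b ∈ B) :
    (orderOf b).Coprime p := by
  obtain ⟨k, hk⟩ := IsPGroup.iff_card.mp (isPGroup_zpowers_of_mem hB hb)
  rw [Nat.card_zpowers] at hk
  rw [hk]
  exact Nat.Coprime.pow_left _ ((Nat.coprime_primes hr.out hp.out).mpr hrp)

/-- a `p`-subgroup and an `r`-subgroup (a `π`-group), one normalizing the other, commute -/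
theorem Setup.commute_pr [Finite G] (S : Setup σ τ H Hs Ht) {p r : ℕ} [hpf : Fact p.Prime]
    [hrf : Fact r.Prime] (hp : p ∈ σ) (hrp : r ≠ p) (D R : Subgroup G) (hD : IsPGroup p D)
    (hR : IsPGroup r R) (hRπ : Cfsg.IsPiSubgroup (σ ∪ τ) R)
    (hnorm : R ≤ Subgroup.normalizer (D : Set G) ∨ D ≤ Subgroup.normalizer (R : Set G)) :
    ∀ d ∈ D, ∀ x ∈ R, d * x = x * d := by
  by_cases hR1 : R = ⊥
  · intro d _ x hx
    rw [hR1, Subgroup.mem_bot] at hx
    rw [hx, mul_one, one_mul]
  have hrR : r ∣ Nat.card R := by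
    obtain ⟨k, hk⟩ := IsPGroup.iff_card.mp hR
    rw [hk]
    apply dvd_pow_self
    intro h0
    rw [h0, pow_zero] at hk
    exact hR1 (Subgroup.card_eq_one.mp hk)
  have hrπ : r ∈ σ ∪ τ := hRπ r hrf.out hrR
  obtain ⟨A, hAH⟩ := S.exists_sylow_le (p := p) (Or.inl hp)
  obtain ⟨B, hBH⟩ := S.exists_sylow_le (p := r) hrπ
  have hcomm : ∀ a ∈ (A : Subgroup G), ∀ b ∈ (B : Subgroup G), a * b = b * a := by
    intro a ha b hb
    exact S.commute_p hp (hAH ha) (hBH hb) (isPGroup_zpowers_of_mem A.2 ha)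
      (orderOf_coprime_of_mem hrp B.2 hb)
  have hYnil := nilpotent_sup_of_commute (A : Subgroup G) (B : Subgroup G) A.2 B.2 hcomm
  have hAnB : (A : Subgroup G) ≤ Subgroup.normalizer ((B : Subgroup G) : Set G) := by
    intro a ha
    apply Cfsg.Agent.Lib.Helper2.mem_normalizer_of_commute
    intro b hb
    exact hcomm a ha b hb
  have hYcard := card_sup_mul_card_inf (A : Subgroup G) (B : Subgroup G) hAnB
  have hprimesY : ∀ q : ℕ, q.Prime → q ∣ Nat.card ((A : Subgroup G) ⊔ B : Subgroup G) →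
      q = p ∨ q = r := by
    intro q hq hd
    have h1 : q ∣ Nat.card (A : Subgroup G) * Nat.card (B : Subgroup G) := by
      rw [← hYcard]; exact Dvd.dvd.mul_right hd _
    rcases (Nat.Prime.dvd_mul hq).mp h1 with h | h
    · left
      rw [A.card_eq_multiplicity] at h
      exact (Nat.prime_dvd_prime_iff_eq hq hpf.out).mp (hq.dvd_of_dvd_pow h)
    · right
      rw [B.card_eq_multiplicity] at h
      exact (Nat.prime_dvd_prime_iff_eq hq hrf.out).mp (hq.dvd_of_dvd_pow h)
  have hHall : (Nat.card ((A : Subgroup G) ⊔ B : Subgroup G)).Coprime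
      ((A : Subgroup G) ⊔ B : Subgroup G).index := by
    apply Nat.coprime_of_dvd
    intro q hq hd hi
    rcases hprimesY q hq hd with rfl | rfl
    · exact A.not_dvd_index (hi.trans (Subgroup.index_dvd_of_le le_sup_left))
    · exact B.not_dvd_index (hi.trans (Subgroup.index_dvd_of_le le_sup_right))
  -- the subgroup `X = D ⊔ R`
  have hXcard : Nat.card (D ⊔ R : Subgroup G) ∣ Nat.card D * Nat.card R := by
    rcases hnorm with h | h
    · have := card_sup_mul_card_inf R D h
      rw [sup_comm] at this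
      rw [mul_comm (Nat.card D)]
      exact Dvd.intro _ this
    · exact Dvd.intro _ (card_sup_mul_card_inf D R h)
  have hK : ∀ q : ℕ, q.Prime → q ∣ Nat.card (D ⊔ R : Subgroup G) →
      q ∣ Nat.card ((A : Subgroup G) ⊔ B : Subgroup G) := by
    intro q hq hd
    have hqG : q ∣ Nat.card G := hd.trans (Subgroup.card_subgroup_dvd_card _)
    rcases (Nat.Prime.dvd_mul hq).mp (hd.trans hXcard) with h | h
    · obtain ⟨k, hk⟩ := IsPGroup.iff_card.mp hD
      rw [hk] at h
      have hqp : q = p := (Nat.prime_dvd_prime_iff_eq hq hpf.out).mp (hq.dvd_of_dvd_pow h)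
      subst hqp
      have h1 : q ∣ Nat.card (A : Subgroup G) := by
        rw [A.card_eq_multiplicity]
        exact dvd_pow_self q (hq.factorization_pos_of_dvd Nat.card_pos.ne' hqG).ne'
      exact h1.trans (Subgroup.card_dvd_of_le le_sup_left)
    · obtain ⟨k, hk⟩ := IsPGroup.iff_card.mp hR
      rw [hk] at h
      have hqr : q = r := (Nat.prime_dvd_prime_iff_eq hq hrf.out).mp (hq.dvd_of_dvd_pow h)
      subst hqr
      have h1 : q ∣ Nat.card (B : Subgroup G) := by
        rw [B.card_eq_multiplicity]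
        exact dvd_pow_self q (hq.factorization_pos_of_dvd Nat.card_pos.ne' hqG).ne'
      exact h1.trans (Subgroup.card_dvd_of_le le_sup_right)
  obtain ⟨x, hx⟩ := Cfsg.Agent.Lib.Helper2.NilpHall.wielandt _ (D ⊔ R) hYnil hHall hK
  have hΓ : Group.IsNilpotent (MulAut.conj x • ((A : Subgroup G) ⊔ B) : Subgroup G) := by
    haveI := hYnil
    exact Group.nilpotent_of_mulEquiv (Subgroup.equivSMul (MulAut.conj x) _)
  intro d hd y hy
  exact MaxNilp.commute_of_nilpotent hΓ (hx (Subgroup.mem_sup_left hd))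
    (hx (Subgroup.mem_sup_right hy)) (isPGroup_zpowers_of_mem hD hd)
    (orderOf_coprime_of_mem hrp hR hy)

end Cfsg.Agent.Lib.Lead.HallDirect
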