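import Cfsg.Agent.Lib.Lead.HallDirect2
import Cfsg.Agent.Lib.Lead.CoprimeSylow5

set_option autoImplicit false

/-!
# Wielandt's `D_π` theorem for a Hall subgroup with a nilpotent direct factor:
decomposition of `π`-subgroups
-/

namespace Cfsg.Agent.Lib.Lead.HallDirect

open scoped Pointwise

open Cfsg.Agent.Lib.Lead

universe u

variable {G : Type u} [Group G] {σ τ : Set ℕ} {H Hs Ht : Subgroup G}

theorem IsPiSubgroup.mono [Finite G] {π : Set ℕ} {K L : Subgroup G} (hK : Cfsg.IsPiSubgroup π K)
    (hLK : L ≤ K) : Cfsg.IsPiSubgroup π L :=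
  fun q hq hd => hK q hq (hd.trans (Subgroup.card_dvd_of_le hLK))

/-- a `p`-subgroup of order prime to `p` is trivial -/
theorem eq_bot_of_isPGroup_of_coprime [Finite G] {p : ℕ} [hp : Fact p.Prime] {R : Subgroup G}
    (hR : IsPGroup p R) (hc : (Nat.card R).Coprime p) : R = ⊥ := by
  obtain ⟨k, hk⟩ := IsPGroup.iff_card.mp hR
  rw [← Subgroup.card_eq_one, hk]
  rcases Nat.eq_zero_or_pos k with h | h
  · rw [h, pow_zero]
  · exfalso
    rw [hk] at hc
    have : p ∣ 1 := by
      have h1 : p ∣ p ^ k := dvd_pow_self p h.ne'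
      have := Nat.Coprime.eq_one_of_dvd hc.symm h1
      rw [this]
    exact hp.out.one_lt.ne' (Nat.dvd_one.mp this)

/-- for `p ∈ σ`, a `π`-subgroup has a central Sylow `p`-factor -/
theorem Setup.decomp [Finite G] (S : Setup σ τ H Hs Ht) {p : ℕ} [hpf : Fact p.Prime]
    (hp : p ∈ σ) (K : Subgroup G) (hK : Cfsg.IsPiSubgroup (σ ∪ τ) K) :
    ∃ P₀ L : Subgroup G, P₀ ≤ K ∧ L ≤ K ∧ IsPGroup p P₀ ∧ (Nat.card L).Coprime p ∧
      Nat.card L * Nat.card P₀ = Nat.card K ∧ (∀ x ∈ P₀, ∀ y ∈ L, x * y = y * x) ∧
      K ≤ P₀ ⊔ L := by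
  -- Frobenius' criterion
  have hloc : PLocalCentral p K := by
    intro D' hD' g' hg' hcop
    have hD : IsPGroup p (D'.map K.subtype) := hD'.map _
    have hgN : (g' : G) ∈ Subgroup.normalizer ((D'.map K.subtype : Subgroup G) : Set G) := by
      rw [mem_normalizer_iff_conj_smul]
      have h1 : MulAut.conj g' • D' = D' := (mem_normalizer_iff_conj_smul g' D').mp hg'
      have h2 := congrArg (Subgroup.map K.subtype) h1
      rw [map_conj_smul] at h2
      exact h2
    have hcop' : (orderOf (g' : G)).Coprime p := by rw [Subgroup.orderOf_coe]; exact hcop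
    have hZN : Subgroup.zpowers (g' : G) ≤
        Subgroup.normalizer ((D'.map K.subtype : Subgroup G) : Set G) :=
      Subgroup.zpowers_le.mpr hgN
    have hZK : Subgroup.zpowers (g' : G) ≤ K := Subgroup.zpowers_le.mpr g'.2
    have htop : (Subgroup.centralizer ((D'.map K.subtype : Subgroup G) : Set G)).subgroupOf
        (Subgroup.zpowers (g' : G)) = ⊤ := by
      apply eq_top_of_forall_sylow_le
      intro r hrf
      obtain ⟨R⟩ : Nonempty (Sylow r (Subgroup.zpowers (g' : G))) := inferInstance
      refine ⟨R, ?_⟩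
      have hR'Z : (R : Subgroup _).map (Subgroup.zpowers (g' : G)).subtype ≤
          Subgroup.zpowers (g' : G) := Subgroup.map_subtype_le _
      have hR' : IsPGroup r ((R : Subgroup _).map (Subgroup.zpowers (g' : G)).subtype) :=
        R.2.map _
      have hle : (R : Subgroup _).map (Subgroup.zpowers (g' : G)).subtype ≤
          Subgroup.centralizer ((D'.map K.subtype : Subgroup G) : Set G) := by
        by_cases hrp : r = p
        · subst hrp
          have hc : (Nat.card ((R : Subgroup _).map
              (Subgroup.zpowers (g' : G)).subtype)).Coprime r := by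
            apply Nat.Coprime.coprime_dvd_left (Subgroup.card_dvd_of_le hR'Z)
            rw [Nat.card_zpowers]; exact hcop'
          rw [eq_bot_of_isPGroup_of_coprime hR' hc]
          exact bot_le
        · have hcomm := S.commute_pr hp hrp (D'.map K.subtype) _ hD hR'
            (IsPiSubgroup.mono hK (hR'Z.trans hZK)) (Or.inl (hR'Z.trans hZN))
          intro x hx
          rw [Subgroup.mem_centralizer_iff]
          intro d hd
          exact hcomm d hd x hx
      intro x hx
      rw [Subgroup.mem_subgroupOf]
      exact hle ⟨x, hx, rfl⟩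
    have hgc : (g' : G) ∈ Subgroup.centralizer ((D'.map K.subtype : Subgroup G) : Set G) := by
      have h1 : (⟨(g' : G), Subgroup.mem_zpowers _⟩ : Subgroup.zpowers (g' : G)) ∈
          (Subgroup.centralizer ((D'.map K.subtype : Subgroup G) : Set G)).subgroupOf
            (Subgroup.zpowers (g' : G)) := by rw [htop]; exact Subgroup.mem_top _
      exact Subgroup.mem_subgroupOf.mp h1
    rw [Subgroup.mem_centralizer_iff]
    intro h hh
    apply Subtype.ext
    exact (Subgroup.mem_centralizer_iff.mp hgc) (h : G) ⟨h, hh, rfl⟩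
  obtain ⟨P, N, hN, hc⟩ := hasNormalPComplement_iff_plocalCentral.mpr hloc
  have hcardmul := hc.card_mul_card
  have hNcop := card_coprime_of_isComplement' P N hc
  have hP₀K : (P : Subgroup K).map K.subtype ≤ K := Subgroup.map_subtype_le _
  have hLK : N.map K.subtype ≤ K := Subgroup.map_subtype_le _
  have hP₀ : IsPGroup p ((P : Subgroup K).map K.subtype) := P.2.map _
  have hLcop : (Nat.card (N.map K.subtype)).Coprime p := by rw [card_map_subtype]; exact hNcop
  have hcard : Nat.card (N.map K.subtype) * Nat.card ((P : Subgroup K).map K.subtype) =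
      Nat.card K := by
    rw [card_map_subtype, card_map_subtype]; exact hcardmul
  have hKnL : K ≤ Subgroup.normalizer ((N.map K.subtype : Subgroup G) : Set G) := by
    intro k hk
    rw [mem_normalizer_iff_conj_smul]
    have h1 : MulAut.conj (⟨k, hk⟩ : K) • N = N := Subgroup.Normal.conj_smul_eq_self _ _
    have h2 := congrArg (Subgroup.map K.subtype) h1
    rw [map_conj_smul] at h2
    exact h2
  have hPnL := hP₀K.trans hKnL
  have hcopPL : (Nat.card ((P : Subgroup K).map K.subtype)).Coprime
      (Nat.card (N.map K.subtype)) := by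
    obtain ⟨k, hk⟩ := IsPGroup.iff_card.mp hP₀
    rw [hk]
    exact Nat.Coprime.pow_left _ hLcop.symm
  have hsolv : Group.IsSolvable ((P : Subgroup K).map K.subtype) := by
    have := hP₀.isNilpotent
    infer_instance
  -- `P₀` centralizes `L`
  have hcent : N.map K.subtype ≤
      Subgroup.centralizer (((P : Subgroup K).map K.subtype : Subgroup G) : Set G) := by
    have htop : (Subgroup.centralizer (((P : Subgroup K).map K.subtype : Subgroup G) :
        Set G)).subgroupOf (N.map K.subtype) = ⊤ := by
      apply eq_top_of_forall_sylow_le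
      intro r hrf
      by_cases hrp : r = p
      · subst hrp
        obtain ⟨R⟩ : Nonempty (Sylow r (N.map K.subtype : Subgroup G)) := inferInstance
        refine ⟨R, ?_⟩
        have hR1 : (R : Subgroup (N.map K.subtype : Subgroup G)) = ⊥ := by
          apply eq_bot_of_isPGroup_of_coprime R.2
          exact Nat.Coprime.coprime_dvd_left (Subgroup.card_subgroup_dvd_card _) hLcop
        rw [hR1]; exact bot_le
      · obtain ⟨R, hR⟩ := coprime_invariant_sylow_exists _ _ hPnL hcopPL (Or.inl hsolv) r
        refine ⟨R, ?_⟩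
        have hR'L : (R : Subgroup _).map (N.map K.subtype).subtype ≤ N.map K.subtype :=
          Subgroup.map_subtype_le _
        have hcomm := S.commute_pr hp hrp ((P : Subgroup K).map K.subtype) _ hP₀ (R.2.map _)
          (IsPiSubgroup.mono hK (hR'L.trans hLK)) (Or.inr hR)
        intro x hx
        rw [Subgroup.mem_subgroupOf, Subgroup.mem_centralizer_iff]
        intro d hd
        exact hcomm d hd x ⟨x, hx, rfl⟩
    intro y hy
    have h1 : (⟨y, hy⟩ : (N.map K.subtype : Subgroup G)) ∈
        (Subgroup.centralizer (((P : Subgroup K).map K.subtype : Subgroup G) :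
        Set G)).subgroupOf (N.map K.subtype) := by rw [htop]; exact Subgroup.mem_top _
    exact Subgroup.mem_subgroupOf.mp h1
  refine ⟨(P : Subgroup K).map K.subtype, N.map K.subtype, hP₀K, hLK, hP₀, hLcop, hcard, ?_, ?_⟩
  · intro x hx y hy
    exact ((Subgroup.mem_centralizer_iff.mp (hcent hy)) x hx)
  · have hinf : (P : Subgroup K).map K.subtype ⊓ N.map K.subtype = ⊥ :=
      (Subgroup.disjoint_of_coprime_natCard hcopPL).eq_bot
    have h1 := card_sup_mul_card_inf _ _ hPnL
    rw [hinf, Subgroup.card_bot, mul_one, mul_comm, hcard] at h1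
    have h2 : (P : Subgroup K).map K.subtype ⊔ N.map K.subtype ≤ K := sup_le hP₀K hLK
    exact (Subgroup.eq_of_le_of_card_ge h2 h1.ge).ge

end Cfsg.Agent.Lib.Lead.HallDirect
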