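import Mathlib
import Cfsg.Agent.Lib.Helper7.MaxCls1

set_option autoImplicit false

/-! # HKK (S3779): the Hall–Witt identity modulo the lower central series

Pure group lemma for the Jacobi identity of the associated graded Lie ring:
for `x ∈ Γ i`, `y ∈ Γ j`, `z ∈ Γ k` the product `⁅⁅x,y⁆,z⁆ * ⁅⁅y,z⁆,x⁆ * ⁅⁅z,x⁆,y⁆`
lies in `Γ (i+j+k+3)` (`Γ n = (⊤ : Subgroup G).lowerCentralSeries n`, so `Γ 0 = ⊤`). -/

namespace Cfsg.Agent.Lib.Lead.HkkJac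

open scoped commutatorElement
open Cfsg.Agent.Lib.Helper7.MaxCls (lcs_comm lcs_normal)

/-- Hall–Witt identity for the convention `⁅a, b⁆ = a * b * a⁻¹ * b⁻¹`. -/
theorem hall_witt {Q : Type*} [Group Q] (X Y Z : Q) :
    ⁅⁅X, Y⁆, Y * Z * Y⁻¹⁆ * ⁅⁅Y, Z⁆, Z * X * Z⁻¹⁆ * ⁅⁅Z, X⁆, X * Y * X⁻¹⁆ = 1 := by
  simp only [commutatorElement_def]; group

theorem comm_mul_right' {Q : Type*} [Group Q] (U A Z : Q) :
    ⁅U, A * Z⁆ = ⁅U, A⁆ * (A * ⁅U, Z⁆ * A⁻¹) := by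
  simp only [commutatorElement_def]; group

/-- if `⁅U, ⁅Y, Z⁆⁆ = 1` and `⁅U, Z⁆` commutes with `⁅Y, Z⁆`, then `⁅U, Y Z Y⁻¹⁆ = ⁅U, Z⁆`. -/
theorem comm_conj_eq {Q : Type*} [Group Q] (U Y Z : Q) (h1 : ⁅U, ⁅Y, Z⁆⁆ = 1)
    (hc : Commute ⁅Y, Z⁆ ⁅U, Z⁆) : ⁅U, Y * Z * Y⁻¹⁆ = ⁅U, Z⁆ := by
  have e : Y * Z * Y⁻¹ = ⁅Y, Z⁆ * Z := by simp only [commutatorElement_def]; group
  rw [e, comm_mul_right', h1, one_mul, hc.eq, mul_inv_cancel_right]

/-- the abstract form: in a group where the three double commutators are central and the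
mixed commutators vanish, the cyclic Jacobi product is trivial. -/
theorem jacobi_abstract {Q : Type*} [Group Q] (X Y Z : Q)
    (h1 : ⁅⁅X, Y⁆, ⁅Y, Z⁆⁆ = 1) (h2 : ⁅⁅Y, Z⁆, ⁅Z, X⁆⁆ = 1) (h3 : ⁅⁅Z, X⁆, ⁅X, Y⁆⁆ = 1)
    (c1 : ∀ g : Q, Commute g ⁅⁅X, Y⁆, Z⁆) (c2 : ∀ g : Q, Commute g ⁅⁅Y, Z⁆, X⁆)
    (c3 : ∀ g : Q, Commute g ⁅⁅Z, X⁆, Y⁆) :
    ⁅⁅X, Y⁆, Z⁆ * ⁅⁅Y, Z⁆, X⁆ * ⁅⁅Z, X⁆, Y⁆ = 1 := by
  have e1 := comm_conj_eq ⁅X, Y⁆ Y Z h1 (c1 _)
  have e2 := comm_conj_eq ⁅Y, Z⁆ Z X h2 (c2 _)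
  have e3 := comm_conj_eq ⁅Z, X⁆ X Y h3 (c3 _)
  have h := hall_witt X Y Z
  rw [e1, e2, e3] at h
  exact h

theorem comm_inv_left {Q : Type*} [Group Q] (u y : Q) :
    ⁅u⁻¹, y⁆ = u⁻¹ * ⁅u, y⁆⁻¹ * u := by
  simp only [commutatorElement_def]; group

/-- Leibniz form of `jacobi_abstract`. -/
theorem leibniz_abstract {Q : Type*} [Group Q] (X Y Z : Q)
    (h1 : ⁅⁅X, Y⁆, ⁅Y, Z⁆⁆ = 1) (h2 : ⁅⁅Y, Z⁆, ⁅Z, X⁆⁆ = 1) (h3 : ⁅⁅Z, X⁆, ⁅X, Y⁆⁆ = 1)
    (c1 : ∀ g : Q, Commute g ⁅⁅X, Y⁆, Z⁆) (c2 : ∀ g : Q, Commute g ⁅⁅Y, Z⁆, X⁆)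
    (c3 : ∀ g : Q, Commute g ⁅⁅Z, X⁆, Y⁆) :
    ⁅X, ⁅Y, Z⁆⁆⁻¹ * (⁅⁅X, Y⁆, Z⁆ * ⁅Y, ⁅X, Z⁆⁆) = 1 := by
  have key := jacobi_abstract X Y Z h1 h2 h3 c1 c2 c3
  have e1 : ⁅X, ⁅Y, Z⁆⁆⁻¹ = ⁅⁅Y, Z⁆, X⁆ := commutatorElement_inv _ _
  have e2 : ⁅Y, ⁅X, Z⁆⁆ = ⁅⁅Z, X⁆, Y⁆ := by
    have a : ⁅X, Z⁆ = ⁅Z, X⁆⁻¹ := (commutatorElement_inv Z X).symm
    have b : ⁅⁅Z, X⁆⁻¹, Y⁆ = ⁅⁅Z, X⁆, Y⁆⁻¹ := by
      rw [comm_inv_left]
      have c := (c3 ⁅Z, X⁆).inv_right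
      rw [mul_assoc, ← c.eq, inv_mul_cancel_left]
    rw [← commutatorElement_inv ⁅X, Z⁆ Y, a, b, inv_inv]
  rw [e1, e2, ← mul_assoc, ← (c2 ⁅⁅X, Y⁆, Z⁆).eq]
  exact key

variable {G : Type*} [Group G] [Finite G]

theorem comm_mem (i j : ℕ) {x y : G} (hx : x ∈ (⊤ : Subgroup G).lowerCentralSeries i)
    (hy : y ∈ (⊤ : Subgroup G).lowerCentralSeries j) :
    ⁅x, y⁆ ∈ (⊤ : Subgroup G).lowerCentralSeries (i + j + 1) :=
  lcs_comm i j (Subgroup.commutator_mem_commutator hx hy)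

omit [Finite G] in
theorem lcs_anti {m n : ℕ} (h : m ≤ n) :
    (⊤ : Subgroup G).lowerCentralSeries n ≤ (⊤ : Subgroup G).lowerCentralSeries m :=
  Subgroup.lowerCentralSeries_antitone (⊤ : Subgroup G) h

/-- **Hall–Witt modulo the lower central series** (cyclic Jacobi identity). -/
theorem hall_witt_lcs (i j k : ℕ) {x y z : G}
    (hx : x ∈ (⊤ : Subgroup G).lowerCentralSeries i)
    (hy : y ∈ (⊤ : Subgroup G).lowerCentralSeries j)
    (hz : z ∈ (⊤ : Subgroup G).lowerCentralSeries k) :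
    ⁅⁅x, y⁆, z⁆ * ⁅⁅y, z⁆, x⁆ * ⁅⁅z, x⁆, y⁆ ∈
      (⊤ : Subgroup G).lowerCentralSeries (i + j + k + 3) := by
  set N : Subgroup G := (⊤ : Subgroup G).lowerCentralSeries (i + j + k + 3) with hN
  set π := QuotientGroup.mk' N with hπ
  have hker : ∀ g : G, g ∈ N → π g = 1 := fun g hg => (QuotientGroup.eq_one_iff _).2 hg
  -- elements of `Γ (i+j+k+2)` are central modulo `N`
  have hcent : ∀ u : G, u ∈ (⊤ : Subgroup G).lowerCentralSeries (i + j + k + 2) →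
      ∀ q : G ⧸ N, Commute q (π u) := by
    intro u hu q
    obtain ⟨g, rfl⟩ := QuotientGroup.mk'_surjective N q
    have h : ⁅g, u⁆ ∈ N := by
      have := comm_mem (G := G) 0 (i + j + k + 2) (x := g) (y := u) (by simp) hu
      have e : 0 + (i + j + k + 2) + 1 = i + j + k + 3 := by omega
      rw [e] at this
      exact this
    have h1 : π ⁅g, u⁆ = 1 := hker _ h
    rw [map_commutatorElement, commutatorElement_eq_one_iff_mul_comm] at h1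
    exact h1
  have hxy := comm_mem i j hx hy
  have hyz := comm_mem j k hy hz
  have hzx := comm_mem k i hz hx
  have t1 : ⁅⁅x, y⁆, z⁆ ∈ (⊤ : Subgroup G).lowerCentralSeries (i + j + k + 2) := by
    have := comm_mem (i + j + 1) k hxy hz
    have e : i + j + 1 + k + 1 = i + j + k + 2 := by omega
    rwa [e] at this
  have t2 : ⁅⁅y, z⁆, x⁆ ∈ (⊤ : Subgroup G).lowerCentralSeries (i + j + k + 2) := by
    have := comm_mem (j + k + 1) i hyz hx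
    have e : j + k + 1 + i + 1 = i + j + k + 2 := by omega
    rwa [e] at this
  have t3 : ⁅⁅z, x⁆, y⁆ ∈ (⊤ : Subgroup G).lowerCentralSeries (i + j + k + 2) := by
    have := comm_mem (k + i + 1) j hzx hy
    have e : k + i + 1 + j + 1 = i + j + k + 2 := by omega
    rwa [e] at this
  have m1 : π ⁅⁅x, y⁆, ⁅y, z⁆⁆ = 1 :=
    hker _ (lcs_anti (by omega) (comm_mem (i + j + 1) (j + k + 1) hxy hyz))
  have m2 : π ⁅⁅y, z⁆, ⁅z, x⁆⁆ = 1 :=
    hker _ (lcs_anti (by omega) (comm_mem (j + k + 1) (k + i + 1) hyz hzx))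
  have m3 : π ⁅⁅z, x⁆, ⁅x, y⁆⁆ = 1 :=
    hker _ (lcs_anti (by omega) (comm_mem (k + i + 1) (i + j + 1) hzx hxy))
  have key := jacobi_abstract (π x) (π y) (π z)
    (by simpa only [map_commutatorElement] using m1)
    (by simpa only [map_commutatorElement] using m2)
    (by simpa only [map_commutatorElement] using m3)
    (fun g => by simpa only [map_commutatorElement] using hcent _ t1 g)
    (fun g => by simpa only [map_commutatorElement] using hcent _ t2 g)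
    (fun g => by simpa only [map_commutatorElement] using hcent _ t3 g)
  have : π (⁅⁅x, y⁆, z⁆ * ⁅⁅y, z⁆, x⁆ * ⁅⁅z, x⁆, y⁆) = 1 := by
    simpa only [map_mul, map_commutatorElement] using key
  exact (QuotientGroup.eq_one_iff _).1 this

/-- **Leibniz form** of `hall_witt_lcs`, matching the `jac` field of `GrLie` through
`lay_eq_iff` / `lay_mul`. -/
theorem leibniz_lcs (i j k : ℕ) {x y z : G}
    (hx : x ∈ (⊤ : Subgroup G).lowerCentralSeries i)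
    (hy : y ∈ (⊤ : Subgroup G).lowerCentralSeries j)
    (hz : z ∈ (⊤ : Subgroup G).lowerCentralSeries k) :
    ⁅x, ⁅y, z⁆⁆⁻¹ * (⁅⁅x, y⁆, z⁆ * ⁅y, ⁅x, z⁆⁆) ∈
      (⊤ : Subgroup G).lowerCentralSeries (i + j + k + 3) := by
  set N : Subgroup G := (⊤ : Subgroup G).lowerCentralSeries (i + j + k + 3) with hN
  set π := QuotientGroup.mk' N with hπ
  have hker : ∀ g : G, g ∈ N → π g = 1 := fun g hg => (QuotientGroup.eq_one_iff _).2 hg
  have hcent : ∀ u : G, u ∈ (⊤ : Subgroup G).lowerCentralSeries (i + j + k + 2) →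
      ∀ q : G ⧸ N, Commute q (π u) := by
    intro u hu q
    obtain ⟨g, rfl⟩ := QuotientGroup.mk'_surjective N q
    have h : ⁅g, u⁆ ∈ N := by
      have := comm_mem (G := G) 0 (i + j + k + 2) (x := g) (y := u) (by simp) hu
      have e : 0 + (i + j + k + 2) + 1 = i + j + k + 3 := by omega
      rw [e] at this
      exact this
    have h1 : π ⁅g, u⁆ = 1 := hker _ h
    rw [map_commutatorElement, commutatorElement_eq_one_iff_mul_comm] at h1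
    exact h1
  have hxy := comm_mem i j hx hy
  have hyz := comm_mem j k hy hz
  have hzx := comm_mem k i hz hx
  have t1 : ⁅⁅x, y⁆, z⁆ ∈ (⊤ : Subgroup G).lowerCentralSeries (i + j + k + 2) := by
    have := comm_mem (i + j + 1) k hxy hz
    have e : i + j + 1 + k + 1 = i + j + k + 2 := by omega
    rwa [e] at this
  have t2 : ⁅⁅y, z⁆, x⁆ ∈ (⊤ : Subgroup G).lowerCentralSeries (i + j + k + 2) := by
    have := comm_mem (j + k + 1) i hyz hx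
    have e : j + k + 1 + i + 1 = i + j + k + 2 := by omega
    rwa [e] at this
  have t3 : ⁅⁅z, x⁆, y⁆ ∈ (⊤ : Subgroup G).lowerCentralSeries (i + j + k + 2) := by
    have := comm_mem (k + i + 1) j hzx hy
    have e : k + i + 1 + j + 1 = i + j + k + 2 := by omega
    rwa [e] at this
  have m1 : π ⁅⁅x, y⁆, ⁅y, z⁆⁆ = 1 :=
    hker _ (lcs_anti (by omega) (comm_mem (i + j + 1) (j + k + 1) hxy hyz))
  have m2 : π ⁅⁅y, z⁆, ⁅z, x⁆⁆ = 1 :=
    hker _ (lcs_anti (by omega) (comm_mem (j + k + 1) (k + i + 1) hyz hzx))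
  have m3 : π ⁅⁅z, x⁆, ⁅x, y⁆⁆ = 1 :=
    hker _ (lcs_anti (by omega) (comm_mem (k + i + 1) (i + j + 1) hzx hxy))
  have key := leibniz_abstract (π x) (π y) (π z)
    (by simpa only [map_commutatorElement] using m1)
    (by simpa only [map_commutatorElement] using m2)
    (by simpa only [map_commutatorElement] using m3)
    (fun g => by simpa only [map_commutatorElement] using hcent _ t1 g)
    (fun g => by simpa only [map_commutatorElement] using hcent _ t2 g)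
    (fun g => by simpa only [map_commutatorElement] using hcent _ t3 g)
  have : π (⁅x, ⁅y, z⁆⁆⁻¹ * (⁅⁅x, y⁆, z⁆ * ⁅y, ⁅x, z⁆⁆)) = 1 := by
    simpa only [map_mul, map_inv, map_commutatorElement] using key
  exact (QuotientGroup.eq_one_iff _).1 this

end Cfsg.Agent.Lib.Lead.HkkJac
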