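import Mathlib
import Cfsg.Agent.Lib.Lead.Holo12

set_option autoImplicit false

namespace Cfsg.Agent.Lib.Lead.Holo

open scoped commutatorElement Pointwise
open Cfsg.Agent.Lib.Helper2.OmegaZ Cfsg.Agent.Lib.Lead.KS93 Cfsg.Agent.Lib.Lead

universe u

section main
variable {G : Type u} [Group G] [Finite G] {p q : ℕ} [hp : Fact p.Prime] [hq : Fact q.Prime]
  (K X : Subgroup G) (hXK : X ≤ Subgroup.normalizer (K : Set G))

include hXK in
theorem exists_sl2_fixed (hX : Cfsg.IsElementaryAbelian q X) (hqK : ¬ q ∣ Nat.card K)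
    (hsep : Cfsg.IsPSolvable p ↥K) (hO : Cfsg.pPrimeCore p ↥K = ⊥)
    (hnf : ¬ Cfsg.IsThompsonFactorizable p ↥K) :
    (p = 2 ∨ p = 3) ∧ ∃ W D : Subgroup G, W ≤ K ⊓ Subgroup.centralizer (X : Set G) ∧
      D ≤ K ⊓ Subgroup.centralizer (X : Set G) ∧ Cfsg.IsElementaryAbelian p W ∧
      Nat.card W = p ^ 2 ∧ D ≤ Subgroup.normalizer (W : Set G) ∧
      ∃ hn : ((Subgroup.centralizer (W : Set G)).subgroupOf D).Normal,
        Nonempty ((↥D ⧸ (Subgroup.centralizer (W : Set G)).subgroupOf D) ≃*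
          Matrix.SpecialLinearGroup (Fin 2) (ZMod p)) := by
  classical
  have hc := Cfsg.Agent.Lib.Helper4.centralizer_pCore_le_of_isPSolvable hsep hO
  haveI hVc : (VV p ↥K).Characteristic := VV_characteristic
  have hVea : Cfsg.IsElementaryAbelian p (VV p ↥K) := isEA_of_le_omegaZ _ (VV_le_omegaZ hc)
  haveI hn : (Subgroup.centralizer ((VV p ↥K : Subgroup ↥K) : Set ↥K)).Normal :=
    Subgroup.normal_centralizer
  have hC := pCore_quotient_centralizer_VV (G := ↥K) (p := p)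
  obtain ⟨H', Q', hH', St, hS3'⟩ := exists_setup (VV p ↥K) hVea hsep hC
  obtain ⟨J, hJdef⟩ : ∃ J : Subgroup ↥K, J = Cfsg.thompsonSubgroup p ↥K := ⟨_, rfl⟩
  rw [← hJdef] at hH'
  haveI hJc : J.Characteristic := by rw [hJdef]; exact thompsonSubgroup_characteristic p
  haveI hJn : J.Normal := inferInstance
  obtain ⟨hXab, hXexp⟩ := (Cfsg.Agent.Lib.Helper2.isEA_iff q X).mp hX
  have hXq : IsPGroup q X := by
    intro g
    refine ⟨1, Subtype.ext ?_⟩
    rw [pow_one]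
    simpa using hXexp g g.2
  have hcop : (Nat.card X).Coprime (Nat.card K) := by
    obtain ⟨n, hn⟩ := hXq.exists_card_eq
    rw [hn]
    exact Nat.Coprime.pow_left n ((Nat.Prime.coprime_iff_not_dvd hq.out).mpr hqK)
  have hH'K : Nat.card H' ∣ Nat.card K := by
    rw [hH']
    exact dvd_trans (Dvd.intro_left _ (card_inf_ker_mul_card_map (psi (VV p ↥K)) J))
      (Subgroup.card_subgroup_dvd_card J)
  have hqH' : ¬ q ∣ Nat.card H' := fun h => hqK (dvd_trans h hH'K)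
  have hXH' : (xi K X hXK (VV p ↥K)).range ≤
      Subgroup.normalizer ((H' : Subgroup (Hol (VV p ↥K))) : Set (Hol (VV p ↥K))) := by
    rw [hH']
    exact xi_range_le_normalizer K X hXK (VV p ↥K) J
  have hJ : ¬ J ≤ Subgroup.centralizer ((VV p ↥K : Subgroup ↥K) : Set ↥K) := by
    intro h
    apply hnf
    apply Cfsg.Agent.Lib.Helper2.ThompsonOf.factorizable_of_le_centralizer
    rw [← hJdef]
    exact h
  have hH1' : H' ≠ ⊥ := by
    intro h
    apply hJ
    rw [hH', Subgroup.map_eq_bot_iff, ker_psi] at h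
    exact h
  have hex : ∃ A : Subgroup (Hol (VV p ↥K)), MinOff p (VH (VV p ↥K)) H' A := by
    by_contra h
    push Not at h
    apply hH1'
    rw [eq_bot_iff]
    exact le_of_minOff St hS3' (fun D MD => absurd MD (h D))
  obtain ⟨A, M⟩ := hex
  obtain ⟨hp23, -⟩ := M.iso St
  obtain ⟨a', b', e1', e2', k, ha', hb', he1', he2', hk, he2ne, r1, r2, r3, r4⟩ :=
    M.exists_fixed_data hS3' St (xi_range_comm K X hXK (VV p ↥K) hXab)
      (xi_range_isPGroup K X hXK (VV p ↥K) hXq) (le_normalizer_VH (VV p ↥K) _) hXH' hqH'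
  rw [hH'] at ha' hb'
  obtain ⟨da, rfl, hda⟩ :=
    exists_of_mem_map_inf_centralizer K X hXK (VV p ↥K) hXab hcop J ha'
  obtain ⟨db, rfl, hdb⟩ :=
    exists_of_mem_map_inf_centralizer K X hXK (VV p ↥K) hXab hcop J hb'
  obtain ⟨v1, rfl, hv1⟩ := exists_of_mem_VH_inf_centralizer K X hXK (VV p ↥K) he1'
  obtain ⟨v2, rfl, hv2⟩ := exists_of_mem_VH_inf_centralizer K X hXK (VV p ↥K) he2'
  rw [← map_pow, ← map_mul] at r2
  rw [← map_mul] at r3
  have f1 := congrArg (Subtype.val : ↥K → G) (conj_eq_of_psi_conj_inl (VV p ↥K) r1)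
  have f6 := congrArg (Subtype.val : ↥K → G) (conj_eq_of_psi_conj_inl (VV p ↥K) r2)
  have f4 := congrArg (Subtype.val : ↥K → G) (conj_eq_of_psi_conj_inl (VV p ↥K) r3)
  have f5 := congrArg (Subtype.val : ↥K → G) (conj_eq_of_psi_conj_inl (VV p ↥K) r4)
  simp only [Subgroup.coe_mul, Subgroup.coe_inv, Subgroup.coe_pow] at f1 f6 f4 f5
  obtain ⟨hVab, hVexp⟩ := (Cfsg.Agent.Lib.Helper2.isEA_iff p (VV p ↥K)).mp hVea
  have h1p : (((v1 : ↥K) : G)) ^ p = 1 := by
    have := congrArg (Subtype.val : ↥K → G) (hVexp v1 v1.2)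
    simpa using this
  have h2p : (((v2 : ↥K) : G)) ^ p = 1 := by
    have := congrArg (Subtype.val : ↥K → G) (hVexp v2 v2.2)
    simpa using this
  have hcomm : (((v1 : ↥K) : G)) * ((v2 : ↥K) : G) = ((v2 : ↥K) : G) * ((v1 : ↥K) : G) := by
    have := congrArg (Subtype.val : ↥K → G) (hVab v1 v1.2 v2 v2.2)
    simpa using this
  have hw2 : (((v2 : ↥K) : G)) ≠ 1 := by
    intro h
    apply he2ne
    have : v2 = 1 := Subtype.ext (Subtype.ext h)
    rw [this, map_one]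
  obtain ⟨hWea, hcard, hDW, hn', hiso⟩ :=
    sl2_section_of_relations hk h1p h2p hcomm hw2 f1 f6 f4 f5
  refine ⟨hp23, _, _, ?_, ?_, hWea, hcard, hDW, hn', hiso⟩
  · exact sup_le (Subgroup.zpowers_le.mpr ⟨(v1 : ↥K).2, hv1⟩)
      (Subgroup.zpowers_le.mpr ⟨(v2 : ↥K).2, hv2⟩)
  · exact sup_le (Subgroup.zpowers_le.mpr ⟨da.2, hda⟩) (Subgroup.zpowers_le.mpr ⟨db.2, hdb⟩)

end main

end Cfsg.Agent.Lib.Lead.Holo
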