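import Mathlib
import Cfsg.Agent.Lib.Lead.Holo5
import Cfsg.Agent.Lib.Helper2.ThompsonOf

set_option autoImplicit false

namespace Cfsg.Agent.Lib.Lead.Holo

open scoped commutatorElement

universe u

/-- KS 9.3.9: `[Ω₁(Z(J(C_G(V)))), J(G)] ≤ V` -/
theorem commutator_omega_thompson_le {G : Type u} [Group G] [Finite G] {p : ℕ} [Fact p.Prime]
    (hsep : Cfsg.IsPSolvable p G) (V : Subgroup G) [V.Normal] (hV : Cfsg.IsElementaryAbelian p V)
    (hO : Cfsg.pCore p (G ⧸ Subgroup.centralizer (V : Set G)) = ⊥) :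
    ⁅Cfsg.omegaOne p (Cfsg.centerThompsonOf p (Subgroup.centralizer (V : Set G))),
      Cfsg.thompsonSubgroup p G⁆ ≤ V := by
  classical
  haveI hn : (Subgroup.centralizer (V : Set G)).Normal := Subgroup.normal_centralizer
  have hVab : ∀ x ∈ V, ∀ y ∈ V, x * y = y * x := ((Cfsg.Agent.Lib.Helper2.isEA_iff p V).mp hV).1
  have hVC : V ≤ Subgroup.centralizer (V : Set G) := by
    intro v hv
    rw [Subgroup.mem_centralizer_iff]
    intro y hy
    exact hVab y hy v hv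
  have key : ∀ x ∈ Cfsg.centerThompsonOf p (Subgroup.centralizer (V : Set G)), x ^ p = 1 →
      ∀ A ∈ Cfsg.maxElementaryAbelianSubgroups p G, ∀ a ∈ A, ⁅x, a⁆ ∈ V := by
    intro x hx hxp A hA a ha
    have hAab : ∀ x ∈ A, ∀ y ∈ A, x * y = y * x := ((Cfsg.Agent.Lib.Helper2.isEA_iff p A).mp hA.1).1
    obtain ⟨A₀, hA₀⟩ : ∃ A₀ : Subgroup G, A₀ = A ⊓ Subgroup.centralizer (V : Set G) := ⟨_, rfl⟩
    have hA₀A : A₀ ≤ A := by rw [hA₀]; exact inf_le_left
    have hA₀C : A₀ ≤ Subgroup.centralizer (V : Set G) := by rw [hA₀]; exact inf_le_right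
    have hBEA : Cfsg.IsElementaryAbelian p (A₀ ⊔ V) := by
      apply Cfsg.Agent.Lib.Helper2.isEA_sup A₀ V (Cfsg.Agent.Lib.Helper2.isEA_of_le hA.1 hA₀A) hV
      intro b hb v hv
      exact (Subgroup.mem_centralizer_iff.mp (hA₀C hb) v hv).symm
    have hcard : Nat.card A ≤ Nat.card ↥(A₀ ⊔ V) := by
      have h1 := Cfsg.Agent.Lib.Lead.Holo.card_le_of_maxEA V hV hsep hO hA
      rw [← hA₀] at h1
      have hnorm : A₀ ≤ Subgroup.normalizer (V : Set G) := by
        rw [Subgroup.normalizer_eq_top]; exact le_top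
      have h2 := Cfsg.Agent.Lib.Lead.card_sup_mul_card_inf A₀ V hnorm
      have h3 : Nat.card ↥(A₀ ⊓ V) ≤ Nat.card ↥(V ⊓ Subgroup.centralizer (A : Set G)) := by
        apply Subgroup.card_le_of_le
        rintro y ⟨hyA, hyV⟩
        refine ⟨hyV, ?_⟩
        show y ∈ Subgroup.centralizer (A : Set G)
        rw [Subgroup.mem_centralizer_iff]
        intro z hz
        exact hAab z hz y (hA₀A hyA)
      have hpos : 0 < Nat.card ↥(A₀ ⊓ V) := Nat.card_pos
      have h4 : Nat.card A * Nat.card ↥(A₀ ⊓ V) ≤ Nat.card ↥(A₀ ⊔ V) * Nat.card ↥(A₀ ⊓ V) := by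
        rw [h2]
        exact le_trans (Nat.mul_le_mul_left _ h3) h1
      exact Nat.le_of_mul_le_mul_right h4 hpos
    have hBmax : A₀ ⊔ V ∈ Cfsg.maxElementaryAbelianSubgroups p G :=
      ⟨hBEA, fun B₂ hB₂ => le_trans (hA.2 B₂ hB₂) hcard⟩
    have hBC : A₀ ⊔ V ≤ Subgroup.centralizer (V : Set G) := sup_le hA₀C hVC
    have hBJ : A₀ ⊔ V ≤ Cfsg.thompsonSubgroupOf p (Subgroup.centralizer (V : Set G)) := by
      rw [Cfsg.Agent.Lib.Helper2.ThompsonOf.thompsonSubgroupOf_eq]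
      exact le_iSup (fun A : {A : Subgroup G //
        Cfsg.Agent.Lib.Helper2.ThompsonOf.IsMaxEAIn p (Subgroup.centralizer (V : Set G)) A} =>
          (A : Subgroup G)) ⟨A₀ ⊔ V, hBC, hBEA, fun B₂ _ hB₂ => hBmax.2 B₂ hB₂⟩
    have hxB : x ∈ A₀ ⊔ V := by
      apply Cfsg.Agent.Lib.Helper2.mem_of_mem_maxEA hBmax x _ hxp
      intro b hb
      exact Subgroup.mem_centralizer_iff.mp hx.2 b (hBJ hb)
    rw [sup_comm] at hxB
    obtain ⟨v, hv, a₀, ha₀, rfl⟩ := Subgroup.mem_sup_of_normal_left.mp hxB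
    have h5 : a₀ * a = a * a₀ := hAab a₀ (hA₀A ha₀) a ha
    have h6 : ⁅v * a₀, a⁆ = v * (a₀ * a * a₀⁻¹ * v⁻¹ * (a₀ * a * a₀⁻¹)⁻¹) * (a₀ * a * a₀⁻¹ * a⁻¹) := by
      simp only [commutatorElement_def]; group
    have h7 : a₀ * a * a₀⁻¹ = a := by rw [h5, mul_assoc, mul_inv_cancel, mul_one]
    rw [h6, h7, mul_inv_cancel, mul_one]
    exact V.mul_mem hv ((inferInstance : V.Normal).conj_mem _ (V.inv_mem hv) a)
  have hcomm : ∀ x g : G, ⁅x, g⁆ ∈ V ↔
      (QuotientGroup.mk' V) g * (QuotientGroup.mk' V) x =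
        (QuotientGroup.mk' V) x * (QuotientGroup.mk' V) g := by
    intro x g
    rw [← QuotientGroup.eq_one_iff (N := V), ← QuotientGroup.mk'_apply, map_commutatorElement,
      commutatorElement_eq_one_iff_mul_comm]
    exact eq_comm
  have h1 : Cfsg.omegaOne p (Cfsg.centerThompsonOf p (Subgroup.centralizer (V : Set G))) ≤
      (Subgroup.centralizer ((((Cfsg.thompsonSubgroup p G).map (QuotientGroup.mk' V) :
        Subgroup (G ⧸ V))) : Set (G ⧸ V))).comap (QuotientGroup.mk' V) := by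
    unfold Cfsg.omegaOne
    rw [Subgroup.closure_le]
    rintro x ⟨hx, hxp⟩
    show (QuotientGroup.mk' V) x ∈ Subgroup.centralizer _
    rw [Subgroup.mem_centralizer_iff]
    rintro _ ⟨g, hg, rfl⟩
    have h2 : Cfsg.thompsonSubgroup p G ≤
        (Subgroup.centralizer ({(QuotientGroup.mk' V) x} : Set (G ⧸ V))).comap (QuotientGroup.mk' V) := by
      unfold Cfsg.thompsonSubgroup
      apply sSup_le
      intro A hA a ha
      show (QuotientGroup.mk' V) a ∈ Subgroup.centralizer _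
      rw [Subgroup.mem_centralizer_iff]
      intro y hy
      rw [Set.mem_singleton_iff] at hy
      subst hy
      exact ((hcomm x a).mp (key x hx hxp A hA a ha)).symm
    have h3 : (QuotientGroup.mk' V) g ∈ Subgroup.centralizer ({(QuotientGroup.mk' V) x} : Set (G ⧸ V)) :=
      h2 hg
    exact (Subgroup.mem_centralizer_iff.mp h3 _ rfl).symm
  rw [Subgroup.commutator_le]
  intro z hz g hg
  rw [hcomm]
  have h2 : (QuotientGroup.mk' V) z ∈ Subgroup.centralizer ((((Cfsg.thompsonSubgroup p G).map (QuotientGroup.mk' V) :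
        Subgroup (G ⧸ V))) : Set (G ⧸ V)) := h1 hz
  exact Subgroup.mem_centralizer_iff.mp h2 _ ⟨g, hg, rfl⟩

end Cfsg.Agent.Lib.Lead.Holo
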