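import Mathlib
import Cfsg.Agent.S0058

set_option autoImplicit false

namespace Cfsg.Agent.Lib.Lead

namespace Hughes

open SemidirectProduct

section

variable {Q : Type*} [Group Q]

/-- fixed points of an automorphism -/
def fix (e : MulAut Q) : Subgroup Q where
  carrier := {y | e y = y}
  one_mem' := map_one e
  mul_mem' := by
    intro a b ha hb
    show e (a * b) = a * b
    rw [map_mul, ha, hb]
  inv_mem' := by
    intro a ha
    show e a⁻¹ = a⁻¹
    rw [map_inv, ha]

theorem mem_fix {e : MulAut Q} {y : Q} : y ∈ fix e ↔ e y = y := Iff.rfl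

theorem fix_le_fix_zpow (e : MulAut Q) (k : ℤ) : fix e ≤ fix (e ^ k) := by
  intro y hy
  have h1 : ∀ n : ℕ, (e ^ n) y = y := by
    intro n
    induction n with
    | zero => rfl
    | succ n ih => rw [pow_succ, MulAut.mul_apply, mem_fix.mp hy, ih]
  rw [mem_fix]
  obtain ⟨n, rfl | rfl⟩ := Int.eq_nat_or_neg k
  · rw [zpow_natCast]; exact h1 n
  · rw [zpow_neg, zpow_natCast]
    have := h1 n
    rw [MulAut.inv_apply, MulEquiv.symm_apply_eq, this]

theorem fix_le_of_mem_zpowers {e f : MulAut Q} (h : f ∈ Subgroup.zpowers e) : fix e ≤ fix f := by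
  obtain ⟨k, rfl⟩ := Subgroup.mem_zpowers_iff.mp h
  exact fix_le_fix_zpow e k

theorem mem_zpowers_of_prime {G : Type*} [Group G] {p : ℕ} (hp : p.Prime) {x y : G}
    (hx : x ^ p = 1) (hy : y ∈ Subgroup.zpowers x) (hy1 : y ≠ 1) : x ∈ Subgroup.zpowers y := by
  obtain ⟨k, rfl⟩ := Subgroup.mem_zpowers_iff.mp hy
  have hk : ¬ (p : ℤ) ∣ k := by
    rintro ⟨m, rfl⟩
    apply hy1
    rw [zpow_mul, zpow_natCast, hx, one_zpow]
  have hcop : IsCoprime k (p : ℤ) := by
    rw [isCoprime_comm]
    exact (Prime.coprime_iff_not_dvd (Nat.prime_iff_prime_int.mp hp)).mpr hk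
  obtain ⟨a, b, hab⟩ := hcop
  rw [Subgroup.mem_zpowers_iff]
  refine ⟨a, ?_⟩
  have h1 : x ^ (a * k + b * p) = x := by rw [hab, zpow_one]
  have h2 : x ^ (b * (p : ℤ)) = 1 := by
    rw [mul_comm, zpow_mul, zpow_natCast, hx, one_zpow]
  rw [zpow_add, h2, mul_one, mul_comm a k, zpow_mul] at h1
  exact h1

end

section

variable {Q : Type*} [Group Q] [Finite Q]

/-- generation by fixed points, for groups of automorphisms -/
theorem gen_aut (E : Subgroup (MulAut Q)) [IsMulCommutative E] (hE : ¬ IsCyclic E)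
    (hcop : (Nat.card E).Coprime (Nat.card Q)) :
    (⨆ e ∈ {e : MulAut Q | e ∈ E ∧ e ≠ 1}, fix e) = ⊤ := by
  classical
  let X := Q ⋊[MonoidHom.id (MulAut Q)] MulAut Q
  haveI : Finite X := Finite.of_equiv _ SemidirectProduct.equivProd.symm
  set A : Subgroup X := E.map (inr : MulAut Q →* X) with hA
  set K : Subgroup X := (inl : Q →* X).range with hK
  haveI hKn : K.Normal := by
    rw [hK, range_inl_eq_ker_rightHom]
    infer_instance
  have hAcyc : ¬ IsCyclic A := by
    intro h
    apply hE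
    exact (MulEquiv.isCyclic (E.equivMapOfInjective _ inr_injective)).mpr h
  have hAK : A ≤ Subgroup.normalizer (K : Set X) := by
    rw [Subgroup.normalizer_eq_top]
    exact le_top
  have hcardA : Nat.card A = Nat.card E := Subgroup.card_map_of_injective inr_injective
  have hcardK : Nat.card K = Nat.card Q :=
    (Nat.card_congr (MonoidHom.ofInjective inl_injective).toEquiv).symm
  have hcop' : (Nat.card A).Coprime (Nat.card K) := by rw [hcardA, hcardK]; exact hcop
  have key := Cfsg.Agent.S0058.result A K hAcyc hAK hcop'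
  set J : Subgroup Q := ⨆ e ∈ {e : MulAut Q | e ∈ E ∧ e ≠ 1}, fix e with hJ
  have hle : K ≤ J.map (inl : Q →* X) := by
    rw [← key]
    apply iSup₂_le
    rintro a ⟨⟨e, he, rfl⟩, ha1⟩
    have he1 : e ≠ 1 := by
      rintro rfl
      exact ha1 (map_one _)
    rintro x ⟨⟨y, rfl⟩, hx⟩
    have hc := Subgroup.mem_centralizer_iff.mp hx (inr e) (Set.mem_singleton _)
    have hfix : e y = y := by
      have := congrArg SemidirectProduct.left hc
      rw [mul_left, mul_left, left_inr, right_inr, left_inl, right_inl, one_mul] at this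
      have h2 : ((MonoidHom.id (MulAut Q)) e) y = y * ((MonoidHom.id (MulAut Q)) 1) 1 := this
      rw [map_one] at h2
      simpa using h2
    refine ⟨y, ?_, rfl⟩
    exact (le_biSup (fun e => fix e) (show e ∈ {e : MulAut Q | e ∈ E ∧ e ≠ 1} from ⟨he, he1⟩))
      (mem_fix.mpr hfix)
  rw [eq_top_iff]
  intro y _
  have : (inl y : X) ∈ J.map (inl : Q →* X) := hle ⟨y, rfl⟩
  obtain ⟨y', hy', hyy⟩ := this
  rwa [← inl_injective hyy]

end

end Hughes

end Cfsg.Agent.Lib.Lead
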