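import Mathlib
import Cfsg.Agent.Lib.Lead.Hughes1

set_option autoImplicit false

namespace Cfsg.Agent.Lib.Lead

namespace Hughes

section

/-- in a cyclic group, an element of order dividing `p` lies in the group generated by any element
of order `p` -/
theorem mem_zpowers_of_isCyclic {E : Type*} [Group E] [Finite E] [IsCyclic E] {p : ℕ}
    (hp : p.Prime) (x z : E) (hx : x ^ p = 1) (hz : z ^ p = 1) (hz1 : z ≠ 1) :
    x ∈ Subgroup.zpowers z := by
  classical
  haveI := Fintype.ofFinite E
  by_contra hxz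
  haveI : Fact p.Prime := ⟨hp⟩
  have hord : orderOf z = p := orderOf_eq_prime hz hz1
  let f : Option (Fin p) → {a : E // a ^ p = 1} := fun o =>
    match o with
    | none => ⟨x, hx⟩
    | some i => ⟨z ^ (i : ℕ), by rw [← pow_mul, mul_comm, pow_mul, hz, one_pow]⟩
  have hf : Function.Injective f := by
    intro a b hab
    match a, b with
    | none, none => rfl
    | none, some j =>
      exfalso
      have : x = z ^ (j : ℕ) := congrArg Subtype.val hab
      exact hxz (this ▸ Subgroup.npow_mem_zpowers z j)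
    | some i, none =>
      exfalso
      have : z ^ (i : ℕ) = x := congrArg Subtype.val hab
      exact hxz (this ▸ Subgroup.npow_mem_zpowers z i)
    | some i, some j =>
      have h1 : z ^ (i : ℕ) = z ^ (j : ℕ) := congrArg Subtype.val hab
      have h2 := pow_injOn_Iio_orderOf (x := z) (by rw [hord]; exact i.2) (by rw [hord]; exact j.2) h1
      rw [Fin.ext h2]
  have h1 := Fintype.card_le_of_injective f hf
  rw [Fintype.card_option, Fintype.card_fin, Fintype.card_subtype] at h1
  have h2 := IsCyclic.card_pow_eq_one_le (α := E) hp.pos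
  omega

end

section

variable {Q : Type*} [Group Q] [Finite Q]

/-- generation by fixed points for the group generated by two commuting automorphisms of order `p` -/
theorem pair_gen {p : ℕ} [hp : Fact p.Prime] (x z : MulAut Q) (hxz : x * z = z * x)
    (hx : x ^ p = 1) (hz : z ^ p = 1) (hxz' : x ∉ Subgroup.zpowers z) (hz1 : z ≠ 1)
    (hcop : (Nat.card Q).Coprime p) :
    (⨆ e ∈ {e : MulAut Q | (∃ a b : ℤ, e = x ^ a * z ^ b) ∧ e ≠ 1}, fix e) = ⊤ := by
  classical
  have hcomm : ∀ (m n : Multiplicative ℤ),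
      Commute ((zpowersHom (MulAut Q) x) m) ((zpowersHom (MulAut Q) z) n) := by
    intro m n
    rw [zpowersHom_apply, zpowersHom_apply]
    exact (Commute.zpow_zpow (show Commute x z from hxz) _ _)
  set F := (zpowersHom (MulAut Q) x).noncommCoprod (zpowersHom (MulAut Q) z) hcomm with hF
  set E : Subgroup (MulAut Q) := F.range with hE
  have hmem : ∀ e : MulAut Q, e ∈ E ↔ ∃ a b : ℤ, e = x ^ a * z ^ b := by
    intro e
    constructor
    · rintro ⟨⟨m, n⟩, rfl⟩
      refine ⟨Multiplicative.toAdd m, Multiplicative.toAdd n, ?_⟩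
      rw [hF, MonoidHom.noncommCoprod_apply, zpowersHom_apply, zpowersHom_apply]
    · rintro ⟨a, b, rfl⟩
      refine ⟨(Multiplicative.ofAdd a, Multiplicative.ofAdd b), ?_⟩
      rw [hF, MonoidHom.noncommCoprod_apply, zpowersHom_apply, zpowersHom_apply]
      rfl
  haveI : IsMulCommutative E := by rw [hE]; infer_instance
  have hEp : IsPGroup p E := by
    rintro ⟨e, he⟩
    obtain ⟨a, b, rfl⟩ := (hmem e).mp he
    refine ⟨1, ?_⟩
    apply Subtype.ext
    rw [pow_one, Subgroup.coe_pow, Subgroup.coe_one]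
    have hc : Commute (x ^ a) (z ^ b) := Commute.zpow_zpow (show Commute x z from hxz) _ _
    rw [hc.mul_pow, ← zpow_natCast, ← zpow_mul, mul_comm, zpow_mul, zpow_natCast, hx, one_zpow,
      ← zpow_natCast (z ^ b), ← zpow_mul, mul_comm, zpow_mul, zpow_natCast, hz, one_zpow, mul_one]
  have hcopE : (Nat.card E).Coprime (Nat.card Q) := by
    obtain ⟨n, hn⟩ := IsPGroup.iff_card.mp hEp
    rw [hn]
    exact Nat.Coprime.pow_left n hcop.symm
  have hxE : x ∈ E := (hmem x).mpr ⟨1, 0, by simp⟩
  have hzE : z ∈ E := (hmem z).mpr ⟨0, 1, by simp⟩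
  have hEcyc : ¬ IsCyclic E := by
    intro hc
    have := mem_zpowers_of_isCyclic hp.out (⟨x, hxE⟩ : E) ⟨z, hzE⟩ (Subtype.ext hx)
      (Subtype.ext hz) (fun h => hz1 (congrArg Subtype.val h))
    obtain ⟨k, hk⟩ := Subgroup.mem_zpowers_iff.mp this
    apply hxz'
    rw [Subgroup.mem_zpowers_iff]
    refine ⟨k, ?_⟩
    have := congrArg Subtype.val hk
    simpa using this
  have key := gen_aut E hEcyc hcopE
  rw [← key]
  apply le_antisymm
  · apply iSup₂_le
    rintro e ⟨he, he1⟩
    exact le_biSup (fun e => fix e) (show e ∈ {e : MulAut Q | e ∈ E ∧ e ≠ 1} from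
      ⟨(hmem e).mpr he, he1⟩)
  · apply iSup₂_le
    rintro e ⟨he, he1⟩
    exact le_biSup (fun e => fix e)
      (show e ∈ {e : MulAut Q | (∃ a b : ℤ, e = x ^ a * z ^ b) ∧ e ≠ 1} from
      ⟨(hmem e).mp he, he1⟩)

end

end Hughes

end Cfsg.Agent.Lib.Lead
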