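import Mathlib
import Cfsg.Agent.Lib.Lead.Hughes2

set_option autoImplicit false

namespace Cfsg.Agent.Lib.Lead

namespace Hughes

section

variable {Q : Type*} [Group Q] [Finite Q]

theorem exists_npow_eq_zpow {G : Type*} [Group G] {p : ℕ} (hp : 0 < p) (z : G) (hz : z ^ p = 1)
    (k : ℤ) : ∃ j : ℕ, z ^ j = z ^ k := by
  have hfin : IsOfFinOrder z := isOfFinOrder_iff_pow_eq_one.mpr ⟨p, hp, hz⟩
  have h1 : z ^ k ∈ Subgroup.zpowers z := Subgroup.zpow_mem_zpowers z k
  rw [← hfin.mem_powers_iff_mem_zpowers] at h1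
  obtain ⟨j, hj⟩ := h1
  exact ⟨j, hj⟩

/-- a `p`-group of automorphisms in which the elements outside a subgroup `T₁` have order `p` and
act without fixed points is generated by `T₁` and one central element of order `p` -/
theorem exists_central_cover [Nontrivial Q] {p : ℕ} [hp : Fact p.Prime]
    (T T₁ : Subgroup (MulAut Q)) (hT : IsPGroup p T) (hle : T₁ ≤ T)
    (hcop : (Nat.card Q).Coprime p)
    (hout : ∀ α ∈ T, α ∉ T₁ → α ^ p = 1 ∧ ∀ y, α y = y → y = 1) :
    ∃ z ∈ T, z ^ p = 1 ∧ ∀ x ∈ T, ∃ j : ℕ, x * z ^ j ∈ T₁ := by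
  classical
  by_cases hTT : T₁ = T
  · exact ⟨1, T.one_mem, one_pow _, fun x hx => ⟨0, by rw [pow_zero, mul_one, hTT]; exact hx⟩⟩
  have hlt : T₁ < T := lt_of_le_of_ne hle hTT
  obtain ⟨x₀, hx₀T, hx₀⟩ := SetLike.exists_of_lt hlt
  haveI hTnt : Nontrivial T := by
    refine ⟨⟨⟨x₀, hx₀T⟩, 1, ?_⟩⟩
    intro h
    apply hx₀
    have : x₀ = 1 := congrArg Subtype.val h
    rw [this]; exact T₁.one_mem
  haveI := hT.center_nontrivial
  have hZp : IsPGroup p (Subgroup.center T) := hT.to_subgroup _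
  obtain ⟨k, hk⟩ := IsPGroup.iff_card.mp hZp
  have hk0 : k ≠ 0 := by
    rintro rfl
    rw [pow_zero] at hk
    have := Finite.one_lt_card (α := Subgroup.center T)
    omega
  have hdvd : p ∣ Nat.card (Subgroup.center T) := by
    rw [hk]; exact dvd_pow_self p hk0
  obtain ⟨z₀, hz₀⟩ := exists_prime_orderOf_dvd_card' p hdvd
  set z : MulAut Q := ((z₀ : T) : MulAut Q) with hz
  have hzT : z ∈ T := (z₀ : T).2
  have hzc : ∀ t ∈ T, t * z = z * t := by
    intro t ht
    have := (Subgroup.mem_center_iff.mp z₀.2) ⟨t, ht⟩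
    exact congrArg Subtype.val this
  have hzo : orderOf z = p := by
    rw [hz, Subgroup.orderOf_coe, Subgroup.orderOf_coe, hz₀]
  have hzp : z ^ p = 1 := by rw [← hzo]; exact pow_orderOf_eq_one z
  have hz1 : z ≠ 1 := by
    intro h
    rw [h, orderOf_one] at hzo
    exact hp.out.one_lt.ne hzo
  have hfix : ∀ e ∈ T, e ∉ T₁ → fix e = ⊥ := by
    intro e heT he
    rw [eq_bot_iff]
    intro y hy
    rw [Subgroup.mem_bot]
    exact (hout e heT he).2 y hy
  have hnt : (⊤ : Subgroup Q) ≠ ⊥ := top_ne_bot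
  -- membership of the elements `x ^ a * z ^ b`
  have hmemT : ∀ x ∈ T, ∀ a b : ℤ, x ^ a * z ^ b ∈ T := fun x hx a b =>
    T.mul_mem (T.zpow_mem hx a) (T.zpow_mem hzT b)
  by_cases hzT₁ : z ∈ T₁
  · exfalso
    have hx₀p := (hout x₀ hx₀T hx₀).1
    have hx₀z : x₀ ∉ Subgroup.zpowers z := fun h => hx₀ ((Subgroup.zpowers_le.mpr hzT₁) h)
    have key := pair_gen x₀ z (hzc x₀ hx₀T) hx₀p hzp hx₀z hz1 hcop
    have hle' : (⨆ e ∈ {e : MulAut Q | (∃ a b : ℤ, e = x₀ ^ a * z ^ b) ∧ e ≠ 1}, fix e) ≤ fix z := by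
      apply iSup₂_le
      rintro e ⟨⟨a, b, rfl⟩, he1⟩
      by_cases hxa : x₀ ^ a = 1
      · rw [hxa, one_mul] at he1 ⊢
        exact fix_le_of_mem_zpowers
          (mem_zpowers_of_prime hp.out hzp (Subgroup.zpow_mem_zpowers z b) he1)
      · have hx₀mem : x₀ ∈ Subgroup.zpowers (x₀ ^ a) :=
          mem_zpowers_of_prime hp.out hx₀p (Subgroup.zpow_mem_zpowers x₀ a) hxa
        have heT₁ : x₀ ^ a * z ^ b ∉ T₁ := by
          intro h
          apply hx₀
          have h1 : x₀ ^ a ∈ T₁ := by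
            have := T₁.mul_mem h (T₁.inv_mem (T₁.zpow_mem hzT₁ b))
            rwa [mul_inv_cancel_right] at this
          exact (Subgroup.zpowers_le.mpr h1) hx₀mem
        rw [hfix _ (hmemT x₀ hx₀T a b) heT₁]
        exact bot_le
    rw [key] at hle'
    apply hz1
    ext y
    exact mem_fix.mp (hle' (Subgroup.mem_top y))
  · refine ⟨z, hzT, hzp, fun x hx => ?_⟩
    by_contra hcon
    push_neg at hcon
    have hxT₁ : x ∉ T₁ := by
      have := hcon 0
      rwa [pow_zero, mul_one] at this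
    have hxp := (hout x hx hxT₁).1
    have hxz : x ∉ Subgroup.zpowers z := by
      intro h
      obtain ⟨k, rfl⟩ := Subgroup.mem_zpowers_iff.mp h
      obtain ⟨j, hj⟩ := exists_npow_eq_zpow hp.out.pos z hzp (-k)
      apply hcon j
      rw [hj, ← zpow_add, add_neg_cancel, zpow_zero]
      exact T₁.one_mem
    have key := pair_gen x z (hzc x hx) hxp hzp hxz hz1 hcop
    have hle' : (⨆ e ∈ {e : MulAut Q | (∃ a b : ℤ, e = x ^ a * z ^ b) ∧ e ≠ 1}, fix e) ≤ ⊥ := by
      apply iSup₂_le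
      rintro e ⟨⟨a, b, rfl⟩, he1⟩
      have heT₁ : x ^ a * z ^ b ∉ T₁ := by
        intro h
        by_cases hxa : x ^ a = 1
        · rw [hxa, one_mul] at he1 h
          have hzmem : z ∈ Subgroup.zpowers (z ^ b) :=
            mem_zpowers_of_prime hp.out hzp (Subgroup.zpow_mem_zpowers z b) he1
          exact hzT₁ ((Subgroup.zpowers_le.mpr h) hzmem)
        · have hxmem : x ∈ Subgroup.zpowers (x ^ a) :=
            mem_zpowers_of_prime hp.out hxp (Subgroup.zpow_mem_zpowers x a) hxa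
          obtain ⟨c, hc⟩ := Subgroup.mem_zpowers_iff.mp hxmem
          have hcomm : Commute (x ^ a) (z ^ b) :=
            Commute.zpow_zpow (show Commute x z from hzc x hx) _ _
          have h2 : (x ^ a * z ^ b) ^ c ∈ T₁ := T₁.zpow_mem h c
          rw [hcomm.mul_zpow, hc, ← zpow_mul] at h2
          obtain ⟨j, hj⟩ := exists_npow_eq_zpow hp.out.pos z hzp (b * c)
          rw [← hj] at h2
          exact hcon j h2
      rw [hfix _ (hmemT x hx a b) heT₁]
    rw [key] at hle'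
    exact hnt (le_bot_iff.mp hle')

end

end Hughes

end Cfsg.Agent.Lib.Lead
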