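import Mathlib
import Cfsg.Agent.Lib.Lead.Fpf1

set_option autoImplicit false

namespace Cfsg.Agent.Lib.Lead

namespace Split

open Fpf

variable {G : Type*} [Group G]

/-- `S φ n g = g * φ g * ⋯ * φ^[n-1] g` -/
def S (φ : G →* G) : ℕ → G → G
  | 0, _ => 1
  | n + 1, g => g * φ (S φ n g)

@[simp] theorem S_zero (φ : G →* G) (g : G) : S φ 0 g = 1 := rfl

theorem S_succ (φ : G →* G) (n : ℕ) (g : G) : S φ (n + 1) g = g * φ (S φ n g) := rfl

theorem S_one (φ : G →* G) (g : G) : S φ 1 g = g := by
  rw [S_succ, S_zero, map_one, mul_one]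

theorem S_succ' (φ : G →* G) (n : ℕ) (g : G) : S φ (n + 1) g = S φ n g * φ^[n] g := by
  induction n with
  | zero => rw [S_one, S_zero, one_mul]; rfl
  | succ n ih =>
    calc S φ (n + 1 + 1) g = g * φ (S φ (n + 1) g) := rfl
      _ = g * φ (S φ n g * φ^[n] g) := by rw [ih]
      _ = (g * φ (S φ n g)) * φ (φ^[n] g) := by rw [map_mul, mul_assoc]
      _ = S φ (n + 1) g * φ^[n + 1] g := by rw [Function.iterate_succ_apply']; rfl

theorem S_eq_list (φ : G →* G) (n : ℕ) (g : G) :
    S φ n g = ((List.range n).map (fun i => φ^[i] g)).prod := by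
  induction n with
  | zero => rfl
  | succ n ih =>
    rw [S_succ', ih, List.range_succ, List.map_append, List.prod_append]
    simp

theorem S_map_one (φ : G →* G) (n : ℕ) : S φ n 1 = 1 := by
  induction n with
  | zero => rfl
  | succ n ih => rw [S_succ, ih, map_one, mul_one]

theorem S_add (φ : G →* G) (a b : ℕ) (g : G) : S φ (a + b) g = S φ a g * φ^[a] (S φ b g) := by
  induction b with
  | zero => rw [add_zero, S_zero, iterate_map_one, mul_one]
  | succ b ih =>
    rw [← add_assoc, S_succ', ih, S_succ', iterate_map_mul, mul_assoc,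
      ← Function.iterate_add_apply]

/-- a splitting endomorphism of "order" `p` -/
structure SplitData (p : ℕ) (φ : G →* G) : Prop where
  split : ∀ g, S φ p g = 1

theorem SplitData.iter {p : ℕ} {φ : G →* G} (h : SplitData p φ) (g : G) : φ^[p] g = g := by
  have h1 := S_succ φ p g
  have h2 := S_succ' φ p g
  rw [h.split, map_one, mul_one] at h1
  rw [h.split, one_mul] at h2
  rw [← h2, h1]

theorem SplitData.iter_mul {p : ℕ} {φ : G →* G} (h : SplitData p φ) (l : ℕ) (g : G) :
    φ^[p * l] g = g := by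
  induction l with
  | zero => rfl
  | succ l ih => rw [Nat.mul_succ, Function.iterate_add_apply, h.iter, ih]

theorem SplitData.S_mul {p : ℕ} {φ : G →* G} (h : SplitData p φ) (l : ℕ) (g : G) :
    S φ (p * l) g = 1 := by
  induction l with
  | zero => rfl
  | succ l ih => rw [Nat.mul_succ, S_add, ih, h.split, iterate_map_one, one_mul]

theorem SplitData.bijective {p : ℕ} {φ : G →* G} (h : SplitData p φ) (hp : 0 < p) :
    Function.Bijective φ := by
  obtain ⟨k, rfl⟩ : ∃ k, p = k + 1 := ⟨p - 1, by omega⟩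
  constructor
  · intro a b hab
    have h1 : φ^[k + 1] a = φ^[k + 1] b := by
      rw [Function.iterate_succ_apply, Function.iterate_succ_apply, hab]
    rwa [h.iter, h.iter] at h1
  · intro b
    refine ⟨φ^[k] b, ?_⟩
    rw [← Function.iterate_succ_apply' φ k b]
    exact h.iter b

/-- the iterates as homomorphisms -/
def iterHom (φ : G →* G) : ℕ → (G →* G)
  | 0 => MonoidHom.id G
  | k + 1 => φ.comp (iterHom φ k)

theorem iterHom_apply (φ : G →* G) (k : ℕ) (g : G) : iterHom φ k g = φ^[k] g := by
  induction k with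
  | zero => rfl
  | succ k ih =>
    rw [Function.iterate_succ_apply', ← ih]
    rfl

/-- iterating in blocks -/
theorem S_mul_eq (φ : G →* G) (k m : ℕ) (g : G) :
    S φ (m * k) g = S (iterHom φ k) m (S φ k g) := by
  induction m with
  | zero => rw [Nat.zero_mul]; rfl
  | succ m ih =>
    rw [Nat.succ_mul, Nat.add_comm, S_add, ih, S_succ, iterHom_apply]

theorem SplitData.S_injective {p : ℕ} (hp : p.Prime) {φ : G →* G} (h : SplitData p φ) (k : ℕ)
    (hk0 : 0 < k) (hkp : k < p) : Function.Injective (S φ k) := by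
  intro g g' hgg
  have hcop : k.Coprime p := by
    rw [Nat.coprime_comm]
    exact (Nat.Prime.coprime_iff_not_dvd hp).mpr (Nat.not_dvd_of_pos_of_lt hk0 hkp)
  obtain ⟨m, -, hm⟩ := Nat.exists_mul_mod_eq_one_of_coprime hcop hp.one_lt
  have key : ∀ x : G, S φ (m * k) x = x := by
    intro x
    have e : m * k = p * (k * m / p) + 1 := by
      rw [Nat.mul_comm m k, ← hm, Nat.div_add_mod]
    rw [e, S_add, h.S_mul, one_mul, h.iter_mul, S_one]
  rw [← key g, ← key g', S_mul_eq, S_mul_eq, hgg]

/-- `S` and restriction -/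
theorem S_restr (φ : G →* G) (M : Subgroup G) (hM : ∀ m ∈ M, φ m ∈ M) (n : ℕ) (m : M) :
    ((S (restr φ M hM) n m : M) : G) = S φ n m := by
  induction n with
  | zero => rfl
  | succ n ih =>
    rw [S_succ, S_succ, Subgroup.coe_mul, restr_apply, ih]

theorem SplitData.restr {p : ℕ} {φ : G →* G} (h : SplitData p φ) (M : Subgroup G)
    (hM : ∀ m ∈ M, φ m ∈ M) : SplitData p (restr φ M hM) := by
  constructor
  intro m
  apply Subtype.ext
  rw [S_restr, h.split]
  rfl

theorem S_mem (φ : G →* G) (M : Subgroup G) (hM : ∀ m ∈ M, φ m ∈ M) (n : ℕ) (m : G)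
    (hm : m ∈ M) : S φ n m ∈ M := by
  induction n with
  | zero => exact M.one_mem
  | succ n ih => rw [S_succ]; exact M.mul_mem hm (hM _ ih)

theorem S_quot (φ : G →* G) (N : Subgroup G) [N.Normal] (hN : ∀ n ∈ N, φ n ∈ N) (n : ℕ)
    (g : G) : S (quot φ N hN) n (QuotientGroup.mk g) = QuotientGroup.mk (S φ n g) := by
  induction n with
  | zero => rfl
  | succ n ih =>
    rw [S_succ, S_succ, ih, quot_mk, QuotientGroup.mk_mul]

theorem SplitData.quot {p : ℕ} {φ : G →* G} (h : SplitData p φ) (N : Subgroup G) [N.Normal]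
    (hN : ∀ n ∈ N, φ n ∈ N) : SplitData p (quot φ N hN) := by
  constructor
  intro x
  induction x using QuotientGroup.induction_on with
  | H x => rw [S_quot, h.split]; rfl

/-- twisting by an inner automorphism -/
def twist (φ : G →* G) (a : G) : G →* G := (MulAut.conj a).toMonoidHom.comp φ

theorem twist_apply (φ : G →* G) (a x : G) : twist φ a x = a * φ x * a⁻¹ := rfl

theorem S_twist (φ : G →* G) (a : G) (n : ℕ) (x : G) :
    S (twist φ a) n x = S φ n (x * a) * (S φ n a)⁻¹ := by
  induction n with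
  | zero => simp
  | succ n ih =>
    rw [S_succ, ih, twist_apply, S_succ, S_succ, map_mul, map_inv]
    group

theorem SplitData.twist {p : ℕ} {φ : G →* G} (h : SplitData p φ) (a : G) :
    SplitData p (twist φ a) := by
  constructor
  intro x
  rw [S_twist, h.split, h.split, inv_one, mul_one]

theorem twist_mem (φ : G →* G) (a : G) (N : Subgroup G) [N.Normal] (hN : ∀ n ∈ N, φ n ∈ N) :
    ∀ n ∈ N, twist φ a n ∈ N := by
  intro n hn
  rw [twist_apply]
  exact Subgroup.Normal.conj_mem inferInstance _ (hN n hn) a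

/-- a fixed-point-free endomorphism of finite order is splitting -/
theorem SplitData.of_fpf {r : ℕ} {φ : G →* G} [Finite G] (h : FpfData r φ) : SplitData r φ := by
  constructor
  intro g
  rw [S_eq_list]
  exact h.fpf.prod_pow_eq_one (funext h.iter) g

end Split

end Cfsg.Agent.Lib.Lead
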