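import Mathlib
import Cfsg.Agent.Lib.Lead.Split1

set_option autoImplicit false

namespace Cfsg.Agent.Lib.Lead

namespace Split

open Fpf

open scoped BigOperators

variable {G : Type*} [Group G]

/-- a coprime invariant subgroup centralizes an abelian invariant normal subgroup, in a group with
a splitting endomorphism of prime order -/
theorem centralizes_of_coprime [Finite G] {p : ℕ} (hp : p.Prime) {φ : G →* G} (h : SplitData p φ)
    (V Q : Subgroup G) [hVn : V.Normal] (hVab : ∀ a ∈ V, ∀ b ∈ V, a * b = b * a)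
    (hVφ : ∀ v ∈ V, φ v ∈ V) (hQφ : ∀ y ∈ Q, φ y ∈ Q)
    (hcop : (Nat.card Q).Coprime (Nat.card V)) : ∀ v ∈ V, ∀ z ∈ Q, z * v = v * z := by
  classical
  letI : CommGroup V :=
    { (inferInstance : Group V) with mul_comm := fun a b => Subtype.ext (hVab a a.2 b b.2) }
  letI : Fintype Q := Fintype.ofFinite Q
  let cn : G →* MulAut V := MulAut.conjNormal
  have hcn : ∀ (x : G) (v : V), ((cn x v : V) : G) = x * v * x⁻¹ := fun x v =>
    MulAut.conjNormal_apply x v
  set φV : V →* V := restr φ V hVφ with hφV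
  have hV := h.restr V hVφ
  -- (F3)
  have F3 : ∀ (y : G) (v : V) (n : ℕ), S φ n (y * v) =
      ((∏ i ∈ Finset.range n, cn (S φ (i + 1) y) (φV^[i] v) : V) : G) * S φ n y := by
    intro y v n
    induction n with
    | zero => simp
    | succ n ih =>
      rw [S_succ', ih, Finset.prod_range_succ, Subgroup.coe_mul, hcn, iterate_map_mul,
        restr_iterate, S_succ' φ n y]
      group
  -- (K3)
  have K3 : ∀ (y : Q) (v : V), ∏ i ∈ Finset.range p, cn (S φ (i + 1) (y : G)) (φV^[i] v) = 1 := by
    intro y v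
    have h1 := F3 y v p
    rw [h.split, h.split, mul_one] at h1
    exact Subtype.ext h1.symm
  intro v hv
  -- the fixed points of `Q`
  let Fix : Subgroup V :=
    { carrier := {w | ∀ z ∈ Q, cn z w = w}
      one_mem' := fun z _ => map_one _
      mul_mem' := by
        intro a b ha hb z hz
        rw [map_mul, ha z hz, hb z hz]
      inv_mem' := by
        intro a ha z hz
        rw [map_inv, ha z hz] }
  let τ : V → V := fun w => ∏ z : Q, cn (z : G) w
  have hτ : ∀ w, τ w ∈ Fix := by
    intro w z₀ hz₀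
    show cn z₀ (∏ z : Q, cn (z : G) w) = ∏ z : Q, cn (z : G) w
    rw [map_prod]
    have hbij : Function.Bijective (fun z : Q => (⟨z₀, hz₀⟩ : Q) * z) :=
      (Equiv.mulLeft (⟨z₀, hz₀⟩ : Q)).bijective
    rw [← hbij.prod_comp (fun z : Q => cn (z : G) w)]
    apply Finset.prod_congr rfl
    intro z _
    show cn z₀ (cn (z : G) w) = cn (((⟨z₀, hz₀⟩ : Q) * z : Q) : G) w
    rw [Subgroup.coe_mul, map_mul]
    rfl
  -- (K5)
  have K5 : ∀ k, 0 < k → k < p → ∀ w : V, ∏ y : Q, cn (S φ k (y : G)) w = τ w := by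
    intro k hk0 hkp w
    let c : Q → Q := fun y => ⟨S φ k (y : G), S_mem φ Q hQφ k y y.2⟩
    have hcinj : Function.Injective c := by
      intro y z hyz
      have h1 : S φ k (y : G) = S φ k (z : G) := congrArg Subtype.val hyz
      exact Subtype.ext (h.S_injective hp k hk0 hkp h1)
    have hcbij : Function.Bijective c := Finite.injective_iff_bijective.mp hcinj
    show _ = ∏ z : Q, cn (z : G) w
    rw [← hcbij.prod_comp (fun z : Q => cn (z : G) w)]
  -- every element of the form `φ^[p-1] v` is fixed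
  obtain ⟨n, hn⟩ : ∃ n, p = n + 1 := ⟨p - 1, by have := hp.pos; omega⟩
  have key : ∀ v' : V, φV^[n] v' ∈ Fix := by
    intro v'
    have K4 : ∏ i ∈ Finset.range p, ∏ y : Q, cn (S φ (i + 1) (y : G)) (φV^[i] v') = 1 := by
      rw [Finset.prod_comm]
      apply Finset.prod_eq_one
      intro y _
      exact K3 y v'
    rw [hn, Finset.prod_range_succ] at K4
    have hlast : ∏ y : Q, cn (S φ (n + 1) (y : G)) (φV^[n] v') = (φV^[n] v') ^ Nat.card Q := by
      have : ∀ y : Q, cn (S φ (n + 1) (y : G)) (φV^[n] v') = φV^[n] v' := by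
        intro y
        rw [← hn, h.split, map_one]
        rfl
      rw [Finset.prod_congr rfl (fun y _ => this y), Finset.prod_const, Finset.card_univ,
        Nat.card_eq_fintype_card]
    rw [hlast] at K4
    have hrest : ∏ i ∈ Finset.range n, ∏ y : Q, cn (S φ (i + 1) (y : G)) (φV^[i] v') ∈ Fix := by
      apply Subgroup.prod_mem
      intro i hi
      rw [K5 (i + 1) (Nat.succ_pos i) (by rw [hn]; exact Nat.succ_lt_succ (Finset.mem_range.mp hi))]
      exact hτ _
    have hpowFix : (φV^[n] v') ^ Nat.card Q ∈ Fix := by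
      have : (φV^[n] v') ^ Nat.card Q = (∏ i ∈ Finset.range n,
          ∏ y : Q, cn (S φ (i + 1) (y : G)) (φV^[i] v'))⁻¹ :=
        eq_inv_of_mul_eq_one_right K4
      rw [this]
      exact Fix.inv_mem hrest
    have hco : (Nat.card Q).Coprime (orderOf (φV^[n] v')) :=
      Nat.Coprime.coprime_dvd_right (orderOf_dvd_natCard _) hcop
    obtain ⟨m, hm⟩ := exists_pow_eq_self_of_coprime hco
    rw [← hm]
    exact Fix.pow_mem hpowFix m
  set v' : V := ⟨v, hv⟩ with hv'
  have hvFix : v' ∈ Fix := by
    have h1 := key (φV v')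
    have h2 : φV^[n] (φV v') = v' := by
      rw [← Function.iterate_succ_apply, Nat.succ_eq_add_one, ← hn]
      exact hV.iter v'
    rw [h2] at h1
    exact h1
  intro z hz
  have h1 := hvFix z hz
  have h2 : z * v * z⁻¹ = v := by
    have := congrArg Subtype.val h1
    rw [hcn] at this
    exact this
  calc z * v = (z * v * z⁻¹) * z := by group
    _ = v * z := by rw [h2]

end Split

end Cfsg.Agent.Lib.Lead
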