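import Mathlib
import Cfsg.Agent.Lib.Lead.Split2
import Cfsg.Agent.Lib.Lead.Fpf4

set_option autoImplicit false

namespace Cfsg.Agent.Lib.Lead

namespace Split

open Fpf

open scoped commutatorElement

universe u

section

variable {G : Type u} [Group G] [Finite G]

/-- the automorphism attached to the data -/
noncomputable def SplitData.equiv {p : ℕ} {φ : G →* G} (h : SplitData p φ) (hp : 0 < p) : G ≃* G :=
  MulEquiv.ofBijective φ (h.bijective hp)

theorem SplitData.equiv_apply {p : ℕ} {φ : G →* G} (h : SplitData p φ) (hp : 0 < p) (g : G) :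
    h.equiv hp g = φ g := rfl

theorem map_eq_of_invariant' {φ : G →* G} (hφ : Function.Injective φ)
    (M : Subgroup G) (hM : ∀ m ∈ M, φ m ∈ M) : M.map φ = M := by
  have hle : M.map φ ≤ M := by
    rintro _ ⟨m, hm, rfl⟩; exact hM m hm
  apply Subgroup.eq_of_le_of_card_ge hle
  rw [Subgroup.card_map_of_injective hφ]

/-- after twisting by an inner automorphism, a given Sylow subgroup is invariant -/
theorem exists_twist_invariant_sylow {φ : G →* G} (hφ : Function.Injective φ) (q : ℕ)
    [Fact q.Prime] (P : Sylow q G) : ∃ a : G, ∀ x ∈ (P : Subgroup G), twist φ a x ∈ (P : Subgroup G) := by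
  have hcard : Nat.card ((P : Subgroup G).map φ) = q ^ (Nat.card G).factorization q := by
    rw [Subgroup.card_map_of_injective hφ]
    exact P.card_eq_multiplicity
  set P' : Sylow q G := Sylow.ofCard ((P : Subgroup G).map φ) hcard with hP'
  obtain ⟨g, hg⟩ := MulAction.exists_smul_eq G P' P
  refine ⟨g, fun x hx => ?_⟩
  have h1 : φ x ∈ (P' : Subgroup G) := ⟨x, hx, rfl⟩
  have h2 : g * φ x * g⁻¹ ∈ ((g • P' : Sylow q G) : Subgroup G) := by
    rw [Sylow.coe_subgroup_smul]
    exact Subgroup.smul_mem_pointwise_smul (φ x) (MulAut.conj g) _ h1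
  rw [hg] at h2
  exact h2

/-- the solvable case of Kegel's theorem -/
theorem nilpotent_of_solvable {p : ℕ} (hp : p.Prime) {φ : G →* G} (h : SplitData p φ)
    [hsolv : Group.IsSolvable G]
    (hsub : ∀ ψ : G →* G, SplitData p ψ → ∀ M : Subgroup G, M ≠ ⊤ → (∀ m ∈ M, ψ m ∈ M) →
      Group.IsNilpotent M)
    (hquot : ∀ ψ : G →* G, SplitData p ψ → ∀ (N : Subgroup G) [N.Normal], N ≠ ⊥ →
      (∀ n ∈ N, ψ n ∈ N) → Group.IsNilpotent (G ⧸ N)) : Group.IsNilpotent G := by
  classical
  by_cases htriv : Subsingleton G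
  · infer_instance
  haveI : Nontrivial G := not_subsingleton_iff_nontrivial.mp htriv
  obtain ⟨N₀, hN₀n, hN₀1, hN₀min⟩ := Cfsg.Agent.Lib.Helper2.exists_minNormal (G := G)
  haveI := hN₀n
  obtain ⟨-, r, hr, hN₀p⟩ := Cfsg.Agent.S0043.result N₀ hN₀1 hN₀min
  haveI : Fact r.Prime := ⟨hr⟩
  have hN₀pg : IsPGroup r N₀ := by
    intro x
    refine ⟨1, ?_⟩
    apply Subtype.ext
    rw [pow_one, Subgroup.coe_pow, Subgroup.coe_one]
    exact hN₀p x x.2
  set H := Cfsg.pCore r G with hHdef
  haveI hHn : H.Normal := Cfsg.Agent.Lib.Helper9.pCore_normal' r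
  have hHp : IsPGroup r H := Cfsg.Agent.Lib.Helper9.pCore_isPGroup' r
  have hH1 : H ≠ ⊥ := by
    intro hb
    apply hN₀1
    rw [eq_bot_iff, ← hb]
    exact Cfsg.Agent.Lib.Helper9.le_pCore hN₀n hN₀pg
  have hHφ : ∀ x ∈ H, φ x ∈ H := by
    intro x hx
    have := Cfsg.Agent.Lib.Helper6.pCore_map_equiv r (h.equiv hp.pos)
    rw [← hHdef] at this
    rw [← this]
    exact ⟨x, hx, rfl⟩
  have hHmap : H.map φ = H := map_eq_of_invariant' (h.bijective hp.pos).1 H hHφ
  set V := H ⊓ Subgroup.centralizer (H : Set G) with hVdef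
  haveI hVn : V.Normal := inferInstance
  have hVab : ∀ a ∈ V, ∀ b ∈ V, a * b = b * a := by
    intro a ha b hb
    exact (Subgroup.mem_centralizer_iff.mp hb.2 a ha.1)
  have hVp : IsPGroup r V := hHp.to_le inf_le_left
  have hV1 : V ≠ ⊥ := by
    haveI : Nontrivial H := (Subgroup.nontrivial_iff_ne_bot H).mpr hH1
    have := hHp.center_nontrivial
    obtain ⟨⟨z, hz⟩, hz1⟩ := exists_ne (1 : Subgroup.center H)
    intro hb
    have hzV : (z : G) ∈ V := by
      refine Subgroup.mem_inf.mpr ⟨z.2, ?_⟩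
      rw [Subgroup.mem_centralizer_iff]
      intro x hx
      have := (Subgroup.mem_center_iff.mp hz) ⟨x, hx⟩
      exact congrArg Subtype.val this
    rw [hb, Subgroup.mem_bot] at hzV
    apply hz1
    exact Subtype.ext (Subtype.ext hzV)
  have hVφ : ∀ v ∈ V, φ v ∈ V := by
    intro v hv
    have hv' := Subgroup.mem_inf.mp hv
    refine Subgroup.mem_inf.mpr ⟨hHφ v hv'.1, ?_⟩
    rw [Subgroup.mem_centralizer_iff]
    intro x hx
    rw [SetLike.mem_coe, ← hHmap] at hx
    obtain ⟨x₀, hx₀, rfl⟩ := hx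
    rw [← map_mul, ← map_mul, Subgroup.mem_centralizer_iff.mp hv'.2 x₀ hx₀]
  have hGV : Group.IsNilpotent (G ⧸ V) := hquot φ h V hV1 hVφ
  set f := QuotientGroup.mk' V with hf
  have hfs : Function.Surjective f := QuotientGroup.mk'_surjective V
  -- every Sylow subgroup is normal
  have hall : ∀ (q : ℕ) [Fact q.Prime] (P : Sylow q G), (P : Subgroup G).Normal := by
    intro q hq Pq
    obtain ⟨a, hPq⟩ := exists_twist_invariant_sylow (h.bijective hp.pos).1 q Pq
    set ψ := twist φ a with hψdef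
    have hψ : SplitData p ψ := h.twist a
    have hVψ : ∀ v ∈ V, ψ v ∈ V := twist_mem φ a V hVφ
    have hbn : ((Pq.mapSurjective hfs : Sylow q (G ⧸ V)) : Subgroup (G ⧸ V)).Normal :=
      sylow_normal_of_isNilpotent hGV _
    rw [Sylow.coe_mapSurjective] at hbn
    have hLn : ((Pq : Subgroup G) ⊔ V).Normal := by
      rw [← comap_map_mk]
      exact Subgroup.Normal.comap hbn f
    by_cases hqr : q = r
    · subst hqr
      have hVP : V ≤ (Pq : Subgroup G) := hVp.le_sylow_of_normal Pq
      rwa [sup_eq_left.mpr hVP] at hLn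
    · set L := (Pq : Subgroup G) ⊔ V with hL
      have hQL : (Pq : Subgroup G) ≤ L := le_sup_left
      have hLψ : ∀ x ∈ L, ψ x ∈ L := by
        intro x hx
        have hx' : x ∈ ((Pq : Subgroup G) ⊔ V : Subgroup G) := hx
        rw [← SetLike.mem_coe, Subgroup.mul_normal] at hx'
        obtain ⟨a, ha, b, hb, rfl⟩ := Set.mem_mul.mp hx'
        rw [map_mul]
        exact Subgroup.mul_mem _ (Subgroup.mem_sup_left (hPq a ha))
          (Subgroup.mem_sup_right (hVψ b hb))
      by_cases hLtop : L = ⊤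
      · -- `Q` centralizes `V`
        have hcop : (Nat.card (Pq : Subgroup G)).Coprime (Nat.card V) := by
          obtain ⟨a, ha⟩ := IsPGroup.iff_card.mp Pq.isPGroup'
          obtain ⟨b, hb⟩ := IsPGroup.iff_card.mp hVp
          rw [ha, hb]
          exact Nat.Coprime.pow a b ((Nat.coprime_primes hq.out hr).mpr hqr)
        have hcent := centralizes_of_coprime hp hψ V (Pq : Subgroup G) hVab hVψ hPq hcop
        refine ⟨?_⟩
        intro n hn g
        have hg : g ∈ ((Pq : Subgroup G) ⊔ V : Subgroup G) := by rw [← hL, hLtop]; trivial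
        rw [← SetLike.mem_coe, Subgroup.mul_normal] at hg
        obtain ⟨a, ha, b, hb, rfl⟩ := Set.mem_mul.mp hg
        have h1 : b * n * b⁻¹ = n := by
          have := hcent b hb n hn
          rw [← this, mul_inv_cancel_right]
        have e : a * b * n * (a * b)⁻¹ = a * (b * n * b⁻¹) * a⁻¹ := by group
        rw [e, h1]
        exact Subgroup.mul_mem _ (Subgroup.mul_mem _ ha hn) (Subgroup.inv_mem _ ha)
      · have hLnil : Group.IsNilpotent L := hsub ψ hψ L hLtop hLψ
        have hQ'n : ((Pq.subtype hQL : Sylow q L) : Subgroup L).Normal :=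
          sylow_normal_of_isNilpotent hLnil _
        haveI hQ'c : ((Pq.subtype hQL : Sylow q L) : Subgroup L).Characteristic :=
          Sylow.characteristic_of_normal _ hQ'n
        haveI := hLn
        have h3 : (((Pq.subtype hQL : Sylow q L) : Subgroup L).map L.subtype).Normal :=
          ConjAct.normal_of_characteristic_of_normal
        rw [Sylow.coe_subtype, Subgroup.map_subgroupOf_eq_of_le hQL] at h3
        exact h3
  exact ((isNilpotent_of_finite_tfae (G := G)).out 3 0).mp (fun q hq P => @hall q hq P)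

end

end Split

end Cfsg.Agent.Lib.Lead
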