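import Mathlib
import Cfsg.Agent.Lib.Lead.Split3

set_option autoImplicit false

namespace Cfsg.Agent.Lib.Lead

namespace Split

open Fpf

open scoped commutatorElement

universe u

/-- the step of Kegel's theorem: a minimal configuration is solvable -/
theorem solvable_step {G : Type u} [Group G] [Finite G] {p : ℕ} (hp : p.Prime) {φ : G →* G}
    (h : SplitData p φ)
    (hsub : ∀ ψ : G →* G, SplitData p ψ → ∀ M : Subgroup G, M ≠ ⊤ → (∀ m ∈ M, ψ m ∈ M) →
      Group.IsNilpotent M)
    (hquot : ∀ ψ : G →* G, SplitData p ψ → ∀ (N : Subgroup G) [N.Normal], N ≠ ⊥ →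
      (∀ n ∈ N, ψ n ∈ N) → Group.IsNilpotent (G ⧸ N))
    (q : ℕ) [hqf : Fact q.Prime] (hq2 : q ≠ 2) (hqd : q ∣ Nat.card G) : Group.IsSolvable G := by
  classical
  obtain ⟨P⟩ : Nonempty (Sylow q G) := inferInstance
  obtain ⟨a, hP⟩ := exists_twist_invariant_sylow (h.bijective hp.pos).1 q P
  set ψ := twist φ a with hψdef
  have hψ : SplitData p ψ := h.twist a
  have hψinj : Function.Injective ψ := (hψ.bijective hp.pos).1
  have hP1 : (P : Subgroup G) ≠ ⊥ := P.ne_bot_of_dvd_card hqd
  have hPmap : (P : Subgroup G).map (hψ.equiv hp.pos).toMonoidHom = (P : Subgroup G) :=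
    map_eq_of_invariant' hψinj (P : Subgroup G) hP
  set Z := ZJ.wsub 0 (P : Subgroup G) with hZdef
  have hZ1 : Z ≠ ⊥ := ZJ.wsub_ne_bot 0 (dvd_zero q) (P : Subgroup G) P.isPGroup' hP1
  have hZmap : Z.map ψ = Z := by
    have := ZJ.map_wsub 0 (P : Subgroup G) (hψ.equiv hp.pos)
    rw [hPmap] at this
    exact this
  have hZψ : ∀ z ∈ Z, ψ z ∈ Z := by
    intro z hz
    rw [← hZmap]
    exact ⟨z, hz, rfl⟩
  have hZab : ∀ x ∈ Z, ∀ y ∈ Z, x * y = y * x := (ZJ.abelExp_wsub 0 (P : Subgroup G)).1
  by_cases hN : Subgroup.normalizer (Z : Set G) = ⊤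
  · haveI hZn : Z.Normal := Subgroup.normalizer_eq_top_iff.mp hN
    have hq := hquot ψ hψ Z hZ1 hZψ
    have hs1 : Group.IsSolvable Z := isSolvable_of_comm_subgroup Z hZab
    have hs2 : Group.IsSolvable (G ⧸ Z) := inferInstance
    exact isSolvable_of_normal_of_quotient Z hs1 hs2
  · have hNψ : ∀ g ∈ Subgroup.normalizer (Z : Set G), ψ g ∈ Subgroup.normalizer (Z : Set G) := by
      intro g hg
      apply Subgroup.mem_normalizer_fintype
      intro x hx
      rw [SetLike.mem_coe, ← hZmap] at hx
      obtain ⟨x₀, hx₀, rfl⟩ := hx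
      rw [← map_mul, ← map_inv, ← map_mul]
      exact hZψ _ ((Subgroup.mem_normalizer_iff.mp hg x₀).mp hx₀)
    have hNnil : Group.IsNilpotent (Subgroup.normalizer (Z : Set G)) := hsub ψ hψ _ hN hNψ
    have hNp : GT.PNilp q (Subgroup.normalizer (Z : Set G)) := pnilp_of_isNilpotent hNnil
    obtain ⟨K, hKn, hKc, k, hKi⟩ :=
      GT.glauberman_thompson hq2 0 (dvd_zero q) P (P : Subgroup G) (ZJ.sClosed_self _) hNp
    haveI := hKn
    have hKψ : ∀ x ∈ K, ψ x ∈ K := by
      intro x hx
      apply mem_of_coprime_orderOf K ⟨k, hKi⟩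
      have e : orderOf (ψ x) = orderOf x := orderOf_injective ψ hψinj x
      rw [e]
      exact Nat.Coprime.coprime_dvd_left (Subgroup.orderOf_dvd_natCard K hx) hKc
    have hKtop : K ≠ ⊤ := by
      intro ht
      rw [ht, Subgroup.card_top] at hKc
      exact (Nat.Prime.coprime_iff_not_dvd hqf.out).mp hKc.symm hqd
    have hKnil : Group.IsNilpotent K := hsub ψ hψ K hKtop hKψ
    have hs1 : Group.IsSolvable K := inferInstance
    have hqp : IsPGroup q (G ⧸ K) := by
      apply IsPGroup.of_card (n := k)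
      rw [← Subgroup.index_eq_card, hKi]
    have hqn : Group.IsNilpotent (G ⧸ K) := hqp.isNilpotent
    have hs2 : Group.IsSolvable (G ⧸ K) := inferInstance
    exact isSolvable_of_normal_of_quotient K hs1 hs2

/-- Kegel's theorem: a finite group with a splitting endomorphism of prime order is nilpotent -/
theorem nilpotent_of_split {p : ℕ} (hp : p.Prime) :
    ∀ (n : ℕ) (G : Type u) [Group G] [Finite G] (φ : G →* G),
      Nat.card G = n → SplitData p φ → Group.IsNilpotent G := by
  intro n
  induction n using Nat.strong_induction_on with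
  | _ n ih =>
    intro G _ _ φ hn h
    have hsub : ∀ ψ : G →* G, SplitData p ψ → ∀ M : Subgroup G, M ≠ ⊤ → (∀ m ∈ M, ψ m ∈ M) →
        Group.IsNilpotent M := by
      intro ψ hψ M hM hMψ
      have hlt : Nat.card M < n := by
        rw [← hn]
        exact lt_of_le_of_ne (Subgroup.card_le_card_group M)
          (fun e => hM ((Subgroup.card_eq_iff_eq_top M).mp e))
      exact ih _ hlt M (restr ψ M hMψ) rfl (hψ.restr M hMψ)
    have hquot : ∀ ψ : G →* G, SplitData p ψ → ∀ (N : Subgroup G) [N.Normal], N ≠ ⊥ →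
        (∀ n ∈ N, ψ n ∈ N) → Group.IsNilpotent (G ⧸ N) := by
      intro ψ hψ N _ hN hNψ
      have hlt : Nat.card (G ⧸ N) < n := by
        rw [← hn, ← Subgroup.index_eq_card, ← N.card_mul_index]
        have h1 : 1 < Nat.card N := by
          rw [Subgroup.one_lt_card_iff_ne_bot]
          exact hN
        have h2 : 0 < N.index := Nat.pos_of_ne_zero Subgroup.index_ne_zero_of_finite
        nlinarith
      exact ih _ hlt (G ⧸ N) (quot ψ N hNψ) rfl (hψ.quot N hNψ)
    by_cases hodd : ∃ q : ℕ, q.Prime ∧ q ≠ 2 ∧ q ∣ Nat.card G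
    · obtain ⟨q, hq, hq2, hqd⟩ := hodd
      haveI : Fact q.Prime := ⟨hq⟩
      haveI := solvable_step hp h hsub hquot q hq2 hqd
      exact nilpotent_of_solvable hp h hsub hquot
    · push_neg at hodd
      by_cases h1 : Nat.card G = 1
      · haveI : Subsingleton G := (Nat.card_eq_one_iff_unique.mp h1).1
        infer_instance
      · have h2 : ∀ q : ℕ, q.Prime → q ∣ Nat.card G → q = 2 := by
          intro q hq hqd
          by_contra hne
          exact hodd q hq hne hqd
        have hpos : Nat.card G ≠ 0 := Nat.card_pos.ne'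
        obtain ⟨k, hk⟩ : ∃ k, Nat.card G = 2 ^ k := by
          refine ⟨(Nat.card G).factorization 2, ?_⟩
          apply Nat.eq_pow_of_factorization_eq_single hpos
          ext q
          by_cases hq2 : q = 2
          · subst hq2; simp
          · rw [Finsupp.single_apply, if_neg (Ne.symm hq2)]
            by_cases hqp : q.Prime
            · apply Nat.factorization_eq_zero_of_not_dvd
              intro hd
              exact hq2 (h2 q hqp hd)
            · exact Nat.factorization_eq_zero_of_not_prime _ hqp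
        haveI : Fact (Nat.Prime 2) := ⟨Nat.prime_two⟩
        exact (IsPGroup.of_card hk).isNilpotent

end Split

end Cfsg.Agent.Lib.Lead
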