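import Mathlib
import Cfsg.Agent.Lib.Lead.Hughes3
import Cfsg.Agent.Lib.Lead.Split4

set_option autoImplicit false

namespace Cfsg.Agent.Lib.Lead

namespace Hughes

open Split Fpf

universe u

section

variable {G : Type u} [Group G]

/-- the Hughes subgroup -/
def hughes (p : ℕ) (G : Type*) [Group G] : Subgroup G := Subgroup.closure {g : G | g ^ p ≠ 1}

theorem hughes_normal (p : ℕ) : (hughes p G).Normal := by
  constructor
  intro h hh g
  unfold hughes at hh ⊢
  induction hh using Subgroup.closure_induction with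
  | mem x hx =>
    apply Subgroup.subset_closure
    show (g * x * g⁻¹) ^ p ≠ 1
    rw [conj_pow]
    intro h1
    apply hx
    have : x ^ p = g⁻¹ * (g * x ^ p * g⁻¹) * g := by group
    rw [this, h1]; group
  | one => rw [mul_one, mul_inv_cancel]; exact Subgroup.one_mem _
  | mul x y _ _ hx hy =>
    have : g * (x * y) * g⁻¹ = (g * x * g⁻¹) * (g * y * g⁻¹) := by group
    rw [this]; exact Subgroup.mul_mem _ hx hy
  | inv x _ hx =>
    have : g * x⁻¹ * g⁻¹ = (g * x * g⁻¹)⁻¹ := by group
    rw [this]; exact Subgroup.inv_mem _ hx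

theorem pow_eq_one_of_not_mem {p : ℕ} {g : G} (hg : g ∉ hughes p G) : g ^ p = 1 := by
  by_contra h
  exact hg (Subgroup.subset_closure h)

/-- conjugation by an element outside the Hughes subgroup is a splitting automorphism of it -/
theorem splitData_conj {p : ℕ} (x : G) (hx : x ∉ hughes p G) :
    haveI := hughes_normal (G := G) p
    SplitData p ((MulAut.conjNormal x : MulAut (hughes p G)) : hughes p G →* hughes p G) := by
  haveI := hughes_normal (G := G) p
  set H := hughes p G with hH
  set φ : H →* H := ((MulAut.conjNormal x : MulAut H) : H →* H) with hφ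
  have hφapp : ∀ h : H, ((φ h : H) : G) = x * h * x⁻¹ := fun h => MulAut.conjNormal_apply x h
  have hiter : ∀ (n : ℕ) (h : H), ((φ^[n] h : H) : G) = x ^ n * h * (x ^ n)⁻¹ := by
    intro n
    induction n with
    | zero => intro h; simp
    | succ n ih =>
      intro h
      rw [Function.iterate_succ_apply', hφapp, ih, pow_succ']
      group
  have key : ∀ (n : ℕ) (h : H), ((S φ n h : H) : G) * x ^ n = ((h : G) * x) ^ n := by
    intro n
    induction n with
    | zero => intro h; simp
    | succ n ih =>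
      intro h
      rw [S_succ', Subgroup.coe_mul, hiter, pow_succ ((h : G) * x), ← ih, pow_succ]
      group
  constructor
  intro h
  have h1 : (h : G) * x ∉ H := by
    intro hm
    apply hx
    have := H.mul_mem (H.inv_mem h.2) hm
    rwa [inv_mul_cancel_left] at this
  have h2 := key p h
  rw [pow_eq_one_of_not_mem h1, pow_eq_one_of_not_mem hx, mul_one] at h2
  exact Subtype.ext h2

end

/-- Hughes–Thompson and Kegel -/
theorem hughes_thompson_kegel {G : Type u} [Group G] [Finite G] (p : ℕ) (hp : p.Prime)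
    (hG : ¬ IsPGroup p G) (hH : hughes p G ≠ ⊤) :
    Group.IsNilpotent (hughes p G) ∧ (hughes p G).index = p := by
  classical
  haveI : Fact p.Prime := ⟨hp⟩
  haveI hHn := hughes_normal (G := G) p
  set H := hughes p G with hHdef
  obtain ⟨x, -, hx⟩ := SetLike.exists_of_lt (lt_top_iff_ne_top.mpr hH)
  -- nilpotency
  have hnil : Group.IsNilpotent H :=
    nilpotent_of_split hp _ H _ rfl (splitData_conj x hx)
  refine ⟨hnil, ?_⟩
  -- the quotient is a `p`-group
  have hquot : ∀ y : G ⧸ H, y ^ p = 1 := by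
    intro y
    induction y using QuotientGroup.induction_on with
    | H g =>
      by_cases hg : g ∈ H
      · rw [(QuotientGroup.eq_one_iff g).mpr hg, one_pow]
      · rw [← QuotientGroup.mk_pow, pow_eq_one_of_not_mem hg]; rfl
  have hqp : IsPGroup p (G ⧸ H) := fun y => ⟨1, by rw [pow_one]; exact hquot y⟩
  obtain ⟨k, hk⟩ := IsPGroup.iff_card.mp hqp
  have hidx : H.index = p ^ k := by rw [Subgroup.index_eq_card, hk]
  -- a second prime
  obtain ⟨q, hq, hqd, hqp'⟩ : ∃ q : ℕ, q.Prime ∧ q ∣ Nat.card G ∧ q ≠ p := by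
    by_contra hcon
    push_neg at hcon
    apply hG
    have := Nat.eq_prime_pow_of_unique_prime_dvd (n := Nat.card G) (p := p) Nat.card_pos.ne'
      (fun {d} hd hdd => hcon d hd hdd)
    exact IsPGroup.of_card this
  haveI : Fact q.Prime := ⟨hq⟩
  obtain ⟨Qs⟩ : Nonempty (Sylow q G) := inferInstance
  set Q : Subgroup G := (Qs : Subgroup G) with hQdef
  have hQp : IsPGroup q Q := Qs.isPGroup'
  have hQ1 : Q ≠ ⊥ := Qs.ne_bot_of_dvd_card hqd
  have hcoppq : Nat.Coprime q p := (Nat.coprime_primes hq hp).mpr hqp'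
  have hQH : Q ≤ H := by
    intro y hy
    apply mem_of_coprime_orderOf H ⟨k, hidx⟩
    obtain ⟨m, hm⟩ := (hQp.to_le le_rfl) ⟨y, hy⟩
    have h1 : orderOf y ∣ q ^ m := by
      apply orderOf_dvd_of_pow_eq_one
      have := congrArg Subtype.val hm
      simpa using this
    exact Nat.Coprime.coprime_dvd_left h1 (Nat.Coprime.pow_left m hcoppq)
  haveI hQn : Q.Normal := by
    have hQ'n : ((Qs.subtype hQH : Sylow q H) : Subgroup H).Normal :=
      sylow_normal_of_isNilpotent hnil _
    haveI hQ'c : ((Qs.subtype hQH : Sylow q H) : Subgroup H).Characteristic :=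
      Sylow.characteristic_of_normal _ hQ'n
    have h3 : (((Qs.subtype hQH : Sylow q H) : Subgroup H).map H.subtype).Normal :=
      ConjAct.normal_of_characteristic_of_normal
    rw [Sylow.coe_subtype, Subgroup.map_subgroupOf_eq_of_le hQH] at h3
    exact h3
  haveI : Nontrivial Q := (Subgroup.nontrivial_iff_ne_bot Q).mpr hQ1
  let ρ : G →* MulAut Q := MulAut.conjNormal
  have hρ : ∀ (g : G) (y : Q), ((ρ g y : Q) : G) = g * y * g⁻¹ := fun g y =>
    MulAut.conjNormal_apply g y
  -- elements outside `H` act without fixed points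
  have hfpf : ∀ g : G, g ∉ H → ∀ y : Q, ρ g y = y → y = 1 := by
    intro g hg y hy
    have h1 : g * (y : G) * g⁻¹ = y := by rw [← hρ, hy]
    have hc : Commute g (y : G) := by
      show g * y = y * g
      calc g * (y : G) = (g * y * g⁻¹) * g := by group
        _ = y * g := by rw [h1]
    have h2 : g * (y : G) ∉ H := by
      intro hm
      apply hg
      have := H.mul_mem hm (H.inv_mem (hQH y.2))
      rwa [mul_inv_cancel_right] at this
    have h3 := pow_eq_one_of_not_mem h2
    rw [hc.mul_pow, pow_eq_one_of_not_mem hg, one_mul] at h3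
    obtain ⟨m, hm⟩ := hQp y
    have h4 : orderOf (y : G) ∣ p := orderOf_dvd_of_pow_eq_one h3
    have h5 : orderOf (y : G) ∣ q ^ m := by
      apply orderOf_dvd_of_pow_eq_one
      have := congrArg Subtype.val hm
      simpa using this
    have h6 : orderOf (y : G) = 1 :=
      Nat.eq_one_of_dvd_coprimes (Nat.Coprime.pow_left m hcoppq) h5 h4
    exact Subtype.ext (orderOf_eq_one_iff.mp h6)
  -- the Sylow `p`-subgroup
  obtain ⟨Ts⟩ : Nonempty (Sylow p G) := inferInstance
  set T : Subgroup G := (Ts : Subgroup G) with hTdef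
  have hTp : IsPGroup p T := Ts.isPGroup'
  have hcover : ∀ g : G, ∃ t ∈ T, t⁻¹ * g ∈ H := by
    intro g
    have hfs : Function.Surjective (QuotientGroup.mk' H) := QuotientGroup.mk'_surjective H
    have h1 : ((Ts.mapSurjective hfs : Sylow p (G ⧸ H)) : Subgroup (G ⧸ H)) = ⊤ :=
      ((Ts.mapSurjective hfs).is_maximal' (hqp.to_subgroup ⊤) le_top).symm
    rw [Sylow.coe_mapSurjective] at h1
    have h2 : (QuotientGroup.mk' H g) ∈ T.map (QuotientGroup.mk' H) := by rw [h1]; trivial
    obtain ⟨t, ht, hteq⟩ := h2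
    refine ⟨t, ht, ?_⟩
    exact QuotientGroup.eq.mp hteq
  have hcopQ : (Nat.card Q).Coprime p := by
    obtain ⟨m, hm⟩ := IsPGroup.iff_card.mp hQp
    rw [hm]
    exact Nat.Coprime.pow_left m hcoppq
  obtain ⟨z', hz'T, hz'p, hz'cov⟩ := exists_central_cover (T.map ρ) ((T ⊓ H).map ρ)
    (hTp.map ρ) (Subgroup.map_mono inf_le_left) hcopQ (by
      rintro α ⟨t, ht, rfl⟩ hα
      have htH : t ∉ H := fun h => hα ⟨t, ⟨ht, h⟩, rfl⟩
      refine ⟨?_, hfpf t htH⟩
      rw [← map_pow, pow_eq_one_of_not_mem htH, map_one])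
  obtain ⟨z₀, hz₀T, rfl⟩ := hz'T
  -- every element is a power of `z₀` modulo `H`
  have hgen : ∀ g : G, ∃ j : ℕ, g * z₀ ^ j ∈ H := by
    intro g
    obtain ⟨t, ht, htg⟩ := hcover g
    obtain ⟨j, hj⟩ := hz'cov (ρ t) ⟨t, ht, rfl⟩
    obtain ⟨t₁, ht₁, ht₁eq⟩ := hj
    refine ⟨j, ?_⟩
    set u := t * z₀ ^ j * t₁⁻¹ with hu
    have hρu : ρ u = 1 := by
      rw [hu, map_mul, map_mul, map_pow, map_inv, ht₁eq]
      group
    have huH : u ∈ H := by
      by_contra hcon
      obtain ⟨y, hy⟩ := exists_ne (1 : Q)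
      apply hy
      apply hfpf u hcon y
      rw [hρu]; rfl
    have h1 : t * z₀ ^ j ∈ H := by
      have := H.mul_mem huH ht₁.2
      rwa [hu, inv_mul_cancel_right] at this
    have h2 : g * z₀ ^ j = (t * z₀ ^ j) * ((z₀ ^ j)⁻¹ * (t⁻¹ * g) * ((z₀ ^ j)⁻¹)⁻¹) := by group
    rw [h2]
    exact H.mul_mem h1 (hHn.conj_mem _ htg _)
  -- the quotient is cyclic of order dividing `p`
  set ζ : G ⧸ H := QuotientGroup.mk z₀ with hζ
  have htop : Subgroup.zpowers ζ = ⊤ := by
    rw [eq_top_iff]
    intro y _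
    induction y using QuotientGroup.induction_on with
    | H g =>
      obtain ⟨j, hj⟩ := hgen g
      have h1 : (QuotientGroup.mk g : G ⧸ H) * ζ ^ j = 1 := by
        rw [hζ, ← QuotientGroup.mk_pow, ← QuotientGroup.mk_mul]
        exact (QuotientGroup.eq_one_iff _).mpr hj
      have h2 : (QuotientGroup.mk g : G ⧸ H) = (ζ ^ j)⁻¹ := eq_inv_of_mul_eq_one_left h1
      rw [h2]
      exact Subgroup.inv_mem _ (Subgroup.npow_mem_zpowers ζ j)
  have hcard : Nat.card (G ⧸ H) = orderOf ζ := by
    rw [← Nat.card_zpowers, htop, Subgroup.card_top]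
  have hdvd : orderOf ζ ∣ p := orderOf_dvd_of_pow_eq_one (hquot ζ)
  rw [Subgroup.index_eq_card, hcard]
  rcases (Nat.dvd_prime hp).mp hdvd with h1 | h1
  · exfalso
    apply hH
    rw [← Subgroup.index_eq_one, Subgroup.index_eq_card, hcard, h1]
  · exact h1

end Hughes

end Cfsg.Agent.Lib.Lead
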