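import Mathlib
import Cfsg.Prelude.Def_CaseTheorems

set_option autoImplicit false

/-!
# Package B0: Claim 0 of S1237

The involutions of a two-group of rank two whose involutions are permuted transitively by the powers
of one automorphism form, with the identity, a central four-group, and a suitable power of that
automorphism is a `3`-element fixing no involution.
-/

namespace Cfsg.Agent.Lib.Lead.Hx3

variable {T : Type*} [Group T]

/-- a finite set of elements of `V` has at most `|V|` elements -/
theorem b0_card_le [Finite T] (V : Subgroup T) (S : Finset T) (hS : ∀ c ∈ S, c ∈ V) :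
    S.card ≤ Nat.card V := by
  classical
  have hinj : Function.Injective (fun c : S => (⟨(c : T), hS c c.2⟩ : V)) := by
    intro c c' h
    apply Subtype.ext
    exact congrArg (fun v : V => (v : T)) h
  have := Nat.card_le_card_of_injective _ hinj
  simpa using this

/-- a subgroup with more elements than a finite set has an element outside it -/
theorem b0_exists_notMem [Finite T] (V : Subgroup T) (S : Finset T) (hS : S.card < Nat.card V) :
    ∃ c ∈ V, c ∉ S := by
  classical
  by_contra hcon
  push Not at hcon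
  have hinj : Function.Injective (fun c : V => (⟨(c : T), hcon c c.2⟩ : S)) := by
    intro c c' h
    apply Subtype.ext
    exact congrArg (fun v : S => (v : T)) h
  have := Nat.card_le_card_of_injective _ hinj
  simp at this
  omega

theorem b0_pow_succ_apply (φ : MulAut T) (k : ℕ) (v : T) : (φ ^ (k + 1)) v = φ ((φ ^ k) v) := by
  rw [pow_succ', MulAut.mul_apply]

theorem b0_pow_add_apply (φ : MulAut T) (j k : ℕ) (v : T) :
    (φ ^ (j + k)) v = (φ ^ j) ((φ ^ k) v) := by
  rw [pow_add, MulAut.mul_apply]

/-- B0: Claim 0 of S1237. -/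
theorem b0_setup [Finite T] (hT : IsPGroup 2 T) (h2 : Cfsg.PRankLE 2 2 T)
    (h1 : ¬ Cfsg.PRankLE 2 1 T) (φ : MulAut T)
    (htrans : ∀ s t : T, orderOf s = 2 → orderOf t = 2 → ∃ k : ℕ, (φ ^ k) s = t) :
    ∃ (V : Subgroup T) (ρ₁ : MulAut T) (a : ℕ), (∀ x : T, x ∈ V ↔ x ^ 2 = 1) ∧
      V ≤ Subgroup.center T ∧ Nat.card V = 4 ∧ ρ₁ ^ (3 ^ a) = 1 ∧
      ∀ v ∈ V, ρ₁ v = v → v = 1 := by
  classical
  have : Fact (Nat.Prime 2) := ⟨Nat.prime_two⟩
  unfold Cfsg.PRankLE at h1 h2
  push Not at h1
  obtain ⟨A, hAc, hA2, hAcard⟩ := h1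
  -- `T` is nontrivial
  have hnt : Nontrivial T := by
    have : 1 < Nat.card A := by
      have : (2 : ℕ) ^ 1 = 2 := by norm_num
      omega
    obtain ⟨⟨x, hx⟩, ⟨y, hy⟩, hxy⟩ := (Finite.one_lt_card_iff_nontrivial.mp this)
    exact ⟨⟨x, y, fun h => hxy (Subtype.ext h)⟩⟩
  -- a central involution
  have hcn : Nontrivial (Subgroup.center T) := hT.center_nontrivial
  obtain ⟨z0, hz0⟩ : ∃ z : Subgroup.center T, orderOf z = 2 := by
    have hp : IsPGroup 2 (Subgroup.center T) := hT.to_subgroup _
    obtain ⟨n, hn⟩ := IsPGroup.iff_card.mp hp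
    have hn0 : n ≠ 0 := by
      rintro rfl
      have h1' : Nat.card (Subgroup.center T) = 1 := by simpa using hn
      have := (Nat.card_eq_one_iff_unique.mp h1').1
      exact not_subsingleton _ this
    have h2dvd : 2 ∣ Nat.card (Subgroup.center T) := by
      rw [hn]
      exact dvd_pow_self 2 hn0
    exact exists_prime_orderOf_dvd_card' 2 h2dvd
  have hz0' : orderOf (z0 : T) = 2 := by
    rw [← hz0]
    exact (Subgroup.orderOf_coe z0)
  -- every involution is central
  have hinvc : ∀ s : T, orderOf s = 2 → s ∈ Subgroup.center T := by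
    intro s hs
    obtain ⟨k, hk⟩ := htrans (z0 : T) s hz0' hs
    rw [Subgroup.mem_center_iff]
    intro g
    have hz : ∀ g' : T, g' * (z0 : T) = (z0 : T) * g' := Subgroup.mem_center_iff.mp z0.2
    have e1 : g = (φ ^ k) ((φ ^ k).symm g) := ((φ ^ k).apply_symm_apply g).symm
    rw [← hk]
    conv_lhs => rw [e1]
    conv_rhs => rw [e1]
    rw [← map_mul, ← map_mul, hz]
  have hsq_cases : ∀ x : T, x ^ 2 = 1 → x = 1 ∨ orderOf x = 2 := by
    intro x hx
    by_cases h1 : x = 1
    · exact Or.inl h1
    · exact Or.inr (orderOf_eq_prime hx h1)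
  have hsqc : ∀ x : T, x ^ 2 = 1 → x ∈ Subgroup.center T := by
    intro x hx
    rcases hsq_cases x hx with rfl | h
    · exact Subgroup.one_mem _
    · exact hinvc x h
  -- the subgroup `V`
  let V : Subgroup T :=
    { carrier := {x | x ^ 2 = 1}
      mul_mem' := by
        intro a b ha hb
        have hc : Commute a b := (Subgroup.mem_center_iff.mp (hsqc a ha) b).symm
        show (a * b) ^ 2 = 1
        rw [hc.mul_pow, show a ^ 2 = 1 from ha, show b ^ 2 = 1 from hb, one_mul]
      one_mem' := one_pow 2
      inv_mem' := by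
        intro a ha
        show (a⁻¹) ^ 2 = 1
        rw [inv_pow, show a ^ 2 = 1 from ha, inv_one] }
  have hVmem : ∀ x : T, x ∈ V ↔ x ^ 2 = 1 := fun x => Iff.rfl
  have hVc : V ≤ Subgroup.center T := fun x hx => hsqc x hx
  have hVcomm : IsMulCommutative V :=
    ⟨⟨fun a b => Subtype.ext ((Subgroup.mem_center_iff.mp (hVc a.2) b).symm)⟩⟩
  have hV4 : Nat.card V = 4 := by
    have u1 : Nat.card V ≤ 2 ^ 2 := h2 V hVcomm (fun a ha => ha)
    have u2 : Nat.card A ≤ Nat.card V := Subgroup.card_le_of_le (fun a ha => hA2 a ha)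
    have hp : IsPGroup 2 V := hT.to_subgroup _
    obtain ⟨n, hn⟩ := IsPGroup.iff_card.mp hp
    rw [hn] at u1 u2 ⊢
    have hn2 : n ≤ 2 := (Nat.pow_le_pow_iff_right (by norm_num)).mp u1
    have hA3 : 2 < Nat.card A := by simpa using hAcard
    interval_cases n
    · norm_num at u2; omega
    · norm_num at u2; omega
    · norm_num
  have hinvV : ∀ s : T, orderOf s = 2 ↔ (s ∈ V ∧ s ≠ 1) := by
    intro s
    constructor
    · intro hs
      refine ⟨?_, ?_⟩
      · show s ^ 2 = 1
        rw [← hs, pow_orderOf_eq_one]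
      · rintro rfl
        rw [orderOf_one] at hs
        norm_num at hs
    · rintro ⟨hs, hs1⟩
      exact orderOf_eq_prime hs hs1
  -- the `3`-part of `φ`
  have hN : orderOf φ ≠ 0 := (orderOf_pos φ).ne'
  obtain ⟨a, m, hm, hNm⟩ := Nat.exists_eq_pow_mul_and_not_dvd hN 3 (by norm_num)
  refine ⟨V, φ ^ m, a, hVmem, hVc, hV4, ?_, ?_⟩
  · rw [← pow_mul, mul_comm, ← hNm, pow_orderOf_eq_one]
  · intro v hv hfix
    by_contra hv1
    have ov : orderOf v = 2 := (hinvV v).mpr ⟨hv, hv1⟩
    have himg : ∀ (ψ : MulAut T) (s : T), orderOf s = 2 → orderOf (ψ s) = 2 := by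
      intro ψ s hs
      rw [MulEquiv.orderOf_eq, hs]
    -- Claim B: no involution is fixed by `φ`
    have hB : ∀ s : T, orderOf s = 2 → φ s ≠ s := by
      intro s hs hφs
      have hall : ∀ k : ℕ, (φ ^ k) s = s := by
        intro k
        induction k with
        | zero => simp
        | succ k ih => rw [b0_pow_succ_apply, ih, hφs]
      obtain ⟨c, hcV, hc⟩ := b0_exists_notMem V {1, s} (by
        have : ({1, s} : Finset T).card ≤ 2 := Finset.card_le_two
        omega)
      simp only [Finset.mem_insert, Finset.mem_singleton, not_or] at hc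
      obtain ⟨k, hk⟩ := htrans s c hs ((hinvV c).mpr ⟨hcV, hc.1⟩)
      rw [hall k] at hk
      exact hc.2 hk.symm
    set w := φ v with hw
    set u := φ w with hu
    have ow : orderOf w = 2 := himg φ v ov
    have ou : orderOf u = 2 := himg φ w ow
    have hwv : w ≠ v := hB v ov
    have huw : u ≠ w := hB w ow
    -- Claim C
    have huv : u ≠ v := by
      intro huv
      have hall : ∀ k : ℕ, (φ ^ k) v = v ∨ (φ ^ k) v = w := by
        intro k
        induction k with
        | zero => left; simp
        | succ k ih =>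
          rw [b0_pow_succ_apply]
          rcases ih with h | h
          · right; rw [h]
          · left; rw [h, ← hu, huv]
      obtain ⟨c, hcV, hc⟩ := b0_exists_notMem V {1, v, w} (by
        have : ({1, v, w} : Finset T).card ≤ 3 := Finset.card_le_three
        omega)
      simp only [Finset.mem_insert, Finset.mem_singleton, not_or] at hc
      obtain ⟨k, hk⟩ := htrans v c ov ((hinvV c).mpr ⟨hcV, hc.1⟩)
      rcases hall k with h | h
      · exact hc.2.1 (by rw [← hk, h])
      · exact hc.2.2 (by rw [← hk, h])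
    -- `φ u = v`
    have hφu : φ u = v := by
      have o3 : orderOf (φ u) = 2 := himg φ u ou
      have m3 : φ u ∈ V ∧ φ u ≠ 1 := (hinvV _).mp o3
      by_contra hne
      have hne_u : φ u ≠ u := hB u ou
      have hne_w : φ u ≠ w := by
        intro h
        have : u = v := φ.injective (by rw [h])
        exact huv this
      have hne_1 : φ u ≠ 1 := m3.2
      -- five distinct elements of `V`
      have mv : v ∈ V := hv
      have mw : w ∈ V := ((hinvV w).mp ow).1
      have mu : u ∈ V := ((hinvV u).mp ou).1
      have w1 : w ≠ 1 := ((hinvV w).mp ow).2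
      have u1 : u ≠ 1 := ((hinvV u).mp ou).2
      have hcard : ({φ u, 1, v, w, u} : Finset T).card = 5 := by
        have n1 : w ∉ ({u} : Finset T) := by simp [huw.symm]
        have n2 : v ∉ ({w, u} : Finset T) := by simp [hwv.symm, huv.symm]
        have n3 : (1 : T) ∉ ({v, w, u} : Finset T) := by simp [Ne.symm hv1, w1.symm, u1.symm]
        have n4 : φ u ∉ ({1, v, w, u} : Finset T) := by simp [hne_1, hne, hne_w, hne_u]
        rw [Finset.card_insert_of_notMem n4, Finset.card_insert_of_notMem n3,
          Finset.card_insert_of_notMem n2, Finset.card_insert_of_notMem n1, Finset.card_singleton]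
      have hle := b0_card_le V {φ u, 1, v, w, u} (by
        intro c hc
        simp only [Finset.mem_insert, Finset.mem_singleton] at hc
        rcases hc with rfl | rfl | rfl | rfl | rfl
        · exact m3.1
        · exact V.one_mem
        · exact mv
        · exact mw
        · exact mu)
      omega
    -- periodicity
    have h3 : (φ ^ 3) v = v := by
      rw [b0_pow_succ_apply, b0_pow_succ_apply, b0_pow_succ_apply]
      simp only [pow_zero, MulAut.one_apply]
      exact hφu
    have h3j : ∀ j : ℕ, (φ ^ (3 * j)) v = v := by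
      intro j
      induction j with
      | zero => simp
      | succ j ih =>
        rw [show 3 * (j + 1) = 3 * j + 3 by ring, b0_pow_add_apply, h3, ih]
    have hmod : (φ ^ m) v = (φ ^ (m % 3)) v := by
      conv_lhs => rw [← Nat.mod_add_div m 3]
      rw [b0_pow_add_apply, h3j]
    have hm3 : m % 3 = 1 ∨ m % 3 = 2 := by
      have : m % 3 ≠ 0 := fun h => hm (Nat.dvd_of_mod_eq_zero h)
      omega
    rw [hmod] at hfix
    rcases hm3 with h | h
    · rw [h, pow_one] at hfix
      exact hwv hfix
    · rw [h, b0_pow_succ_apply, pow_one] at hfix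
      exact huv hfix

end Cfsg.Agent.Lib.Lead.Hx3
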