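import Mathlib
import Cfsg.Agent.Lib.Lead.Hx3Defs

set_option autoImplicit false

/-!
# Fact (F3): an involutory automorphism of a nontrivial finite two-group has a nontrivial fixed point
-/

namespace Cfsg.Agent.Lib.Lead.Hx3

/-- (F3) for a group -/
theorem f3_fixed {X : Type*} [Group X] [Finite X] (hX : IsPGroup 2 X) [Nontrivial X]
    (τ : MulAut X) (hτ : ∀ y : X, τ (τ y) = y) : ∃ x : X, x ≠ 1 ∧ τ x = x := by
  classical
  have : Fintype X := Fintype.ofFinite X
  have : Fact (Nat.Prime 2) := ⟨Nat.prime_two⟩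
  let f : Function.End X := fun y => τ y
  have hf : f ^ 2 ^ 1 = 1 := by
    funext y
    show τ (τ y) = y
    exact hτ y
  have h1 := Equiv.Perm.card_fixedPoints_modEq (p := 2) (n := 1) (f := f) hf
  -- the order of `X` is even
  obtain ⟨n, hn⟩ := IsPGroup.iff_card.mp hX
  have hn0 : n ≠ 0 := by
    rintro rfl
    have h1' : Nat.card X = 1 := by simpa using hn
    have := (Nat.card_eq_one_iff_unique.mp h1').1
    exact not_subsingleton X this
  have heven : Fintype.card X % 2 = 0 := by
    rw [← Nat.card_eq_fintype_card, hn]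
    exact Nat.pow_mod 2 n 2 ▸ by
      cases n with
      | zero => exact absurd rfl hn0
      | succ n => simp [pow_succ]
  have hfix_even : Fintype.card (Function.fixedPoints f) % 2 = 0 := by
    have := h1.symm
    unfold Nat.ModEq at this
    rw [this, heven]
  -- so there are at least two fixed points
  have hone : (1 : X) ∈ Function.fixedPoints f := by
    show τ 1 = 1
    exact map_one τ
  have hcard2 : 1 < Fintype.card (Function.fixedPoints f) := by
    have hpos : 0 < Fintype.card (Function.fixedPoints f) :=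
      Fintype.card_pos_iff.mpr ⟨⟨1, hone⟩⟩
    omega
  obtain ⟨⟨x, hx⟩, hx1⟩ := Fintype.exists_ne_of_one_lt_card hcard2 ⟨1, hone⟩
  refine ⟨x, ?_, hx⟩
  intro h
  exact hx1 (Subtype.ext h)

/-- (F3) for an invariant nontrivial subgroup -/
theorem f3_fixed_sub {T : Type*} [Group T] [Finite T] (hT : IsPGroup 2 T) (τ : MulAut T)
    (hτ : ∀ y : T, τ (τ y) = y) (N : Subgroup T) (hN : Inv τ N) (hne : N ≠ ⊥) :
    ∃ x ∈ N, x ≠ 1 ∧ τ x = x := by
  have hnt : Nontrivial N := (Subgroup.nontrivial_iff_ne_bot N).mpr hne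
  have hp : IsPGroup 2 N := hT.to_subgroup N
  obtain ⟨x, hx1, hx⟩ := f3_fixed hp (subAut N τ hN) (by
    intro y
    apply Subtype.ext
    simp only [subAut_coe]
    exact hτ _)
  refine ⟨x, x.2, fun h => hx1 (Subtype.ext h), ?_⟩
  have := congrArg Subtype.val hx
  simpa only [subAut_coe] using this

end Cfsg.Agent.Lib.Lead.Hx3
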