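import Mathlib
import Cfsg.Agent.Lib.Lead.Hx3Defs
import Cfsg.Agent.Lib.Lead.Hx3F3

set_option autoImplicit false

/-!
# Package G1: the hypotheses of S2933 give hypothesis (H)
-/

namespace Cfsg.Agent.Lib.Lead.Hx3

open Cfsg.Agent.Lib.Helper3.S64

variable {G : Type*} [Group G]

/-- conjugation by a normalising element, as an automorphism of the subgroup -/
def g1Conj (T : Subgroup G) (g : G) (hg : g ∈ Subgroup.normalizer (T : Set G)) : MulAut T where
  toFun x := ⟨g * x * g⁻¹, (Subgroup.mem_normalizer_iff.mp hg x).mp x.2⟩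
  invFun x := ⟨g⁻¹ * x * g, (Subgroup.mem_normalizer_iff''.mp hg x).mp x.2⟩
  left_inv x := by
    apply Subtype.ext
    simp [mul_assoc]
  right_inv x := by
    apply Subtype.ext
    simp [mul_assoc]
  map_mul' x y := by
    apply Subtype.ext
    simp [mul_assoc]

@[simp] theorem g1Conj_coe (T : Subgroup G) (g : G) (hg : g ∈ Subgroup.normalizer (T : Set G))
    (x : T) : ((g1Conj T g hg x : T) : G) = g * x * g⁻¹ := rfl

/-- an element of order three normalising a four-group `V` and centralising a nonidentity element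
of it centralises `V` -/
theorem g1_centralizes (V : Subgroup G) (hV4 : Nat.card V = 4) (hVsq : ∀ v ∈ V, v ^ 2 = 1)
    (r : G) (hr3 : r ^ 3 = 1) (hrn : r ∈ Subgroup.normalizer (V : Set G))
    (c : G) (hc : c ∈ V) (hc1 : c ≠ 1) (hfix : r * c * r⁻¹ = c) :
    ∀ v ∈ V, r * v * r⁻¹ = v := by
  classical
  have hfin : Finite V := Nat.finite_of_card_ne_zero (by rw [hV4]; norm_num)
  -- conjugation as a map
  have hconjV : ∀ v ∈ V, r * v * r⁻¹ ∈ V := fun v hv => (Subgroup.mem_normalizer_iff.mp hrn v).mp hv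
  intro d hd
  by_contra hne
  -- `d ∉ {1, c}`, so `V = {1, c, d, c d}` and `r d r⁻¹ = c d`
  have hd1 : d ≠ 1 := by
    rintro rfl
    simp at hne
  have hdc : d ≠ c := by
    rintro rfl
    exact hne hfix
  obtain ⟨e, he⟩ : ∃ e, e = r * d * r⁻¹ := ⟨_, rfl⟩
  rw [← he] at hne
  have heV : e ∈ V := by rw [he]; exact hconjV d hd
  have he1 : e ≠ 1 := by
    intro h
    apply hd1
    have : d = r⁻¹ * e * r := by rw [he]; group
    rw [this, h]; group
  have hec : e ≠ c := by
    intro h
    apply hdc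
    have h1 : r * d * r⁻¹ = r * c * r⁻¹ := by rw [← he, h, hfix]
    have h2 : r * d = r * c := mul_right_cancel h1
    exact mul_left_cancel h2
  -- `V` has only four elements: `1, c, d, e` are distinct, and so is `c * d` from `1, c, d`
  have hcomm : ∀ a ∈ V, ∀ b ∈ V, a * b = b * a := by
    intro a ha b hb
    have h1 := hVsq (a * b) (V.mul_mem ha hb)
    have h2 := hVsq a ha
    have h3 := hVsq b hb
    have : a * b = b⁻¹ * a⁻¹ := by
      rw [← mul_inv_rev]
      exact eq_inv_of_mul_eq_one_left (by rw [← pow_two]; exact h1)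
    rw [this, inv_eq_of_mul_eq_one_left (by rw [← pow_two]; exact h3),
      inv_eq_of_mul_eq_one_left (by rw [← pow_two]; exact h2)]
  have hcard_le : ∀ S : Finset G, (∀ s ∈ S, s ∈ V) → S.card ≤ 4 := by
    intro S hS
    have hinj : Function.Injective (fun s : S => (⟨(s : G), hS s s.2⟩ : V)) := by
      intro s s' h
      apply Subtype.ext
      exact congrArg (fun v : V => (v : G)) h
    have := Nat.card_le_card_of_injective _ hinj
    rw [hV4] at this
    simpa using this
  have hcd : e = c * d := by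
    by_contra hecd
    have hcdV : c * d ∈ V := V.mul_mem hc hd
    have n1 : c * d ≠ 1 := by
      intro h
      apply hdc
      have : d = c⁻¹ := eq_inv_of_mul_eq_one_right h
      rw [this, inv_eq_of_mul_eq_one_left (by rw [← pow_two]; exact hVsq c hc)]
    have n2 : c * d ≠ c := by
      intro h
      exact hd1 (by simpa using h)
    have n3 : c * d ≠ d := by
      intro h
      exact hc1 (by simpa using h)
    have hS := hcard_le {e, c * d, 1, c, d} (by
      intro s hs
      simp only [Finset.mem_insert, Finset.mem_singleton] at hs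
      rcases hs with rfl | rfl | rfl | rfl | rfl
      · exact heV
      · exact hcdV
      · exact V.one_mem
      · exact hc
      · exact hd)
    have m1 : c ∉ ({d} : Finset G) := by simp [hdc.symm]
    have m2 : (1 : G) ∉ ({c, d} : Finset G) := by simp [hc1.symm, hd1.symm]
    have m3 : c * d ∉ ({1, c, d} : Finset G) := by simp [n1, n2, n3]
    have m4 : e ∉ ({c * d, 1, c, d} : Finset G) := by simp [hecd, he1, hec, hne]
    rw [Finset.card_insert_of_notMem m4, Finset.card_insert_of_notMem m3,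
      Finset.card_insert_of_notMem m2, Finset.card_insert_of_notMem m1,
      Finset.card_singleton] at hS
    omega
  -- now `r` swaps `d` and `c d`, contradicting `r³ = 1`
  have h2 : r * e * r⁻¹ = d := by
    rw [hcd]
    have : r * (c * d) * r⁻¹ = (r * c * r⁻¹) * (r * d * r⁻¹) := by group
    rw [this, hfix, ← he, hcd, ← mul_assoc, ← pow_two, hVsq c hc, one_mul]
  have hr3' : r * r * r = 1 := by rw [← hr3, pow_succ, pow_two]
  have h3 : d = r * (r * (r * d * r⁻¹) * r⁻¹) * r⁻¹ := by
    have : r * (r * (r * d * r⁻¹) * r⁻¹) * r⁻¹ = (r * r * r) * d * (r * r * r)⁻¹ := by group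
    rw [this, hr3']
    simp
  rw [← he, h2, ← he] at h3
  exact hne h3.symm

/-- G1: the hypotheses of S2933 give (H) for the conjugation automorphisms of `ρ` and `t`. -/
theorem g1_hh [Finite G] (T V : Subgroup G) (hT : IsPGroup 2 ↥T)
    (hVT : V ≤ T ⊓ Subgroup.centralizer (T : Set G))
    (hV : Nat.card ↥V = 4 ∧ ∀ v ∈ V, v ^ 2 = 1) (t ρ : G) (ht : orderOf t = 2)
    (hρ : orderOf ρ = 3)
    (htn : t ∈ Subgroup.normalizer (V : Set G) ⊓ Subgroup.normalizer (T : Set G))
    (hρn : ρ ∈ Subgroup.normalizer (V : Set G) ⊓ Subgroup.normalizer (T : Set G))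
    (htρ : t * ρ = ρ * t) (htV : t ∈ Subgroup.centralizer (V : Set G))
    (hVρ : ⁅V, Subgroup.zpowers ρ⁆ = V)
    (hCt : T ⊓ Subgroup.centralizer ({t} : Set G) = V) :
    ∃ (ρ' t' : MulAut ↥T) (V' : Subgroup ↥T), HH ρ' t' V' := by
  classical
  have hρ3 : ρ ^ 3 = 1 := by rw [← hρ, pow_orderOf_eq_one]
  have ht2 : t ^ 2 = 1 := by rw [← ht, pow_orderOf_eq_one]
  have hVT' : V ≤ T := fun v hv => (hVT hv).1
  have hVcen : ∀ v ∈ V, ∀ x ∈ T, x * v = v * x := fun v hv x hx =>
    (Subgroup.mem_centralizer_iff.mp (hVT hv).2 x hx)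
  let ρ' : MulAut T := g1Conj T ρ hρn.2
  let t' : MulAut T := g1Conj T t htn.2
  let V' : Subgroup T := V.subgroupOf T
  have hV'mem : ∀ y : T, y ∈ V' ↔ (y : G) ∈ V := fun y => Subgroup.mem_subgroupOf
  have htsq : ∀ y : T, t' (t' y) = y := by
    intro y
    apply Subtype.ext
    simp only [t', g1Conj_coe]
    have ht2' : t * t = 1 := by rw [← pow_two, ht2]
    have : t * (t * (y : G) * t⁻¹) * t⁻¹ = (t * t) * y * (t * t)⁻¹ := by group
    rw [this, ht2']
    simp
  have hcomm : ∀ y : T, ρ' (t' y) = t' (ρ' y) := by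
    intro y
    apply Subtype.ext
    simp only [ρ', t', g1Conj_coe]
    have e1 : ρ * (t * (y : G) * t⁻¹) * ρ⁻¹ = (ρ * t) * y * (ρ * t)⁻¹ := by group
    have e2 : t * (ρ * (y : G) * ρ⁻¹) * t⁻¹ = (t * ρ) * y * (t * ρ)⁻¹ := by group
    rw [e1, e2, htρ]
  have hfix : ∀ y : T, t' y = y ↔ y ∈ V' := by
    intro y
    rw [hV'mem, ← hCt, Subgroup.mem_inf, Subgroup.mem_centralizer_singleton_iff]
    constructor
    · intro h
      have h1 : t * (y : G) * t⁻¹ = y := congrArg Subtype.val h
      refine ⟨y.2, ?_⟩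
      have : t * (y : G) = y * t := by
        calc t * (y : G) = t * y * t⁻¹ * t := by group
          _ = y * t := by rw [h1]
      exact this.symm
    · rintro ⟨-, h⟩
      apply Subtype.ext
      show t * (y : G) * t⁻¹ = y
      rw [← h]; group
  have hVrho : Inv ρ' V' := by
    intro y hy
    rw [hV'mem] at hy ⊢
    exact (Subgroup.mem_normalizer_iff.mp hρn.1 y).mp hy
  have hcube : ∀ y : T, ρ' (ρ' (ρ' y)) = y := by
    intro y
    apply Subtype.ext
    simp only [ρ', g1Conj_coe]
    have hρ3' : ρ * ρ * ρ = 1 := by rw [← hρ3, pow_succ, pow_two]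
    have : ρ * (ρ * (ρ * (y : G) * ρ⁻¹) * ρ⁻¹) * ρ⁻¹ = (ρ * ρ * ρ) * y * (ρ * ρ * ρ)⁻¹ := by
      group
    rw [this, hρ3']
    simp
  -- `ρ` fixes no nonidentity element of `V`
  have hVne : V ≠ ⊥ := by
    intro h
    rw [h, Subgroup.card_bot] at hV
    norm_num at hV
  have hnofix : ∀ c ∈ V, ρ * c * ρ⁻¹ = c → c = 1 := by
    intro c hc hfixc
    by_contra hc1
    have hall := g1_centralizes V hV.1 hV.2 ρ hρ3 hρn.1 c hc hc1 hfixc
    have hle : V ≤ Subgroup.centralizer (Subgroup.zpowers ρ : Set G) := by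
      intro v hv
      rw [Subgroup.mem_centralizer_iff]
      intro g hg
      obtain ⟨k, rfl⟩ := Subgroup.mem_zpowers_iff.mp hg
      have hcomm1 : Commute ρ v := by
        have := hall v hv
        show ρ * v = v * ρ
        calc ρ * v = ρ * v * ρ⁻¹ * ρ := by group
          _ = v * ρ := by rw [this]
      exact (hcomm1.zpow_left k).eq
    have hbot : ⁅V, Subgroup.zpowers ρ⁆ = ⊥ :=
      Subgroup.commutator_eq_bot_iff_le_centralizer.mpr hle
    rw [hbot] at hVρ
    exact hVne hVρ.symm
  -- fixed-point-freeness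
  have hfpf : ∀ y : T, ρ' y = y → y = 1 := by
    intro y hy
    by_contra hy1
    -- the fixed points of `ρ'` are `t'`-invariant
    have hinv : Inv t' (fixSub ρ') := by
      intro n hn
      rw [mem_fixSub] at hn ⊢
      rw [hcomm, hn]
    have hne : fixSub ρ' ≠ ⊥ := by
      intro h
      have : y ∈ fixSub ρ' := hy
      rw [h, Subgroup.mem_bot] at this
      exact hy1 this
    obtain ⟨x, hxfix, hx1, hxt⟩ := f3_fixed_sub hT t' htsq (fixSub ρ') hinv hne
    have hxV : (x : G) ∈ V := (hV'mem x).mp ((hfix x).mp hxt)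
    have hxρ : ρ * (x : G) * ρ⁻¹ = x := congrArg Subtype.val ((mem_fixSub ρ' x).mp hxfix)
    apply hx1
    apply Subtype.ext
    exact hnofix x hxV hxρ
  refine ⟨ρ', t', V', ?_⟩
  exact
    { pg := hT
      fpf := ⟨hcube, hfpf⟩
      tsq := htsq
      comm := hcomm
      Vcen := by
        intro v hv
        rw [Subgroup.mem_center_iff]
        intro x
        apply Subtype.ext
        exact hVcen v ((hV'mem v).mp hv) x x.2
      Vcard := by
        rw [← hV.1]
        exact Nat.card_congr (Subgroup.subgroupOfEquivOfLe hVT').toEquiv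
      Vsq := by
        intro v hv
        apply Subtype.ext
        exact hV.2 v ((hV'mem v).mp hv)
      Vrho := hVrho
      fix := hfix }

end Cfsg.Agent.Lib.Lead.Hx3
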