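import Mathlib
import Cfsg.Agent.S0215

set_option autoImplicit false

namespace Cfsg.Agent.Lib.Lead.Inv3

variable {G : Type*} [Group G]

lemma sq_one {a : G} (ha : orderOf a = 2) : a * a = 1 := by
  have := pow_orderOf_eq_one a
  rw [ha, pow_two] at this
  exact this

lemma ne_one {a : G} (ha : orderOf a = 2) : a ≠ 1 := by
  intro h
  rw [h, orderOf_one] at ha
  omega

lemma order_conj (h u : G) : orderOf (h * u * h⁻¹) = orderOf u := by
  have := (MulAut.conj h).orderOf_eq u
  simpa [MulAut.conj_apply] using this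

lemma commute_conj {u x : G} (h : G) (hux : Commute u x) :
    Commute (h * u * h⁻¹) (h * x * h⁻¹) := by
  have := hux.map (MulAut.conj h)
  simpa [MulAut.conj_apply] using this

lemma order_of_isConj {a b : G} (h : IsConj a b) : orderOf a = orderOf b := by
  obtain ⟨c, hc⟩ := isConj_iff.1 h
  rw [← hc, order_conj]

lemma order_two_of_sq {a : G} (h1 : a * a = 1) (h2 : a ≠ 1) : orderOf a = 2 := by
  refine orderOf_eq_prime ?_ h2
  rw [pow_two]; exact h1

lemma semiconj_refl {a b : G} (ha : a * a = 1) (hb : b * b = 1) :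
    SemiconjBy a (a * b) (a * b)⁻¹ := by
  have ha' : a⁻¹ = a := inv_eq_of_mul_eq_one_left ha
  have hb' : b⁻¹ = b := inv_eq_of_mul_eq_one_left hb
  unfold SemiconjBy
  rw [mul_inv_rev, ha', hb', ← mul_assoc, ha, one_mul, mul_assoc, ha, mul_one]

lemma refl_pow {a b : G} (ha : a * a = 1) (hb : b * b = 1) (j : ℕ) :
    ((a * b) ^ j)⁻¹ * a = a * (a * b) ^ j := by
  have h := (semiconj_refl ha hb).pow_right j
  unfold SemiconjBy at h
  rw [h, inv_pow]

lemma conj_even {a b : G} (ha : a * a = 1) (hb : b * b = 1) (j : ℕ) :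
    IsConj a (a * (a * b) ^ (2 * j)) := by
  rw [isConj_iff]
  refine ⟨((a * b) ^ j)⁻¹, ?_⟩
  rw [inv_inv, refl_pow ha hb, mul_assoc, ← pow_add, two_mul]

lemma conj_odd {a b : G} (ha : a * a = 1) (hb : b * b = 1) (j : ℕ) :
    IsConj b (a * (a * b) ^ (2 * j + 1)) := by
  rw [isConj_iff]
  refine ⟨((a * b) ^ j)⁻¹, ?_⟩
  have hb2 : a * (a * b) = b := by rw [← mul_assoc, ha, one_mul]
  have hrp := refl_pow ha hb j
  rw [inv_inv]
  generalize a * b = r at *
  rw [← hb2, ← mul_assoc, hrp, mul_assoc, mul_assoc, ← pow_succ', ← pow_add]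
  congr 2
  omega

lemma conj_pow {a b : G} (ha : a * a = 1) (hb : b * b = 1) (k : ℕ) :
    IsConj a (a * (a * b) ^ k) ∨ IsConj b (a * (a * b) ^ k) := by
  rcases Nat.even_or_odd' k with ⟨j, rfl | rfl⟩
  · exact Or.inl (conj_even ha hb j)
  · exact Or.inr (conj_odd ha hb j)

lemma conj_of_odd {a b : G} (ha : a * a = 1) (hb : b * b = 1)
    (hodd : Odd (orderOf (a * b))) : IsConj b a := by
  obtain ⟨j, hj⟩ := hodd
  have := conj_odd ha hb j
  rw [← hj, pow_orderOf_eq_one, mul_one] at this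
  exact this

lemma central_inv {a b : G} (ha : a * a = 1) (hb : b * b = 1) {m : ℕ} (hm0 : m ≠ 0)
    (hm : orderOf (a * b) = m + m) :
    orderOf ((a * b) ^ m) = 2 ∧ Commute ((a * b) ^ m) a ∧ Commute ((a * b) ^ m) b := by
  have h1 : orderOf ((a * b) ^ m) = 2 := by
    rw [orderOf_pow_of_dvd hm0 (by rw [hm]; exact ⟨2, by ring⟩), hm]
    exact Nat.div_eq_of_eq_mul_left (Nat.pos_of_ne_zero hm0) (by ring)
  have hsq : (a * b) ^ m * (a * b) ^ m = 1 := by
    rw [← pow_add, ← hm, pow_orderOf_eq_one]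
  have hinv : ((a * b) ^ m)⁻¹ = (a * b) ^ m := inv_eq_of_mul_eq_one_left hsq
  have hca : Commute ((a * b) ^ m) a := by
    have := refl_pow ha hb m
    rw [hinv] at this
    exact this
  refine ⟨h1, hca, ?_⟩
  have hb2 : b = a * (a * b) := by rw [← mul_assoc, ha, one_mul]
  have hcr : Commute ((a * b) ^ m) (a * b) := (Commute.refl (a * b)).pow_left m
  have := hca.mul_right hcr
  rw [← hb2] at this
  exact this

end Cfsg.Agent.Lib.Lead.Inv3
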