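import Mathlib
import Cfsg.Agent.Lib.Lead.Inv3a

set_option autoImplicit false

namespace Cfsg.Agent.Lib.Lead.Inv3

variable {G : Type*} [Group G]

/-- `u` is an involution commuting with `x`. -/
def InvC (x u : G) : Prop := orderOf u = 2 ∧ Commute u x

lemma invC_conj {x u : G} (h : G) (hu : InvC x u) : InvC (h * x * h⁻¹) (h * u * h⁻¹) :=
  ⟨by rw [order_conj]; exact hu.1, commute_conj h hu.2⟩

lemma invC_conj' {x u : G} (h : G) (hu : InvC (h * x * h⁻¹) u) : InvC x (h⁻¹ * u * h) := by
  have := invC_conj h⁻¹ hu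
  simpa [mul_assoc] using this

lemma card_bound [Finite G] {x : G}
    (h3 : Nat.card {u : ↥(Subgroup.centralizer ({x} : Set G)) // orderOf u = 2} ≤ 3)
    {a b c d : G} (ha : InvC x a) (hb : InvC x b) (hc : InvC x c) (hd : InvC x d)
    (hab : a ≠ b) (hac : a ≠ c) (hbc : b ≠ c) : d = a ∨ d = b ∨ d = c := by
  by_contra hcon
  push Not at hcon
  obtain ⟨hda, hdb, hdc⟩ := hcon
  have mem : ∀ u, InvC x u → u ∈ Subgroup.centralizer ({x} : Set G) := by
    intro u hu
    rw [Subgroup.mem_centralizer_singleton_iff]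
    exact hu.2.eq
  let T := {u : ↥(Subgroup.centralizer ({x} : Set G)) // orderOf u = 2}
  have mk : ∀ u, InvC x u → ∃ t : T, (t.1 : G) = u := by
    intro u hu
    exact ⟨⟨⟨u, mem u hu⟩, by rw [Subgroup.orderOf_mk]; exact hu.1⟩, rfl⟩
  obtain ⟨ta, hta⟩ := mk a ha
  obtain ⟨tb, htb⟩ := mk b hb
  obtain ⟨tc, htc⟩ := mk c hc
  obtain ⟨td, htd⟩ := mk d hd
  have hinj : Function.Injective (![ta, tb, tc, td] : Fin 4 → T) := by
    intro i j hij
    have hij' := congrArg (fun t : T => ((t.1 : ↥(Subgroup.centralizer ({x} : Set G))) : G)) hij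
    fin_cases i <;> fin_cases j <;> simp at hij' <;> first | rfl | (exfalso; simp_all)
  have h4 := Nat.card_le_card_of_injective _ hinj
  simp only [Nat.card_fin] at h4
  exact absurd (h4.trans h3) (by norm_num)

lemma eq_of_central [IsSimpleGroup G] {x : G} (hx : orderOf x = 2)
    (hc : x ∈ Subgroup.center G) {u : G} (hu : orderOf u = 2) : u = x := by
  have hn : (Subgroup.zpowers x).Normal := by
    constructor
    intro n hn g
    obtain ⟨k, rfl⟩ := Subgroup.mem_zpowers_iff.1 hn
    have : g * x ^ k * g⁻¹ = x ^ k := by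
      have h1 : Commute g (x ^ k) := (show Commute g x from Subgroup.mem_center_iff.1 hc g).zpow_right k
      rw [h1.eq, mul_assoc, mul_inv_cancel, mul_one]
    rw [this]
    exact Subgroup.mem_zpowers_iff.2 ⟨k, rfl⟩
  rcases hn.eq_bot_or_eq_top with h | h
  · exfalso
    have : x ∈ Subgroup.zpowers x := Subgroup.mem_zpowers x
    rw [h, Subgroup.mem_bot] at this
    exact ne_one hx this
  · have hu' : u ∈ Subgroup.zpowers x := by rw [h]; trivial
    obtain ⟨k, rfl⟩ := Subgroup.mem_zpowers_iff.1 hu'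
    have hk : x ^ k = x ^ (k % 2) := by
      have := zpow_mod_orderOf x k
      rw [hx] at this
      exact_mod_cast this.symm
    rw [hk] at hu ⊢
    have h2 : k % 2 = 0 ∨ k % 2 = 1 := by omega
    rcases h2 with h2 | h2
    · exfalso
      rw [h2, zpow_zero, orderOf_one] at hu
      omega
    · rw [h2, zpow_one]

end Cfsg.Agent.Lib.Lead.Inv3
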