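import Mathlib
import Cfsg.Agent.Lib.Lead.Inv3b

set_option autoImplicit false

namespace Cfsg.Agent.Lib.Lead.Inv3

variable {G : Type*} [Group G]

/-- All elements commuting with all conjugates: central. -/
lemma central_of_conj_commute [IsSimpleGroup G] {y : G} (hy : y ≠ 1)
    (key : ∀ g : G, Commute (g * y * g⁻¹) y) : y ∈ Subgroup.center G := by
  have h1 : Subgroup.normalClosure ({y} : Set G) = ⊤ := by
    rcases (Subgroup.normalClosure_normal (s := ({y} : Set G))).eq_bot_or_eq_top with h | h
    · exfalso
      have : y ∈ Subgroup.normalClosure ({y} : Set G) :=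
        Subgroup.subset_normalClosure (Set.mem_singleton y)
      rw [h, Subgroup.mem_bot] at this
      exact hy this
    · exact h
  have h2 : Subgroup.normalClosure ({y} : Set G) ≤ Subgroup.centralizer ({y} : Set G) := by
    unfold Subgroup.normalClosure
    rw [Subgroup.closure_le]
    intro w hw
    obtain ⟨a, ha, hconj⟩ := Group.mem_conjugatesOfSet_iff.1 hw
    rw [Set.mem_singleton_iff] at ha
    subst ha
    obtain ⟨c, rfl⟩ := isConj_iff.1 hconj
    rw [SetLike.mem_coe, Subgroup.mem_centralizer_singleton_iff]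
    exact (key c).eq
  rw [Subgroup.mem_center_iff]
  intro g
  have : g ∈ Subgroup.centralizer ({y} : Set G) := h2 (by rw [h1]; trivial)
  rw [Subgroup.mem_centralizer_singleton_iff] at this
  exact this

theorem main [Finite G] [IsSimpleGroup G] (x : G) (hx : orderOf x = 2)
    (h3 : Nat.card {u : ↥(Subgroup.centralizer ({x} : Set G)) // orderOf u = 2} ≤ 3) :
    (∃ S : Sylow 2 G, (S : Subgroup G) ≤ Subgroup.centralizer ({x} : Set G)) ∧
      ∀ u v : G, orderOf u = 2 → orderOf v = 2 → IsConj u v := by
  haveI : Fact (Nat.Prime 2) := ⟨Nat.prime_two⟩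
  have hxx : InvC x x := ⟨hx, Commute.refl x⟩
  have hx1 : x * x = 1 := sq_one hx
  -- Claim A
  have claimA : ∀ y, InvC x y → IsConj y x := by
    intro y hy
    by_contra hyx
    have hyx_ne : y ≠ x := fun h => hyx (h ▸ IsConj.refl _)
    have hy1 : y * y = 1 := sq_one hy.1
    have hxy : InvC x (x * y) := by
      refine ⟨order_two_of_sq ?_ ?_, (Commute.refl x).mul_left hy.2⟩
      · calc x * y * (x * y) = x * (y * x) * y := by simp only [mul_assoc]
          _ = x * (x * y) * y := by rw [hy.2.eq]
          _ = (x * x) * (y * y) := by simp only [mul_assoc]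
          _ = 1 := by rw [hx1, hy1, one_mul]
      · intro h
        apply hyx_ne
        have : y = x⁻¹ := (eq_inv_of_mul_eq_one_right h)
        rw [this]; exact inv_eq_of_mul_eq_one_left hx1
    have hne1 : x ≠ x * y := by
      intro h
      apply ne_one hy.1
      have := mul_left_cancel (a := x) (b := 1) (c := y) (by rw [mul_one]; exact h)
      exact this.symm
    have hne2 : y ≠ x * y := by
      intro h
      apply ne_one hx
      have := mul_right_cancel (a := 1) (b := y) (c := x) (by rw [one_mul]; exact h)
      exact this.symm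
    have I_eq : ∀ d, InvC x d → d = x ∨ d = y ∨ d = x * y := fun d hd =>
      card_bound h3 hxx hy hxy hd (Ne.symm hyx_ne) hne1 hne2
    by_cases hcase : IsConj (x * y) x
    · -- sub-case (i)
      have lemU : ∀ x₁, IsConj x x₁ → ∀ w₁ w₂, InvC x₁ w₁ → InvC x₁ w₂ → ¬ IsConj w₁ x →
          ¬ IsConj w₂ x → w₁ = w₂ := by
        intro x₁ hx₁ w₁ w₂ hw₁ hw₂ hn₁ hn₂
        obtain ⟨h, rfl⟩ := isConj_iff.1 hx₁
        have aux : ∀ w, InvC (h * x * h⁻¹) w → ¬ IsConj w x → h⁻¹ * w * h = y := by
          intro w hw hn
          have hc : IsConj w (h⁻¹ * w * h) := isConj_iff.2 ⟨h⁻¹, by rw [inv_inv]⟩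
          rcases I_eq _ (invC_conj' h hw) with e | e | e
          · exfalso; apply hn; rw [← e]; exact hc
          · exact e
          · exfalso; apply hn; exact (e ▸ hc).trans hcase
        have e1 := aux w₁ hw₁ hn₁
        have e2 := aux w₂ hw₂ hn₂
        have : h⁻¹ * w₁ * h = h⁻¹ * w₂ * h := e1.trans e2.symm
        exact mul_left_cancel (mul_right_cancel this)
      have key : ∀ g : G, Commute (g * y * g⁻¹) y := by
        intro g
        set w := g * y * g⁻¹ with hw
        have hwy : IsConj y w := isConj_iff.2 ⟨g, rfl⟩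
        have hw2 : orderOf w = 2 := by rw [hw, order_conj]; exact hy.1
        have hw1 : w * w = 1 := sq_one hw2
        have hwx : ¬ IsConj w x := fun h => hyx (hwy.trans h)
        rcases Nat.even_or_odd (orderOf (x * w)) with hev | hodd
        · obtain ⟨m, hm⟩ := hev
          have hm0 : m ≠ 0 := by
            intro h0
            have : 0 < orderOf (x * w) := orderOf_pos _
            omega
          obtain ⟨hc2, hcx, hcw⟩ := central_inv hx1 hw1 hm0 hm
          rcases I_eq _ ⟨hc2, hcx⟩ with e | e | e
          · -- c = x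
            rw [e] at hcw
            have : w = y := lemU x (IsConj.refl x) w y ⟨hw2, hcw.symm⟩ hy hwx hyx
            rw [this]
          · rw [e] at hcw
            exact hcw.symm
          · rw [e] at hcw
            have : w = y := lemU (x * y) (hcase.symm) w y ⟨hw2, hcw.symm⟩
              ⟨hy.1, (hy.2.mul_right (Commute.refl y))⟩ hwx hyx
            rw [this]
        · exfalso
          exact hwx (conj_of_odd hx1 hw1 hodd)
      have hyc := central_of_conj_commute (ne_one hy.1) key
      exact hyx_ne (eq_of_central hy.1 hyc hx).symm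
    · -- sub-case (ii)
      have hxz : IsPGroup 2 (Subgroup.zpowers x) := by
        refine IsPGroup.of_card (n := 1) ?_
        rw [Nat.card_zpowers, hx, pow_one]
      obtain ⟨P, hP⟩ := hxz.exists_le_sylow
      have hxP : x ∈ P := hP (Subgroup.mem_zpowers x)
      have hiso : ∀ g : G, g * x * g⁻¹ ∈ P → g * x * g⁻¹ = x := by
        intro g hg
        by_contra hne
        set x' := g * x * g⁻¹ with hx'
        have hx'2 : orderOf x' = 2 := by rw [hx', order_conj]; exact hx
        have hx'1 : x' * x' = 1 := sq_one hx'2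
        have hxx' : IsConj x x' := isConj_iff.2 ⟨g, rfl⟩
        have hr : x * x' ∈ (P : Subgroup G) := mul_mem hxP hg
        obtain ⟨k, hk⟩ := P.2 ⟨x * x', hr⟩
        have hk' : (x * x') ^ (2 ^ k) = 1 := by
          have := congrArg (fun t : ↥(P : Subgroup G) => (t : G)) hk
          simpa using this
        obtain ⟨j, hj, hjo⟩ := (Nat.dvd_prime_pow Nat.prime_two).1 (orderOf_dvd_of_pow_eq_one hk')
        have hj0 : j ≠ 0 := by
          intro h0
          rw [h0, pow_zero, orderOf_eq_one_iff] at hjo
          apply hne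
          have : x' = x⁻¹ := (eq_inv_of_mul_eq_one_right hjo)
          rw [this]; exact inv_eq_of_mul_eq_one_left hx1
        obtain ⟨j', rfl⟩ := Nat.exists_eq_succ_of_ne_zero hj0
        have hm : orderOf (x * x') = 2 ^ j' + 2 ^ j' := by rw [hjo, pow_succ]; ring
        obtain ⟨hc2, hcx, -⟩ := central_inv hx1 hx'1 (pow_ne_zero j' (by norm_num)) hm
        have hconj : IsConj (x * (x * x') ^ (2 ^ j')) x := by
          rcases conj_pow hx1 hx'1 (2 ^ j') with h | h
          · exact h.symm
          · exact (hxx'.trans h).symm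
        have hI : InvC x (x * (x * x') ^ (2 ^ j')) :=
          ⟨by rw [order_of_isConj hconj]; exact hx, (Commute.refl x).mul_left hcx⟩
        rcases I_eq _ hI with e | e | e
        · apply ne_one hc2
          have := mul_left_cancel (a := x) (b := (x * x') ^ (2 ^ j')) (c := 1) (by rw [mul_one]; exact e)
          exact this
        · apply hyx; rw [← e]; exact hconj
        · apply hcase; rw [← e]; exact hconj
      obtain ⟨N, hNn, hNodd, hN⟩ := Cfsg.Agent.S0215.result P x hx hxP hiso
      rcases hNn.eq_bot_or_eq_top with h | h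
      · have hxc : x ∈ Subgroup.center G := by
          rw [Subgroup.mem_center_iff]
          intro g
          have := hN g
          rw [h, Subgroup.mem_bot] at this
          have h2 : x * g * x⁻¹ = g := by
            have := mul_inv_eq_one.1 this
            exact this
          have h3 : x * g = g * x := by
            rw [← h2]; simp [mul_assoc]
            rw [← mul_assoc, h2]
          exact h3.symm
        exact hyx_ne (eq_of_central hx hxc hy.1)
      · have h2 : 2 ∣ Nat.card G := by rw [← hx]; exact orderOf_dvd_natCard x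
        rw [h, Subgroup.card_top] at hNodd
        exact (Nat.not_even_iff_odd.2 hNodd) (even_iff_two_dvd.2 h2)
  -- Claim B
  have claimB : ∀ v, orderOf v = 2 → IsConj v x := by
    intro v hv
    have hv1 : v * v = 1 := sq_one hv
    rcases Nat.even_or_odd (orderOf (x * v)) with hev | hodd
    · obtain ⟨m, hm⟩ := hev
      have hm0 : m ≠ 0 := by
        intro h0
        have : 0 < orderOf (x * v) := orderOf_pos _
        omega
      obtain ⟨hc2, hcx, hcv⟩ := central_inv hx1 hv1 hm0 hm
      have hcconj := claimA _ ⟨hc2, hcx⟩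
      obtain ⟨h, hh⟩ := isConj_iff.1 hcconj.symm
      -- h * x * h⁻¹ = c
      have hvI : InvC (h * x * h⁻¹) v := ⟨hv, by rw [hh]; exact hcv.symm⟩
      have := claimA _ (invC_conj' h hvI)
      exact (isConj_iff.2 ⟨h⁻¹, by rw [inv_inv]⟩ : IsConj v (h⁻¹ * v * h)).trans this
    · exact conj_of_odd hx1 hv1 hodd
  refine ⟨?_, fun u v hu hv => (claimB u hu).trans (claimB v hv).symm⟩
  -- Claim C
  have hxz : IsPGroup 2 (Subgroup.zpowers x) := by
    refine IsPGroup.of_card (n := 1) ?_
    rw [Nat.card_zpowers, hx, pow_one]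
  obtain ⟨P, hP⟩ := hxz.exists_le_sylow
  have hxP : x ∈ P := hP (Subgroup.mem_zpowers x)
  haveI : Nontrivial ↥(P : Subgroup G) := ⟨⟨⟨x, hxP⟩, 1, fun h => ne_one hx (congrArg Subtype.val h)⟩⟩
  haveI := P.2.center_nontrivial
  have h2dvd : 2 ∣ Nat.card (Subgroup.center ↥(P : Subgroup G)) := by
    rcases (P.2.to_subgroup (Subgroup.center ↥(P : Subgroup G))).card_eq_or_dvd with h | h
    · exfalso
      have := (Subgroup.card_eq_one (H := Subgroup.center ↥(P : Subgroup G))).1 h
      exact (Subgroup.nontrivial_iff_ne_bot _).1 inferInstance this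
    · exact h
  obtain ⟨z0, hz0⟩ := exists_prime_orderOf_dvd_card' 2 h2dvd
  set z : G := ((z0 : ↥(P : Subgroup G)) : G) with hz
  have hz2 : orderOf z = 2 := by
    rw [hz, Subgroup.orderOf_coe, Subgroup.orderOf_coe]; exact hz0
  have hzc : ∀ s ∈ (P : Subgroup G), Commute s z := by
    intro s hs
    have := Subgroup.mem_center_iff.1 z0.2 ⟨s, hs⟩
    exact congrArg Subtype.val this
  obtain ⟨h, hh⟩ := isConj_iff.1 (claimB z hz2)
  refine ⟨h • P, ?_⟩
  intro m hm
  rw [Sylow.coe_subgroup_smul, Subgroup.mem_smul_pointwise_iff_exists] at hm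
  obtain ⟨s, hs, rfl⟩ := hm
  rw [Subgroup.mem_centralizer_singleton_iff, MulAut.smul_def, MulAut.conj_apply, ← hh]
  exact (commute_conj h (hzc s hs)).eq
end Cfsg.Agent.Lib.Lead.Inv3
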