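import Mathlib
import Cfsg.Agent.Lib.Helper9.Flavell6

set_option autoImplicit false

/-!
# Involutory automorphisms with `[G, α] = G`: basics

`ph α c = c * (α c)⁻¹`, `JJ α` the set of odd-order elements inverted by `α`.
If `α` is an involution and `[G, α] = G` then `G` is generated by `JJ α`.
-/

namespace Cfsg.Agent.Lib.Lead.InvB

universe u

variable {G : Type u} [Group G]

/-- the commutator map `c ↦ c * (α c)⁻¹` -/
def ph (α : MulAut G) (c : G) : G := c * (α c)⁻¹

/-- `α` is an involution (or trivial) -/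
def Invo (α : MulAut G) : Prop := ∀ g : G, α (α g) = g

/-- `[G, α] = G` -/
def Gen (α : MulAut G) : Prop := Subgroup.closure (Set.range (ph α)) = ⊤

/-- the odd-order elements inverted by `α` -/
def JJ (α : MulAut G) : Set G := {g | Odd (orderOf g) ∧ α g = g⁻¹}

/-- the fixed points of `α` -/
def Fx (α : MulAut G) : Subgroup G where
  carrier := {g | α g = g}
  one_mem' := map_one α
  mul_mem' := by
    intro a b ha hb
    simp only [Set.mem_ofPred_eq] at *
    rw [map_mul, ha, hb]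
  inv_mem' := by
    intro a ha
    simp only [Set.mem_ofPred_eq] at *
    rw [map_inv, ha]

theorem mem_Fx {α : MulAut G} {g : G} : g ∈ Fx α ↔ α g = g := Iff.rfl

theorem one_mem_JJ (α : MulAut G) : (1 : G) ∈ JJ α := by
  refine ⟨by simp, by simp⟩

theorem ph_inv {α : MulAut G} (h : Invo α) (c : G) : α (ph α c) = (ph α c)⁻¹ := by
  unfold ph
  rw [map_mul, map_inv, h c, mul_inv_rev, inv_inv]

theorem ph_of_inverted {α : MulAut G} {x : G} (hx : α x = x⁻¹) : ph α x = x ^ 2 := by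
  unfold ph
  rw [hx, inv_inv, pow_two]

theorem inverted_pow {α : MulAut G} {x : G} (hx : α x = x⁻¹) (n : ℕ) : α (x ^ n) = (x ^ n)⁻¹ := by
  rw [map_pow, hx, inv_pow]

theorem ph_iter {α : MulAut G} (h : Invo α) (k : ℕ) (c : G) :
    (ph α)^[k + 1] c = (ph α c) ^ (2 ^ k) := by
  induction k with
  | zero => simp
  | succ k ih =>
    rw [Function.iterate_succ_apply', ih, ph_of_inverted (inverted_pow (ph_inv h c) _), ← pow_mul,
      pow_succ]

theorem odd_orderOf_pow [Finite G] (x : G) (n : ℕ) (h : 2 ^ (Nat.card G) ∣ n) :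
    Odd (orderOf (x ^ n)) := by
  have ho : orderOf x ≠ 0 := (orderOf_pos x).ne'
  obtain ⟨a, b, hb, hab⟩ := Nat.exists_eq_two_pow_mul_odd ho
  have h1 : orderOf x ≤ Nat.card G := orderOf_le_card
  have h2 : 2 ^ a ≤ Nat.card G := by
    have : 2 ^ a ≤ orderOf x := by
      rw [hab]
      exact Nat.le_mul_of_pos_right _ hb.pos
    omega
  have h3 : a ≤ Nat.card G := by
    have : a < 2 ^ a := Nat.lt_two_pow_self
    omega
  have h4 : 2 ^ a ∣ n := (pow_dvd_pow 2 h3).trans h
  obtain ⟨t, rfl⟩ := h4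
  have h5 : (x ^ (2 ^ a * t)) ^ b = 1 := by
    rw [← pow_mul]
    have : 2 ^ a * t * b = orderOf x * t := by rw [hab]; ring
    rw [this, pow_mul, pow_orderOf_eq_one, one_pow]
  have h6 := orderOf_dvd_of_pow_eq_one h5
  exact hb.of_dvd_nat h6

theorem ph_range_eq {α : MulAut G} : Set.range (fun c : G => c * (α c)⁻¹) = Set.range (ph α) := rfl

theorem closure_JJ [Finite G] {α : MulAut G} (h : Invo α) (hg : Gen α) :
    Subgroup.closure (JJ α) = ⊤ := by
  have h1 := Cfsg.Agent.Lib.Helper9.Flavell.engel α hg (Nat.card G + 1)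
  rw [eq_top_iff, ← h1]
  apply Subgroup.closure_mono
  rintro _ ⟨c, rfl⟩
  have h2 : (fun c : G => c * (α c)⁻¹)^[Nat.card G + 1] c = (ph α c) ^ (2 ^ (Nat.card G)) :=
    ph_iter h _ c
  change (fun c : G => c * (α c)⁻¹)^[Nat.card G + 1] c ∈ JJ α
  rw [h2]
  exact ⟨odd_orderOf_pow _ _ dvd_rfl, inverted_pow (ph_inv h c) _⟩

theorem gen_le_center {α : MulAut G} (hg : Gen α) (N : Subgroup G) [hN : N.Normal]
    (hfix : ∀ n ∈ N, α n = n) : N ≤ Subgroup.center G := by
  have h1 : ∀ c : G, ph α c ∈ Subgroup.centralizer (N : Set G) := by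
    intro c
    rw [Subgroup.mem_centralizer_iff]
    intro n hn
    have h2 : c⁻¹ * n * c ∈ N := by
      have := hN.conj_mem n hn c⁻¹
      simpa using this
    have h3 := hfix _ h2
    rw [map_mul, map_mul, map_inv, hfix n hn] at h3
    unfold ph
    have h4 : n * (α c * c⁻¹) = (α c * c⁻¹) * n := by
      have : α c * ((α c)⁻¹ * n * α c) * c⁻¹ = α c * (c⁻¹ * n * c) * c⁻¹ := by rw [h3]
      have e1 : α c * ((α c)⁻¹ * n * α c) * c⁻¹ = n * (α c * c⁻¹) := by group
      have e2 : α c * (c⁻¹ * n * c) * c⁻¹ = (α c * c⁻¹) * n := by group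
      rw [e1, e2] at this
      exact this
    have h5 : c * (α c)⁻¹ = (α c * c⁻¹)⁻¹ := by group
    rw [h5]
    have := congrArg (fun z => (α c * c⁻¹)⁻¹ * z * (α c * c⁻¹)⁻¹) h4
    beta_reduce at this
    have e3 : (α c * c⁻¹)⁻¹ * (n * (α c * c⁻¹)) * (α c * c⁻¹)⁻¹ = (α c * c⁻¹)⁻¹ * n := by group
    have e4 : (α c * c⁻¹)⁻¹ * (α c * c⁻¹ * n) * (α c * c⁻¹)⁻¹ = n * (α c * c⁻¹)⁻¹ := by group
    rw [e3, e4] at this
    exact this.symm
  have h2 : (⊤ : Subgroup G) ≤ Subgroup.centralizer (N : Set G) := by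
    rw [← hg, Subgroup.closure_le]
    rintro _ ⟨c, rfl⟩
    exact h1 c
  intro n hn
  rw [Subgroup.mem_center_iff]
  intro g
  have := h2 (Subgroup.mem_top g)
  rw [Subgroup.mem_centralizer_iff] at this
  exact (this n hn).symm

end Cfsg.Agent.Lib.Lead.InvB
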