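import Mathlib
import Cfsg.Agent.Lib.Lead.InvB1

set_option autoImplicit false

/-!
# The fixed points act faithfully on `JJ α` modulo the centre
-/

namespace Cfsg.Agent.Lib.Lead.InvB

universe u

variable {G : Type u} [Group G]

theorem conj_mem_JJ {α : MulAut G} {c x : G} (hc : c ∈ Fx α) (hx : x ∈ JJ α) :
    c * x * c⁻¹ ∈ JJ α := by
  refine ⟨?_, ?_⟩
  · have : orderOf (c * x * c⁻¹) = orderOf x := by
      have := (MulAut.conj c).orderOf_eq x
      simpa [MulAut.conj_apply] using this
    rw [this]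
    exact hx.1
  · rw [map_mul, map_mul, map_inv, mem_Fx.1 hc, hx.2]
    group

/-- the conjugation action of `Fx α` on `JJ α` -/
@[instance_reducible] def actJ (α : MulAut G) : MulAction (Fx α) (JJ α) where
  smul c x := ⟨(c : G) * x * (c : G)⁻¹, conj_mem_JJ c.2 x.2⟩
  one_smul x := Subtype.ext (by
    change ((1 : Fx α) : G) * x * ((1 : Fx α) : G)⁻¹ = x
    simp)
  mul_smul a b x := Subtype.ext (by
    change ((a * b : Fx α) : G) * x * ((a * b : Fx α) : G)⁻¹ =
      (a : G) * ((b : G) * x * (b : G)⁻¹) * (a : G)⁻¹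
    simp only [Subgroup.coe_mul]
    group)

theorem card_Fx_le [Finite G] {α : MulAut G} (hJ : Subgroup.closure (JJ α) = ⊤)
    (hZ : Subgroup.center G ⊓ Fx α = ⊥) :
    Nat.card (Fx α) ≤ (Nat.card (JJ α)).factorial := by
  let _ := actJ α
  rw [← Nat.card_perm]
  apply Nat.card_le_card_of_injective (MulAction.toPermHom (Fx α) (JJ α))
  rw [injective_iff_map_eq_one]
  intro c hc
  have h1 : ∀ x ∈ JJ α, (c : G) * x * (c : G)⁻¹ = x := by
    intro x hx
    have := congrArg (fun σ : Equiv.Perm (JJ α) => ((σ ⟨x, hx⟩ : JJ α) : G)) hc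
    exact this
  have h2 : (c : G) ∈ Subgroup.center G := by
    have h3 : (⊤ : Subgroup G) ≤ Subgroup.centralizer ({(c : G)} : Set G) := by
      rw [← hJ, Subgroup.closure_le]
      intro x hx
      rw [SetLike.mem_coe, Subgroup.mem_centralizer_iff]
      intro y hy
      rw [Set.mem_singleton_iff] at hy
      subst hy
      have := h1 x hx
      calc (c : G) * x = (c : G) * x * (c : G)⁻¹ * c := by group
        _ = x * c := by rw [this]
    rw [Subgroup.mem_center_iff]
    intro g
    have := h3 (Subgroup.mem_top g)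
    rw [Subgroup.mem_centralizer_iff] at this
    exact (this _ rfl).symm
  have h4 : (c : G) ∈ Subgroup.center G ⊓ Fx α := ⟨h2, c.2⟩
  rw [hZ, Subgroup.mem_bot] at h4
  exact Subtype.ext h4

end Cfsg.Agent.Lib.Lead.InvB
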