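import Mathlib
import Cfsg.Agent.Lib.Lead.InvB2

set_option autoImplicit false

/-!
# Quotients by `α`-invariant normal subgroups
-/

namespace Cfsg.Agent.Lib.Lead.InvB

universe u

variable {G : Type u} [Group G]

/-- `N` is `α`-invariant -/
def AInv (α : MulAut G) (N : Subgroup G) : Prop := ∀ n ∈ N, α n ∈ N

theorem map_eq_of_AInv {α : MulAut G} (h : Invo α) {N : Subgroup G} (hN : AInv α N) :
    N.map ((α : G ≃* G) : G →* G) = N := by
  apply le_antisymm
  · rintro _ ⟨n, hn, rfl⟩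
    exact hN n hn
  · intro n hn
    exact ⟨α n, hN n hn, h n⟩

/-- the induced automorphism of the quotient -/
def qa (α : MulAut G) (h : Invo α) (N : Subgroup G) [N.Normal] (hN : AInv α N) : MulAut (G ⧸ N) :=
  QuotientGroup.congr N N α (map_eq_of_AInv h hN)

theorem qa_mk (α : MulAut G) (h : Invo α) (N : Subgroup G) [N.Normal] (hN : AInv α N) (g : G) :
    qa α h N hN (g : G ⧸ N) = ((α g : G) : G ⧸ N) := rfl

theorem qa_invo (α : MulAut G) (h : Invo α) (N : Subgroup G) [N.Normal] (hN : AInv α N) :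
    Invo (qa α h N hN) := by
  intro x
  induction x using QuotientGroup.induction_on with
  | H g => rw [qa_mk, qa_mk, h g]

theorem ph_qa (α : MulAut G) (h : Invo α) (N : Subgroup G) [N.Normal] (hN : AInv α N) (g : G) :
    ph (qa α h N hN) (g : G ⧸ N) = ((ph α g : G) : G ⧸ N) := by
  unfold ph
  rw [qa_mk, QuotientGroup.mk_mul, QuotientGroup.mk_inv]

theorem qa_gen (α : MulAut G) (h : Invo α) (N : Subgroup G) [N.Normal] (hN : AInv α N)
    (hg : Gen α) : Gen (qa α h N hN) := by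
  unfold Gen at *
  rw [eq_top_iff]
  intro x _
  induction x using QuotientGroup.induction_on with
  | H g =>
    have h1 : g ∈ Subgroup.closure (Set.range (ph α)) := by rw [hg]; trivial
    clear * - h1
    induction h1 using Subgroup.closure_induction with
    | mem y hy =>
      obtain ⟨c, rfl⟩ := hy
      apply Subgroup.subset_closure
      exact ⟨(c : G ⧸ N), ph_qa α h N hN c⟩
    | one => exact Subgroup.one_mem _
    | mul a b _ _ iha ihb =>
      rw [QuotientGroup.mk_mul]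
      exact Subgroup.mul_mem _ iha ihb
    | inv a _ iha =>
      rw [QuotientGroup.mk_inv]
      exact Subgroup.inv_mem _ iha

theorem mk_mem_JJ (α : MulAut G) (h : Invo α) (N : Subgroup G) [N.Normal] (hN : AInv α N)
    {x : G} (hx : x ∈ JJ α) : (x : G ⧸ N) ∈ JJ (qa α h N hN) := by
  refine ⟨?_, ?_⟩
  · have h1 : orderOf (x : G ⧸ N) ∣ orderOf x :=
      orderOf_dvd_of_pow_eq_one (by rw [← QuotientGroup.mk_pow, pow_orderOf_eq_one]; rfl)
    exact hx.1.of_dvd_nat h1
  · rw [qa_mk, hx.2, QuotientGroup.mk_inv]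

theorem exists_lift_JJ [Finite G] (α : MulAut G) (h : Invo α) (N : Subgroup G) [N.Normal]
    (hN : AInv α N) {X : G ⧸ N} (hX : X ∈ JJ (qa α h N hN)) :
    ∃ y ∈ JJ α, (y : G ⧸ N) = X := by
  obtain ⟨x, rfl⟩ := QuotientGroup.mk_surjective X
  obtain ⟨hodd, hinv⟩ := hX
  set k := orderOf (x : G ⧸ N) with hk
  obtain ⟨j, hj⟩ := hodd
  -- g = x^(j+1), y₀ = ph g
  set y₀ := ph α (x ^ (j + 1)) with hy₀
  have h1 : ((y₀ : G) : G ⧸ N) = (x : G ⧸ N) := by
    rw [hy₀, ← ph_qa α h N hN]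
    unfold ph
    rw [QuotientGroup.mk_pow, map_pow, hinv, inv_pow, inv_inv, ← pow_add]
    have : j + 1 + (j + 1) = k + 1 := by omega
    rw [this, pow_succ, hk, pow_orderOf_eq_one, one_mul]
  have h2 : α y₀ = y₀⁻¹ := ph_inv h _
  set t := Nat.card G with ht
  set e := (2 ^ t) ^ (Nat.totient k) with he
  have hkpos : 0 < k := by omega
  have h3 : 2 ^ t ∣ e := by
    rw [he]
    exact dvd_pow_self _ (Nat.totient_pos.2 hkpos).ne'
  have hcop : Nat.Coprime (2 ^ t) k := by
    apply Nat.Coprime.pow_left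
    rw [Nat.coprime_two_left]
    exact ⟨j, hj⟩
  have h4 : e ≡ 1 [MOD k] := Nat.ModEq.pow_totient hcop
  refine ⟨y₀ ^ e, ⟨odd_orderOf_pow _ _ h3, inverted_pow h2 _⟩, ?_⟩
  rw [QuotientGroup.mk_pow, h1, ← pow_mod_orderOf, ← hk, h4, pow_mod_orderOf, pow_one]

theorem card_JJ_quot_le [Finite G] (α : MulAut G) (h : Invo α) (N : Subgroup G) [N.Normal]
    (hN : AInv α N) : Nat.card (JJ (qa α h N hN)) ≤ Nat.card (JJ α) := by
  have hsurj : Function.Surjective
      (fun x : JJ α => (⟨(x : G), mk_mem_JJ α h N hN x.2⟩ : JJ (qa α h N hN))) := by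
    rintro ⟨X, hX⟩
    obtain ⟨y, hy, rfl⟩ := exists_lift_JJ α h N hN hX
    exact ⟨⟨y, hy⟩, rfl⟩
  exact Nat.card_le_card_of_surjective _ hsurj

theorem card_JJ_quot_lt [Finite G] (α : MulAut G) (h : Invo α) (N : Subgroup G) [N.Normal]
    (hN : AInv α N) {x y : G} (hx : x ∈ JJ α) (hy : y ∈ JJ α) (hxy : x ≠ y) (hm : x⁻¹ * y ∈ N) :
    Nat.card (JJ (qa α h N hN)) < Nat.card (JJ α) := by
  have hsurj : Function.Surjective
      (fun x : JJ α => (⟨(x : G), mk_mem_JJ α h N hN x.2⟩ : JJ (qa α h N hN))) := by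
    rintro ⟨X, hX⟩
    obtain ⟨y, hy, rfl⟩ := exists_lift_JJ α h N hN hX
    exact ⟨⟨y, hy⟩, rfl⟩
  have hninj : ¬ Function.Injective
      (fun x : JJ α => (⟨(x : G), mk_mem_JJ α h N hN x.2⟩ : JJ (qa α h N hN))) := by
    intro hinj
    have : (⟨x, hx⟩ : JJ α) = ⟨y, hy⟩ := by
      apply hinj
      apply Subtype.ext
      change (x : G ⧸ N) = (y : G ⧸ N)
      rw [QuotientGroup.eq]
      exact hm
    exact hxy (congrArg Subtype.val this)
  have : Finite (JJ α) := Subtype.finite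
  have : Finite (JJ (qa α h N hN)) := Subtype.finite
  have := Fintype.ofFinite (JJ α)
  have := Fintype.ofFinite (JJ (qa α h N hN))
  rw [Nat.card_eq_fintype_card, Nat.card_eq_fintype_card]
  exact Fintype.card_lt_of_surjective_not_injective _ hsurj hninj

end Cfsg.Agent.Lib.Lead.InvB
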