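import Mathlib
import Cfsg.Agent.Lib.Lead.InvB3
import Cfsg.Agent.Lib.Lead.OddStable2
import Cfsg.Agent.Lib.Lead.Core

set_option autoImplicit false

/-!
# If `α` inverts no nontrivial element of odd order and `O_2 = 1` then `α` is trivial
-/

namespace Cfsg.Agent.Lib.Lead.InvB

universe u

variable {G : Type u} [Group G]

/-- `[G, α]` -/
def comm (α : MulAut G) : Subgroup G := Subgroup.closure (Set.range (ph α))

theorem ph_mem_comm (α : MulAut G) (c : G) : ph α c ∈ comm α :=
  Subgroup.subset_closure ⟨c, rfl⟩

theorem conj_ph (α : MulAut G) (h c : G) : h * ph α c * h⁻¹ = ph α (h * c) * (ph α h)⁻¹ := by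
  unfold ph
  rw [map_mul]
  group

instance comm_normal (α : MulAut G) : (comm α).Normal := by
  constructor
  intro m hm h
  unfold comm at hm
  induction hm using Subgroup.closure_induction with
  | mem y hy =>
    obtain ⟨c, rfl⟩ := hy
    rw [conj_ph]
    exact Subgroup.mul_mem _ (ph_mem_comm α _) (Subgroup.inv_mem _ (ph_mem_comm α _))
  | one => simp
  | mul a b _ _ iha ihb =>
    have : h * (a * b) * h⁻¹ = (h * a * h⁻¹) * (h * b * h⁻¹) := by group
    rw [this]
    exact Subgroup.mul_mem _ iha ihb
  | inv a _ iha =>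
    have : h * a⁻¹ * h⁻¹ = (h * a * h⁻¹)⁻¹ := by group
    rw [this]
    exact Subgroup.inv_mem _ iha

theorem comm_AInv {α : MulAut G} (hα : Invo α) : AInv α (comm α) := by
  intro m hm
  unfold comm at hm
  induction hm using Subgroup.closure_induction with
  | mem y hy =>
    obtain ⟨c, rfl⟩ := hy
    rw [ph_inv hα]
    exact Subgroup.inv_mem _ (ph_mem_comm α _)
  | one => rw [map_one]; exact Subgroup.one_mem _
  | mul a b _ _ iha ihb => rw [map_mul]; exact Subgroup.mul_mem _ iha ihb
  | inv a _ iha => rw [map_inv]; exact Subgroup.inv_mem _ iha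

theorem inv_apply_of_invo {α : MulAut G} (hα : Invo α) (g : G) : α⁻¹ g = α g := by
  have : α⁻¹ (α (α g)) = α g := by
    change α.symm (α (α g)) = α g
    simp
  rw [hα g] at this
  exact this

/-- restriction of `α` to an invariant subgroup -/
def res (α : MulAut G) (hα : Invo α) (H : Subgroup G) (hH : AInv α H) : MulAut H :=
  Cfsg.Agent.Lib.Helper9.Flavell.resAut α H hH
    (fun g hg => by rw [inv_apply_of_invo hα]; exact hH g hg)

theorem res_apply (α : MulAut G) (hα : Invo α) (H : Subgroup G) (hH : AInv α H) (x : H) :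
    ((res α hα H hH x : H) : G) = α x := rfl

theorem res_invo (α : MulAut G) (hα : Invo α) (H : Subgroup G) (hH : AInv α H) :
    Invo (res α hα H hH) := by
  intro x
  apply Subtype.ext
  rw [res_apply, res_apply, hα]

theorem coe_mem_JJ (α : MulAut G) (hα : Invo α) (H : Subgroup G) (hH : AInv α H) {x : H}
    (hx : x ∈ JJ (res α hα H hH)) : (x : G) ∈ JJ α := by
  refine ⟨?_, ?_⟩
  · rw [Subgroup.orderOf_coe]
    exact hx.1
  · have := congrArg (fun z : H => (z : G)) hx.2
    simpa [res_apply] using this

theorem comm_of_sq {H : Type u} [Group H] {a b : H} (ha : a * a = 1) (hb : b * b = 1)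
    (hab : (a * b) * (a * b) = 1) : a * b = b * a := by
  have h1 : a * b = (a * b)⁻¹ := eq_inv_of_mul_eq_one_left hab
  have h2 : a = a⁻¹ := eq_inv_of_mul_eq_one_left ha
  have h3 : b = b⁻¹ := eq_inv_of_mul_eq_one_left hb
  rw [h1, mul_inv_rev, ← h2, ← h3]

theorem fix_of_JJ_trivial_aux : ∀ n : ℕ, ∀ (H : Type u) [Group H] [Finite H] (β : MulAut H),
    Nat.card H = n → Invo β → (∀ x ∈ JJ β, x = 1) → Cfsg.pCore 2 H = ⊥ → ∀ h : H, β h = h := by
  intro n
  induction n using Nat.strong_induction_on with
  | _ n ih =>
  intro H _ _ β hn hβ hJ hO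
  have hfact : Fact (Nat.Prime 2) := ⟨Nat.prime_two⟩
  by_cases hM : comm β = ⊤
  · -- `[H, β] = H`
    have h1 := closure_JJ hβ hM
    have h2 : Subgroup.closure (JJ β) ≤ ⊥ := by
      rw [Subgroup.closure_le]
      intro x hx
      rw [SetLike.mem_coe, Subgroup.mem_bot]
      exact hJ x hx
    rw [h1] at h2
    intro h
    have e1 : h = 1 := by
      have := h2 (Subgroup.mem_top h)
      rwa [Subgroup.mem_bot] at this
    rw [e1, map_one]
  · -- `[H, β] < H`
    have hlt : Nat.card (comm β) < n := by
      rw [← hn]
      have hlt' : comm β < ⊤ := lt_top_iff_ne_top.2 hM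
      have := Cfsg.Agent.Lib.Helper7.card_lt_of_lt hlt'
      rwa [Subgroup.card_top] at this
    have hA := comm_AInv hβ
    have hfix : ∀ m : comm β, res β hβ (comm β) hA m = m := by
      apply ih _ hlt (comm β) (res β hβ (comm β) hA) rfl (res_invo β hβ _ hA)
      · intro x hx
        have := hJ _ (coe_mem_JJ β hβ _ hA hx)
        exact Subtype.ext this
      · have h1 := OddStable.pCore_map_subtype_le_of_normal (p := 2) (comm β)
        rw [hO, le_bot_iff] at h1
        exact (Subgroup.map_eq_bot_iff_of_injective _ (Subgroup.subtype_injective _)).1 h1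
    have hfix' : ∀ m ∈ comm β, β m = m := by
      intro m hm
      have := congrArg (fun z : comm β => (z : H)) (hfix ⟨m, hm⟩)
      simpa [res_apply] using this
    -- all `ph h` are involutions (or trivial)
    have hsq : ∀ h : H, (ph β h)⁻¹ = ph β h := by
      intro h
      rw [← ph_inv hβ, hfix' _ (ph_mem_comm β h)]
    have hsq' : ∀ h : H, ph β h * ph β h = 1 := by
      intro h
      nth_rewrite 1 [← hsq h]
      exact inv_mul_cancel _
    -- they commute
    have hcomm : ∀ g h : H, ph β g * ph β h = ph β h * ph β g := by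
      intro g h
      have h1 := conj_ph β h (h⁻¹ * g)
      rw [mul_inv_cancel_left, hsq] at h1
      have h2 : (ph β g * ph β h) * (ph β g * ph β h) = 1 := by
        rw [← h1]
        have : h * ph β (h⁻¹ * g) * h⁻¹ * (h * ph β (h⁻¹ * g) * h⁻¹) =
            h * (ph β (h⁻¹ * g) * ph β (h⁻¹ * g)) * h⁻¹ := by group
        rw [this, hsq']
        group
      exact comm_of_sq (hsq' g) (hsq' h) h2
    have hle : comm β ≤ Subgroup.centralizer (comm β : Set H) := by
      unfold comm
      rw [Subgroup.centralizer_closure, Subgroup.closure_le]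
      rintro _ ⟨g, rfl⟩
      rw [SetLike.mem_coe, Subgroup.mem_centralizer_iff]
      rintro _ ⟨h, rfl⟩
      exact hcomm _ _
    have hab : ∀ x ∈ comm β, ∀ y ∈ comm β, x * y = y * x := by
      intro x hx y hy
      have := hle hy
      rw [Subgroup.mem_centralizer_iff] at this
      exact this x hx
    have hall : ∀ m ∈ comm β, m * m = 1 := by
      intro m hm
      have hm' := hm
      unfold comm at hm'
      induction hm' using Subgroup.closure_induction with
      | mem y hy =>
        obtain ⟨c, rfl⟩ := hy
        exact hsq' c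
      | one => simp
      | mul a b ha hb iha ihb =>
        have ha' : a ∈ comm β := ha
        have hb' : b ∈ comm β := hb
        have e := hab a ha' b hb'
        calc a * b * (a * b) = a * (b * a) * b := by group
          _ = a * (a * b) * b := by rw [e]
          _ = (a * a) * (b * b) := by group
          _ = 1 := by rw [iha ha', ihb hb', one_mul]
      | inv a ha iha =>
        have ha' : a ∈ comm β := ha
        have := iha ha'
        calc a⁻¹ * a⁻¹ = (a * a)⁻¹ := by group
          _ = 1 := by rw [this, inv_one]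
    have hp : IsPGroup 2 (comm β) := by
      intro m
      refine ⟨1, ?_⟩
      apply Subtype.ext
      have := hall m m.2
      simp only [pow_one, Subgroup.coe_pow, Subgroup.coe_one]
      rw [pow_two]
      exact this
    have hbot : comm β = ⊥ := by
      have := Cfsg.Agent.Lib.Lead.le_pCore (comm_normal β) hp
      rw [hO] at this
      exact le_bot_iff.1 this
    intro h
    have h1 : ph β h = 1 := by
      have := ph_mem_comm β h
      rwa [hbot, Subgroup.mem_bot] at this
    unfold ph at h1
    have := mul_inv_eq_one.1 h1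
    exact this.symm

/-- an `α`-invariant subgroup with `O_2 = 1` in which `α` inverts no nontrivial element of odd
order is centralized by `α` -/
theorem fix_of_JJ_trivial [Finite G] (α : MulAut G) (hα : Invo α) (N : Subgroup G) (hN : AInv α N)
    (hJ : ∀ x ∈ JJ α, x ∈ N → x = 1) (hO : Cfsg.pCore 2 ↥N = ⊥) : ∀ n ∈ N, α n = n := by
  have h1 := fix_of_JJ_trivial_aux _ N (res α hα N hN) rfl (res_invo α hα N hN)
    (fun x hx => Subtype.ext (hJ _ (coe_mem_JJ α hα N hN hx) x.2)) hO
  intro n hn
  have := congrArg (fun z : N => (z : G)) (h1 ⟨n, hn⟩)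
  simpa [res_apply] using this

end Cfsg.Agent.Lib.Lead.InvB
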