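import Mathlib
import Cfsg.Agent.Lib.Lead.InvB4

set_option autoImplicit false

/-!
# Minimal `α`-invariant normal subgroups: two elements of `JJ α` in one coset
-/

namespace Cfsg.Agent.Lib.Lead.InvB

universe u

variable {G : Type u} [Group G]

/-- a minimal nontrivial `α`-invariant normal subgroup -/
def MinAN (α : MulAut G) (N : Subgroup G) : Prop :=
  N.Normal ∧ AInv α N ∧ N ≠ ⊥ ∧ ∀ K : Subgroup G, K.Normal → AInv α K → K ≤ N → K = ⊥ ∨ K = N

theorem exists_MinAN [Finite G] [Nontrivial G] (α : MulAut G) : ∃ N, MinAN α N := by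
  let S : Set (Subgroup G) := {K | K.Normal ∧ AInv α K ∧ K ≠ ⊥}
  have hne : S.Nonempty := ⟨⊤, inferInstance, fun _ _ => Subgroup.mem_top _, top_ne_bot⟩
  obtain ⟨N, hN, hmin⟩ := Set.exists_min_image S (fun K => Nat.card K) (Set.toFinite S) hne
  refine ⟨N, hN.1, hN.2.1, hN.2.2, ?_⟩
  intro K hK1 hK2 hKN
  by_cases hK : K = ⊥
  · exact Or.inl hK
  · right
    have := hmin K ⟨hK1, hK2, hK⟩
    exact Subgroup.eq_of_le_of_card_ge hKN this

theorem char_map_AInv (α : MulAut G) (hα : Invo α) (N : Subgroup G) (hN : AInv α N)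
    (K : Subgroup N) [hK : K.Characteristic] : AInv α (K.map N.subtype) := by
  rintro _ ⟨x, hx, rfl⟩
  have h1 : K ≤ K.comap (res α hα N hN).toMonoidHom := (Subgroup.characteristic_iff_le_comap.1 hK) _
  have h2 := h1 hx
  rw [Subgroup.mem_comap] at h2
  exact ⟨_, h2, rfl⟩

theorem orderOf_sq_lt {x : G} (h2 : 2 ∣ orderOf x) (hpos : 0 < orderOf x) :
    orderOf (x * x) < orderOf x := by
  rw [← pow_two, orderOf_pow' x (by norm_num : (2 : ℕ) ≠ 0)]
  have : Nat.gcd (orderOf x) 2 = 2 := Nat.gcd_eq_right h2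
  rw [this]
  exact Nat.div_lt_self hpos (by norm_num)

/-- the `2`-group case -/
theorem exists_pair_two_group [Finite G] {α : MulAut G} (hα : Invo α) (hg : Gen α)
    (hZ : Subgroup.center G ⊓ Fx α = ⊥) {N : Subgroup G} (hN : MinAN α N)
    (h2 : IsPGroup 2 N) :
    ∃ x ∈ JJ α, ∃ y ∈ JJ α, x ≠ y ∧ x⁻¹ * y ∈ N := by
  obtain ⟨hNn, hNa, hNb, hNmin⟩ := hN
  have hfact : Fact (Nat.Prime 2) := ⟨Nat.prime_two⟩
  have hntr : Nontrivial N := (Subgroup.nontrivial_iff_ne_bot N).2 hNb
  -- `N` is abelian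
  have hab : ∀ a ∈ N, ∀ b ∈ N, a * b = b * a := by
    have h3 : (Subgroup.center N).map N.subtype = N := by
      have hn : ((Subgroup.center N).map N.subtype).Normal :=
        ConjAct.normal_of_characteristic_of_normal
      have ha := char_map_AInv α hα N hNa (Subgroup.center N)
      rcases hNmin _ hn ha (Subgroup.map_subtype_le _) with h | h
      · exfalso
        rw [Subgroup.map_eq_bot_iff_of_injective _ (Subgroup.subtype_injective _)] at h
        have := h2.center_nontrivial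
        rw [h] at this
        exact not_nontrivial _ this
      · exact h
    intro a ha b hb
    rw [← h3] at ha
    obtain ⟨a', ha', rfl⟩ := ha
    have := Subgroup.mem_center_iff.1 ha' ⟨b, hb⟩
    have := congrArg (fun z : N => (z : G)) this
    simpa using this.symm
  -- some `x ∈ JJ` does not centralize `N`
  have hJ := closure_JJ hα hg
  have hex : ∃ x ∈ JJ α, ∃ n ∈ N, x * n ≠ n * x := by
    by_contra hcon
    push_neg at hcon
    have hNZ : N ≤ Subgroup.center G := by
      have h3 : (⊤ : Subgroup G) ≤ Subgroup.centralizer (N : Set G) := by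
        rw [← hJ, Subgroup.closure_le]
        intro x hx
        rw [SetLike.mem_coe, Subgroup.mem_centralizer_iff]
        intro n hn
        exact (hcon x hx n hn).symm
      intro n hn
      rw [Subgroup.mem_center_iff]
      intro g
      have := h3 (Subgroup.mem_top g)
      rw [Subgroup.mem_centralizer_iff] at this
      exact (this n hn).symm
    -- an involution of `N`
    have hdvd : 2 ∣ Nat.card N := by
      obtain ⟨k, hk⟩ := h2.exists_card_eq
      have hk0 : k ≠ 0 := by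
        rintro rfl
        rw [pow_zero] at hk
        have := Finite.one_lt_card (α := N)
        omega
      rw [hk]
      exact dvd_pow_self 2 hk0
    obtain ⟨n, hn⟩ := exists_prime_orderOf_dvd_card' 2 hdvd
    have hn1 : (n : G) ≠ 1 := by
      intro h
      have : n = 1 := Subtype.ext h
      rw [this, orderOf_one] at hn
      omega
    have hnn : (n : G) * n = 1 := by
      have := pow_orderOf_eq_one n
      rw [hn, pow_two] at this
      have := congrArg (fun z : N => (z : G)) this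
      simpa using this
    have hmem : ∀ z ∈ N, α z = z → z = 1 := by
      intro z hz hfix
      have : z ∈ Subgroup.center G ⊓ Fx α := ⟨hNZ hz, hfix⟩
      rwa [hZ, Subgroup.mem_bot] at this
    by_cases hfix : α (n : G) = n
    · exact hn1 (hmem _ n.2 hfix)
    · have h5 : (n : G) * α n ∈ N := Subgroup.mul_mem _ n.2 (hNa _ n.2)
      have h6 : α ((n : G) * α n) = (n : G) * α n := by
        rw [map_mul, hα]
        exact hab _ (hNa _ n.2) _ n.2
      have h7 := hmem _ h5 h6
      apply hfix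
      have : α (n : G) = (n : G)⁻¹ := (eq_inv_of_mul_eq_one_right h7)
      rw [this]
      exact (eq_inv_of_mul_eq_one_left hnn).symm
  obtain ⟨x, hx, n₀, hn₀, hxn⟩ := hex
  let N₀ : Subgroup G := N ⊓ Subgroup.centralizer ({x} : Set G)
  have hN₀mem : ∀ z, z ∈ N₀ ↔ z ∈ N ∧ x * z = z * x := by
    intro z
    change z ∈ N ⊓ Subgroup.centralizer ({x} : Set G) ↔ _
    rw [Subgroup.mem_inf, Subgroup.mem_centralizer_iff]
    constructor
    · rintro ⟨h1, h3⟩
      exact ⟨h1, (h3 x rfl)⟩
    · rintro ⟨h1, h3⟩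
      refine ⟨h1, ?_⟩
      intro y hy
      rw [Set.mem_singleton_iff] at hy
      subst hy
      exact h3
  -- a `w ∈ N ∖ N₀` of minimal order
  let S : Set G := {w | w ∈ N ∧ w ∉ N₀}
  have hSne : S.Nonempty := ⟨n₀, hn₀, fun h => hxn ((hN₀mem _).1 h).2⟩
  obtain ⟨w, hw, hwmin⟩ := Set.exists_min_image S orderOf (Set.toFinite S) hSne
  have hw1 : w ≠ 1 := by
    rintro rfl
    exact hw.2 (Subgroup.one_mem _)
  have hwo : 2 ∣ orderOf w := by
    obtain ⟨k, hk⟩ := (IsPGroup.iff_orderOf.1 h2) ⟨w, hw.1⟩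
    rw [Subgroup.orderOf_mk] at hk
    have hk0 : k ≠ 0 := by
      rintro rfl
      rw [pow_zero, orderOf_eq_one_iff] at hk
      exact hw1 hk
    rw [hk]
    exact dvd_pow_self 2 hk0
  have hww : w * w ∈ N₀ := by
    by_contra hcon
    have h3 : w * w ∈ S := ⟨Subgroup.mul_mem _ hw.1 hw.1, hcon⟩
    have h4 := hwmin _ h3
    have h5 := orderOf_sq_lt hwo (orderOf_pos w)
    omega
  -- the element `u`
  have hu : ∃ u ∈ N, u ∉ N₀ ∧ α u * u⁻¹ ∈ N₀ := by
    by_cases hc : α w * w⁻¹ ∈ N₀
    · exact ⟨w, hw.1, hw.2, hc⟩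
    · refine ⟨α w * w, Subgroup.mul_mem _ (hNa _ hw.1) hw.1, ?_, ?_⟩
      · intro h3
        apply hc
        have : α w * w⁻¹ = (α w * w) * (w * w)⁻¹ := by group
        rw [this]
        exact Subgroup.mul_mem _ h3 (Subgroup.inv_mem _ hww)
      · rw [map_mul, hα]
        have : w * α w * (α w * w)⁻¹ = 1 := by
          rw [hab _ hw.1 _ (hNa _ hw.1)]
          group
        rw [this]
        exact Subgroup.one_mem _
  obtain ⟨u, huN, hu0, huc⟩ := hu
  have hcx := ((hN₀mem _).1 huc).2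
  refine ⟨x, hx, u⁻¹ * x * u, ⟨?_, ?_⟩, ?_, ?_⟩
  · have : orderOf (u⁻¹ * x * u) = orderOf x := by
      have := (MulAut.conj u⁻¹).orderOf_eq x
      simpa [MulAut.conj_apply] using this
    rw [this]
    exact hx.1
  · rw [map_mul, map_mul, map_inv, hx.2]
    -- α u = c * u with c commuting with x
    have e1 : α u = (α u * u⁻¹) * u := by group
    rw [e1]
    have e2 : x⁻¹ * (α u * u⁻¹) = (α u * u⁻¹) * x⁻¹ := by
      have := hcx
      calc x⁻¹ * (α u * u⁻¹) = x⁻¹ * ((α u * u⁻¹) * x) * x⁻¹ := by group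
        _ = x⁻¹ * (x * (α u * u⁻¹)) * x⁻¹ := by rw [this]
        _ = (α u * u⁻¹) * x⁻¹ := by group
    calc (α u * u⁻¹ * u)⁻¹ * x⁻¹ * (α u * u⁻¹ * u)
        = u⁻¹ * ((α u * u⁻¹)⁻¹ * (x⁻¹ * (α u * u⁻¹))) * u := by group
      _ = u⁻¹ * ((α u * u⁻¹)⁻¹ * ((α u * u⁻¹) * x⁻¹)) * u := by rw [e2]
      _ = (u⁻¹ * x * u)⁻¹ := by group
  · intro h3
    apply hu0
    rw [hN₀mem]
    refine ⟨huN, ?_⟩
    calc x * u = u * (u⁻¹ * x * u) := by group
      _ = u * x := by rw [← h3]
  · have : x⁻¹ * (u⁻¹ * x * u) = (x⁻¹ * u⁻¹ * x⁻¹⁻¹) * u := by group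
    rw [this]
    exact Subgroup.mul_mem _ (hNn.conj_mem _ (Subgroup.inv_mem _ huN) _) huN

/-- if `Z(G) ∩ C_G(α) = 1` then every minimal `α`-invariant normal subgroup contains the quotient
of two different elements of `JJ α` -/
theorem exists_pair [Finite G] {α : MulAut G} (hα : Invo α) (hg : Gen α)
    (hZ : Subgroup.center G ⊓ Fx α = ⊥) {N : Subgroup G} (hN : MinAN α N) :
    ∃ x ∈ JJ α, ∃ y ∈ JJ α, x ≠ y ∧ x⁻¹ * y ∈ N := by
  have hfact : Fact (Nat.Prime 2) := ⟨Nat.prime_two⟩
  by_cases hA : ∃ y ∈ JJ α, y ∈ N ∧ y ≠ 1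
  · obtain ⟨y, hy, hyN, hy1⟩ := hA
    exact ⟨1, one_mem_JJ α, y, hy, fun h => hy1 h.symm, by simpa using hyN⟩
  · push_neg at hA
    obtain ⟨hNn, hNa, hNb, hNmin⟩ := hN
    by_cases hO : Cfsg.pCore 2 ↥N = ⊥
    · exfalso
      have h1 := fix_of_JJ_trivial α hα N hNa hA hO
      have h2 := gen_le_center hg N h1
      apply hNb
      rw [eq_bot_iff, ← hZ]
      intro n hn
      exact ⟨h2 hn, h1 n hn⟩
    · have hn : ((Cfsg.pCore 2 ↥N).map N.subtype).Normal :=
        ConjAct.normal_of_characteristic_of_normal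
      have ha := char_map_AInv α hα N hNa (Cfsg.pCore 2 ↥N)
      rcases hNmin _ hn ha (Subgroup.map_subtype_le _) with h | h
      · exfalso
        apply hO
        exact (Subgroup.map_eq_bot_iff_of_injective _ (Subgroup.subtype_injective _)).1 h
      · have h2 : IsPGroup 2 N := by
          have h3 : Cfsg.pCore 2 ↥N = ⊤ := by
            rw [eq_top_iff]
            intro x _
            have : (x : G) ∈ (Cfsg.pCore 2 ↥N).map N.subtype := by rw [h]; exact x.2
            obtain ⟨y, hy, hyx⟩ := this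
            have : y = x := Subtype.ext hyx
            rwa [← this]
          have h4 := Cfsg.Agent.Lib.Lead.pCore_isPGroup (G := ↥N) 2
          rw [h3] at h4
          exact IsPGroup.of_equiv h4 Subgroup.topEquiv
        exact exists_pair_two_group hα hg hZ ⟨hNn, hNa, hNb, hNmin⟩ h2

end Cfsg.Agent.Lib.Lead.InvB
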