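import Mathlib
import Cfsg.Agent.Lib.Lead.InvB5

set_option autoImplicit false

/-!
# A Brauer–Fowler type count for an involutory automorphism
-/

namespace Cfsg.Agent.Lib.Lead.InvB

universe u

variable {G : Type u} [Group G]

theorem ph_eq_iff {α : MulAut G} (c c' : G) : ph α c = ph α c' ↔ c⁻¹ * c' ∈ Fx α := by
  unfold ph
  rw [mem_Fx, map_mul, map_inv]
  constructor
  · intro h
    have : (α c)⁻¹ * α c' = c⁻¹ * c' := by
      calc (α c)⁻¹ * α c' = c⁻¹ * (c * (α c)⁻¹) * α c' := by group
        _ = c⁻¹ * (c' * (α c')⁻¹) * α c' := by rw [h]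
        _ = c⁻¹ * c' := by group
    exact this
  · intro h
    calc c * (α c)⁻¹ = c * ((α c)⁻¹ * α c') * (α c')⁻¹ := by group
      _ = c * (c⁻¹ * c') * (α c')⁻¹ := by rw [h]
      _ = c' * (α c')⁻¹ := by group

/-- `|G| = |C_G(α)| * |{c (α c)⁻¹}|` -/
theorem card_eq_Fx_mul_range [Finite G] (α : MulAut G) :
    Nat.card G = Nat.card (Fx α) * Nat.card (Set.range (ph α)) := by
  have h1 : Nat.card (Set.range (ph α)) = (Fx α).index := by
    unfold Subgroup.index
    let f : G ⧸ Fx α → Set.range (ph α) := fun q =>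
      Quotient.liftOn' q (fun c => (⟨ph α c, c, rfl⟩ : Set.range (ph α))) (by
        intro a b hab
        rw [QuotientGroup.leftRel_apply] at hab
        apply Subtype.ext
        exact (ph_eq_iff a b).2 hab)
    have hbij : Function.Bijective f := by
      constructor
      · intro q q' h
        induction q using QuotientGroup.induction_on with
        | H a =>
        induction q' using QuotientGroup.induction_on with
        | H b =>
        have h2 : ph α a = ph α b := congrArg Subtype.val h
        rw [QuotientGroup.eq]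
        exact (ph_eq_iff a b).1 h2
      · rintro ⟨_, c, rfl⟩
        exact ⟨(c : G ⧸ Fx α), rfl⟩
    exact (Nat.card_eq_of_bijective f hbij).symm
  rw [h1, mul_comm]
  exact (Subgroup.index_mul_card (Fx α)).symm

theorem card_range_ph_ge_two [Finite G] {α : MulAut G} (hne : ∃ g, α g ≠ g) :
    2 ≤ Nat.card (Set.range (ph α)) := by
  obtain ⟨g, hg⟩ := hne
  have : Finite (Set.range (ph α)) := Subtype.finite
  have hnt : Nontrivial (Set.range (ph α)) := by
    refine ⟨⟨ph α g, g, rfl⟩, ⟨ph α 1, 1, rfl⟩, ?_⟩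
    intro h
    have h2 : ph α g = ph α 1 := congrArg Subtype.val h
    rw [ph_eq_iff] at h2
    apply hg
    have := Subgroup.inv_mem _ h2
    simpa [mem_Fx] using this
  exact Finite.one_lt_card_iff_nontrivial.2 hnt

theorem bf_count [Finite G] {α : MulAut G} (hα : Invo α) (hne : ∃ g, α g ≠ g) :
    ∃ x : G, x ≠ 1 ∧ Nat.card G ≤
      2 * (Nat.card (Fx α)) ^ 2 * Nat.card (Subgroup.centralizer ({x} : Set G)) := by
  classical
  by_contra hcon
  push Not at hcon
  have := Fintype.ofFinite G
  set c := Nat.card (Fx α) with hc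
  set T : Finset G := Finset.univ.image (ph α) with hT
  set d := T.card with hd
  have hTmem : ∀ u, u ∈ T ↔ ∃ a, ph α a = u := by
    intro u
    rw [hT, Finset.mem_image]
    simp
  have hdcard : Nat.card (Set.range (ph α)) = d := by
    rw [hd, hT, ← Set.toFinset_range, Nat.card_eq_fintype_card, Set.toFinset_card]
  have hnd : Nat.card G = c * d := by rw [card_eq_Fx_mul_range α, hdcard]
  have hd2 : 2 ≤ d := by rw [← hdcard]; exact card_range_ph_ge_two hne
  have hc1 : 1 ≤ c := Nat.card_pos
  -- the double count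
  have key : ∑ x : G, (T.filter (fun u => u * x ∈ T)).card = d * d := by
    simp_rw [Finset.card_filter]
    rw [Finset.sum_comm]
    have : ∀ u ∈ T, ∑ x : G, (if u * x ∈ T then 1 else 0) = d := by
      intro u _
      rw [← Finset.card_filter]
      apply Finset.card_bij (fun x _ => u * x)
      · intro x hx
        exact (Finset.mem_filter.1 hx).2
      · intro x _ y _ h
        exact mul_left_cancel h
      · intro v hv
        exact ⟨u⁻¹ * v, by simp [hv], by simp⟩
    rw [Finset.sum_congr rfl this, Finset.sum_const, smul_eq_mul]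
  -- the terms for `x ≠ 1`
  have hterm : ∀ x : G, x ≠ 1 → (T.filter (fun u => u * x ∈ T)).card ≤
      Nat.card (Subgroup.centralizer ({x} : Set G)) := by
    intro x _
    by_cases hemp : (T.filter (fun u => u * x ∈ T)) = ∅
    · rw [hemp]; simp
    · obtain ⟨u₀, hu₀⟩ := Finset.nonempty_iff_ne_empty.2 hemp
      have hprop : ∀ u ∈ T.filter (fun u => u * x ∈ T), α x = u * x⁻¹ * u⁻¹ := by
        intro u hu
        rw [Finset.mem_filter] at hu
        obtain ⟨hu1, hu2⟩ := hu
        obtain ⟨a, rfl⟩ := (hTmem _).1 hu1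
        obtain ⟨b, hb⟩ := (hTmem _).1 hu2
        have e1 : α (ph α a) = (ph α a)⁻¹ := ph_inv hα a
        have e2 : α (ph α a * x) = (ph α a * x)⁻¹ := by rw [← hb]; exact ph_inv hα b
        rw [map_mul, e1] at e2
        calc α x = ph α a * ((ph α a)⁻¹ * α x) := by group
          _ = ph α a * (ph α a * x)⁻¹ := by rw [e2]
          _ = ph α a * x⁻¹ * (ph α a)⁻¹ := by group
      have h0 := hprop u₀ hu₀
      rw [Nat.card_eq_fintype_card, ← Fintype.card_coe]
      apply Fintype.card_le_of_injective
        (fun u : {u // u ∈ T.filter (fun u => u * x ∈ T)} =>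
          (⟨u₀⁻¹ * (u : G), by
            rw [Subgroup.mem_centralizer_iff]
            intro y hy
            rw [Set.mem_singleton_iff] at hy
            subst hy
            have h1 := hprop u u.2
            rw [h0] at h1
            have h2 : y⁻¹ * (u₀⁻¹ * (u : G)) = (u₀⁻¹ * (u : G)) * y⁻¹ := by
              calc y⁻¹ * (u₀⁻¹ * (u : G)) = u₀⁻¹ * (u₀ * y⁻¹ * u₀⁻¹) * u := by group
                _ = u₀⁻¹ * ((u : G) * y⁻¹ * (u : G)⁻¹) * u := by rw [h1]
                _ = (u₀⁻¹ * (u : G)) * y⁻¹ := by group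
            calc y * (u₀⁻¹ * (u : G)) = y * ((u₀⁻¹ * (u : G)) * y⁻¹) * y := by group
              _ = y * (y⁻¹ * (u₀⁻¹ * (u : G))) * y := by rw [h2]
              _ = (u₀⁻¹ * (u : G)) * y := by group⟩ :
            Subgroup.centralizer ({x} : Set G)))
      intro u v huv
      have := congrArg Subtype.val huv
      simp only at this
      exact Subtype.ext (mul_left_cancel this)
  -- arithmetic
  have h1term : (T.filter (fun u => u * (1 : G) ∈ T)).card = d := by
    simp only [mul_one]
    rw [Finset.filter_true_of_mem (fun _ h => h)]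
  have hsplit : ∑ x : G, (T.filter (fun u => u * x ∈ T)).card =
      d + ∑ x ∈ Finset.univ.erase (1 : G), (T.filter (fun u => u * x ∈ T)).card := by
    rw [← Finset.add_sum_erase _ _ (Finset.mem_univ (1 : G)), h1term]
  have hsum : ∑ x ∈ Finset.univ.erase (1 : G),
      (2 * c ^ 2 * (T.filter (fun u => u * x ∈ T)).card + 1) ≤
      ∑ _x ∈ Finset.univ.erase (1 : G), Nat.card G := by
    apply Finset.sum_le_sum
    intro x hx
    have hx1 : x ≠ 1 := Finset.ne_of_mem_erase hx
    have h1 := hcon x hx1
    have h2 := hterm x hx1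
    have : 2 * c ^ 2 * (T.filter (fun u => u * x ∈ T)).card ≤
        2 * c ^ 2 * Nat.card (Subgroup.centralizer ({x} : Set G)) := Nat.mul_le_mul_left _ h2
    omega
  rw [Finset.sum_add_distrib, ← Finset.mul_sum, Finset.sum_const, Finset.sum_const,
    Finset.card_erase_of_mem (Finset.mem_univ _), Finset.card_univ, smul_eq_mul, smul_eq_mul,
    mul_one, ← Nat.card_eq_fintype_card, hnd] at hsum
  rw [hsplit] at key
  set sg := ∑ x ∈ Finset.univ.erase (1 : G), (T.filter (fun u => u * x ∈ T)).card with hsg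
  have hcd : 1 ≤ c * d := by nlinarith
  have e1 : ((c * d - 1 : ℕ) : ℤ) = (c : ℤ) * d - 1 := by
    rw [Nat.cast_sub hcd]; push_cast; ring
  have hsumZ : (2 * (c : ℤ) ^ 2 * sg + ((c : ℤ) * d - 1)) ≤ ((c : ℤ) * d - 1) * (c * d) := by
    have := (Nat.cast_le (α := ℤ)).2 hsum
    push_cast at this
    rw [e1] at this
    linarith
  have keyZ : (d : ℤ) + sg = d * d := by exact_mod_cast key
  have hdZ : (2 : ℤ) ≤ d := by exact_mod_cast hd2
  have hcZ : (1 : ℤ) ≤ c := by exact_mod_cast hc1
  have hsgZ : (sg : ℤ) = d * d - d := by linarith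
  rw [hsgZ] at hsumZ
  nlinarith [mul_pos (by linarith : (0 : ℤ) < c) (by linarith : (0 : ℤ) < d),
    mul_nonneg (mul_nonneg (by linarith : (0 : ℤ) ≤ c) (by linarith : (0 : ℤ) ≤ c))
      (mul_nonneg (by linarith : (0 : ℤ) ≤ d) (by linarith : (0 : ℤ) ≤ d - 2))]

end Cfsg.Agent.Lib.Lead.InvB
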