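import Mathlib
import Cfsg.Agent.Lib.Lead.InvB6

set_option autoImplicit false

/-!
# Bounding a minimal `α`-invariant normal subgroup
-/

namespace Cfsg.Agent.Lib.Lead.InvB

universe u

variable {G : Type u} [Group G]

/-- a subgroup acting faithfully by conjugation on a finite set -/
theorem card_le_factorial_of_conj [Finite G] (N : Subgroup G) (S : Set G)
    (hS : ∀ n ∈ N, ∀ s ∈ S, n * s * n⁻¹ ∈ S)
    (hker : ∀ n ∈ N, (∀ s ∈ S, n * s * n⁻¹ = s) → n = 1) :
    Nat.card N ≤ (Nat.card S).factorial := by
  let act : MulAction N S :=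
    { smul := fun c x => ⟨(c : G) * x * (c : G)⁻¹, hS c c.2 x x.2⟩
      one_smul := fun x => Subtype.ext (by
        change ((1 : N) : G) * x * ((1 : N) : G)⁻¹ = x
        simp)
      mul_smul := fun a b x => Subtype.ext (by
        change ((a * b : N) : G) * x * ((a * b : N) : G)⁻¹ =
          (a : G) * ((b : G) * x * (b : G)⁻¹) * (a : G)⁻¹
        simp only [Subgroup.coe_mul]
        group) }
  have : Finite S := Subtype.finite
  rw [← Nat.card_perm]
  apply Nat.card_le_card_of_injective (MulAction.toPermHom N S)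
  rw [injective_iff_map_eq_one]
  intro c hc
  apply Subtype.ext
  apply hker c c.2
  intro s hs
  have := congrArg (fun σ : Equiv.Perm S => ((σ ⟨s, hs⟩ : S) : G)) hc
  exact this

/-- a function constant on the left cosets of `C` takes at most `|G : C|` values -/
theorem card_range_le_index [Finite G] {X : Type*} (C : Subgroup G) (f : G → X)
    (hf : ∀ g : G, ∀ c ∈ C, f (g * c) = f g) : Nat.card (Set.range f) ≤ C.index := by
  unfold Subgroup.index
  let F : G ⧸ C → Set.range f := fun q =>
    Quotient.liftOn' q (fun g => (⟨f g, g, rfl⟩ : Set.range f)) (by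
      intro a b hab
      rw [QuotientGroup.leftRel_apply] at hab
      apply Subtype.ext
      have := hf a _ hab
      simp only [mul_inv_cancel_left] at this
      exact this.symm)
  have hsurj : Function.Surjective F := by
    rintro ⟨_, g, rfl⟩
    exact ⟨(g : G ⧸ C), rfl⟩
  exact Nat.card_le_card_of_surjective F hsurj

theorem card_Fx_res_le [Finite G] (α : MulAut G) (hα : Invo α) (N : Subgroup G) (hN : AInv α N) :
    Nat.card (Fx (res α hα N hN)) ≤ Nat.card (Fx α) := by
  apply Nat.card_le_card_of_injective
    (fun z : Fx (res α hα N hN) => (⟨((z : N) : G), by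
      have := congrArg (fun w : N => (w : G)) (mem_Fx.1 z.2)
      exact mem_Fx.2 this⟩ : Fx α))
  intro a b hab
  have := congrArg (fun w : Fx α => (w : G)) hab
  exact Subtype.ext (Subtype.ext this)

/-- the abelian case -/
theorem card_minAN_abelian [Finite G] {α : MulAut G} (hα : Invo α) {N : Subgroup G}
    (hN : MinAN α N) (hab : ∀ a ∈ N, ∀ b ∈ N, a * b = b * a) :
    Nat.card N ≤ Nat.card (Fx α) * (Nat.card (JJ α) + Nat.card (Fx α)) := by
  obtain ⟨hNn, hNa, hNb, hNmin⟩ := hN
  have hntr : Nontrivial N := (Subgroup.nontrivial_iff_ne_bot N).2 hNb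
  have h1 : Nat.card N ≠ 1 := by
    have := Finite.one_lt_card (α := N)
    omega
  obtain ⟨p, hp, hpd⟩ := Nat.exists_prime_and_dvd h1
  have hfact : Fact p.Prime := ⟨hp⟩
  -- the elements of order dividing `p`
  let K : Subgroup G :=
    { carrier := {n | n ∈ N ∧ n ^ p = 1}
      one_mem' := ⟨Subgroup.one_mem _, one_pow _⟩
      mul_mem' := by
        rintro a b ⟨ha, ha'⟩ ⟨hb, hb'⟩
        refine ⟨Subgroup.mul_mem _ ha hb, ?_⟩
        have hc : Commute a b := hab a ha b hb
        rw [hc.mul_pow, ha', hb', one_mul]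
      inv_mem' := by
        rintro a ⟨ha, ha'⟩
        exact ⟨Subgroup.inv_mem _ ha, by rw [inv_pow, ha', inv_one]⟩ }
  have hKmem : ∀ n, n ∈ K ↔ n ∈ N ∧ n ^ p = 1 := fun n => Iff.rfl
  have hKn : K.Normal := by
    constructor
    intro n hn g
    rw [hKmem] at hn ⊢
    refine ⟨hNn.conj_mem n hn.1 g, ?_⟩
    rw [conj_pow, hn.2]
    group
  have hKa : AInv α K := by
    intro n hn
    rw [hKmem] at hn ⊢
    exact ⟨hNa n hn.1, by rw [← map_pow, hn.2, map_one]⟩
  have hKN : K ≤ N := fun n hn => hn.1
  have hKb : K ≠ ⊥ := by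
    obtain ⟨n, hn⟩ := exists_prime_orderOf_dvd_card' p hpd
    intro h
    have h2 : (n : G) ∈ K := by
      rw [hKmem]
      refine ⟨n.2, ?_⟩
      have := pow_orderOf_eq_one n
      rw [hn] at this
      have := congrArg (fun z : N => (z : G)) this
      simpa using this
    rw [h, Subgroup.mem_bot] at h2
    have : n = 1 := Subtype.ext h2
    rw [this, orderOf_one] at hn
    exact hp.one_lt.ne hn
  have hKeq : K = N := by
    rcases hNmin K hKn hKa hKN with h | h
    · exact absurd h hKb
    · exact h
  have hexp : ∀ n ∈ N, n ^ p = 1 := by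
    intro n hn
    rw [← hKeq] at hn
    exact hn.2
  -- the count
  rw [card_eq_Fx_mul_range (res α hα N hNa)]
  apply Nat.mul_le_mul (card_Fx_res_le α hα N hNa)
  have hfinJ : Finite (JJ α) := Subtype.finite
  by_cases hp2 : p = 2
  · -- inverted elements are fixed
    refine le_trans ?_ (Nat.le_add_left _ _)
    apply Nat.card_le_card_of_injective
      (fun t : Set.range (ph (res α hα N hNa)) => (⟨((t : N) : G), by
        obtain ⟨_, a, rfl⟩ := t
        have e1 := ph_inv (res_invo α hα N hNa) a
        have e2 := congrArg (fun w : N => (w : G)) e1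
        simp only [res_apply, Subgroup.coe_inv] at e2
        rw [mem_Fx, e2]
        have e3 := hexp _ (ph (res α hα N hNa) a).2
        rw [hp2, pow_two] at e3
        exact (eq_inv_of_mul_eq_one_left e3).symm⟩ : Fx α))
    intro a b hab'
    have := congrArg (fun w : Fx α => (w : G)) hab'
    exact Subtype.ext (Subtype.ext this)
  · refine le_trans ?_ (Nat.le_add_right _ _)
    apply Nat.card_le_card_of_injective
      (fun t : Set.range (ph (res α hα N hNa)) => (⟨((t : N) : G), by
        obtain ⟨_, a, rfl⟩ := t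
        have e1 := ph_inv (res_invo α hα N hNa) a
        have e2 := congrArg (fun w : N => (w : G)) e1
        simp only [res_apply, Subgroup.coe_inv] at e2
        refine ⟨?_, e2⟩
        have e3 := hexp _ (ph (res α hα N hNa) a).2
        have e4 := orderOf_dvd_of_pow_eq_one e3
        have hpodd : Odd p := hp.odd_of_ne_two hp2
        exact hpodd.of_dvd_nat e4⟩ : JJ α))
    intro a b hab'
    have := congrArg (fun w : JJ α => (w : G)) hab'
    exact Subtype.ext (Subtype.ext this)

end Cfsg.Agent.Lib.Lead.InvB
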