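import Mathlib
import Cfsg.Agent.Lib.Lead.InvB7

set_option autoImplicit false

/-!
# Bounding a minimal `α`-invariant normal subgroup: the nonabelian case
-/

namespace Cfsg.Agent.Lib.Lead.InvB

universe u

variable {G : Type u} [Group G]

theorem closure_normal_of_conj (S : Set G) (hS : ∀ g : G, ∀ s ∈ S, g * s * g⁻¹ ∈ S) :
    (Subgroup.closure S).Normal := by
  constructor
  intro m hm h
  induction hm using Subgroup.closure_induction with
  | mem y hy => exact Subgroup.subset_closure (hS h y hy)
  | one => simp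
  | mul a b _ _ iha ihb =>
    have : h * (a * b) * h⁻¹ = (h * a * h⁻¹) * (h * b * h⁻¹) := by group
    rw [this]
    exact Subgroup.mul_mem _ iha ihb
  | inv a _ iha =>
    have : h * a⁻¹ * h⁻¹ = (h * a * h⁻¹)⁻¹ := by group
    rw [this]
    exact Subgroup.inv_mem _ iha

theorem closure_AInv (α : MulAut G) (S : Set G) (hS : ∀ s ∈ S, α s ∈ S) :
    AInv α (Subgroup.closure S) := by
  intro m hm
  induction hm using Subgroup.closure_induction with
  | mem y hy => exact Subgroup.subset_closure (hS y hy)
  | one => rw [map_one]; exact Subgroup.one_mem _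
  | mul a b _ _ iha ihb => rw [map_mul]; exact Subgroup.mul_mem _ iha ihb
  | inv a _ iha => rw [map_inv]; exact Subgroup.inv_mem _ iha

/-- the nonabelian case -/
theorem card_minAN_nonabelian [Finite G] {α : MulAut G} (hα : Invo α) (hg : Gen α)
    (hZ : Subgroup.center G ⊓ Fx α = ⊥) {N : Subgroup G}
    (hN : MinAN α N) (hnab : ∃ a ∈ N, ∃ b ∈ N, a * b ≠ b * a) :
    Nat.card N ≤ (4 * N.index * (Nat.card (Fx α)) ^ 2).factorial := by
  obtain ⟨hNn, hNa, hNb, hNmin⟩ := hN
  set β := res α hα N hNa with hβ
  have hβi : Invo β := res_invo α hα N hNa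
  -- `β` is nontrivial
  have hne : ∃ n : N, β n ≠ n := by
    by_contra hcon
    push Not at hcon
    have h1 : ∀ n ∈ N, α n = n := by
      intro n hn
      have := congrArg (fun w : N => (w : G)) (hcon ⟨n, hn⟩)
      simpa [hβ, res_apply] using this
    have h2 := gen_le_center hg N h1
    apply hNb
    rw [eq_bot_iff, ← hZ]
    intro n hn
    exact ⟨h2 hn, h1 n hn⟩
  obtain ⟨x, hx1, hxc⟩ := bf_count hβi hne
  set c := Nat.card (Fx α) with hc
  have hc' : Nat.card (Fx β) ≤ c := card_Fx_res_le α hα N hNa
  -- the centralizer of `x` in `N`, as a subgroup of `G`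
  set C' : Subgroup G := (Subgroup.centralizer ({x} : Set N)).map N.subtype with hC'
  have hC'card : Nat.card C' = Nat.card (Subgroup.centralizer ({x} : Set N)) :=
    Subgroup.card_map_of_injective (Subgroup.subtype_injective N)
  have hC'comm : ∀ z ∈ C', z * (x : G) = (x : G) * z := by
    rintro _ ⟨z, hz, rfl⟩
    have hz' : z ∈ Subgroup.centralizer ({x} : Set N) := hz
    rw [Subgroup.mem_centralizer_iff] at hz'
    have := congrArg (fun w : N => (w : G)) (hz' x rfl)
    simpa using this.symm
  -- the conjugates of `x`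
  set S₁ : Set G := Set.range (fun g : G => g * (x : G) * g⁻¹) with hS₁
  have hS₁card : Nat.card S₁ ≤ C'.index := by
    apply card_range_le_index C'
    intro g z hz
    have := hC'comm z hz
    calc g * z * (x : G) * (g * z)⁻¹ = g * (z * (x : G)) * z⁻¹ * g⁻¹ := by group
      _ = g * ((x : G) * z) * z⁻¹ * g⁻¹ := by rw [this]
      _ = g * (x : G) * g⁻¹ := by group
  have hidx : C'.index ≤ 2 * N.index * c ^ 2 := by
    have h1 : C'.index * Nat.card C' = N.index * Nat.card N := by
      rw [Subgroup.index_mul_card, Subgroup.index_mul_card]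
    have h2 : Nat.card N ≤ 2 * c ^ 2 * Nat.card C' := by
      rw [hC'card]
      refine le_trans hxc ?_
      apply Nat.mul_le_mul_right
      apply Nat.mul_le_mul_left
      exact Nat.pow_le_pow_left hc' 2
    have h3 : 0 < Nat.card C' := Nat.card_pos
    have h4 : C'.index * Nat.card C' ≤ (2 * N.index * c ^ 2) * Nat.card C' := by
      rw [h1]
      calc N.index * Nat.card N ≤ N.index * (2 * c ^ 2 * Nat.card C') :=
            Nat.mul_le_mul_left _ h2
        _ = (2 * N.index * c ^ 2) * Nat.card C' := by ring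
    exact Nat.le_of_mul_le_mul_right h4 h3
  set S : Set G := S₁ ∪ (fun s => α s) '' S₁ with hS
  have hfinS₁ : Finite S₁ := Subtype.finite
  have hScard : Nat.card S ≤ 4 * N.index * c ^ 2 := by
    have h1 : Nat.card S ≤ Nat.card S₁ + Nat.card ((fun s => α s) '' S₁) := by
      rw [Nat.card_coe_set_eq, Nat.card_coe_set_eq, Nat.card_coe_set_eq]
      exact Set.ncard_union_le _ _
    have h2 : Nat.card ((fun s => α s) '' S₁) ≤ Nat.card S₁ := by
      rw [Nat.card_coe_set_eq, Nat.card_coe_set_eq]
      exact Set.ncard_image_le (Set.toFinite S₁)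
    calc Nat.card S ≤ Nat.card S₁ + Nat.card S₁ := by omega
      _ ≤ C'.index + C'.index := by omega
      _ ≤ 2 * N.index * c ^ 2 + 2 * N.index * c ^ 2 := by omega
      _ = 4 * N.index * c ^ 2 := by ring
  have hxS : (x : G) ∈ S := Or.inl ⟨1, by simp⟩
  have hSN : S ⊆ N := by
    rintro s (⟨g, rfl⟩ | ⟨_, ⟨g, rfl⟩, rfl⟩)
    · exact hNn.conj_mem _ x.2 g
    · exact hNa _ (hNn.conj_mem _ x.2 g)
  have hSconj : ∀ g : G, ∀ s ∈ S, g * s * g⁻¹ ∈ S := by
    rintro g s (⟨h, rfl⟩ | ⟨_, ⟨h, rfl⟩, rfl⟩)
    · left
      exact ⟨g * h, by simp only []; group⟩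
    · right
      refine ⟨α g * (h * (x : G) * h⁻¹) * (α g)⁻¹, ⟨α g * h, by simp only []; group⟩, ?_⟩
      simp only [map_mul, map_inv, hα g]
  have hSα : ∀ s ∈ S, α s ∈ S := by
    rintro s (⟨h, rfl⟩ | ⟨_, ⟨h, rfl⟩, rfl⟩)
    · right
      exact ⟨_, ⟨h, rfl⟩, rfl⟩
    · left
      rw [hα]
      exact ⟨h, rfl⟩
  have hcl : Subgroup.closure S = N := by
    rcases hNmin _ (closure_normal_of_conj S hSconj) (closure_AInv α S hSα)
      ((Subgroup.closure_le N).2 hSN) with h | h
    · exfalso
      have h5 : (x : G) ∈ Subgroup.closure S := Subgroup.subset_closure hxS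
      rw [h, Subgroup.mem_bot] at h5
      exact hx1 (Subtype.ext h5)
    · exact h
  -- the centre of `N` is trivial
  have hcen : Subgroup.center N = ⊥ := by
    have hn : ((Subgroup.center N).map N.subtype).Normal :=
      ConjAct.normal_of_characteristic_of_normal
    have ha := char_map_AInv α hα N hNa (Subgroup.center N)
    rcases hNmin _ hn ha (Subgroup.map_subtype_le _) with h | h
    · exact (Subgroup.map_eq_bot_iff_of_injective _ (Subgroup.subtype_injective _)).1 h
    · exfalso
      obtain ⟨a, ha', b, hb', hab⟩ := hnab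
      apply hab
      rw [← h] at ha'
      obtain ⟨a', ha'', rfl⟩ := ha'
      have := Subgroup.mem_center_iff.1 ha'' ⟨b, hb'⟩
      have := congrArg (fun z : N => (z : G)) this
      simpa using this.symm
  have hfinS : Finite S := Subtype.finite
  refine le_trans (card_le_factorial_of_conj N S (fun n _ s hs => hSconj n s hs) ?_)
    (Nat.factorial_le hScard)
  intro n hn hfix
  have h1 : (⟨n, hn⟩ : N) ∈ Subgroup.center N := by
    rw [Subgroup.mem_center_iff]
    intro z
    have hz : (z : G) ∈ Subgroup.closure S := by rw [hcl]; exact z.2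
    have h2 : (z : G) * n = n * (z : G) := by
      generalize (z : G) = w at hz
      induction hz using Subgroup.closure_induction with
      | mem y hy =>
        have := hfix y hy
        calc y * n = (n * y * n⁻¹) * n := by rw [this]
          _ = n * y := by group
      | one => simp
      | mul a b _ _ iha ihb =>
        calc a * b * n = a * (b * n) := by group
          _ = a * (n * b) := by rw [ihb]
          _ = (a * n) * b := by group
          _ = n * a * b := by rw [iha]
          _ = n * (a * b) := by group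
      | inv a _ iha =>
        calc a⁻¹ * n = a⁻¹ * (n * a) * a⁻¹ := by group
          _ = a⁻¹ * (a * n) * a⁻¹ := by rw [iha]
          _ = n * a⁻¹ := by group
    exact Subtype.ext h2
  rw [hcen, Subgroup.mem_bot] at h1
  exact congrArg Subtype.val h1

/-- the combined bound -/
theorem card_minAN_le [Finite G] {α : MulAut G} (hα : Invo α) (hg : Gen α)
    (hZ : Subgroup.center G ⊓ Fx α = ⊥) {N : Subgroup G} (hN : MinAN α N) :
    Nat.card N ≤ Nat.card (Fx α) * (Nat.card (JJ α) + Nat.card (Fx α)) +
      (4 * N.index * (Nat.card (Fx α)) ^ 2).factorial := by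
  by_cases hab : ∀ a ∈ N, ∀ b ∈ N, a * b = b * a
  · exact le_trans (card_minAN_abelian hα hN hab) (Nat.le_add_right _ _)
  · push Not at hab
    exact le_trans (card_minAN_nonabelian hα hg hZ hN hab) (Nat.le_add_left _ _)

end Cfsg.Agent.Lib.Lead.InvB
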