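import Mathlib
import Cfsg.Agent.Lib.Lead.InvB8

set_option autoImplicit false

/-!
# The `α`-hypercentral part of the centre
-/

namespace Cfsg.Agent.Lib.Lead.InvB

universe u

variable {G : Type u} [Group G]

theorem fixed_pow {α : MulAut G} {z : G} (h : α z = z) (n : ℕ) : α (z ^ n) = z ^ n := by
  rw [map_pow, h]

/-- the central elements `z` with `z ^ (2 ^ k)` fixed by `α` for some `k` -/
def WW (α : MulAut G) : Subgroup G where
  carrier := {z | z ∈ Subgroup.center G ∧ ∃ k : ℕ, α (z ^ (2 ^ k)) = z ^ (2 ^ k)}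
  one_mem' := ⟨Subgroup.one_mem _, 0, by simp⟩
  mul_mem' := by
    rintro a b ⟨ha, k, hk⟩ ⟨hb, l, hl⟩
    refine ⟨Subgroup.mul_mem _ ha hb, k + l, ?_⟩
    have hc : Commute a b := (Subgroup.mem_center_iff.1 ha b).symm
    have e1 : a ^ 2 ^ (k + l) = (a ^ 2 ^ k) ^ 2 ^ l := by rw [← pow_mul, pow_add]
    have e2 : b ^ 2 ^ (k + l) = (b ^ 2 ^ l) ^ 2 ^ k := by rw [← pow_mul, pow_add, mul_comm]
    rw [hc.mul_pow, map_mul, e1, e2, fixed_pow hk, fixed_pow hl]
  inv_mem' := by
    rintro a ⟨ha, k, hk⟩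
    refine ⟨Subgroup.inv_mem _ ha, k, ?_⟩
    rw [inv_pow, map_inv, hk]

theorem mem_WW {α : MulAut G} {z : G} :
    z ∈ WW α ↔ z ∈ Subgroup.center G ∧ ∃ k : ℕ, α (z ^ (2 ^ k)) = z ^ (2 ^ k) := Iff.rfl

theorem WW_le_center (α : MulAut G) : WW α ≤ Subgroup.center G := fun _ h => h.1

instance WW_normal (α : MulAut G) : (WW α).Normal := by
  constructor
  intro n hn g
  have : g * n * g⁻¹ = n := by
    have := Subgroup.mem_center_iff.1 hn.1 g
    calc g * n * g⁻¹ = (n * g) * g⁻¹ := by rw [this]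
      _ = n := by group
  rw [this]
  exact hn

theorem WW_AInv {α : MulAut G} (hα : Invo α) : AInv α (WW α) := by
  rintro z ⟨hz, k, hk⟩
  refine ⟨?_, k, ?_⟩
  · rw [Subgroup.mem_center_iff]
    intro g
    have := Subgroup.mem_center_iff.1 hz (α g)
    have := congrArg α this
    simpa [map_mul, hα g] using this
  · rw [← map_pow, hk, hk]

/-- odd-order elements of `WW α` are fixed -/
theorem fixed_of_mem_WW_of_odd [Finite G] {α : MulAut G} {z : G} (hz : z ∈ WW α)
    (hodd : Odd (orderOf z)) : α z = z := by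
  obtain ⟨_, k, hk⟩ := hz
  have hcop : Nat.Coprime (2 ^ k) (orderOf z) := by
    apply Nat.Coprime.pow_left
    rw [Nat.coprime_two_left]
    exact hodd
  obtain ⟨m, hm⟩ := exists_pow_eq_self_of_coprime hcop
  rw [← hm]
  exact fixed_pow hk m

theorem mem_commutator_iff (g : G) : g ∈ commutator G ↔ Abelianization.of g = 1 := by
  rw [← Abelianization.ker_of, MonoidHom.mem_ker]

/-- `α` inverts `G / G'` -/
theorem mul_mem_commutator [Finite G] {α : MulAut G} (hα : Invo α) (hg : Gen α) (g : G) :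
    α g * g ∈ commutator G := by
  have hJ := closure_JJ hα hg
  have hgm : g ∈ Subgroup.closure (JJ α) := by rw [hJ]; trivial
  rw [mem_commutator_iff]
  induction hgm using Subgroup.closure_induction with
  | mem y hy => rw [hy.2]; simp
  | one => simp
  | mul a b _ _ iha ihb =>
    rw [map_mul, map_mul, map_mul, map_mul, mul_mul_mul_comm, ← map_mul, ← map_mul, iha, ihb,
      one_mul]
  | inv a _ iha =>
    rw [map_inv, map_mul, map_inv, map_inv, ← mul_inv, inv_eq_one, ← map_mul, iha]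

/-- `G / G'` has odd order -/
theorem exists_odd_pow_mem_commutator [Finite G] {α : MulAut G} (hα : Invo α) (hg : Gen α)
    (g : G) : ∃ k : ℕ, Odd k ∧ g ^ k ∈ commutator G := by
  have hJ := closure_JJ hα hg
  have hgm : g ∈ Subgroup.closure (JJ α) := by rw [hJ]; trivial
  induction hgm using Subgroup.closure_induction with
  | mem y hy => exact ⟨orderOf y, hy.1, by rw [pow_orderOf_eq_one]; exact Subgroup.one_mem _⟩
  | one => exact ⟨1, odd_one, by simp⟩
  | mul a b _ _ iha ihb =>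
    obtain ⟨k, hk, hka⟩ := iha
    obtain ⟨l, hl, hlb⟩ := ihb
    refine ⟨k * l, hk.mul hl, ?_⟩
    rw [mem_commutator_iff] at hka hlb ⊢
    rw [map_pow] at hka hlb
    rw [map_pow, map_mul, mul_pow, pow_mul, hka, one_pow, one_mul, mul_comm k l, pow_mul, hlb,
      one_pow]
  | inv a _ iha =>
    obtain ⟨k, hk, hka⟩ := iha
    exact ⟨k, hk, by rw [inv_pow]; exact Subgroup.inv_mem _ hka⟩

theorem WW_le_commutator [Finite G] {α : MulAut G} (hα : Invo α) (hg : Gen α) :
    WW α ≤ commutator G := by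
  rintro z ⟨_, k, hk⟩
  -- `w = z ^ (2 ^ k)` is fixed, so `w ^ 2 ∈ G'` and `w ^ odd ∈ G'`
  set w := z ^ 2 ^ k with hw
  have h1 := mul_mem_commutator hα hg w
  rw [hk, ← pow_two] at h1
  obtain ⟨j, hj, hjw⟩ := exists_odd_pow_mem_commutator hα hg w
  obtain ⟨j', hj', hjz⟩ := exists_odd_pow_mem_commutator hα hg z
  rw [mem_commutator_iff] at h1 hjw hjz ⊢
  rw [map_pow] at h1 hjw hjz
  have hw1 : Abelianization.of w = 1 := by
    have d1 := orderOf_dvd_of_pow_eq_one h1
    have d2 := orderOf_dvd_of_pow_eq_one hjw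
    have d3 := Nat.dvd_gcd d1 d2
    have : Nat.gcd 2 j = 1 := by
      have : Nat.Coprime 2 j := Nat.coprime_two_left.2 hj
      exact this
    rw [this, Nat.dvd_one, orderOf_eq_one_iff] at d3
    exact d3
  rw [hw, map_pow] at hw1
  have d1 := orderOf_dvd_of_pow_eq_one hw1
  have d2 := orderOf_dvd_of_pow_eq_one hjz
  have d3 := Nat.dvd_gcd d1 d2
  have : Nat.gcd (2 ^ k) j' = 1 := by
    have : Nat.Coprime (2 ^ k) j' := Nat.Coprime.pow_left _ (Nat.coprime_two_left.2 hj')
    exact this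
  rw [this, Nat.dvd_one, orderOf_eq_one_iff] at d3
  exact d3

end Cfsg.Agent.Lib.Lead.InvB
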