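import Mathlib
import Cfsg.Agent.Lib.Lead.InvB9

set_option autoImplicit false

/-!
# The quotient by `WW α` has no central fixed points, and `|G|` is bounded by `|G / WW α|`
-/

namespace Cfsg.Agent.Lib.Lead.InvB

universe u

variable {G : Type u} [Group G]

theorem center_quot_WW [Finite G] {α : MulAut G} (hα : Invo α) (hg : Gen α) :
    Subgroup.center (G ⧸ WW α) ⊓ Fx (qa α hα (WW α) (WW_AInv hα)) = ⊥ := by
  rw [eq_bot_iff]
  rintro X ⟨hXc, hXf⟩
  obtain ⟨u, rfl⟩ := QuotientGroup.mk_surjective X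
  rw [Subgroup.mem_bot, QuotientGroup.eq_one_iff]
  -- the hypotheses on `u`
  have hφW : ∀ g : G, u⁻¹ * g⁻¹ * u * g ∈ WW α := by
    intro g
    have h1 := Subgroup.mem_center_iff.1 hXc (g : G ⧸ WW α)
    rw [← QuotientGroup.mk_mul, ← QuotientGroup.mk_mul, QuotientGroup.eq] at h1
    have : u⁻¹ * g⁻¹ * u * g = (g * u)⁻¹ * (u * g) := by group
    rw [this]
    exact h1
  have hw₀ : u⁻¹ * α u ∈ WW α := by
    have h1 : qa α hα (WW α) (WW_AInv hα) (u : G ⧸ WW α) = (u : G ⧸ WW α) := hXf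
    rw [qa_mk, QuotientGroup.eq] at h1
    have : u⁻¹ * α u = ((α u)⁻¹ * u)⁻¹ := by group
    rw [this]
    exact Subgroup.inv_mem _ h1
  set w₀ := u⁻¹ * α u with hw₀def
  have hαu : α u = u * w₀ := by rw [hw₀def]; group
  have hcen : ∀ z ∈ WW α, ∀ g : G, g * z = z * g := fun z hz g =>
    Subgroup.mem_center_iff.1 hz.1 g
  set φ : G → G := fun g => u⁻¹ * g⁻¹ * u * g with hφ
  have hφ1 : φ 1 = 1 := by simp [hφ]
  have hφmul : ∀ g h : G, φ (g * h) = φ h * φ g := by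
    intro g h
    have hc := hcen _ (hφW g) h
    calc φ (g * h) = u⁻¹ * h⁻¹ * u * (u⁻¹ * g⁻¹ * u * g) * h := by simp only [hφ]; group
      _ = u⁻¹ * h⁻¹ * u * (h * (u⁻¹ * g⁻¹ * u * g)) := by rw [mul_assoc, ← hc]
      _ = φ h * φ g := by simp only [hφ]; group
  have hφinv : ∀ g : G, φ g⁻¹ = (φ g)⁻¹ := by
    intro g
    have := hφmul g g⁻¹
    rw [mul_inv_cancel, hφ1] at this
    exact eq_inv_of_mul_eq_one_left this.symm
  have hφpow : ∀ (g : G) (k : ℕ), φ (g ^ k) = (φ g) ^ k := by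
    intro g k
    induction k with
    | zero => simp [hφ1]
    | succ k ih => rw [pow_succ, hφmul, ih, pow_succ']
  have hφcomm : ∀ g h : G, Commute (φ g) (φ h) := fun g h => (hcen _ (hφW h) (φ g))
  have hJ := closure_JJ hα hg
  have hodd : ∀ g : G, Odd (orderOf (φ g)) := by
    intro g
    have hgm : g ∈ Subgroup.closure (JJ α) := by rw [hJ]; trivial
    induction hgm using Subgroup.closure_induction with
    | mem y hy =>
      have : (φ y) ^ orderOf y = 1 := by rw [← hφpow, pow_orderOf_eq_one, hφ1]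
      exact hy.1.of_dvd_nat (orderOf_dvd_of_pow_eq_one this)
    | one => rw [hφ1, orderOf_one]; exact odd_one
    | mul a b _ _ iha ihb =>
      rw [hφmul]
      have : (φ b * φ a) ^ (orderOf (φ b) * orderOf (φ a)) = 1 := by
        rw [(hφcomm b a).mul_pow, pow_mul, pow_orderOf_eq_one, one_pow, one_mul, mul_comm,
          pow_mul, pow_orderOf_eq_one, one_pow]
      exact (ihb.mul iha).of_dvd_nat (orderOf_dvd_of_pow_eq_one this)
    | inv a _ iha => rw [hφinv, orderOf_inv]; exact iha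
  have hφfix : ∀ g : G, α (φ g) = φ g := fun g => fixed_of_mem_WW_of_odd (hφW g) (hodd g)
  have hαφ : ∀ g : G, α (φ g) = φ (α g) := by
    intro g
    simp only [hφ, map_mul, map_inv, hαu]
    have hc := hcen _ hw₀ ((α g)⁻¹ * u)
    calc (u * w₀)⁻¹ * (α g)⁻¹ * (u * w₀) * α g = w₀⁻¹ * u⁻¹ * (((α g)⁻¹ * u) * w₀) * α g := by group
      _ = w₀⁻¹ * u⁻¹ * (w₀ * ((α g)⁻¹ * u)) * α g := by rw [hc]
      _ = w₀⁻¹ * (u⁻¹ * w₀) * (α g)⁻¹ * u * α g := by group
      _ = w₀⁻¹ * (w₀ * u⁻¹) * (α g)⁻¹ * u * α g := by rw [hcen _ hw₀ u⁻¹]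
      _ = u⁻¹ * (α g)⁻¹ * u * α g := by group
  have hφph : ∀ c : G, φ (ph α c) = 1 := by
    intro c
    unfold ph
    rw [hφmul, hφinv, ← hαφ, hφfix, inv_mul_cancel]
  have hφall : ∀ g : G, φ g = 1 := by
    intro g
    have hgm : g ∈ Subgroup.closure (Set.range (ph α)) := by rw [hg]; trivial
    induction hgm using Subgroup.closure_induction with
    | mem y hy =>
      obtain ⟨c, rfl⟩ := hy
      exact hφph c
    | one => exact hφ1
    | mul a b _ _ iha ihb => rw [hφmul, iha, ihb, one_mul]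
    | inv a _ iha => rw [hφinv, iha, inv_one]
  have hucen : u ∈ Subgroup.center G := by
    rw [Subgroup.mem_center_iff]
    intro g
    have := hφall g
    simp only [hφ] at this
    calc g * u = g * u * (u⁻¹ * g⁻¹ * u * g) := by rw [this, mul_one]
      _ = u * g := by group
  -- now `u` is central and `u⁻¹ α(u) ∈ WW α`
  obtain ⟨_, k, hk⟩ := hw₀
  set v := u ^ 2 ^ k with hv
  set w₁ := w₀ ^ 2 ^ k with hw₁
  have hcuw : Commute u w₀ := (Subgroup.mem_center_iff.1 hucen w₀).symm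
  have hαv : α v = v * w₁ := by rw [hv, map_pow, hαu, hcuw.mul_pow]
  have hw₁sq : w₁ * w₁ = 1 := by
    have := hα v
    rw [hαv, map_mul, hαv, hk] at this
    calc w₁ * w₁ = v⁻¹ * (v * w₁ * w₁) := by group
      _ = 1 := by rw [this, inv_mul_cancel]
  have hcvw : Commute v w₁ := (hcuw.pow_left _).pow_right _
  refine ⟨hucen, k + 1, ?_⟩
  have e1 : u ^ 2 ^ (k + 1) = v * v := by rw [hv, pow_succ, pow_mul, pow_two]
  rw [e1, map_mul, hαv]
  calc v * w₁ * (v * w₁) = v * (w₁ * v) * w₁ := by group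
    _ = v * (v * w₁) * w₁ := by rw [hcvw.eq]
    _ = v * v * (w₁ * w₁) := by group
    _ = v * v := by rw [hw₁sq, mul_one]

theorem card_commutatorSet_le [Finite G] :
    Nat.card (commutatorSet G) ≤ (Subgroup.center G).index ^ 2 := by
  have h1 : commutatorSet G = Set.range (fun p : G × G => p.1 * p.2 * p.1⁻¹ * p.2⁻¹) := by
    ext g
    simp only [commutatorSet, Set.mem_ofPred_eq, Set.mem_range, Prod.exists, commutatorElement_def]
  rw [h1, pow_two, ← Subgroup.index_prod]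
  apply card_range_le_index
  rintro ⟨a, b⟩ ⟨c, d⟩ ⟨hc, hd⟩
  simp only [Subgroup.coe_toSubmonoid, SetLike.mem_coe] at hc hd
  have h2 := Subgroup.mem_center_iff.1 hc
  have h3 := Subgroup.mem_center_iff.1 hd
  change a * c * (b * d) * (a * c)⁻¹ * (b * d)⁻¹ = a * b * a⁻¹ * b⁻¹
  calc a * c * (b * d) * (a * c)⁻¹ * (b * d)⁻¹
      = a * (c * b) * d * c⁻¹ * a⁻¹ * d⁻¹ * b⁻¹ := by group
    _ = a * (b * c) * d * c⁻¹ * a⁻¹ * d⁻¹ * b⁻¹ := by rw [h2 b]
    _ = a * b * (c * d) * c⁻¹ * a⁻¹ * d⁻¹ * b⁻¹ := by group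
    _ = a * b * (d * c) * c⁻¹ * a⁻¹ * d⁻¹ * b⁻¹ := by rw [h2 d]
    _ = a * b * (d * a⁻¹) * d⁻¹ * b⁻¹ := by group
    _ = a * b * (a⁻¹ * d) * d⁻¹ * b⁻¹ := by rw [h3 a⁻¹]
    _ = a * b * a⁻¹ * b⁻¹ := by group

theorem card_le_of_quot_WW [Finite G] {α : MulAut G} (hα : Invo α) (hg : Gen α) (b₁ : ℕ)
    (h : Nat.card (G ⧸ WW α) ≤ b₁) : Nat.card G ≤ b₁ * b₁ ^ (b₁ * b₁ ^ 2 + 1) := by
  have h1 : (Subgroup.center G).index ≤ b₁ :=
    le_trans (Subgroup.index_antitone (WW_le_center α)) h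
  have hpos : 0 < (Subgroup.center G).index := Nat.pos_of_ne_zero Subgroup.FiniteIndex.index_ne_zero
  have h2 := Subgroup.card_commutator_dvd_index_center_pow G
  have h3 : Nat.card (commutator G) ≤ b₁ ^ (b₁ * b₁ ^ 2 + 1) := by
    refine le_trans (Nat.le_of_dvd (pow_pos hpos _) h2) ?_
    refine le_trans (Nat.pow_le_pow_left h1 _) ?_
    apply Nat.pow_le_pow_right (lt_of_lt_of_le hpos h1)
    have h4 := card_commutatorSet_le (G := G)
    have h5 : (Subgroup.center G).index ^ 2 ≤ b₁ ^ 2 := Nat.pow_le_pow_left h1 2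
    have : (Subgroup.center G).index * Nat.card (commutatorSet G) ≤ b₁ * b₁ ^ 2 :=
      Nat.mul_le_mul h1 (le_trans h4 h5)
    omega
  have h4 : Nat.card (WW α) ≤ Nat.card (commutator G) :=
    Subgroup.card_le_of_le (WW_le_commutator hα hg)
  rw [← Subgroup.index_mul_card (WW α)]
  exact Nat.mul_le_mul h (le_trans h4 h3)

end Cfsg.Agent.Lib.Lead.InvB
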