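import Mathlib
import Cfsg.Agent.Lib.Lead.InvB10

set_option autoImplicit false

/-!
# The bound: `|G|` is bounded in terms of the number of odd-order elements inverted by `α`
-/

namespace Cfsg.Agent.Lib.Lead.InvB

universe u

/-- every `(G, α)` with at most `m` inverted elements of odd order has `|G| ≤ b` -/
def Bounded (m b : ℕ) : Prop :=
  ∀ (G : Type u) [Group G] [Finite G] (α : MulAut G), Invo α → Gen α → Nat.card (JJ α) ≤ m →
    Nat.card G ≤ b

theorem card_JJ_pos {G : Type u} [Group G] [Finite G] (α : MulAut G) : 0 < Nat.card (JJ α) := by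
  have : Finite (JJ α) := Subtype.finite
  have : Nonempty (JJ α) := ⟨⟨1, one_mem_JJ α⟩⟩
  exact Nat.card_pos

theorem bounded_zero : Bounded.{u} 0 0 := by
  intro G _ _ α _ _ h
  have := card_JJ_pos α
  omega

/-- the bound for groups without central fixed points -/
def qBound (m b : ℕ) : ℕ :=
  (b + 1) * ((m + 1).factorial * ((m + 1) + (m + 1).factorial) +
    (4 * b * ((m + 1).factorial) ^ 2).factorial)

theorem step_Q (m b : ℕ) (hb : Bounded.{u} m b) (G : Type u) [Group G] [Finite G]
    (α : MulAut G) (hα : Invo α) (hg : Gen α) (hZ : Subgroup.center G ⊓ Fx α = ⊥)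
    (hm : Nat.card (JJ α) ≤ m + 1) : Nat.card G ≤ qBound m b := by
  unfold qBound
  by_cases hsub : Subsingleton G
  · rw [Nat.card_unique]
    have h1 : 1 ≤ b + 1 := by omega
    have h2 : 1 ≤ (m + 1).factorial * ((m + 1) + (m + 1).factorial) +
        (4 * b * ((m + 1).factorial) ^ 2).factorial := by
      have := Nat.factorial_pos (4 * b * ((m + 1).factorial) ^ 2)
      omega
    calc 1 = 1 * 1 := by norm_num
      _ ≤ _ := Nat.mul_le_mul h1 h2
  · have hnt : Nontrivial G := not_subsingleton_iff_nontrivial.1 hsub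
    obtain ⟨N, hN⟩ := exists_MinAN α
    obtain ⟨x, hx, y, hy, hxy, hmem⟩ := exists_pair hα hg hZ hN
    have hNn : N.Normal := hN.1
    have hlt := card_JJ_quot_lt α hα N hN.2.1 hx hy hxy hmem
    have hq : Nat.card (G ⧸ N) ≤ b :=
      hb (G ⧸ N) (qa α hα N hN.2.1) (qa_invo α hα N hN.2.1) (qa_gen α hα N hN.2.1 hg) (by omega)
    have hidx : N.index ≤ b := by rw [Subgroup.index_eq_card]; exact hq
    have hc : Nat.card (Fx α) ≤ (m + 1).factorial :=
      le_trans (card_Fx_le (closure_JJ hα hg) hZ) (Nat.factorial_le hm)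
    have hN' := card_minAN_le hα hg hZ hN
    have h1 : Nat.card N ≤ (m + 1).factorial * ((m + 1) + (m + 1).factorial) +
        (4 * b * ((m + 1).factorial) ^ 2).factorial := by
      refine le_trans hN' ?_
      apply Nat.add_le_add
      · exact Nat.mul_le_mul hc (Nat.add_le_add hm hc)
      · apply Nat.factorial_le
        exact Nat.mul_le_mul (Nat.mul_le_mul_left _ hidx) (Nat.pow_le_pow_left hc 2)
    rw [← Subgroup.index_mul_card N]
    exact Nat.mul_le_mul (by omega) h1

/-- the bound in general -/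
def rBound (m b : ℕ) : ℕ :=
  qBound m b * (qBound m b) ^ (qBound m b * (qBound m b) ^ 2 + 1)

theorem step (m b : ℕ) (hb : Bounded.{u} m b) : Bounded.{u} (m + 1) (rBound m b) := by
  intro G _ _ α hα hg hm
  have h1 := card_JJ_quot_le α hα (WW α) (WW_AInv hα)
  have h2 := step_Q m b hb (G ⧸ WW α) (qa α hα (WW α) (WW_AInv hα)) (qa_invo _ _ _ _)
    (qa_gen _ _ _ _ hg) (center_quot_WW hα hg) (le_trans h1 hm)
  exact card_le_of_quot_WW hα hg _ h2

theorem exists_bound (m : ℕ) : ∃ b : ℕ, Bounded.{u} m b := by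
  induction m with
  | zero => exact ⟨0, bounded_zero⟩
  | succ m ih =>
    obtain ⟨b, hb⟩ := ih
    exact ⟨_, step m b hb⟩

end Cfsg.Agent.Lib.Lead.InvB
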