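import Mathlib
import Cfsg.Agent.Lib.Lead.OmegaCentral
import Cfsg.Agent.Lib.Helper3.Components9

set_option autoImplicit false

/-! General lemmas for the rank-two isolated-element statement. -/

namespace Cfsg.Agent.Lib.Lead.IsoRank

open Cfsg Subgroup

section
variable {G : Type*} [Group G]

/-- the join of two elementwise commuting abelian subgroups of exponent `p` -/
theorem sup_comm_exp {p : ℕ} {H K : Subgroup G}
    (hH : ∀ a ∈ H, ∀ b ∈ H, a * b = b * a) (hK : ∀ a ∈ K, ∀ b ∈ K, a * b = b * a)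
    (hHK : ∀ a ∈ H, ∀ b ∈ K, a * b = b * a)
    (hHp : ∀ a ∈ H, a ^ p = 1) (hKp : ∀ a ∈ K, a ^ p = 1) :
    (∀ a ∈ H ⊔ K, ∀ b ∈ H ⊔ K, a * b = b * a) ∧ ∀ a ∈ H ⊔ K, a ^ p = 1 := by
  have hc : ⁅H, K⁆ = ⊥ := by
    rw [Subgroup.commutator_eq_bot_iff_le_centralizer]
    intro a ha
    rw [Subgroup.mem_centralizer_iff]
    intro b hb
    exact (hHK a ha b hb).symm
  constructor
  · intro a ha b hb
    obtain ⟨h1, hh1, k1, hk1, rfl⟩ :=
      Cfsg.Agent.Lib.Helper3.exists_mul_of_mem_sup_of_commutator_eq_bot hc ha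
    obtain ⟨h2, hh2, k2, hk2, rfl⟩ :=
      Cfsg.Agent.Lib.Helper3.exists_mul_of_mem_sup_of_commutator_eq_bot hc hb
    calc h1 * k1 * (h2 * k2) = h1 * (k1 * h2) * k2 := by group
      _ = h1 * (h2 * k1) * k2 := by rw [hHK h2 hh2 k1 hk1]
      _ = (h1 * h2) * (k1 * k2) := by group
      _ = (h2 * h1) * (k2 * k1) := by rw [hH h1 hh1 h2 hh2, hK k1 hk1 k2 hk2]
      _ = h2 * (h1 * k2) * k1 := by group
      _ = h2 * (k2 * h1) * k1 := by rw [hHK h1 hh1 k2 hk2]
      _ = h2 * k2 * (h1 * k1) := by group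
  · intro a ha
    obtain ⟨h1, hh1, k1, hk1, rfl⟩ :=
      Cfsg.Agent.Lib.Helper3.exists_mul_of_mem_sup_of_commutator_eq_bot hc ha
    have hcomm : Commute h1 k1 := hHK h1 hh1 k1 hk1
    rw [hcomm.mul_pow, hHp h1 hh1, hKp k1 hk1, one_mul]

/-- packaging as `IsMulCommutative` -/
theorem isMulCommutative_of_forall {A : Subgroup G} (h : ∀ a ∈ A, ∀ b ∈ A, a * b = b * a) :
    IsMulCommutative A :=
  ⟨⟨fun a b => Subtype.ext (h a.1 a.2 b.1 b.2)⟩⟩

theorem zpowers_comm (x : G) : ∀ a ∈ zpowers x, ∀ b ∈ zpowers x, a * b = b * a := by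
  intro a ha b hb
  obtain ⟨i, rfl⟩ := Subgroup.mem_zpowers_iff.mp ha
  obtain ⟨j, rfl⟩ := Subgroup.mem_zpowers_iff.mp hb
  rw [← zpow_add, ← zpow_add, add_comm]

theorem zpowers_exp {p : ℕ} {x : G} (hx : x ^ p = 1) : ∀ a ∈ zpowers x, a ^ p = 1 := by
  intro a ha
  obtain ⟨i, rfl⟩ := Subgroup.mem_zpowers_iff.mp ha
  rw [← zpow_natCast, ← zpow_mul, mul_comm, zpow_mul, zpow_natCast, hx, one_zpow]

end

section
variable {G : Type*} [Group G] [Finite G] {p : ℕ} [hp : Fact p.Prime]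

/-- a group of exponent `p` is a `p`-group -/
theorem isPGroup_of_exp {A : Subgroup G} (h : ∀ a ∈ A, a ^ p = 1) : IsPGroup p A := by
  intro a
  refine ⟨1, ?_⟩
  rw [pow_one]
  exact Subtype.ext (by simpa using h a.1 a.2)

/-- a `p`-group properly containing a subgroup of order `p` has order at least `p²` -/
theorem sq_le_card_of_lt {H K : Subgroup G} (hHK : H < K) (hH : Nat.card H = p)
    (hK : IsPGroup p K) : p ^ 2 ≤ Nat.card K := by
  obtain ⟨k, hk⟩ := IsPGroup.iff_card.mp hK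
  have h1 : Nat.card H < Nat.card K := by
    by_contra hle
    push Not at hle
    exact hHK.ne (Subgroup.eq_of_le_of_card_ge hHK.le hle)
  rw [hH, hk] at h1
  rw [hk]
  apply Nat.pow_le_pow_right hp.out.pos
  by_contra hlt
  have hk1 : k ≤ 1 := by omega
  have : p ^ k ≤ p ^ 1 := Nat.pow_le_pow_right hp.out.pos hk1
  rw [pow_one] at this
  omega

/-- **Normal `p`-complement criterion** (odd `p`): if every element of order dividing `p` of a Sylow
`p`-subgroup `T` is weakly closed in `T`, then `G` has a normal `p`-complement. -/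
theorem hasNormalPComplement_of_weaklyClosed (hp2 : p ≠ 2) (T : Sylow p G)
    (h : ∀ y ∈ (T : Subgroup G), y ^ p = 1 → ∀ n : G, n * y * n⁻¹ ∈ (T : Subgroup G) →
      n * y * n⁻¹ = y) :
    Cfsg.HasNormalPComplement p G := by
  rw [hasNormalPComplement_iff_plocalCentral]
  intro D hD g hg hcop
  obtain ⟨P', hP'⟩ := hD.exists_le_sylow
  obtain ⟨c, hc⟩ := MulAction.exists_smul_eq G T P'
  have hmem : ∀ w : G, w ∈ (P' : Subgroup G) → c⁻¹ * w * c ∈ (T : Subgroup G) := by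
    intro w hw
    rw [← hc, Sylow.coe_subgroup_smul, Subgroup.mem_pointwise_smul_iff_inv_smul_mem,
      MulAut.smul_def, MulAut.conj_inv_apply] at hw
    exact hw
  have hfix : ∀ x ∈ D, x ^ p = 1 → g * x = x * g := by
    intro x hx hxp
    have h1 : c⁻¹ * x * c ∈ (T : Subgroup G) := hmem x (hP' hx)
    have h2 : (c⁻¹ * x * c) ^ p = 1 := by
      have : c⁻¹ * x * c = c⁻¹ * x * c⁻¹⁻¹ := by rw [inv_inv]
      rw [this, conj_pow, hxp, mul_one, mul_inv_cancel]
    have hgx : g * x * g⁻¹ ∈ D := (Subgroup.mem_normalizer_iff.mp hg x).mp hx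
    have h3 : c⁻¹ * (g * x * g⁻¹) * c ∈ (T : Subgroup G) := hmem _ (hP' hgx)
    have h4 := h (c⁻¹ * x * c) h1 h2 (c⁻¹ * g * c) (by
      have e : c⁻¹ * g * c * (c⁻¹ * x * c) * (c⁻¹ * g * c)⁻¹ = c⁻¹ * (g * x * g⁻¹) * c := by group
      rw [e]; exact h3)
    have e : c⁻¹ * g * c * (c⁻¹ * x * c) * (c⁻¹ * g * c)⁻¹ = c⁻¹ * (g * x * g⁻¹) * c := by group
    rw [e] at h4
    have h5 : g * x * g⁻¹ = x := by
      have : c * (c⁻¹ * (g * x * g⁻¹) * c) * c⁻¹ = c * (c⁻¹ * x * c) * c⁻¹ := by rw [h4]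
      simpa [mul_assoc] using this
    calc g * x = g * x * g⁻¹ * g := by group
      _ = x * g := by rw [h5]
  have hA : Subgroup.zpowers g ≤ Subgroup.centralizer (D : Set G) := by
    apply Helper4.coprime_centralizes_of_omega_one hp2 (Subgroup.zpowers g) D
      (by rw [Nat.card_zpowers]; exact hcop) hD ((Subgroup.zpowers_le).mpr hg)
    intro x hx hxp a ha
    obtain ⟨i, rfl⟩ := Subgroup.mem_zpowers_iff.mp ha
    have hcm : Commute g x := hfix x hx hxp
    exact (hcm.zpow_left i)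
  exact hA (Subgroup.mem_zpowers g)

end

end Cfsg.Agent.Lib.Lead.IsoRank
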