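import Mathlib
import Cfsg.Agent.Lib.Lead.IsoRankA
import Cfsg.Agent.Lib.Helper3.Components12
import Cfsg.Agent.Lib.Helper3.PComp1
import Cfsg.Agent.Lib.Helper4.LBal1
import Cfsg.Agent.Lib.Helper6.RankOneCyc
import Cfsg.Agent.S2969
import Cfsg.Agent.S2970

set_option autoImplicit false

/-! Isolated elements of order `p` in groups of `p`-rank at most two: `F*(G)` is simple. -/

namespace Cfsg.Agent.Lib.Lead.IsoRank

open Cfsg Subgroup Cfsg.Agent.Lib.Helper3

section
variable {G : Type*} [Group G] [Finite G] {p : ℕ} [hp : Fact p.Prime]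

/-- subnormal `p'`-subgroups are trivial when `O_{p'}(G) = 1` -/
theorem eq_bot_of_subnormal_coprime (hcore : pPrimeCore p G = ⊥) {S : Subgroup G}
    (hS : S.IsSubnormal) (hc : (Nat.card S).Coprime p) : S = ⊥ := by
  have := le_pPrimeCore_of_isSubnormal hS hc
  rwa [hcore, le_bot_iff] at this

theorem dvd_card_of_subnormal_ne_bot (hcore : pPrimeCore p G = ⊥) {S : Subgroup G}
    (hS : S.IsSubnormal) (hne : S ≠ ⊥) : p ∣ Nat.card S := by
  by_contra h
  exact hne (eq_bot_of_subnormal_coprime hcore hS
    ((Nat.Prime.coprime_iff_not_dvd hp.out).mpr h).symm)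

/-- the decomposition `F*(G) = L · C_{F*(G)}(L)` for a component `L` -/
theorem fstar_eq_sup {L : Subgroup G} (hL : IsComponent L) :
    generalizedFittingSubgroup G =
      L ⊔ (generalizedFittingSubgroup G ⊓ centralizer (L : Set G)) := by
  have hLF : L ≤ generalizedFittingSubgroup G :=
    (IsComponent.le_layer hL).trans layer_le_generalizedFittingSubgroup
  apply le_antisymm
  · show layer G ⊔ fittingSubgroup G ≤ _
    apply sup_le
    · rw [layer_le_iff]
      intro K hK
      by_cases hKL : K = L
      · rw [hKL]; exact le_sup_left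
      · have h1 := IsComponent.commutator_eq_bot_of_ne hL hK (Ne.symm hKL)
        rw [Subgroup.commutator_comm, Subgroup.commutator_eq_bot_iff_le_centralizer] at h1
        exact (le_inf ((IsComponent.le_layer hK).trans layer_le_generalizedFittingSubgroup) h1).trans
          le_sup_right
    · have h1 := IsComponent.commutator_fittingSubgroup hL
      rw [Subgroup.commutator_comm, Subgroup.commutator_eq_bot_iff_le_centralizer] at h1
      exact (le_inf fittingSubgroup_le_generalizedFittingSubgroup h1).trans le_sup_right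
  · exact sup_le hLF inf_le_left

/-- `C_{F*(G)}(L)` is subnormal -/
theorem isSubnormal_inf_centralizer {L : Subgroup G} (hL : IsComponent L) :
    (generalizedFittingSubgroup G ⊓ centralizer (L : Set G)).IsSubnormal := by
  have hFn : (generalizedFittingSubgroup G).Normal := inferInstance
  refine IsSubnormal.step _ (generalizedFittingSubgroup G) inf_le_left hFn.isSubnormal ?_
  rw [Subgroup.normal_subgroupOf_iff_le_normalizer inf_le_left]
  -- `F*` normalizes `L`, hence `C(L)`
  have hFL : generalizedFittingSubgroup G ≤ normalizer (L : Set G) := by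
    show layer G ⊔ fittingSubgroup G ≤ _
    apply sup_le (IsComponent.layer_le_normalizer hL)
    have h1 := IsComponent.commutator_fittingSubgroup hL
    rw [Subgroup.commutator_comm, Subgroup.commutator_eq_bot_iff_le_centralizer] at h1
    exact h1.trans (Subgroup.centralizer_le_normalizer _)
  intro f hf
  rw [Subgroup.mem_normalizer_iff]
  intro u
  have key : ∀ f ∈ generalizedFittingSubgroup G, ∀ u,
      u ∈ generalizedFittingSubgroup G ⊓ centralizer (L : Set G) →
      f * u * f⁻¹ ∈ generalizedFittingSubgroup G ⊓ centralizer (L : Set G) := by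
    intro f hf u hu
    refine Subgroup.mem_inf.mpr ⟨hFn.conj_mem u (Subgroup.mem_inf.mp hu).1 f, ?_⟩
    rw [Subgroup.mem_centralizer_iff]
    intro l hl
    have hl' : f⁻¹ * l * f ∈ L := by
      have := (Subgroup.mem_normalizer_iff.mp (hFL (Subgroup.inv_mem _ hf)) l).mp hl
      simpa using this
    have hc := (Subgroup.mem_centralizer_iff.mp (Subgroup.mem_inf.mp hu).2) _ hl'
    calc l * (f * u * f⁻¹) = f * ((f⁻¹ * l * f) * u) * f⁻¹ := by group
      _ = f * (u * (f⁻¹ * l * f)) * f⁻¹ := by rw [hc]
      _ = f * u * f⁻¹ * l := by group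
  constructor
  · intro hu; exact key f hf u hu
  · intro hu
    have := key f⁻¹ (Subgroup.inv_mem _ hf) _ hu
    have e : f⁻¹ * (f * u * f⁻¹) * f⁻¹⁻¹ = u := by group
    rwa [e] at this

/-- the end of the proof: if `C_{F*(G)}(L) = 1` then `F*(G) = L` is simple -/
theorem simple_of_inf_centralizer_eq_bot {L : Subgroup G} (hL : IsComponent L)
    (hU : generalizedFittingSubgroup G ⊓ centralizer (L : Set G) = ⊥) :
    IsSimpleGroup ↥(generalizedFittingSubgroup G) ∧
      ¬ IsMulCommutative ↥(generalizedFittingSubgroup G) := by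
  have hFL : generalizedFittingSubgroup G = L := by
    have := fstar_eq_sup hL
    rw [hU, sup_bot_eq] at this
    exact this
  have hLF : L ≤ generalizedFittingSubgroup G := hFL.ge
  have main : ∀ F' : Subgroup G, L = F' → IsSimpleGroup ↥F' ∧ ¬ IsMulCommutative ↥F' := by
    rintro _ rfl
    have hcz : Subgroup.center ↥L = ⊥ := by
      rw [eq_bot_iff]
      intro c hc
      rw [Subgroup.mem_bot]
      have h1 : (c : G) ∈ generalizedFittingSubgroup G ⊓ centralizer (L : Set G) := by
        refine Subgroup.mem_inf.mpr ⟨hLF c.2, ?_⟩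
        rw [Subgroup.mem_centralizer_iff]
        intro l hl
        have := Subgroup.mem_center_iff.mp hc ⟨l, hl⟩
        exact congrArg Subtype.val this
      rw [hU, Subgroup.mem_bot] at h1
      exact Subtype.ext h1
    constructor
    · haveI : IsSimpleGroup (↥L ⧸ Subgroup.center ↥L) := hL.2.2
      exact MulEquiv.isSimpleGroup
        ((QuotientGroup.quotientBot).symm.trans (QuotientGroup.quotientMulEquivOfEq hcz.symm))
    · exact IsQuasisimple.not_isMulCommutative hL.2
  exact main _ hFL.symm

end

end Cfsg.Agent.Lib.Lead.IsoRank
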