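import Mathlib
import Cfsg.Agent.Lib.Lead.IsoRankB
import Cfsg.Agent.Lib.Helper6.SubnCl

set_option autoImplicit false

/-! Isolated elements of order `p` in groups of `p`-rank at most two: the two cases. -/

namespace Cfsg.Agent.Lib.Lead.IsoRank

open Cfsg Subgroup Cfsg.Agent.Lib.Helper3

section
variable {G : Type*} [Group G] [Finite G] {p : ℕ} [hp : Fact p.Prime]

/-- an isolated element of order `p` is central in every `p`-subgroup containing it -/
theorem comm_of_mem_pgroup {x : G} (hx : orderOf x = p) (hiso : IsIsolated x) {R : Subgroup G}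
    (hR : IsPGroup p R) (hxR : x ∈ R) : ∀ r ∈ R, r * x = x * r := by
  intro r hr
  have h1 := (Cfsg.Agent.S2969.result x ⟨1, by rw [hx, pow_one]⟩ hiso).1 R hR hxR
    (Subgroup.le_normalizer hr)
  rw [Subgroup.mem_centralizer_iff] at h1
  exact (h1 x (Set.mem_singleton x)).symm

/-- a `p`-group of order larger than `p` has order at least `p²` -/
theorem sq_le_card_of_lt_card {A : Subgroup G} (hA : IsPGroup p A) (h : p < Nat.card A) :
    p ^ 2 ≤ Nat.card A := by
  obtain ⟨k, hk⟩ := IsPGroup.iff_card.mp hA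
  rw [hk] at h ⊢
  apply Nat.pow_le_pow_right hp.out.pos
  by_contra hlt
  have hk1 : k ≤ 1 := by omega
  have : p ^ k ≤ p ^ 1 := Nat.pow_le_pow_right hp.out.pos hk1
  rw [pow_one] at this
  omega

/-- a proper subgroup of a `p`-group of order at most `p²` has order at most `p` -/
theorem card_le_of_lt_of_card_le_sq {H K : Subgroup G} (hHK : H < K) (hK : IsPGroup p K)
    (hcard : Nat.card K ≤ p ^ 2) : Nat.card H ≤ p := by
  have hH : IsPGroup p H := hK.to_le hHK.le
  by_contra hlt
  push Not at hlt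
  have h1 := sq_le_card_of_lt_card hH hlt
  have h2 : Nat.card K ≤ Nat.card H := hcard.trans h1
  exact hHK.ne (Subgroup.eq_of_le_of_card_ge hHK.le h2)

/-- **Case I**: if `x ∉ F*(G)` then `F*(G)` has `p`-rank at most one. -/
theorem pRankLE_one_fstar (hrank : PRankLE p 2 G) {x : G} (hx : orderOf x = p)
    (hiso : IsIsolated x) (hxF : x ∉ generalizedFittingSubgroup G) :
    PRankLE p 1 ↥(generalizedFittingSubgroup G) := by
  set F := generalizedFittingSubgroup G with hF
  intro A hA hAp
  rw [pow_one]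
  have hFn : F.Normal := inferInstance
  have hxp : x ^ p = 1 := by rw [← hx]; exact pow_orderOf_eq_one x
  set A₁ := A.map F.subtype with hA₁
  have hA₁p : ∀ a ∈ A₁, a ^ p = 1 := by
    rintro _ ⟨a, ha, rfl⟩
    have := hAp a ha
    have h2 := congrArg Subtype.val this
    simpa using h2
  have hA₁c : ∀ a ∈ A₁, ∀ b ∈ A₁, a * b = b * a := by
    rintro _ ⟨a, ha, rfl⟩ _ ⟨b, hb, rfl⟩
    have := hA.is_comm.comm (⟨a, ha⟩ : A) ⟨b, hb⟩
    have h2 := congrArg (fun t : A => ((t : F) : G)) this
    simpa using h2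
  have hA₁pg : IsPGroup p A₁ := isPGroup_of_exp hA₁p
  have hA₁F : A₁ ≤ F := Subgroup.map_subtype_le A
  -- Sylow subgroups
  obtain ⟨P', hP'⟩ := (IsPGroup.of_card (n := 1) (by rw [Nat.card_zpowers, hx, pow_one] :
    Nat.card (zpowers x) = p ^ 1)).exists_le_sylow
  obtain ⟨P₁, hP₁⟩ := hA₁pg.exists_le_sylow
  obtain ⟨c, hc⟩ := MulAction.exists_smul_eq G P' P₁
  have hmem : ∀ w : G, w ∈ (P₁ : Subgroup G) → c⁻¹ * w * c ∈ (P' : Subgroup G) := by
    intro w hw
    rw [← hc, Sylow.coe_subgroup_smul, Subgroup.mem_pointwise_smul_iff_inv_smul_mem,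
      MulAut.smul_def, MulAut.conj_inv_apply] at hw
    exact hw
  have hxP' : x ∈ (P' : Subgroup G) := hP' (Subgroup.mem_zpowers x)
  have hxc := comm_of_mem_pgroup hx hiso P'.isPGroup' hxP'
  set B := A₁.map (MulAut.conj c⁻¹).toMonoidHom with hB
  have hBcard : Nat.card B = Nat.card A := by
    rw [hB, Subgroup.card_map_of_injective (MulAut.conj c⁻¹).injective, hA₁,
      Subgroup.card_map_of_injective (Subgroup.subtype_injective _)]
  have hBmem : ∀ b ∈ B, ∃ a ∈ A₁, b = c⁻¹ * a * c := by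
    rintro _ ⟨a, ha, rfl⟩
    exact ⟨a, ha, by simp [MulAut.conj_apply]⟩
  have hBF : B ≤ F := by
    intro b hb
    obtain ⟨a, ha, rfl⟩ := hBmem b hb
    have := hFn.conj_mem a (hA₁F ha) c⁻¹
    simpa using this
  have hBP : B ≤ (P' : Subgroup G) := by
    intro b hb
    obtain ⟨a, ha, rfl⟩ := hBmem b hb
    exact hmem a (hP₁ ha)
  have hBp : ∀ b ∈ B, b ^ p = 1 := by
    intro b hb
    obtain ⟨a, ha, rfl⟩ := hBmem b hb
    have : c⁻¹ * a * c = c⁻¹ * a * c⁻¹⁻¹ := by rw [inv_inv]
    rw [this, conj_pow, hA₁p a ha, mul_one, mul_inv_cancel]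
  have hBc : ∀ a ∈ B, ∀ b ∈ B, a * b = b * a := by
    intro a ha b hb
    obtain ⟨a', ha', rfl⟩ := hBmem a ha
    obtain ⟨b', hb', rfl⟩ := hBmem b hb
    have := hA₁c a' ha' b' hb'
    calc c⁻¹ * a' * c * (c⁻¹ * b' * c) = c⁻¹ * (a' * b') * c := by group
      _ = c⁻¹ * (b' * a') * c := by rw [this]
      _ = c⁻¹ * b' * c * (c⁻¹ * a' * c) := by group
  have hBx : ∀ a ∈ B, ∀ b ∈ zpowers x, a * b = b * a := by
    intro a ha b hb
    obtain ⟨i, rfl⟩ := Subgroup.mem_zpowers_iff.mp hb
    have hcm : Commute a x := hxc a (hBP ha)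
    exact hcm.zpow_right i
  obtain ⟨h1, h2⟩ := sup_comm_exp hBc (zpowers_comm x) hBx hBp (zpowers_exp hxp)
  have hcard := hrank (B ⊔ zpowers x) (isMulCommutative_of_forall h1) h2
  have hlt : B < B ⊔ zpowers x := by
    refine lt_of_le_of_ne le_sup_left ?_
    intro heq
    apply hxF
    apply hBF
    rw [heq]
    exact le_sup_right (α := Subgroup G) (Subgroup.mem_zpowers x)
  have := card_le_of_lt_of_card_le_sq hlt (isPGroup_of_exp h2) hcard
  rwa [hBcard] at this

/-- **Case I**, conclusion: `C_{F*(G)}(L) = 1`. -/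
theorem inf_centralizer_eq_bot_caseI (hp2 : p ≠ 2) (hcore : pPrimeCore p G = ⊥)
    (hrF : PRankLE p 1 ↥(generalizedFittingSubgroup G)) {L : Subgroup G} (hL : IsComponent L) :
    generalizedFittingSubgroup G ⊓ centralizer (L : Set G) = ⊥ := by
  by_contra hU
  set F := generalizedFittingSubgroup G with hF
  set U := F ⊓ centralizer (L : Set G) with hUdef
  have hLF : L ≤ F := (IsComponent.le_layer hL).trans layer_le_generalizedFittingSubgroup
  have hUsn : U.IsSubnormal := isSubnormal_inf_centralizer hL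
  have hdivU : p ∣ Nat.card U := dvd_card_of_subnormal_ne_bot hcore hUsn hU
  have hdivL : p ∣ Nat.card L :=
    dvd_card_of_subnormal_ne_bot hcore hL.1 (IsQuasisimple.ne_bot hL.2)
  obtain ⟨z, hz⟩ := exists_prime_orderOf_dvd_card' (G := U) p hdivU
  have hzG : orderOf (z : G) = p := by rw [Subgroup.orderOf_coe]; exact hz
  have hzp : (z : G) ^ p = 1 := by rw [← hzG]; exact pow_orderOf_eq_one _
  have hzF : (z : G) ∈ F := (Subgroup.mem_inf.mp z.2).1
  have hzC : (z : G) ∈ centralizer (L : Set G) := (Subgroup.mem_inf.mp z.2).2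
  -- every element of order dividing `p` of `L` centralizes `L`
  have key : ∀ y ∈ L, y ^ p = 1 → y ∈ centralizer (L : Set G) := by
    intro y hy hyp
    set yF : F := ⟨y, hLF hy⟩ with hyF
    set zF : F := ⟨(z : G), hzF⟩ with hzFdef
    have hyFp : yF ^ p = 1 := Subtype.ext (by simpa using hyp)
    have hzFp : zF ^ p = 1 := Subtype.ext (by simpa using hzp)
    have hyz : ∀ a ∈ zpowers yF, ∀ b ∈ zpowers zF, a * b = b * a := by
      intro a ha b hb
      obtain ⟨i, rfl⟩ := Subgroup.mem_zpowers_iff.mp ha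
      obtain ⟨j, rfl⟩ := Subgroup.mem_zpowers_iff.mp hb
      have hcm : Commute yF zF := by
        apply Subtype.ext
        show y * (z : G) = (z : G) * y
        exact (Subgroup.mem_centralizer_iff.mp hzC y hy)
      exact (hcm.zpow_zpow i j)
    obtain ⟨h1, h2⟩ := sup_comm_exp (zpowers_comm yF) (zpowers_comm zF) hyz (zpowers_exp hyFp)
      (zpowers_exp hzFp)
    have hcard := hrF (zpowers yF ⊔ zpowers zF) (isMulCommutative_of_forall h1) h2
    rw [pow_one] at hcard
    have hzcard : Nat.card (zpowers zF) = p := by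
      rw [Nat.card_zpowers]
      have : orderOf zF = orderOf (z : G) := by
        rw [← Subgroup.orderOf_coe]
      rw [this, hzG]
    have heq : zpowers zF = zpowers yF ⊔ zpowers zF :=
      Subgroup.eq_of_le_of_card_ge le_sup_right (by rw [hzcard]; exact hcard)
    have hy1 : yF ∈ zpowers zF := by
      rw [heq]; exact le_sup_left (α := Subgroup F) (Subgroup.mem_zpowers yF)
    obtain ⟨i, hi⟩ := Subgroup.mem_zpowers_iff.mp hy1
    have hy2 : y = (z : G) ^ i := by
      have := congrArg Subtype.val hi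
      simpa using this.symm
    rw [hy2]
    exact Subgroup.zpow_mem _ hzC i
  -- hence `L` has a normal `p`-complement
  obtain ⟨T⟩ : Nonempty (Sylow p L) := inferInstance
  have hZ : Cfsg.omegaOne p (T : Subgroup L) ≤ Subgroup.center L := by
    unfold Cfsg.omegaOne
    rw [Subgroup.closure_le]
    rintro w ⟨_, hwp⟩
    rw [SetLike.mem_coe, Subgroup.mem_center_iff]
    intro g
    have h1 : (w : G) ^ p = 1 := by
      have := congrArg Subtype.val hwp
      simpa using this
    have h2 := key (w : G) w.2 h1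
    apply Subtype.ext
    show (g : G) * (w : G) = (w : G) * (g : G)
    exact (Subgroup.mem_centralizer_iff.mp h2 (g : G) g.2)
  have hnpc := hasNormalPComplement_of_omegaOne_le_center hp2 T hZ
  exact not_isPerfect_of_hasNormalPComplement hdivL hnpc hL.2.1

end

end Cfsg.Agent.Lib.Lead.IsoRank
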