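import Mathlib
import Cfsg.Agent.Lib.Lead.IsoRankC

set_option autoImplicit false

/-! Isolated elements of order `p` in groups of `p`-rank at most two: the case `x ∈ F*(G)`. -/

namespace Cfsg.Agent.Lib.Lead.IsoRank

open Cfsg Subgroup Cfsg.Agent.Lib.Helper3

section
variable {G : Type*} [Group G] [Finite G] {p : ℕ} [hp : Fact p.Prime]

/-- `p`-part trick: an exponent `k ≡ 1 (mod p)` killing the `p'`-part of `l` -/
theorem exists_pow_pPart (l : G) :
    ∃ k : ℕ, k % p = 1 ∧ ∃ b : ℕ, orderOf (l ^ k) = p ^ b := by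
  obtain ⟨a, m', hm', hm⟩ :=
    Nat.exists_eq_pow_mul_and_not_dvd (orderOf_pos l).ne' p hp.out.ne_one
  have hcop : Nat.Coprime m' p := ((Nat.Prime.coprime_iff_not_dvd hp.out).mpr hm').symm
  obtain ⟨j, -, hj⟩ := Nat.exists_mul_mod_eq_one_of_coprime hcop hp.out.one_lt
  refine ⟨m' * j, hj, ?_⟩
  have h1 : (l ^ (m' * j)) ^ (p ^ a) = 1 := by
    rw [← pow_mul]
    have : m' * j * p ^ a = orderOf l * j := by rw [hm]; ring
    rw [this, pow_mul, pow_orderOf_eq_one, one_pow]
  obtain ⟨b, _, hb⟩ := (Nat.dvd_prime_pow hp.out).mp (orderOf_dvd_of_pow_eq_one h1)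
  exact ⟨b, hb⟩

/-- **Case II**: if `x ∈ F*(G)` and `x` does not centralize the component `L`, then
`C_{F*(G)}(L) = 1`. -/
theorem inf_centralizer_eq_bot_caseII (hp2 : p ≠ 2) (hcore : pPrimeCore p G = ⊥)
    (hrank : PRankLE p 2 G) {x : G} (hx : orderOf x = p) (hiso : IsIsolated x)
    (hxF : x ∈ generalizedFittingSubgroup G) {L : Subgroup G} (hL : IsComponent L)
    (hLx : ¬ L ≤ centralizer ({x} : Set G)) :
    generalizedFittingSubgroup G ⊓ centralizer (L : Set G) = ⊥ := by
  by_contra hU
  set F := generalizedFittingSubgroup G with hF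
  set U := F ⊓ centralizer (L : Set G) with hUdef
  have hFn : F.Normal := inferInstance
  have hLF : L ≤ F := (IsComponent.le_layer hL).trans layer_le_generalizedFittingSubgroup
  have hUF : U ≤ F := inf_le_left
  have hUC : U ≤ centralizer (L : Set G) := inf_le_right
  have hFsup : F = L ⊔ U := fstar_eq_sup hL
  have hUsn : U.IsSubnormal := isSubnormal_inf_centralizer hL
  have hdivU : p ∣ Nat.card U := dvd_card_of_subnormal_ne_bot hcore hUsn hU
  have hdivL : p ∣ Nat.card L :=
    dvd_card_of_subnormal_ne_bot hcore hL.1 (IsQuasisimple.ne_bot hL.2)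
  have hxp : x ^ p = 1 := by rw [← hx]; exact pow_orderOf_eq_one x
  have hLU : ⁅L, U⁆ = ⊥ := by
    rw [Subgroup.commutator_comm, Subgroup.commutator_eq_bot_iff_le_centralizer]; exact hUC
  have hcommLU : ∀ l ∈ L, ∀ u ∈ U, l * u = u * l := by
    intro l hl u hu
    exact (Subgroup.mem_centralizer_iff.mp (hUC hu) l hl)
  -- decomposition of `x`
  have hxsup : x ∈ L ⊔ U := by rw [← hFsup]; exact hxF
  obtain ⟨l₀, hl₀, u₀, hu₀, hxlu⟩ := exists_mul_of_mem_sup_of_commutator_eq_bot hLU hxsup
  obtain ⟨k, hk1, b, hb⟩ := exists_pow_pPart (p := p) l₀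
  have hxk : x ^ k = x := by
    rw [← pow_mod_orderOf, hx, hk1, pow_one]
  set l := l₀ ^ k with hl
  set u := u₀ ^ k with hu
  have hlL : l ∈ L := L.pow_mem hl₀ k
  have huU : u ∈ U := U.pow_mem hu₀ k
  have hxlu' : x = l * u := by
    have hc : Commute l₀ u₀ := hcommLU l₀ hl₀ u₀ hu₀
    rw [hl, hu, ← hc.mul_pow, ← hxlu, hxk]
  -- `l` is isolated in `L`
  set lL : L := ⟨l, hlL⟩ with hlLdef
  have hlLiso : IsIsolated lL := by
    intro g hg
    have hg' : Commute l ((g : G) * l * (g : G)⁻¹) := by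
      have := congrArg Subtype.val hg.eq
      simp only [Subgroup.coe_mul, Subgroup.coe_inv] at this
      show l * ((g : G) * l * (g : G)⁻¹) = (g : G) * l * (g : G)⁻¹ * l
      exact this
    have hwL : (g : G) * l * (g : G)⁻¹ ∈ L := L.mul_mem (L.mul_mem g.2 hlL) (L.inv_mem g.2)
    have hug : (g : G) * u * (g : G)⁻¹ = u := by
      have := hcommLU (g : G) g.2 u huU
      calc (g : G) * u * (g : G)⁻¹ = u * (g : G) * (g : G)⁻¹ := by rw [this]
        _ = u := by group
    have hconj : (g : G) * x * (g : G)⁻¹ = ((g : G) * l * (g : G)⁻¹) * u := by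
      rw [hxlu']
      calc (g : G) * (l * u) * (g : G)⁻¹ = ((g : G) * l * (g : G)⁻¹) * ((g : G) * u * (g : G)⁻¹) := by
            group
        _ = _ := by rw [hug]
    have hlu : Commute l u := hcommLU l hlL u huU
    have hwu : Commute ((g : G) * l * (g : G)⁻¹) u := hcommLU _ hwL u huU
    have hcx : Commute x ((g : G) * x * (g : G)⁻¹) := by
      rw [hconj, hxlu']
      exact Commute.mul_left (Commute.mul_right hg' hlu)
        (Commute.mul_right hwu.symm (Commute.refl u))
    have h1 := hiso (g : G) hcx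
    rw [hconj, hxlu'] at h1
    have h2 : (g : G) * l * (g : G)⁻¹ = l := mul_right_cancel h1
    apply Subtype.ext
    simpa using h2
  have hl1 : l ≠ 1 := by
    intro h1
    apply hLx
    intro y hy
    rw [Subgroup.mem_centralizer_iff]
    intro w hw
    rw [Set.mem_singleton_iff] at hw
    rw [hw, hxlu', h1, one_mul]
    exact (hcommLU y hy u huU).symm
  have hlL1 : lL ≠ 1 := by
    intro h1
    apply hl1
    have := congrArg Subtype.val h1
    exact this
  have hlLord : ∃ b : ℕ, orderOf lL = p ^ b := by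
    refine ⟨b, ?_⟩
    rw [← hb, ← Subgroup.orderOf_coe]
  -- `L` has `p`-rank at least two
  have hrkL : ¬ PRankLE p 1 L := by
    intro hr
    have hcyc : ∀ P : Sylow p L, IsCyclic ↥(P : Subgroup L) :=
      fun P => Cfsg.Agent.Lib.Helper6.isCyclic_sylow_of_pRankLE_one hp2 hr P
    have hnpc := (Cfsg.Agent.S2970.result lL hlLord hlLiso).2 hlL1 hcyc
    exact not_isPerfect_of_hasNormalPComplement hdivL hnpc hL.2.1
  unfold PRankLE at hrkL
  push Not at hrkL
  obtain ⟨A, hAc, hAp, hAcard⟩ := hrkL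
  rw [pow_one] at hAcard
  set A₁ := A.map L.subtype with hA₁
  have hA₁L : A₁ ≤ L := Subgroup.map_subtype_le A
  have hA₁p : ∀ a ∈ A₁, a ^ p = 1 := by
    rintro _ ⟨a, ha, rfl⟩
    have := hAp a ha
    have h2 := congrArg Subtype.val this
    simpa using h2
  have hA₁c : ∀ a ∈ A₁, ∀ b ∈ A₁, a * b = b * a := by
    rintro _ ⟨a, ha, rfl⟩ _ ⟨b, hb, rfl⟩
    have := hAc.is_comm.comm (⟨a, ha⟩ : A) ⟨b, hb⟩
    have h2 := congrArg (fun t : A => ((t : L) : G)) this
    simpa using h2
  have hA₁card : p ^ 2 ≤ Nat.card A₁ := by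
    apply sq_le_card_of_lt_card (isPGroup_of_exp hA₁p)
    rw [hA₁, Subgroup.card_map_of_injective (Subgroup.subtype_injective _)]
    exact hAcard
  -- an element `z` of order `p` of `U`; it lies in `L`
  obtain ⟨zU, hzU⟩ := exists_prime_orderOf_dvd_card' (G := U) p hdivU
  set z : G := (zU : G) with hz
  have hzord : orderOf z = p := by rw [hz, Subgroup.orderOf_coe]; exact hzU
  have hzp : z ^ p = 1 := by rw [← hzord]; exact pow_orderOf_eq_one _
  have hzUm : z ∈ U := zU.2
  have hzL : z ∈ L := by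
    have hAz : ∀ a ∈ A₁, ∀ b ∈ zpowers z, a * b = b * a := by
      intro a ha b hb
      obtain ⟨i, rfl⟩ := Subgroup.mem_zpowers_iff.mp hb
      have hcm : Commute a z := hcommLU a (hA₁L ha) z hzUm
      exact hcm.zpow_right i
    obtain ⟨h1, h2⟩ := sup_comm_exp hA₁c (zpowers_comm z) hAz hA₁p (zpowers_exp hzp)
    have hcard := hrank (A₁ ⊔ zpowers z) (isMulCommutative_of_forall h1) h2
    have heq : A₁ = A₁ ⊔ zpowers z :=
      Subgroup.eq_of_le_of_card_ge le_sup_left (hcard.trans hA₁card)
    apply hA₁L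
    rw [heq]
    exact le_sup_right (α := Subgroup G) (Subgroup.mem_zpowers z)
  -- `z` is central in `F`
  have hzcent : ∀ f ∈ F, f * z = z * f := by
    have : F ≤ centralizer ({z} : Set G) := by
      rw [hFsup]
      apply sup_le
      · intro y hy
        rw [Subgroup.mem_centralizer_iff]
        intro w hw
        rw [Set.mem_singleton_iff] at hw
        rw [hw]
        exact (hcommLU y hy z hzUm).symm
      · intro y hy
        rw [Subgroup.mem_centralizer_iff]
        intro w hw
        rw [Set.mem_singleton_iff] at hw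
        rw [hw]
        exact hcommLU z hzL y hy
    intro f hf
    have := this hf
    rw [Subgroup.mem_centralizer_iff] at this
    exact (this z (Set.mem_singleton z)).symm
  -- `x ∉ ⟨z⟩`
  have hxz : x ∉ zpowers z := by
    intro hxz
    apply hLx
    intro y hy
    rw [Subgroup.mem_centralizer_iff]
    intro w hw
    rw [Set.mem_singleton_iff] at hw
    rw [hw]
    obtain ⟨i, hi⟩ := Subgroup.mem_zpowers_iff.mp hxz
    rw [← hi]
    have hcm : Commute z y := (hcommLU y hy z hzUm).symm
    exact (hcm.zpow_left i)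
  have hxzcomm : Commute x z := (hzcent x hxF)
  -- the subgroup `V = ⟨x, z⟩`
  set V := zpowers x ⊔ zpowers z with hV
  have hxzp : ∀ a ∈ zpowers x, ∀ b ∈ zpowers z, a * b = b * a := by
    intro a ha b hb
    obtain ⟨i, rfl⟩ := Subgroup.mem_zpowers_iff.mp ha
    obtain ⟨j, rfl⟩ := Subgroup.mem_zpowers_iff.mp hb
    exact (hxzcomm.zpow_zpow i j)
  obtain ⟨hVc, hVp⟩ := sup_comm_exp (zpowers_comm x) (zpowers_comm z) hxzp (zpowers_exp hxp)
    (zpowers_exp hzp)
  have hVcard : p ^ 2 ≤ Nat.card V := by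
    have hlt : zpowers z < V := by
      refine lt_of_le_of_ne le_sup_right ?_
      intro heq
      apply hxz
      rw [heq]
      exact le_sup_left (α := Subgroup G) (Subgroup.mem_zpowers x)
    exact sq_le_card_of_lt hlt (by rw [Nat.card_zpowers, hzord]) (isPGroup_of_exp hVp)
  have hVxz : ⁅zpowers x, zpowers z⁆ = ⊥ := by
    rw [Subgroup.commutator_eq_bot_iff_le_centralizer]
    intro a ha
    rw [Subgroup.mem_centralizer_iff]
    intro b hb
    exact (hxzp a ha b hb).symm
  -- every element of order dividing `p` commuting with `x` and `z` lies in `V`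
  have hinV : ∀ w : G, w ^ p = 1 → Commute w x → Commute w z → w ∈ V := by
    intro w hwp hwx hwz
    have hVw : ∀ a ∈ V, ∀ b ∈ zpowers w, a * b = b * a := by
      intro a ha b hb
      obtain ⟨a1, ha1, a2, ha2, rfl⟩ := exists_mul_of_mem_sup_of_commutator_eq_bot hVxz ha
      obtain ⟨i, rfl⟩ := Subgroup.mem_zpowers_iff.mp ha1
      obtain ⟨j, rfl⟩ := Subgroup.mem_zpowers_iff.mp ha2
      obtain ⟨m, rfl⟩ := Subgroup.mem_zpowers_iff.mp hb
      have h1 : Commute (x ^ i) (w ^ m) := (hwx.symm.zpow_zpow i m)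
      have h2 : Commute (z ^ j) (w ^ m) := (hwz.symm.zpow_zpow j m)
      exact (h1.mul_left h2)
    obtain ⟨h1, h2⟩ := sup_comm_exp hVc (zpowers_comm w) hVw hVp (zpowers_exp hwp)
    have hcard := hrank (V ⊔ zpowers w) (isMulCommutative_of_forall h1) h2
    have heq : V = V ⊔ zpowers w :=
      Subgroup.eq_of_le_of_card_ge le_sup_left (hcard.trans hVcard)
    rw [heq]
    exact le_sup_right (α := Subgroup G) (Subgroup.mem_zpowers w)
  -- a Sylow `p`-subgroup of `F` containing `x`
  set xF : F := ⟨x, hxF⟩ with hxFdef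
  have hxFord : Nat.card (zpowers xF) = p ^ 1 := by
    rw [Nat.card_zpowers, pow_one, ← hx, ← Subgroup.orderOf_coe]
  obtain ⟨T, hT⟩ := (IsPGroup.of_card hxFord).exists_le_sylow
  have hxT : xF ∈ (T : Subgroup F) := hT (Subgroup.mem_zpowers xF)
  -- elements of `T` commute with `x`
  have hTx : ∀ t ∈ (T : Subgroup F), Commute (t : G) x := by
    intro t ht
    have hR : IsPGroup p ((T : Subgroup F).map F.subtype) := T.isPGroup'.map _
    have hxR : x ∈ (T : Subgroup F).map F.subtype := ⟨xF, hxT, rfl⟩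
    exact comm_of_mem_pgroup hx hiso hR hxR (t : G) ⟨t, ht, rfl⟩
  have hTV : ∀ t ∈ (T : Subgroup F), t ^ p = 1 → (t : G) ∈ V := by
    intro t ht htp
    apply hinV
    · have := congrArg Subtype.val htp
      simpa using this
    · exact hTx t ht
    · exact hzcent (t : G) t.2
  -- the weak closure hypothesis
  have hwc : ∀ y ∈ (T : Subgroup F), y ^ p = 1 → ∀ n : F, n * y * n⁻¹ ∈ (T : Subgroup F) →
      n * y * n⁻¹ = y := by
    intro y hy hyp n hn
    have hyV := hTV y hy hyp
    have hwp : (n * y * n⁻¹) ^ p = 1 := by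
      rw [conj_pow, hyp, mul_one, mul_inv_cancel]
    have hwV := hTV _ hn hwp
    have hwx : Commute ((n * y * n⁻¹ : F) : G) x := hTx _ hn
    obtain ⟨a, ha, c, hc, hyac⟩ := exists_mul_of_mem_sup_of_commutator_eq_bot hVxz hyV
    have hcz : ∀ f ∈ F, f * c = c * f := by
      intro f hf
      obtain ⟨j, rfl⟩ := Subgroup.mem_zpowers_iff.mp hc
      have hcm : Commute f z := hzcent f hf
      exact (hcm.zpow_right j)
    have hcx : Commute c x := by
      obtain ⟨j, rfl⟩ := Subgroup.mem_zpowers_iff.mp hc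
      exact (hxzcomm.symm.zpow_left j)
    have hwcoe : ((n * y * n⁻¹ : F) : G) = ((n : G) * a * (n : G)⁻¹) * c := by
      have h1 : ((n * y * n⁻¹ : F) : G) = (n : G) * (y : G) * (n : G)⁻¹ := by simp
      rw [h1, hyac]
      have h2 := hcz (n : G) n.2
      have h3 : (n : G) * c * (n : G)⁻¹ = c := by rw [h2]; group
      calc (n : G) * (a * c) * (n : G)⁻¹ = ((n : G) * a * (n : G)⁻¹) * ((n : G) * c * (n : G)⁻¹) := by
            group
        _ = (n : G) * a * (n : G)⁻¹ * c := by rw [h3]
    have hnax : Commute ((n : G) * a * (n : G)⁻¹) x := by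
      have h1 : (n : G) * a * (n : G)⁻¹ = ((n * y * n⁻¹ : F) : G) * c⁻¹ := by
        rw [hwcoe]; group
      rw [h1]
      exact hwx.mul_left hcx.inv_left
    by_cases ha1 : a = 1
    · apply Subtype.ext
      rw [hwcoe, hyac, ha1]
      group
    · -- `x` is a power of `a`
      have haord : orderOf a = p := by
        have h1 : orderOf a ∣ p := by
          have := Subgroup.orderOf_dvd_natCard (zpowers x) ha
          rwa [Nat.card_zpowers, hx] at this
        rcases (Nat.dvd_prime hp.out).mp h1 with h2 | h2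
        · exact absurd (orderOf_eq_one_iff.mp h2) ha1
        · exact h2
      have hzaeq : zpowers a = zpowers x := by
        apply Subgroup.eq_of_le_of_card_ge ((Subgroup.zpowers_le).mpr ha)
        rw [Nat.card_zpowers, Nat.card_zpowers, haord, hx]
      have hxa : x ∈ zpowers a := by rw [hzaeq]; exact Subgroup.mem_zpowers x
      obtain ⟨r, hr⟩ := Subgroup.mem_zpowers_iff.mp hxa
      have hnx : Commute x ((n : G) * x * (n : G)⁻¹) := by
        have h1 : (n : G) * x * (n : G)⁻¹ = ((n : G) * a * (n : G)⁻¹) ^ r := by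
          rw [conj_zpow, hr]
        rw [h1]
        exact (hnax.symm.zpow_right r)
      have h3 := hiso (n : G) hnx
      have hna : (n : G) * a * (n : G)⁻¹ = a := by
        obtain ⟨i, hi⟩ := Subgroup.mem_zpowers_iff.mp ha
        rw [← hi, ← conj_zpow, h3]
      apply Subtype.ext
      rw [hwcoe, hna, hyac]
  -- hence `F` has a normal `p`-complement, which must be trivial
  obtain ⟨P, N, hNn, hcompl⟩ := hasNormalPComplement_of_weaklyClosed hp2 T hwc
  have hNcop : (Nat.card N).Coprime p := by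
    have h1 : (P : Subgroup F).index = Nat.card N := hcompl.index_eq_card
    rw [← h1]
    exact ((Fact.out : p.Prime).coprime_iff_not_dvd.mpr P.not_dvd_index).symm
  have hN1 : (N.map F.subtype).IsSubnormal :=
    Cfsg.Agent.Lib.Helper6.isSubnormal_map_subtype hFn.isSubnormal hNn.isSubnormal
  have hN2 : N.map F.subtype = ⊥ := by
    apply eq_bot_of_subnormal_coprime hcore hN1
    rwa [Subgroup.card_map_of_injective (Subgroup.subtype_injective _)]
  have hN3 : N = ⊥ := by
    rw [eq_bot_iff]
    intro w hw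
    have : (w : G) ∈ N.map F.subtype := ⟨w, hw, rfl⟩
    rw [hN2, Subgroup.mem_bot] at this
    rw [Subgroup.mem_bot]
    exact Subtype.ext this
  have hPtop : (P : Subgroup F) = ⊤ := by
    rw [hN3] at hcompl
    exact Subgroup.isComplement'_bot_left.mp hcompl
  have hFp : IsPGroup p F := by
    have := P.isPGroup'
    rw [hPtop] at this
    exact IsPGroup.of_equiv this (Subgroup.topEquiv)
  exact IsQuasisimple.not_le_of_isSolvable hL.2
    (IsNilpotent.to_isSolvable (h := hFp.isNilpotent)) hLF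

end

end Cfsg.Agent.Lib.Lead.IsoRank
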