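import Mathlib

set_option autoImplicit false

/-! Package PK-CENT of S3278 (leader helper2). -/

namespace Cfsg.Agent.Lib.Helper2.KFS

open Subgroup

theorem centralizer_eq_of_klein {G : Type*} [Group G] [Finite G] (x : G) (S₀ : Subgroup G)
    (hxS : x ∈ S₀) (hx1 : x ≠ 1)
    (hle : S₀ ≤ centralizer ({x} : Set G)) (hcard : Nat.card S₀ = 4) (hsq : ∀ g ∈ S₀, g * g = 1)
    (hodd : ¬ 2 ∣ S₀.relIndex (centralizer ({x} : Set G)))
    (hn : (S₀.subgroupOf (centralizer ({x} : Set G))).Normal) :
    centralizer ({x} : Set G) = centralizer (S₀ : Set G) := by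
  classical
  apply le_antisymm
  · intro c hc
    -- `c` normalizes `S₀`
    have hnorm : ∀ s ∈ S₀, c * s * c⁻¹ ∈ S₀ := by
      intro s hs
      have h1 : (⟨s, hle hs⟩ : centralizer ({x} : Set G)) ∈ S₀.subgroupOf (centralizer ({x} : Set G)) :=
        Subgroup.mem_subgroupOf.2 hs
      have h2 := hn.conj_mem _ h1 ⟨c, hc⟩
      exact Subgroup.mem_subgroupOf.1 h2
    have hcx : c * x * c⁻¹ = x := by
      have := Subgroup.mem_centralizer_iff.1 hc x (Set.mem_singleton x)
      rw [← this, mul_inv_cancel_right]
    -- the subgroup `⟨x⟩` of `S₀` has index 2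
    let x' : S₀ := ⟨x, hxS⟩
    have hx'1 : x' ≠ 1 := fun h => hx1 (congrArg Subtype.val h)
    have hx'sq : x' * x' = 1 := Subtype.ext (hsq x hxS)
    have hord : orderOf x' = 2 := orderOf_eq_prime (by rw [sq]; exact hx'sq) hx'1
    have hHcard : Nat.card (Subgroup.zpowers x') = 2 := by rw [Nat.card_zpowers, hord]
    have hHidx : (Subgroup.zpowers x').index = 2 := by
      have h := Subgroup.card_mul_index (Subgroup.zpowers x')
      rw [hHcard, hcard] at h
      omega
    have hHmem : ∀ g : S₀, g ∈ Subgroup.zpowers x' → g = 1 ∨ g = x' := by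
      intro g hg
      obtain ⟨k, rfl⟩ := Subgroup.mem_zpowers_iff.1 hg
      rcases Int.emod_two_eq_zero_or_one k with h | h
      · left
        have : k = 2 * (k / 2) := by omega
        rw [this, zpow_mul, zpow_ofNat, sq, hx'sq, one_zpow]
      · right
        have : k = 2 * (k / 2) + 1 := by omega
        rw [this, zpow_add, zpow_mul, zpow_ofNat, sq, hx'sq, one_zpow, one_mul, zpow_one]
    -- `c²` centralizes `S₀`
    have hc2 : ∀ g ∈ S₀, c * (c * g * c⁻¹) * c⁻¹ = g := by
      intro g hg
      by_cases hfix : c * g * c⁻¹ = g
      · rw [hfix, hfix]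
      · let g₁ : S₀ := ⟨g, hg⟩
        let g₂ : S₀ := ⟨c * g * c⁻¹, hnorm g hg⟩
        have hg1 : g₁ ∉ Subgroup.zpowers x' := by
          intro h
          rcases hHmem g₁ h with h | h
          · apply hfix
            have : g = 1 := congrArg Subtype.val h
            rw [this]; simp
          · apply hfix
            have : g = x := congrArg Subtype.val h
            rw [this]; exact hcx
        have hg2 : g₂ ∉ Subgroup.zpowers x' := by
          intro h
          rcases hHmem g₂ h with h | h
          · apply hfix
            have h' : c * g * c⁻¹ = 1 := congrArg Subtype.val h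
            have : g = 1 := by
              have := congrArg (fun t => c⁻¹ * t * c) h'
              simpa [mul_assoc] using this
            rw [this]; simp
          · apply hfix
            have h' : c * g * c⁻¹ = x := congrArg Subtype.val h
            have : g = x := by
              have h2 := congrArg (fun t => c⁻¹ * t * c) h'
              have h3 : c⁻¹ * x * c = x := by
                have := congrArg (fun t => c⁻¹ * t * c) hcx
                simp only [mul_assoc, inv_mul_cancel_left, inv_mul_cancel, mul_one] at this
                rw [← mul_assoc] at this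
                exact this.symm
              simp only [mul_assoc, inv_mul_cancel_left, inv_mul_cancel, mul_one] at h2
              rw [h2, ← mul_assoc, h3]
            rw [this]; exact hcx
        have hprod : g₁ * g₂ ∈ Subgroup.zpowers x' :=
          (Subgroup.mul_mem_iff_of_index_two hHidx).2 (iff_of_false hg1 hg2)
        have hginv : g * g = 1 := hsq g hg
        rcases hHmem _ hprod with h | h
        · exfalso
          apply hfix
          have h' : g * (c * g * c⁻¹) = 1 := congrArg Subtype.val h
          calc c * g * c⁻¹ = g * g * (c * g * c⁻¹) := by rw [hginv, one_mul]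
            _ = g * (g * (c * g * c⁻¹)) := by rw [mul_assoc]
            _ = g := by rw [h', mul_one]
        · have h' : g * (c * g * c⁻¹) = x := congrArg Subtype.val h
          have h2 : c * g * c⁻¹ = g * x := by
            calc c * g * c⁻¹ = g * g * (c * g * c⁻¹) := by rw [hginv, one_mul]
              _ = g * (g * (c * g * c⁻¹)) := by rw [mul_assoc]
              _ = g * x := by rw [h']
          rw [h2]
          calc c * (g * x) * c⁻¹ = (c * g * c⁻¹) * (c * x * c⁻¹) := by group
            _ = g * x * x := by rw [h2, hcx]
            _ = g := by rw [mul_assoc, hsq x hxS, mul_one]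
    -- `c ^ m ∈ S₀` with `m` odd
    set m := S₀.relIndex (centralizer ({x} : Set G)) with hm
    have hcm : c ^ m ∈ S₀ := by
      have h := Subgroup.pow_index_mem (S₀.subgroupOf (centralizer ({x} : Set G)))
        (⟨c, hc⟩ : centralizer ({x} : Set G))
      have h' := Subgroup.mem_subgroupOf.1 h
      rw [Subgroup.coe_pow] at h'
      exact h'
    have hmodd : Odd m := Nat.odd_iff.2 (by
      rcases Nat.mod_two_eq_zero_or_one m with h | h
      · exact absurd (Nat.dvd_of_mod_eq_zero h) hodd
      · exact h)
    obtain ⟨k, hk⟩ := hmodd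
    -- `S₀` is abelian
    have hab : ∀ a ∈ S₀, ∀ b ∈ S₀, a * b = b * a := by
      intro a ha b hb
      have h1 := hsq (a * b) (S₀.mul_mem ha hb)
      have h2 := hsq a ha
      have h3 := hsq b hb
      have ha' : a⁻¹ = a := inv_eq_of_mul_eq_one_left h2
      have hb' : b⁻¹ = b := inv_eq_of_mul_eq_one_left h3
      have hab' : (a * b)⁻¹ = a * b := inv_eq_of_mul_eq_one_left h1
      calc a * b = (a * b)⁻¹ := hab'.symm
        _ = b⁻¹ * a⁻¹ := mul_inv_rev a b
        _ = b * a := by rw [ha', hb']
    rw [Subgroup.mem_centralizer_iff]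
    intro g hg
    -- `c = c^m * ((c^2)^k)⁻¹`
    have hK2 : c * c ∈ centralizer (S₀ : Set G) := by
      rw [Subgroup.mem_centralizer_iff]
      intro s hs
      have h := hc2 s hs
      calc s * (c * c) = (c * (c * s * c⁻¹) * c⁻¹) * (c * c) := by rw [h]
        _ = c * c * s := by group
    have hKm : c ^ m ∈ centralizer (S₀ : Set G) := by
      rw [Subgroup.mem_centralizer_iff]
      intro s hs
      exact hab s hs (c ^ m) hcm
    have hcK : c ∈ centralizer (S₀ : Set G) := by
      have h1 : c = c ^ m * ((c * c) ^ k)⁻¹ := by
        rw [hk, ← pow_two, ← pow_mul, pow_succ', mul_inv_cancel_right]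
      rw [h1]
      exact Subgroup.mul_mem _ hKm (Subgroup.inv_mem _ (Subgroup.pow_mem _ hK2 k))
    exact Subgroup.mem_centralizer_iff.1 hcK g hg
  · intro c hc
    rw [Subgroup.mem_centralizer_iff] at hc ⊢
    intro y hy
    rw [Set.mem_singleton_iff.1 hy]
    exact hc x hxS

end Cfsg.Agent.Lib.Helper2.KFS
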