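import Mathlib

set_option autoImplicit false

/-! Package PK-NUM of S3278 (leader helper2). -/

namespace Cfsg.Agent.Lib.Helper2.KFS

theorem kf_num_aux1 (a b d : ℚ) (ha : 1 ≤ a) (hb : 1 ≤ b) (hd : 3 ≤ d) :
    a * b * d / ((a + 1) * (b + 1) * (d - 1)) < 9 / 4 := by
  have h1 : 0 < (a + 1) * (b + 1) * (d - 1) := by
    apply mul_pos (mul_pos (by linarith) (by linarith)) (by linarith)
  rw [div_lt_iff₀ h1]
  have h2 : 0 ≤ a * b := by positivity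
  nlinarith [mul_nonneg h2 (by linarith : (0 : ℚ) ≤ d - 3), mul_pos (by linarith : (0 : ℚ) < a) (by linarith : (0 : ℚ) < d),
    mul_pos (by linarith : (0 : ℚ) < b) (by linarith : (0 : ℚ) < d), mul_pos (by linarith : (0 : ℚ) < a) (by linarith : (0 : ℚ) < b)]

theorem kf_num_aux2 (a b d : ℚ) (ha : 1 ≤ a) (hb : 3 ≤ b) (hd : 3 ≤ d) :
    a * b * d / ((a + 1) * (b - 1) * (d - 1)) < 9 / 4 := by
  have h1 : 0 < (a + 1) * (b - 1) * (d - 1) := by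
    apply mul_pos (mul_pos (by linarith) (by linarith)) (by linarith)
  rw [div_lt_iff₀ h1]
  have hb' : 0 ≤ b - 3 := by linarith
  have hd' : 0 ≤ d - 3 := by linarith
  have ha' : 0 < a := by linarith
  nlinarith [mul_nonneg hb' hd', mul_nonneg (mul_nonneg ha'.le hb') hd', mul_nonneg ha'.le hb',
    mul_nonneg ha'.le hd', mul_pos ha' (by linarith : (0 : ℚ) < b)]

theorem kf_num (n c x₁ x₂ x₃ : ℕ) (ε₁ ε₂ ε₃ : ℤ) (h1 : ε₁ = 1) (h2 : ε₂ = 1 ∨ ε₂ = -1) (h3 : ε₃ = -1)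
    (hc : 0 < c)
    (hd1 : (4 : ℤ) ∣ (x₁ : ℤ) - 1) (hd2 : (4 : ℤ) ∣ (x₂ : ℤ) - ε₂) (hd3 : (4 : ℤ) ∣ (x₃ : ℤ) + 1)
    (hform : (n : ℚ) = 8 * (((x₁ : ℚ) * x₂ * x₃) /
      (((x₁ : ℚ) + ε₁) * ((x₂ : ℚ) + ε₂) * ((x₃ : ℚ) + ε₃))) * (c : ℚ) ^ 3 / (c : ℚ) ^ 2) :
    n < 18 * c := by
  subst h1 h3
  have hcq : (0 : ℚ) < c := by exact_mod_cast hc
  have hx1 : 1 ≤ x₁ := by obtain ⟨k, hk⟩ := hd1; omega
  have hx3 : 3 ≤ x₃ := by obtain ⟨k, hk⟩ := hd3; omega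
  have hx1q : (1 : ℚ) ≤ x₁ := by exact_mod_cast hx1
  have hx3q : (3 : ℚ) ≤ x₃ := by exact_mod_cast hx3
  have hcc : (c : ℚ) ^ 3 / (c : ℚ) ^ 2 = c := by field_simp
  have key : (n : ℚ) < 18 * c := by
    rw [hform, mul_div_assoc, hcc]
    rcases h2 with rfl | rfl
    · have hx2 : 1 ≤ x₂ := by obtain ⟨k, hk⟩ := hd2; omega
      have hx2q : (1 : ℚ) ≤ x₂ := by exact_mod_cast hx2
      have h := kf_num_aux1 x₁ x₂ x₃ hx1q hx2q hx3q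
      push_cast
      have e : (x₃ : ℚ) + -1 = x₃ - 1 := by ring
      rw [e]
      nlinarith [h]
    · have hx2 : 3 ≤ x₂ := by obtain ⟨k, hk⟩ := hd2; omega
      have hx2q : (3 : ℚ) ≤ x₂ := by exact_mod_cast hx2
      have h := kf_num_aux2 x₁ x₂ x₃ hx1q hx2q hx3q
      push_cast
      have e : (x₃ : ℚ) + -1 = x₃ - 1 := by ring
      have e2 : (x₂ : ℚ) + -1 = x₂ - 1 := by ring
      rw [e, e2]
      nlinarith [h]
  exact_mod_cast key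

end Cfsg.Agent.Lib.Helper2.KFS
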