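import Mathlib

set_option autoImplicit false

namespace Cfsg.Agent.Lib.Lead.KS

universe u v

/-- directly indecomposable -/
def Indec (H : Type u) [Group H] : Prop :=
  ∀ X Y : Subgroup H, X.Normal → Y.Normal → X ⊓ Y = ⊥ → X ⊔ Y = ⊤ → X = ⊥ ∨ Y = ⊥

section basic

variable {H : Type u} [Group H]

/-- normal endomorphisms -/
def IsNormalEnd (φ : H →* H) : Prop := ∀ a h : H, φ (a * h * a⁻¹) = a * φ h * a⁻¹

/-- iterates of an endomorphism -/
def pw (φ : H →* H) : ℕ → (H →* H)
  | 0 => MonoidHom.id H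
  | (k + 1) => φ.comp (pw φ k)

theorem pw_zero (φ : H →* H) : pw φ 0 = MonoidHom.id H := rfl

theorem pw_succ (φ : H →* H) (k : ℕ) : pw φ (k + 1) = φ.comp (pw φ k) := rfl

theorem pw_succ_apply (φ : H →* H) (k : ℕ) (h : H) : pw φ (k + 1) h = φ (pw φ k h) := rfl

theorem pw_succ_apply' (φ : H →* H) (k : ℕ) (h : H) : pw φ (k + 1) h = pw φ k (φ h) := by
  induction k with
  | zero => rfl
  | succ k ih => rw [pw_succ_apply, ih, ← pw_succ_apply]

theorem pw_add_apply (φ : H →* H) (k l : ℕ) (h : H) : pw φ (k + l) h = pw φ k (pw φ l h) := by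
  induction k with
  | zero => rw [Nat.zero_add]; rfl
  | succ k ih => rw [Nat.succ_add, pw_succ_apply, ih, ← pw_succ_apply]

theorem IsNormalEnd.pw {φ : H →* H} (hφ : IsNormalEnd φ) (k : ℕ) : IsNormalEnd (pw φ k) := by
  induction k with
  | zero => intro a h; rfl
  | succ k ih =>
    intro a h
    rw [pw_succ_apply, ih a h, hφ, ← pw_succ_apply]

theorem IsNormalEnd.range_normal {φ : H →* H} (hφ : IsNormalEnd φ) : φ.range.Normal := by
  refine ⟨fun x hx a => ?_⟩
  obtain ⟨h, rfl⟩ := hx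
  exact ⟨a * h * a⁻¹, hφ a h⟩

theorem range_pw_antitone (φ : H →* H) : Antitone (fun k => (pw φ k).range) := by
  apply antitone_nat_of_succ_le
  intro k x hx
  obtain ⟨h, rfl⟩ := hx
  exact ⟨φ h, (pw_succ_apply' φ k h).symm⟩

variable [Finite H]

/-- **Fitting's lemma** for normal endomorphisms of finite groups -/
theorem fitting {φ : H →* H} (hφ : IsNormalEnd φ) :
    ∃ k : ℕ, (pw φ (k + 1)).ker ⊓ (pw φ (k + 1)).range = ⊥ ∧
      (pw φ (k + 1)).ker ⊔ (pw φ (k + 1)).range = ⊤ := by
  obtain ⟨n, hn⟩ := WellFoundedLT.antitone_chain_condition (range_pw_antitone φ)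
  refine ⟨n, ?_, ?_⟩
  · -- injectivity on the stable range
    have hst : (pw φ (n + 1)).range = (pw φ (n + 1 + (n + 1))).range := by
      have h1 := hn (n + 1) (by omega)
      have h2 := hn (n + 1 + (n + 1)) (by omega)
      exact h1.symm.trans h2
    -- the restriction of pw (n+1) to the range is surjective
    let I := (pw φ (n + 1)).range
    have hmap : ∀ x : I, pw φ (n + 1) x.1 ∈ I := fun x => ⟨x.1, rfl⟩
    let f : I → I := fun x => ⟨pw φ (n + 1) x.1, hmap x⟩
    have hsurj : Function.Surjective f := by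
      intro y
      have hy : y.1 ∈ (pw φ (n + 1 + (n + 1))).range := by rw [← hst]; exact y.2
      obtain ⟨h, hh⟩ := hy
      refine ⟨⟨pw φ (n + 1) h, ⟨h, rfl⟩⟩, ?_⟩
      apply Subtype.ext
      show pw φ (n + 1) (pw φ (n + 1) h) = y.1
      rw [← pw_add_apply, hh]
    have hinj : Function.Injective f := Finite.injective_iff_surjective.mpr hsurj
    rw [eq_bot_iff]
    intro x hx
    obtain ⟨hx1, hx2⟩ := Subgroup.mem_inf.mp hx
    rw [MonoidHom.mem_ker] at hx1
    have : f ⟨x, hx2⟩ = f ⟨1, Subgroup.one_mem _⟩ := by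
      apply Subtype.ext
      show pw φ (n + 1) x = pw φ (n + 1) 1
      rw [hx1, map_one]
    have h3 := hinj this
    rw [Subgroup.mem_bot]
    exact congrArg Subtype.val h3
  · rw [eq_top_iff]
    intro h _
    have hst : (pw φ (n + 1)).range = (pw φ (n + 1 + (n + 1))).range := by
      have h1 := hn (n + 1) (by omega)
      have h2 := hn (n + 1 + (n + 1)) (by omega)
      exact h1.symm.trans h2
    have h1 : pw φ (n + 1) h ∈ (pw φ (n + 1 + (n + 1))).range := by
      rw [← hst]; exact ⟨h, rfl⟩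
    obtain ⟨h', hh'⟩ := h1
    rw [pw_add_apply] at hh'
    have h2 : h * (pw φ (n + 1) h')⁻¹ ∈ (pw φ (n + 1)).ker := by
      rw [MonoidHom.mem_ker, map_mul, map_inv, hh', mul_inv_cancel]
    have h3 : h = (h * (pw φ (n + 1) h')⁻¹) * pw φ (n + 1) h' := by group
    rw [h3]
    exact Subgroup.mul_mem _ (Subgroup.mem_sup_left h2) (Subgroup.mem_sup_right ⟨h', rfl⟩)

/-- a normal endomorphism of an indecomposable finite group is injective or nilpotent -/
theorem injective_or_nilpotent (hH : Indec H) {φ : H →* H} (hφ : IsNormalEnd φ) :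
    Function.Injective φ ∨ ∃ k : ℕ, ∀ h : H, pw φ k h = 1 := by
  obtain ⟨k, hk1, hk2⟩ := fitting hφ
  rcases hH _ _ (MonoidHom.normal_ker _) (hφ.pw (k + 1)).range_normal hk1 hk2 with h | h
  · left
    have hinj : Function.Injective (pw φ (k + 1)) := (MonoidHom.ker_eq_bot_iff _).mp h
    intro a b hab
    apply hinj
    rw [pw_succ_apply', pw_succ_apply', hab]
  · right
    refine ⟨k + 1, fun x => ?_⟩
    have : pw φ (k + 1) x ∈ (pw φ (k + 1)).range := ⟨x, rfl⟩
    rw [h, Subgroup.mem_bot] at this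
    exact this

end basic

end Cfsg.Agent.Lib.Lead.KS
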