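import Mathlib
import Cfsg.Agent.Lib.Lead.KS1

set_option autoImplicit false

namespace Cfsg.Agent.Lib.Lead.KS

universe u v

section sums

variable {H : Type u} [Group H]

/-- "sum" of a list of endomorphisms, evaluated at a point -/
def lprod (l : List (H →* H)) (h : H) : H := (l.map (fun φ => φ h)).prod

theorem lprod_nil (h : H) : lprod ([] : List (H →* H)) h = 1 := rfl

theorem lprod_cons (φ : H →* H) (l : List (H →* H)) (h : H) :
    lprod (φ :: l) h = φ h * lprod l h := by
  unfold lprod
  rw [List.map_cons, List.prod_cons]

/-- the images commute elementwise -/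
def CommIm (φ ψ : H →* H) : Prop := ∀ a b : H, Commute (φ a) (ψ b)

theorem commute_lprod {φ : H →* H} {l : List (H →* H)} (h : ∀ ψ ∈ l, CommIm φ ψ) (a b : H) :
    Commute (φ a) (lprod l b) := by
  induction l with
  | nil => rw [lprod_nil]; exact Commute.one_right _
  | cons ψ t ih =>
    rw [lprod_cons]
    apply Commute.mul_right
    · exact h ψ (List.mem_cons_self) a b
    · exact ih (fun χ hχ => h χ (List.mem_cons_of_mem _ hχ))

theorem lprod_one (l : List (H →* H)) : lprod l 1 = 1 := by
  induction l with
  | nil => rfl
  | cons φ t ih => rw [lprod_cons, map_one, ih, one_mul]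

theorem lprod_mul {l : List (H →* H)} (hc : l.Pairwise CommIm) (a b : H) :
    lprod l (a * b) = lprod l a * lprod l b := by
  induction l with
  | nil => rw [lprod_nil, lprod_nil, lprod_nil, one_mul]
  | cons φ t ih =>
    rw [List.pairwise_cons] at hc
    rw [lprod_cons, lprod_cons, lprod_cons, map_mul, ih hc.2]
    have h1 : Commute (φ b) (lprod t a) := commute_lprod hc.1 b a
    calc φ a * φ b * (lprod t a * lprod t b) = φ a * (φ b * lprod t a) * lprod t b := by group
      _ = φ a * (lprod t a * φ b) * lprod t b := by rw [h1.eq]
      _ = φ a * lprod t a * (φ b * lprod t b) := by group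

/-- the sum as an endomorphism -/
def lsum (l : List (H →* H)) (hc : l.Pairwise CommIm) : H →* H where
  toFun := lprod l
  map_one' := lprod_one l
  map_mul' := lprod_mul hc

theorem lsum_apply (l : List (H →* H)) (hc : l.Pairwise CommIm) (h : H) :
    lsum l hc h = lprod l h := rfl

theorem lprod_conj {l : List (H →* H)} (hn : ∀ φ ∈ l, IsNormalEnd φ) (a h : H) :
    lprod l (a * h * a⁻¹) = a * lprod l h * a⁻¹ := by
  induction l with
  | nil => rw [lprod_nil, lprod_nil]; group
  | cons φ t ih =>
    rw [lprod_cons, lprod_cons, hn φ (List.mem_cons_self), ih (fun ψ hψ => hn ψ (List.mem_cons_of_mem _ hψ))]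
    group

theorem lprod_map_comp (θ : H →* H) (l : List (H →* H)) (h : H) :
    lprod (l.map (fun φ => θ.comp φ)) h = θ (lprod l h) := by
  induction l with
  | nil => simp [lprod]
  | cons φ t ih => rw [List.map_cons, lprod_cons, lprod_cons, ih, map_mul]; rfl

variable [Finite H]

/-- **Lemma S.** If `φ + ψ = 1` with `ψ` normal, then one of them is injective. -/
theorem injective_or_injective (hH : Indec H) (φ ψ : H →* H) (hψ : IsNormalEnd ψ)
    (hsum : ∀ h : H, φ h * ψ h = h) : Function.Injective φ ∨ Function.Injective ψ := by
  rcases injective_or_nilpotent hH hψ with h | ⟨k, hk⟩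
  · right; exact h
  · left
    rw [injective_iff_map_eq_one]
    intro a ha
    have h1 : ψ a = a := by
      have := hsum a
      rwa [ha, one_mul] at this
    have h2 : ∀ j : ℕ, pw ψ j a = a := by
      intro j
      induction j with
      | zero => rfl
      | succ j ih => rw [pw_succ_apply, ih, h1]
    rw [← h2 k, hk]

/-- **Lemma N.** If a list of normal endomorphisms with commuting images sums to the identity of
a nontrivial indecomposable finite group, then one of them is injective. -/
theorem exists_injective_of_lprod (hH : Indec H) [Nontrivial H] :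
    ∀ (n : ℕ) (l : List (H →* H)), l.length = n → (∀ φ ∈ l, IsNormalEnd φ) → l.Pairwise CommIm →
      (∀ h : H, lprod l h = h) → ∃ φ ∈ l, Function.Injective φ := by
  intro n
  induction n with
  | zero =>
    intro l hl _ _ hp
    exfalso
    rw [List.length_eq_zero_iff] at hl
    subst hl
    obtain ⟨a, b, hab⟩ := exists_pair_ne H
    apply hab
    rw [← hp a, ← hp b]
    rfl
  | succ n ih =>
    intro l hl hn hc hp
    match l, hl, hn, hc, hp with
    | φ :: t, hl, hn, hc, hp =>
      rw [List.pairwise_cons] at hc
      have hnt : ∀ ψ ∈ t, IsNormalEnd ψ := fun ψ hψ => hn ψ (List.mem_cons_of_mem _ hψ)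
      have hψn : IsNormalEnd (lsum t hc.2) := fun a h => lprod_conj hnt a h
      have hsum : ∀ h : H, φ h * lsum t hc.2 h = h := by
        intro h
        rw [lsum_apply, ← lprod_cons]
        exact hp h
      rcases injective_or_injective hH φ (lsum t hc.2) hψn hsum with h | h
      · exact ⟨φ, List.mem_cons_self, h⟩
      · have hbij : Function.Bijective (lsum t hc.2) := ⟨h, Finite.injective_iff_surjective.mp h⟩
        let e : H ≃* H := MulEquiv.ofBijective (lsum t hc.2) hbij
        have he : ∀ x, e x = lprod t x := fun x => rfl
        let θ : H →* H := e.symm.toMonoidHom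
        have hθ : ∀ x, θ (lprod t x) = x := by
          intro x
          show e.symm (lprod t x) = x
          rw [← he, MulEquiv.symm_apply_apply]
        have hθn : IsNormalEnd θ := by
          intro a x
          show e.symm (a * x * a⁻¹) = a * e.symm x * a⁻¹
          apply e.injective
          rw [MulEquiv.apply_symm_apply, he, lprod_conj hnt, ← he, MulEquiv.apply_symm_apply]
        have hlen : (t.map (fun ψ => θ.comp ψ)).length = n := by
          rw [List.length_map]
          simpa using hl
        have hn' : ∀ ψ' ∈ t.map (fun ψ => θ.comp ψ), IsNormalEnd ψ' := by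
          intro ψ' hψ'
          rw [List.mem_map] at hψ'
          obtain ⟨ψ, hψ, rfl⟩ := hψ'
          intro a x
          show θ (ψ (a * x * a⁻¹)) = a * θ (ψ x) * a⁻¹
          rw [hnt ψ hψ, hθn]
        have hc' : (t.map (fun ψ => θ.comp ψ)).Pairwise CommIm := by
          rw [List.pairwise_map]
          apply hc.2.imp
          intro ψ χ hcomm a b
          show Commute (θ (ψ a)) (θ (χ b))
          exact (hcomm a b).map θ
        have hp' : ∀ x : H, lprod (t.map (fun ψ => θ.comp ψ)) x = x := by
          intro x
          rw [lprod_map_comp, hθ]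
        obtain ⟨ψ', hψ', hinj⟩ := ih _ hlen hn' hc' hp'
        rw [List.mem_map] at hψ'
        obtain ⟨ψ, hψ, rfl⟩ := hψ'
        refine ⟨ψ, List.mem_cons_of_mem _ hψ, ?_⟩
        intro a b hab
        apply hinj
        show θ (ψ a) = θ (ψ b)
        rw [hab]

end sums

end Cfsg.Agent.Lib.Lead.KS
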