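import Mathlib
import Cfsg.Agent.Lib.Lead.KS2

set_option autoImplicit false
set_option linter.unusedSectionVars false

namespace Cfsg.Agent.Lib.Lead.KS

universe u v

section proj

variable {G : Type u} [Group G]

/-- the internal direct product of two complementary normal subgroups -/
noncomputable def prodIso (H R : Subgroup G) [H.Normal] [R.Normal] (hinf : H ⊓ R = ⊥)
    (hsup : H ⊔ R = ⊤) : H × R ≃* G := by
  have hcomm : ∀ (h : H) (r : R), Commute (H.subtype h) (R.subtype r) := fun h r =>
    Subgroup.commute_of_normal_of_disjoint H R inferInstance inferInstance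
      (disjoint_iff.mpr hinf) h.1 r.1 h.2 r.2
  refine MulEquiv.ofBijective (MonoidHom.noncommCoprod H.subtype R.subtype hcomm) ⟨?_, ?_⟩
  · rw [injective_iff_map_eq_one]
    intro x hx
    rw [MonoidHom.noncommCoprod_apply] at hx
    have h1 : (x.1 : G) = (x.2 : G)⁻¹ := eq_inv_of_mul_eq_one_left hx
    have h2 : (x.1 : G) ∈ H ⊓ R := Subgroup.mem_inf.mpr ⟨x.1.2, by rw [h1]; exact R.inv_mem x.2.2⟩
    rw [hinf, Subgroup.mem_bot] at h2
    have h3 : (x.2 : G) = 1 := by
      have hx' : (x.1 : G) * (x.2 : G) = 1 := hx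
      rw [h2, one_mul] at hx'
      exact hx'
    exact Prod.ext (Subtype.ext h2) (Subtype.ext h3)
  · intro g
    have hg : g ∈ ((H ⊔ R : Subgroup G) : Set G) := by rw [hsup]; exact Set.mem_univ g
    rw [Subgroup.mul_normal] at hg
    obtain ⟨h, hh, r, hr, rfl⟩ := Set.mem_mul.mp hg
    exact ⟨(⟨h, hh⟩, ⟨r, hr⟩), rfl⟩

theorem prodIso_apply (H R : Subgroup G) [H.Normal] [R.Normal] (hinf : H ⊓ R = ⊥)
    (hsup : H ⊔ R = ⊤) (x : H × R) : prodIso H R hinf hsup x = (x.1 : G) * (x.2 : G) := rfl

/-- the projection onto the first factor -/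
noncomputable def proj (H R : Subgroup G) [H.Normal] [R.Normal] (hinf : H ⊓ R = ⊥)
    (hsup : H ⊔ R = ⊤) : G →* H :=
  (MonoidHom.fst H R).comp (prodIso H R hinf hsup).symm.toMonoidHom

theorem proj_coe (H R : Subgroup G) [H.Normal] [R.Normal] (hinf : H ⊓ R = ⊥)
    (hsup : H ⊔ R = ⊤) (h : H) : proj H R hinf hsup (h : G) = h := by
  have : (prodIso H R hinf hsup).symm (h : G) = (h, 1) := by
    rw [MulEquiv.symm_apply_eq, prodIso_apply]
    simp
  show ((prodIso H R hinf hsup).symm (h : G)).1 = h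
  rw [this]

theorem proj_eq_one_iff (H R : Subgroup G) [H.Normal] [R.Normal] (hinf : H ⊓ R = ⊥)
    (hsup : H ⊔ R = ⊤) (g : G) : proj H R hinf hsup g = 1 ↔ g ∈ R := by
  constructor
  · intro h
    have h1 : g = prodIso H R hinf hsup ((prodIso H R hinf hsup).symm g) :=
      (MulEquiv.apply_symm_apply _ g).symm
    rw [prodIso_apply] at h1
    have h2 : ((prodIso H R hinf hsup).symm g).1 = 1 := h
    rw [h2] at h1
    rw [h1]
    simp
  · intro hg
    have : (prodIso H R hinf hsup).symm g = (1, ⟨g, hg⟩) := by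
      rw [MulEquiv.symm_apply_eq, prodIso_apply]
      simp
    show ((prodIso H R hinf hsup).symm g).1 = 1
    rw [this]

end proj

section pi

variable {κ : Type} [Fintype κ] [DecidableEq κ] {B : κ → Type u} [∀ j, Group (B j)]

/-- the projection to a coordinate subgroup, as an endomorphism -/
def rho (j : κ) : (∀ j, B j) →* (∀ j, B j) :=
  (MonoidHom.mulSingle B j).comp (Pi.evalMonoidHom B j)

theorem rho_apply (j : κ) (g : ∀ j, B j) : rho j g = Pi.mulSingle j (g j) := rfl

theorem rho_conj (j : κ) (a g : ∀ j, B j) : rho j (a * g * a⁻¹) = a * rho j g * a⁻¹ := by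
  funext x
  rw [rho_apply, rho_apply]
  by_cases hx : x = j
  · subst hx
    simp
  · simp [Pi.mulSingle_eq_of_ne hx]

theorem rho_commute {j k : κ} (hjk : j ≠ k) (a b : ∀ j, B j) : Commute (rho j a) (rho k b) := by
  rw [rho_apply, rho_apply]
  exact Pi.mulSingle_commute hjk _ _

theorem list_prod_rho_apply (g : ∀ j, B j) (x : κ) :
    ∀ l : List κ, l.Nodup → ((l.map (fun j => rho j g)).prod) x = if x ∈ l then g x else 1 := by
  intro l
  induction l with
  | nil => intro _; simp
  | cons a t ih =>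
    intro hnd
    rw [List.nodup_cons] at hnd
    rw [List.map_cons, List.prod_cons, Pi.mul_apply, ih hnd.2, rho_apply]
    by_cases hxa : x = a
    · subst hxa
      rw [Pi.mulSingle_eq_same, if_neg hnd.1, mul_one, if_pos List.mem_cons_self]
    · rw [Pi.mulSingle_eq_of_ne hxa, one_mul]
      by_cases hxt : x ∈ t
      · rw [if_pos hxt, if_pos (List.mem_cons_of_mem _ hxt)]
      · rw [if_neg hxt, if_neg]
        intro h
        rcases List.mem_cons.mp h with h | h
        · exact hxa h
        · exact hxt h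

theorem list_prod_rho (g : ∀ j, B j) :
    ((Finset.univ.toList : List κ).map (fun j => rho j g)).prod = g := by
  funext x
  rw [list_prod_rho_apply g x _ (Finset.nodup_toList _), if_pos (Finset.mem_toList.mpr (Finset.mem_univ x))]

variable [∀ j, Finite (B j)]

/-- **The exchange lemma.** -/
theorem exchange (hB : ∀ j, Indec (B j)) (H R : Subgroup (∀ j, B j)) [hHn : H.Normal]
    [hRn : R.Normal] (hinf : H ⊓ R = ⊥) (hsup : H ⊔ R = ⊤) (hH : Indec H) [Nontrivial H] :
    ∃ j : κ, Nonempty (H ≃* B j) ∧ Nonempty (R ≃* (∀ x : {x : κ // x ≠ j}, B x)) := by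
  classical
  let π := proj H R hinf hsup
  let φ : κ → (H →* H) := fun j => π.comp ((rho j).comp H.subtype)
  have hφ : ∀ j (h : H), φ j h = π (rho j (h : ∀ j, B j)) := fun j h => rfl
  have hφn : ∀ j, IsNormalEnd (φ j) := by
    intro j a h
    rw [hφ, hφ]
    have : ((a * h * a⁻¹ : H) : ∀ j, B j) = (a : ∀ j, B j) * (h : ∀ j, B j) * (a : ∀ j, B j)⁻¹ := rfl
    rw [this, rho_conj, map_mul, map_mul, map_inv, proj_coe]
  have hφc : ∀ j k, j ≠ k → CommIm (φ j) (φ k) := by
    intro j k hjk a b
    rw [hφ, hφ]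
    exact (rho_commute hjk _ _).map π
  -- the list of all the endomorphisms
  let l : List (H →* H) := (Finset.univ.toList : List κ).map φ
  have hl_n : ∀ ψ ∈ l, IsNormalEnd ψ := by
    intro ψ hψ
    obtain ⟨j, -, rfl⟩ := List.mem_map.mp hψ
    exact hφn j
  have hl_c : l.Pairwise CommIm := by
    rw [List.pairwise_map]
    have hnd : (Finset.univ.toList : List κ).Nodup := Finset.nodup_toList _
    exact hnd.imp (fun {j k} hjk => hφc j k hjk)
  have hl_p : ∀ h : H, lprod l h = h := by
    intro h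
    unfold lprod
    rw [List.map_map]
    have h1 : ((Finset.univ.toList : List κ).map ((fun ψ : H →* H => ψ h) ∘ φ))
        = ((Finset.univ.toList : List κ).map (fun j => rho j (h : ∀ j, B j))).map π := by
      rw [List.map_map]
      rfl
    rw [h1, ← map_list_prod, list_prod_rho, proj_coe]
  have : Finite H := inferInstance
  obtain ⟨ψ, hψl, hψinj⟩ := exists_injective_of_lprod hH l.length l rfl hl_n hl_c hl_p
  obtain ⟨j, -, rfl⟩ := List.mem_map.mp hψl
  have hsurj : Function.Surjective (φ j) := Finite.injective_iff_surjective.mp hψinj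
  refine ⟨j, ?_, ?_⟩
  -- the two normal subgroups of `B j`
  all_goals
    have hXn : (H.map (Pi.evalMonoidHom B j)).Normal :=
      hHn.map _ (fun b => ⟨Pi.mulSingle j b, by simp⟩)
    have hYn : (R.comap (MonoidHom.mulSingle B j)).Normal := hRn.comap _
    have hXY : H.map (Pi.evalMonoidHom B j) ⊓ R.comap (MonoidHom.mulSingle B j) = ⊥ := by
      rw [eq_bot_iff]
      intro b hb
      obtain ⟨hb1, hb2⟩ := Subgroup.mem_inf.mp hb
      obtain ⟨h, hh, rfl⟩ := hb1
      rw [Subgroup.mem_comap] at hb2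
      have h1 : φ j ⟨h, hh⟩ = 1 := by
        rw [hφ]
        exact (proj_eq_one_iff H R hinf hsup _).mpr hb2
      have h2 : (⟨h, hh⟩ : H) = 1 := by
        apply hψinj
        rw [h1, map_one]
      have h3 : h = 1 := congrArg Subtype.val h2
      rw [Subgroup.mem_bot, h3]
      rfl
    have hXYtop : H.map (Pi.evalMonoidHom B j) ⊔ R.comap (MonoidHom.mulSingle B j) = ⊤ := by
      rw [eq_top_iff]
      intro b _
      obtain ⟨h, hh⟩ := hsurj (π (Pi.mulSingle j b))
      rw [hφ] at hh
      have h1 : Pi.mulSingle j (b * ((h : ∀ j, B j) j)⁻¹) ∈ R := by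
        rw [← proj_eq_one_iff H R hinf hsup]
        have : Pi.mulSingle j (b * ((h : ∀ j, B j) j)⁻¹)
            = Pi.mulSingle j b * (rho j (h : ∀ j, B j))⁻¹ := by
          rw [rho_apply, ← Pi.mulSingle_inv, ← Pi.mulSingle_mul]
        rw [this, map_mul, map_inv]
        show π (Pi.mulSingle j b) * (π (rho j (h : ∀ j, B j)))⁻¹ = 1
        rw [hh, mul_inv_cancel]
      have h2 : b = (b * ((h : ∀ j, B j) j)⁻¹) * ((h : ∀ j, B j) j) := by group
      rw [h2]
      exact Subgroup.mul_mem _ (Subgroup.mem_sup_right h1)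
        (Subgroup.mem_sup_left ⟨(h : ∀ j, B j), h.2, rfl⟩)
    have hY : R.comap (MonoidHom.mulSingle B j) = ⊥ := by
      rcases hB j _ _ hXn hYn hXY hXYtop with h | h
      · exfalso
        obtain ⟨a, ha⟩ := exists_ne (1 : H)
        apply ha
        apply hψinj
        rw [map_one, hφ]
        have h1 : (a : ∀ j, B j) j ∈ H.map (Pi.evalMonoidHom B j) := ⟨a.1, a.2, rfl⟩
        rw [h, Subgroup.mem_bot] at h1
        rw [rho_apply, h1, Pi.mulSingle_one, map_one]
      · exact h
  · -- `H ≃* B j`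
    let f : H →* B j := (Pi.evalMonoidHom B j).comp H.subtype
    have hf : ∀ h : H, f h = (h : ∀ j, B j) j := fun h => rfl
    have hfinj : Function.Injective f := by
      rw [injective_iff_map_eq_one]
      intro h hh
      apply hψinj
      rw [map_one, hφ, rho_apply, ← hf, hh, Pi.mulSingle_one, map_one]
    have hfsurj : Function.Surjective f := by
      intro b
      have hb : b ∈ H.map (Pi.evalMonoidHom B j) ⊔ R.comap (MonoidHom.mulSingle B j) := by
        rw [hXYtop]; exact Subgroup.mem_top b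
      rw [hY, sup_bot_eq] at hb
      obtain ⟨h, hh, rfl⟩ := hb
      exact ⟨⟨h, hh⟩, rfl⟩
    exact ⟨MulEquiv.ofBijective f ⟨hfinj, hfsurj⟩⟩
  · -- `R ≃* ∏_{x ≠ j} B x`
    let f : R →* (∀ x : {x : κ // x ≠ j}, B x) :=
      { toFun := fun r x => (r : ∀ j, B j) x
        map_one' := rfl
        map_mul' := fun a b => rfl }
    have hf : ∀ (r : R) (x : {x : κ // x ≠ j}), f r x = (r : ∀ j, B j) x := fun r x => rfl
    have hfinj : Function.Injective f := by
      rw [injective_iff_map_eq_one]
      intro r hr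
      have h1 : (r : ∀ j, B j) = Pi.mulSingle j ((r : ∀ j, B j) j) := by
        funext x
        by_cases hx : x = j
        · subst hx
          rw [Pi.mulSingle_eq_same]
        · rw [Pi.mulSingle_eq_of_ne hx]
          have := congrFun hr ⟨x, hx⟩
          exact this
      have h2 : (r : ∀ j, B j) j ∈ R.comap (MonoidHom.mulSingle B j) := by
        rw [Subgroup.mem_comap]
        show Pi.mulSingle j ((r : ∀ j, B j) j) ∈ R
        rw [← h1]
        exact r.2
      rw [hY, Subgroup.mem_bot] at h2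
      apply Subtype.ext
      rw [h1, h2, Pi.mulSingle_one]
      rfl
    have hfsurj : Function.Surjective f := by
      intro t
      let g : ∀ j, B j := fun x => if hx : x = j then 1 else t ⟨x, hx⟩
      obtain ⟨h', hh'⟩ := hsurj (π g)⁻¹
      rw [hφ] at hh'
      have hr : g * rho j (h' : ∀ j, B j) ∈ R := by
        rw [← proj_eq_one_iff H R hinf hsup, map_mul]
        show π g * π (rho j (h' : ∀ j, B j)) = 1
        rw [hh', mul_inv_cancel]
      refine ⟨⟨_, hr⟩, ?_⟩
      funext x
      rw [hf]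
      show (g * rho j (h' : ∀ j, B j)) x.1 = t x
      rw [Pi.mul_apply, rho_apply, Pi.mulSingle_eq_of_ne x.2, mul_one]
      show (if hx : x.1 = j then 1 else t ⟨x.1, hx⟩) = t x
      rw [dif_neg x.2]
    exact ⟨MulEquiv.ofBijective f ⟨hfinj, hfsurj⟩⟩

end pi

end Cfsg.Agent.Lib.Lead.KS
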