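import Mathlib
import Cfsg.Agent.Lib.Lead.KS3

set_option autoImplicit false
set_option linter.unusedSectionVars false

namespace Cfsg.Agent.Lib.Lead.KS

universe u v

theorem Indec.of_mulEquiv {X : Type u} {Y : Type v} [Group X] [Group Y] (e : X ≃* Y)
    (h : Indec X) : Indec Y := by
  intro U V hU hV hinf hsup
  have hsurj : Function.Surjective e.toMonoidHom := e.surjective
  have h1 : U.comap e.toMonoidHom ⊓ V.comap e.toMonoidHom = ⊥ := by
    rw [← Subgroup.comap_inf, hinf, MonoidHom.comap_bot]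
    exact (MonoidHom.ker_eq_bot_iff _).mpr e.injective
  have h2 : U.comap e.toMonoidHom ⊔ V.comap e.toMonoidHom = ⊤ := by
    rw [Subgroup.comap_sup_eq _ _ _ hsurj, hsup, Subgroup.comap_top]
  rcases h _ _ (hU.comap _) (hV.comap _) h1 h2 with h3 | h3
  · left
    rw [← Subgroup.map_comap_eq_self_of_surjective hsurj U, h3, Subgroup.map_bot]
  · right
    rw [← Subgroup.map_comap_eq_self_of_surjective hsurj V, h3, Subgroup.map_bot]

section coord

variable {ι : Type} [DecidableEq ι] {A : ι → Type u} [∀ i, Group (A i)]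

theorem range_mulSingle_normal (i₀ : ι) : (MonoidHom.mulSingle A i₀).range.Normal := by
  refine ⟨fun f hf g => ?_⟩
  obtain ⟨a, rfl⟩ := hf
  refine ⟨g i₀ * a * (g i₀)⁻¹, ?_⟩
  funext x
  show Pi.mulSingle i₀ (g i₀ * a * (g i₀)⁻¹) x = (g * Pi.mulSingle i₀ a * g⁻¹) x
  by_cases hx : x = i₀
  · subst hx
    simp
  · simp [Pi.mulSingle_eq_of_ne hx]

theorem range_mulSingle_inf_ker (i₀ : ι) :
    (MonoidHom.mulSingle A i₀).range ⊓ (Pi.evalMonoidHom A i₀).ker = ⊥ := by
  rw [eq_bot_iff]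
  intro f hf
  obtain ⟨⟨a, rfl⟩, h2⟩ := Subgroup.mem_inf.mp hf
  rw [MonoidHom.mem_ker] at h2
  have : a = 1 := by
    have h3 : Pi.mulSingle i₀ a i₀ = (1 : A i₀) := h2
    rwa [Pi.mulSingle_eq_same] at h3
  rw [Subgroup.mem_bot, this]
  exact map_one _

theorem range_mulSingle_sup_ker (i₀ : ι) :
    (MonoidHom.mulSingle A i₀).range ⊔ (Pi.evalMonoidHom A i₀).ker = ⊤ := by
  rw [eq_top_iff]
  intro f _
  have h1 : f = Pi.mulSingle i₀ (f i₀) * ((Pi.mulSingle i₀ (f i₀))⁻¹ * f) := by group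
  rw [h1]
  have h2 : Pi.mulSingle i₀ (f i₀) ∈ (MonoidHom.mulSingle A i₀).range := ⟨f i₀, rfl⟩
  have h3 : (Pi.mulSingle i₀ (f i₀))⁻¹ * f ∈ (Pi.evalMonoidHom A i₀).ker := by
    rw [MonoidHom.mem_ker]
    show ((Pi.mulSingle i₀ (f i₀))⁻¹ * f) i₀ = 1
    simp
  exact Subgroup.mul_mem _ (Subgroup.mem_sup_left h2) (Subgroup.mem_sup_right h3)

/-- the coordinate subgroup is the coordinate group -/
noncomputable def rangeMulSingleEquiv (i₀ : ι) : (MonoidHom.mulSingle A i₀).range ≃* A i₀ :=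
  (MonoidHom.ofInjective (f := MonoidHom.mulSingle A i₀) (Pi.mulSingle_injective i₀)).symm

/-- the kernel of a coordinate is the product of the others -/
def kerEvalEquiv (i₀ : ι) : (Pi.evalMonoidHom A i₀).ker ≃* (∀ x : {x : ι // x ≠ i₀}, A x) where
  toFun f x := (f : ∀ i, A i) x
  invFun g := ⟨fun i => if h : i = i₀ then 1 else g ⟨i, h⟩, by
    rw [MonoidHom.mem_ker]
    show (if h : i₀ = i₀ then (1 : A i₀) else g ⟨i₀, h⟩) = 1
    rw [dif_pos rfl]⟩
  left_inv f := by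
    apply Subtype.ext
    funext i
    show (if h : i = i₀ then (1 : A i) else (f : ∀ i, A i) i) = (f : ∀ i, A i) i
    by_cases h : i = i₀
    · rw [dif_pos h]
      subst h
      exact (MonoidHom.mem_ker.mp f.2).symm
    · rw [dif_neg h]
  right_inv g := by
    funext x
    show (if h : x.1 = i₀ then (1 : A x.1) else g ⟨x.1, h⟩) = g x
    rw [dif_neg x.2]
  map_mul' f g := rfl

end coord

/-- extending a bijection of complements of points -/
def extendEquiv {ι κ : Type} [DecidableEq ι] [DecidableEq κ] (i₀ : ι) (j₀ : κ)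
    (σ' : {i : ι // i ≠ i₀} ≃ {j : κ // j ≠ j₀}) : ι ≃ κ where
  toFun i := if h : i = i₀ then j₀ else (σ' ⟨i, h⟩).1
  invFun j := if h : j = j₀ then i₀ else (σ'.symm ⟨j, h⟩).1
  left_inv i := by
    by_cases h : i = i₀
    · simp [h]
    · have h1 : (σ' ⟨i, h⟩).1 ≠ j₀ := (σ' ⟨i, h⟩).2
      simp [h, h1]
  right_inv j := by
    by_cases h : j = j₀
    · simp [h]
    · have h1 : (σ'.symm ⟨j, h⟩).1 ≠ i₀ := (σ'.symm ⟨j, h⟩).2
      simp [h, h1]

theorem extendEquiv_self {ι κ : Type} [DecidableEq ι] [DecidableEq κ] (i₀ : ι) (j₀ : κ)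
    (σ' : {i : ι // i ≠ i₀} ≃ {j : κ // j ≠ j₀}) : extendEquiv i₀ j₀ σ' i₀ = j₀ := by
  simp [extendEquiv]

theorem extendEquiv_ne {ι κ : Type} [DecidableEq ι] [DecidableEq κ] (i₀ : ι) (j₀ : κ)
    (σ' : {i : ι // i ≠ i₀} ≃ {j : κ // j ≠ j₀}) (i : ι) (h : i ≠ i₀) :
    extendEquiv i₀ j₀ σ' i = (σ' ⟨i, h⟩).1 := by
  simp [extendEquiv, h]

/-- **Krull–Remak–Schmidt** for finite groups. -/
theorem krull_schmidt : ∀ (m : ℕ) (ι : Type) [Fintype ι] [DecidableEq ι], Fintype.card ι = m →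
    ∀ (A : ι → Type u) [∀ i, Group (A i)] [∀ i, Finite (A i)],
      (∀ i, Nontrivial (A i) ∧ Indec (A i)) →
    ∀ (κ : Type) [Fintype κ] [DecidableEq κ] (B : κ → Type v) [∀ j, Group (B j)]
      [∀ j, Finite (B j)], (∀ j, Nontrivial (B j) ∧ Indec (B j)) →
      ((∀ i, A i) ≃* (∀ j, B j)) → ∃ σ : ι ≃ κ, ∀ i, Nonempty (A i ≃* B (σ i)) := by
  intro m
  induction m with
  | zero =>
    intro ι _ _ hcard A _ _ hA κ _ _ B _ _ hB e
    have hι : IsEmpty ι := Fintype.card_eq_zero_iff.mp hcard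
    have hκ : IsEmpty κ := by
      refine ⟨fun j => ?_⟩
      have := (hB j).1
      obtain ⟨b, hb⟩ := exists_ne (1 : B j)
      have h1 : e.symm (Pi.mulSingle j b) = e.symm 1 := Subsingleton.elim _ _
      have h2 := e.symm.injective h1
      apply hb
      have h3 := congrFun h2 j
      rwa [Pi.mulSingle_eq_same] at h3
    exact ⟨Equiv.equivOfIsEmpty ι κ, fun i => isEmptyElim i⟩
  | succ m ih =>
    intro ι _ _ hcard A _ _ hA κ _ _ B _ _ hB e
    have hne : Nonempty ι := by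
      rw [← Fintype.card_pos_iff, hcard]; exact Nat.succ_pos m
    obtain ⟨i₀⟩ := hne
    -- the two subgroups of `∏ B`
    let K₀ : Subgroup (∀ i, A i) := (MonoidHom.mulSingle A i₀).range
    let L₀ : Subgroup (∀ i, A i) := (Pi.evalMonoidHom A i₀).ker
    let H : Subgroup (∀ j, B j) := K₀.map e.toMonoidHom
    let R : Subgroup (∀ j, B j) := L₀.map e.toMonoidHom
    have hesurj : Function.Surjective e.toMonoidHom := e.surjective
    have heinj : Function.Injective e.toMonoidHom := e.injective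
    have hHn : H.Normal := (range_mulSingle_normal i₀).map _ hesurj
    have hRn : R.Normal := (MonoidHom.normal_ker _).map _ hesurj
    have hinf : H ⊓ R = ⊥ := by
      show K₀.map e.toMonoidHom ⊓ L₀.map e.toMonoidHom = ⊥
      rw [← Subgroup.map_inf _ _ _ heinj, range_mulSingle_inf_ker, Subgroup.map_bot]
    have hsup : H ⊔ R = ⊤ := by
      show K₀.map e.toMonoidHom ⊔ L₀.map e.toMonoidHom = ⊤
      rw [← Subgroup.map_sup, range_mulSingle_sup_ker, ← MonoidHom.range_eq_map,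
        MonoidHom.range_eq_top]
      exact hesurj
    let eH : H ≃* A i₀ :=
      (Subgroup.equivMapOfInjective K₀ e.toMonoidHom heinj).symm.trans (rangeMulSingleEquiv i₀)
    let eR : R ≃* (∀ x : {x : ι // x ≠ i₀}, A x) :=
      (Subgroup.equivMapOfInjective L₀ e.toMonoidHom heinj).symm.trans (kerEvalEquiv i₀)
    have hHind : Indec H := (hA i₀).2.of_mulEquiv eH.symm
    have : Nontrivial (A i₀) := (hA i₀).1
    have : Nontrivial H := eH.toEquiv.nontrivial
    obtain ⟨j₀, ⟨f1⟩, ⟨f2⟩⟩ := exchange (fun j => (hB j).2) H R hinf hsup hHind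
    -- apply the induction hypothesis
    have hcard' : Fintype.card {x : ι // x ≠ i₀} = m := by
      rw [Fintype.card_subtype_compl, Fintype.card_subtype_eq, hcard]
      rfl
    obtain ⟨σ', hσ'⟩ := ih {x : ι // x ≠ i₀} hcard' (fun x => A x.1) (fun x => hA x.1)
      {x : κ // x ≠ j₀} (fun x => B x.1) (fun x => hB x.1) (eR.symm.trans f2)
    refine ⟨extendEquiv i₀ j₀ σ', fun i => ?_⟩
    by_cases h : i = i₀
    · subst h
      rw [extendEquiv_self]
      exact ⟨eH.symm.trans f1⟩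
    · rw [extendEquiv_ne i₀ j₀ σ' i h]
      exact hσ' ⟨i, h⟩

end Cfsg.Agent.Lib.Lead.KS
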