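import Mathlib

/-!
# S4648 (Kuelshammer) swarm, package G2-LEMMA (lead)

An element `a` of a `k`-algebra with `a ^ n = 1`, where `k` contains a primitive `n`-th root of
unity, is a `k`-linear combination of idempotents (Lagrange basis polynomials at the `n`-th roots
of unity, evaluated at `a`).  Consequence: for `k` algebraically closed of characteristic `p` and
`g` a `p`-regular element of a finite group, `single g 1` lies in the span of the idempotents of
the group algebra.
-/

set_option autoImplicit false

namespace Cfsg.Agent.Lib.Lead.KulsL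

open Polynomial

/-- Evaluating polynomials at `a` on an "eigenvector" `ε` of `a`. -/
theorem aeval_mul_of_mul_eq {k A : Type*} [Field k] [Ring A] [Algebra k A] (a ε : A) (ω : k)
    (h : a * ε = ω • ε) (q : k[X]) : aeval a q * ε = (q.eval ω) • ε := by
  induction q using Polynomial.induction_on' with
  | add q r hq hr => rw [map_add, add_mul, hq, hr, eval_add, add_smul]
  | monomial m c =>
    have hpow : ∀ m : ℕ, a ^ m * ε = (ω ^ m) • ε := by
      intro m
      induction m with
      | zero => simp
      | succ m ih => rw [pow_succ, mul_assoc, h, mul_smul_comm, ih, smul_smul, pow_succ, mul_comm]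
    rw [aeval_monomial, eval_monomial, mul_assoc, hpow, Algebra.algebraMap_eq_smul_one,
      smul_mul_assoc, one_mul, smul_smul]

/-- An element of finite order `n` of a `k`-algebra is a combination of idempotents when `k`
has a primitive `n`-th root of unity. -/
theorem mem_span_idem_of_pow_eq_one {k A : Type*} [Field k] [Ring A] [Algebra k A] (n : ℕ)
    (hn : 0 < n) (ζ : k) (hζ : IsPrimitiveRoot ζ n) (a : A) (ha : a ^ n = 1) :
    a ∈ Submodule.span k {f : A | IsIdempotentElem f} := by
  classical
  set s : Finset k := nthRootsFinset n (1 : k) with hs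
  have hnod : Lagrange.nodal s id = X ^ n - 1 := by
    rw [Lagrange.nodal_eq, X_pow_sub_one_eq_prod hn hζ]
    rfl
  have hinj : Set.InjOn (id : k → k) s := Set.injOn_id _
  have hne : s.Nonempty := ⟨ζ, (mem_nthRootsFinset hn (1 : k)).2 hζ.pow_eq_one⟩
  set ε : k → A := fun ω => aeval a (Lagrange.basis s id ω) with hε
  -- a * ε ω = ω • ε ω
  have hev : ∀ ω ∈ s, a * ε ω = ω • ε ω := by
    intro ω hω
    have h1 : (X - C ω) * Lagrange.basis s id ω = C (Lagrange.nodalWeight s id ω) * (X ^ n - 1) := by
      rw [Lagrange.basis_eq_prod_sub_inv_mul_nodal_div hω, ← Lagrange.nodal_erase_eq_nodal_div hω,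
        ← hnod, Lagrange.nodal_eq_mul_nodal_erase hω]
      simp only [id]
      ring
    have h2 := congrArg (aeval a) h1
    rw [map_mul, map_mul, map_sub, map_sub, aeval_X, aeval_C, map_pow, aeval_X, map_one, ha, sub_self,
      mul_zero, sub_mul, sub_eq_zero] at h2
    rw [h2, Algebra.algebraMap_eq_smul_one, smul_mul_assoc, one_mul]
  have hidem : ∀ ω ∈ s, IsIdempotentElem (ε ω) := by
    intro ω hω
    have := aeval_mul_of_mul_eq a (ε ω) ω (hev ω hω) (Lagrange.basis s id ω)
    have h1 : (Lagrange.basis s id ω).eval ω = 1 := Lagrange.eval_basis_self (v := id) hinj hω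
    rw [h1, one_smul] at this
    exact this
  have hsum : ∑ ω ∈ s, ε ω = 1 := by
    rw [hε]
    simp only
    rw [← map_sum, Lagrange.sum_basis hinj hne, map_one]
  have ha' : a = ∑ ω ∈ s, ω • ε ω := by
    calc a = a * ∑ ω ∈ s, ε ω := by rw [hsum, mul_one]
      _ = ∑ ω ∈ s, a * ε ω := Finset.mul_sum _ _ _
      _ = ∑ ω ∈ s, ω • ε ω := Finset.sum_congr rfl hev
  rw [ha']
  exact Submodule.sum_mem _ fun ω hω =>
    Submodule.smul_mem _ _ (Submodule.subset_span (hidem ω hω))

/-- For `k` algebraically closed of characteristic `p` and a `p`-regular element `g` of a finite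
group, `single g 1` is a `k`-linear combination of idempotents of the group algebra. -/
theorem single_mem_span_idem {k : Type*} [Field k] [IsAlgClosed k] {G : Type*} [Group G]
    [Finite G] (p : ℕ) [CharP k p] (g : G) (hg : ¬ p ∣ orderOf g) :
    (MonoidAlgebra.single g (1 : k) : MonoidAlgebra k G) ∈
      Submodule.span k {f : MonoidAlgebra k G | IsIdempotentElem f} := by
  have hpos : 0 < orderOf g := orderOf_pos g
  have hne : ((orderOf g : ℕ) : k) ≠ 0 := by
    rw [Ne, CharP.cast_eq_zero_iff k p]
    exact hg
  have : NeZero ((orderOf g : ℕ) : k) := ⟨hne⟩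
  obtain ⟨ζ, hζ⟩ := HasEnoughRootsOfUnity.exists_primitiveRoot k (orderOf g)
  refine mem_span_idem_of_pow_eq_one (orderOf g) hpos ζ hζ _ ?_
  rw [MonoidAlgebra.single_pow, pow_orderOf_eq_one, one_pow]
  rfl

end Cfsg.Agent.Lib.Lead.KulsL
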