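import Mathlib
import Cfsg.Prelude.Def_Blocks
import Cfsg.Agent.Lib.Helper8.BlockLocal

/-! The residue field of the local ring at a `p`-modular maximal ideal has characteristic `p`
(for any ring hom `res` from the local ring whose kernel is the local ideal). -/

set_option autoImplicit false

open Cfsg Cfsg.Agent.Lib.Helper8

namespace Cfsg.Agent.Lib.Lead.KulsL

theorem natCast_resField_eq_zero_iff {M : Ideal AlgInt} {p : ℕ} (hM : IsPModular p M)
    {k : Type*} [Ring k] (res : ↥(localRing M (isPModular_isPrime hM)) →+* k)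
    (hres0 : ∀ z, res z = 0 ↔ MemLocalIdeal M (z : ℂ)) (n : ℕ) :
    (n : k) = 0 ↔ p ∣ n := by
  rw [← map_natCast res, hres0]
  have := memLocalIdeal_natCast_iff hM n
  simpa using this

theorem charP_resField {M : Ideal AlgInt} {p : ℕ} (hM : IsPModular p M)
    {k : Type*} [Ring k] (res : ↥(localRing M (isPModular_isPrime hM)) →+* k)
    (hres0 : ∀ z, res z = 0 ↔ MemLocalIdeal M (z : ℂ)) : CharP k p :=
  ⟨fun n => natCast_resField_eq_zero_iff hM res hres0 n⟩

theorem natCast_resField_ne_zero {M : Ideal AlgInt} {p : ℕ} (hM : IsPModular p M)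
    {k : Type*} [Ring k] (res : ↥(localRing M (isPModular_isPrime hM)) →+* k)
    (hres0 : ∀ z, res z = 0 ↔ MemLocalIdeal M (z : ℂ)) {n : ℕ} (hn : ¬ p ∣ n) :
    (n : k) ≠ 0 :=
  fun h => hn ((natCast_resField_eq_zero_iff hM res hres0 n).1 h)

end Cfsg.Agent.Lib.Lead.KulsL
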