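import Mathlib
import Cfsg.Prelude.Def_Solvable
import Cfsg.Prelude.Def_PLocal
import Cfsg.Agent.Lib.Helper9.PCore
import Cfsg.Agent.Lib.Helper9.Hyperfocal1
import Cfsg.Agent.Lib.Lead.QuadCenter
import Cfsg.Agent.Lib.Lead.QuadJ
import Cfsg.Agent.Lib.Lead.PowGen

set_option autoImplicit false

/-!
# The local step of the Frattini inductions (for S5220 / S5218)

For `G` with `C_G(O_p(G)) ≤ O_p(G)`, Sylow `p`-subgroup `P` and `W(P)` not normal, a normal subgroup `C₁` of `G`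
centralising the `p ^ k`-th powers of the elements of `Z(P)` with `P ∩ C₁ ≰ O_p(G)`.  Two instances: `W = J`
(abelian-version Thompson subgroup), `k = 1`; and `W = ` identity, `P` of class at most `c ≤ k (p - 1) + 1`.
-/

namespace Cfsg.Agent.Lib.Lead.LocalStep

open Cfsg Cfsg.Agent.Lib.Helper9 Cfsg.Agent.Lib.Lead.QuadCenter Cfsg.Agent.Lib.Lead.PowGen
open scoped commutatorElement

universe u

variable {p : ℕ} [hp : Fact p.Prime]

/-- the common construction: an element of `P` outside `O_p(G)` all of whose powers `g` with `g ^ p ∈ O_p(G)`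
centralise the `p ^ k`-th powers of `Z(O_p(G))`. -/
theorem local_step_core (G : Type u) [Group G] [Finite G] (P : Sylow p G)
    (hcent : Subgroup.centralizer ((Cfsg.pCore p G : Subgroup G) : Set G) ≤ Cfsg.pCore p G) (k : ℕ)
    (g₀ : G) (hg₀P : g₀ ∈ (P : Subgroup G)) (hg₀Q : g₀ ∉ Cfsg.pCore p G)
    (hkey : ∀ g ∈ Subgroup.zpowers g₀, g ^ p ∈ Cfsg.pCore p G →
      ∀ v ∈ (Subgroup.center ↥(Cfsg.pCore p G)).map (Cfsg.pCore p G).subtype,
        g * v ^ (p ^ k) = v ^ (p ^ k) * g) :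
    ∃ C₁ : Subgroup G, C₁.Normal ∧
      (∀ g, g ∈ C₁ → ∀ x, x ∈ (P : Subgroup G) → (∀ y, y ∈ (P : Subgroup G) → y * x = x * y) →
        g * x ^ (p ^ k) = x ^ (p ^ k) * g) ∧
      ¬ ((P : Subgroup G) ⊓ C₁ ≤ Cfsg.pCore p G) := by
  set Q := Cfsg.pCore p G with hQdef
  haveI hQn : Q.Normal := pCore_normal' p
  have hQP : Q ≤ (P : Subgroup G) := pCore_le_sylow P
  set ZQ := (Subgroup.center ↥Q).map Q.subtype with hZQ
  have hZPQ : ∀ x ∈ (P : Subgroup G), (∀ y ∈ (P : Subgroup G), y * x = x * y) → x ∈ ZQ := by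
    intro x hxP hxc
    have hxQ : x ∈ Q := by
      apply hcent
      rw [Subgroup.mem_centralizer_iff]
      intro y hy
      exact hxc y (hQP hy)
    rw [hZQ, mem_map_center_iff]
    exact ⟨hxQ, fun y hy => hxc y (hQP hy)⟩
  -- choose a power `g` of `g₀` with `g ∉ Q` and `g ^ p ∈ Q`
  have hex : ∃ j : ℕ, g₀ ^ (p ^ j) ∈ Q := by
    obtain ⟨j, hj⟩ := P.isPGroup' ⟨g₀, hg₀P⟩
    refine ⟨j, ?_⟩
    have : g₀ ^ (p ^ j) = 1 := by
      have := congrArg Subtype.val hj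
      simpa using this
    rw [this]
    exact Subgroup.one_mem _
  classical
  set j₀ := Nat.find hex with hj₀
  have hj0 : j₀ ≠ 0 := by
    intro h0
    have := Nat.find_spec hex
    rw [← hj₀, h0, pow_zero, pow_one] at this
    exact hg₀Q this
  obtain ⟨j', hj'⟩ := Nat.exists_eq_succ_of_ne_zero hj0
  set g := g₀ ^ (p ^ j') with hg
  have hgQ : g ∉ Q := by
    have := Nat.find_min hex (m := j') (by omega)
    exact this
  have hgp : g ^ p ∈ Q := by
    have := Nat.find_spec hex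
    rw [← hj₀, hj', pow_succ, pow_mul] at this
    exact this
  have hgP : g ∈ (P : Subgroup G) := Subgroup.pow_mem _ hg₀P _
  have hgz : g ∈ Subgroup.zpowers g₀ := Subgroup.pow_mem _ (Subgroup.mem_zpowers g₀) _
  set T : Set G := {z | ∃ v ∈ ZQ, z = v ^ (p ^ k)} with hT
  set C₁ := Subgroup.centralizer T with hC₁
  have hC₁mem : ∀ c : G, c ∈ C₁ ↔ ∀ v ∈ ZQ, v ^ (p ^ k) * c = c * v ^ (p ^ k) := by
    intro c
    rw [hC₁, Subgroup.mem_centralizer_iff]
    constructor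
    · intro H' v hv
      exact H' _ ⟨v, hv, rfl⟩
    · rintro H' _ ⟨v, hv, rfl⟩
      exact H' v hv
  refine ⟨C₁, ?_, ?_, ?_⟩
  · constructor
    intro c hc w
    rw [hC₁mem] at hc ⊢
    intro v hv
    have hv' : w⁻¹ * v * w⁻¹⁻¹ ∈ ZQ := map_center_conj_mem Q hv w⁻¹
    have := hc _ hv'
    rw [conj_pow] at this
    calc v ^ (p ^ k) * (w * c * w⁻¹)
        = w * ((w⁻¹ * v ^ (p ^ k) * w⁻¹⁻¹) * c) * w⁻¹ := by group
      _ = w * (c * (w⁻¹ * v ^ (p ^ k) * w⁻¹⁻¹)) * w⁻¹ := by rw [this]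
      _ = w * c * w⁻¹ * v ^ (p ^ k) := by group
  · intro c hc x hxP hxc
    exact ((hC₁mem c).mp hc x (hZPQ x hxP hxc)).symm
  · intro hle
    apply hgQ
    apply hle
    have hgC₁ : g ∈ C₁ := by
      rw [hC₁mem]
      intro v hv
      exact (hkey g hgz hgp v hv).symm
    exact ⟨hgP, hgC₁⟩

/-- instance (a): `W = J` (abelian-version Thompson subgroup), `k = 1`. -/
theorem local_step_WJ (G : Type u) [Group G] [Finite G] (P : Sylow p G)
    (hcent : Subgroup.centralizer ((Cfsg.pCore p G : Subgroup G) : Set G) ≤ Cfsg.pCore p G)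
    (hnn : ¬ (((Cfsg.Agent.Lib.Lead.QuadJ.WJ ↥(P : Subgroup G)).map (P : Subgroup G).subtype :
      Subgroup G)).Normal) :
    ∃ C₁ : Subgroup G, C₁.Normal ∧
      (∀ g, g ∈ C₁ → ∀ x, x ∈ (P : Subgroup G) → (∀ y, y ∈ (P : Subgroup G) → y * x = x * y) →
        g * x ^ (p ^ 1) = x ^ (p ^ 1) * g) ∧
      ¬ ((P : Subgroup G) ⊓ C₁ ≤ Cfsg.pCore p G) := by
  obtain ⟨g₀, hg₀P, hg₀Q, hquad₀⟩ := Cfsg.Agent.Lib.Lead.QuadJ.hq_WJ G P hnn
  haveI hQn : (Cfsg.pCore p G).Normal := pCore_normal' p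
  apply local_step_core G P hcent 1 g₀ hg₀P hg₀Q
  intro g hgz hgp v hv
  have hzle : Subgroup.zpowers g ≤ Subgroup.zpowers g₀ := Subgroup.zpowers_le.mpr hgz
  have hquad : ⁅⁅(Subgroup.center ↥(Cfsg.pCore p G)).map (Cfsg.pCore p G).subtype, Subgroup.zpowers g⁆,
      Subgroup.zpowers g⁆ = ⊥ := by
    rw [eq_bot_iff, ← hquad₀]
    exact Subgroup.commutator_mono (Subgroup.commutator_mono le_rfl hzle) hzle
  rw [pow_one]
  exact commute_pow_of_quadratic (Cfsg.pCore p G) g p hgp hquad hv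

/-- instance (b): `W = ` identity functor, `P` of class at most `c ≤ k (p - 1) + 1`. -/
theorem local_step_class (c k : ℕ) (hk : c ≤ k * (p - 1) + 1)
    (G : Type u) [Group G] [Finite G] (P : Sylow p G)
    (hcent : Subgroup.centralizer ((Cfsg.pCore p G : Subgroup G) : Set G) ≤ Cfsg.pCore p G)
    (hcl : Subgroup.lowerCentralSeries (P : Subgroup G) c = ⊥)
    (hnn : ¬ (((⊤ : Subgroup ↥(P : Subgroup G))).map (P : Subgroup G).subtype : Subgroup G).Normal) :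
    ∃ C₁ : Subgroup G, C₁.Normal ∧
      (∀ g, g ∈ C₁ → ∀ x, x ∈ (P : Subgroup G) → (∀ y, y ∈ (P : Subgroup G) → y * x = x * y) →
        g * x ^ (p ^ k) = x ^ (p ^ k) * g) ∧
      ¬ ((P : Subgroup G) ⊓ C₁ ≤ Cfsg.pCore p G) := by
  set Q := Cfsg.pCore p G with hQdef
  haveI hQn : Q.Normal := pCore_normal' p
  have hQP : Q ≤ (P : Subgroup G) := pCore_le_sylow P
  have htop : ((⊤ : Subgroup ↥(P : Subgroup G))).map (P : Subgroup G).subtype = (P : Subgroup G) := by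
    rw [← MonoidHom.range_eq_map, Subgroup.range_subtype]
  rw [htop] at hnn
  have hPQ : ¬ (P : Subgroup G) ≤ Q := by
    intro hle
    apply hnn
    rw [le_antisymm hle hQP]
    exact hQn
  obtain ⟨g₀, hg₀P, hg₀Q⟩ := SetLike.not_le_iff_exists.mp hPQ
  set ZQ := (Subgroup.center ↥Q).map Q.subtype with hZQ
  haveI hZQn : ZQ.Normal := ⟨fun v hv h => map_center_conj_mem Q hv h⟩
  have hZQQ : ZQ ≤ Q := fun v hv => ((mem_map_center_iff Q v).mp hv).1
  have hZQc : ∀ x ∈ ZQ, ∀ y ∈ ZQ, x * y = y * x := fun x hx y hy =>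
    ((mem_map_center_iff Q y).mp hy).2 x (hZQQ hx)
  apply local_step_core G P hcent k g₀ hg₀P hg₀Q
  intro g hgz hgp v hv
  have hgP : g ∈ (P : Subgroup G) := by
    obtain ⟨i, rfl⟩ := Subgroup.mem_zpowers_iff.mp hgz
    exact Subgroup.zpow_mem _ hg₀P i
  refine commute_ppow_of_class p ZQ hZQc g c k hk ?_ ?_ hv
  · intro w hw
    exact (((mem_map_center_iff Q w).mp hw).2 _ hgp)
  · intro w hw
    exact iterate_comm_eq_one_of_lcs (P : Subgroup G) c hcl hgP (hQP (hZQQ hw))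

end Cfsg.Agent.Lib.Lead.LocalStep
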