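import Mathlib
import Cfsg.Prelude.Def_LocalStructure
import Cfsg.Agent.Lib.Helper6.PReduced8
import Cfsg.Agent.Lib.Helper6.StrEmb
import Cfsg.Agent.Lib.Lead.Subnormalizer1

set_option autoImplicit false

/-! Monotonicity of the largest `p`-reduced normal subgroup along parabolic subgroups of
characteristic `p`. -/

namespace Cfsg.Agent.Lib.Lead.MSS

open Cfsg Cfsg.Agent.Lib.Helper6 Cfsg.Agent.Lib.Lead.Subnormalizer

variable {H : Type*} [Group H]

/-- If every element of `D` has a `p`-power in the normal subgroup `K` of `D`, the index of `K` in `D`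
is a power of `p`. -/
theorem relIndex_eq_pow_of_forall_pow_mem [Finite H] {p : ℕ} [Fact p.Prime] {D K : Subgroup H}
    (hDK : D ≤ Subgroup.normalizer (K : Set H))
    (hp : ∀ d ∈ D, ∃ k : ℕ, d ^ p ^ k ∈ K) : ∃ m : ℕ, K.relIndex D = p ^ m := by
  haveI hn : (K.subgroupOf D).Normal := Subgroup.normal_subgroupOf_of_le_normalizer hDK
  have hpg : IsPGroup p (↥D ⧸ K.subgroupOf D) := by
    intro q
    induction q using QuotientGroup.induction_on with
    | H d =>
      obtain ⟨k, hk⟩ := hp d.1 d.2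
      refine ⟨k, ?_⟩
      rw [← QuotientGroup.mk_pow]
      exact (QuotientGroup.eq_one_iff _).mpr (by rw [Subgroup.mem_subgroupOf]; simpa using hk)
  obtain ⟨m, hm⟩ := IsPGroup.iff_card.mp hpg
  refine ⟨m, ?_⟩
  rw [Subgroup.relIndex, Subgroup.index_eq_card]
  exact hm

/-- A subgroup `W` of `D` containing a Sylow `p`-subgroup of `D` and a normal subgroup of `p`-power
index is all of `D`. -/
theorem eq_of_sylow_le_of_pow_mem [Finite H] {p : ℕ} [Fact p.Prime] (T : Sylow p H)
    {D K W : Subgroup H} (hTD : (T : Subgroup H) ≤ Subgroup.normalizer (D : Set H))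
    (hDK : D ≤ Subgroup.normalizer (K : Set H))
    (hp : ∀ d ∈ D, ∃ k : ℕ, d ^ p ^ k ∈ K) (hKW : K ≤ W) (hTW : (T : Subgroup H) ⊓ D ≤ W) :
    D ≤ W := by
  obtain ⟨m, hm⟩ := relIndex_eq_pow_of_forall_pow_mem hDK hp
  have hsyl := isSylowOf_inf_of_le_normalizer T D hTD
  obtain ⟨S, hS⟩ := hsyl.exists_sylow
  have h1 : W.relIndex D ∣ K.relIndex D := Subgroup.relIndex_dvd_of_le_left D hKW
  have h2 : W.relIndex D ∣ ((T : Subgroup H) ⊓ D).relIndex D := Subgroup.relIndex_dvd_of_le_left D hTW
  have h3 : ((T : Subgroup H) ⊓ D).relIndex D = (S : Subgroup D).index := by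
    rw [Subgroup.relIndex, ← hS]
    congr 1
    exact Subgroup.comap_map_eq_self_of_injective D.subtype_injective _
  have h4 : ¬ p ∣ (S : Subgroup D).index := S.not_dvd_index
  have hp' : p.Prime := Fact.out
  have h5 : W.relIndex D = 1 := by
    rw [hm] at h1
    obtain ⟨j, _, hj⟩ := (Nat.dvd_prime_pow hp').mp h1
    rcases Nat.eq_zero_or_pos j with rfl | hjpos
    · simpa using hj
    · exfalso
      apply h4
      rw [← h3]
      refine dvd_trans ?_ h2
      rw [hj]
      exact dvd_pow_self p hjpos.ne'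
  exact Subgroup.relIndex_eq_one.mp h5


/-- The normal closure of `Y` under `B`, as a subgroup of the ambient group. -/
def ncl (B Y : Subgroup H) : Subgroup H :=
  Subgroup.closure {x | ∃ b ∈ B, ∃ y ∈ Y, x = b * y * b⁻¹}

theorem le_ncl (B Y : Subgroup H) : Y ≤ ncl B Y := by
  intro y hy
  exact Subgroup.subset_closure ⟨1, B.one_mem, y, hy, by simp⟩

theorem ncl_le {B Y P : Subgroup H} (hYP : Y ≤ P) (hBP : B ≤ Subgroup.normalizer (P : Set H)) :
    ncl B Y ≤ P := by
  unfold ncl
  rw [Subgroup.closure_le]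
  rintro _ ⟨b, hb, y, hy, rfl⟩
  exact conj_mem_of_le_normalizer hBP hb (hYP hy)

theorem le_normalizer_ncl (B Y : Subgroup H) : B ≤ Subgroup.normalizer (ncl B Y : Set H) := by
  apply le_normalizer_of_conj_mem
  intro b hb v hv
  unfold ncl at hv ⊢
  induction hv using Subgroup.closure_induction with
  | mem x hx =>
    obtain ⟨c, hc, y, hy, rfl⟩ := hx
    refine Subgroup.subset_closure ⟨b * c, B.mul_mem hb hc, y, hy, ?_⟩
    group
  | one => simp
  | mul x y _ _ hx hy =>
    have e : b * (x * y) * b⁻¹ = (b * x * b⁻¹) * (b * y * b⁻¹) := by group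
    rw [e]; exact Subgroup.mul_mem _ hx hy
  | inv x _ hx =>
    have e : b * x⁻¹ * b⁻¹ = (b * x * b⁻¹)⁻¹ := by group
    rw [e]; exact Subgroup.inv_mem _ hx

theorem le_centralizer_ncl {B Y D : Subgroup H} (hBD : B ≤ Subgroup.normalizer (D : Set H))
    (hDY : D ≤ Subgroup.centralizer (Y : Set H)) : D ≤ Subgroup.centralizer (ncl B Y : Set H) := by
  rw [Subgroup.le_centralizer_iff]
  unfold ncl
  rw [Subgroup.closure_le]
  rintro _ ⟨b, hb, y, hy, rfl⟩
  rw [SetLike.mem_coe, Subgroup.mem_centralizer_iff]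
  intro d hd
  have hd' : b⁻¹ * d * b ∈ D := conj_mem_of_le_normalizer' hBD hb hd
  have h1 := Subgroup.mem_centralizer_iff.mp (hDY hd') y hy
  calc d * (b * y * b⁻¹) = b * ((b⁻¹ * d * b) * y) * b⁻¹ := by group
    _ = b * (y * (b⁻¹ * d * b)) * b⁻¹ := by rw [← h1]
    _ = b * y * b⁻¹ * d := by group

theorem le_normalizer_inf {X A B : Subgroup H} (hA : X ≤ Subgroup.normalizer (A : Set H))
    (hB : X ≤ Subgroup.normalizer (B : Set H)) :
    X ≤ Subgroup.normalizer ((A ⊓ B : Subgroup H) : Set H) := by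
  apply le_normalizer_of_conj_mem
  intro x hx d hd
  exact ⟨conj_mem_of_le_normalizer hA hx hd.1, conj_mem_of_le_normalizer hB hx hd.2⟩

/-- **Monotonicity of `Y`**: for `T ≤ A ≤ B` with `T` a Sylow `p`-subgroup and `B` of characteristic `p`,
`Y_A ≤ Y_B`. -/
theorem largestPReducedOf_mono [Finite H] {p : ℕ} [Fact p.Prime] (T : Sylow p H) {A B : Subgroup H}
    (hTA : (T : Subgroup H) ≤ A) (hAB : A ≤ B)
    (hB : B ⊓ Subgroup.centralizer ((pCoreOf p B : Subgroup H) : Set H) ≤ pCoreOf p B) :
    largestPReducedOf p A ≤ largestPReducedOf p B := by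
  set P := pCoreOf p B with hP
  set Y := largestPReducedOf p A with hY
  have hTB : (T : Subgroup H) ≤ B := hTA.trans hAB
  have hPT : P ≤ T := pCoreOf_le_of_isSylowOf (isSylowOf_of_sylow_le T hTB)
  have hBP : B ≤ Subgroup.normalizer (P : Set H) := le_normalizer_pCoreOf p B
  have hPA : P ≤ pCoreOf p A :=
    le_pCoreOf (hPT.trans hTA) (pCoreOf_isPGroup p B) (hAB.trans hBP)
  have hYcP : Y ≤ Subgroup.centralizer (P : Set H) :=
    Subgroup.le_centralizer_iff.mp (hPA.trans (pCoreOf_le_centralizer_largestPReducedOf' p A))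
  have hYA : Y ≤ A := largestPReducedOf_le p A
  have hYP : Y ≤ P := (le_inf (hYA.trans hAB) hYcP).trans hB
  obtain ⟨hAY, hYe, hYr⟩ := largestPReducedOf_spec p A
  rw [← hY] at hAY hYe hYr
  set V := ncl B Y with hV
  have hYV : Y ≤ V := le_ncl B Y
  have hVP : V ≤ P := ncl_le hYP hBP
  have hVB : V ≤ B := hVP.trans (pCoreOf_le B)
  have hBV : B ≤ Subgroup.normalizer (V : Set H) := le_normalizer_ncl B Y
  have hVcP : V ≤ Subgroup.centralizer (P : Set H) :=
    ncl_le hYcP (hBP.trans (normalizer_le_normalizer_centralizer P))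
  have hVV : V ≤ Subgroup.centralizer (V : Set H) :=
    hVcP.trans (Subgroup.centralizer_le (by exact_mod_cast hVP))
  have hVc : IsMulCommutative V := Subgroup.le_centralizer_iff_isMulCommutative.mp hVV
  have hVp : ∀ v ∈ V, v ^ p = 1 := by
    intro v hv
    have hv' := hv
    rw [hV] at hv'
    unfold ncl at hv'
    induction hv' using Subgroup.closure_induction with
    | mem x hx =>
      obtain ⟨b, _, y, hy, rfl⟩ := hx
      rw [conj_pow, hYe.2 y hy]; simp
    | one => simp
    | mul x y hx hy ihx ihy =>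
      have hxV : x ∈ V := by rw [hV]; exact hx
      have hyV : y ∈ V := by rw [hV]; exact hy
      have hc : Commute x y := Subgroup.mem_centralizer_iff.mp (hVV hyV) x hxV
      rw [hc.mul_pow, ihx hxV, ihy hyV, one_mul]
    | inv x hx ihx =>
      have hxV : x ∈ V := by rw [hV]; exact hx
      rw [inv_pow, ihx hxV, inv_one]
  have hVe : IsElementaryAbelian p V := ⟨hVc, hVp⟩
  have hVr : RedOn p V B := by
    intro D hDB hBD hDp
    apply le_centralizer_ncl hBD
    have hBCV : B ≤ Subgroup.normalizer ((Subgroup.centralizer (V : Set H) : Subgroup H) : Set H) :=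
      hBV.trans (normalizer_le_normalizer_centralizer V)
    have key : D ≤ D ⊓ Subgroup.centralizer (Y : Set H) := by
      apply eq_of_sylow_le_of_pow_mem T (K := D ⊓ Subgroup.centralizer (V : Set H)) (hTB.trans hBD)
      · exact le_normalizer_inf Subgroup.le_normalizer (hDB.trans hBCV)
      · intro d hd
        obtain ⟨k, hk⟩ := hDp d hd
        exact ⟨k, D.pow_mem hd _, hk⟩
      · exact inf_le_inf_left _ (Subgroup.centralizer_le (by exact_mod_cast hYV))
      · have hE : A ⊓ D ≤ Subgroup.centralizer (Y : Set H) := by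
          apply hYr (A ⊓ D) inf_le_left
          · exact le_normalizer_inf Subgroup.le_normalizer (hAB.trans hBD)
          · intro e he
            obtain ⟨k, hk⟩ := hDp e he.2
            exact ⟨k, Subgroup.centralizer_le (by exact_mod_cast hYV) hk⟩
        exact le_inf inf_le_right ((inf_le_inf_right _ hTA).trans hE)
    exact key.trans inf_le_right
  exact hYV.trans (le_largestPReducedOf hVB hBV hVe hVr)

end Cfsg.Agent.Lib.Lead.MSS
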