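import Mathlib
import Cfsg.Prelude.Def_LocalStructure
import Cfsg.Agent.Lib.Lead.MSS1
import Cfsg.Agent.Lib.Helper6.WeakCl2
import Cfsg.Agent.Lib.Helper6.Amalgam4
import Cfsg.Agent.Lib.Helper6.SylowIdx
import Cfsg.Agent.Lib.Helper6.Conj2

set_option autoImplicit false

/-! Asymmetric case: `O_p(M)` is weakly closed in `G`.  Abstract form. -/

namespace Cfsg.Agent.Lib.Lead.MSS

open Cfsg Cfsg.Agent.Lib.Helper6
open scoped Pointwise

variable {G : Type*} [Group G]

local notation "cj[" g "]" => Subgroup.map (MulEquiv.toMonoidHom (MulAut.conj g))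

/-- Abstract data of the asymmetric situation: `Y` asymmetric, `P` a Sylow `p`-subgroup of
`C_G(Y)` containing `Y`, normalized by `M`; `Md ≤ N_G(Y)` contains the normalizer of every
nontrivial `p`-subgroup normalized by `M`. -/
structure AsymData (p : ℕ) (Y P M Md : Subgroup G) : Prop where
  asym : ¬ IsSymmetricIn Y
  syl : IsSylowOf p (Subgroup.centralizer (Y : Set G)) P
  hYP : Y ≤ P
  hY1 : Y ≠ ⊥
  hMP : M ≤ Subgroup.normalizer (P : Set G)
  hMd : Md ≤ Subgroup.normalizer (Y : Set G)
  dag : ∀ I : Subgroup G, I ≠ ⊥ → IsPGroup p ↥I → M ≤ Subgroup.normalizer (I : Set G) →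
    Subgroup.normalizer (I : Set G) ≤ Md

theorem commutator_eq_bot_of_mutual {Y : Subgroup G} (hasym : ¬ IsSymmetricIn Y) (w : G)
    (h1 : cj[w] Y ≤ Subgroup.normalizer (Y : Set G))
    (h2 : cj[w⁻¹] Y ≤ Subgroup.normalizer (Y : Set G)) :
    cj[w] Y ≤ Subgroup.centralizer (Y : Set G) := by
  have h3 : Y ≤ Subgroup.normalizer ((cj[w] Y : Subgroup G) : Set G) := by
    rw [← normalizer_map_conj]
    have := Subgroup.map_mono (f := (MulAut.conj w).toMonoidHom) h2
    rwa [map_conj_map_conj_inv] at this
  have h4 : ⁅Y, cj[w] Y⁆ = ⊥ := by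
    by_contra hne
    exact hasym ⟨w, hne, le_inf (Subgroup.le_normalizer_iff_commutator_le_left.mp h1)
      (Subgroup.le_normalizer_iff_commutator_le_right.mp h3)⟩
  rw [Subgroup.commutator_comm] at h4
  exact Subgroup.commutator_eq_bot_iff_le_centralizer.mp h4

variable {p : ℕ} {Y P M Md : Subgroup G}

theorem AsymData.inf_centralizer (h : AsymData p Y P M Md) {L : Subgroup G} (hL : IsPGroup p ↥L)
    (hPL : P ≤ L) : L ⊓ Subgroup.centralizer (Y : Set G) = P :=
  h.syl.2.2 _ (hL.to_le inf_le_left) inf_le_right (le_inf hPL h.syl.1)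

theorem AsymData.normalizer_P_le (h : AsymData p Y P M Md) :
    Subgroup.normalizer (P : Set G) ≤ Md := by
  have hP1 : P ≠ ⊥ := by
    intro h0
    apply h.hY1
    rw [eq_bot_iff, ← h0]; exact h.hYP
  exact h.dag P hP1 h.syl.2.1 h.hMP

variable [Finite G] [Fact p.Prime]

/-- the word-length induction -/
theorem AsymData.conj_le (h : AsymData p Y P M Md) {L : Subgroup G} (hL : IsPGroup p ↥L)
    (hPL : P ≤ L) (hLMd : L ≤ Md) :
    ∀ (n : ℕ) (l : List G), l.length = n →
      (∀ x ∈ l, x ∈ Subgroup.normalizer (L : Set G) ∨ x ∈ M) → cj[l.prod] Y ≤ P := by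
  have hLN : L ≤ Subgroup.normalizer (Y : Set G) := hLMd.trans h.hMd
  have hLC := h.inf_centralizer hL hPL
  intro n
  induction n with
  | zero =>
    intro l hl _
    have : l = [] := List.length_eq_zero_iff.mp hl
    subst this
    rw [List.prod_nil, map_conj_one]; exact h.hYP
  | succ n ih =>
    -- auxiliary: words of length n+1 conjugate Y into L
    have aux : ∀ l : List G, l.length = n + 1 →
        (∀ x ∈ l, x ∈ Subgroup.normalizer (L : Set G) ∨ x ∈ M) → cj[l.prod] Y ≤ L := by
      intro l hl hmem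
      match l, hl with
      | x :: l', hl =>
        have hl' : l'.length = n := by simpa using hl
        have h1 := ih l' hl' (fun y hy => hmem y (List.mem_cons_of_mem _ hy))
        rw [List.prod_cons, ← map_conj_map_conj]
        have h2 : cj[x] (cj[l'.prod] Y) ≤ cj[x] P := Subgroup.map_mono h1
        rcases hmem x (List.mem_cons_self) with hx | hx
        · refine h2.trans ?_
          rw [← map_conj_eq_self_of_mem_normalizer hx]
          exact Subgroup.map_mono hPL
        · refine h2.trans ?_
          rw [map_conj_eq_self_of_mem_normalizer (h.hMP hx)]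
          exact hPL
    intro l hl hmem
    have h1 : cj[l.prod] Y ≤ L := aux l hl hmem
    have h2 : cj[(l.prod)⁻¹] Y ≤ L := by
      rw [List.prod_inv_reverse]
      apply aux
      · simp [hl]
      · intro x hx
        rw [List.mem_reverse, List.mem_map] at hx
        obtain ⟨y, hy, rfl⟩ := hx
        rcases hmem y hy with h' | h'
        · exact Or.inl (Subgroup.inv_mem _ h')
        · exact Or.inr (Subgroup.inv_mem _ h')
    have h3 := commutator_eq_bot_of_mutual h.asym l.prod (h1.trans hLN) (h2.trans hLN)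
    rw [← hLC]
    exact le_inf h1 h3

/-- key claim: `N_G(L) ≤ M†` for every `p`-subgroup `L` of `M†` containing `P` -/
theorem AsymData.normalizer_le (h : AsymData p Y P M Md) {L : Subgroup G} (hL : IsPGroup p ↥L)
    (hPL : P ≤ L) (hLMd : L ≤ Md) : Subgroup.normalizer (L : Set G) ≤ Md := by
  set H := Subgroup.normalizer (L : Set G) ⊔ M with hH
  set W := ncl H Y with hW
  have hWP : W ≤ P := by
    rw [hW]; unfold ncl
    rw [Subgroup.closure_le]
    rintro _ ⟨b, hb, y, hy, rfl⟩
    have hb' : b ∈ Subgroup.closure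
        ((Subgroup.normalizer (L : Set G) : Set G) ∪ (M : Set G)) := by
      rw [Subgroup.closure_union, Subgroup.closure_eq, Subgroup.closure_eq]; exact hb
    have hb'' : b ∈ (Subgroup.closure
        ((Subgroup.normalizer (L : Set G) : Set G) ∪ (M : Set G))).toSubmonoid := hb'
    rw [Subgroup.closure_toSubmonoid] at hb''
    obtain ⟨l, hl, rfl⟩ := Submonoid.exists_list_of_mem_closure hb''
    have hmem : ∀ x ∈ l, x ∈ Subgroup.normalizer (L : Set G) ∨ x ∈ M := by
      intro x hx
      rcases hl x hx with h' | h'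
      · exact h'
      · rw [Set.mem_inv] at h'
        rcases h' with h' | h'
        · left; have := Subgroup.inv_mem _ h'; simpa using this
        · right; have := Subgroup.inv_mem _ h'; simpa using this
    have := h.conj_le hL hPL hLMd l.length l rfl hmem
    exact this ⟨y, hy, rfl⟩
  have hW1 : W ≠ ⊥ := by
    intro h0
    apply h.hY1
    rw [eq_bot_iff, ← h0]
    exact le_ncl H Y
  have hHW : H ≤ Subgroup.normalizer (W : Set G) := le_normalizer_ncl H Y
  have h1 := h.dag W hW1 (h.syl.2.1.to_le hWP) (le_sup_right.trans hHW)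
  exact (le_sup_left.trans hHW).trans h1

/-- conjugates of `P` under `M†` inside a `p`-group containing `P` equal `P` -/
theorem AsymData.conj_eq_of_mem (h : AsymData p Y P M Md) {L : Subgroup G} (hL : IsPGroup p ↥L)
    (hPL : P ≤ L) {t : G} (ht : t ∈ Md) (htL : cj[t] P ≤ L) : cj[t] P = P := by
  apply map_conj_eq_self_of_le
  refine le_trans (le_inf htL ?_) (h.inf_centralizer hL hPL).le
  have h1 : t ∈ Subgroup.normalizer ((Subgroup.centralizer (Y : Set G) : Subgroup G) : Set G) :=
    (normalizer_le_normalizer_centralizer Y) (h.hMd ht)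
  rw [← map_conj_eq_self_of_mem_normalizer h1]
  exact Subgroup.map_mono h.syl.1

/-- `P` is normal in every `p`-subgroup containing it -/
theorem AsymData.le_normalizer (h : AsymData p Y P M Md) {L : Subgroup G} (hL : IsPGroup p ↥L)
    (hPL : P ≤ L) : L ≤ Subgroup.normalizer (P : Set G) := by
  set K := Subgroup.normalizer (P : Set G) ⊓ L with hK
  have hPK : P ≤ K := le_inf Subgroup.le_normalizer hPL
  have hKp : IsPGroup p ↥K := hL.to_le inf_le_right
  by_contra hcon
  have hlt : K < L := by
    apply lt_of_le_of_ne inf_le_right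
    intro heq
    apply hcon
    rw [← heq]; exact inf_le_left
  obtain ⟨t, htL, htK, htN⟩ := exists_mem_normalizer_not_mem hlt hL
  have hKMd : K ≤ Md := inf_le_left.trans h.normalizer_P_le
  have htMd : t ∈ Md := h.normalizer_le hKp hPK hKMd htN
  have hKt : cj[t] K = K := map_conj_eq_self_of_mem_normalizer htN
  have h1 : cj[t] P ≤ K := by rw [← hKt]; exact Subgroup.map_mono hPK
  have h2 := h.conj_eq_of_mem hKp hPK htMd h1
  exact htK ⟨mem_normalizer_of_map_conj_eq_self h2, htL⟩

/-- part (a) -/
theorem AsymData.normalizer_le_normalizer (h : AsymData p Y P M Md) {L : Subgroup G}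
    (hL : IsPGroup p ↥L) (hPL : P ≤ L) :
    Subgroup.normalizer (L : Set G) ≤ Subgroup.normalizer (P : Set G) := by
  have hLMd : L ≤ Md := (h.le_normalizer hL hPL).trans h.normalizer_P_le
  intro t ht
  have htMd : t ∈ Md := h.normalizer_le hL hPL hLMd ht
  have h1 : cj[t] P ≤ L := by
    rw [← map_conj_eq_self_of_mem_normalizer ht]; exact Subgroup.map_mono hPL
  exact mem_normalizer_of_map_conj_eq_self (h.conj_eq_of_mem hL hPL htMd h1)

/-- part (b) -/
theorem AsymData.isWeaklyClosedSubgroup (h : AsymData p Y P M Md) :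
    IsWeaklyClosedSubgroup p P :=
  isWeaklyClosedSubgroup_of_normalizer_le h.syl.2.1
    (fun _ hR hPR => h.normalizer_le_normalizer hR hPR)

end Cfsg.Agent.Lib.Lead.MSS
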