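import Mathlib
import Cfsg.Prelude.Def_LocalStructure
import Cfsg.Agent.Lib.Lead.MSS1
import Cfsg.Agent.Lib.Helper6.Kieler
import Cfsg.Agent.Lib.Helper6.PReduced
import Cfsg.Agent.Lib.Helper3.Components7
import Cfsg.Agent.S2859

set_option autoImplicit false

/-! `F*`-arguments for `p`-reduced actions. -/

namespace Cfsg.Agent.Lib.Lead.MSS

open Cfsg Cfsg.Agent.Lib.Helper6 Cfsg.Agent.Lib.Helper3
open scoped commutatorElement

/-- A `p`-subgroup normalized by `F*(X)` is trivial if `O_p(X) = 1`. -/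
theorem eq_bot_of_fstar_le_normalizer {X : Type*} [Group X] [Finite X] {p : ℕ} [Fact p.Prime]
    (hO : pCore p X = ⊥) (A : Subgroup X) (hA : IsPGroup p ↥A)
    (hFA : generalizedFittingSubgroup X ≤ Subgroup.normalizer (A : Set X)) : A = ⊥ := by
  set F := generalizedFittingSubgroup X with hF
  have hFn : F.Normal := generalizedFittingSubgroup_normal
  have hNF : Subgroup.normalizer (F : Set X) = ⊤ := Subgroup.normalizer_eq_top_iff.mpr hFn
  -- B = A ⊓ F is trivial
  have hB : A ⊓ F = ⊥ := by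
    have hBF : A ⊓ F ≤ F := inf_le_right
    have hFB : F ≤ Subgroup.normalizer ((A ⊓ F : Subgroup X) : Set X) :=
      le_normalizer_inf hFA Subgroup.le_normalizer
    have hBp : IsPGroup p ↥(A ⊓ F : Subgroup X) := hA.to_le inf_le_left
    have h1 : A ⊓ F ≤ pCoreOf p F := Cfsg.Agent.S2859.le_pCoreOf' hBF hFB hBp
    have h2 : (pCoreOf p F).Normal := by
      rw [← Subgroup.normalizer_eq_top_iff, eq_top_iff, ← hNF]
      exact Cfsg.Agent.S2859.normalizer_le_normalizer_pCoreOf p F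
    have h3 : pCoreOf p F ≤ pCore p X := le_pCore h2 (pCoreOf_isPGroup p F)
    rw [hO] at h3
    exact le_bot_iff.mp (h1.trans h3)
  have h1 : ⁅A, F⁆ ≤ A := Subgroup.le_normalizer_iff_commutator_le_left.mp hFA
  have h2 : ⁅A, F⁆ ≤ F := Subgroup.le_normalizer_iff_commutator_le_right.mp (by rw [hNF]; exact le_top)
  have h3 : ⁅A, F⁆ = ⊥ := le_bot_iff.mp (hB ▸ le_inf h1 h2)
  have h4 : A ≤ Subgroup.centralizer (F : Set X) := Subgroup.commutator_eq_bot_iff_le_centralizer.mp h3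
  have h5 : A ≤ F := h4.trans centralizer_generalizedFittingSubgroup_le
  exact le_bot_iff.mp (hB ▸ le_inf le_rfl h5)

variable {G : Type*} [Group G]

/-- Sylow/`p`-power-index factorization, ambient form. -/
theorem le_of_isSylowOf_inf_le [Finite G] {p : ℕ} [Fact p.Prime] {X T D K W : Subgroup G}
    (hT : IsSylowOf p X T) (hDX : D ≤ X) (hXD : X ≤ Subgroup.normalizer (D : Set G))
    (hDK : D ≤ Subgroup.normalizer (K : Set G))
    (hp : ∀ d ∈ D, ∃ k : ℕ, d ^ p ^ k ∈ K) (hKW : K ≤ W) (hTW : T ⊓ D ≤ W) : D ≤ W := by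
  obtain ⟨m, hm⟩ := relIndex_eq_pow_of_forall_pow_mem hDK hp
  have hsyl : IsSylowOf p D (T ⊓ D) := hT.inf_of_normal hDX hXD
  have h1 : W.relIndex D ∣ K.relIndex D := Subgroup.relIndex_dvd_of_le_left D hKW
  have h2 : W.relIndex D ∣ (T ⊓ D).relIndex D := Subgroup.relIndex_dvd_of_le_left D hTW
  have h4 : ¬ p ∣ (T ⊓ D).relIndex D := hsyl.not_dvd_relIndex
  have hp' : p.Prime := Fact.out
  have h5 : W.relIndex D = 1 := by
    rw [hm] at h1
    obtain ⟨j, _, hj⟩ := (Nat.dvd_prime_pow hp').mp h1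
    rcases Nat.eq_zero_or_pos j with rfl | hjpos
    · simpa using hj
    · exfalso
      apply h4
      refine dvd_trans ?_ h2
      rw [hj]
      exact dvd_pow_self p hjpos.ne'
  exact Subgroup.relIndex_eq_one.mp h5

/-- The preimage in `Md` (viewed in `G`) of `F*(Md / C)`. -/
def fstarPre (Md C : Subgroup G) [(C.subgroupOf Md).Normal] : Subgroup G :=
  ((generalizedFittingSubgroup (↥Md ⧸ C.subgroupOf Md)).comap
    (QuotientGroup.mk' (C.subgroupOf Md))).map Md.subtype

theorem le_fstarPre {Md C : Subgroup G} [(C.subgroupOf Md).Normal] (hC : C ≤ Md) :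
    C ≤ fstarPre Md C := by
  intro c hc
  refine ⟨⟨c, hC hc⟩, ?_, rfl⟩
  rw [SetLike.mem_coe, Subgroup.mem_comap]
  have : (QuotientGroup.mk' (C.subgroupOf Md)) ⟨c, hC hc⟩ = 1 := by
    rw [QuotientGroup.mk'_apply, QuotientGroup.eq_one_iff, Subgroup.mem_subgroupOf]
    exact hc
  rw [this]; exact Subgroup.one_mem _

theorem fstarPre_le (Md C : Subgroup G) [(C.subgroupOf Md).Normal] : fstarPre Md C ≤ Md := by
  rintro _ ⟨y, _, rfl⟩; exact y.2

/-- A subgroup `D` of `Md`, normalized by the preimage of `F*(Md/C)`, all of whose elements have a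
`p`-power in `C`, lies in `C` when `O_p(Md/C) = 1`. -/
theorem le_of_fstarPre_le_normalizer [Finite G] {p : ℕ} [Fact p.Prime] {Md C : Subgroup G}
    [hn : (C.subgroupOf Md).Normal] (hO : pCore p (↥Md ⧸ C.subgroupOf Md) = ⊥)
    {D : Subgroup G} (hDMd : D ≤ Md)
    (hFD : fstarPre Md C ≤ Subgroup.normalizer (D : Set G))
    (hp : ∀ d ∈ D, ∃ k : ℕ, d ^ p ^ k ∈ C) : D ≤ C := by
  set N := C.subgroupOf Md with hN
  set π := QuotientGroup.mk' N with hπ
  set A := (D.subgroupOf Md).map π with hA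
  have hAp : IsPGroup p ↥A := by
    rintro ⟨_, ⟨d, hd, rfl⟩⟩
    rw [SetLike.mem_coe, Subgroup.mem_subgroupOf] at hd
    obtain ⟨k, hk⟩ := hp _ hd
    refine ⟨k, Subtype.ext ?_⟩
    simp only [Subgroup.coe_pow, Subgroup.coe_one]
    rw [← map_pow]
    rw [hπ, QuotientGroup.mk'_apply, QuotientGroup.eq_one_iff, hN, Subgroup.mem_subgroupOf]
    simpa using hk
  have hFA : generalizedFittingSubgroup (↥Md ⧸ N) ≤ Subgroup.normalizer (A : Set (↥Md ⧸ N)) := by
    intro f hf
    obtain ⟨f', rfl⟩ := QuotientGroup.mk'_surjective N f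
    have h1 : (f' : G) ∈ fstarPre Md C := ⟨f', hf, rfl⟩
    have h2 : f' ∈ Subgroup.normalizer ((D.subgroupOf Md : Subgroup ↥Md) : Set ↥Md) := by
      rw [Subgroup.mem_normalizer_iff]
      intro x
      rw [Subgroup.mem_subgroupOf, Subgroup.mem_subgroupOf]
      have := Subgroup.mem_normalizer_iff.mp (hFD h1) (x : G)
      simpa using this
    exact Subgroup.le_normalizer_map π ⟨f', h2, rfl⟩
  have h0 := eq_bot_of_fstar_le_normalizer hO A hAp hFA
  intro d hd
  have h1 : π ⟨d, hDMd hd⟩ ∈ A := ⟨⟨d, hDMd hd⟩, by rw [SetLike.mem_coe, Subgroup.mem_subgroupOf]; exact hd, rfl⟩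
  rw [h0, Subgroup.mem_bot, hπ, QuotientGroup.mk'_apply, QuotientGroup.eq_one_iff, hN,
    Subgroup.mem_subgroupOf] at h1
  exact h1

/-- `O_p(Md / C_Md(Y)) = 1` from the `RedOn` form. -/
theorem pCore_quotient_eq_bot_of_redOn {p : ℕ} {Md Y : Subgroup G}
    [hn : ((Subgroup.centralizer (Y : Set G)).subgroupOf Md).Normal] (hR : RedOn p Y Md) :
    pCore p (↥Md ⧸ (Subgroup.centralizer (Y : Set G)).subgroupOf Md) = ⊥ := by
  rw [pCore_quotient_eq_bot_iff]
  intro D hD hDp
  have hle : D.map Md.subtype ≤ Md := by rintro _ ⟨y, _, rfl⟩; exact y.2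
  have h1 := hR (D.map Md.subtype) hle
    (by
      rw [← Subgroup.normal_subgroupOf_iff_le_normalizer hle]
      have : (D.map Md.subtype).subgroupOf Md = D :=
        Subgroup.comap_map_eq_self_of_injective Md.subtype_injective _
      rw [this]; exact hD)
    (by
      rintro _ ⟨y, hy, rfl⟩
      obtain ⟨k, hk⟩ := hDp y hy
      refine ⟨k, ?_⟩
      rw [Subgroup.mem_subgroupOf] at hk
      simpa using hk)
  intro d hd
  rw [Subgroup.mem_subgroupOf]
  exact h1 ⟨d, hd, rfl⟩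

end Cfsg.Agent.Lib.Lead.MSS
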