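import Mathlib
import Cfsg.Prelude.Def_LocalStructure
import Cfsg.Agent.Lib.Lead.MSS6
import Cfsg.Agent.Lib.Lead.MSS7

set_option autoImplicit false

/-! Existence of members of `ℌ_G(O_p(M))` in the asymmetric char-`p`-tall case. -/

namespace Cfsg.Agent.Lib.Lead.MSS

open Cfsg Cfsg.Agent.Lib.Helper6 Cfsg.Agent.Lib.Lead.Subnormalizer
open scoped commutatorElement

variable {G : Type*} [Group G]

local notation "cj[" g "]" => Subgroup.map (MulEquiv.toMonoidHom (MulAut.conj g))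

/-- ambient form of "`L` has characteristic `p`" -/
def CharPA (p : ℕ) (L : Subgroup G) : Prop :=
  L ⊓ Subgroup.centralizer ((pCoreOf p L : Subgroup G) : Set G) ≤ pCoreOf p L

theorem charPA_iff (p : ℕ) (L : Subgroup G) :
    CharPA p L ↔ Subgroup.centralizer (pCore p ↥L : Set ↥L) ≤ pCore p ↥L := by
  unfold CharPA
  constructor
  · intro h x hx
    have h1 : (x : G) ∈ L ⊓ Subgroup.centralizer ((pCoreOf p L : Subgroup G) : Set G) := by
      refine ⟨x.2, Subgroup.mem_centralizer_iff.mpr ?_⟩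
      rintro _ ⟨y, hy, rfl⟩
      have := Subgroup.mem_centralizer_iff.mp hx y hy
      exact congrArg Subtype.val this
    obtain ⟨y, hy, hyx⟩ := h h1
    have : y = x := Subtype.ext hyx
    rwa [← this]
  · rintro h x ⟨hxL, hxc⟩
    have h1 : (⟨x, hxL⟩ : ↥L) ∈ Subgroup.centralizer (pCore p ↥L : Set ↥L) := by
      rw [Subgroup.mem_centralizer_iff]
      intro z hz
      apply Subtype.ext
      exact Subgroup.mem_centralizer_iff.mp hxc (z : G) ⟨z, hz, rfl⟩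
    exact ⟨⟨x, hxL⟩, h h1, rfl⟩

theorem CharPA.map_conj {p : ℕ} {L : Subgroup G} (h : CharPA p L) (g : G) :
    CharPA p (cj[g] L) := by
  unfold CharPA at h ⊢
  rw [← pCoreOf_map_conj, ← centralizer_map_conj,
    ← Subgroup.map_inf_eq _ _ _ (MulAut.conj g).injective]
  exact Subgroup.map_mono h

/-- a subgroup between `O_p(H)` and `H` inherits characteristic `p` -/
theorem CharPA.of_le {p : ℕ} {H H' : Subgroup G} (h : CharPA p H) (hRH' : pCoreOf p H ≤ H')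
    (hH'H : H' ≤ H) : CharPA p H' := by
  unfold CharPA at h ⊢
  have h1 : pCoreOf p H ≤ pCoreOf p H' :=
    le_pCoreOf hRH' (pCoreOf_isPGroup p H) (hH'H.trans (le_normalizer_pCoreOf p H))
  rintro x ⟨hx1, hx2⟩
  apply h1
  apply h
  exact ⟨hH'H hx1, Subgroup.centralizer_le (by exact_mod_cast h1) hx2⟩

/-- stability-group argument -/
theorem isPGroup_of_stabilizes [Finite G] {p : ℕ} [Fact p.Prime] {R R₁ X : Subgroup G}
    (hR₁ : IsPGroup p ↥R₁)
    (hX1 : ∀ x ∈ X, ∀ r ∈ R, r⁻¹ * (x * r * x⁻¹) ∈ R₁)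
    (hX2 : X ≤ Subgroup.centralizer (R₁ : Set G))
    (hC : IsPGroup p ↥(X ⊓ Subgroup.centralizer (R : Set G) : Subgroup G)) : IsPGroup p ↥X := by
  obtain ⟨a, ha⟩ := IsPGroup.iff_card.mp hR₁
  intro ⟨x, hx⟩
  have key : ∀ r ∈ R, ∀ k : ℕ, x ^ k * r * (x ^ k)⁻¹ = r * (r⁻¹ * (x * r * x⁻¹)) ^ k := by
    intro r hr k
    set z := r⁻¹ * (x * r * x⁻¹) with hz
    have hzR : z ∈ R₁ := hX1 x hx r hr
    have hxz : z * x = x * z := Subgroup.mem_centralizer_iff.mp (hX2 hx) z hzR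
    have hxr : x * r * x⁻¹ = r * z := by rw [hz]; group
    induction k with
    | zero => simp
    | succ k ih =>
      have hxzk : x * z ^ k * x⁻¹ = z ^ k := by
        have : x * z ^ k = z ^ k * x := ((Commute.pow_left (show Commute z x from hxz) k).eq).symm
        rw [this]; group
      calc x ^ (k + 1) * r * (x ^ (k + 1))⁻¹ = x * (x ^ k * r * (x ^ k)⁻¹) * x⁻¹ := by
            rw [pow_succ']; group
        _ = x * (r * z ^ k) * x⁻¹ := by rw [ih]
        _ = (x * r * x⁻¹) * (x * z ^ k * x⁻¹) := by group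
        _ = r * z * z ^ k := by rw [hxr, hxzk]
        _ = r * z ^ (k + 1) := by rw [pow_succ', mul_assoc]
  have h1 : x ^ p ^ a ∈ X ⊓ Subgroup.centralizer (R : Set G) := by
    refine ⟨Subgroup.pow_mem _ hx _, Subgroup.mem_centralizer_iff.mpr ?_⟩
    intro r hr
    have h2 := key r hr (p ^ a)
    have hzR : r⁻¹ * (x * r * x⁻¹) ∈ R₁ := hX1 x hx r hr
    have h3 : (r⁻¹ * (x * r * x⁻¹)) ^ p ^ a = 1 := by
      have := pow_card_eq_one' (G := ↥R₁) (x := ⟨_, hzR⟩)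
      rw [ha] at this
      have := congrArg Subtype.val this
      simpa using this
    rw [h3, mul_one] at h2
    calc r * x ^ p ^ a = (x ^ p ^ a * r * (x ^ p ^ a)⁻¹) * x ^ p ^ a := by rw [h2]
      _ = x ^ p ^ a * r := by group
  obtain ⟨b, hb⟩ := hC ⟨_, h1⟩
  refine ⟨a + b, Subtype.ext ?_⟩
  have := congrArg Subtype.val hb
  simp only [Subgroup.coe_pow, Subgroup.coe_one] at this ⊢
  rw [pow_add, pow_mul]; exact this

variable [Finite G] {p : ℕ} [Fact p.Prime] {Y P M Md : Subgroup G}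

/-- existence of a member of `ℌ` -/
theorem AsymData.exists_frakH (h : AsymData p Y P M Md) (L₀ : Subgroup G) (hPL₀ : P ≤ L₀)
    (hL₀ : CharPA p L₀) (hYL₀ : ¬ Y ≤ pCoreOf p L₀) :
    ∃ H : Subgroup G, CharPA p H ∧ P ≤ H ∧ ¬ Y ≤ pCoreOf p H ∧
      ∀ P' : Subgroup G, P ≤ P' → P' < H → Y ≤ pCoreOf p P' := by
  let 𝒮 : Set (Subgroup G) := {H | CharPA p H ∧ P ≤ H ∧ ¬ Y ≤ pCoreOf p H}
  have hne : 𝒮.Nonempty := ⟨L₀, hL₀, hPL₀, hYL₀⟩
  obtain ⟨H, ⟨hHc, hPH, hYH⟩, hmin⟩ :=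
    WellFounded.has_min (wellFounded_lt (α := Subgroup G)) 𝒮 hne
  refine ⟨H, hHc, hPH, hYH, ?_⟩
  intro P₀ hPP₀ hP₀H
  by_contra hYP₀
  -- choose P' minimal
  let 𝒯 : Set (Subgroup G) := {X | X ≤ P₀ ∧ P ≤ X ∧ ¬ Y ≤ pCoreOf p X}
  have hne' : 𝒯.Nonempty := ⟨P₀, le_rfl, hPP₀, hYP₀⟩
  obtain ⟨P', ⟨hP'P₀, hPP', hYP'⟩, hmin'⟩ :=
    WellFounded.has_min (wellFounded_lt (α := Subgroup G)) 𝒯 hne'
  have hP'H : P' < H := lt_of_le_of_lt hP'P₀ hP₀H
  have hminP : ∀ X : Subgroup G, P ≤ X → X < P' → Y ≤ pCoreOf p X := by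
    intro X hPX hXP'
    by_contra hcon
    exact hmin' X ⟨hXP'.le.trans hP'P₀, hPX, hcon⟩ hXP'
  set R := pCoreOf p H with hR
  have hRp : IsPGroup p ↥R := pCoreOf_isPGroup p H
  have hRH : R ≤ H := pCoreOf_le H
  have hHR : H ≤ Subgroup.normalizer (R : Set G) := le_normalizer_pCoreOf p H
  have hYPle : Y ≤ P' := h.hYP.trans hPP'
  -- P' ⊔ R = H
  have hsup : P' ⊔ R = H := by
    by_contra hne2
    have hlt : P' ⊔ R < H := lt_of_le_of_ne (sup_le hP'H.le hRH) hne2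
    apply hmin (P' ⊔ R) ⟨hHc.of_le le_sup_right (sup_le hP'H.le hRH), hPP'.trans le_sup_left, ?_⟩ hlt
    intro hY
    apply hYP'
    exact (le_inf hY hYPle).trans (pCoreOf_inf_le le_sup_left)
  -- O_p(P') = R ⊓ P'
  set R₁ := pCoreOf p P' with hR₁
  have hR₁p : IsPGroup p ↥R₁ := pCoreOf_isPGroup p P'
  have hR₁P' : R₁ ≤ P' := pCoreOf_le P'
  have hP'R₁ : P' ≤ Subgroup.normalizer (R₁ : Set G) := le_normalizer_pCoreOf p P'
  have hR₁R : R₁ ≤ R := by
    have hU : IsPGroup p ↥(R₁ ⊔ R : Subgroup G) :=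
      IsPGroup.to_sup_of_normal_right' hR₁p hRp ((hR₁P'.trans hP'H.le).trans hHR)
    have hUH : R₁ ⊔ R ≤ H := sup_le (hR₁P'.trans hP'H.le) hRH
    have hHU : H ≤ Subgroup.normalizer ((R₁ ⊔ R : Subgroup G) : Set G) := by
      rw [← hsup]
      apply sup_le
      · apply le_normalizer_of_conj_mem
        intro x hx u hu
        have hx1 : x ∈ Subgroup.normalizer ((R₁ : Subgroup G) : Set G) := hP'R₁ hx
        have hx2 : x ∈ Subgroup.normalizer ((R : Subgroup G) : Set G) := hHR (hP'H.le hx)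
        have : x ∈ Subgroup.normalizer ((R₁ ⊔ R : Subgroup G) : Set G) := by
          apply mem_normalizer_of_map_conj_eq_self
          rw [Subgroup.map_sup, map_conj_eq_self_of_mem_normalizer hx1,
            map_conj_eq_self_of_mem_normalizer hx2]
        exact (Subgroup.mem_normalizer_iff.mp this u).mp hu
      · exact le_sup_right.trans Subgroup.le_normalizer
    exact le_sup_left.trans (le_pCoreOf hUH hU hHU)
  have hRP'R₁ : R ⊓ P' ≤ R₁ := pCoreOf_inf_le hP'H.le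
  -- R normalizes P
  have hRP : R ≤ Subgroup.normalizer (P : Set G) := by
    have hRPp : IsPGroup p ↥(P ⊔ R : Subgroup G) :=
      IsPGroup.to_sup_of_normal_right' h.syl.2.1 hRp (hPH.trans hHR)
    exact le_sup_right.trans (h.le_normalizer hRPp le_sup_left)
  -- P' is the normal closure of P in P'
  have hncl : ncl P' P = P' := by
    have hle : ncl P' P ≤ P' := ncl_le hPP' Subgroup.le_normalizer
    by_contra hne2
    have hlt : ncl P' P < P' := lt_of_le_of_ne hle hne2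
    have h1 : Y ≤ pCoreOf p (ncl P' P) := hminP _ (le_ncl P' P) hlt
    apply hYP'
    refine h1.trans ?_
    apply le_pCoreOf ((pCoreOf_le _).trans hle) (pCoreOf_isPGroup p _)
    exact (le_normalizer_ncl P' P).trans (Cfsg.Agent.S2859.normalizer_le_normalizer_pCoreOf p _)
  -- the subgroup K of elements acting trivially on R / R₁
  let K : Subgroup G :=
    { carrier := {g | g ∈ Subgroup.normalizer (R : Set G) ∧ g ∈ Subgroup.normalizer (R₁ : Set G) ∧
        ∀ r ∈ R, r⁻¹ * (g * r * g⁻¹) ∈ R₁}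
      one_mem' := by
        refine ⟨Subgroup.one_mem _, Subgroup.one_mem _, ?_⟩
        intro r _
        simp
      mul_mem' := by
        rintro g k ⟨hg1, hg2, hg3⟩ ⟨hk1, hk2, hk3⟩
        refine ⟨Subgroup.mul_mem _ hg1 hk1, Subgroup.mul_mem _ hg2 hk2, ?_⟩
        intro r hr
        have hz : r⁻¹ * (k * r * k⁻¹) ∈ R₁ := hk3 r hr
        have hz' : g * (r⁻¹ * (k * r * k⁻¹)) * g⁻¹ ∈ R₁ :=
          (Subgroup.mem_normalizer_iff.mp hg2 _).mp hz
        have e : r⁻¹ * (g * k * r * (g * k)⁻¹) =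
            (r⁻¹ * (g * r * g⁻¹)) * (g * (r⁻¹ * (k * r * k⁻¹)) * g⁻¹) := by group
        rw [e]
        exact Subgroup.mul_mem _ (hg3 r hr) hz'
      inv_mem' := by
        rintro g ⟨hg1, hg2, hg3⟩
        refine ⟨Subgroup.inv_mem _ hg1, Subgroup.inv_mem _ hg2, ?_⟩
        intro r hr
        have hr' : g⁻¹ * r * g ∈ R := by
          have := (Subgroup.mem_normalizer_iff.mp (Subgroup.inv_mem _ hg1) r).mp hr
          simpa using this
        have hz := hg3 _ hr'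
        have e : r⁻¹ * (g⁻¹ * r * g⁻¹⁻¹) = ((g⁻¹ * r * g)⁻¹ * (g * (g⁻¹ * r * g) * g⁻¹))⁻¹ := by
          group
        rw [e]
        exact Subgroup.inv_mem _ hz }
  have hP'K : P' ≤ K := by
    rw [← hncl]
    unfold ncl
    rw [Subgroup.closure_le]
    rintro _ ⟨x, hx, q, hq, rfl⟩
    have hg : x * q * x⁻¹ ∈ P' :=
      Subgroup.mul_mem _ (Subgroup.mul_mem _ hx (hPP' hq)) (Subgroup.inv_mem _ hx)
    refine ⟨hHR (hP'H.le hg), hP'R₁ hg, ?_⟩
    intro r hr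
    have hr₂ : x⁻¹ * r * x ∈ R := by
      have := (Subgroup.mem_normalizer_iff.mp (hHR (hP'H.le (Subgroup.inv_mem _ hx))) r).mp hr
      simpa using this
    set r₂ := x⁻¹ * r * x with hr₂def
    have h1 : r₂⁻¹ * (q * r₂ * q⁻¹) ∈ R :=
      Subgroup.mul_mem _ (Subgroup.inv_mem _ hr₂)
        ((Subgroup.mem_normalizer_iff.mp (hHR (hPH hq)) r₂).mp hr₂)
    have h2 : r₂⁻¹ * (q * r₂ * q⁻¹) ∈ P := by
      have h3 : r₂⁻¹ * q * r₂⁻¹⁻¹ ∈ P :=
        (Subgroup.mem_normalizer_iff.mp (hRP (Subgroup.inv_mem _ hr₂)) q).mp hq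
      have e : r₂⁻¹ * (q * r₂ * q⁻¹) = (r₂⁻¹ * q * r₂⁻¹⁻¹) * q⁻¹ := by group
      rw [e]
      exact Subgroup.mul_mem _ h3 (Subgroup.inv_mem _ hq)
    have h4 : r₂⁻¹ * (q * r₂ * q⁻¹) ∈ R₁ := hRP'R₁ ⟨h1, hPP' h2⟩
    have h5 : x * (r₂⁻¹ * (q * r₂ * q⁻¹)) * x⁻¹ ∈ R₁ :=
      (Subgroup.mem_normalizer_iff.mp (hP'R₁ hx) _).mp h4
    have e : r⁻¹ * (x * q * x⁻¹ * r * (x * q * x⁻¹)⁻¹) =
        x * (r₂⁻¹ * (q * r₂ * q⁻¹)) * x⁻¹ := by
      rw [hr₂def]; group
    rw [e]; exact h5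
  -- X = C_{P'}(R₁) is a p-group
  set X := P' ⊓ Subgroup.centralizer (R₁ : Set G) with hX
  have hXp : IsPGroup p ↥X := by
    apply isPGroup_of_stabilizes (R := R) hR₁p
    · intro x hx r hr
      exact (hP'K hx.1).2.2 r hr
    · exact inf_le_right
    · apply hRp.to_le
      rintro x ⟨⟨hx1, _⟩, hx2⟩
      exact hHc ⟨hP'H.le hx1, hx2⟩
  have hP'X : P' ≤ Subgroup.normalizer (X : Set G) :=
    le_normalizer_inf Subgroup.le_normalizer
      (hP'R₁.trans (normalizer_le_normalizer_centralizer R₁))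
  have hXR₁ : X ≤ R₁ := le_pCoreOf inf_le_left hXp hP'X
  exact hmin P' ⟨hXR₁, hPP', hYP'⟩ hP'H

end Cfsg.Agent.Lib.Lead.MSS
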