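import Mathlib
import Cfsg.Prelude.Def_LocalStructure
import Cfsg.Agent.Lib.Lead.MSS8
import Cfsg.Agent.Lib.Helper6.PReduced4
import Cfsg.Agent.Lib.Helper6.Amalgam4
import Cfsg.Agent.S2864

set_option autoImplicit false

/-! Structure of the members of `ℌ_G(O_p(M))` in the asymmetric case. -/

namespace Cfsg.Agent.Lib.Lead.MSS

open Cfsg Cfsg.Agent.Lib.Helper6 Cfsg.Agent.Lib.Helper7 Cfsg.Agent.Lib.Lead.Subnormalizer
open scoped commutatorElement Pointwise

variable {G : Type*} [Group G]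

local notation "cj[" g "]" => Subgroup.map (MulEquiv.toMonoidHom (MulAut.conj g))

theorem map_normalClosure_subgroupOf {H Y : Subgroup G} (hYH : Y ≤ H) :
    (Subgroup.normalClosure ((Y.subgroupOf H : Subgroup ↥H) : Set ↥H)).map H.subtype = ncl H Y := by
  apply le_antisymm
  · unfold Subgroup.normalClosure ncl
    rw [MonoidHom.map_closure]
    apply Subgroup.closure_mono
    rintro _ ⟨w, hw, rfl⟩
    obtain ⟨a, ha, hconj⟩ := Group.mem_conjugatesOfSet_iff.mp hw
    obtain ⟨c, hc⟩ := isConj_iff.mp hconj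
    refine ⟨(c : G), c.2, (a : G), ?_, ?_⟩
    · have : a ∈ Y.subgroupOf H := ha
      rwa [Subgroup.mem_subgroupOf] at this
    · rw [← hc]; simp
  · unfold ncl
    rw [Subgroup.closure_le]
    rintro _ ⟨b, hb, y, hy, rfl⟩
    refine ⟨⟨b, hb⟩ * ⟨y, hYH hy⟩ * ⟨b, hb⟩⁻¹, ?_, by simp⟩
    apply Subgroup.Normal.conj_mem Subgroup.normalClosure_normal
    apply Subgroup.subset_normalClosure
    show (⟨y, hYH hy⟩ : ↥H) ∈ Y.subgroupOf H
    rw [Subgroup.mem_subgroupOf]; exact hy

theorem le_normalizer_sup {X A B : Subgroup G} (hA : X ≤ Subgroup.normalizer (A : Set G))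
    (hB : X ≤ Subgroup.normalizer (B : Set G)) :
    X ≤ Subgroup.normalizer ((A ⊔ B : Subgroup G) : Set G) := by
  intro x hx
  apply mem_normalizer_of_map_conj_eq_self
  rw [Subgroup.map_sup, map_conj_eq_self_of_mem_normalizer (hA hx),
    map_conj_eq_self_of_mem_normalizer (hB hx)]

theorem le_normalizer_pResSub (p : ℕ) (H : Subgroup G) :
    H ≤ Subgroup.normalizer ((pResSub p H : Subgroup G) : Set G) := by
  intro h hh
  apply mem_normalizer_of_map_conj_eq_self
  rw [pResSub_map_conj, map_conj_eq_self_of_mem_normalizer (Subgroup.le_normalizer hh)]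

/-- `R` normalizes `⁅R, Y⁆`. -/
theorem le_normalizer_commutator_left [Finite G] (R Y : Subgroup G) :
    R ≤ Subgroup.normalizer ((⁅R, Y⁆ : Subgroup G) : Set G) := by
  intro h hh
  apply mem_normalizer_of_map_conj_le
  rw [Subgroup.commutator_def, MonoidHom.map_closure, Subgroup.closure_le]
  rintro _ ⟨_, ⟨r, hr, y, hy, rfl⟩, rfl⟩
  have e : (MulAut.conj h).toMonoidHom ⁅r, y⁆ = ⁅h * r, y⁆ * ⁅h, y⁆⁻¹ := by
    simp only [MulEquiv.coe_toMonoidHom, MulAut.conj_apply, commutatorElement_def]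
    group
  rw [e]
  exact Subgroup.mul_mem _ (Subgroup.commutator_mem_commutator (R.mul_mem hh hr) hy)
    (Subgroup.inv_mem _ (Subgroup.commutator_mem_commutator hh hy))

variable [Finite G] {p : ℕ} [Fact p.Prime] {Y P H : Subgroup G}

/-- the data of a member of `ℌ` -/
structure FrakHData (p : ℕ) (Y P H : Subgroup G) : Prop where
  hPH : P ≤ H
  hYH : ¬ Y ≤ pCoreOf p H
  hmin : ∀ P' : Subgroup G, P ≤ P' → P' < H → Y ≤ pCoreOf p P'

theorem FrakHData.ncl_eq (hH : FrakHData p Y P H) : ncl H P = H := by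
  have hle : ncl H P ≤ H := ncl_le hH.hPH Subgroup.le_normalizer
  by_contra hne2
  have hlt : ncl H P < H := lt_of_le_of_ne hle hne2
  have h1 : Y ≤ pCoreOf p (ncl H P) := hH.hmin _ (le_ncl H P) hlt
  apply hH.hYH
  refine h1.trans ?_
  apply le_pCoreOf ((pCoreOf_le _).trans hle) (pCoreOf_isPGroup p _)
  exact (le_normalizer_ncl H P).trans (Cfsg.Agent.S2859.normalizer_le_normalizer_pCoreOf p _)

theorem FrakHData.pResSub_sup (hH : FrakHData p Y P H) : pResSub p H ⊔ P = H := by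
  set R := pResSub p H with hR
  have hRH : R ≤ H := pResSub_le p H
  have hle : R ⊔ P ≤ H := sup_le hRH hH.hPH
  by_contra hne2
  have hlt : R ⊔ P < H := lt_of_le_of_ne hle hne2
  have h1 : Y ≤ pCoreOf p (R ⊔ P) := hH.hmin _ le_sup_right hlt
  have h2 : SubnIn (R ⊔ P) H :=
    Cfsg.Agent.S2864.subnIn_of_pResSub_le (p := p) hRH (le_normalizer_pResSub p H) le_rfl
      le_sup_left hle
  have h3 : SubnIn (pCoreOf p (R ⊔ P)) (R ⊔ P) :=
    SubnIn.of_normal (pCoreOf_le _) (le_normalizer_pCoreOf p _)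
  exact hH.hYH (h1.trans (Cfsg.Agent.S2864.le_pCoreOf_of_subnIn (h3.trans h2)
    (pCoreOf_isPGroup p _)))

theorem FrakHData.pResSub_le_ncl (hH : FrakHData p Y P H) (hYP : Y ≤ P) (hP : IsPGroup p ↥P) :
    pResSub p H ≤ ncl H Y := by
  set N := ncl H Y with hN
  have hYH' : Y ≤ H := hYP.trans hH.hPH
  have hNH : N ≤ H := ncl_le hYH' Subgroup.le_normalizer
  have hHN : H ≤ Subgroup.normalizer (N : Set G) := le_normalizer_ncl H Y
  have hsup : N ⊔ P = H := by
    have hle : N ⊔ P ≤ H := sup_le hNH hH.hPH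
    by_contra hne2
    have hlt : N ⊔ P < H := lt_of_le_of_ne hle hne2
    have h1 : Y ≤ pCoreOf p (N ⊔ P) := hH.hmin _ le_sup_right hlt
    have h2 : Y ≤ pCoreOf p N :=
      (le_inf h1 (le_ncl H Y)).trans (pCoreOf_inf_le le_sup_left)
    apply hH.hYH
    refine h2.trans ?_
    apply le_pCoreOf ((pCoreOf_le _).trans hNH) (pCoreOf_isPGroup p _)
    exact hHN.trans (Cfsg.Agent.S2859.normalizer_le_normalizer_pCoreOf p _)
  rw [pResSub_le_iff]
  intro g hg hc
  have h1 : g ∈ ((N ⊔ P : Subgroup G) : Set G) := by rw [hsup]; exact hg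
  rw [Subgroup.coe_mul_of_right_le_normalizer_left N P (hH.hPH.trans hHN)] at h1
  obtain ⟨b, hb, y, hy, rfl⟩ := h1
  apply mem_of_coprime_of_mem_mul hb (hHN (hH.hPH hy)) _ hc
  obtain ⟨k, hk⟩ := hP ⟨y, hy⟩
  refine ⟨k, ?_⟩
  have := congrArg Subtype.val hk
  simpa using this

theorem FrakHData.pResSub_sup_eq_ncl (hH : FrakHData p Y P H) (hYP : Y ≤ P)
    (hP : IsPGroup p ↥P) (hPY : P ≤ Subgroup.normalizer (Y : Set G)) :
    pResSub p H ⊔ Y = ncl H Y := by
  set R := pResSub p H with hR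
  apply le_antisymm
  · exact sup_le (hH.pResSub_le_ncl hYP hP) (le_ncl H Y)
  · apply ncl_le le_sup_right
    rw [← hH.pResSub_sup]
    apply sup_le
    · exact le_sup_left.trans Subgroup.le_normalizer
    · exact le_normalizer_sup (hH.hPH.trans (le_normalizer_pResSub p H)) hPY

theorem FrakHData.commutator_eq (hH : FrakHData p Y P H) (hYP : Y ≤ P)
    (hP : IsPGroup p ↥P) (hPY : P ≤ Subgroup.normalizer (Y : Set G)) :
    ⁅pResSub p H, Y⁆ = pResSub p H := by
  set R := pResSub p H with hR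
  have hYH' : Y ≤ H := hYP.trans hH.hPH
  have hHR : H ≤ Subgroup.normalizer (R : Set G) := le_normalizer_pResSub p H
  have hle : ⁅R, Y⁆ ≤ R := Subgroup.le_normalizer_iff_commutator_le_left.mp (hYH'.trans hHR)
  apply le_antisymm hle
  set D := ⁅R, Y⁆ with hD
  -- D is normalized by R and P
  have hRD : R ≤ Subgroup.normalizer (D : Set G) := le_normalizer_commutator_left R Y
  have hPD : P ≤ Subgroup.normalizer (D : Set G) := by
    intro x hx
    apply mem_normalizer_of_map_conj_eq_self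
    rw [hD, Subgroup.map_commutator, map_conj_eq_self_of_mem_normalizer (hHR (hH.hPH hx)),
      map_conj_eq_self_of_mem_normalizer (hPY hx)]
  have hHD : H ≤ Subgroup.normalizer (D : Set G) := by
    rw [← hH.pResSub_sup]; exact sup_le hRD hPD
  -- D ⊔ Y is normalized by H
  have hRDY : R ≤ Subgroup.normalizer ((D ⊔ Y : Subgroup G) : Set G) := by
    intro r hr
    apply mem_normalizer_of_map_conj_le
    rw [Subgroup.map_sup, map_conj_eq_self_of_mem_normalizer (hRD hr)]
    apply sup_le le_sup_left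
    rintro _ ⟨y, hy, rfl⟩
    have e : (MulAut.conj r).toMonoidHom y = ⁅r, y⁆ * y := by
      simp only [MulEquiv.coe_toMonoidHom, MulAut.conj_apply, commutatorElement_def]
      group
    rw [e]
    exact Subgroup.mul_mem _ (le_sup_left (a := D) (b := Y)
      (Subgroup.commutator_mem_commutator hr hy)) (le_sup_right (a := D) (b := Y) hy)
  have hHDY : H ≤ Subgroup.normalizer ((D ⊔ Y : Subgroup G) : Set G) := by
    rw [← hH.pResSub_sup]; exact sup_le hRDY (le_normalizer_sup hPD hPY)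
  have h1 : ncl H Y ≤ D ⊔ Y := ncl_le le_sup_right hHDY
  have h2 : R ≤ D ⊔ Y := (hH.pResSub_le_ncl hYP hP).trans h1
  have h3 : pResSub p R ≤ D := by
    rw [pResSub_le_iff]
    intro g hg hc
    have h4 : g ∈ ((D ⊔ Y : Subgroup G) : Set G) := h2 hg
    rw [Subgroup.coe_mul_of_right_le_normalizer_left D Y (hYH'.trans hHD)] at h4
    obtain ⟨b, hb, y, hy, rfl⟩ := h4
    apply mem_of_coprime_of_mem_mul hb (hHD (hYH' hy)) _ hc
    obtain ⟨k, hk⟩ := hP ⟨y, hYP hy⟩
    refine ⟨k, ?_⟩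
    have := congrArg Subtype.val hk
    simpa using this
  rw [hR, pResSub_pResSub] at h3
  exact h3

end Cfsg.Agent.Lib.Lead.MSS
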