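import Mathlib
import Cfsg.Prelude.Def_LocalStructure
import Cfsg.Agent.Lib.Lead.MSS10
import Cfsg.Agent.Lib.Helper6.LocalKieler

set_option autoImplicit false

/-! `p`-irreducibility of the members of `ℌ_G(O_p(M))`. -/

namespace Cfsg.Agent.Lib.Lead.MSS

open Cfsg Cfsg.Agent.Lib.Helper6 Cfsg.Agent.Lib.Helper7 Cfsg.Agent.Lib.Lead.Subnormalizer
open scoped commutatorElement Pointwise

variable {G : Type*} [Group G]

local notation "cj[" g "]" => Subgroup.map (MulEquiv.toMonoidHom (MulAut.conj g))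

/-- ambient form of `p`-closedness -/
def PClA (p : ℕ) (N : Subgroup G) : Prop :=
  ∀ Q : Subgroup G, IsPGroup p ↥Q → Q ≤ N → Q ≤ pCoreOf p N

theorem PClA.of_le {p : ℕ} {N K : Subgroup G} (h : PClA p N) (hKN : K ≤ N) : PClA p K := by
  intro Q hQ hQK
  exact (le_inf (h Q hQ (hQK.trans hKN)) hQK).trans (pCoreOf_inf_le hKN)

theorem pclA_iff [Finite G] {p : ℕ} [Fact p.Prime] (N : Subgroup G) :
    PClA p N ↔ IsPClosed p ↥N := by
  constructor
  · intro h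
    obtain ⟨T⟩ : Nonempty (Sylow p ↥N) := inferInstance
    apply isPClosed_of_sylow_le_pCore T
    have h1 := h ((T : Subgroup ↥N).map N.subtype) (T.isPGroup'.map _)
      (by rintro _ ⟨y, _, rfl⟩; exact y.2)
    intro t ht
    obtain ⟨y, hy, hyt⟩ := h1 ⟨t, ht, rfl⟩
    have : y = t := Subtype.ext hyt
    rwa [← this]
  · intro h Q hQ hQN
    have h1 : Q.subgroupOf N ≤ pCore p ↥N :=
      isPClosed_le_pCore_of_isPGroup h hQ.comap_subtype
    intro q hq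
    exact ⟨⟨q, hQN hq⟩, h1 (Subgroup.mem_subgroupOf.mpr hq), rfl⟩

/-- the subgroup of elements acting trivially on `R / R₁` -/
def cmod (R R₁ : Subgroup G) : Subgroup G where
  carrier := {g | g ∈ Subgroup.normalizer (R : Set G) ∧ g ∈ Subgroup.normalizer (R₁ : Set G) ∧
    ∀ r ∈ R, r⁻¹ * (g * r * g⁻¹) ∈ R₁}
  one_mem' := by
    refine ⟨Subgroup.one_mem _, Subgroup.one_mem _, ?_⟩
    intro r _
    simp
  mul_mem' := by
    rintro g k ⟨hg1, hg2, hg3⟩ ⟨hk1, hk2, hk3⟩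
    refine ⟨Subgroup.mul_mem _ hg1 hk1, Subgroup.mul_mem _ hg2 hk2, ?_⟩
    intro r hr
    have hz : r⁻¹ * (k * r * k⁻¹) ∈ R₁ := hk3 r hr
    have hz' : g * (r⁻¹ * (k * r * k⁻¹)) * g⁻¹ ∈ R₁ :=
      (Subgroup.mem_normalizer_iff.mp hg2 _).mp hz
    have e : r⁻¹ * (g * k * r * (g * k)⁻¹) =
        (r⁻¹ * (g * r * g⁻¹)) * (g * (r⁻¹ * (k * r * k⁻¹)) * g⁻¹) := by group
    rw [e]
    exact Subgroup.mul_mem _ (hg3 r hr) hz'
  inv_mem' := by
    rintro g ⟨hg1, hg2, hg3⟩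
    refine ⟨Subgroup.inv_mem _ hg1, Subgroup.inv_mem _ hg2, ?_⟩
    intro r hr
    have hr' : g⁻¹ * r * g ∈ R := by
      have := (Subgroup.mem_normalizer_iff.mp (Subgroup.inv_mem _ hg1) r).mp hr
      simpa using this
    have hz := hg3 _ hr'
    have e : r⁻¹ * (g⁻¹ * r * g⁻¹⁻¹) = ((g⁻¹ * r * g)⁻¹ * (g * (g⁻¹ * r * g) * g⁻¹))⁻¹ := by
      group
    rw [e]
    exact Subgroup.inv_mem _ hz

theorem mem_cmod {R R₁ : Subgroup G} {g : G} : g ∈ cmod R R₁ ↔
    g ∈ Subgroup.normalizer (R : Set G) ∧ g ∈ Subgroup.normalizer (R₁ : Set G) ∧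
      ∀ r ∈ R, r⁻¹ * (g * r * g⁻¹) ∈ R₁ := Iff.rfl

variable [Finite G] {p : ℕ} [Fact p.Prime]

/-- If the `p'`-elements of `N` act trivially on `N / O_p(N)`, then `N` is `p`-closed. -/
theorem pclA_of_pResSub_le_cmod {N : Subgroup G}
    (h : pResSub p N ≤ cmod N (pCoreOf p N)) : PClA p N := by
  intro Q₀ hQ₀ hQ₀N
  obtain ⟨T₁, hT₁⟩ := exists_isSylowOf p N
  obtain ⟨k, hk, hQk⟩ := hT₁.exists_conj_ge hQ₀ hQ₀N
  set T := T₁.map (MulAut.conj k).toMonoidHom with hTdef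
  have hT : IsSylowOf p N T := by
    have := hT₁.map_conj k
    rwa [map_conj_eq_self_of_mem_normalizer (Subgroup.le_normalizer hk)] at this
  have hOT : pCoreOf p N ≤ T := pCoreOf_le_of_isSylowOf hT
  have hKW : pResSub p N ≤ N ⊓ Subgroup.normalizer (T : Set G) := by
    intro x hx
    refine ⟨pResSub_le p N hx, ?_⟩
    apply mem_normalizer_of_map_conj_le
    rintro _ ⟨t, ht, rfl⟩
    have h1 := (h hx).2.2 t⁻¹ (Subgroup.inv_mem _ (hT.1 ht))
    have h2 : (t⁻¹⁻¹ * (x * t⁻¹ * x⁻¹))⁻¹ ∈ T := Subgroup.inv_mem _ (hOT h1)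
    have e : (MulAut.conj x).toMonoidHom t = (t⁻¹⁻¹ * (x * t⁻¹ * x⁻¹))⁻¹ * t := by
      simp only [MulEquiv.coe_toMonoidHom, MulAut.conj_apply]; group
    rw [e]
    exact Subgroup.mul_mem _ h2 ht
  have h3 : N ≤ N ⊓ Subgroup.normalizer (T : Set G) :=
    le_of_isSylowOf_inf_le hT le_rfl Subgroup.le_normalizer (le_normalizer_pResSub p N)
      (fun d hd => exists_pow_mem_pResSub N hd) hKW
      (by intro x hx; exact ⟨hx.2, Subgroup.le_normalizer hx.1⟩)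
  have h4 : T ≤ pCoreOf p N := le_pCoreOf hT.1 hT.2.1 (h3.trans inf_le_right)
  exact hQk.trans h4

variable {Y P H : Subgroup G}

/-- members of `ℌ` are `p`-irreducible (ambient form) -/
theorem FrakHData.pIrr (hH : FrakHData p Y P H) (hYP : Y ≤ P) (hP : IsPGroup p ↥P)
    {N : Subgroup G} (hNH : N ≤ H) (hHN : H ≤ Subgroup.normalizer (N : Set G))
    (hN : ¬ PClA p N) : pResSub p H ≤ N := by
  have hYH' : Y ≤ H := hYP.trans hH.hPH
  by_cases hsup : N ⊔ P = H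
  · rw [pResSub_le_iff]
    intro g hg hc
    have h1 : g ∈ ((N ⊔ P : Subgroup G) : Set G) := by rw [hsup]; exact hg
    rw [Subgroup.coe_mul_of_right_le_normalizer_left N P (hH.hPH.trans hHN)] at h1
    obtain ⟨b, hb, y, hy, rfl⟩ := h1
    apply mem_of_coprime_of_mem_mul hb (hHN (hH.hPH hy)) _ hc
    obtain ⟨k, hk⟩ := hP ⟨y, hy⟩
    refine ⟨k, ?_⟩
    have := congrArg Subtype.val hk
    simpa using this
  · exfalso
    apply hN
    have hlt : N ⊔ P < H := lt_of_le_of_ne (sup_le hNH hH.hPH) hsup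
    have hYU : Y ≤ pCoreOf p (N ⊔ P) := hH.hmin _ le_sup_right hlt
    set U := pCoreOf p (N ⊔ P) with hU
    set O_N := pCoreOf p N with hON
    have hHON : H ≤ Subgroup.normalizer (O_N : Set G) :=
      hHN.trans (Cfsg.Agent.S2859.normalizer_le_normalizer_pCoreOf p N)
    apply pclA_of_pResSub_le_cmod
    -- conjugates of Y lie in cmod N O_N
    have h1 : ncl H Y ≤ cmod N O_N := by
      unfold ncl
      rw [Subgroup.closure_le]
      rintro _ ⟨b, hb, y, hy, rfl⟩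
      have hg : b * y * b⁻¹ ∈ H :=
        Subgroup.mul_mem _ (Subgroup.mul_mem _ hb (hYH' hy)) (Subgroup.inv_mem _ hb)
      refine ⟨hHN hg, hHON hg, ?_⟩
      intro n hn
      -- n₂ = b⁻¹ n b
      have hn₂ : b⁻¹ * n * b ∈ N := by
        have := (Subgroup.mem_normalizer_iff.mp (hHN (Subgroup.inv_mem _ hb)) n).mp hn
        simpa using this
      set n₂ := b⁻¹ * n * b with hn₂def
      have hyN : y ∈ Subgroup.normalizer (N : Set G) := hHN (hYH' hy)
      have h2 : n₂⁻¹ * (y * n₂ * y⁻¹) ∈ N :=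
        Subgroup.mul_mem _ (Subgroup.inv_mem _ hn₂)
          ((Subgroup.mem_normalizer_iff.mp hyN n₂).mp hn₂)
      have h3 : n₂⁻¹ * (y * n₂ * y⁻¹) ∈ U := by
        have hn₂U : n₂⁻¹ ∈ Subgroup.normalizer (U : Set G) :=
          le_normalizer_pCoreOf p (N ⊔ P) (le_sup_left (a := N) (b := P) (Subgroup.inv_mem _ hn₂))
        have h4 : n₂⁻¹ * y * n₂⁻¹⁻¹ ∈ U :=
          (Subgroup.mem_normalizer_iff.mp hn₂U y).mp (hYU hy)
        have e : n₂⁻¹ * (y * n₂ * y⁻¹) = (n₂⁻¹ * y * n₂⁻¹⁻¹) * y⁻¹ := by group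
        rw [e]
        exact Subgroup.mul_mem _ h4 (Subgroup.inv_mem _ (hYU hy))
      have h5 : n₂⁻¹ * (y * n₂ * y⁻¹) ∈ O_N := pCoreOf_inf_le le_sup_left ⟨h3, h2⟩
      have h6 : b * (n₂⁻¹ * (y * n₂ * y⁻¹)) * b⁻¹ ∈ O_N :=
        (Subgroup.mem_normalizer_iff.mp (hHON hb) _).mp h5
      have e : n⁻¹ * (b * y * b⁻¹ * n * (b * y * b⁻¹)⁻¹) =
          b * (n₂⁻¹ * (y * n₂ * y⁻¹)) * b⁻¹ := by
        rw [hn₂def]; group
      rw [e]; exact h6
    exact ((pResSub_mono p hNH).trans (hH.pResSub_le_ncl hYP hP)).trans h1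

/-- `p`-closedness passes from `N₀` to `N₀ ⊔ O'` for a `p`-subgroup `O'` normalized by `N₀`,
when `N₀ ⊔ O'` normalizes `O'`. -/
theorem PClA.sup {N₀ O' : Subgroup G} (h : PClA p N₀) (hO' : IsPGroup p ↥O')
    (hN₀O' : N₀ ≤ Subgroup.normalizer (O' : Set G)) : PClA p (N₀ ⊔ O') := by
  intro Q hQ hQle
  set U := pCoreOf p N₀ ⊔ O' with hU
  have hUp : IsPGroup p ↥U :=
    IsPGroup.to_sup_of_normal_right' (pCoreOf_isPGroup p N₀) hO' ((pCoreOf_le N₀).trans hN₀O')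
  have hUle : U ≤ N₀ ⊔ O' := sup_le_sup_right (pCoreOf_le N₀) O'
  have hnorm : N₀ ⊔ O' ≤ Subgroup.normalizer (U : Set G) := by
    apply sup_le
    · exact le_normalizer_sup (le_normalizer_pCoreOf p N₀) hN₀O'
    · exact le_sup_right.trans Subgroup.le_normalizer
  have hUcore : U ≤ pCoreOf p (N₀ ⊔ O') := le_pCoreOf hUle hUp hnorm
  refine le_trans ?_ hUcore
  -- Q ≤ U
  have hQO'p : IsPGroup p ↥(Q ⊔ O' : Subgroup G) :=
    IsPGroup.to_sup_of_normal_right' hQ hO' (hQle.trans (sup_le hN₀O' Subgroup.le_normalizer))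
  intro q hq
  have h1 : q ∈ ((N₀ ⊔ O' : Subgroup G) : Set G) := hQle hq
  rw [Subgroup.coe_mul_of_left_le_normalizer_right N₀ O' hN₀O'] at h1
  obtain ⟨n, hn, o, ho, hno⟩ := h1
  have hn' : n ∈ (Q ⊔ O') ⊓ N₀ := by
    refine ⟨?_, hn⟩
    have : n = q * o⁻¹ := by rw [← hno]; group
    rw [this]
    exact Subgroup.mul_mem _ (le_sup_left (a := Q) (b := O') hq)
      (Subgroup.inv_mem _ (le_sup_right (a := Q) (b := O') ho))
  have h2 : n ∈ pCoreOf p N₀ := h _ (hQO'p.to_le inf_le_left) inf_le_right hn'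
  rw [← hno]
  exact Subgroup.mul_mem _ (le_sup_left (a := pCoreOf p N₀) (b := O') h2)
    (le_sup_right (a := pCoreOf p N₀) (b := O') ho)

/-- `p`-irreducibility passes from `H` to `H' = H ⊔ O'`, `O'` a normal `p`-subgroup of `H'`,
when `H` is normal in `H'`. -/
theorem pIrr_sup {H H' O' : Subgroup G} (hHH' : H ≤ H') (hO'H' : O' ≤ H')
    (hsup : H ⊔ O' = H') (hO' : IsPGroup p ↥O')
    (hH'O' : H' ≤ Subgroup.normalizer (O' : Set G)) (hH'H : H' ≤ Subgroup.normalizer (H : Set G))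
    (hirr : ∀ N : Subgroup G, N ≤ H → H ≤ Subgroup.normalizer (N : Set G) → ¬ PClA p N →
      pResSub p H ≤ N)
    {N : Subgroup G} (hNH' : N ≤ H') (hH'N : H' ≤ Subgroup.normalizer (N : Set G))
    (hN : ¬ PClA p N) : pResSub p H ≤ N := by
  set N₀ := (N ⊔ O') ⊓ H with hN₀
  have hN₀H : N₀ ≤ H := inf_le_right
  have hHN₀ : H ≤ Subgroup.normalizer (N₀ : Set G) :=
    le_normalizer_inf (le_normalizer_sup (hHH'.trans hH'N) (hHH'.trans hH'O'))
      Subgroup.le_normalizer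
  have hsup2 : N ⊔ O' = N₀ ⊔ O' := by
    apply le_antisymm
    · intro x hx
      have h1 : x ∈ ((H ⊔ O' : Subgroup G) : Set G) := by
        rw [hsup]; exact (sup_le hNH' hO'H') hx
      rw [Subgroup.coe_mul_of_left_le_normalizer_right H O' (hHH'.trans hH'O')] at h1
      obtain ⟨h, hh, o, ho, hho⟩ := h1
      have hh' : h ∈ N₀ := by
        refine ⟨?_, hh⟩
        have : h = x * o⁻¹ := by rw [← hho]; group
        rw [this]
        exact Subgroup.mul_mem _ hx (Subgroup.inv_mem _ (le_sup_right (a := N) (b := O') ho))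
      rw [← hho]
      exact Subgroup.mul_mem _ (le_sup_left (a := N₀) (b := O') hh')
        (le_sup_right (a := N₀) (b := O') ho)
    · exact sup_le inf_le_left le_sup_right
  have hN₀' : ¬ PClA p N₀ := by
    intro hcl
    apply hN
    have h1 : PClA p (N₀ ⊔ O') := hcl.sup hO' ((hN₀H.trans hHH').trans hH'O')
    rw [← hsup2] at h1
    exact h1.of_le le_sup_left
  have h1 : pResSub p H ≤ N₀ := hirr N₀ hN₀H hHN₀ hN₀'
  have h2 : pResSub p (pResSub p H) ≤ pResSub p (N ⊔ O') :=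
    pResSub_mono p (h1.trans inf_le_left)
  rw [pResSub_pResSub] at h2
  refine h2.trans ?_
  rw [pResSub_le_iff]
  intro g hg hc
  have h3 : g ∈ ((N ⊔ O' : Subgroup G) : Set G) := hg
  rw [Subgroup.coe_mul_of_right_le_normalizer_left N O' (hO'H'.trans hH'N)] at h3
  obtain ⟨b, hb, y, hy, rfl⟩ := h3
  apply mem_of_coprime_of_mem_mul hb (hH'N (hO'H' hy)) _ hc
  obtain ⟨k, hk⟩ := hO' ⟨y, hy⟩
  refine ⟨k, ?_⟩
  have := congrArg Subtype.val hk
  simpa using this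

end Cfsg.Agent.Lib.Lead.MSS
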