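import Mathlib
import Cfsg.Prelude.Def_LocalStructure
import Cfsg.Agent.Lib.Lead.MSS1
import Cfsg.Agent.Lib.Lead.Frattini
import Cfsg.Agent.Lib.Helper7.SylNorm1

set_option autoImplicit false

/-! A minimal supplement of a normal subgroup `K` over a Sylow `p`-subgroup: `K` is `p`-closed and its
image modulo `O_p` lies in the Frattini subgroup. -/

namespace Cfsg.Agent.Lib.Lead.MSS

open Cfsg Cfsg.Agent.Lib.Helper6 Cfsg.Agent.Lib.Lead.Subnormalizer

variable {G : Type*} [Group G] [Finite G] {p : ℕ} [Fact p.Prime]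

omit [Finite G] [Fact p.Prime] in
theorem card_inf_mul_relIndex (A B : Subgroup G) :
    Nat.card ((A ⊓ B : Subgroup G)) * A.relIndex B = Nat.card B := by
  rw [← Subgroup.inf_relIndex_right]
  have := (Subgroup.subgroupOf (A ⊓ B) B).card_mul_index
  rw [Subgroup.relIndex, ← this]
  congr 1
  exact (Nat.card_congr (Subgroup.subgroupOfEquivOfLe (inf_le_right : A ⊓ B ≤ B)).toEquiv).symm

/-- if `R ⊔ K = ⊤` with `K` normal, then `[G : R] = [K : R ⊓ K]`. -/
theorem index_eq_relIndex_of_sup_eq_top (R K : Subgroup G) [K.Normal] (h : R ⊔ K = ⊤) :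
    R.index = R.relIndex K := by
  have h1 : K.relIndex (K ⊔ R) = K.relIndex R := Subgroup.relIndex_sup_left R K
  rw [sup_comm, h, Subgroup.relIndex_top_right] at h1
  have e1 := K.card_mul_index
  have e2 := R.card_mul_index
  have e3 : Nat.card ((K ⊓ R : Subgroup G)) * K.relIndex R = Nat.card R := card_inf_mul_relIndex K R
  have e4 : Nat.card ((R ⊓ K : Subgroup G)) * R.relIndex K = Nat.card K := card_inf_mul_relIndex R K
  rw [inf_comm] at e3
  have hpos : 0 < Nat.card ((R ⊓ K : Subgroup G)) * K.relIndex R := by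
    rw [e3]; exact Nat.card_pos
  have : Nat.card ((R ⊓ K : Subgroup G)) * K.relIndex R * R.index =
      Nat.card ((R ⊓ K : Subgroup G)) * K.relIndex R * R.relIndex K := by
    rw [e3, e2, ← e1, h1, ← e4, ← e3]; ring
  exact Nat.eq_of_mul_eq_mul_left hpos this


/-- A supplement `R` of the normal subgroup `K` that contains a normal Sylow `p`-subgroup of `K`
contains a `K`-conjugate of every Sylow `p`-subgroup. -/
theorem exists_conj_sylow_le_of_sup_eq_top (T : Sylow p G) (K : Subgroup G) [K.Normal]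
    (R : Subgroup G) (hTK : (T : Subgroup G) ⊓ K ≤ R) (h : R ⊔ K = ⊤) :
    ∃ k ∈ K, ∀ t ∈ (T : Subgroup G), k * t * k⁻¹ ∈ R := by
  have hidx : ¬ p ∣ R.index := by
    rw [index_eq_relIndex_of_sup_eq_top R K h, ← Subgroup.inf_relIndex_right]
    have hsyl := isSylowOf_inf_of_le_normalizer T K
      (by rw [Subgroup.normalizer_eq_top_iff.mpr inferInstance]; exact le_top)
    obtain ⟨S, hS⟩ := hsyl.exists_sylow
    have h3 : ((T : Subgroup G) ⊓ K).relIndex K = (S : Subgroup K).index := by
      rw [Subgroup.relIndex, ← hS]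
      congr 1
      exact Subgroup.comap_map_eq_self_of_injective K.subtype_injective _
    have h4 : ¬ p ∣ (S : Subgroup K).index := S.not_dvd_index
    have h2 : (R ⊓ K).relIndex K ∣ ((T : Subgroup G) ⊓ K).relIndex K :=
      Subgroup.relIndex_dvd_of_le_left K (le_inf hTK inf_le_right)
    intro hd
    exact h4 (h3 ▸ dvd_trans hd h2)
  obtain ⟨P, hP⟩ := Cfsg.Agent.Lib.Helper7.SylNorm.exists_sylow_le_of_not_dvd_index R hidx
  obtain ⟨g, hg⟩ := MulAction.exists_smul_eq G T P
  have hgtop : g ∈ R ⊔ K := by rw [h]; trivial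
  obtain ⟨r, hr, k, hk, rfl⟩ := Subgroup.mem_sup_of_normal_right.mp hgtop
  refine ⟨k, hk, fun t ht => ?_⟩
  have h1 : (r * k) * t * (r * k)⁻¹ ∈ (P : Subgroup G) := by
    rw [← hg, sylow_smul_eq_map_conj, mem_map_conj]
    convert ht using 1
    group
  have h2 := hP h1
  have h3 : k * t * k⁻¹ = r⁻¹ * ((r * k) * t * (r * k)⁻¹) * r := by group
  rw [h3]
  exact R.mul_mem (R.mul_mem (R.inv_mem hr) h2) hr

/-- **Frattini lemma.** Let `K ⊴ G` have a normal Sylow `p`-subgroup `T ∩ K`, and suppose no proper subgroup of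
`G` containing the Sylow `p`-subgroup `T` supplements `K`. Then the image of `K` in `G / O_p(G)` lies in the Frattini
subgroup. -/
theorem map_le_frattini_of_minimal (T : Sylow p G) (K : Subgroup G) [K.Normal]
    (hTK : ((T : Subgroup G) ⊓ K).Normal)
    (hmin : ∀ R : Subgroup G, (T : Subgroup G) ≤ R → R ⊔ K = ⊤ → R = ⊤) :
    K.map (QuotientGroup.mk' (pCore p G)) ≤ frattini (G ⧸ pCore p G) := by
  set Q := pCore p G with hQ
  set π := QuotientGroup.mk' Q with hπ
  have hsurj : Function.Surjective π := QuotientGroup.mk'_surjective Q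
  rw [Cfsg.Agent.Lib.Lead.le_frattini_iff]
  intro Rb hRb
  by_contra hK
  set R := Rb.comap π with hR
  have hQR : Q ≤ R := by
    intro q hq
    rw [hR, Subgroup.mem_comap]
    have : π q = 1 := (QuotientGroup.eq_one_iff q).mpr hq
    rw [this]; exact Rb.one_mem
  have hRtop : R ≠ ⊤ := by
    intro h
    apply hRb.1
    rw [eq_top_iff]
    intro x _
    obtain ⟨y, rfl⟩ := hsurj x
    have : y ∈ R := by rw [h]; trivial
    exact this
  have hsup : Rb ⊔ K.map π = ⊤ := by
    apply hRb.2
    exact lt_of_le_of_ne le_sup_left (fun h => hK (by rw [h]; exact le_sup_right))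
  have hRK : R ⊔ K = ⊤ := by
    rw [eq_top_iff]
    intro x _
    have hx : π x ∈ Rb ⊔ K.map π := by rw [hsup]; trivial
    haveI : (K.map π).Normal := Subgroup.Normal.map inferInstance π hsurj
    obtain ⟨r, hr, kb, hkb, hrk⟩ := Subgroup.mem_sup_of_normal_right.mp hx
    obtain ⟨k, hk, rfl⟩ := hkb
    have hxk : x * k⁻¹ ∈ R := by
      rw [hR, Subgroup.mem_comap, map_mul, map_inv, ← hrk]
      simpa using hr
    have : x = (x * k⁻¹) * k := by group
    rw [this]
    exact Subgroup.mul_mem _ (Subgroup.mem_sup_left hxk) (Subgroup.mem_sup_right hk)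
  have hP0 : (T : Subgroup G) ⊓ K ≤ R := by
    refine le_trans ?_ hQR
    exact le_pCore hTK (T.isPGroup'.to_le inf_le_left)
  obtain ⟨k, hk, hconj⟩ := exists_conj_sylow_le_of_sup_eq_top T K R hP0 hRK
  -- conjugate `R` back by `k`
  set R2 : Subgroup G := R.map (MulAut.conj k⁻¹).toMonoidHom with hR2
  have hTR2 : (T : Subgroup G) ≤ R2 := by
    intro t ht
    rw [hR2, mem_map_conj]
    simpa using hconj t ht
  have hR2K : R2 ⊔ K = ⊤ := by
    have hKc : K.map (MulAut.conj k⁻¹).toMonoidHom = K :=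
      map_conj_eq_self_of_mem_normalizer
        (by rw [Subgroup.normalizer_eq_top_iff.mpr inferInstance]; trivial)
    rw [hR2, ← hKc, ← Subgroup.map_sup, hRK, Subgroup.map_top_of_surjective]
    exact (MulAut.conj k⁻¹).surjective
  have := hmin R2 hTR2 hR2K
  apply hRtop
  rw [hR2] at this
  have h2 := congrArg (Subgroup.map (MulAut.conj k).toMonoidHom) this
  rw [map_conj_map_conj] at h2
  simp only [mul_inv_cancel] at h2
  rw [map_conj_one, Subgroup.map_top_of_surjective _ (MulAut.conj k).surjective] at h2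
  exact h2

end Cfsg.Agent.Lib.Lead.MSS
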