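import Mathlib
import Cfsg.Prelude.Def_LocalStructure
import Cfsg.Agent.Lib.Lead.MSS2
import Cfsg.Agent.Lib.Helper6.LocalKieler
import Cfsg.Agent.Lib.Helper6.Amalgam3

set_option autoImplicit false

/-! Existence of members of `𝔐_H` above a given member of `𝓛_H(T)`. -/

namespace Cfsg.Agent.Lib.Lead.MSS

open Cfsg Cfsg.Agent.Lib.Helper6 Cfsg.Agent.Lib.Lead.Subnormalizer
open scoped Pointwise

variable {H : Type*} [Group H]

theorem pCore_ne_bot_iff {p : ℕ} (R : Subgroup H) : pCore p ↥R ≠ ⊥ ↔ pCoreOf p R ≠ ⊥ := by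
  unfold pCoreOf
  rw [Ne, Ne, Subgroup.map_eq_bot_iff_of_injective _ R.subtype_injective]

theorem mem_charP_iff {p : ℕ} (R : Subgroup H) : R ∈ charPSubgroups p H ↔
    pCoreOf p R ≠ ⊥ ∧ Subgroup.centralizer ((pCoreOf p R : Subgroup H) : Set H) ≤ pCoreOf p R := by
  unfold charPSubgroups
  rw [Set.mem_setOf_eq, pCore_ne_bot_iff]
  rfl

theorem inner_of_mem_charP {p : ℕ} {R : Subgroup H} (hR : R ∈ charPSubgroups p H) :
    Subgroup.centralizer (pCore p ↥R : Set ↥R) ≤ pCore p ↥R := by
  intro x hx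
  have h1 : (x : H) ∈ Subgroup.centralizer ((pCoreOf p R : Subgroup H) : Set H) := by
    rw [Subgroup.mem_centralizer_iff]
    rintro _ ⟨q, hq, rfl⟩
    exact congrArg Subtype.val (Subgroup.mem_centralizer_iff.mp hx q hq)
  obtain ⟨y, hy, hyx⟩ := ((mem_charP_iff R).mp hR).2 h1
  have : y = x := Subtype.ext hyx
  rwa [this] at hy

variable [Finite H] {p : ℕ} [Fact p.Prime]

theorem mem_charP_of_le (T : Sylow p H) {M A : Subgroup H} (hTM : (T : Subgroup H) ≤ M)
    (hMA : M ≤ A) (hA : A ∈ charPSubgroups p H) : M ∈ charPSubgroups p H := by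
  obtain ⟨h1, h2⟩ := (mem_charP_iff A).mp hA
  have hPT : pCoreOf p A ≤ T :=
    pCoreOf_le_of_isSylowOf (isSylowOf_of_sylow_le T (hTM.trans hMA))
  have hPM : pCoreOf p A ≤ pCoreOf p M :=
    le_pCoreOf (hPT.trans hTM) (pCoreOf_isPGroup p A) (hMA.trans (le_normalizer_pCoreOf p A))
  rw [mem_charP_iff]
  refine ⟨fun h => h1 (le_bot_iff.mp (h ▸ hPM)), ?_⟩
  exact (Subgroup.centralizer_le (by exact_mod_cast hPM)).trans (h2.trans hPM)

theorem largestPReducedOf_ne_bot (T : Sylow p H) {R : Subgroup H} (hTR : (T : Subgroup H) ≤ R)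
    (hR : R ∈ charPSubgroups p H) : largestPReducedOf p R ≠ ⊥ := by
  obtain ⟨h1, _⟩ := (mem_charP_iff R).mp hR
  have hsyl : IsSylowOf p R (T : Subgroup H) := isSylowOf_of_sylow_le T hTR
  have hPT : pCoreOf p R ≤ T := pCoreOf_le_of_isSylowOf hsyl
  have hT1 : (T : Subgroup H) ≠ ⊥ := fun h => h1 (le_bot_iff.mp (h ▸ hPT))
  have h2 : omegaZ p (T : Subgroup H) ≠ ⊥ := omegaZ_ne_bot T.isPGroup' hT1
  have h3 : omegaZ p (T : Subgroup H) ≤ largestPReducedOf p R :=
    (omegaZ_le_sylowCenterClosure hsyl).trans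
      (sylowCenterClosure_le_largestPReducedOf R (inner_of_mem_charP hR))
  exact fun h => h2 (le_bot_iff.mp (h ▸ h3))

/-- the hypothesis that every overgroup of `T` with nontrivial `O_p` lies in `𝓛_H` -/
def ParHyp (T : Sylow p H) : Prop :=
  ∀ R : Subgroup H, (T : Subgroup H) ≤ R → pCoreOf p R ≠ ⊥ →
    Subgroup.centralizer ((pCoreOf p R : Subgroup H) : Set H) ≤ pCoreOf p R

theorem normalizer_largestPReducedOf_mem (T : Sylow p H) (hP : ParHyp T) {A : Subgroup H}
    (hTA : (T : Subgroup H) ≤ A) (hA : A ∈ charPSubgroups p H) :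
    Subgroup.normalizer (largestPReducedOf p A : Set H) ∈ charPSubgroups p H := by
  set Y := largestPReducedOf p A with hY
  obtain ⟨hAY, hYe, _⟩ := largestPReducedOf_spec p A
  have hYp : IsPGroup p Y := isPGroup_of_isElementaryAbelian hYe
  have hYN : Y ≤ pCoreOf p (Subgroup.normalizer (Y : Set H)) :=
    le_pCoreOf Subgroup.le_normalizer hYp le_rfl
  have hne : pCoreOf p (Subgroup.normalizer (Y : Set H)) ≠ ⊥ := fun h =>
    largestPReducedOf_ne_bot T hTA hA (le_bot_iff.mp (h ▸ hYN))
  rw [mem_charP_iff]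
  exact ⟨hne, hP _ (hTA.trans hAY) hne⟩

/-- ambient Frattini argument -/
theorem le_inf_normalizer_sup_of_isSylowOf {K M P : Subgroup H} (hKM : K ≤ M)
    (hMK : M ≤ Subgroup.normalizer (K : Set H))
    (hP : IsSylowOf p K P) : M ≤ (M ⊓ Subgroup.normalizer (P : Set H)) ⊔ K := by
  intro m hm
  have hK' : K.map (MulAut.conj m).toMonoidHom = K := map_conj_eq_self_of_mem_normalizer (hMK hm)
  have hP' : IsSylowOf p K (P.map (MulAut.conj m).toMonoidHom) := by
    have := hP.map_conj m
    rwa [hK'] at this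
  obtain ⟨g, hg, hgP⟩ := hP.exists_conj hP'
  have hn : g⁻¹ * m ∈ Subgroup.normalizer (P : Set H) := by
    apply mem_normalizer_of_map_conj_eq_self
    rw [← map_conj_map_conj, hgP, map_conj_map_conj, inv_mul_cancel, map_conj_one]
  have hmem : g⁻¹ * m ∈ M := M.mul_mem (M.inv_mem (hKM hg)) hm
  have e2 : m = g * (g⁻¹ * m) := by group
  rw [e2, sup_comm]
  exact Subgroup.mul_mem _ (Subgroup.mem_sup_left hg) (Subgroup.mem_sup_right ⟨hmem, hn⟩)


/-- Properties of a minimal supplement `M ≥ T` of `C_H(Y)` in `Ã = N_H(Y)`, `Y = Y_Ã`. -/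
theorem minimal_supplement_props (T : Sylow p H) {At M : Subgroup H}
    (hAt : At ∈ charPSubgroups p H)
    (hN : At = Subgroup.normalizer (largestPReducedOf p At : Set H))
    (hTM : (T : Subgroup H) ≤ M) (hMAt : M ≤ At)
    (hMC : M ⊔ Subgroup.centralizer (largestPReducedOf p At : Set H) = At)
    (hmin : ∀ R : Subgroup H, (T : Subgroup H) ≤ R → R ≤ M →
      R ⊔ Subgroup.centralizer (largestPReducedOf p At : Set H) = At → M ≤ R) :
    M ∈ charPSubgroups p H ∧ largestPReducedOf p M = largestPReducedOf p At ∧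
      IsPClosed p ↥(M ⊓ Subgroup.centralizer (largestPReducedOf p At : Set H)) ∧
      ((M ⊓ Subgroup.centralizer (largestPReducedOf p At : Set H)).subgroupOf M).map
          (QuotientGroup.mk' (pCore p ↥M)) ≤ frattini (↥M ⧸ pCore p ↥M) := by
  classical
  set Y := largestPReducedOf p At with hY
  set C := Subgroup.centralizer (Y : Set H) with hC
  have hTAt : (T : Subgroup H) ≤ At := hTM.trans hMAt
  have hCAt : C ≤ At := by rw [hN]; exact Subgroup.centralizer_le_normalizer _
  have hAtY : At ≤ Subgroup.normalizer (Y : Set H) := by rw [← hN]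
  have hAtC : At ≤ Subgroup.normalizer (C : Set H) :=
    hAtY.trans (normalizer_le_normalizer_centralizer Y)
  have hML : M ∈ charPSubgroups p H := mem_charP_of_le T hTM hMAt hAt
  obtain ⟨_, hYe, hYr⟩ := largestPReducedOf_spec p At
  rw [← hY] at hYe hYr
  -- `Y_M = Y`
  have hYT : Y ≤ T := (largestPReducedOf_le_pCoreOf p At).trans
    (pCoreOf_le_of_isSylowOf (isSylowOf_of_sylow_le T hTAt))
  have hYM : largestPReducedOf p M = Y := by
    apply le_antisymm
    · exact largestPReducedOf_mono T hTM hMAt (inf_le_right.trans ((mem_charP_iff _).mp hAt).2)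
    · apply le_largestPReducedOf (hYT.trans hTM) (hMAt.trans hAtY) hYe
      exact RedOn.of_sup_eq (hMAt.trans hAtY) hAtY (by rw [hMC]; exact (sup_eq_left.mpr hCAt).symm) hYr
  refine ⟨hML, hYM, ?_, ?_⟩
  all_goals
    set K := M ⊓ C with hK
    have hMK : M ≤ Subgroup.normalizer (K : Set H) :=
      le_normalizer_inf Subgroup.le_normalizer (hMAt.trans hAtC)
    have hsyl : IsSylowOf p K ((T : Subgroup H) ⊓ K) :=
      isSylowOf_inf_of_le_normalizer T K (hTM.trans hMK)
    have hMP0 : M ≤ Subgroup.normalizer (((T : Subgroup H) ⊓ K : Subgroup H) : Set H) := by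
      have h1 := le_inf_normalizer_sup_of_isSylowOf (inf_le_left : K ≤ M) hMK hsyl
      have h2 := hmin (M ⊓ Subgroup.normalizer (((T : Subgroup H) ⊓ K : Subgroup H) : Set H))
        (le_inf hTM (le_normalizer_inf Subgroup.le_normalizer (hTM.trans hMK))) inf_le_left
        (by
          apply le_antisymm (sup_le (inf_le_left.trans hMAt) hCAt)
          rw [← hMC]
          apply sup_le _ le_sup_right
          exact h1.trans (sup_le le_sup_left (inf_le_right.trans le_sup_right)))
      exact h2.trans inf_le_right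
  · -- `p`-closed
    obtain ⟨S₀, hS₀⟩ := hsyl.exists_sylow
    have hS₀' : (S₀ : Subgroup K) = ((T : Subgroup H) ⊓ K).subgroupOf K := by
      rw [← hS₀]
      exact (Subgroup.comap_map_eq_self_of_injective K.subtype_injective _).symm
    have hnorm : (S₀ : Subgroup K).Normal := by
      rw [hS₀']
      exact Subgroup.normal_subgroupOf_of_le_normalizer (inf_le_left.trans hMP0)
    intro P
    haveI := Sylow.unique_of_normal S₀ hnorm
    rw [Subsingleton.elim P S₀]
    exact hnorm
  · -- Frattini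
    have hKn : (K.subgroupOf M).Normal := Subgroup.normal_subgroupOf_of_le_normalizer hMK
    have hcoe : ((T.subtype hTM : Sylow p ↥M) : Subgroup ↥M) = (T : Subgroup H).subgroupOf M :=
      Sylow.coe_subtype T hTM
    have hinf : ((T.subtype hTM : Sylow p ↥M) : Subgroup ↥M) ⊓ K.subgroupOf M =
        ((T : Subgroup H) ⊓ K).subgroupOf M := by
      rw [hcoe]; ext x; simp [Subgroup.mem_subgroupOf]
    apply map_le_frattini_of_minimal (T.subtype hTM) (K.subgroupOf M)
    · rw [hinf]
      exact Subgroup.normal_subgroupOf_of_le_normalizer hMP0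
    · intro R' hTR' hR'K
      have hRM : R'.map M.subtype ≤ M := Subgroup.map_subtype_le R'
      have h1 : M ≤ R'.map M.subtype := by
        apply hmin _ _ hRM
        · apply le_antisymm (sup_le (hRM.trans hMAt) hCAt)
          rw [← hMC]
          apply sup_le _ le_sup_right
          have h2 : (R' ⊔ K.subgroupOf M).map M.subtype = M := by
            rw [hR'K, ← MonoidHom.range_eq_map, Subgroup.range_subtype]
          rw [Subgroup.map_sup, Subgroup.subgroupOf_map_subtype] at h2
          have h3 : M ≤ R'.map M.subtype ⊔ K ⊓ M := h2.ge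
          exact h3.trans (sup_le le_sup_left ((inf_le_left.trans inf_le_right).trans le_sup_right))
        · intro t ht
          exact ⟨⟨t, hTM ht⟩, hTR' (by rw [hcoe, Subgroup.mem_subgroupOf]; exact ht), rfl⟩
      rw [eq_top_iff]
      intro x _
      obtain ⟨y, hy, hyx⟩ := h1 x.2
      have : y = x := Subtype.ext hyx
      rwa [this] at hy


/-- the conclusion of the existence theorem for `L` -/
def FrakMConcl (p : ℕ) (T : Subgroup H) (L : Subgroup H) : Prop :=
  ∃ M Ls : Subgroup H, T ≤ M ∧ IsInFrakM p M ∧ T ≤ Ls ∧ Ls ≤ M ∧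
    Ls ∈ charPSubgroups p H ∧ largestPReducedOf p L = largestPReducedOf p Ls ∧
    largestPReducedOf p L ≤ largestPReducedOf p M ∧
    L ⊔ Subgroup.centralizer (largestPReducedOf p L : Set H) =
      Ls ⊔ Subgroup.centralizer (largestPReducedOf p L : Set H)

theorem exists_frakM_aux (T : Sylow p H) (hP : ParHyp T) :
    ∀ n : ℕ, ∀ A L : Subgroup H, Nat.card H - Nat.card (largestPReducedOf p A) = n →
      (T : Subgroup H) ≤ L → L ≤ A → L ∈ charPSubgroups p H → A ∈ charPSubgroups p H →
      FrakMConcl p (T : Subgroup H) L := by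
  classical
  intro n
  induction n using Nat.strong_induction_on with
  | _ n ih =>
  intro A L hn hTL hLA hL hA
  have hmono : ∀ {X Z : Subgroup H}, (T : Subgroup H) ≤ X → X ≤ Z → Z ∈ charPSubgroups p H →
      largestPReducedOf p X ≤ largestPReducedOf p Z :=
    fun hTX hXZ hZ => largestPReducedOf_mono T hTX hXZ (inf_le_right.trans ((mem_charP_iff _).mp hZ).2)
  have hlt : ∀ X : Subgroup H, largestPReducedOf p A ≤ largestPReducedOf p X →
      largestPReducedOf p X ≠ largestPReducedOf p A →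
      Nat.card H - Nat.card (largestPReducedOf p X) < n := by
    intro X hle hne
    have h1 : Nat.card (largestPReducedOf p A) < Nat.card (largestPReducedOf p X) := by
      by_contra hc
      exact hne (Subgroup.eq_of_le_of_card_ge hle (not_lt.mp hc)).symm
    have h2 : Nat.card (largestPReducedOf p X) ≤ Nat.card H := Subgroup.card_le_card_group _
    omega
  have hTA : (T : Subgroup H) ≤ A := hTL.trans hLA
  set A1 := Subgroup.normalizer (largestPReducedOf p A : Set H) with hA1def
  have hAA1 : A ≤ A1 := (largestPReducedOf_spec p A).1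
  have hA1 : A1 ∈ charPSubgroups p H := normalizer_largestPReducedOf_mem T hP hTA hA
  have hYA1 : largestPReducedOf p A ≤ largestPReducedOf p A1 := hmono hTA hAA1 hA1
  by_cases hYeq : largestPReducedOf p A1 = largestPReducedOf p A
  swap
  · exact ih _ (hlt A1 hYA1 hYeq) A1 L rfl hTL (hLA.trans hAA1) hL hA1
  have hN : A1 = Subgroup.normalizer (largestPReducedOf p A1 : Set H) := by rw [hYeq]
  set C := Subgroup.centralizer (largestPReducedOf p A1 : Set H) with hC
  have hCA1 : C ≤ A1 := by rw [hN]; exact Subgroup.centralizer_le_normalizer _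
  have hA1C : A1 ≤ Subgroup.normalizer (C : Set H) := by
    rw [hN]; exact normalizer_le_normalizer_centralizer _
  have hTA1 : (T : Subgroup H) ≤ A1 := hTA.trans hAA1
  -- a minimal supplement
  let 𝓖 : Set (Subgroup H) := {M | (T : Subgroup H) ≤ M ∧ M ≤ A1 ∧ M ⊔ C = A1}
  have hA1𝓖 : A1 ∈ 𝓖 := ⟨hTA1, le_rfl, sup_eq_left.mpr hCA1⟩
  obtain ⟨M, hMmin⟩ := (Set.toFinite 𝓖).exists_minimal ⟨A1, hA1𝓖⟩
  obtain ⟨hTM, hMA1, hMC⟩ := hMmin.prop
  have hmin : ∀ R : Subgroup H, (T : Subgroup H) ≤ R → R ≤ M → R ⊔ C = A1 → M ≤ R :=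
    fun R h1 h2 h3 => hMmin.le_of_le ⟨h1, h2.trans hMA1, h3⟩ h2
  obtain ⟨hML, hYM, hpc, hfr⟩ := minimal_supplement_props T hA1 hN hTM hMA1 hMC hmin
  -- the subgroup `L*`
  set Ls := (L ⊔ C) ⊓ M with hLs
  have hTLs : (T : Subgroup H) ≤ Ls := le_inf (hTL.trans le_sup_left) hTM
  have hLsM : Ls ≤ M := inf_le_right
  have hLsL : Ls ∈ charPSubgroups p H := mem_charP_of_le T hTLs (hLsM.trans hMA1) hA1
  have hYL_A1 : largestPReducedOf p L ≤ largestPReducedOf p A1 := hmono hTL (hLA.trans hAA1) hA1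
  have hCL : C ≤ Subgroup.centralizer (largestPReducedOf p L : Set H) :=
    Subgroup.centralizer_le (by exact_mod_cast hYL_A1)
  have hYLs_A1 : largestPReducedOf p Ls ≤ largestPReducedOf p A1 := by
    rw [← hYM]; exact hmono hTLs hLsM hML
  have hCLs : C ≤ Subgroup.centralizer (largestPReducedOf p Ls : Set H) :=
    Subgroup.centralizer_le (by exact_mod_cast hYLs_A1)
  have hsupC : Ls ⊔ C = L ⊔ C := by
    apply le_antisymm (sup_le inf_le_left le_sup_right)
    apply sup_le _ le_sup_right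
    intro x hx
    have hx1 : x ∈ M ⊔ C := by rw [hMC]; exact hLA.trans hAA1 hx
    have hmem : x ∈ (M : Set H) * (C : Set H) := by
      rw [← Subgroup.coe_mul_of_left_le_normalizer_right _ _ (hMA1.trans hA1C)]; exact hx1
    obtain ⟨m, hm, c, hc, rfl⟩ := Set.mem_mul.mp hmem
    have hm' : m ∈ Ls := by
      refine ⟨?_, hm⟩
      have e : m = (m * c) * c⁻¹ := by group
      rw [e]
      exact Subgroup.mul_mem _ (Subgroup.mem_sup_left hx) (Subgroup.mem_sup_right (C.inv_mem hc))
    exact Subgroup.mul_mem _ (Subgroup.mem_sup_left hm') (Subgroup.mem_sup_right hc)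
  have hsupCL : L ⊔ Subgroup.centralizer (largestPReducedOf p L : Set H) =
      Ls ⊔ Subgroup.centralizer (largestPReducedOf p L : Set H) := by
    rw [← sup_eq_right.mpr hCL, ← sup_assoc, ← sup_assoc, hsupC]
  have hsupCLs : L ⊔ Subgroup.centralizer (largestPReducedOf p Ls : Set H) =
      Ls ⊔ Subgroup.centralizer (largestPReducedOf p Ls : Set H) := by
    rw [← sup_eq_right.mpr hCLs, ← sup_assoc, ← sup_assoc, hsupC]
  have hsylL : IsSylowOf p L (T : Subgroup H) := isSylowOf_of_sylow_le T hTL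
  have hsylLs : IsSylowOf p Ls (T : Subgroup H) := isSylowOf_of_sylow_le T hTLs
  have hYLT : largestPReducedOf p L ≤ T :=
    (largestPReducedOf_le_pCoreOf p L).trans (pCoreOf_le_of_isSylowOf hsylL)
  have hYLsT : largestPReducedOf p Ls ≤ T :=
    (largestPReducedOf_le_pCoreOf p Ls).trans (pCoreOf_le_of_isSylowOf hsylLs)
  obtain ⟨hLn, hLe, hLr⟩ := largestPReducedOf_spec p L
  obtain ⟨hLsn, hLse, hLsr⟩ := largestPReducedOf_spec p Ls
  have hYLs : largestPReducedOf p L = largestPReducedOf p Ls := by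
    apply le_antisymm
    · have hn1 : Ls ≤ Subgroup.normalizer (largestPReducedOf p L : Set H) :=
        inf_le_left.trans (sup_le hLn (hCL.trans (Subgroup.centralizer_le_normalizer _)))
      exact le_largestPReducedOf (hYLT.trans hTLs) hn1 hLe
        (RedOn.of_sup_eq hn1 hLn hsupCL.symm hLr)
    · have hn1 : L ≤ Subgroup.normalizer (largestPReducedOf p Ls : Set H) := by
        refine le_trans (le_sup_left : L ≤ L ⊔ C) ?_
        rw [← hsupC]
        exact sup_le hLsn (hCLs.trans (Subgroup.centralizer_le_normalizer _))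
      exact le_largestPReducedOf (hYLsT.trans hTL) hn1 hLse
        (RedOn.of_sup_eq hn1 hLsn hsupCLs hLsr)
  have hYLM : largestPReducedOf p L ≤ largestPReducedOf p M := by rw [hYM]; exact hYL_A1
  by_cases hU : ∀ X ∈ charPSubgroups p H, M ≤ X → X ≤ A1
  · refine ⟨M, Ls, hTM, ?_, hTLs, hLsM, hLsL, hYLs, hYLM, hsupCL⟩
    unfold IsInFrakM
    rw [hYM, hMC]
    refine ⟨hML, ⟨hA1, fun X hX hA1X => le_antisymm (hU X hX (hMA1.trans hA1X)) hA1X⟩, ?_, rfl, hpc, hfr⟩
    intro X hX hMX
    exact (hX.2 A1 hA1 (hU X hX.1 hMX)).symm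
  · push Not at hU
    obtain ⟨X, hX, hMX, hXA1⟩ := hU
    have hYX : largestPReducedOf p A1 ≤ largestPReducedOf p X := by
      rw [← hYM]; exact hmono hTM hMX hX
    have hne : largestPReducedOf p X ≠ largestPReducedOf p A := by
      intro h
      apply hXA1
      rw [hA1def, ← h]
      exact (largestPReducedOf_spec p X).1
    obtain ⟨M', Ls', h1, h2, h3, h4, h5, h6, h7, h8⟩ :=
      ih _ (hlt X (hYeq ▸ hYX) hne) X Ls rfl hTLs (hLsM.trans hMX) hLsL hX
    refine ⟨M', Ls', h1, h2, h3, h4, h5, hYLs.trans h6, ?_, ?_⟩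
    · rw [hYLs]; exact h7
    · rw [hsupCL, hYLs]; exact h8

/-- **Existence of members of `𝔐_H`.** -/
theorem exists_frakM (T : Sylow p H) (hP : ParHyp T) (L : Subgroup H)
    (hTL : (T : Subgroup H) ≤ L) (hL : L ∈ charPSubgroups p H) :
    FrakMConcl p (T : Subgroup H) L :=
  exists_frakM_aux T hP _ L L rfl hTL le_rfl hL hL

end Cfsg.Agent.Lib.Lead.MSS
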