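import Mathlib
import Cfsg.Prelude.Def_LocalStructure
import Cfsg.Agent.Lib.Lead.MSS3

set_option autoImplicit false

/-! Parabolic characteristic `p` gives the hypothesis `ParHyp`. -/

namespace Cfsg.Agent.Lib.Lead.MSS

open Cfsg Cfsg.Agent.Lib.Helper6 Cfsg.Agent.Lib.Lead.Subnormalizer

variable {H : Type*} [Group H] [Finite H] {p : ℕ} [Fact p.Prime]

theorem parHyp_of_parabolicCharacteristic (hH : IsOfParabolicCharacteristic p H) (T : Sylow p H) :
    ParHyp T := by
  intro R hTR hne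
  set P := pCoreOf p R with hP
  set N := Subgroup.normalizer (P : Set H) with hN
  have hRN : R ≤ N := le_normalizer_pCoreOf p R
  have hPp : IsPGroup p P := pCoreOf_isPGroup p R
  have hinner := hH P hPp hne ⟨T, hTR.trans hRN⟩
  rw [← hN] at hinner
  have hPN : P ≤ pCoreOf p N := le_pCoreOf Subgroup.le_normalizer hPp le_rfl
  have hNP : pCoreOf p N ≤ P := by
    have h1 : pCoreOf p N ≤ T :=
      pCoreOf_le_of_isSylowOf (isSylowOf_of_sylow_le T (hTR.trans hRN))
    exact le_pCoreOf (h1.trans hTR) (pCoreOf_isPGroup p N) (hRN.trans (le_normalizer_pCoreOf p N))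
  have hEq : pCoreOf p N = P := le_antisymm hNP hPN
  intro x hx
  have hxN : x ∈ N := Subgroup.centralizer_le_normalizer _ hx
  have h1 : (⟨x, hxN⟩ : N) ∈ Subgroup.centralizer (pCore p ↥N : Set ↥N) := by
    rw [Subgroup.mem_centralizer_iff]
    intro q hq
    apply Subtype.ext
    have hqP : (q : H) ∈ P := by rw [← hEq]; exact ⟨q, hq, rfl⟩
    exact Subgroup.mem_centralizer_iff.mp hx (q : H) hqP
  have h2 := hinner h1
  rw [← hEq]
  exact ⟨⟨x, hxN⟩, h2, rfl⟩

end Cfsg.Agent.Lib.Lead.MSS
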