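import Mathlib
import Cfsg.Prelude.Def_LocalStructure
import Cfsg.Agent.Lib.Lead.MSS4
import Cfsg.Agent.Lib.Helper6.Large

set_option autoImplicit false

/-! Weak closures of a weakly closed subgroup. -/

namespace Cfsg.Agent.Lib.Lead.MSS

open Cfsg Cfsg.Agent.Lib.Helper6 Cfsg.Agent.Lib.Lead.Subnormalizer

variable {H : Type*} [Group H]

theorem weakClosure_mono (Q : Subgroup H) {A B : Subgroup H} (hAB : A ≤ B) :
    weakClosure Q A ≤ weakClosure Q B := by
  unfold weakClosure
  exact iSup_le fun g => le_iSup_of_le ⟨g.1, g.2.trans hAB⟩ le_rfl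

theorem le_weakClosure {Q L : Subgroup H} (hQL : Q ≤ L) : Q ≤ weakClosure Q L := by
  unfold weakClosure
  refine le_trans ?_ (le_iSup _ ⟨1, by rw [map_conj_one]; exact hQL⟩)
  rw [map_conj_one]

theorem le_normalizer_weakClosure (Q L : Subgroup H) :
    L ≤ Subgroup.normalizer (weakClosure Q L : Set H) := by
  intro l hl
  apply mem_normalizer_of_map_conj_eq_self
  have key : ∀ l ∈ L, (weakClosure Q L).map (MulAut.conj l).toMonoidHom ≤ weakClosure Q L := by
    intro l hl
    unfold weakClosure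
    rw [Subgroup.map_iSup]
    apply iSup_le
    intro g
    rw [map_conj_map_conj]
    refine le_iSup_of_le ⟨l * g.1, ?_⟩ le_rfl
    rw [← map_conj_map_conj]
    intro x hx
    rw [mem_map_conj] at hx
    have h1 := g.2 hx
    have e : x = l * (l⁻¹ * x * l) * l⁻¹ := by group
    rw [e]
    exact L.mul_mem (L.mul_mem hl h1) (L.inv_mem hl)
  apply le_antisymm (key l hl)
  have h2 := Subgroup.map_mono (f := (MulAut.conj l).toMonoidHom) (key l⁻¹ (L.inv_mem hl))
  rwa [map_conj_map_conj, mul_inv_cancel, map_conj_one] at h2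

theorem weakClosure_eq_self_of_le_normalizer [Finite H] {p : ℕ} [Fact p.Prime] {Q K : Subgroup H}
    (hQ : IsPGroup p Q) (hwc : IsWeaklyClosedSubgroup p Q) (hQK : Q ≤ K)
    (hK : K ≤ Subgroup.normalizer (Q : Set H)) : weakClosure Q K = Q := by
  apply le_antisymm _ (le_weakClosure hQK)
  unfold weakClosure
  apply iSup_le
  intro g
  obtain ⟨k, hk, hgk⟩ := IsWeaklyClosedSubgroup_exists_conj_in hQ hwc hQK g.2
  rw [hgk, map_conj_eq_self_of_mem_normalizer (hK hk)]

end Cfsg.Agent.Lib.Lead.MSS
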