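import Mathlib
import Cfsg.Agent.Lib.Helper6.WeakCl2
import Cfsg.Agent.Lib.Helper6.YL
import Cfsg.Agent.Lib.Helper6.YL2
import Cfsg.Agent.Lib.Helper6.PRes
import Cfsg.Agent.Lib.Helper6.ElemAb
import Cfsg.Agent.Lib.Helper6.Amalgam4
import Cfsg.Agent.Lib.Lead.MSS3
import Cfsg.Agent.Lib.Lead.MSS6
import Cfsg.Agent.S2859
import Cfsg.Agent.S2864

set_option autoImplicit false

/-! The asymmetric data attached to `M ∈ 𝔐_G(S)` with `Y_M` asymmetric. -/

namespace Cfsg.Agent.Lib.Lead.MSS

open Cfsg Cfsg.Agent.Lib.Helper6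
open scoped commutatorElement

theorem asymData_of_frakM {G : Type*} [Group G] [Finite G] {p : ℕ} [Fact p.Prime] (S : Sylow p G)
    (Q : Subgroup G) (hQp : IsPGroup p ↥Q) (hQ1 : Q ≠ ⊥) (hQS : Q ≤ (S : Subgroup G))
    (hQ : Cfsg.IsLarge Q) (M : Subgroup G) (hSM : (S : Subgroup G) ≤ M)
    (hM : Cfsg.IsInFrakM p M) (hasym : ¬ Cfsg.IsSymmetricIn (Cfsg.largestPReducedOf p M)) :
    AsymData p (largestPReducedOf p M) (pCoreOf p M) M
      (M ⊔ Subgroup.centralizer ((largestPReducedOf p M : Subgroup G) : Set G)) := by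
  have hM' := hM
  obtain ⟨⟨hne, hC⟩, _, _, _, hcl, _⟩ := hM
  have hchar : Subgroup.centralizer (pCore p ↥M : Set ↥M) ≤ pCore p ↥M := by
    intro x hx
    have h1 : (x : G) ∈ Subgroup.centralizer (((pCore p ↥M).map M.subtype : Subgroup G) : Set G) := by
      rw [Subgroup.mem_centralizer_iff]
      rintro _ ⟨y, hy, rfl⟩
      have := Subgroup.mem_centralizer_iff.mp hx y hy
      exact congrArg Subtype.val this
    obtain ⟨y, hy, hyx⟩ := hC h1
    have : y = x := Subtype.ext hyx
    rwa [← this]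
  set Y := largestPReducedOf p M with hY
  set C := Subgroup.centralizer (Y : Set G) with hCdef
  set P := pCoreOf p M with hP
  have hMNY : M ≤ Subgroup.normalizer (Y : Set G) := le_normalizer_largestPReducedOf M hchar
  have hNYC : Subgroup.normalizer (Y : Set G) ≤ Subgroup.normalizer (C : Set G) :=
    normalizer_le_normalizer_centralizer Y
  have hMdNY : M ⊔ C ≤ Subgroup.normalizer (Y : Set G) :=
    sup_le hMNY (Subgroup.centralizer_le_normalizer _)
  have hMdN : M ⊔ C ≤ Subgroup.normalizer (C : Set G) := hMdNY.trans hNYC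
  have hPC : P ≤ C := pCoreOf_le_centralizer_largestPReducedOf M hchar
  have hPM : P ≤ M := pCoreOf_le M
  have hPp : IsPGroup p P := pCoreOf_isPGroup p M
  have hMP : M ≤ Subgroup.normalizer (P : Set G) :=
    Subgroup.le_normalizer.trans (Cfsg.Agent.S2859.normalizer_le_normalizer_pCoreOf p M)
  -- P ≤ S
  have hPS : P ≤ (S : Subgroup G) := by
    have hSP : (S : Subgroup G) ≤ Subgroup.normalizer (P : Set G) := hSM.trans hMP
    have h1 : IsPGroup p ((S : Subgroup G) ⊔ P : Subgroup G) :=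
      IsPGroup.to_sup_of_normal_right' S.isPGroup' hPp hSP
    have h2 := S.is_maximal' h1 le_sup_left
    rw [← h2]; exact le_sup_right
  have hSyl : IsSylowOf p C ((S : Subgroup G) ⊓ C) :=
    isSylowOf_inf_of_le_normalizer S C ((hSM.trans le_sup_left).trans hMdN)
  have hSCP : (S : Subgroup G) ⊓ C ≤ P := by
    have hn : ((M ⊓ C).subgroupOf M).Normal := by
      rw [Subgroup.normal_subgroupOf_iff_le_normalizer inf_le_left]
      intro m hm
      apply mem_normalizer_of_map_conj_eq_self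
      rw [Subgroup.map_inf_eq _ _ _ (MulAut.conj m).injective,
        map_conj_eq_self_of_mem_normalizer (Subgroup.le_normalizer hm),
        map_conj_eq_self_of_mem_normalizer ((le_sup_left.trans hMdN) hm)]
    have hcl' : IsPClosed p ↥((M ⊓ C).subgroupOf M) :=
      isPClosed_of_surjective (Subgroup.subgroupOfEquivOfLe (inf_le_left : M ⊓ C ≤ M)).symm.toMonoidHom
        (Subgroup.subgroupOfEquivOfLe (inf_le_left : M ⊓ C ≤ M)).symm.surjective hcl
    have h1 : (((S : Subgroup G) ⊓ C).subgroupOf M) ≤ pCore p ↥M := by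
      apply le_pCore_of_isPClosed_normal ((M ⊓ C).subgroupOf M) hcl'
      · intro x hx
        rw [Subgroup.mem_subgroupOf] at hx ⊢
        exact ⟨x.2, hx.2⟩
      · exact (S.isPGroup'.to_le inf_le_left).comap_subtype
    intro x hx
    exact ⟨⟨x, hSM hx.1⟩, h1 (by rw [Subgroup.mem_subgroupOf]; exact hx), rfl⟩
  have hPeq : P = (S : Subgroup G) ⊓ C := le_antisymm (le_inf hPS hPC) hSCP
  rw [← hPeq] at hSyl
  -- Y ≤ P
  have hYM : Y ≤ M := by rintro _ ⟨y, _, rfl⟩; exact y.2
  have hYel : IsElementaryAbelian p Y := by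
    have h1 := (largestPReduced_spec hchar).1.2.1
    have h2 : Y.subgroupOf M = largestPReduced p ↥M := by
      rw [hY]; unfold largestPReducedOf
      exact Subgroup.comap_map_eq_self_of_injective M.subtype_injective _
    rw [← h2] at h1
    exact (isElementaryAbelian_subgroupOf_iff hYM).mp h1
  have hYp : IsPGroup p Y := by
    obtain ⟨_, hYp'⟩ := isElementaryAbelian_iff_forall.mp hYel
    intro y
    refine ⟨1, ?_⟩
    have := hYp' y y.2
    apply Subtype.ext
    simpa using this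
  have hYP : Y ≤ P := Cfsg.Agent.S2859.le_pCoreOf' hYM hMNY hYp
  have hY1 : Y ≠ ⊥ := Cfsg.Agent.Lib.Lead.MSS.largestPReducedOf_ne_bot S hSM hM'.1
  have hD : Cfsg.Agent.Lib.Lead.MSS.AsymData p Y P M (M ⊔ C) :=
    { asym := hasym
      syl := hSyl
      hYP := hYP
      hY1 := hY1
      hMP := hMP
      hMd := hMdNY
      dag := fun I hI1 hIp hMI =>
        Cfsg.Agent.S2864.normalizer_le_dagger S Q hQp hQ1 hQ M hSM hM' I hI1 hIp hMI }
  exact hD

end Cfsg.Agent.Lib.Lead.MSS
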