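import Mathlib
import Cfsg.Agent.Lib.Lead.MaxClass8

set_option autoImplicit false

namespace Cfsg.Agent.Lib.Lead

universe u

/-- **A `p`-group of order `p ^ n` with a self-centralising non-abelian subgroup of order `p ^ 3`
has nilpotency class `n - 1`.** -/
theorem nilpotencyClass_of_self_centralizing_cube {p : ℕ} [hp : Fact p.Prime] (n : ℕ)
    (X : Type u) [Group X] [Finite X] (hX : Nat.card X = p ^ n) (B : Subgroup X)
    (hB : Nat.card B = p ^ 3) (hBna : ¬ IsMulCommutative B)
    (hC : Subgroup.centralizer (B : Set X) ≤ B) : Group.nilpotencyClass X = n - 1 := by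
  classical
  have hp1 := hp.out.one_lt
  have hXp : IsPGroup p X := IsPGroup.of_card hX
  haveI : Group.IsNilpotent X := hXp.isNilpotent
  have hn3 : 3 ≤ n := by
    have h1 : p ^ 3 ∣ p ^ n := by
      rw [← hB, ← hX]; exact Subgroup.card_subgroup_dvd_card B
    exact (Nat.pow_dvd_pow_iff_le_right hp1).mp h1
  haveI : Nontrivial X := by
    apply (Finite.one_lt_card_iff_nontrivial).mp
    rw [hX]; exact Nat.one_lt_pow (by omega) hp1
  set Z : Subgroup X := Subgroup.center X with hZ
  set K : Subgroup X := Subgroup.centralizer (B : Set X) with hK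
  have hZK : Z ≤ K := by
    intro z hz
    rw [hK, Subgroup.mem_centralizer_iff]
    intro b _
    exact Subgroup.mem_center_iff.mp hz b
  have hZB : Z ≤ B := hZK.trans hC
  have hZne : Z ≠ ⊥ := by
    haveI := hXp.center_nontrivial
    exact (Subgroup.nontrivial_iff_ne_bot _).mp inferInstance
  have hZge : p ≤ Nat.card Z := by
    obtain ⟨j, hj⟩ := IsPGroup.iff_card.mp (hXp.to_subgroup Z)
    rcases j with _ | j
    · exfalso
      rw [pow_zero] at hj
      exact hZne (Subgroup.card_eq_one.mp hj)
    · rw [hj, pow_succ]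
      exact Nat.le_mul_of_pos_left _ (pow_pos hp.out.pos _)
  -- the centre of `B`
  have hcenter : Subgroup.center B = K.subgroupOf B := by
    ext x
    rw [Subgroup.mem_center_iff, Subgroup.mem_subgroupOf, hK, Subgroup.mem_centralizer_iff]
    constructor
    · intro h b hb
      exact congrArg Subtype.val (h ⟨b, hb⟩)
    · intro h b
      exact Subtype.ext (h b b.2)
  have hKcard : Nat.card K ≤ p := by
    by_contra hlt
    push Not at hlt
    apply hBna
    have hcc : Nat.card (Subgroup.center B) = Nat.card K := by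
      rw [hcenter, card_subgroupOf_eq, inf_eq_left.mpr hC]
    have hmul := (Subgroup.center B).card_mul_index
    rw [hcc, hB] at hmul
    have hdvd : Nat.card K ∣ p ^ 3 := ⟨_, hmul.symm⟩
    obtain ⟨j, hj3, hj⟩ := (Nat.dvd_prime_pow hp.out).mp hdvd
    have hj2 : 2 ≤ j := by
      by_contra hj2
      have : j ≤ 1 := by omega
      have h4 : p ^ j ≤ p ^ 1 := Nat.pow_le_pow_right hp.out.pos this
      rw [pow_one] at h4
      omega
    have hidx : (Subgroup.center B).index = p ^ (3 - j) := by
      rw [hj] at hmul
      have h5 : p ^ 3 = p ^ j * p ^ (3 - j) := by rw [← pow_add]; congr 1; omega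
      rw [h5] at hmul
      exact Nat.eq_of_mul_eq_mul_left (pow_pos hp.out.pos _) hmul
    haveI : IsCyclic (B ⧸ Subgroup.center B) := by
      have hj' : j = 2 ∨ j = 3 := by omega
      rcases hj' with rfl | rfl
      · apply isCyclic_of_prime_card (p := p)
        rw [← Subgroup.index_eq_card, hidx]; norm_num
      · have h6 : Nat.card (B ⧸ Subgroup.center B) = 1 := by
          rw [← Subgroup.index_eq_card, hidx]; norm_num
        haveI : Subsingleton (B ⧸ Subgroup.center B) := (Nat.card_eq_one_iff_unique.mp h6).1
        infer_instance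
    exact isMulCommutative_of_isCyclic_quotient_center_self B
  have hKZ : K = Z := (Subgroup.eq_of_le_of_card_ge hZK (by omega)).symm
  have hZcard : Nat.card Z = p := le_antisymm (hKZ ▸ hKcard) hZge
  -- the quotient by the centre
  set π := QuotientGroup.mk' Z with hπ
  have hπs : Function.Surjective π := QuotientGroup.mk'_surjective Z
  set B' : Subgroup (X ⧸ Z) := B.map π with hB'
  have hB'card : Nat.card B' = p ^ 2 := by
    have h1 := card_map_mk'_mul Z B hZB
    rw [hB, hZcard] at h1
    have h2 : p ^ 3 = p ^ 2 * p := by ring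
    rw [h2] at h1
    exact Nat.eq_of_mul_eq_mul_right hp.out.pos h1
  haveI hB'comm : IsMulCommutative B' := IsPGroup.isMulCommutative_of_card_eq_prime_sq hB'card
  have hB'le : B' ≤ Subgroup.centralizer (B' : Set (X ⧸ Z)) := by
    intro q hq
    rw [Subgroup.mem_centralizer_iff]
    intro q' hq'
    exact congrArg Subtype.val (hB'comm.is_comm.comm (⟨q', hq'⟩ : B') ⟨q, hq⟩)
  set D : Subgroup X := (Subgroup.centralizer (B' : Set (X ⧸ Z))).comap π with hD
  have hBD : B ≤ D := by
    intro b hb
    rw [hD, Subgroup.mem_comap]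
    exact hB'le (Subgroup.mem_map_of_mem π hb)
  have hDZ : ∀ x ∈ D, ∀ b ∈ B, x * b * x⁻¹ * b⁻¹ ∈ Z := by
    intro x hx b hb
    rw [hD, Subgroup.mem_comap, Subgroup.mem_centralizer_iff] at hx
    have h1 := hx (π b) (Subgroup.mem_map_of_mem π hb)
    rw [← QuotientGroup.eq_one_iff]
    show π (x * b * x⁻¹ * b⁻¹) = 1
    rw [map_mul, map_mul, map_mul, map_inv, map_inv, ← h1]
    group
  -- non-commuting elements of `B`
  obtain ⟨u, hu, v, hv, huv⟩ : ∃ u ∈ B, ∃ v ∈ B, u * v ≠ v * u := by
    by_contra hall
    push Not at hall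
    exact hBna ⟨⟨fun a b => Subtype.ext (hall a a.2 b b.2)⟩⟩
  have hgen : Subgroup.closure ({u, v} : Set X) = B := by
    set L : Subgroup X := Subgroup.closure ({u, v} : Set X) with hL
    have hLB : L ≤ B := by
      rw [hL, Subgroup.closure_le]
      intro y hy
      simp only [Set.mem_insert_iff, Set.mem_singleton_iff] at hy
      rcases hy with rfl | rfl
      · exact hu
      · exact hv
    have huL : u ∈ L := Subgroup.subset_closure (by simp)
    have hvL : v ∈ L := Subgroup.subset_closure (by simp)
    apply Subgroup.eq_of_le_of_card_ge hLB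
    have hdvd : Nat.card L ∣ p ^ 3 := by rw [← hB]; exact Subgroup.card_dvd_of_le hLB
    obtain ⟨j, hj3, hj⟩ := (Nat.dvd_prime_pow hp.out).mp hdvd
    have hj' : j = 3 := by
      by_contra hne
      have hLcomm : IsMulCommutative L := by
        have hj2 : j = 0 ∨ j = 1 ∨ j = 2 := by omega
        rcases hj2 with rfl | rfl | rfl
        · rw [pow_zero] at hj
          haveI : Subsingleton L := (Nat.card_eq_one_iff_unique.mp hj).1
          exact ⟨⟨fun a b => Subsingleton.elim _ _⟩⟩
        · rw [pow_one] at hj
          haveI : IsCyclic L := isCyclic_of_prime_card hj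
          infer_instance
        · exact IsPGroup.isMulCommutative_of_card_eq_prime_sq hj
      exact huv (congrArg Subtype.val (hLcomm.is_comm.comm (⟨u, huL⟩ : L) ⟨v, hvL⟩))
    rw [hj, hj', hB]
  -- counting
  set D₁ : Subgroup X := D ⊓ Subgroup.centralizer ({u} : Set X) with hD₁
  set D₂ : Subgroup X := D₁ ⊓ Subgroup.centralizer ({v} : Set X) with hD₂
  have h1 : Nat.card D ≤ Nat.card D₁ * Nat.card Z := by
    apply card_le_of_commutator_mem_central' Z le_rfl D₁ D u
    · intro x hx hc
      refine ⟨hx, ?_⟩
      refine Subgroup.mem_centralizer_iff.mpr ?_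
      intro y hy
      rw [Set.mem_singleton_iff] at hy
      rw [hy]; exact hc.symm
    · intro x hx
      exact hDZ x hx u hu
  have h2 : Nat.card D₁ ≤ Nat.card D₂ * Nat.card Z := by
    apply card_le_of_commutator_mem_central' Z le_rfl D₂ D₁ v
    · intro x hx hc
      refine ⟨hx, ?_⟩
      refine Subgroup.mem_centralizer_iff.mpr ?_
      intro y hy
      rw [Set.mem_singleton_iff] at hy
      rw [hy]; exact hc.symm
    · intro x hx
      exact hDZ x hx.1 v hv
  have h3 : Nat.card D₂ ≤ p := by
    have hle : D₂ ≤ K := by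
      intro x hx
      have hxu : u * x = x * u :=
        Subgroup.mem_centralizer_iff.mp hx.1.2 u (Set.mem_singleton u)
      have hxv : v * x = x * v :=
        Subgroup.mem_centralizer_iff.mp hx.2 v (Set.mem_singleton v)
      have hcl : Subgroup.closure ({u, v} : Set X) ≤ Subgroup.centralizer ({x} : Set X) := by
        rw [Subgroup.closure_le]
        intro y hy
        simp only [Set.mem_insert_iff, Set.mem_singleton_iff] at hy
        rw [SetLike.mem_coe, Subgroup.mem_centralizer_iff]
        intro w hw
        rw [Set.mem_singleton_iff] at hw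
        rcases hy with rfl | rfl
        · rw [hw]; exact hxu.symm
        · rw [hw]; exact hxv.symm
      rw [hK, Subgroup.mem_centralizer_iff]
      intro b hb
      rw [← hgen] at hb
      have := Subgroup.mem_centralizer_iff.mp (hcl hb) x (Set.mem_singleton x)
      exact this.symm
    exact (Subgroup.card_le_of_le hle).trans hKcard
  have hDB : D = B := by
    symm
    apply Subgroup.eq_of_le_of_card_ge hBD
    rw [hB]
    rw [hZcard] at h1 h2
    calc Nat.card D ≤ Nat.card D₁ * p := h1
      _ ≤ (Nat.card D₂ * p) * p := Nat.mul_le_mul_right p h2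
      _ ≤ (p * p) * p := Nat.mul_le_mul_right p (Nat.mul_le_mul_right p h3)
      _ = p ^ 3 := by ring
  have hcent : Subgroup.centralizer (B' : Set (X ⧸ Z)) = B' := by
    apply le_antisymm _ hB'le
    intro q hq
    obtain ⟨x, rfl⟩ := hπs q
    have hx : x ∈ D := hq
    rw [hDB] at hx
    exact Subgroup.mem_map_of_mem π hx
  have hQcard : Nat.card (X ⧸ Z) = p ^ (n - 1) := by
    have h4 := Subgroup.card_eq_card_quotient_mul_card_subgroup Z
    rw [hX, hZcard] at h4
    have h5 : p ^ n = p ^ (n - 1) * p := by rw [← pow_succ]; congr 1; omega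
    rw [h5] at h4
    exact (Nat.eq_of_mul_eq_mul_right hp.out.pos h4).symm
  have hclass := nilpotencyClass_of_self_centralizing_sq (p := p) (n - 1) (X ⧸ Z) hQcard B' hB'card hcent
  rw [Group.nilpotencyClass_eq_quotient_center_plus_one, hclass]
  omega

end Cfsg.Agent.Lib.Lead
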