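import Mathlib
import Cfsg.Agent.Lib.Lead.MaxNilp2
import Cfsg.Agent.Lib.Helper6.PPrimeCore

set_option autoImplicit false

namespace Cfsg.Agent.Lib.Lead.MaxNilp

open scoped commutatorElement
open Cfsg.Agent.Lib.Helper2.Schmidt

section
variable {G : Type*} [Group G] [Finite G]

theorem coprime_card_of_not_dvd {p : ℕ} [hp : Fact p.Prime] {M : Subgroup G}
    (h : ¬ p ∣ Nat.card M) : (Nat.card M).Coprime p :=
  ((Nat.Prime.coprime_iff_not_dvd hp.out).mpr h).symm

theorem orderOf_coprime_of_mem {p : ℕ} [hp : Fact p.Prime] {M : Subgroup G}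
    (h : ¬ p ∣ Nat.card M) {m : G} (hm : m ∈ M) : (orderOf m).Coprime p := by
  have h1 : orderOf m ∣ Nat.card M := by
    have := orderOf_dvd_natCard (⟨m, hm⟩ : M)
    rwa [Subgroup.orderOf_mk] at this
  exact Nat.Coprime.coprime_dvd_left h1 (coprime_card_of_not_dvd h)

theorem dvd_card_of_sylow_le {p : ℕ} [hp : Fact p.Prime] (P : Sylow p G)
    (hP1 : (P : Subgroup G) ≠ ⊥) {L : Subgroup G} (hPL : (P : Subgroup G) ≤ L) :
    p ∣ Nat.card L := by
  have h1 : Nat.card (P : Subgroup G) ∣ Nat.card L := Subgroup.card_dvd_of_le hPL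
  obtain ⟨n, hn⟩ := IsPGroup.iff_card.mp P.2
  have hn0 : n ≠ 0 := by
    rintro rfl
    rw [pow_zero] at hn
    exact hP1 (Subgroup.card_eq_one.mp hn)
  exact (dvd_pow_self p hn0).trans (hn ▸ h1)

theorem exists_prod_of_normal_sylow {p : ℕ} [hp : Fact p.Prime]
    (H : ∀ M : Subgroup G, IsCoatom M → p ∣ Nat.card M → Group.IsNilpotent M)
    (M : Subgroup G) (hM : IsCoatom M) (hMnil : ¬ Group.IsNilpotent M) (P : Sylow p G)
    (hP1 : (P : Subgroup G) ≠ ⊥) (hPn : (P : Subgroup G).Normal) :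
    ∃ Z K : Subgroup G, Z.Normal ∧ K.Normal ∧ Z ⊓ K = ⊥ ∧ Z ⊔ K = ⊤ ∧ Nat.card Z = p ∧
      Cfsg.IsMinimalNonNilpotent K ∧ ¬ p ∣ Nat.card K := by
  classical
  have hpM : ¬ p ∣ Nat.card M := fun h => hMnil (H M hM h)
  have hPM : (P : Subgroup G) ⊓ M = ⊥ :=
    Cfsg.Agent.Lib.Helper6.isPGroup_inf_coprime_eq_bot (coprime_card_of_not_dvd hpM) P.2
  -- proper subgroups of M
  have key : ∀ M' : Subgroup G, M' ≤ M → M' ≠ M →
      Group.IsNilpotent M' ∧ ∀ x ∈ (P : Subgroup G), ∀ m ∈ M', x * m = m * x := by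
    intro M' hM'M hM'ne
    have hne : M' ⊔ (P : Subgroup G) ≠ ⊤ := by
      intro htop
      apply hM'ne
      apply le_antisymm hM'M
      intro m hm
      obtain ⟨m', hm', x, hx, rfl⟩ := exists_mul_of_sup_eq_top hPn htop m
      have hxM : x ∈ M := by
        have : x = m'⁻¹ * (m' * x) := by group
        rw [this]; exact M.mul_mem (M.inv_mem (hM'M hm')) hm
      have : x ∈ (P : Subgroup G) ⊓ M := ⟨hx, hxM⟩
      rw [hPM, Subgroup.mem_bot] at this
      rw [this, mul_one]; exact hm'
    obtain ⟨L, hL, hle⟩ := exists_coatom_ge _ hne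
    have hPL : (P : Subgroup G) ≤ L := le_sup_right.trans hle
    have hM'L : M' ≤ L := le_sup_left.trans hle
    have hLnil := H L hL (dvd_card_of_sylow_le P hP1 hPL)
    refine ⟨isNilpotent_of_le hLnil hM'L, ?_⟩
    intro x hx m hm
    exact commute_of_nilpotent hLnil (hPL hx) (hM'L hm) (P.2.to_le (Subgroup.zpowers_le.mpr hx))
      (orderOf_coprime_of_mem hpM (hM'M hm))
  -- M centralizes P
  have hcent : ∀ x ∈ (P : Subgroup G), ∀ m ∈ M, x * m = m * x := by
    intro x hx m hm
    have hz : Subgroup.zpowers m ≠ M := by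
      intro h
      apply hMnil
      have hc : IsCyclic ↥(Subgroup.zpowers m) := inferInstance
      rw [h] at hc
      haveI := hc
      have hcomm : IsMulCommutative ↥M := IsCyclic.commutative
      letI : CommGroup ↥M := { (inferInstance : Group ↥M) with mul_comm := hcomm.is_comm.comm }
      infer_instance
    exact (key _ (Subgroup.zpowers_le.mpr hm) hz).2 x hx m (Subgroup.mem_zpowers m)
  have hPMtop : M ⊔ (P : Subgroup G) = ⊤ := by
    apply hM.2
    refine lt_of_le_of_ne le_sup_left ?_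
    intro h
    have hPleM : (P : Subgroup G) ≤ M := by rw [h]; exact le_sup_right
    apply hP1
    rw [← hPM]; exact (inf_eq_left.mpr hPleM).symm
  -- a central element of order p
  haveI : Nontrivial ↥(P : Subgroup G) := by
    rw [Subgroup.nontrivial_iff_ne_bot]; exact hP1
  haveI hcn : Nontrivial (Subgroup.center ↥(P : Subgroup G)) := P.2.center_nontrivial
  have hpc : p ∣ Nat.card (Subgroup.center ↥(P : Subgroup G)) := by
    obtain ⟨n, hn⟩ := IsPGroup.iff_card.mp (P.2.to_subgroup (Subgroup.center ↥(P : Subgroup G)))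
    have hn0 : n ≠ 0 := by
      rintro rfl
      rw [pow_zero] at hn
      have := (Subgroup.card_eq_one.mp hn)
      rw [this] at hcn
      exact not_nontrivial _ hcn
    rw [hn]; exact dvd_pow_self p hn0
  obtain ⟨⟨⟨z, hzP⟩, hzc⟩, hz⟩ := exists_prime_orderOf_dvd_card' p hpc
  rw [Subgroup.orderOf_mk, Subgroup.orderOf_mk] at hz
  have hzcent : ∀ g : G, g * z = z * g := by
    intro g
    obtain ⟨m, hm, x, hx, rfl⟩ := exists_mul_of_sup_eq_top hPn hPMtop g
    have h1 : x * z = z * x := by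
      have := Subgroup.mem_center_iff.mp hzc ⟨x, hx⟩
      exact congrArg Subtype.val this
    have h2 : z * m = m * z := hcent z hzP m hm
    calc m * x * z = m * (x * z) := by group
      _ = m * (z * x) := by rw [h1]
      _ = (m * z) * x := by group
      _ = (z * m) * x := by rw [h2]
      _ = z * (m * x) := by group
  set Z := Subgroup.zpowers z with hZ
  have hZc : Z ≤ Subgroup.center G := by
    rw [hZ, Subgroup.zpowers_le, Subgroup.mem_center_iff]
    exact hzcent
  have hZn : Z.Normal := by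
    constructor
    intro y hy g
    have := Subgroup.mem_center_iff.mp (hZc hy) g
    have h2 : g * y * g⁻¹ = y := by rw [this]; group
    rw [h2]; exact hy
  have hZP : Z ≤ (P : Subgroup G) := Subgroup.zpowers_le.mpr hzP
  have hZcard : Nat.card Z = p := by rw [hZ, Nat.card_zpowers, hz]
  have hZM : Z ⊓ M = ⊥ := by
    rw [eq_bot_iff, ← hPM]; exact inf_le_inf_right _ hZP
  have hZ1 : Z ≠ ⊥ := by
    intro h
    rw [h, Subgroup.card_bot] at hZcard
    exact hp.out.one_lt.ne hZcard
  have hZMtop : Z ⊔ M = ⊤ := by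
    rw [sup_comm]
    apply hM.2
    refine lt_of_le_of_ne le_sup_left ?_
    intro h
    have hle : Z ≤ M := by rw [h]; exact le_sup_right
    apply hZ1
    rw [← hZM]; exact (inf_eq_left.mpr hle).symm
  have hMn : M.Normal := by
    constructor
    intro m hm g
    have hg : g ∈ M ⊔ Z := by rw [sup_comm, hZMtop]; trivial
    obtain ⟨m', hm', y, hy, rfl⟩ := exists_mul_of_sup_eq_top hZn (by rw [sup_comm]; exact hZMtop) g
    have hyc := Subgroup.mem_center_iff.mp (hZc hy)
    have : m' * y * m * (m' * y)⁻¹ = m' * m * m'⁻¹ := by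
      have h1 : y * m = m * y := (hyc m).symm
      calc m' * y * m * (m' * y)⁻¹ = m' * (y * m) * y⁻¹ * m'⁻¹ := by group
        _ = m' * (m * y) * y⁻¹ * m'⁻¹ := by rw [h1]
        _ = m' * m * m'⁻¹ := by group
    rw [this]
    exact M.mul_mem (M.mul_mem hm' hm) (M.inv_mem hm')
  refine ⟨Z, M, hZn, hMn, hZM, hZMtop, hZcard, ⟨hMnil, ?_⟩, hpM⟩
  intro H' hH'
  have h1 : H'.map M.subtype ≠ M := by
    intro h
    apply hH'
    rw [eq_top_iff]
    intro x _
    have : (x : G) ∈ H'.map M.subtype := by rw [h]; exact x.2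
    obtain ⟨y, hy, hyx⟩ := this
    have : y = x := Subtype.ext hyx
    rw [← this]; exact hy
  have h2 := (key _ (Subgroup.map_subtype_le H') h1).1
  exact (Group.isNilpotent_congr (H'.equivMapOfInjective M.subtype M.subtype_injective)).mpr h2

end

end Cfsg.Agent.Lib.Lead.MaxNilp
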