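import Mathlib
import Cfsg.Agent.Lib.Lead.MaxNilp3
import Cfsg.Agent.Lib.Lead.FrobNPC5
import Cfsg.Agent.Lib.Lead.CoprimeSylow3
import Cfsg.Agent.Lib.Lead.CoprimeTools

set_option autoImplicit false

namespace Cfsg.Agent.Lib.Lead.MaxNilp

open scoped commutatorElement
open Cfsg.Agent.Lib.Helper2.Schmidt
open Cfsg.Agent.Lib.Lead

section
variable {G : Type*} [Group G] [Finite G]

theorem sylow_normal_of_normal_pgroup {p : ℕ} [hp : Fact p.Prime] {M : Subgroup G}
    (hM : IsCoatom M) (hpM : ¬ p ∣ Nat.card M) (P : Sylow p G) (D : Subgroup G)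
    (hD : IsPGroup p D) (hD1 : D ≠ ⊥) (hDn : D.Normal) : (P : Subgroup G).Normal := by
  have hDM : D ⊓ M = ⊥ :=
    Cfsg.Agent.Lib.Helper6.isPGroup_inf_coprime_eq_bot (coprime_card_of_not_dvd hpM) hD
  have hsup : M ⊔ D = ⊤ := by
    apply hM.2
    refine lt_of_le_of_ne le_sup_left ?_
    intro h
    have hle : D ≤ M := by rw [h]; exact le_sup_right
    apply hD1
    rw [← hDM]; exact (inf_eq_left.mpr hle).symm
  have hcard : Nat.card G = Nat.card M * Nat.card D := by
    have h1 := card_sup_of_disjoint M D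
      (by rw [Subgroup.normalizer_eq_top_iff.mpr hDn]; exact le_top)
      (by rw [inf_comm]; exact hDM)
    rw [hsup, Subgroup.card_top] at h1
    exact h1
  obtain ⟨Q, hQ⟩ := hD.exists_le_sylow
  have hQD : (Q : Subgroup G) = D := by
    symm
    apply Subgroup.eq_of_le_of_card_ge hQ
    have h1 : Nat.card (Q : Subgroup G) ∣ Nat.card M * Nat.card D := by
      rw [← hcard]; exact Subgroup.card_subgroup_dvd_card _
    obtain ⟨n, hn⟩ := IsPGroup.iff_card.mp Q.2
    have h2 : (Nat.card (Q : Subgroup G)).Coprime (Nat.card M) := by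
      rw [hn]; exact Nat.Coprime.pow_left n (coprime_card_of_not_dvd hpM).symm
    exact Nat.le_of_dvd Nat.card_pos (h2.dvd_of_dvd_mul_left h1)
  obtain ⟨g, hg⟩ := MulAction.exists_smul_eq G Q P
  haveI : (Q : Subgroup G).Normal := by rw [hQD]; exact hDn
  have : P = Q := by rw [← hg]; exact Sylow.smul_eq_of_normal
  rw [this]; infer_instance

theorem plocalCentral_of_coatoms {p : ℕ} [hp : Fact p.Prime]
    (H : ∀ M : Subgroup G, IsCoatom M → p ∣ Nat.card M → Group.IsNilpotent M)
    (hb : ∀ D : Subgroup G, IsPGroup p D → D ≠ ⊥ → ¬ D.Normal) : PLocalCentral p G := by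
  intro D hD g hg hcop
  by_cases hD1 : D = ⊥
  · subst hD1
    rw [Subgroup.mem_centralizer_iff]
    intro h hh
    have : h = 1 := by simpa using hh
    subst this; simp
  have hne : Subgroup.normalizer (D : Set G) ≠ ⊤ :=
    fun h => hb D hD hD1 (Subgroup.normalizer_eq_top_iff.mp h)
  obtain ⟨L, hL, hle⟩ := exists_coatom_ge _ hne
  have hDL : D ≤ L := Subgroup.le_normalizer.trans hle
  have hpL : p ∣ Nat.card L := by
    obtain ⟨n, hn⟩ := IsPGroup.iff_card.mp hD
    have hn0 : n ≠ 0 := by
      rintro rfl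
      rw [pow_zero] at hn
      exact hD1 (Subgroup.card_eq_one.mp hn)
    exact (dvd_pow_self p hn0).trans (hn ▸ Subgroup.card_dvd_of_le hDL)
  have hLnil := H L hL hpL
  rw [Subgroup.mem_centralizer_iff]
  intro d hd
  exact commute_of_nilpotent hLnil (hDL hd) (hle hg) (hD.to_le (Subgroup.zpowers_le.mpr hd)) hcop

theorem false_of_not_normal_sylow {p : ℕ} [hp : Fact p.Prime]
    (H : ∀ M : Subgroup G, IsCoatom M → p ∣ Nat.card M → Group.IsNilpotent M)
    (M : Subgroup G) (hM : IsCoatom M) (hMnil : ¬ Group.IsNilpotent M) (P : Sylow p G)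
    (hP1 : (P : Subgroup G) ≠ ⊥) (hPn : ¬ (P : Subgroup G).Normal) : False := by
  classical
  have hpM : ¬ p ∣ Nat.card M := fun h => hMnil (H M hM h)
  have hb : ∀ D : Subgroup G, IsPGroup p D → D ≠ ⊥ → ¬ D.Normal := fun D hD hD1 hDn =>
    hPn (sylow_normal_of_normal_pgroup hM hpM P D hD hD1 hDn)
  have hplc := plocalCentral_of_coatoms H hb
  obtain ⟨P', N, hNn, hc⟩ := hasNormalPComplement_iff_plocalCentral.mpr hplc
  haveI := hNn
  have hMN : M ≤ N := fun m hm =>
    mem_of_coprime_orderOf N (index_eq_pow_of_isComplement' P' N hc) m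
      (orderOf_coprime_of_mem hpM hm)
  have hNtop : N ≠ ⊤ := by
    intro h
    have h1 := card_coprime_of_isComplement' P' N hc
    rw [h, Subgroup.card_top] at h1
    have h2 : p ∣ Nat.card G := by
      have := dvd_card_of_sylow_le P hP1 le_top
      rwa [Subgroup.card_top] at this
    exact (Nat.Prime.coprime_iff_not_dvd hp.out).mp h1.symm h2
  have hMeq : M = N := by
    by_contra hne
    exact hNtop (hM.2 N (lt_of_le_of_ne hMN hne))
  have hMn : M.Normal := hMeq ▸ hNn
  have hPM : (P : Subgroup G) ⊓ M = ⊥ :=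
    Cfsg.Agent.Lib.Helper6.isPGroup_inf_coprime_eq_bot (coprime_card_of_not_dvd hpM) P.2
  have hPMtop : M ⊔ (P : Subgroup G) = ⊤ := by
    apply hM.2
    refine lt_of_le_of_ne le_sup_left ?_
    intro h
    have hPleM : (P : Subgroup G) ≤ M := by rw [h]; exact le_sup_right
    apply hP1
    rw [← hPM]; exact (inf_eq_left.mpr hPleM).symm
  have hPnormM : (P : Subgroup G) ≤ Subgroup.normalizer (M : Set G) := by
    rw [Subgroup.normalizer_eq_top_iff.mpr hMn]; exact le_top
  have hcardG : Nat.card G = Nat.card (P : Subgroup G) * Nat.card M := by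
    have h1 := card_sup_of_disjoint (P : Subgroup G) M hPnormM hPM
    rw [sup_comm, hPMtop, Subgroup.card_top] at h1
    exact h1
  have hcop : (Nat.card (P : Subgroup G)).Coprime (Nat.card M) := by
    obtain ⟨n, hn⟩ := IsPGroup.iff_card.mp P.2
    rw [hn]; exact Nat.Coprime.pow_left n (coprime_card_of_not_dvd hpM).symm
  have hsolv : Group.IsSolvable (P : Subgroup G) := by
    haveI := P.2.isNilpotent
    infer_instance
  set C : Subgroup G := Subgroup.centralizer ((P : Subgroup G) : Set G) ⊓ M with hC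
  have hkey : ∀ r : ℕ, r.Prime → (Nat.card M).factorization r ≤ (Nat.card C).factorization r := by
    intro r hr
    haveI : Fact r.Prime := ⟨hr⟩
    obtain ⟨R, hR⟩ :=
      coprime_invariant_sylow_exists (P : Subgroup G) M hPnormM hcop (Or.inl hsolv) r
    set R' := (R : Subgroup M).map M.subtype with hR'
    have hR'M : R' ≤ M := Subgroup.map_subtype_le _
    have hR'card : Nat.card R' = r ^ (Nat.card M).factorization r := (sylow_card_facts M r R).1
    have hR'ne : R' ≠ M := by
      intro h
      apply hMnil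
      have : IsPGroup r M := by
        apply IsPGroup.of_card (n := (Nat.card M).factorization r)
        rw [← hR'card, h]
      exact this.isNilpotent
    have hPR' : (P : Subgroup G) ⊓ R' = ⊥ := by
      rw [eq_bot_iff, ← hPM]; exact inf_le_inf_left _ hR'M
    have hne : (P : Subgroup G) ⊔ R' ≠ ⊤ := by
      intro htop
      have h1 := card_sup_of_disjoint (P : Subgroup G) R' hR hPR'
      rw [htop, Subgroup.card_top, hcardG] at h1
      have h2 : Nat.card M = Nat.card R' := Nat.eq_of_mul_eq_mul_left Nat.card_pos h1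
      exact hR'ne (Subgroup.eq_of_le_of_card_ge hR'M h2.le)
    obtain ⟨L, hL, hle⟩ := exists_coatom_ge _ hne
    have hPL : (P : Subgroup G) ≤ L := le_sup_left.trans hle
    have hR'L : R' ≤ L := le_sup_right.trans hle
    have hLnil := H L hL (dvd_card_of_sylow_le P hP1 hPL)
    have hR'C : R' ≤ C := by
      intro m hm
      refine Subgroup.mem_inf.mpr ⟨?_, hR'M hm⟩
      rw [Subgroup.mem_centralizer_iff]
      intro x hx
      exact commute_of_nilpotent hLnil (hPL hx) (hR'L hm)
        (P.2.to_le (Subgroup.zpowers_le.mpr hx)) (orderOf_coprime_of_mem hpM (hR'M hm))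
    have hdvd : r ^ (Nat.card M).factorization r ∣ Nat.card C := by
      rw [← hR'card]; exact Subgroup.card_dvd_of_le hR'C
    exact (hr.pow_dvd_iff_le_factorization Nat.card_pos.ne').mp hdvd
  have hdvd : Nat.card M ∣ Nat.card C :=
    (Nat.factorization_prime_le_iff_dvd Nat.card_pos.ne' Nat.card_pos.ne').mp hkey
  have hCM : C = M :=
    Subgroup.eq_of_le_of_card_ge inf_le_right (Nat.le_of_dvd Nat.card_pos hdvd)
  have hMcent : M ≤ Subgroup.centralizer ((P : Subgroup G) : Set G) := by
    rw [← hCM]; exact inf_le_left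
  apply hPn
  rw [← Subgroup.normalizer_eq_top_iff, eq_top_iff, ← hPMtop]
  exact sup_le (hMcent.trans (Subgroup.centralizer_le_normalizer _)) Subgroup.le_normalizer

end

end Cfsg.Agent.Lib.Lead.MaxNilp
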