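import Mathlib

/-! Numeric bound for the lcm of `q ^ a + 1` (package P1 for S2264/S2265). -/

namespace Cfsg.Agent.Lib.MeoN1

/-- `(X - 1) * (Y - 1) ≤ X * Y - 1` in `ℕ`. -/
theorem pred_mul_pred_le (X Y : ℕ) (hX : 1 ≤ X) (hY : 1 ≤ Y) :
    (X - 1) * (Y - 1) ≤ X * Y - 1 := by
  obtain ⟨x, rfl⟩ := Nat.exists_eq_add_of_le hX
  obtain ⟨y, rfl⟩ := Nat.exists_eq_add_of_le hY
  have h1 : 1 + x - 1 = x := by omega
  have h2 : 1 + y - 1 = y := by omega
  have h3 : (1 + x) * (1 + y) = x * y + x + y + 1 := by ring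
  rw [h1, h2, h3]
  omega

/-- numeric core of the two-element bound -/
theorem three_le (X Y Z W : ℕ) (hX : 2 ≤ X) (hY : 2 ≤ Y) (hZ : 2 ≤ Z) (hW : W + 1 = X * Y) :
    (X + 1) * (Y + 1) ≤ (Z + 1) * W := by
  have h4 : 4 ≤ X * Y := by nlinarith
  have hZW : 2 * W ≤ Z * W := Nat.mul_le_mul_right W hZ
  nlinarith

/-- if `a`, `b` have the same `2`-adic valuation then `a / gcd` is odd -/
theorem odd_div_gcd (a b : ℕ) (ha : 0 < a) (hb : 0 < b)
    (hv : padicValNat 2 a = padicValNat 2 b) : Odd (a / Nat.gcd a b) := by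
  have hd : 0 < Nat.gcd a b := Nat.gcd_pos_of_pos_left b ha
  have hcop : Nat.Coprime (a / Nat.gcd a b) (b / Nat.gcd a b) := Nat.coprime_div_gcd_div_gcd hd
  have hva : padicValNat 2 (a / Nat.gcd a b) = padicValNat 2 a - padicValNat 2 (Nat.gcd a b) :=
    padicValNat.div_of_dvd (Nat.gcd_dvd_left a b)
  have hvb : padicValNat 2 (b / Nat.gcd a b) = padicValNat 2 b - padicValNat 2 (Nat.gcd a b) :=
    padicValNat.div_of_dvd (Nat.gcd_dvd_right a b)
  have hapos : 0 < a / Nat.gcd a b := Nat.div_pos (Nat.le_of_dvd ha (Nat.gcd_dvd_left a b)) hd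
  have hbpos : 0 < b / Nat.gcd a b := Nat.div_pos (Nat.le_of_dvd hb (Nat.gcd_dvd_right a b)) hd
  by_contra hodd
  rw [Nat.not_odd_iff_even] at hodd
  have h2a : 2 ∣ a / Nat.gcd a b := hodd.two_dvd
  have hva1 : 1 ≤ padicValNat 2 (a / Nat.gcd a b) :=
    one_le_padicValNat_of_dvd hapos.ne' h2a
  have hvb1 : 1 ≤ padicValNat 2 (b / Nat.gcd a b) := by
    rw [hvb, ← hv, ← hva]; exact hva1
  have h2b : 2 ∣ b / Nat.gcd a b := by
    by_contra h
    have : padicValNat 2 (b / Nat.gcd a b) = 0 := padicValNat.eq_zero_of_not_dvd h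
    omega
  have := Nat.dvd_gcd h2a h2b
  rw [hcop] at this
  omega

theorem lcm_two_le (q a b : ℕ) (hq : 2 ≤ q) (ha : 0 < a) (hb : 0 < b)
    (hv : padicValNat 2 a = padicValNat 2 b) :
    Nat.lcm (q ^ a + 1) (q ^ b + 1) ≤ q ^ (a + b) - 1 := by
  set d := Nat.gcd a b with hd
  have hdpos : 0 < d := Nat.gcd_pos_of_pos_left b ha
  have hoa : Odd (a / d) := odd_div_gcd a b ha hb hv
  have hob : Odd (b / d) := by
    have := odd_div_gcd b a hb ha hv.symm
    rwa [Nat.gcd_comm] at this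
  have hda : d * (a / d) = a := Nat.mul_div_cancel' (Nat.gcd_dvd_left a b)
  have hdb : d * (b / d) = b := Nat.mul_div_cancel' (Nat.gcd_dvd_right a b)
  have hga : q ^ d + 1 ∣ q ^ a + 1 := by
    have := Odd.nat_add_dvd_pow_add_pow (q ^ d) 1 hoa
    rwa [← pow_mul, hda, one_pow] at this
  have hgb : q ^ d + 1 ∣ q ^ b + 1 := by
    have := Odd.nat_add_dvd_pow_add_pow (q ^ d) 1 hob
    rwa [← pow_mul, hdb, one_pow] at this
  have hgg : q ^ d + 1 ∣ Nat.gcd (q ^ a + 1) (q ^ b + 1) := Nat.dvd_gcd hga hgb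
  have hgpos : 0 < Nat.gcd (q ^ a + 1) (q ^ b + 1) := Nat.gcd_pos_of_pos_left _ (Nat.succ_pos _)
  have hgle : q ^ d + 1 ≤ Nat.gcd (q ^ a + 1) (q ^ b + 1) := Nat.le_of_dvd hgpos hgg
  have hprod : Nat.gcd (q ^ a + 1) (q ^ b + 1) * Nat.lcm (q ^ a + 1) (q ^ b + 1)
      = (q ^ a + 1) * (q ^ b + 1) := Nat.gcd_mul_lcm _ _
  have h2 : ∀ n : ℕ, 0 < n → 2 ≤ q ^ n := by
    intro n hn
    calc 2 ≤ q := hq
      _ = q ^ 1 := (pow_one q).symm
      _ ≤ q ^ n := Nat.pow_le_pow_right (by omega) hn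
  have hXY : 1 ≤ q ^ (a + b) := Nat.one_le_pow _ _ (by omega)
  have hW : (q ^ (a + b) - 1) + 1 = q ^ a * q ^ b := by
    rw [← pow_add]; omega
  have hnum : (q ^ a + 1) * (q ^ b + 1) ≤ (q ^ d + 1) * (q ^ (a + b) - 1) :=
    three_le (q ^ a) (q ^ b) (q ^ d) _ (h2 a ha) (h2 b hb) (h2 d hdpos) hW
  have h3 : (q ^ d + 1) * Nat.lcm (q ^ a + 1) (q ^ b + 1) ≤ (q ^ d + 1) * (q ^ (a + b) - 1) := by
    calc (q ^ d + 1) * Nat.lcm (q ^ a + 1) (q ^ b + 1)
        ≤ Nat.gcd (q ^ a + 1) (q ^ b + 1) * Nat.lcm (q ^ a + 1) (q ^ b + 1) :=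
          Nat.mul_le_mul_right _ hgle
      _ = (q ^ a + 1) * (q ^ b + 1) := hprod
      _ ≤ _ := hnum
  exact Nat.le_of_mul_le_mul_left h3 (Nat.succ_pos _)

/-- core of the distinct-subset-sums argument -/
theorem sum_ne_of_min (S T : Finset ℕ) (x k : ℕ) (hxS : x ∈ S) (hxT : x ∉ T)
    (hx : ¬ 2 ^ (k + 1) ∣ x)
    (hS : ∀ y ∈ S, y ≠ x → y ∉ T → 2 ^ (k + 1) ∣ y)
    (hT : ∀ y ∈ T, y ∉ S → 2 ^ (k + 1) ∣ y) :
    S.sum id ≠ T.sum id := by
  intro heq
  have h1 : (S ∩ T).sum id + (S \ T).sum id = S.sum id := Finset.sum_inter_add_sum_sdiff S T id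
  have h2 : (T ∩ S).sum id + (T \ S).sum id = T.sum id := Finset.sum_inter_add_sum_sdiff T S id
  rw [Finset.inter_comm T S] at h2
  have h3 : (S \ T).sum id = (T \ S).sum id := by omega
  have hxd : x ∈ S \ T := Finset.mem_sdiff.2 ⟨hxS, hxT⟩
  have h4 : x + ((S \ T).erase x).sum id = (S \ T).sum id := Finset.add_sum_erase (S \ T) id hxd
  have h5 : 2 ^ (k + 1) ∣ (T \ S).sum id := by
    apply Finset.dvd_sum
    intro y hy
    rw [Finset.mem_sdiff] at hy
    exact hT y hy.1 hy.2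
  have h6 : 2 ^ (k + 1) ∣ ((S \ T).erase x).sum id := by
    apply Finset.dvd_sum
    intro y hy
    rw [Finset.mem_erase, Finset.mem_sdiff] at hy
    exact hS y hy.2.1 hy.1 hy.2.2
  have h7 : 2 ^ (k + 1) ∣ x + ((S \ T).erase x).sum id := by rw [h4, h3]; exact h5
  exact hx ((Nat.dvd_add_left h6).1 h7)

theorem subset_sum_inj (F : Finset ℕ) (hpos : ∀ a ∈ F, 0 < a)
    (hinj : ∀ x ∈ F, ∀ y ∈ F, padicValNat 2 x = padicValNat 2 y → x = y)
    (S T : Finset ℕ) (hS : S ⊆ F) (hT : T ⊆ F) (h : S.sum id = T.sum id) : S = T := by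
  by_contra hne
  have hD : (symmDiff S T).Nonempty := by
    rw [Finset.nonempty_iff_ne_empty]
    intro h0
    apply hne
    have : symmDiff S T = ⊥ := h0
    exact symmDiff_eq_bot.1 this
  obtain ⟨x, hxD, hmin⟩ := Finset.exists_min_image (symmDiff S T) (padicValNat 2) hD
  have hDF : ∀ y ∈ symmDiff S T, y ∈ F := by
    intro y hy
    rw [Finset.mem_symmDiff] at hy
    rcases hy with hy | hy
    · exact hS hy.1
    · exact hT hy.1
  have hxF := hDF x hxD
  have hxpos := hpos x hxF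
  have hx : ¬ 2 ^ (padicValNat 2 x + 1) ∣ x := pow_succ_padicValNat_not_dvd hxpos.ne'
  have hbig : ∀ y ∈ symmDiff S T, y ≠ x → 2 ^ (padicValNat 2 x + 1) ∣ y := by
    intro y hy hyx
    have hyF := hDF y hy
    have h1 := hmin y hy
    have h2 : padicValNat 2 x ≠ padicValNat 2 y := fun e => hyx (hinj x hxF y hyF e).symm
    have h3 : padicValNat 2 x + 1 ≤ padicValNat 2 y := by omega
    exact (pow_dvd_pow 2 h3).trans pow_padicValNat_dvd
  rw [Finset.mem_symmDiff] at hxD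
  rcases hxD with hxD | hxD
  · refine sum_ne_of_min S T x (padicValNat 2 x) hxD.1 hxD.2 hx ?_ ?_ h
    · intro y hyS hyx hyT
      exact hbig y (Finset.mem_symmDiff.2 (Or.inl ⟨hyS, hyT⟩)) hyx
    · intro y hyT hyS
      refine hbig y (Finset.mem_symmDiff.2 (Or.inr ⟨hyT, hyS⟩)) ?_
      rintro rfl
      exact hyS hxD.1
  · refine sum_ne_of_min T S x (padicValNat 2 x) hxD.1 hxD.2 hx ?_ ?_ h.symm
    · intro y hyT hyx hyS
      exact hbig y (Finset.mem_symmDiff.2 (Or.inr ⟨hyT, hyS⟩)) hyx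
    · intro y hyS hyT
      refine hbig y (Finset.mem_symmDiff.2 (Or.inl ⟨hyS, hyT⟩)) ?_
      rintro rfl
      exact hyT hxD.1

/-- case (ii): pairwise distinct valuations -/
theorem prod_bound (q : ℕ) (hq : 2 ≤ q) (F : Finset ℕ) (hpos : ∀ a ∈ F, 0 < a)
    (hinj : ∀ x ∈ F, ∀ y ∈ F, padicValNat 2 x = padicValNat 2 y → x = y) :
    (q - 1) * ∏ a ∈ F, (q ^ a + 1) ≤ q ^ (F.sum id + 1) - 1 := by
  have h1 : ∏ a ∈ F, (q ^ a + 1) = ∑ t ∈ F.powerset, q ^ (t.sum id) := by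
    rw [Finset.prod_add_one]
    apply Finset.sum_congr rfl
    intro t _
    rw [Finset.prod_pow_eq_pow_sum]
    rfl
  have h2 : ∑ t ∈ F.powerset, q ^ (t.sum id)
      = ∑ j ∈ F.powerset.image (fun t => t.sum id), q ^ j := by
    rw [Finset.sum_image]
    intro S hS T hT h
    exact subset_sum_inj F hpos hinj S T (Finset.mem_powerset.1 hS) (Finset.mem_powerset.1 hT) h
  have h3 : ∑ j ∈ F.powerset.image (fun t => t.sum id), q ^ j
      ≤ ∑ j ∈ Finset.range (F.sum id + 1), q ^ j := by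
    apply Finset.sum_le_sum_of_subset
    intro j hj
    rw [Finset.mem_image] at hj
    obtain ⟨t, ht, rfl⟩ := hj
    rw [Finset.mem_range, Nat.lt_succ_iff]
    exact Finset.sum_le_sum_of_subset (Finset.mem_powerset.1 ht)
  rw [h1, h2]
  calc (q - 1) * ∑ j ∈ F.powerset.image (fun t => t.sum id), q ^ j
      ≤ (q - 1) * ∑ j ∈ Finset.range (F.sum id + 1), q ^ j := Nat.mul_le_mul_left _ h3
    _ = (q - 1) * ((q ^ (F.sum id + 1) - 1) / (q - 1)) := by rw [Nat.geomSum_eq hq]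
    _ ≤ q ^ (F.sum id + 1) - 1 := Nat.mul_div_le _ _

theorem exists_pair {α β : Type*} (f : α → β) (s : Multiset α) (h : ¬ (s.map f).Nodup) :
    ∃ a b t, s = a ::ₘ b ::ₘ t ∧ f a = f b := by
  classical
  induction s using Multiset.induction_on with
  | empty => simp at h
  | cons a s IH =>
    rw [Multiset.map_cons, Multiset.nodup_cons] at h
    by_cases h1 : f a ∈ s.map f
    · rw [Multiset.mem_map] at h1
      obtain ⟨b, hb, hfb⟩ := h1
      obtain ⟨t, rfl⟩ := Multiset.exists_cons_of_mem hb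
      exact ⟨a, b, t, rfl, hfb.symm⟩
    · have h2 : ¬ (s.map f).Nodup := fun h2 => h ⟨h1, h2⟩
      obtain ⟨b, c, t, rfl, hbc⟩ := IH h2
      refine ⟨b, c, a ::ₘ t, ?_, hbc⟩
      rw [Multiset.cons_swap a b, Multiset.cons_swap a c]

theorem lcm_pos_aux (q : ℕ) (t : Multiset ℕ) : 0 < (t.map (fun a => q ^ a + 1)).lcm := by
  rw [Nat.pos_iff_ne_zero, Ne, Multiset.lcm_eq_zero_iff, Multiset.mem_map]
  rintro ⟨a, _, ha⟩
  omega

theorem lcm_le_prod (s : Multiset ℕ) (h : ∀ x ∈ s, 0 < x) : s.lcm ≤ s.prod := by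
  induction s using Multiset.induction_on with
  | empty => simp
  | cons a s IH =>
    have hs : ∀ x ∈ s, 0 < x := fun x hx => h x (Multiset.mem_cons_of_mem hx)
    have ha : 0 < a := h a (Multiset.mem_cons_self a s)
    rw [Multiset.lcm_cons, Multiset.prod_cons]
    have hpos : 0 < s.prod := Multiset.prod_pos hs
    have h1 : GCDMonoid.lcm a s.lcm = Nat.lcm a s.lcm := rfl
    rw [h1]
    calc Nat.lcm a s.lcm ≤ a * s.lcm :=
          Nat.le_of_dvd (Nat.mul_pos ha (Nat.pos_of_ne_zero (by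
            rw [Ne, Multiset.lcm_eq_zero_iff]
            intro h0
            exact (hs 0 h0).ne rfl))) (Nat.lcm_dvd_mul a s.lcm)
      _ ≤ a * s.prod := Nat.mul_le_mul_left a (IH hs)

theorem plus_lcm_bound (q : ℕ) (hq : 2 ≤ q) (P : Multiset ℕ) (hP : ∀ a ∈ P, 0 < a) :
    (q - 1) * (P.map (fun a => q ^ a + 1)).lcm ≤ q ^ (P.sum + 1) - 1 := by
  induction P using Multiset.strongInductionOn with
  | ih P IH =>
    by_cases hnd : (P.map (padicValNat 2)).Nodup
    · have hPnd : P.Nodup := Multiset.Nodup.of_map _ hnd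
      have hinj := (Multiset.nodup_map_iff_inj_on hPnd).1 hnd
      have := prod_bound q hq ⟨P, hPnd⟩ (fun a ha => hP a ha) (fun x hx y hy => hinj x hx y hy)
      have hle : (P.map (fun a => q ^ a + 1)).lcm ≤ (P.map (fun a => q ^ a + 1)).prod := by
        apply lcm_le_prod
        intro x hx
        rw [Multiset.mem_map] at hx
        obtain ⟨a, _, rfl⟩ := hx
        exact Nat.succ_pos _
      calc (q - 1) * (P.map (fun a => q ^ a + 1)).lcm
          ≤ (q - 1) * (P.map (fun a => q ^ a + 1)).prod := Nat.mul_le_mul_left _ hle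
        _ ≤ q ^ (P.sum + 1) - 1 := by
          have e1 : (P.map (fun a => q ^ a + 1)).prod
              = ∏ a ∈ (⟨P, hPnd⟩ : Finset ℕ), (q ^ a + 1) := rfl
          have e2 : P.sum = (⟨P, hPnd⟩ : Finset ℕ).sum id := by
            simp [Finset.sum]
          rw [e1, e2]
          exact this
    · obtain ⟨a, b, t, rfl, hab⟩ := exists_pair (padicValNat 2) P hnd
      have ha : 0 < a := hP a (Multiset.mem_cons_self a _)
      have hb : 0 < b := hP b (Multiset.mem_cons_of_mem (Multiset.mem_cons_self b _))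
      have ht : ∀ x ∈ t, 0 < x := fun x hx =>
        hP x (Multiset.mem_cons_of_mem (Multiset.mem_cons_of_mem hx))
      have hlt : t < a ::ₘ b ::ₘ t :=
        (Multiset.lt_cons_self t b).trans (Multiset.lt_cons_self _ a)
      have IHt := IH t hlt ht
      have h2 := lcm_two_le q a b hq ha hb hab
      rw [Multiset.map_cons, Multiset.map_cons, Multiset.lcm_cons, Multiset.lcm_cons,
        Multiset.sum_cons, Multiset.sum_cons]
      set L := (t.map (fun a => q ^ a + 1)).lcm with hL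
      have hLpos : 0 < L := lcm_pos_aux q t
      have e1 : GCDMonoid.lcm (q ^ a + 1) (GCDMonoid.lcm (q ^ b + 1) L)
          = Nat.lcm (Nat.lcm (q ^ a + 1) (q ^ b + 1)) L := by
        change Nat.lcm (q ^ a + 1) (Nat.lcm (q ^ b + 1) L) = _
        rw [Nat.lcm_assoc]
      rw [e1]
      have h3 : Nat.lcm (Nat.lcm (q ^ a + 1) (q ^ b + 1)) L
          ≤ Nat.lcm (q ^ a + 1) (q ^ b + 1) * L := by
        apply Nat.le_of_dvd
        · exact Nat.mul_pos (Nat.lcm_pos (Nat.succ_pos _) (Nat.succ_pos _)) hLpos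
        · exact Nat.lcm_dvd_mul _ _
      calc (q - 1) * Nat.lcm (Nat.lcm (q ^ a + 1) (q ^ b + 1)) L
          ≤ (q - 1) * (Nat.lcm (q ^ a + 1) (q ^ b + 1) * L) := Nat.mul_le_mul_left _ h3
        _ = Nat.lcm (q ^ a + 1) (q ^ b + 1) * ((q - 1) * L) := by ring
        _ ≤ (q ^ (a + b) - 1) * (q ^ (t.sum + 1) - 1) := Nat.mul_le_mul h2 IHt
        _ ≤ q ^ (a + b) * q ^ (t.sum + 1) - 1 :=
          pred_mul_pred_le _ _ (Nat.one_le_pow _ _ (by omega)) (Nat.one_le_pow _ _ (by omega))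
        _ = q ^ (a + (b + t.sum) + 1) - 1 := by
          rw [← pow_add]
          congr 2
          ring

end Cfsg.Agent.Lib.MeoN1
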