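import Mathlib
import Cfsg.Agent.Lib.Helper9.SLRoot2
import Cfsg.Agent.Lib.Lead.MinIdxDefs

set_option autoImplicit false

namespace Cfsg.Agent.Lib.Lead.MinIdx

open Matrix Cfsg.Agent.H9SLRoot

/-! ## Part A: abstract lemmas on a finite abelian group acting on a set -/
section A
variable {R : Type*} [CommGroup R] {Ω : Type*} [MulAction R Ω]

/-- duality: a subgroup is cut out by the characters trivial on it -/
theorem exists_char_sep [Finite R] (S : Subgroup R) {r : R} (hr : r ∉ S) :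
    ∃ χ : R →* ℂˣ, (∀ s ∈ S, χ s = 1) ∧ χ r ≠ 1 := by
  have hne : (QuotientGroup.mk' S r) ≠ 1 := by
    intro h
    exact hr ((QuotientGroup.eq_one_iff r).mp h)
  obtain ⟨φ, hφ⟩ := CommGroup.exists_apply_ne_one_of_hasEnoughRootsOfUnity (R ⧸ S) ℂ hne
  refine ⟨φ.comp (QuotientGroup.mk' S), ?_, hφ⟩
  intro s hs
  have : QuotientGroup.mk' S s = 1 := (QuotientGroup.eq_one_iff s).mpr hs
  rw [MonoidHom.comp_apply, this, map_one]

/-- transport of `pset` along a compatible pair of symmetries -/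
theorem mem_pset_of_comp (σ : R ≃* R) (τ : Ω ≃ Ω) (hστ : ∀ r ω, τ (r • ω) = σ r • τ ω)
    (χ : R →* ℂˣ) {ω : Ω} (h : ω ∈ pset (χ.comp σ.toMonoidHom)) : τ ω ∈ pset χ := by
  intro r hr
  rw [MulAction.mem_stabilizer_iff] at hr
  have h1 : σ.symm r ∈ MulAction.stabilizer R ω := by
    rw [MulAction.mem_stabilizer_iff]
    apply τ.injective
    rw [hστ, MulEquiv.apply_symm_apply, hr]
  have := h _ h1
  rwa [MonoidHom.comp_apply, MulEquiv.coe_toMonoidHom, MulEquiv.apply_symm_apply] at this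

theorem stabilizer_smul_comm (r : R) (ω : Ω) :
    MulAction.stabilizer R (r • ω) = MulAction.stabilizer R ω := by
  ext s
  rw [MulAction.mem_stabilizer_iff, MulAction.mem_stabilizer_iff, smul_smul, mul_comm, ← smul_smul]
  exact ⟨fun h => smul_left_cancel r h, fun h => by rw [h]⟩

theorem mem_pset_iff {χ : R →* ℂˣ} {ω : Ω} :
    ω ∈ pset χ ↔ ∀ r ∈ MulAction.stabilizer R ω, χ r = 1 := Iff.rfl

end A

end Cfsg.Agent.Lib.Lead.MinIdx
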