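import Mathlib
import Cfsg.Agent.Lib.Helper9.SLRoot2
import Cfsg.Agent.Lib.Lead.MinIdxDefs

set_option autoImplicit false

namespace Cfsg.Agent.Lib.Lead.MinIdx

open Matrix Cfsg.Agent.H9SLRoot

/-! ## Part B: the concrete set-up in `SL_{d+1}(F)` -/
section B
variable {F : Type*} [Field F] {d : ℕ}

/-- extension by a zero coordinate in front -/
def ext0 (v : Fin d → F) : Fin (d + 1) → F := Matrix.vecCons 0 v

/-- the first basis vector -/
def e0 : Fin (d + 1) → F := Pi.single 0 1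

theorem ext0_zero_apply (v : Fin d → F) : ext0 v 0 = 0 := rfl
theorem ext0_succ (v : Fin d → F) (i : Fin d) : ext0 v i.succ = v i := rfl

theorem ext0_add (v w : Fin d → F) : ext0 (v + w) = ext0 v + ext0 w := by
  funext i; refine Fin.cases ?_ (fun j => ?_) i <;> simp [ext0]
theorem ext0_smul (c : F) (v : Fin d → F) : ext0 (c • v) = c • ext0 v := by
  funext i; refine Fin.cases ?_ (fun j => ?_) i <;> simp [ext0]
theorem ext0_neg (v : Fin d → F) : ext0 (-v) = -ext0 v := by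
  funext i; refine Fin.cases ?_ (fun j => ?_) i <;> simp [ext0]
theorem ext0_sub (v w : Fin d → F) : ext0 (v - w) = ext0 v - ext0 w := by
  funext i; refine Fin.cases ?_ (fun j => ?_) i <;> simp [ext0]
theorem ext0_zero : ext0 (0 : Fin d → F) = 0 := by
  funext i; refine Fin.cases ?_ (fun j => ?_) i <;> simp [ext0]
theorem ext0_injective : Function.Injective (ext0 : (Fin d → F) → (Fin (d + 1) → F)) := by
  intro v w h
  funext i
  have := congrFun h i.succ
  simpa [ext0] using this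
theorem ext0_dot (v w : Fin d → F) : ext0 v ⬝ᵥ ext0 w = v ⬝ᵥ w := by
  simp [ext0]
theorem ext0_dot_e0 (v : Fin d → F) : ext0 v ⬝ᵥ (e0 : Fin (d + 1) → F) = 0 := by
  simp [ext0, e0]
theorem e0_ne_zero : (e0 : Fin (d + 1) → F) ≠ 0 := by
  intro h
  have := congrFun h 0
  simp [e0] at this
theorem eq_ext0_of_dot_e0 {φ : Fin (d + 1) → F} (h : φ ⬝ᵥ (e0 : Fin (d + 1) → F) = 0) :
    φ = ext0 (Matrix.vecTail φ) := by
  have h0 : φ 0 = 0 := by simpa [e0] using h
  funext i
  refine Fin.cases ?_ (fun j => ?_) i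
  · rw [h0]; rfl
  · rfl
theorem ext0_ne_zero {w : Fin d → F} (hw : w ≠ 0) : ext0 w ≠ 0 := by
  intro h
  exact hw (ext0_injective (h.trans ext0_zero.symm))
theorem ext0_not_mem_span {w : Fin d → F} (hw : w ≠ 0) :
    ext0 w ∉ Submodule.span F {(e0 : Fin (d + 1) → F)} := by
  intro h
  obtain ⟨c, hc⟩ := Submodule.mem_span_singleton.mp h
  have h0 := congrFun hc 0
  simp [e0, ext0] at h0
  rw [h0, zero_smul] at hc
  exact ext0_ne_zero hw hc.symm

/-- the transvection with centre `e0` and axis `ext0 φ` -/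
noncomputable def aEl (φ : Fin d → F) : Matrix.SpecialLinearGroup (Fin (d + 1)) F :=
  tv e0 (ext0 φ) 1

theorem aEl_mulVec (φ : Fin d → F) (v : Fin (d + 1) → F) :
    ((aEl φ : Matrix.SpecialLinearGroup (Fin (d + 1)) F) : Matrix (Fin (d + 1)) (Fin (d + 1)) F) *ᵥ v =
      v + (ext0 φ ⬝ᵥ v) • e0 := by
  rw [aEl, tv_mulVec (ext0_dot_e0 φ), one_mul]

theorem aEl_add (φ φ' : Fin d → F) : aEl (φ + φ') = aEl φ * aEl φ' := by
  apply sl_ext; intro v
  rw [coe_mul_mulVec, aEl_mulVec, aEl_mulVec, aEl_mulVec, ext0_add, add_dotProduct,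
    dotProduct_add, dotProduct_smul, ext0_dot_e0, smul_zero, add_zero, add_smul]
  abel

theorem aEl_zero : aEl (0 : Fin d → F) = 1 := by
  apply sl_ext; intro v
  rw [aEl_mulVec, coe_one_mulVec, ext0_zero, zero_dotProduct, zero_smul, add_zero]

theorem aEl_injective : Function.Injective (aEl : (Fin d → F) → _) := by
  intro φ φ' h
  funext i
  have h1 := congrArg (fun g : Matrix.SpecialLinearGroup (Fin (d + 1)) F =>
    (g : Matrix (Fin (d + 1)) (Fin (d + 1)) F) *ᵥ (Pi.single i.succ 1)) h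
  simp only [aEl_mulVec] at h1
  have h2 := congrFun h1 0
  simpa [ext0, e0] using h2

theorem aEl_mem_Qgrp (φ : Fin d → F) : aEl φ ∈ Qgrp (e0 : Fin (d + 1) → F) :=
  ⟨ext0 φ, ext0_dot_e0 φ, rfl⟩

theorem exists_aEl_of_mem_Qgrp {g : Matrix.SpecialLinearGroup (Fin (d + 1)) F}
    (h : g ∈ Qgrp (e0 : Fin (d + 1) → F)) : ∃ φ : Fin d → F, g = aEl φ := by
  obtain ⟨φ, hφ, rfl⟩ := h
  exact ⟨Matrix.vecTail φ, by rw [aEl, ← eq_ext0_of_dot_e0 hφ]⟩

/-- `aEl` as a homomorphism -/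
noncomputable def aHom : Multiplicative (Fin d → F) →* Matrix.SpecialLinearGroup (Fin (d + 1)) F where
  toFun φ := aEl (Multiplicative.toAdd φ)
  map_one' := aEl_zero
  map_mul' _ _ := aEl_add _ _

theorem aHom_apply (φ : Multiplicative (Fin d → F)) : aHom φ = aEl (Multiplicative.toAdd φ) := rfl

/-- conjugation of `aEl φ` by an arbitrary element -/
theorem conj_aEl (g : Matrix.SpecialLinearGroup (Fin (d + 1)) F) (φ : Fin d → F) :
    g * aEl φ * g⁻¹ = tv ((g : Matrix (Fin (d + 1)) (Fin (d + 1)) F) *ᵥ e0)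
      (ext0 φ ᵥ* ((g⁻¹ : Matrix.SpecialLinearGroup (Fin (d + 1)) F) : Matrix (Fin (d + 1)) (Fin (d + 1)) F)) 1 :=
  tv_conj g _ _ _

/-- lower transvections -/
noncomputable def Lel (y η : Fin d → F) (c : F) : Matrix.SpecialLinearGroup (Fin (d + 1)) F :=
  tv (ext0 y) (ext0 η) c

theorem Lel_conj {y η : Fin d → F} (h : η ⬝ᵥ y = 0) (c : F) (φ : Fin d → F) :
    Lel y η c * aEl φ * (Lel y η c)⁻¹ = aEl (φ - (c * (φ ⬝ᵥ y)) • η) := by
  have hinc : ext0 η ⬝ᵥ ext0 y = 0 := by rw [ext0_dot, h]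
  rw [conj_aEl, Lel, tv_mulVec hinc, tv_inv, tv_vecMul hinc, ext0_dot_e0, mul_zero, zero_smul,
    add_zero, ext0_dot, aEl, ext0_sub, ext0_smul]
  congr 1
  rw [sub_eq_add_neg, ← neg_smul, neg_mul]

/-- the automorphism of `F^d` induced by a lower transvection -/
def sigL (y η : Fin d → F) (c : F) (h : η ⬝ᵥ y = 0) :
    Multiplicative (Fin d → F) ≃* Multiplicative (Fin d → F) where
  toFun φ := Multiplicative.ofAdd (Multiplicative.toAdd φ - (c * (Multiplicative.toAdd φ ⬝ᵥ y)) • η)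
  invFun φ := Multiplicative.ofAdd (Multiplicative.toAdd φ + (c * (Multiplicative.toAdd φ ⬝ᵥ y)) • η)
  left_inv φ := by
    simp only [toAdd_ofAdd, sub_dotProduct, smul_dotProduct, h, smul_zero, sub_zero]
    simp
  right_inv φ := by
    simp only [toAdd_ofAdd, add_dotProduct, smul_dotProduct, h, smul_zero, add_zero]
    simp
  map_mul' φ φ' := by
    simp only [toAdd_mul, add_dotProduct, mul_add, add_smul]
    rw [← ofAdd_add]
    congr 1
    abel

theorem sigL_apply (y η : Fin d → F) (c : F) (h : η ⬝ᵥ y = 0) (φ : Multiplicative (Fin d → F)) :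
    Multiplicative.toAdd (sigL y η c h φ) =
      Multiplicative.toAdd φ - (c * (Multiplicative.toAdd φ ⬝ᵥ y)) • η := rfl

theorem aHom_sigL (y η : Fin d → F) (c : F) (h : η ⬝ᵥ y = 0) (φ : Multiplicative (Fin d → F)) :
    aHom (sigL y η c h φ) = Lel y η c * aHom φ * (Lel y η c)⁻¹ := by
  rw [aHom_apply, aHom_apply, Lel_conj h, sigL_apply]

end B

end Cfsg.Agent.Lib.Lead.MinIdx
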