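import Mathlib
import Cfsg.Agent.Lib.Lead.MinIdxW2b

set_option autoImplicit false

namespace Cfsg.Agent.Lib.Lead.MinIdx

open Matrix Cfsg.Agent.H9SLRoot

/-! ## Part C: the characters of `F^d` -/
section C
variable {F : Type*} [Field F] {d : ℕ}

/-- the character `φ ↦ ψ (φ ⬝ᵥ w)` -/
def chi (ψ : Multiplicative F →* ℂˣ) (w : Fin d → F) : Multiplicative (Fin d → F) →* ℂˣ where
  toFun φ := ψ (Multiplicative.ofAdd (Multiplicative.toAdd φ ⬝ᵥ w))
  map_one' := by simp
  map_mul' a b := by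
    rw [toAdd_mul, add_dotProduct, ofAdd_add, map_mul]

theorem chi_apply (ψ : Multiplicative F →* ℂˣ) (w : Fin d → F) (φ : Multiplicative (Fin d → F)) :
    chi ψ w φ = ψ (Multiplicative.ofAdd (Multiplicative.toAdd φ ⬝ᵥ w)) := rfl

theorem chi_add (ψ : Multiplicative F →* ℂˣ) (w w' : Fin d → F) :
    chi ψ (w + w') = chi ψ w * chi ψ w' := by
  apply MonoidHom.ext; intro φ
  rw [MonoidHom.mul_apply, chi_apply, chi_apply, chi_apply, dotProduct_add, ofAdd_add, map_mul]

theorem chi_zero (ψ : Multiplicative F →* ℂˣ) : chi ψ (0 : Fin d → F) = 1 := by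
  apply MonoidHom.ext; intro φ
  rw [chi_apply, dotProduct_zero, ofAdd_zero, map_one]
  rfl

theorem chi_neg_mul (ψ : Multiplicative F →* ℂˣ) (w : Fin d → F) :
    chi ψ (-w) * chi ψ w = 1 := by
  rw [← chi_add, neg_add_cancel, chi_zero]

theorem chi_sub_mul (ψ : Multiplicative F →* ℂˣ) (w w' : Fin d → F) :
    chi ψ (w - w') * chi ψ w' = chi ψ w := by
  rw [← chi_add, sub_add_cancel]

theorem chi_comp_sigL (ψ : Multiplicative F →* ℂˣ) (w y η : Fin d → F) (c : F) (h : η ⬝ᵥ y = 0) :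
    (chi ψ w).comp (sigL y η c h).toMonoidHom = chi ψ (w - (c * (η ⬝ᵥ w)) • y) := by
  apply MonoidHom.ext; intro φ
  rw [MonoidHom.comp_apply, MulEquiv.coe_toMonoidHom, chi_apply, chi_apply, sigL_apply,
    sub_dotProduct, dotProduct_sub, smul_dotProduct, dotProduct_smul, smul_eq_mul, smul_eq_mul]
  congr 3
  ring

theorem exists_psi_ne [Finite F] {ψ : Multiplicative F →* ℂˣ} (hψ : ψ ≠ 1) :
    ∃ c : F, ψ (Multiplicative.ofAdd c) ≠ 1 := by
  by_contra hcon
  push Not at hcon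
  apply hψ
  apply MonoidHom.ext; intro x
  exact hcon (Multiplicative.toAdd x)

theorem chi_eq_one_iff [Finite F] {ψ : Multiplicative F →* ℂˣ} (hψ : ψ ≠ 1) (u : Fin d → F) :
    chi ψ u = 1 ↔ u = 0 := by
  constructor
  · intro h
    by_contra hu
    obtain ⟨i, hi⟩ : ∃ i, u i ≠ 0 := by
      by_contra hcon
      push Not at hcon
      exact hu (funext hcon)
    obtain ⟨c, hc⟩ := exists_psi_ne hψ
    apply hc
    have := DFunLike.congr_fun h (Multiplicative.ofAdd (Pi.single i (c / u i)))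
    rw [chi_apply, toAdd_ofAdd, single_dotProduct, div_mul_cancel₀ _ hi] at this
    rw [this]; rfl
  · rintro rfl
    exact chi_zero ψ

theorem chi_injective [Finite F] {ψ : Multiplicative F →* ℂˣ} (hψ : ψ ≠ 1) :
    Function.Injective (chi ψ : (Fin d → F) → _) := by
  intro w w' h
  have : chi ψ (w - w') = 1 := by
    apply MonoidHom.ext; intro φ
    have h1 := DFunLike.congr_fun (chi_sub_mul ψ w w') φ
    rw [h, MonoidHom.mul_apply] at h1
    exact mul_eq_right.mp h1
  exact sub_eq_zero.mp ((chi_eq_one_iff hψ _).mp this)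

theorem chi_bijective [Fintype F] {ψ : Multiplicative F →* ℂˣ} (hψ : ψ ≠ 1) :
    Function.Bijective (chi ψ : (Fin d → F) → _) := by
  have : Finite (Multiplicative (Fin d → F) →* ℂˣ) := by
    apply Nat.finite_of_card_ne_zero
    rw [CommGroup.card_monoidHom_of_hasEnoughRootsOfUnity (Multiplicative (Fin d → F)) ℂ]
    exact Nat.card_pos.ne'
  apply Function.Injective.bijective_of_nat_card_le (chi_injective hψ)
  rw [CommGroup.card_monoidHom_of_hasEnoughRootsOfUnity (Multiplicative (Fin d → F)) ℂ]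
  exact le_of_eq rfl

theorem exists_psi [Finite F] : ∃ ψ : Multiplicative F →* ℂˣ, ψ ≠ 1 := by
  have hne : (Multiplicative.ofAdd (1 : F)) ≠ 1 := by
    intro h
    have : (1 : F) = 0 := h
    exact one_ne_zero this
  obtain ⟨ψ, hψ⟩ := CommGroup.exists_apply_ne_one_of_hasEnoughRootsOfUnity (Multiplicative F) ℂ hne
  refine ⟨ψ, ?_⟩
  rintro rfl
  exact hψ rfl

theorem dot_eq_zero_of_chi [Finite F] {ψ : Multiplicative F →* ℂˣ} (hψ : ψ ≠ 1)
    {φ : Multiplicative (Fin d → F)} {w : Fin d → F} (h : ∀ c : F, chi ψ (c • w) φ = 1) :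
    Multiplicative.toAdd φ ⬝ᵥ w = 0 := by
  by_contra hne
  obtain ⟨c, hc⟩ := exists_psi_ne hψ
  apply hc
  have := h (c / (Multiplicative.toAdd φ ⬝ᵥ w))
  rwa [chi_apply, dotProduct_smul, smul_eq_mul, div_mul_cancel₀ _ hne] at this

end C

end Cfsg.Agent.Lib.Lead.MinIdx
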