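import Mathlib
import Cfsg.Agent.Lib.Lead.MinIdxW2a
import Cfsg.Agent.Lib.Lead.MinIdxW2chi
import Cfsg.Agent.Lib.Helper8.MinIdxW0

set_option autoImplicit false

namespace Cfsg.Agent.Lib.Lead.MinIdx

open Matrix Cfsg.Agent.H9SLRoot

/-! ## Part D: the action of `F^d` on the cosets of `M` -/
section D
variable {F : Type*} [Field F] [Fintype F] [DecidableEq F] {d : ℕ}

/-- the action of `F^d` on the cosets of `M` through `aHom` -/
@[instance_reducible]
noncomputable def actR (M : Subgroup (Matrix.SpecialLinearGroup (Fin (d + 1)) F)) :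
    MulAction (Multiplicative (Fin d → F)) (Matrix.SpecialLinearGroup (Fin (d + 1)) F ⧸ M) :=
  MulAction.compHom _ aHom

attribute [local instance] actR

variable (M : Subgroup (Matrix.SpecialLinearGroup (Fin (d + 1)) F))

theorem actR_smul (r : Multiplicative (Fin d → F))
    (ω : Matrix.SpecialLinearGroup (Fin (d + 1)) F ⧸ M) : r • ω = aHom r • ω := rfl

/-- left multiplication by a lower transvection is compatible with `sigL` -/
theorem tau_compat (y η : Fin d → F) (c : F) (h : η ⬝ᵥ y = 0) (r : Multiplicative (Fin d → F))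
    (ω : Matrix.SpecialLinearGroup (Fin (d + 1)) F ⧸ M) :
    (MulAction.toPerm (Lel y η c) : Equiv.Perm (Matrix.SpecialLinearGroup (Fin (d + 1)) F ⧸ M))
        (r • ω) =
      sigL y η c h r • (MulAction.toPerm (Lel y η c) :
        Equiv.Perm (Matrix.SpecialLinearGroup (Fin (d + 1)) F ⧸ M)) ω := by
  rw [MulAction.toPerm_apply, MulAction.toPerm_apply, actR_smul, actR_smul, aHom_sigL, smul_smul,
    smul_smul, inv_mul_cancel_right]

theorem pmult_move (ψ : Multiplicative F →* ℂˣ) (w y η : Fin d → F) (c : F) (h : η ⬝ᵥ y = 0) :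
    pmult (Matrix.SpecialLinearGroup (Fin (d + 1)) F ⧸ M) (chi ψ (w - (c * (η ⬝ᵥ w)) • y)) =
      pmult (Matrix.SpecialLinearGroup (Fin (d + 1)) F ⧸ M) (chi ψ w) := by
  rw [← chi_comp_sigL ψ w y η c h]
  exact pmult_comp (sigL y η c h) (MulAction.toPerm (Lel y η c)) (tau_compat M y η c h) (chi ψ w)

/-- in dimension at least two, every nonzero vector has an independent companion -/
theorem exists_not_mem_span (hd : 2 ≤ d) {w : Fin d → F} (hw : w ≠ 0) :
    ∃ u : Fin d → F, u ∉ Submodule.span F {w} ∧ w ∉ Submodule.span F {u} := by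
  obtain ⟨i, hi⟩ : ∃ i, w i ≠ 0 := by
    by_contra hcon
    push Not at hcon
    exact hw (funext hcon)
  obtain ⟨j, hj⟩ : ∃ j : Fin d, j ≠ i := by
    by_cases h0 : i = ⟨0, by omega⟩
    · exact ⟨⟨1, by omega⟩, by rw [h0]; intro h; simpa using congrArg Fin.val h⟩
    · exact ⟨⟨0, by omega⟩, fun h => h0 h.symm⟩
  have hu0 : (Pi.single j 1 : Fin d → F) ≠ 0 := by
    intro h
    have := congrFun h j
    simp at this
  rcases span_dichotomy hu0 hw with ⟨lam, _, h⟩ | h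
  · exfalso
    have := congrFun h i
    rw [Pi.single_apply, if_neg hj.symm, Pi.smul_apply, smul_eq_mul] at this
    have hlam : lam = 0 := by
      rcases mul_eq_zero.mp this.symm with h1 | h1
      · exact h1
      · exact absurd h1 hi
    rw [hlam, zero_smul] at h
    exact hu0 h
  · exact ⟨_, h⟩

theorem pmult_indep (ψ : Multiplicative F →* ℂˣ) {w w' : Fin d → F}
    (h1 : w ∉ Submodule.span F {w'}) (h2 : w' ∉ Submodule.span F {w}) :
    pmult (Matrix.SpecialLinearGroup (Fin (d + 1)) F ⧸ M) (chi ψ w') =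
      pmult (Matrix.SpecialLinearGroup (Fin (d + 1)) F ⧸ M) (chi ψ w) := by
  obtain ⟨η, e1, e2⟩ := exists_dot_one_one h1 h2
  have hinc : η ⬝ᵥ (w - w') = 0 := by rw [dotProduct_sub, e1, e2, sub_self]
  have := pmult_move M ψ w (w - w') η 1 hinc
  rwa [e1, mul_one, one_smul, sub_sub_cancel] at this

theorem pmult_const (hd : 2 ≤ d) (ψ : Multiplicative F →* ℂˣ) {w w' : Fin d → F}
    (hw : w ≠ 0) (hw' : w' ≠ 0) :
    pmult (Matrix.SpecialLinearGroup (Fin (d + 1)) F ⧸ M) (chi ψ w') =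
      pmult (Matrix.SpecialLinearGroup (Fin (d + 1)) F ⧸ M) (chi ψ w) := by
  rcases span_dichotomy hw hw' with ⟨lam, hlam, h⟩ | h
  · obtain ⟨u, hu1, hu2⟩ := exists_not_mem_span hd hw
    have hu3 : u ∉ Submodule.span F {w'} := by
      intro hmem
      apply hu1
      obtain ⟨c, rfl⟩ := Submodule.mem_span_singleton.mp hmem
      rw [h]
      exact Submodule.mem_span_singleton.mpr ⟨c * lam⁻¹, by
        rw [smul_smul, mul_assoc, inv_mul_cancel₀ hlam, mul_one]⟩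
    have hu4 : w' ∉ Submodule.span F {u} := by
      intro hmem
      apply hu2
      obtain ⟨c, hc⟩ := Submodule.mem_span_singleton.mp hmem
      rw [h, ← hc, smul_smul]
      exact Submodule.mem_span_singleton.mpr ⟨_, rfl⟩
    rw [pmult_indep M ψ hu3 hu4, ← pmult_indep M ψ hu1 hu2]
  · exact pmult_indep M ψ h.1 h.2

/-- every transvection whose centre is moved to `e0` by `g` is a conjugate of some `aEl` -/
theorem tv_eq_conj_aEl {g : Matrix.SpecialLinearGroup (Fin (d + 1)) F} {x : Fin (d + 1) → F}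
    (hg : (g : Matrix (Fin (d + 1)) (Fin (d + 1)) F) *ᵥ x = e0) {φ : Fin (d + 1) → F}
    (hφ : φ ⬝ᵥ x = 0) (c : F) :
    ext0 (Matrix.vecTail (c • (φ ᵥ* ((g⁻¹ : Matrix.SpecialLinearGroup (Fin (d + 1)) F) :
        Matrix (Fin (d + 1)) (Fin (d + 1)) F)))) =
      c • (φ ᵥ* ((g⁻¹ : Matrix.SpecialLinearGroup (Fin (d + 1)) F) :
        Matrix (Fin (d + 1)) (Fin (d + 1)) F)) ∧
    tv x φ c = g⁻¹ * aEl (Matrix.vecTail (c • (φ ᵥ*
      ((g⁻¹ : Matrix.SpecialLinearGroup (Fin (d + 1)) F) :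
        Matrix (Fin (d + 1)) (Fin (d + 1)) F)))) * g := by
  have hx : ((g⁻¹ : Matrix.SpecialLinearGroup (Fin (d + 1)) F) :
      Matrix (Fin (d + 1)) (Fin (d + 1)) F) *ᵥ e0 = x := by
    rw [← hg, inv_mulVec_mulVec]
  have h0 : (c • (φ ᵥ* ((g⁻¹ : Matrix.SpecialLinearGroup (Fin (d + 1)) F) :
      Matrix (Fin (d + 1)) (Fin (d + 1)) F))) ⬝ᵥ (e0 : Fin (d + 1) → F) = 0 := by
    rw [smul_dotProduct, ← Matrix.dotProduct_mulVec, hx, hφ, smul_zero]
  have h1 := (eq_ext0_of_dot_e0 h0).symm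
  refine ⟨h1, ?_⟩
  rw [aEl, h1]
  have h2 := tv_smul (1 : F) c (e0 : Fin (d + 1) → F)
    (φ ᵥ* ((g⁻¹ : Matrix.SpecialLinearGroup (Fin (d + 1)) F) :
      Matrix (Fin (d + 1)) (Fin (d + 1)) F)) 1
  rw [one_smul, one_mul, mul_one] at h2
  rw [h2, ← hg, ← tv_conj]
  group

theorem conj_mem_iff (g : Matrix.SpecialLinearGroup (Fin (d + 1)) F) (φ' : Fin d → F) :
    g⁻¹ * aEl φ' * g ∈ M ↔
      Multiplicative.ofAdd φ' ∈ MulAction.stabilizer (Multiplicative (Fin d → F))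
        (QuotientGroup.mk g : Matrix.SpecialLinearGroup (Fin (d + 1)) F ⧸ M) := by
  rw [MulAction.mem_stabilizer_iff, actR_smul, aHom_apply, toAdd_ofAdd, MulAction.Quotient.smul_mk,
    QuotientGroup.eq, smul_eq_mul, ← inv_mem_iff (x := g⁻¹ * aEl φ' * g)]
  have : (g⁻¹ * aEl φ' * g)⁻¹ = (aEl φ' * g)⁻¹ * g := by group
  rw [this]

/-- the group `F^d` has no fixed point on the cosets -/
theorem exists_not_fixed (hno : ∀ x : Fin (d + 1) → F, x ≠ 0 → ¬ Qgrp x ≤ M)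
    (ω : Matrix.SpecialLinearGroup (Fin (d + 1)) F ⧸ M) :
    ∃ r : Multiplicative (Fin d → F), r ∉ MulAction.stabilizer (Multiplicative (Fin d → F)) ω := by
  by_contra hcon
  push Not at hcon
  induction ω using QuotientGroup.induction_on with
  | H g =>
    have hg : (g : Matrix (Fin (d + 1)) (Fin (d + 1)) F) *ᵥ
        (((g⁻¹ : Matrix.SpecialLinearGroup (Fin (d + 1)) F) :
          Matrix (Fin (d + 1)) (Fin (d + 1)) F) *ᵥ e0) = e0 := mulVec_inv_mulVec g e0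
    have hne : ((g⁻¹ : Matrix.SpecialLinearGroup (Fin (d + 1)) F) :
          Matrix (Fin (d + 1)) (Fin (d + 1)) F) *ᵥ (e0 : Fin (d + 1) → F) ≠ 0 := by
      intro h
      rw [h, Matrix.mulVec_zero] at hg
      exact e0_ne_zero hg.symm
    apply hno _ hne
    rintro t ⟨φ, hφ, rfl⟩
    obtain ⟨-, h2⟩ := tv_eq_conj_aEl hg hφ 1
    rw [h2, conj_mem_iff]
    exact hcon _

/-- the set of `w` whose character is trivial on the stabilizer of `ω` -/
def Dset (ψ : Multiplicative F →* ℂˣ) (ω : Matrix.SpecialLinearGroup (Fin (d + 1)) F ⧸ M) :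
    Set (Fin d → F) := {w | ω ∈ pset (chi ψ w)}

theorem mem_Dset {ψ : Multiplicative F →* ℂˣ}
    {ω : Matrix.SpecialLinearGroup (Fin (d + 1)) F ⧸ M} {w : Fin d → F} :
    w ∈ Dset M ψ ω ↔ ∀ r ∈ MulAction.stabilizer (Multiplicative (Fin d → F)) ω, chi ψ w r = 1 :=
  Iff.rfl

/-- duality: the stabilizer is cut out by `Dset` -/
theorem mem_stabilizer_of_Dset {ψ : Multiplicative F →* ℂˣ} (hψ : ψ ≠ 1)
    {ω : Matrix.SpecialLinearGroup (Fin (d + 1)) F ⧸ M} {r : Multiplicative (Fin d → F)}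
    (h : ∀ w ∈ Dset M ψ ω, chi ψ w r = 1) :
    r ∈ MulAction.stabilizer (Multiplicative (Fin d → F)) ω := by
  by_contra hr
  obtain ⟨χ, h1, h2⟩ := exists_char_sep _ hr
  obtain ⟨w, rfl⟩ := (chi_bijective hψ).2 χ
  exact h2 (h w h1)

/-- every point has a nonzero vector in its `Dset` -/
theorem exists_ne_zero_mem_Dset {ψ : Multiplicative F →* ℂˣ} (hψ : ψ ≠ 1)
    (hno : ∀ x : Fin (d + 1) → F, x ≠ 0 → ¬ Qgrp x ≤ M)
    (ω : Matrix.SpecialLinearGroup (Fin (d + 1)) F ⧸ M) : ∃ w : Fin d → F, w ≠ 0 ∧ w ∈ Dset M ψ ω := by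
  obtain ⟨r, hr⟩ := exists_not_fixed M hno ω
  obtain ⟨χ, h1, h2⟩ := exists_char_sep _ hr
  obtain ⟨w, rfl⟩ := (chi_bijective hψ).2 χ
  refine ⟨w, ?_, h1⟩
  rintro rfl
  rw [chi_zero] at h2
  exact h2 rfl

theorem Dset_add {ψ : Multiplicative F →* ℂˣ}
    {ω : Matrix.SpecialLinearGroup (Fin (d + 1)) F ⧸ M} {w w' : Fin d → F}
    (hw : w ∈ Dset M ψ ω) (hw' : w' ∈ Dset M ψ ω) : w + w' ∈ Dset M ψ ω := by
  intro r hr
  rw [chi_add, MonoidHom.mul_apply, hw r hr, hw' r hr, one_mul]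

theorem Dset_neg {ψ : Multiplicative F →* ℂˣ}
    {ω : Matrix.SpecialLinearGroup (Fin (d + 1)) F ⧸ M} {w : Fin d → F}
    (hw : w ∈ Dset M ψ ω) : -w ∈ Dset M ψ ω := by
  intro r hr
  have := DFunLike.congr_fun (chi_neg_mul ψ w) r
  rwa [MonoidHom.mul_apply, hw r hr, mul_one] at this

theorem Dset_sub {ψ : Multiplicative F →* ℂˣ}
    {ω : Matrix.SpecialLinearGroup (Fin (d + 1)) F ⧸ M} {w w' : Fin d → F}
    (hw : w ∈ Dset M ψ ω) (hw' : w' ∈ Dset M ψ ω) : w - w' ∈ Dset M ψ ω := by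
  rw [sub_eq_add_neg]
  exact Dset_add M hw (Dset_neg M hw')

theorem Dset_zero (ψ : Multiplicative F →* ℂˣ)
    (ω : Matrix.SpecialLinearGroup (Fin (d + 1)) F ⧸ M) : (0 : Fin d → F) ∈ Dset M ψ ω := by
  intro r _
  rw [chi_zero]; rfl

/-- the sum formula -/
theorem sum_formula {ψ : Multiplicative F →* ℂˣ} (hψ : ψ ≠ 1) :
    pmult (Matrix.SpecialLinearGroup (Fin (d + 1)) F ⧸ M) (1 : Multiplicative (Fin d → F) →* ℂˣ) +
      ∑ w ∈ (Finset.univ : Finset (Fin d → F)).erase 0,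
        pmult (Matrix.SpecialLinearGroup (Fin (d + 1)) F ⧸ M) (chi ψ w) = M.index := by
  letI : Fintype (Multiplicative (Fin d → F) →* ℂˣ) :=
    Fintype.ofBijective _ (chi_bijective hψ)
  have h1 := sum_pmult (R := Multiplicative (Fin d → F))
    (Ω := Matrix.SpecialLinearGroup (Fin (d + 1)) F ⧸ M)
  have h2 := Function.Bijective.sum_comp (chi_bijective (d := d) hψ)
    (fun χ => pmult (Matrix.SpecialLinearGroup (Fin (d + 1)) F ⧸ M) χ)
  rw [h1] at h2
  rw [← Finset.add_sum_erase _ _ (Finset.mem_univ (0 : Fin d → F)), chi_zero] at h2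
  exact h2

end D

end Cfsg.Agent.Lib.Lead.MinIdx
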