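import Mathlib
import Cfsg.Agent.Lib.Lead.MinIdxW2d

set_option autoImplicit false

namespace Cfsg.Agent.Lib.Lead.MinIdx

open Matrix Cfsg.Agent.H9SLRoot

theorem geom_facts (q d : ℕ) (hq : 2 ≤ q) :
    (q ^ (d + 1) - 1) / (q - 1) = q ^ d + (q ^ d - 1) / (q - 1) ∧
      (q ^ d - 1) / (q - 1) * (q - 1) = q ^ d - 1 := by
  have h1 := Nat.geomSum_eq hq (d + 1)
  have h2 := Nat.geomSum_eq hq d
  rw [Finset.sum_range_succ] at h1
  constructor
  · rw [← h1, ← h2, add_comm]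
  · exact Nat.div_mul_cancel (Nat.sub_one_dvd_pow_sub_one q d)

section E
variable {F : Type*} [Field F] [Fintype F] [DecidableEq F] {d : ℕ}

attribute [local instance] actR

variable (M : Subgroup (Matrix.SpecialLinearGroup (Fin (d + 1)) F))

theorem card_erase_zero :
    ((Finset.univ : Finset (Fin d → F)).erase 0).card = Fintype.card F ^ d - 1 := by
  rw [Finset.card_erase_of_mem (Finset.mem_univ _), Finset.card_univ, Fintype.card_fun,
    Fintype.card_fin]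

theorem pmult_eq_one (hd : 2 ≤ d) {ψ : Multiplicative F →* ℂˣ} (hψ : ψ ≠ 1)
    (hno : ∀ x : Fin (d + 1) → F, x ≠ 0 → ¬ Qgrp x ≤ M)
    (hlt : M.index < (Fintype.card F ^ (d + 1) - 1) / (Fintype.card F - 1))
    {w : Fin d → F} (hw : w ≠ 0) :
    pmult (Matrix.SpecialLinearGroup (Fin (d + 1)) F ⧸ M) (chi ψ w) = 1 := by
  set b := pmult (Matrix.SpecialLinearGroup (Fin (d + 1)) F ⧸ M) (chi ψ w) with hb
  have hconst : ∀ w' : Fin d → F, w' ≠ 0 →
      pmult (Matrix.SpecialLinearGroup (Fin (d + 1)) F ⧸ M) (chi ψ w') = b :=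
    fun w' hw' => pmult_const M hd ψ hw hw'
  have hsum := sum_formula M hψ
  rw [Finset.sum_congr rfl (fun w' hw' => hconst w' (Finset.mem_erase.mp hw').1),
    Finset.sum_const, card_erase_zero, smul_eq_mul] at hsum
  have hq : 2 ≤ Fintype.card F := Fintype.one_lt_card
  obtain ⟨g1, g2⟩ := geom_facts (Fintype.card F) d hq
  rw [g1] at hlt
  -- `b ≠ 0`
  have hb0 : b ≠ 0 := by
    intro h0
    obtain ⟨w', hw', hmem⟩ := exists_ne_zero_mem_Dset M hψ hno (QuotientGroup.mk 1)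
    have := (pmult_eq_zero_iff (chi ψ w')).mp ((hconst w' hw').trans h0)
    rw [Set.eq_empty_iff_forall_notMem] at this
    exact this _ hmem
  -- `a ≠ 0`
  have ha0 : pmult (Matrix.SpecialLinearGroup (Fin (d + 1)) F ⧸ M)
      (1 : Multiplicative (Fin d → F) →* ℂˣ) ≠ 0 := by
    intro h0
    have := (pmult_eq_zero_iff _).mp h0
    rw [Set.eq_empty_iff_forall_notMem] at this
    exact this (QuotientGroup.mk 1) (fun r _ => rfl)
  by_contra hne
  have hb2 : 2 ≤ b := by omega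
  have hP : 1 ≤ Fintype.card F ^ d := Nat.one_le_pow _ _ (by omega)
  have hA : (Fintype.card F ^ d - 1) / (Fintype.card F - 1) ≤ Fintype.card F ^ d - 1 :=
    Nat.div_le_self _ _
  have hmul : (Fintype.card F ^ d - 1) * 2 ≤ (Fintype.card F ^ d - 1) * b :=
    Nat.mul_le_mul_left _ hb2
  omega

/-- invariance of `Dset ω` under the lower transvections fixing a nonzero element of it -/
theorem Dset_move (hd : 2 ≤ d) {ψ : Multiplicative F →* ℂˣ} (hψ : ψ ≠ 1)
    (hno : ∀ x : Fin (d + 1) → F, x ≠ 0 → ¬ Qgrp x ≤ M)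
    (hlt : M.index < (Fintype.card F ^ (d + 1) - 1) / (Fintype.card F - 1))
    {ω : Matrix.SpecialLinearGroup (Fin (d + 1)) F ⧸ M} {w₀ : Fin d → F} (hw₀ : w₀ ≠ 0)
    (hmem₀ : w₀ ∈ Dset M ψ ω) {y η : Fin d → F} (c : F) (h : η ⬝ᵥ y = 0) (hfix : η ⬝ᵥ w₀ = 0)
    {w' : Fin d → F} (hw' : w' ∈ Dset M ψ ω) : w' - (c * (η ⬝ᵥ w')) • y ∈ Dset M ψ ω := by
  have h1 : ω ∈ pset ((chi ψ w₀).comp (sigL y η c h).toMonoidHom) := by
    rw [chi_comp_sigL, hfix, mul_zero, zero_smul, sub_zero]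
    exact hmem₀
  have h2 := mem_pset_of_comp (sigL y η c h) (MulAction.toPerm (Lel y η c))
    (tau_compat M y η c h) (chi ψ w₀) h1
  obtain ⟨r, hr⟩ := exists_smul_eq_of_pmult_eq_one (pmult_eq_one M hd hψ hno hlt hw₀) hmem₀ h2
  intro r₁ hr₁
  rw [← chi_comp_sigL ψ w' y η c h, MonoidHom.comp_apply, MulEquiv.coe_toMonoidHom]
  apply hw'
  rw [← stabilizer_smul_comm r ω, hr, MulAction.mem_stabilizer_iff, ← tau_compat,
    (MulAction.mem_stabilizer_iff.mp hr₁)]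

/-- two independent vectors in `Dset ω` force `Dset ω` to be everything -/
theorem Dset_eq_univ_of_indep (hd : 2 ≤ d) {ψ : Multiplicative F →* ℂˣ} (hψ : ψ ≠ 1)
    (hno : ∀ x : Fin (d + 1) → F, x ≠ 0 → ¬ Qgrp x ≤ M)
    (hlt : M.index < (Fintype.card F ^ (d + 1) - 1) / (Fintype.card F - 1))
    {ω : Matrix.SpecialLinearGroup (Fin (d + 1)) F ⧸ M} {w w' : Fin d → F}
    (hw : w ∈ Dset M ψ ω) (hw' : w' ∈ Dset M ψ ω)
    (h1 : w ∉ Submodule.span F {w'}) (h2 : w' ∉ Submodule.span F {w}) (v : Fin d → F) :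
    v ∈ Dset M ψ ω := by
  have key : ∀ u u' : Fin d → F, u ∈ Dset M ψ ω → u' ∈ Dset M ψ ω →
      u ∉ Submodule.span F {u'} → u' ∉ Submodule.span F {u} → ∀ c : F, c • u ∈ Dset M ψ ω := by
    intro u u' hu hu' k1 k2 c
    have hu0 : u ≠ 0 := by
      rintro rfl
      exact k1 (Submodule.zero_mem _)
    obtain ⟨η, e1, e2⟩ := exists_dot_sep k2
    have := Dset_move M hd hψ hno hlt hu0 hu (-c) e2 e2 hu'
    rw [e1, mul_one, neg_smul, sub_neg_eq_add] at this
    have h3 := Dset_sub M this hu'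
    rwa [add_sub_cancel_left] at h3
  have hw0 : w ≠ 0 := by
    rintro rfl
    exact h1 (Submodule.zero_mem _)
  obtain ⟨η, e1, e2⟩ := exists_dot_sep h2
  have hy : η ⬝ᵥ (v - (η ⬝ᵥ v) • w') = 0 := by
    rw [dotProduct_sub, dotProduct_smul, e1, smul_eq_mul, mul_one, sub_self]
  have h3 := Dset_move M hd hψ hno hlt hw0 hw (-1) hy e2 hw'
  rw [e1, mul_one, neg_smul, one_smul, sub_neg_eq_add] at h3
  have h4 := Dset_sub M h3 hw'
  rw [add_sub_cancel_left] at h4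
  have h5 := Dset_add M h4 (key w' w hw' hw h2 h1 (η ⬝ᵥ v))
  rwa [sub_add_cancel] at h5

end E

end Cfsg.Agent.Lib.Lead.MinIdx
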