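import Mathlib
import Cfsg.Agent.Lib.Lead.MinIdxW2e

set_option autoImplicit false

namespace Cfsg.Agent.Lib.Lead.MinIdx

open Matrix Cfsg.Agent.H9SLRoot

section F1
variable {F : Type*} [Field F] [Fintype F] [DecidableEq F] {n : ℕ}

theorem exists_sl_mulVec_eq_of_indep {x y : Fin n → F} (h1 : x ∉ Submodule.span F {y})
    (h2 : y ∉ Submodule.span F {x}) :
    ∃ g : Matrix.SpecialLinearGroup (Fin n) F, (g : Matrix (Fin n) (Fin n) F) *ᵥ x = y := by
  obtain ⟨ρ, r1, r2⟩ := exists_dot_one_one h1 h2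
  have hinc : ρ ⬝ᵥ (y - x) = 0 := by rw [dotProduct_sub, r1, r2, sub_self]
  exact ⟨tv (y - x) ρ 1, by rw [tv_mulVec hinc, r1, mul_one, one_smul, add_sub_cancel]⟩

theorem exists_sl_mulVec_eq (hn : 2 ≤ n) {x y : Fin n → F} (hx : x ≠ 0) (hy : y ≠ 0) :
    ∃ g : Matrix.SpecialLinearGroup (Fin n) F, (g : Matrix (Fin n) (Fin n) F) *ᵥ x = y := by
  rcases span_dichotomy hx hy with ⟨lam, hlam, h⟩ | h
  · obtain ⟨u, hu1, hu2⟩ := exists_not_mem_span hn hx
    have hu3 : u ∉ Submodule.span F {y} := by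
      intro hmem
      apply hu1
      obtain ⟨c, rfl⟩ := Submodule.mem_span_singleton.mp hmem
      rw [h]
      exact Submodule.mem_span_singleton.mpr ⟨c * lam⁻¹, by
        rw [smul_smul, mul_assoc, inv_mul_cancel₀ hlam, mul_one]⟩
    have hu4 : y ∉ Submodule.span F {u} := by
      intro hmem
      apply hu2
      obtain ⟨c, hc⟩ := Submodule.mem_span_singleton.mp hmem
      rw [h, ← hc, smul_smul]
      exact Submodule.mem_span_singleton.mpr ⟨_, rfl⟩
    obtain ⟨g₁, hg₁⟩ := exists_sl_mulVec_eq_of_indep hu2 hu1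
    obtain ⟨g₂, hg₂⟩ := exists_sl_mulVec_eq_of_indep hu3 hu4
    exact ⟨g₂ * g₁, by rw [coe_mul_mulVec, hg₁, hg₂]⟩
  · exact exists_sl_mulVec_eq_of_indep h.1 h.2

theorem tv_zero_left (φ : Fin n → F) (c : F) : tv (0 : Fin n → F) φ c = 1 := by
  apply sl_ext; intro v
  rw [tv_mulVec (dotProduct_zero φ), coe_one_mulVec, smul_zero, add_zero]

end F1

section F2
variable {F : Type*} [Field F] [Fintype F] [DecidableEq F] {d : ℕ}

attribute [local instance] actR

variable (M : Subgroup (Matrix.SpecialLinearGroup (Fin (d + 1)) F))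

theorem case_a (hd : 2 ≤ d) {ψ : Multiplicative F →* ℂˣ} (hψ : ψ ≠ 1)
    (hno : ∀ x : Fin (d + 1) → F, x ≠ 0 → ¬ Qgrp x ≤ M)
    (hlt : M.index < (Fintype.card F ^ (d + 1) - 1) / (Fintype.card F - 1))
    (ω : Matrix.SpecialLinearGroup (Fin (d + 1)) F ⧸ M) (hall : ∀ v, v ∈ Dset M ψ ω) :
    M.index = Fintype.card F ^ d ∧ TransvFree M := by
  -- the stabilizer of `ω` is trivial
  have hstab : ∀ r ∈ MulAction.stabilizer (Multiplicative (Fin d → F)) ω, r = 1 := by
    intro r hr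
    by_contra hne
    have : r ∉ (⊥ : Subgroup (Multiplicative (Fin d → F))) := by
      rwa [Subgroup.mem_bot]
    obtain ⟨χ, -, h2⟩ := exists_char_sep _ this
    obtain ⟨w, rfl⟩ := (chi_bijective hψ).2 χ
    exact h2 (hall w r hr)
  -- transitivity
  have htrans : ∀ ω' : Matrix.SpecialLinearGroup (Fin (d + 1)) F ⧸ M,
      ∃ r : Multiplicative (Fin d → F), r • ω = ω' := by
    intro ω'
    obtain ⟨w, hw, hmem⟩ := exists_ne_zero_mem_Dset M hψ hno ω'
    exact exists_smul_eq_of_pmult_eq_one (pmult_eq_one M hd hψ hno hlt hw) (hall w) hmem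
  -- all stabilizers are trivial
  have hstab' : ∀ (ω' : Matrix.SpecialLinearGroup (Fin (d + 1)) F ⧸ M),
      ∀ r ∈ MulAction.stabilizer (Multiplicative (Fin d → F)) ω', r = 1 := by
    intro ω' r hr
    obtain ⟨s, rfl⟩ := htrans ω'
    rw [stabilizer_smul_comm] at hr
    exact hstab r hr
  constructor
  · have hbij : Function.Bijective (fun r : Multiplicative (Fin d → F) => r • ω) := by
      refine ⟨?_, htrans⟩
      intro r r' h
      replace h : r • ω = r' • ω := h
      have h1 : r'⁻¹ * r ∈ MulAction.stabilizer (Multiplicative (Fin d → F)) ω := by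
        rw [MulAction.mem_stabilizer_iff, mul_smul]
        change r'⁻¹ • (r • ω) = ω
        rw [h, inv_smul_smul]
      have := hstab _ h1
      rw [inv_mul_eq_one] at this
      exact this.symm
    rw [Subgroup.index, ← Nat.card_congr (Equiv.ofBijective _ hbij), Nat.card_eq_fintype_card,
      Fintype.card_multiplicative, Fintype.card_fun, Fintype.card_fin]
  · intro x φ c hφ hmem
    by_cases hx : x = 0
    · rw [hx]; exact tv_zero_left φ c
    · obtain ⟨g, hg⟩ := exists_sl_mulVec_eq (by omega : 2 ≤ d + 1) hx (e0_ne_zero (F := F) (d := d))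
      obtain ⟨-, h2⟩ := tv_eq_conj_aEl hg hφ c
      rw [h2, conj_mem_iff] at hmem
      have h3 := hstab' _ _ hmem
      have h4 : Matrix.vecTail (c • (φ ᵥ* ((g⁻¹ : Matrix.SpecialLinearGroup (Fin (d + 1)) F) :
          Matrix (Fin (d + 1)) (Fin (d + 1)) F))) = 0 := h3
      rw [h2, h4, aEl_zero, mul_one, inv_mul_cancel]

end F2

end Cfsg.Agent.Lib.Lead.MinIdx
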