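import Mathlib
import Cfsg.Agent.Lib.Lead.MinIdxW2f

set_option autoImplicit false

namespace Cfsg.Agent.Lib.Lead.MinIdx

open Matrix Cfsg.Agent.H9SLRoot

section G1
variable {F : Type*} [Field F] [Fintype F] [DecidableEq F] {d : ℕ}

theorem card_le_of_pairwise_dep (S : Finset (Fin d → F)) (h0 : ∀ w ∈ S, w ≠ 0)
    (hdep : ∀ w ∈ S, ∀ w' ∈ S, ∃ c : F, w' = c • w) :
    S.card ≤ Fintype.card F - 1 ∧
      (S.card = Fintype.card F - 1 → ∀ w ∈ S, ∀ c : F, c ≠ 0 → c • w ∈ S) := by
  have hT : ∀ w ∈ S, S ⊆ ((Finset.univ : Finset F).erase 0).image (fun c => c • w) := by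
    intro w hw w' hw'
    obtain ⟨c, rfl⟩ := hdep w hw w' hw'
    refine Finset.mem_image.mpr ⟨c, Finset.mem_erase.mpr ⟨?_, Finset.mem_univ _⟩, rfl⟩
    rintro rfl
    exact h0 _ hw' (zero_smul _ _)
  have hcT : ∀ w : Fin d → F, (((Finset.univ : Finset F).erase 0).image (fun c => c • w)).card ≤
      Fintype.card F - 1 := by
    intro w
    refine le_trans Finset.card_image_le ?_
    rw [Finset.card_erase_of_mem (Finset.mem_univ _), Finset.card_univ]
  constructor
  · rcases S.eq_empty_or_nonempty with rfl | ⟨w, hw⟩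
    · simp
    · exact le_trans (Finset.card_le_card (hT w hw)) (hcT w)
  · intro hcard w hw c hc
    have heq := Finset.eq_of_subset_of_card_le (hT w hw) (by rw [hcard]; exact hcT w)
    rw [heq]
    exact Finset.mem_image.mpr ⟨c, Finset.mem_erase.mpr ⟨hc, Finset.mem_univ _⟩, rfl⟩

end G1

section G2
variable {F : Type*} [Field F] [Fintype F] [DecidableEq F] {d : ℕ}

attribute [local instance] actR

variable (M : Subgroup (Matrix.SpecialLinearGroup (Fin (d + 1)) F))

theorem case_b_full (hd : 2 ≤ d) {ψ : Multiplicative F →* ℂˣ} (hψ : ψ ≠ 1)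
    (hno : ∀ x : Fin (d + 1) → F, x ≠ 0 → ¬ Qgrp x ≤ M)
    (hlt : M.index < (Fintype.card F ^ (d + 1) - 1) / (Fintype.card F - 1))
    (hnot : ∀ ω : Matrix.SpecialLinearGroup (Fin (d + 1)) F ⧸ M, ∃ v, v ∉ Dset M ψ ω)
    (ω : Matrix.SpecialLinearGroup (Fin (d + 1)) F ⧸ M) :
    ∃ w₀ : Fin d → F, w₀ ≠ 0 ∧ (∀ c : F, c • w₀ ∈ Dset M ψ ω) ∧
      ∀ w ∈ Dset M ψ ω, ∃ c : F, w = c • w₀ := by
  classical
  -- (i) any two nonzero elements of a `Dset` are proportional
  have hLL : ∀ (ω' : Matrix.SpecialLinearGroup (Fin (d + 1)) F ⧸ M) (w w' : Fin d → F),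
      w ∈ Dset M ψ ω' → w' ∈ Dset M ψ ω' → w ≠ 0 → w' ≠ 0 → ∃ c : F, w' = c • w := by
    intro ω' w w' hw hw' hw0 hw'0
    rcases span_dichotomy hw'0 hw0 with ⟨lam, -, h⟩ | h
    · exact ⟨lam, h⟩
    · exfalso
      obtain ⟨v, hv⟩ := hnot ω'
      exact hv (Dset_eq_univ_of_indep M hd hψ hno hlt hw' hw h.1 h.2 v)
  -- (ii) a point in each `pset`
  have hne : ∀ w : Fin d → F, ∃ pt : Matrix.SpecialLinearGroup (Fin (d + 1)) F ⧸ M,
      w ≠ 0 → pt ∈ pset (chi ψ w) := by
    intro w
    by_cases hw : w = 0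
    · exact ⟨QuotientGroup.mk 1, fun h => absurd hw h⟩
    · have h1 := pmult_eq_one M hd hψ hno hlt hw
      have h2 : pset (Ω := Matrix.SpecialLinearGroup (Fin (d + 1)) F ⧸ M) (chi ψ w) ≠ ∅ := by
        intro h
        rw [← pmult_eq_zero_iff, h1] at h
        exact one_ne_zero h
      obtain ⟨pt, hpt⟩ := Set.nonempty_iff_ne_empty.mpr h2
      exact ⟨pt, fun _ => hpt⟩
  choose pt hpt using hne
  -- (iii) the orbit map
  let f : (Fin d → F) → MulAction.orbitRel.Quotient (Multiplicative (Fin d → F))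
      (Matrix.SpecialLinearGroup (Fin (d + 1)) F ⧸ M) := fun w => Quotient.mk'' (pt w)
  have hf : ∀ (w : Fin d → F), w ≠ 0 →
      ∀ ω' : Matrix.SpecialLinearGroup (Fin (d + 1)) F ⧸ M,
      (w ∈ Dset M ψ ω' ↔ f w = Quotient.mk'' ω') := by
    intro w hw ω'
    constructor
    · intro hmem
      obtain ⟨r, hr⟩ := exists_smul_eq_of_pmult_eq_one (pmult_eq_one M hd hψ hno hlt hw) hmem
        (hpt w hw)
      exact Quotient.sound' ⟨r, hr⟩
    · intro h
      obtain ⟨r, hr⟩ := Quotient.exact' h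
      have hr' : ω' = r⁻¹ • pt w := by
        change r • ω' = pt w at hr
        rw [← hr, inv_smul_smul]
      rw [hr']
      exact smul_mem_pset (hpt w hw) r⁻¹
  -- (iv) counting
  letI : Fintype (MulAction.orbitRel.Quotient (Multiplicative (Fin d → F))
      (Matrix.SpecialLinearGroup (Fin (d + 1)) F ⧸ M)) := Fintype.ofFinite _
  have hq : 2 ≤ Fintype.card F := Fintype.one_lt_card
  obtain ⟨g1, g2⟩ := geom_facts (Fintype.card F) d hq
  have hsum := sum_formula M hψ
  rw [Finset.sum_congr rfl (fun w' hw' =>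
      pmult_eq_one M hd hψ hno hlt (Finset.mem_erase.mp hw').1),
    Finset.sum_const, card_erase_zero, smul_eq_mul, mul_one, pmult_one,
    Nat.card_eq_fintype_card] at hsum
  rw [g1] at hlt
  have hfib : ∀ o : MulAction.orbitRel.Quotient (Multiplicative (Fin d → F))
      (Matrix.SpecialLinearGroup (Fin (d + 1)) F ⧸ M),
      (((Finset.univ : Finset (Fin d → F)).erase 0).filter (fun w => f w = o)).card ≤
        Fintype.card F - 1 ∧
      ((((Finset.univ : Finset (Fin d → F)).erase 0).filter (fun w => f w = o)).card =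
        Fintype.card F - 1 → ∀ w ∈ ((Finset.univ : Finset (Fin d → F)).erase 0).filter
          (fun w => f w = o), ∀ c : F, c ≠ 0 → c • w ∈
            ((Finset.univ : Finset (Fin d → F)).erase 0).filter (fun w => f w = o)) := by
    intro o
    obtain ⟨ω', rfl⟩ := Quotient.exists_rep o
    apply card_le_of_pairwise_dep
    · intro w hw
      exact (Finset.mem_erase.mp (Finset.mem_filter.mp hw).1).1
    · intro w hw w' hw'
      have hw0 := (Finset.mem_erase.mp (Finset.mem_filter.mp hw).1).1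
      have hw'0 := (Finset.mem_erase.mp (Finset.mem_filter.mp hw').1).1
      exact hLL ω' w w' ((hf w hw0 ω').mpr (Finset.mem_filter.mp hw).2)
        ((hf w' hw'0 ω').mpr (Finset.mem_filter.mp hw').2) hw0 hw'0
  have hcount := Finset.card_eq_sum_card_fiberwise (s := (Finset.univ : Finset (Fin d → F)).erase 0)
    (t := Finset.univ) (f := f) (fun _ _ => Finset.mem_univ _)
  rw [card_erase_zero] at hcount
  have hall : ∀ o : MulAction.orbitRel.Quotient (Multiplicative (Fin d → F))
      (Matrix.SpecialLinearGroup (Fin (d + 1)) F ⧸ M),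
      (((Finset.univ : Finset (Fin d → F)).erase 0).filter (fun w => f w = o)).card =
        Fintype.card F - 1 := by
    by_contra hcon
    push Not at hcon
    obtain ⟨o₀, ho₀⟩ := hcon
    have hlt' : ∑ o : MulAction.orbitRel.Quotient (Multiplicative (Fin d → F))
        (Matrix.SpecialLinearGroup (Fin (d + 1)) F ⧸ M),
        (((Finset.univ : Finset (Fin d → F)).erase 0).filter (fun w => f w = o)).card <
        ∑ _o : MulAction.orbitRel.Quotient (Multiplicative (Fin d → F))
        (Matrix.SpecialLinearGroup (Fin (d + 1)) F ⧸ M), (Fintype.card F - 1) := by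
      apply Finset.sum_lt_sum
      · intro o _
        exact (hfib o).1
      · exact ⟨o₀, Finset.mem_univ _, lt_of_le_of_ne (hfib o₀).1 ho₀⟩
    rw [Finset.sum_const, Finset.card_univ, smul_eq_mul, ← hcount] at hlt'
    have ha : Fintype.card (MulAction.orbitRel.Quotient (Multiplicative (Fin d → F))
        (Matrix.SpecialLinearGroup (Fin (d + 1)) F ⧸ M)) ≤
        (Fintype.card F ^ d - 1) / (Fintype.card F - 1) := by omega
    have := Nat.mul_le_mul_right (Fintype.card F - 1) ha
    rw [g2] at this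
    omega
  -- (v) conclusion for `ω`
  have hcard := hall (Quotient.mk'' ω)
  have hpos : 0 < (((Finset.univ : Finset (Fin d → F)).erase 0).filter
      (fun w => f w = Quotient.mk'' ω)).card := by rw [hcard]; omega
  obtain ⟨w₀, hw₀⟩ := Finset.card_pos.mp hpos
  have hw₀0 := (Finset.mem_erase.mp (Finset.mem_filter.mp hw₀).1).1
  have hw₀D : w₀ ∈ Dset M ψ ω := (hf w₀ hw₀0 ω).mpr (Finset.mem_filter.mp hw₀).2
  refine ⟨w₀, hw₀0, ?_, ?_⟩
  · intro c
    by_cases hc : c = 0
    · rw [hc, zero_smul]; exact Dset_zero M ψ ω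
    · have := (hfib _).2 hcard w₀ hw₀ c hc
      have hc0 := (Finset.mem_erase.mp (Finset.mem_filter.mp this).1).1
      exact (hf _ hc0 ω).mpr (Finset.mem_filter.mp this).2
  · intro w hw
    by_cases hw0 : w = 0
    · exact ⟨0, by rw [hw0, zero_smul]⟩
    · exact hLL ω w₀ w hw₀D hw hw₀0 hw0

end G2

end Cfsg.Agent.Lib.Lead.MinIdx
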