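import Mathlib
import Cfsg.Agent.Lib.Lead.MinIdxW2g

set_option autoImplicit false

namespace Cfsg.Agent.Lib.Lead.MinIdx

open Matrix Cfsg.Agent.H9SLRoot

section H1
variable {F : Type*} [Field F] [Fintype F] [DecidableEq F] {d : ℕ}

attribute [local instance] actR

/-- the dichotomy in `SL_{d+1}(F)`, modulo the impossibility of a "line spread" -/
theorem dichotomy_succ (hd : 2 ≤ d) (M : Subgroup (Matrix.SpecialLinearGroup (Fin (d + 1)) F))
    (hlt : M.index < (Fintype.card F ^ (d + 1) - 1) / (Fintype.card F - 1))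
    (hno : ∀ x : Fin (d + 1) → F, x ≠ 0 → ¬ Qgrp x ≤ M)
    (hns : (∀ x : Fin (d + 1) → F, x ≠ 0 → ∃ z : Fin (d + 1) → F, z ∉ Submodule.span F {x} ∧
      ∀ φ : Fin (d + 1) → F, φ ⬝ᵥ x = 0 → (tv x φ 1 ∈ M ↔ φ ⬝ᵥ z = 0)) → False) :
    M.index = Fintype.card F ^ d ∧ TransvFree M := by
  obtain ⟨ψ, hψ⟩ := exists_psi (F := F)
  by_cases hcase : ∃ ω : Matrix.SpecialLinearGroup (Fin (d + 1)) F ⧸ M, ∀ v, v ∈ Dset M ψ ω
  · obtain ⟨ω, hω⟩ := hcase
    exact case_a M hd hψ hno hlt ω hω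
  · push Not at hcase
    exfalso
    apply hns
    intro x hx
    obtain ⟨g, hg⟩ := exists_sl_mulVec_eq (by omega : 2 ≤ d + 1) hx (e0_ne_zero (F := F) (d := d))
    obtain ⟨w₀, hw₀, hfull, hLL⟩ := case_b_full M hd hψ hno hlt hcase (QuotientGroup.mk g)
    refine ⟨((g⁻¹ : Matrix.SpecialLinearGroup (Fin (d + 1)) F) :
      Matrix (Fin (d + 1)) (Fin (d + 1)) F) *ᵥ ext0 w₀, ?_, ?_⟩
    · intro hmem
      obtain ⟨c, hc⟩ := Submodule.mem_span_singleton.mp hmem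
      apply ext0_not_mem_span hw₀
      have : ext0 w₀ = c • (e0 : Fin (d + 1) → F) := by
        rw [← hg, ← Matrix.mulVec_smul, hc, mulVec_inv_mulVec]
      rw [this]
      exact Submodule.mem_span_singleton.mpr ⟨c, rfl⟩
    · intro φ hφ
      obtain ⟨h1, h2⟩ := tv_eq_conj_aEl hg hφ 1
      rw [one_smul] at h1 h2
      have hz : φ ⬝ᵥ (((g⁻¹ : Matrix.SpecialLinearGroup (Fin (d + 1)) F) :
          Matrix (Fin (d + 1)) (Fin (d + 1)) F) *ᵥ ext0 w₀) =
          Matrix.vecTail (φ ᵥ* ((g⁻¹ : Matrix.SpecialLinearGroup (Fin (d + 1)) F) :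
            Matrix (Fin (d + 1)) (Fin (d + 1)) F)) ⬝ᵥ w₀ := by
        rw [Matrix.dotProduct_mulVec]
        conv_rhs => rw [← ext0_dot, h1]
      rw [h2, conj_mem_iff, hz]
      constructor
      · intro hr
        have := dot_eq_zero_of_chi hψ (φ := Multiplicative.ofAdd (Matrix.vecTail
          (φ ᵥ* ((g⁻¹ : Matrix.SpecialLinearGroup (Fin (d + 1)) F) :
            Matrix (Fin (d + 1)) (Fin (d + 1)) F)))) (w := w₀) (fun c => hfull c _ hr)
        exact this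
      · intro h0
        apply mem_stabilizer_of_Dset M hψ
        intro w hw
        obtain ⟨c, rfl⟩ := hLL w hw
        rw [chi_apply, toAdd_ofAdd, dotProduct_smul, h0, smul_zero, ofAdd_zero, map_one]

/-- the dichotomy (W2), modulo the impossibility of a "line spread" (W2c) -/
theorem dichotomy_of_no_spread {n : ℕ} (hn : 3 ≤ n)
    (M : Subgroup (Matrix.SpecialLinearGroup (Fin n) F))
    (hlt : M.index < (Fintype.card F ^ n - 1) / (Fintype.card F - 1))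
    (hno : ∀ x : Fin n → F, x ≠ 0 → ¬ Qgrp x ≤ M)
    (hns : (∀ x : Fin n → F, x ≠ 0 → ∃ z : Fin n → F, z ∉ Submodule.span F {x} ∧
      ∀ φ : Fin n → F, φ ⬝ᵥ x = 0 → (tv x φ 1 ∈ M ↔ φ ⬝ᵥ z = 0)) → False) :
    M.index = Fintype.card F ^ (n - 1) ∧ TransvFree M := by
  obtain ⟨d, rfl⟩ : ∃ d, n = d + 1 := ⟨n - 1, by omega⟩
  exact dichotomy_succ (by omega) M hlt hno hns

end H1

end Cfsg.Agent.Lib.Lead.MinIdx
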