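import Mathlib
import Cfsg.Agent.Lib.Lead.MinIdxW2h
import Cfsg.Agent.Lib.Helper1.MinIdxW2c

/-!
# S2140 project, package W2: the dichotomy

A subgroup `M` of `SL_n(F)` (`n ≥ 3`) of index less than `(q^n - 1)/(q - 1)` which contains no full
group of transvections with a given centre has index `q^(n-1)` and contains no transvection at all.
-/

set_option autoImplicit false

namespace Cfsg.Agent.Lib.Lead.MinIdx

open Matrix Cfsg.Agent.H9SLRoot

variable {F : Type*} [Field F] [Fintype F] [DecidableEq F] {n : ℕ}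

theorem dichotomy (hn : 3 ≤ n) (M : Subgroup (Matrix.SpecialLinearGroup (Fin n) F))
    (hlt : M.index < (Fintype.card F ^ n - 1) / (Fintype.card F - 1))
    (hno : ∀ x : Fin n → F, x ≠ 0 → ¬ Qgrp x ≤ M) :
    M.index = Fintype.card F ^ (n - 1) ∧ TransvFree M :=
  dichotomy_of_no_spread hn M hlt hno (no_spread hn M)

end Cfsg.Agent.Lib.Lead.MinIdx
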