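import Mathlib
import Cfsg.Agent.Lib.Helper2.MinIdxW1c
import Cfsg.Agent.Lib.Lead.MinIdxW2
import Cfsg.Agent.Lib.Helper1.MinIdxW3
import Cfsg.Agent.Lib.Helper4.MinIdxW4

/-!
# S2140 project: every proper subgroup of `SL_n(q)`, `n ≥ 3`, `(n, q) ≠ (4, 2)`, has index at least
`(q^n - 1)/(q - 1)`
-/

set_option autoImplicit false

namespace Cfsg.Agent.Lib.Lead.MinIdx

open Matrix Cfsg.Agent.H9SLRoot

variable {F : Type*} [Field F] [Fintype F] [DecidableEq F] {n : ℕ}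

theorem index_ge (hn : 3 ≤ n) (hexc : ¬ (n = 4 ∧ Fintype.card F = 2))
    (M : Subgroup (Matrix.SpecialLinearGroup (Fin n) F)) (hM : M ≠ ⊤) :
    (Fintype.card F ^ n - 1) / (Fintype.card F - 1) ≤ M.index := by
  by_contra hlt
  push Not at hlt
  by_cases hQ : ∃ x : Fin n → F, x ≠ 0 ∧ Qgrp x ≤ M
  · obtain ⟨x, hx, hQ⟩ := hQ
    exact absurd (index_ge_of_Qgrp_le (by omega) M hM x hx hQ) (by omega)
  · push Not at hQ
    obtain ⟨hidx, hTF⟩ := dichotomy hn M hlt hQ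
    rcases Nat.lt_or_ge n 5 with h5 | h5
    · rcases Nat.lt_or_ge n 4 with h4 | h4
      · obtain rfl : n = 3 := by omega
        exact no_transvFree_three M hidx hTF
      · obtain rfl : n = 4 := by omega
        exact Cfsg.Agent.Lib.Helper4.MinIdxW4.no_transvFree_four (fun h => hexc ⟨rfl, h⟩) M hidx hTF
    · exact Cfsg.Agent.Lib.Helper4.MinIdxW4.no_transvFree_ge_five h5 M hidx hTF

end Cfsg.Agent.Lib.Lead.MinIdx
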