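import Mathlib
import Cfsg.Agent.Lib.Helper2.MinIdxW1c

/-!
# S2140 project, package W5: from `SL_n` to `PSL_n`, and the subgroup of index `(q^n-1)/(q-1)`
-/

set_option autoImplicit false

namespace Cfsg.Agent.Lib.Lead.MinIdx

open Matrix Cfsg.Agent.H9SLRoot Cfsg.Agent.Lib.Helper2.MinIdx
open scoped LinearAlgebra.Projectivization

section W5
variable {F : Type*} [Field F] [Fintype F] {n : ℕ}

/-- an element mapping `x0` to a multiple of itself stabilizes the line through `x0` -/
theorem mem_stabSub_span_of_smul {x0 : Fin n → F} {h : Matrix.SpecialLinearGroup (Fin n) F} {c : F}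
    (hc : c ≠ 0) (hh : (h : Matrix (Fin n) (Fin n) F) *ᵥ x0 = c • x0) :
    h ∈ stabSub (Submodule.span F {x0}) := by
  have hinv : ((h⁻¹ : Matrix.SpecialLinearGroup (Fin n) F) : Matrix (Fin n) (Fin n) F) *ᵥ x0 =
      c⁻¹ • x0 := by
    have h1 : ((h⁻¹ : Matrix.SpecialLinearGroup (Fin n) F) : Matrix (Fin n) (Fin n) F) *ᵥ
        ((h : Matrix (Fin n) (Fin n) F) *ᵥ x0) = x0 := inv_mulVec_mulVec h x0
    rw [hh, Matrix.mulVec_smul] at h1
    have h2 := congrArg (fun w => c⁻¹ • w) h1
    simp only [smul_smul, inv_mul_cancel₀ hc, one_smul] at h2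
    exact h2
  intro v
  constructor
  · intro hv
    obtain ⟨t, ht⟩ := Submodule.mem_span_singleton.mp hv
    have h1 : ((h⁻¹ : Matrix.SpecialLinearGroup (Fin n) F) : Matrix (Fin n) (Fin n) F) *ᵥ
        ((h : Matrix (Fin n) (Fin n) F) *ᵥ v) = v := inv_mulVec_mulVec h v
    rw [← ht, Matrix.mulVec_smul, hinv] at h1
    rw [← h1, smul_smul]
    exact Submodule.mem_span_singleton.mpr ⟨_, rfl⟩
  · intro hv
    obtain ⟨t, rfl⟩ := Submodule.mem_span_singleton.mp hv
    rw [Matrix.mulVec_smul, hh, smul_smul]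
    exact Submodule.mem_span_singleton.mpr ⟨_, rfl⟩

/-- the stabilizer of a point has index at most the number of points -/
theorem index_stabSub_span_le [DecidableEq F] {x0 : Fin n → F} (hx0 : x0 ≠ 0) :
    (stabSub (Submodule.span F {x0})).index ≤ (Fintype.card F ^ n - 1) / (Fintype.card F - 1) := by
  classical
  rw [← card_proj, Subgroup.index]
  have hne : ∀ g : Matrix.SpecialLinearGroup (Fin n) F,
      (g : Matrix (Fin n) (Fin n) F) *ᵥ x0 ≠ 0 := by
    intro g h
    have h1 : ((g⁻¹ : Matrix.SpecialLinearGroup (Fin n) F) : Matrix (Fin n) (Fin n) F) *ᵥ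
        ((g : Matrix (Fin n) (Fin n) F) *ᵥ x0) = x0 := inv_mulVec_mulVec g x0
    rw [h, Matrix.mulVec_zero] at h1
    exact hx0 h1.symm
  let ψ : Matrix.SpecialLinearGroup (Fin n) F → ℙ F (Fin n → F) := fun g =>
    Projectivization.mk F ((g : Matrix (Fin n) (Fin n) F) *ᵥ x0) (hne g)
  have hψ : ∀ g g' : Matrix.SpecialLinearGroup (Fin n) F, ψ g = ψ g' →
      g⁻¹ * g' ∈ stabSub (Submodule.span F {x0}) := by
    intro g g' h
    obtain ⟨a, ha⟩ := (Projectivization.mk_eq_mk_iff F _ _ (hne g) (hne g')).mp h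
    apply mem_stabSub_span_of_smul (c := ((a⁻¹ : Fˣ) : F)) (Units.ne_zero _)
    rw [coe_mul_mulVec]
    have h2 : (g' : Matrix (Fin n) (Fin n) F) *ᵥ x0 =
        ((a⁻¹ : Fˣ) : F) • ((g : Matrix (Fin n) (Fin n) F) *ᵥ x0) := by
      rw [← ha, Units.smul_def, smul_smul, Units.inv_mul, one_smul]
    rw [h2, Matrix.mulVec_smul, inv_mulVec_mulVec]
  apply Nat.card_le_card_of_injective (fun q : Matrix.SpecialLinearGroup (Fin n) F ⧸
    stabSub (Submodule.span F {x0}) => ψ (Quotient.out q))
  intro q q' h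
  have := hψ _ _ h
  rw [← QuotientGroup.eq, QuotientGroup.out_eq', QuotientGroup.out_eq'] at this
  exact this

theorem center_le_stabSub [DecidableEq F] (hn : 2 ≤ n) (D : Submodule F (Fin n → F)) :
    Subgroup.center (Matrix.SpecialLinearGroup (Fin n) F) ≤ stabSub D := by
  intro z hz
  rw [Matrix.SpecialLinearGroup.mem_center_iff] at hz
  obtain ⟨r, hr, hrz⟩ := hz
  have hr0 : r ≠ 0 := by
    rintro rfl
    rw [Fintype.card_fin, zero_pow (by omega)] at hr
    exact zero_ne_one hr
  intro v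
  have hv : (z : Matrix (Fin n) (Fin n) F) *ᵥ v = r • v := by
    rw [← hrz]
    funext j
    simp [Matrix.scalar_apply, Matrix.mulVec_diagonal]
  rw [hv]
  constructor
  · intro h
    have := D.smul_mem r⁻¹ h
    rwa [smul_smul, inv_mul_cancel₀ hr0, one_smul] at this
  · exact D.smul_mem r

/-- transfer from `SL_n` to `PSL_n` -/
theorem psl_of_sl [DecidableEq F] (hn : 2 ≤ n)
    (hSL : ∀ M : Subgroup (Matrix.SpecialLinearGroup (Fin n) F), M ≠ ⊤ →
      (Fintype.card F ^ n - 1) / (Fintype.card F - 1) ≤ M.index) :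
    (∀ H : Subgroup (Matrix.ProjectiveSpecialLinearGroup (Fin n) F), H ≠ ⊤ →
      (Fintype.card F ^ n - 1) / (Fintype.card F - 1) ≤ H.index) ∧
    ∃ H : Subgroup (Matrix.ProjectiveSpecialLinearGroup (Fin n) F),
      H.index = (Fintype.card F ^ n - 1) / (Fintype.card F - 1) := by
  have hsurj : Function.Surjective (QuotientGroup.mk' (Subgroup.center
      (Matrix.SpecialLinearGroup (Fin n) F))) := QuotientGroup.mk'_surjective _
  constructor
  · intro H hH
    have hidx := Subgroup.index_comap_of_surjective H hsurj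
    rw [← hidx]
    apply hSL
    intro htop
    apply hH
    have := Subgroup.map_comap_eq_self_of_surjective hsurj H
    rw [htop, Subgroup.map_top_of_surjective _ hsurj] at this
    exact this.symm
  · obtain ⟨i⟩ : Nonempty (Fin n) := ⟨⟨0, by omega⟩⟩
    have hx0 : (Pi.single i 1 : Fin n → F) ≠ 0 := by
      intro h
      have := congrFun h i
      simp at this
    refine ⟨(stabSub (Submodule.span F {(Pi.single i 1 : Fin n → F)})).map
      (QuotientGroup.mk' (Subgroup.center (Matrix.SpecialLinearGroup (Fin n) F))), ?_⟩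
    rw [Subgroup.index_map_eq _ hsurj (by rw [QuotientGroup.ker_mk']; exact center_le_stabSub hn _)]
    apply le_antisymm (index_stabSub_span_le hx0)
    apply index_stabSub_of_finrank_one hn
    exact finrank_span_singleton hx0

end W5

end Cfsg.Agent.Lib.Lead.MinIdx
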