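import Cfsg.Agent.Lib.Lead.MixP1c

/-!
# S4017: the induction skeleton
-/

namespace Cfsg.Agent.Lib.Lead.Mix

universe u

/-- The induction: from the packages to the theorem. -/
theorem concl_of_packages
    (hP1 : ∀ (G : Type u) [Group G] [Finite G] (p q : ℕ), MinCex G p q → MinCexB G p q)
    (hCfg : ∀ (G : Type u) [Group G] [Finite G] (p a : ℕ) (Q : Subgroup G) (w : G),
      Cfg G p a Q w → False)
    {G : Type u} [Group G] [Finite G] {p q : ℕ} (h : Hyp G p q) : Concl G p q := by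
  suffices H : ∀ n : ℕ, ∀ (G : Type u) [Group G] [Finite G], Nat.card G = n →
      Hyp G p q → Concl G p q from H _ G rfl h
  intro n
  induction n using Nat.strong_induction_on with
  | _ n IH =>
    intro G _ _ hn hG
    by_contra hc
    have hmin : MinCex G p q :=
      { toHyp := hG
        notc := hc
        ih := fun H _ _ hlt hH => IH (Nat.card H) (hn ▸ hlt) H rfl hH }
    exact (hP1 G p q hmin).false (fun a Q w hcfg => hCfg G p a Q w hcfg)

/-- The case division for `Cfg`. -/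
theorem cfg_false_of_packages {G : Type u} [Group G] [Finite G] {p a : ℕ} {Q : Subgroup G}
    {w : G} (h : Cfg G p a Q w)
    (hP2 : Cfg G p a Q w → CfgB G p a Q w)
    (hP3 : CfgB G p a Q w → Pone p Q ≠ ⊥ → False)
    (hP4 : CfgB G p a Q w → Pone p Q = ⊥ → ∀ t : G, t ∈ Q → t ≠ 1 → Kt p t = ⊥ → False)
    (hP5 : CfgB G p a Q w → Pone p Q = ⊥ → (∀ t ∈ Q, t ≠ 1 → Kt p t ≠ ⊥) →
      a = 2 ∧ ∀ t ∈ Q, t ≠ 1 → (Nat.card (Kt p t) = p ^ (Nat.card G).factorization p ∧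
        Subgroup.normalizer (Kt p t : Set G) = Subgroup.centralizer {t} ∧
        ∀ t' ∈ Q, t' ≠ 1 → t' ≠ t → ∀ x ∈ Kt p t, t' * x * t'⁻¹ = x⁻¹))
    (hP6 : CfgB G p a Q w → a = 2 → Pone p Q = ⊥ →
      (∀ t ∈ Q, t ≠ 1 → (Nat.card (Kt p t) = p ^ (Nat.card G).factorization p ∧
        Subgroup.normalizer (Kt p t : Set G) = Subgroup.centralizer {t} ∧
        ∀ t' ∈ Q, t' ≠ 1 → t' ≠ t → ∀ x ∈ Kt p t, t' * x * t'⁻¹ = x⁻¹)) → False) :
    False := by
  have hB := hP2 h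
  by_cases h1 : Pone p Q = ⊥
  · by_cases hK : ∃ t ∈ Q, t ≠ 1 ∧ Kt p t = ⊥
    · obtain ⟨t, ht, ht1, hKt⟩ := hK
      exact hP4 hB h1 t ht ht1 hKt
    · push Not at hK
      obtain ⟨ha, hS⟩ := hP5 hB h1 hK
      exact hP6 hB ha h1 hS
  · exact hP3 hB h1

end Cfsg.Agent.Lib.Lead.Mix
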