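import Cfsg.Agent.Lib.Lead.MixCfg
import Cfsg.Agent.S0071

/-!
# S4017, package P1c: from a minimal counterexample to `Cfg` (note §0.4)
-/

namespace Cfsg.Agent.Lib.Lead.Mix

universe u

variable {G : Type u} [Group G] [Finite G] {p q : ℕ}

/-- a third prime -/
theorem MinCex.exists_third (h : MinCex G p q) :
    ∃ r : ℕ, r.Prime ∧ r ∣ Nat.card G ∧ r ≠ p ∧ r ≠ q := by
  have := h.notc
  unfold Concl at this
  push Not at this
  obtain ⟨r, hr, hrG, h1, h2⟩ := this
  exact ⟨r, hr, hrG, h1, h2⟩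

/-- If the Frobenius criterion holds for `q`, contradiction. -/
theorem MinCexB.false_of_complement (h : MinCexB G p q) [Fact q.Prime] (P : Sylow q G)
    (N : Subgroup G) (hN : N.Normal) (hc : N.IsComplement' (P : Subgroup G)) : False := by
  obtain ⟨r, hr, hrG, hrp, hrq⟩ := h.toMinCex.exists_third
  haveI : Fact r.Prime := ⟨hr⟩
  have hcard : Nat.card N * Nat.card (P : Subgroup G) = Nat.card G := hc.card_mul_card
  -- `q ∤ |N|`
  have hqN : ¬ q ∣ Nat.card N := by
    intro hq
    have hP : Nat.card (P : Subgroup G) = q ^ (Nat.card G).factorization q :=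
      P.card_eq_multiplicity
    have hGpos : Nat.card G ≠ 0 := Nat.card_pos.ne'
    have : q ^ ((Nat.card G).factorization q + 1) ∣ Nat.card G := by
      obtain ⟨c, hc'⟩ := hq
      refine ⟨c, ?_⟩
      generalize (Nat.card G).factorization q = a at hP ⊢
      rw [← hcard, hP, hc', pow_succ]; ring
    have hq' := (Fact.out : q.Prime)
    have := (hq'.pow_dvd_iff_le_factorization hGpos).mp this
    omega
  -- `r ∣ |N|`
  have hrN : r ∣ Nat.card N := by
    have : r ∣ Nat.card N * Nat.card (P : Subgroup G) := hcard ▸ hrG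
    rcases (Nat.Prime.dvd_mul hr).mp this with h1 | h1
    · exact h1
    · exfalso
      obtain ⟨k, hk⟩ := (IsPGroup.iff_card.mp P.isPGroup')
      rw [hk] at h1
      exact hrq ((Nat.prime_dvd_prime_iff_eq hr Fact.out).mp (hr.dvd_of_dvd_pow h1))
  haveI := hN
  let R0 : Sylow r N := default
  set R : Subgroup G := (R0 : Subgroup N).map N.subtype with hR
  have hRp : IsPGroup r R := R0.isPGroup'.map _
  have hRne : R ≠ ⊥ := by
    intro hbot
    have h1 : Nat.card R = Nat.card (R0 : Subgroup N) :=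
      Nat.card_congr ((R0 : Subgroup N).equivMapOfInjective N.subtype N.subtype_injective).symm.toEquiv
    rw [hbot, Subgroup.card_bot] at h1
    have h2 : r ∣ Nat.card (R0 : Subgroup N) := R0.dvd_card_of_dvd_card hrN
    rw [← h1] at h2
    exact hr.one_lt.ne' (Nat.dvd_one.mp h2)
  have hfr : Subgroup.normalizer (R : Set G) ⊔ N = ⊤ := Sylow.normalizer_sup_eq_top R0
  -- `q ∣ |N_G(R)|`
  have hdvd : q ∣ Nat.card (Subgroup.normalizer (R : Set G)) := by
    have hsurj : Function.Surjective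
        ((QuotientGroup.mk' N).comp (Subgroup.normalizer (R : Set G)).subtype) := by
      intro x
      obtain ⟨g, rfl⟩ := QuotientGroup.mk'_surjective N x
      have hg : g ∈ (↑(Subgroup.normalizer (R : Set G) ⊔ N) : Set G) := by
        rw [hfr]; trivial
      rw [Subgroup.mul_normal] at hg
      obtain ⟨a, ha, b, hb, rfl⟩ := hg
      refine ⟨⟨a, ha⟩, ?_⟩
      simp only [MonoidHom.coe_comp, Function.comp_apply, Subgroup.subtype_apply,
        QuotientGroup.mk'_apply, QuotientGroup.mk_mul]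
      have : (QuotientGroup.mk b : G ⧸ N) = 1 := (QuotientGroup.eq_one_iff b).mpr hb
      rw [this, mul_one]
    have h1 := Subgroup.card_dvd_of_surjective _ hsurj
    have h2 : Nat.card (G ⧸ N) = Nat.card (P : Subgroup G) := by
      have := Subgroup.card_eq_card_quotient_mul_card_subgroup N
      rw [← hcard, mul_comm] at this
      have hNpos : 0 < Nat.card N := Nat.card_pos
      exact (Nat.eq_of_mul_eq_mul_right hNpos this).symm
    have h3 : q ∣ Nat.card (P : Subgroup G) := P.dvd_card_of_dvd_card h.hqG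
    rw [h2] at h1
    exact h3.trans h1
  exact h.rloc r R hr hrp hrq hRp hRne hdvd

section orbit

variable {G : Type u} [Group G]

/-- conjugation by an element of the normalizer, as a permutation of the subgroup -/
def conjPerm (Q0 : Subgroup G) (g : G) (hg : g ∈ Subgroup.normalizer (Q0 : Set G)) :
    Equiv.Perm Q0 where
  toFun x := ⟨g * x * g⁻¹, (Subgroup.mem_normalizer_iff.mp hg x).mp x.2⟩
  invFun x := ⟨g⁻¹ * x * g, by
    have := (Subgroup.mem_normalizer_iff.mp (inv_mem hg) x).mp x.2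
    simpa using this⟩
  left_inv x := by ext; simp [mul_assoc]
  right_inv x := by ext; simp [mul_assoc]

theorem conjPerm_pow_apply (Q0 : Subgroup G) (g : G) (hg : g ∈ Subgroup.normalizer (Q0 : Set G))
    (i : ℕ) (x : Q0) : (((conjPerm Q0 g hg) ^ i) x : G) = g ^ i * x * (g ^ i)⁻¹ := by
  induction i generalizing x with
  | zero => simp
  | succ n ih =>
    rw [pow_succ, Equiv.Perm.mul_apply, ih]
    simp only [conjPerm, Equiv.coe_fn_mk]
    rw [pow_succ]; group

theorem conjPerm_pow_orderOf (Q0 : Subgroup G) (g : G)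
    (hg : g ∈ Subgroup.normalizer (Q0 : Set G)) :
    (conjPerm Q0 g hg) ^ orderOf g = 1 := by
  ext x
  rw [conjPerm_pow_apply, pow_orderOf_eq_one]
  simp

variable [Finite G]

/-- orbit counting: `|Q0| ≡ |C_{Q0}(g)|` modulo `p` for a `p`-element `g` normalizing `Q0` -/
theorem card_modEq_card_centralizer {p : ℕ} [Fact p.Prime] (Q0 : Subgroup G) (g : G)
    (hg : g ∈ Subgroup.normalizer (Q0 : Set G)) {k : ℕ} (hk : orderOf g = p ^ k) :
    Nat.card Q0 ≡ Nat.card (Q0 ⊓ Subgroup.centralizer ({g} : Set G) : Subgroup G) [MOD p] := by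
  classical
  set σ := conjPerm Q0 g hg with hσ
  have hpow : σ ^ p ^ k = 1 := by rw [← hk]; exact conjPerm_pow_orderOf Q0 g hg
  have hP : IsPGroup p (Subgroup.zpowers σ) := by
    rw [IsPGroup.iff_card, Nat.card_zpowers]
    exact (Nat.dvd_prime_pow Fact.out).mp (orderOf_dvd_of_pow_eq_one hpow) |>.imp
      (fun j hj => hj.2)
  have h1 := hP.card_modEq_card_fixedPoints (α := Q0)
  refine h1.trans (Nat.ModEq.of_dvd (dvd_refl p) ?_)
  -- bijection between fixed points and the centralizer in `Q0`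
  have : Nat.card (MulAction.fixedPoints (Subgroup.zpowers σ) Q0) =
      Nat.card (Q0 ⊓ Subgroup.centralizer ({g} : Set G) : Subgroup G) := by
    refine Nat.card_congr ⟨fun x => ⟨x.1.1, x.1.2, ?_⟩, fun y => ⟨⟨y.1, y.2.1⟩, ?_⟩, ?_, ?_⟩
    · show (x.1 : G) ∈ Subgroup.centralizer ({g} : Set G)
      rw [Subgroup.mem_centralizer_singleton_iff]
      have := x.2 ⟨σ, Subgroup.mem_zpowers σ⟩
      have h2 : (σ x.1 : G) = x.1 := congrArg Subtype.val this
      simp only [hσ, conjPerm, Equiv.coe_fn_mk] at h2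
      symm
      calc g * ↑x.1 = (g * ↑x.1 * g⁻¹) * g := by group
        _ = ↑x.1 * g := by rw [h2]
    · rintro ⟨τ, hτ⟩
      obtain ⟨i, rfl⟩ := Subgroup.mem_zpowers_iff.mp hτ
      have hfix : σ ⟨y.1, y.2.1⟩ = ⟨y.1, y.2.1⟩ := by
        ext
        simp only [hσ, conjPerm, Equiv.coe_fn_mk]
        have := Subgroup.mem_centralizer_singleton_iff.mp y.2.2
        calc g * ↑y * g⁻¹ = (g * ↑y) * g⁻¹ := by group
          _ = (↑y * g) * g⁻¹ := by rw [← this]
          _ = ↑y := by group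
      show (σ ^ i) ⟨y.1, y.2.1⟩ = ⟨y.1, y.2.1⟩
      exact Equiv.Perm.zpow_apply_eq_self_of_apply_eq_self hfix i
    · intro x; rfl
    · intro y; rfl
  rw [this]

end orbit

section trans

variable {G : Type u} [Group G] [Finite G]

theorem conj_transitive {p : ℕ} [Fact p.Prime] (Q0 : Subgroup G) (g : G)
    (hg : g ∈ Subgroup.normalizer (Q0 : Set G)) {k : ℕ} (hk : orderOf g = p ^ k)
    (hC : Q0 ⊓ Subgroup.centralizer ({g} : Set G) = ⊥) (hcard : Nat.card Q0 = p + 1) :
    ∀ x ∈ Q0, x ≠ 1 → ∀ y ∈ Q0, y ≠ 1 → ∃ i : ℕ, g ^ i * x * (g ^ i)⁻¹ = y := by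
  classical
  intro x hx hx1 y hy hy1
  set σ := conjPerm Q0 g hg with hσ
  have hpow : σ ^ p ^ k = 1 := by rw [← hk]; exact conjPerm_pow_orderOf Q0 g hg
  set H := Subgroup.zpowers σ with hH
  have hp := (Fact.out : p.Prime)
  set x' : Q0 := ⟨x, hx⟩ with hx'
  set O := MulAction.orbit H x' with hO
  -- the orbit has `p`-power size
  have hdvd : O.ncard ∣ p ^ k := by
    rw [hO, ← MulAction.index_stabilizer]
    refine (Subgroup.index_dvd_card _).trans ?_
    rw [hH, Nat.card_zpowers]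
    exact orderOf_dvd_of_pow_eq_one hpow
  obtain ⟨j, -, hj⟩ := (Nat.dvd_prime_pow hp).mp hdvd
  -- `x'` is moved by `σ`
  have hmove : σ x' ≠ x' := by
    intro hfix
    have h2 : (σ x' : G) = x := congrArg Subtype.val hfix
    simp only [hσ, conjPerm, Equiv.coe_fn_mk, hx'] at h2
    have : x ∈ Q0 ⊓ Subgroup.centralizer ({g} : Set G) := by
      refine ⟨hx, ?_⟩
      show x ∈ Subgroup.centralizer ({g} : Set G)
      rw [Subgroup.mem_centralizer_singleton_iff]
      symm
      calc g * x = (g * x * g⁻¹) * g := by group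
        _ = x * g := by rw [h2]
    rw [hC, Subgroup.mem_bot] at this
    exact hx1 this
  have hσO : σ x' ∈ O := ⟨⟨σ, Subgroup.mem_zpowers σ⟩, rfl⟩
  have hxO : x' ∈ O := MulAction.mem_orbit_self x'
  have hj1 : j ≠ 0 := by
    intro h0
    rw [h0, pow_zero] at hj
    have hfin : O.Finite := Set.toFinite O
    obtain ⟨z, hz⟩ := (Set.ncard_eq_one).mp hj
    rw [hz] at hσO hxO
    exact hmove (hσO.trans hxO.symm)
  have hple : p ≤ O.ncard := by
    rw [hj]
    calc p = p ^ 1 := (pow_one p).symm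
      _ ≤ p ^ j := Nat.pow_le_pow_right hp.pos (Nat.one_le_iff_ne_zero.mpr hj1)
  -- the orbit avoids `1`
  set T : Set Q0 := {z | z ≠ 1} with hT
  have hOT : O ⊆ T := by
    rintro z ⟨⟨τ, hτ⟩, rfl⟩
    obtain ⟨i, rfl⟩ := Subgroup.mem_zpowers_iff.mp hτ
    show (σ ^ i) x' ≠ 1
    intro h1
    have : (σ ^ i) x' = (σ ^ i) 1 := by
      rw [h1]
      have : σ (1 : Q0) = 1 := by ext; simp [hσ, conjPerm]
      exact (Equiv.Perm.zpow_apply_eq_self_of_apply_eq_self this i).symm
    have := (σ ^ i).injective this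
    exact hx1 (congrArg Subtype.val this)
  have hTcard : T.ncard = p := by
    have : T = ({1} : Set Q0)ᶜ := by ext z; simp [hT]
    rw [this, Set.ncard_compl, Set.ncard_singleton, hcard]
    simp
  have hOT' : O = T := Set.eq_of_subset_of_ncard_le hOT (by rw [hTcard]; exact hple) (Set.toFinite T)
  have hyT : (⟨y, hy⟩ : Q0) ∈ O := by
    rw [hOT']
    intro h1
    exact hy1 (congrArg Subtype.val h1)
  obtain ⟨⟨τ, hτ⟩, hτy⟩ := hyT
  obtain ⟨i, rfl⟩ := Subgroup.mem_zpowers_iff.mp hτ
  have hn : 0 < orderOf σ := orderOf_pos σ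
  have hmod : σ ^ i = σ ^ (i % (orderOf σ : ℤ)).toNat := by
    rw [← zpow_natCast, Int.toNat_of_nonneg (Int.emod_nonneg _ (by exact_mod_cast hn.ne')),
      zpow_mod_orderOf]
  refine ⟨(i % (orderOf σ : ℤ)).toNat, ?_⟩
  have h3 : (σ ^ i) x' = ⟨y, hy⟩ := hτy
  rw [hmod] at h3
  have := congrArg Subtype.val h3
  rw [conjPerm_pow_apply] at this
  exact this

end trans

section main

variable {G : Type u} [Group G] [Finite G] {p q : ℕ}

/-- a group of exponent two is abelian -/
theorem comm_of_sq_eq_one {X : Type*} [Group X] (Q : Subgroup X) (h : ∀ x ∈ Q, x ^ 2 = 1) :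
    ∀ x ∈ Q, ∀ y ∈ Q, x * y = y * x := by
  intro x hx y hy
  have hx' : x⁻¹ = x := by
    have := h x hx; rw [pow_two] at this; exact inv_eq_of_mul_eq_one_left this
  have hy' : y⁻¹ = y := by
    have := h y hy; rw [pow_two] at this; exact inv_eq_of_mul_eq_one_left this
  have hxy : (x * y)⁻¹ = x * y := by
    have := h (x * y) (Q.mul_mem hx hy); rw [pow_two] at this
    exact inv_eq_of_mul_eq_one_left this
  rw [mul_inv_rev, hx', hy'] at hxy
  exact hxy.symm

/-- If the Frobenius criterion fails for `q`, we are in the configuration `Cfg`. -/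
theorem MinCexB.cfg_of_not_central (h : MinCexB G p q) [Fact q.Prime] (P : Sylow q G)
    (Q0 : Subgroup G) (hQ0 : Q0 ≤ (P : Subgroup G)) (g : G)
    (hg : g ∈ Subgroup.normalizer (Q0 : Set G)) (hcop : (orderOf g).Coprime q)
    (hnc : g ∉ Subgroup.centralizer (Q0 : Set G)) :
    ∃ a : ℕ, q = 2 ∧ Cfg G p a Q0 g := by
  classical
  have hp := h.hp
  have hq := h.hq
  haveI : Fact p.Prime := ⟨hp⟩
  -- `Q0 ≠ ⊥`
  have hQ0ne : Q0 ≠ ⊥ := by
    rintro rfl
    apply hnc
    rw [Subgroup.mem_centralizer_iff]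
    intro x hx
    rw [SetLike.mem_coe, Subgroup.mem_bot] at hx
    rw [hx]; simp
  have hQ0p : IsPGroup q Q0 := P.isPGroup'.to_le hQ0
  obtain ⟨b, hb⟩ := IsPGroup.iff_card.mp hQ0p
  have hb0 : b ≠ 0 := by
    rintro rfl
    rw [pow_zero] at hb
    exact hQ0ne ((Subgroup.card_eq_one).mp hb)
  -- the normalizer is a proper `{p, q}`-group
  have hNtop : Subgroup.normalizer (Q0 : Set G) ≠ ⊤ := h.qloc Q0 hQ0ne hQ0p
  have hqN : q ∣ Nat.card (Subgroup.normalizer (Q0 : Set G)) := by
    have h1 : Nat.card Q0 ∣ Nat.card (Subgroup.normalizer (Q0 : Set G)) :=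
      Subgroup.card_dvd_of_le Subgroup.le_normalizer
    refine Dvd.dvd.trans ?_ h1
    rw [hb]; exact dvd_pow_self q hb0
  -- `g` is a `p`-element
  have hgN : orderOf g ∣ Nat.card (Subgroup.normalizer (Q0 : Set G)) := by
    have := orderOf_dvd_natCard (⟨g, hg⟩ : Subgroup.normalizer (Q0 : Set G))
    rwa [Subgroup.orderOf_mk] at this
  obtain ⟨k, hk⟩ : ∃ k : ℕ, orderOf g = p ^ k := by
    refine ⟨_, Nat.eq_prime_pow_of_unique_prime_dvd (orderOf_pos g).ne' ?_⟩
    intro d hd hdg
    rcases h.sub_pq _ hNtop hqN d hd (hdg.trans hgN) with h1 | h1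
    · exact h1
    · exfalso
      rw [h1] at hdg
      have := Nat.Coprime.eq_one_of_dvd hcop.symm hdg
      exact hq.one_lt.ne' this
  -- the fixed points
  set C : Subgroup G := Q0 ⊓ Subgroup.centralizer ({g} : Set G) with hC
  have hmod := card_modEq_card_centralizer (p := p) Q0 g hg hk
  have hCle : C ≤ Q0 := inf_le_left
  have hCne : C ≠ Q0 := by
    intro heq
    apply hnc
    rw [Subgroup.mem_centralizer_iff]
    intro x hx
    have : x ∈ C := by rw [heq]; exact hx
    exact (Subgroup.mem_centralizer_singleton_iff.mp this.2)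
  obtain ⟨c, hc⟩ := IsPGroup.iff_card.mp (hQ0p.to_le hCle)
  have hcb : c < b := by
    have h1 : Nat.card C ∣ Nat.card Q0 := Subgroup.card_dvd_of_le hCle
    rw [hb, hc] at h1
    have h2 : c ≤ b := (Nat.pow_dvd_pow_iff_le_right hq.one_lt).mp h1
    rcases h2.lt_or_eq with h3 | h3
    · exact h3
    · exfalso
      apply hCne
      apply Subgroup.eq_of_le_of_card_ge hCle
      rw [hb, hc, h3]
  -- `b ≤ a`
  set a := (Nat.card G).factorization q with ha
  have hPcard : Nat.card (P : Subgroup G) = q ^ a := P.card_eq_multiplicity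
  have hba : b ≤ a := by
    have h1 : Nat.card Q0 ∣ Nat.card (P : Subgroup G) := Subgroup.card_dvd_of_le hQ0
    rw [hb, hPcard] at h1
    exact (Nat.pow_dvd_pow_iff_le_right hq.one_lt).mp h1
  -- `p ∣ q ^ (b - c) - 1`
  have hpd : p ∣ q ^ (b - c) - 1 := by
    rw [hb, hc] at hmod
    have h1 : q ^ c ≤ q ^ b := Nat.pow_le_pow_right hq.pos hcb.le
    have h2 : p ∣ q ^ b - q ^ c := (Nat.modEq_iff_dvd' h1).mp hmod.symm
    have h3 : q ^ b - q ^ c = q ^ c * (q ^ (b - c) - 1) := by
      rw [Nat.mul_sub, mul_one, ← pow_add, Nat.add_sub_cancel' hcb.le]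
    rw [h3] at h2
    rcases (Nat.Prime.dvd_mul hp).mp h2 with h4 | h4
    · exfalso
      exact h.hpq ((Nat.prime_dvd_prime_iff_eq hp hq).mp (hp.dvd_of_dvd_pow h4))
    · exact h4
  have hpos : 0 < q ^ (b - c) - 1 := by
    have : 1 < q ^ (b - c) := Nat.one_lt_pow (by omega) hq.one_lt
    omega
  have hple : p ≤ q ^ (b - c) - 1 := Nat.le_of_dvd hpos hpd
  have hle2 : q ^ (b - c) ≤ q ^ a := Nat.pow_le_pow_right hq.pos (by omega)
  -- use `hlarge`
  have hlarge := h.hlarge
  rw [← ha] at hlarge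
  rcases hlarge with h1 | ⟨h1, hab⟩
  · omega
  have hqa : 1 ≤ q ^ a := Nat.one_le_pow _ _ hq.pos
  have h2 : q ^ a ≤ q ^ (b - c) := by omega
  have h3 : a ≤ b - c := (Nat.pow_le_pow_iff_right hq.one_lt).mp h2
  have hba' : b = a := by omega
  have hc0 : c = 0 := by omega
  have hCbot : C = ⊥ := by
    rw [hc0, pow_zero] at hc
    exact (Subgroup.card_eq_one).mp hc
  have hQcard : Nat.card Q0 = q ^ a := by rw [hb, hba']
  have hpq1 : p + 1 = q ^ a := by omega
  -- `q = 2`
  have hq2 : q = 2 := by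
    have hpodd : Odd p := hp.odd_of_ne_two h.hp2
    have : Even (q ^ a) := by rw [← hpq1]; exact hpodd.add_one
    have h2 : 2 ∣ q ^ a := this.two_dvd
    exact ((Nat.prime_dvd_prime_iff_eq Nat.prime_two hq).mp
      (Nat.prime_two.dvd_of_dvd_pow h2)).symm
  subst hq2
  have ha2 : 2 ≤ a := by
    by_contra hlt
    have : a = 0 ∨ a = 1 := by omega
    rcases this with h0 | h0
    · rw [h0] at hpq1; have := hp.two_le; omega
    · rw [h0] at hpq1; have := hp.two_le
      have : p = 1 := by omega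
      exact hp.one_lt.ne' this
  have hcard' : Nat.card Q0 = p + 1 := by rw [hQcard, hpq1]
  have htr := conj_transitive (p := p) Q0 g hg hk hCbot hcard'
  -- exponent two
  have hexp : ∀ x ∈ Q0, x ^ 2 = 1 := by
    have h2dvd : 2 ∣ Nat.card Q0 := by rw [hQcard]; exact dvd_pow_self 2 (by omega)
    obtain ⟨z, hz⟩ := exists_prime_orderOf_dvd_card' (G := Q0) 2 h2dvd
    have hz1 : (z : G) ≠ 1 := by
      intro h1
      have : z = 1 := Subtype.ext h1
      rw [this, orderOf_one] at hz; omega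
    have hz2 : (z : G) ^ 2 = 1 := by
      have := pow_orderOf_eq_one z
      rw [hz] at this
      exact_mod_cast congrArg Subtype.val this
    intro x hx
    by_cases hx1 : x = 1
    · rw [hx1]; simp
    obtain ⟨i, hi⟩ := htr z z.2 hz1 x hx hx1
    rw [← hi]
    calc (g ^ i * ↑z * (g ^ i)⁻¹) ^ 2 = g ^ i * (↑z) ^ 2 * (g ^ i)⁻¹ := by
          rw [pow_two, pow_two]; group
      _ = 1 := by rw [hz2]; group
  refine ⟨a, rfl, ?_⟩
  refine
    { hp := hp
      ha := ha2
      hpa := hpq1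
      pab := ?_
      prop := ?_
      simp := h.simp
      Qcard := hQcard
      Gcard := ?_
      Qab := comm_of_sq_eq_one Q0 hexp
      Qexp := hexp
      wQ := fun x hx => (Subgroup.mem_normalizer_iff.mp hg x).mp hx
      wp := ⟨k, hk⟩
      wtr := htr }
  · intro S hS x hx y hy
    obtain ⟨P', hP'⟩ := hS.exists_le_sylow
    haveI := hab P'
    have := mul_comm' (⟨x, hP' hx⟩ : (P' : Subgroup G)) ⟨y, hP' hy⟩
    exact congrArg Subtype.val this
  · intro H hH h2 r hr hrH
    rcases h.sub_pq H hH h2 r hr hrH with h1 | h1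
    · exact Or.inr h1
    · exact Or.inl h1
  · intro hdvd
    have hGpos : Nat.card G ≠ 0 := Nat.card_pos.ne'
    have := (Nat.prime_two.pow_dvd_iff_le_factorization hGpos).mp hdvd
    omega

end main

/-- A minimal counterexample leads to the configuration `Cfg`. -/
theorem MinCexB.false {G : Type u} [Group G] [Finite G] {p q : ℕ} (h : MinCexB G p q)
    (hB : ∀ (a : ℕ) (Q : Subgroup G) (w : G), Cfg G p a Q w → False) : False := by
  haveI : Fact q.Prime := ⟨h.hq⟩
  let P : Sylow q G := default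
  by_cases hcrit : ∀ Q0 : Subgroup G, Q0 ≤ (P : Subgroup G) →
      ∀ g ∈ Subgroup.normalizer (Q0 : Set G), Nat.Coprime (orderOf g) q →
        g ∈ Subgroup.centralizer (Q0 : Set G)
  · obtain ⟨N, hN, hc⟩ := (Cfsg.Agent.S0071.result P).mpr hcrit
    exact h.false_of_complement P N hN hc
  · push Not at hcrit
    obtain ⟨Q0, hQ0, g, hg, hcop, hnc⟩ := hcrit
    obtain ⟨a, -, hcfg⟩ := h.cfg_of_not_central P Q0 hQ0 g hg hcop hnc
    exact hB a Q0 g hcfg

end Cfsg.Agent.Lib.Lead.Mix
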