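import Cfsg.Agent.Lib.Lead.MixCfg

/-!
# S4017, package P5 (part a): relative Burnside, and the normal `2`-complement lemma
-/

namespace Cfsg.Agent.Lib.Lead.Mix

universe u

variable {G : Type u} [Group G] [Finite G]

/-- **Burnside's transfer theorem, relative form.** `Q ≤ Y` a Sylow `ℓ`-subgroup of `Y` with
`N_Y(Q) ≤ C(Q)`: then `Y` has a normal `ℓ`-complement `S`. -/
theorem rel_burnside {ℓ : ℕ} [Fact ℓ.Prime] (Y Q : Subgroup G) (hQY : Q ≤ Y)
    {b m : ℕ} (hQ : Nat.card Q = ℓ ^ b) (hY : Nat.card Y = ℓ ^ b * m) (hm : ¬ ℓ ∣ m)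
    (hNC : ∀ y ∈ Y, y ∈ Subgroup.normalizer (Q : Set G) → y ∈ Subgroup.centralizer (Q : Set G)) :
    ∃ S : Subgroup G, S ≤ Y ∧ Y ≤ Subgroup.normalizer (S : Set G) ∧
      Nat.card S * Nat.card Q = Nat.card Y ∧ S ⊓ Q = ⊥ := by
  classical
  have hℓ := (Fact.out : ℓ.Prime)
  have hm0 : m ≠ 0 := by rintro rfl; exact hm (dvd_zero _)
  set Q' : Subgroup Y := Q.subgroupOf Y with hQ'
  have hQ'card : Nat.card Q' = ℓ ^ b := by
    rw [hQ', ← hQ]
    exact Nat.card_congr (Subgroup.subgroupOfEquivOfLe hQY).toEquiv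
  have hfac : (Nat.card Y).factorization ℓ = b := by
    rw [hY, Nat.factorization_mul (pow_ne_zero _ hℓ.ne_zero) hm0]
    simp [hℓ.factorization_self, Nat.factorization_eq_zero_of_not_dvd hm]
  obtain ⟨P', hP'coe⟩ : ∃ P' : Sylow ℓ Y, (P' : Subgroup Y) = Q' :=
    ⟨Sylow.ofCard Q' (by rw [hQ'card, hfac]), Sylow.coe_ofCard _ _⟩
  have hP' : Subgroup.normalizer ((P' : Subgroup Y) : Set Y) ≤
      Subgroup.centralizer ((P' : Subgroup Y) : Set Y) := by
    intro y hy
    rw [hP'coe] at hy ⊢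
    have hyN : (y : G) ∈ Subgroup.normalizer (Q : Set G) := by
      rw [Subgroup.mem_normalizer_iff]
      intro n
      constructor
      · intro hn
        have h1 : (⟨n, hQY hn⟩ : Y) ∈ Q' := by rw [hQ', Subgroup.mem_subgroupOf]; exact hn
        have h2 := (Subgroup.mem_normalizer_iff.mp hy _).mp h1
        rw [hQ', Subgroup.mem_subgroupOf] at h2
        simpa using h2
      · intro hn
        have hnY : n ∈ Y := by
          have := Y.mul_mem (Y.mul_mem (Y.inv_mem y.2) (hQY hn)) y.2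
          simpa [mul_assoc] using this
        have h1 : y * (⟨n, hnY⟩ : Y) * y⁻¹ ∈ Q' := by
          rw [hQ', Subgroup.mem_subgroupOf]; simpa using hn
        have h2 := (Subgroup.mem_normalizer_iff.mp hy _).mpr h1
        rw [hQ', Subgroup.mem_subgroupOf] at h2
        exact h2
    have hyC := hNC y y.2 hyN
    rw [Subgroup.mem_centralizer_iff]
    intro z hz
    have hz' : (z : G) ∈ Q := by
      have : z ∈ Q' := hz
      rwa [hQ', Subgroup.mem_subgroupOf] at this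
    have := Subgroup.mem_centralizer_iff.mp hyC z hz'
    exact Subtype.ext (by simpa using this)
  obtain ⟨N, hNn, hc⟩ : ∃ N : Subgroup Y, N.Normal ∧ N.IsComplement' (P' : Subgroup Y) :=
    ⟨_, MonoidHom.normal_ker _, MonoidHom.ker_transferSylow_isComplement' P' hP'⟩
  refine ⟨N.map Y.subtype, ?_, ?_, ?_, ?_⟩
  · rintro x ⟨n, -, rfl⟩; exact n.2
  · intro g hg
    have key : ∀ g : G, g ∈ Y → ∀ n ∈ N.map Y.subtype, g * n * g⁻¹ ∈ N.map Y.subtype := by
      rintro g hg _ ⟨n, hn, rfl⟩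
      refine ⟨⟨g, hg⟩ * n * ⟨g, hg⟩⁻¹, hNn.conj_mem n hn ⟨g, hg⟩, by simp⟩
    rw [Subgroup.mem_normalizer_iff]
    intro n
    constructor
    · exact key g hg n
    · intro hn
      have := key g⁻¹ (Y.inv_mem hg) _ hn
      simpa [mul_assoc] using this
  · have h1 : Nat.card (N.map Y.subtype) = Nat.card N :=
      Nat.card_congr (N.equivMapOfInjective Y.subtype Y.subtype_injective).symm.toEquiv
    have h2 := hc.card_mul_card
    rw [hP'coe, hQ'card] at h2
    rw [h1, hQ, h2]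
  · rw [eq_bot_iff]
    rintro x ⟨⟨n, hn, rfl⟩, hxQ⟩
    have h1 : n ∈ (P' : Subgroup Y) := by
      rw [hP'coe, hQ', Subgroup.mem_subgroupOf]; exact hxQ
    have h2 : n ∈ N ⊓ (P' : Subgroup Y) := ⟨hn, h1⟩
    rw [disjoint_iff.mp hc.disjoint, Subgroup.mem_bot] at h2
    rw [Subgroup.mem_bot, h2]; rfl

end Cfsg.Agent.Lib.Lead.Mix
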