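import Cfsg.Agent.Lib.Lead.MixP5a

/-!
# S4017, package P5 (part b): consequences of `CfgB` when `P₁ = 1`
-/

namespace Cfsg.Agent.Lib.Lead.Mix

universe u

variable {G : Type u} [Group G] [Finite G] {p a : ℕ} {Q : Subgroup G} {w : G}

theorem CfgB.p_odd (h : CfgB G p a Q w) : p ≠ 2 := by
  intro h2
  have := h.hpa
  rw [h2] at this
  have h4 : 4 ≤ 2 ^ a := by
    calc 4 = 2 ^ 2 := by norm_num
      _ ≤ 2 ^ a := Nat.pow_le_pow_right (by norm_num) h.ha
  omega

theorem CfgB.coprime_two_p (h : CfgB G p a Q w) (i j : ℕ) : (2 ^ i).Coprime (p ^ j) := by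
  apply Nat.Coprime.pow
  rw [Nat.coprime_primes Nat.prime_two h.hp]
  exact fun e => h.p_odd e.symm

/-- an element of `p`-power order in a `2`-group is trivial -/
theorem CfgB.eq_one_of_mem_Q (h : CfgB G p a Q w) {x : G} (hx : x ∈ Q)
    (hp : ∃ k : ℕ, orderOf x = p ^ k) : x = 1 := by
  obtain ⟨k, hk⟩ := hp
  have h1 : orderOf x ∣ 2 ^ a := by
    have := orderOf_dvd_natCard (⟨x, hx⟩ : Q)
    rwa [Subgroup.orderOf_mk, h.Qcard] at this
  have h2 : orderOf x ∣ p ^ k := hk ▸ dvd_rfl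
  have := Nat.eq_one_of_dvd_coprimes (h.coprime_two_p a k) h1 h2
  exact orderOf_eq_one_iff.mp this

theorem CfgB.Q_le_cent (h : CfgB G p a Q w) : Q ≤ Subgroup.centralizer (Q : Set G) := by
  intro x hx
  rw [Subgroup.mem_centralizer_iff]
  intro y hy
  exact h.Qab y hy x hx

theorem CfgB.cent_eq (h : CfgB G p a Q w) (h1 : Pone p Q = ⊥) :
    Subgroup.centralizer (Q : Set G) = Q := by
  symm
  apply Subgroup.eq_of_le_of_card_ge h.Q_le_cent
  rw [h.cent_card, h1, Subgroup.card_bot, mul_one, h.Qcard]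

theorem CfgB.norm_card' (h : CfgB G p a Q w) (h1 : Pone p Q = ⊥) :
    Nat.card (Subgroup.normalizer (Q : Set G)) = p * 2 ^ a := by
  rw [h.norm_card, h.cent_eq h1, h.Qcard]

/-- a subgroup containing `Q` and an element of `N_G(Q) \ Q` contains `N_G(Q)` -/
theorem CfgB.norm_le_of_mem (h : CfgB G p a Q w) (h1 : Pone p Q = ⊥) (X : Subgroup G)
    (hQX : Q ≤ X) {m : G} (hmX : m ∈ X) (hmM : m ∈ Subgroup.normalizer (Q : Set G))
    (hmQ : m ∉ Q) : Subgroup.normalizer (Q : Set G) ≤ X := by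
  set M := Subgroup.normalizer (Q : Set G) with hM
  have hQM : Q ≤ M := Subgroup.le_normalizer
  have hle : Q ≤ X ⊓ M := le_inf hQX hQM
  have hd1 : Nat.card Q ∣ Nat.card (X ⊓ M : Subgroup G) := Subgroup.card_dvd_of_le hle
  have hd2 : Nat.card (X ⊓ M : Subgroup G) ∣ Nat.card M := Subgroup.card_dvd_of_le inf_le_right
  rw [h.Qcard] at hd1
  rw [h.norm_card' h1] at hd2
  obtain ⟨d, hd⟩ := hd1
  have hdp : d ∣ p := by
    rw [hd, mul_comm] at hd2
    exact Nat.dvd_of_mul_dvd_mul_right (Nat.pow_pos (n := a) (by norm_num : 0 < 2)) hd2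
  rcases (Nat.dvd_prime h.hp).mp hdp with hd1' | hd1'
  · exfalso
    apply hmQ
    have : Q = X ⊓ M := by
      apply Subgroup.eq_of_le_of_card_ge hle
      rw [hd, hd1', mul_one, h.Qcard]
    rw [this]; exact ⟨hmX, hmM⟩
  · have : X ⊓ M = M := by
      apply Subgroup.eq_of_le_of_card_ge inf_le_right
      rw [hd, hd1', h.norm_card' h1, mul_comm]
    rw [← this]; exact inf_le_left

/-- a `p`-element of `N_G(Q)` commuting with an involution of `Q` is trivial -/
theorem CfgB.eq_one_of_mem_norm (h : CfgB G p a Q w) (h1 : Pone p Q = ⊥) {x t : G}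
    (hx : x ∈ Subgroup.normalizer (Q : Set G)) (hp : ∃ k : ℕ, orderOf x = p ^ k)
    (ht : t ∈ Q) (ht1 : t ≠ 1) (hc : x * t = t * x) : x = 1 := by
  by_cases hxc : x ∈ Subgroup.centralizer (Q : Set G)
  · rw [h.cent_eq h1] at hxc
    exact h.eq_one_of_mem_Q hxc hp
  · exact absurd hc (h.norm_fpf x hx hxc t ht ht1)

theorem CfgB.kt_eq_bot_of_le_norm (h : CfgB G p a Q w) (h1 : Pone p Q = ⊥) {t : G}
    (ht : t ∈ Q) (ht1 : t ≠ 1) {X : Subgroup G} (hX : X ≤ Subgroup.normalizer (Q : Set G))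
    (hK : Kt p t ≤ X) : Kt p t = ⊥ := by
  rw [eq_bot_iff]
  unfold Kt
  rw [Subgroup.closure_le]
  rintro x ⟨hc, hp⟩
  have hx : x ∈ Kt p t := Subgroup.subset_closure ⟨hc, hp⟩
  have := h.eq_one_of_mem_norm h1 (hX (hK hx)) hp ht ht1 hc
  rw [this]; exact Subgroup.one_mem _

/-- **normal `2`-complement**: a proper subgroup containing `Q` but not `N_G(Q)` -/
theorem CfgB.normal_compl (h : CfgB G p a Q w) (h1 : Pone p Q = ⊥) (X : Subgroup G)
    (hQX : Q ≤ X) (hX : X ≠ ⊤) (hMX : ¬ Subgroup.normalizer (Q : Set G) ≤ X) :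
    ∃ S : Subgroup G, S ≤ X ∧ X ≤ Subgroup.normalizer (S : Set G) ∧ IsPGroup p S ∧
      Nat.card S * 2 ^ a = Nat.card X ∧
      ∀ x ∈ X, (∃ k : ℕ, orderOf x = p ^ k) → x ∈ S := by
  haveI : Fact (Nat.Prime 2) := ⟨Nat.prime_two⟩
  have h2X : 2 ∣ Nat.card X := by
    have h3 : Nat.card Q ∣ Nat.card X := Subgroup.card_dvd_of_le hQX
    rw [h.Qcard] at h3
    exact (dvd_pow_self 2 (by have := h.ha; omega)).trans h3
  -- `|X| = 2 ^ a * m` with `m` odd
  obtain ⟨m, hm⟩ : 2 ^ a ∣ Nat.card X := by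
    have := Subgroup.card_dvd_of_le hQX; rwa [h.Qcard] at this
  have hmodd : ¬ 2 ∣ m := by
    rintro ⟨c, rfl⟩
    apply h.Gcard
    have h3 : Nat.card X ∣ Nat.card G := Subgroup.card_subgroup_dvd_card X
    refine Dvd.dvd.trans ?_ h3
    rw [hm, pow_succ]
    exact ⟨c, by ring⟩
  have hNC : ∀ y ∈ X, y ∈ Subgroup.normalizer (Q : Set G) →
      y ∈ Subgroup.centralizer (Q : Set G) := by
    intro y hyX hyM
    by_contra hyc
    rw [h.cent_eq h1] at hyc
    exact hMX (h.norm_le_of_mem h1 X hQX hyX hyM hyc)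
  obtain ⟨S, hSX, hXS, hcard, hdisj⟩ := rel_burnside (ℓ := 2) X Q hQX h.Qcard hm hmodd hNC
  rw [h.Qcard] at hcard
  have hSm : Nat.card S = m := by
    rw [hm, mul_comm] at hcard
    exact Nat.eq_of_mul_eq_mul_left (Nat.pow_pos (n := a) (by norm_num : 0 < 2)) hcard
  -- `S` is a `p`-group
  have hSp : IsPGroup p S := by
    haveI : Fact p.Prime := ⟨h.hp⟩
    have hS0 : Nat.card S ≠ 0 := Nat.card_pos.ne'
    rw [IsPGroup.iff_card]
    refine ⟨_, Nat.eq_prime_pow_of_unique_prime_dvd hS0 ?_⟩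
    intro d hd hdS
    have hdX : d ∣ Nat.card X := hdS.trans (Subgroup.card_dvd_of_le hSX)
    rcases h.prop X hX h2X d hd hdX with h3 | h3
    · exfalso; rw [h3, hSm] at hdS; exact hmodd hdS
    · exact h3
  refine ⟨S, hSX, hXS, hSp, hcard, ?_⟩
  -- `p`-elements of `X` lie in `S`
  rintro x hxX ⟨k, hk⟩
  have hSn : (S.subgroupOf X).Normal := by
    refine ⟨fun n hn g => ?_⟩
    rw [Subgroup.mem_subgroupOf] at hn ⊢
    have := (Subgroup.mem_normalizer_iff.mp (hXS g.2) n).mp hn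
    simpa using this
  have hidx : (S.subgroupOf X).index = 2 ^ a := by
    have h3 : Nat.card (S.subgroupOf X) * (S.subgroupOf X).index = Nat.card X :=
      Subgroup.card_mul_index _
    have h4 : Nat.card (S.subgroupOf X) = Nat.card S :=
      Nat.card_congr (Subgroup.subgroupOfEquivOfLe hSX).toEquiv
    rw [h4, ← hcard] at h3
    exact Nat.eq_of_mul_eq_mul_left Nat.card_pos h3
  have hpow : x ^ 2 ^ a ∈ S := by
    have := Subgroup.pow_index_mem (S.subgroupOf X) (⟨x, hxX⟩ : X)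
    rw [hidx, Subgroup.mem_subgroupOf] at this
    simpa using this
  -- invert the exponent modulo `p ^ k`
  by_cases hk1 : p ^ k = 1
  · rw [hk1] at hk
    rw [orderOf_eq_one_iff.mp hk]; exact S.one_mem
  have hlt : 1 < p ^ k := by
    have : 0 < p ^ k := Nat.pow_pos h.hp.pos
    omega
  obtain ⟨c, -, hc⟩ := Nat.exists_mul_mod_eq_one_of_coprime (h.coprime_two_p a k) hlt
  have : x = (x ^ 2 ^ a) ^ c := by
    rw [← pow_mul, ← pow_mod_orderOf, hk, hc, pow_one]
  rw [this]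
  exact S.pow_mem hpow c

end Cfsg.Agent.Lib.Lead.Mix
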