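import Cfsg.Agent.Lib.Lead.MixP5b

/-!
# S4017, package P5 (part c): the Sylow subgroup `S_t` (note §4.1)
-/

namespace Cfsg.Agent.Lib.Lead.Mix

universe u

variable {G : Type u} [Group G] [Finite G] {p a : ℕ} {Q : Subgroup G} {w : G}

theorem Kt_le_cent (p : ℕ) (t : G) : Kt p t ≤ Subgroup.centralizer ({t} : Set G) := by
  unfold Kt
  rw [Subgroup.closure_le]
  rintro x ⟨hc, -⟩
  exact Subgroup.mem_centralizer_singleton_iff.mpr hc

theorem mem_Kt {p : ℕ} {t x : G} (hc : x * t = t * x) (hp : ∃ k : ℕ, orderOf x = p ^ k) :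
    x ∈ Kt p t := Subgroup.subset_closure ⟨hc, hp⟩

theorem cent_le_normalizer_Kt (p : ℕ) (t : G) :
    Subgroup.centralizer ({t} : Set G) ≤ Subgroup.normalizer (Kt p t : Set G) := by
  intro g hg
  have hgt : g * t * g⁻¹ = t := by
    have := Subgroup.mem_centralizer_singleton_iff.mp hg
    rw [this]; group
  have h1 := Kt_conj p t g
  rw [hgt] at h1
  rw [Subgroup.mem_normalizer_iff]
  intro n
  constructor
  · intro hn
    rw [h1]
    exact ⟨n, hn, by simp [MulAut.conj_apply]⟩
  · intro hn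
    rw [h1] at hn
    obtain ⟨y, hy, hyn⟩ := hn
    simp only [MulEquiv.coe_toMonoidHom, MulAut.conj_apply] at hyn
    have : y = n := by
      have := congrArg (fun z => g⁻¹ * z * g) hyn
      simpa [mul_assoc] using this
    rw [← this]; exact hy

theorem CfgB.Q_le_cent_t (h : CfgB G p a Q w) {t : G} (ht : t ∈ Q) :
    Q ≤ Subgroup.centralizer ({t} : Set G) := by
  intro x hx
  exact Subgroup.mem_centralizer_singleton_iff.mpr (h.Qab x hx t ht)

/-- a `p`-group is not everything -/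
theorem CfgB.pgroup_ne_top (h : CfgB G p a Q w) {K : Subgroup G} (hK : IsPGroup p K) :
    K ≠ ⊤ := by
  rintro rfl
  haveI : Fact p.Prime := ⟨h.hp⟩
  obtain ⟨k, hk⟩ := IsPGroup.iff_card.mp hK
  rw [Subgroup.card_top] at hk
  have h2 : 2 ∣ Nat.card G := by
    have h3 : Nat.card Q ∣ Nat.card G := Subgroup.card_subgroup_dvd_card Q
    rw [h.Qcard] at h3
    exact (dvd_pow_self 2 (by have := h.ha; omega)).trans h3
  rw [hk] at h2
  have := (Nat.prime_dvd_prime_iff_eq Nat.prime_two h.hp).mp (Nat.prime_two.dvd_of_dvd_pow h2)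
  exact h.p_odd this.symm

/-- the data of the Sylow subgroup `S_t` -/
structure StData (p a : ℕ) (Q : Subgroup G) (t : G) (S : Subgroup G) : Prop where
  le : Kt p t ≤ S
  pgroup : IsPGroup p S
  card : Nat.card S = p ^ (Nat.card G).factorization p
  qnorm : Q ≤ Subgroup.normalizer (S : Set G)
  uniq : ∀ P' : Subgroup G, IsPGroup p P' → Kt p t ≤ P' → P' ≤ S
  nnorm : Subgroup.normalizer (Kt p t : Set G) ≤ Subgroup.normalizer (S : Set G)
  ncard : Nat.card (Subgroup.normalizer (Kt p t : Set G)) = Nat.card S * 2 ^ a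

theorem CfgB.exists_St (h : CfgB G p a Q w) (h1 : Pone p Q = ⊥) {t : G} (ht : t ∈ Q)
    (ht1 : t ≠ 1) (hK : Kt p t ≠ ⊥) : ∃ S : Subgroup G, StData p a Q t S := by
  haveI : Fact p.Prime := ⟨h.hp⟩
  set K := Kt p t with hKdef
  have hKp : IsPGroup p K := h.kt_pgroup t ht ht1
  set Y := Subgroup.normalizer (K : Set G) with hY
  have hQY : Q ≤ Y := (h.Q_le_cent_t ht).trans (cent_le_normalizer_Kt p t)
  have hYtop : Y ≠ ⊤ := h.nloc K hK (h.pgroup_ne_top hKp)
  have hMY : ¬ Subgroup.normalizer (Q : Set G) ≤ Y := by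
    intro hle
    have hYM : Y = Subgroup.normalizer (Q : Set G) := h.norm_max Y hle hYtop
    apply hK
    exact h.kt_eq_bot_of_le_norm h1 ht ht1 (le_of_eq hYM) Subgroup.le_normalizer
  obtain ⟨S, hSY, hYS, hSp, hcard, hall⟩ := h.normal_compl h1 Y hQY hYtop hMY
  -- `p`-subgroups containing `K` lie in `S`
  have huniq : ∀ P' : Subgroup G, IsPGroup p P' → K ≤ P' → P' ≤ S := by
    intro P' hP' hKP' x hx
    have hxY : x ∈ Y := by
      rw [hY]
      apply Subgroup.centralizer_le_normalizer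
      rw [Subgroup.mem_centralizer_iff]
      intro k hk
      exact h.pab P' hP' k (hKP' hk) x hx
    obtain ⟨k, hk⟩ := (IsPGroup.iff_orderOf.mp hP') ⟨x, hx⟩
    rw [Subgroup.orderOf_mk] at hk
    exact hall x hxY ⟨k, hk⟩
  have hKS : K ≤ S := by
    intro x hx
    obtain ⟨k, hk⟩ := (IsPGroup.iff_orderOf.mp hKp) ⟨x, hx⟩
    rw [Subgroup.orderOf_mk] at hk
    exact hall x (Subgroup.le_normalizer hx) ⟨k, hk⟩
  have hScard : Nat.card S = p ^ (Nat.card G).factorization p := by
    obtain ⟨P2, hP2⟩ := hKp.exists_le_sylow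
    obtain ⟨P3, hP3⟩ := hSp.exists_le_sylow
    have h2 : (P2 : Subgroup G) ≤ S := huniq P2 P2.isPGroup' hP2
    have c2 : Nat.card (P2 : Subgroup G) = p ^ (Nat.card G).factorization p :=
      P2.card_eq_multiplicity
    have c3 : Nat.card (P3 : Subgroup G) = p ^ (Nat.card G).factorization p :=
      P3.card_eq_multiplicity
    have l1 := Nat.le_of_dvd Nat.card_pos (Subgroup.card_dvd_of_le h2)
    have l2 := Nat.le_of_dvd Nat.card_pos (Subgroup.card_dvd_of_le hP3)
    omega
  exact ⟨S,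
    { le := hKS
      pgroup := hSp
      card := hScard
      qnorm := hQY.trans hYS
      uniq := huniq
      nnorm := hYS
      ncard := hcard.symm }⟩

end Cfsg.Agent.Lib.Lead.Mix
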