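import Cfsg.Agent.Lib.Lead.MixP5c
import Cfsg.Agent.Lib.Lead.GenCentralizers

/-!
# S4017, package P5 (part d): the key lemma and the structure theorem (note §4.2 to §4.4)
-/

namespace Cfsg.Agent.Lib.Lead.Mix

universe u

variable {G : Type u} [Group G] [Finite G] {p a : ℕ} {Q : Subgroup G} {w : G}

/-- an element mapping a finite subgroup into itself normalizes it -/
theorem mem_normalizer_of_conj_mem (Q : Subgroup G) (g : G) (hg : ∀ x ∈ Q, g * x * g⁻¹ ∈ Q) :
    g ∈ Subgroup.normalizer (Q : Set G) := by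
  have hle : Q.map (MulAut.conj g).toMonoidHom ≤ Q := by
    rintro _ ⟨x, hx, rfl⟩
    simpa [MulAut.conj_apply] using hg x hx
  have hcard : Nat.card (Q.map (MulAut.conj g).toMonoidHom) = Nat.card Q :=
    Nat.card_congr (Q.equivMapOfInjective _ (MulAut.conj g).injective).symm.toEquiv
  have heq : Q.map (MulAut.conj g).toMonoidHom = Q :=
    Subgroup.eq_of_le_of_card_ge hle (by rw [hcard])
  rw [Subgroup.mem_normalizer_iff]
  intro n
  constructor
  · exact hg n
  · intro hn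
    rw [← heq] at hn
    obtain ⟨y, hy, hyn⟩ := hn
    simp only [MulEquiv.coe_toMonoidHom, MulAut.conj_apply] at hyn
    have : y = n := by
      have := congrArg (fun z => g⁻¹ * z * g) hyn
      simpa [mul_assoc] using this
    rw [← this]; exact hy

theorem CfgB.w_pow_mem_normalizer (h : CfgB G p a Q w) (i : ℕ) :
    w ^ i ∈ Subgroup.normalizer (Q : Set G) :=
  Subgroup.pow_mem _ (mem_normalizer_of_conj_mem Q w h.wQ) i

/-- **Key lemma** (note §4.2). -/
theorem CfgB.key (h : CfgB G p a Q w) (h1 : Pone p Q = ⊥)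
    (hK : ∀ t ∈ Q, t ≠ 1 → Kt p t ≠ ⊥) {t t' : G} {S : Subgroup G}
    (ht : t ∈ Q) (ht1 : t ≠ 1) (hS : StData p a Q t S)
    (ht' : t' ∈ Q) (ht'1 : t' ≠ 1) (hne : t' ≠ t) :
    S ⊓ Subgroup.centralizer ({t'} : Set G) = ⊥ := by
  haveI : Fact p.Prime := ⟨h.hp⟩
  by_contra hD
  set D := S ⊓ Subgroup.centralizer ({t'} : Set G) with hDdef
  set M := Subgroup.normalizer (Q : Set G) with hM
  have hKne : Kt p t ≠ ⊥ := hK t ht ht1
  have hSne : S ≠ ⊥ := fun e => hKne (le_bot_iff.mp (e ▸ hS.le))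
  have hSab := h.pab S hS.pgroup
  -- `S ≤ M` is impossible
  have hSM : ∀ X : Subgroup G, X ≤ M → ¬ S ≤ X := by
    intro X hXM hSX
    exact hKne (h.kt_eq_bot_of_le_norm h1 ht ht1 hXM (hS.le.trans hSX))
  have hDp : IsPGroup p D := hS.pgroup.to_le inf_le_left
  set Z := Subgroup.normalizer (D : Set G) with hZ
  have hZtop : Z ≠ ⊤ := h.nloc D hD (h.pgroup_ne_top hDp)
  have hSZ : S ≤ Z := by
    intro x hx
    apply Subgroup.centralizer_le_normalizer
    rw [Subgroup.mem_centralizer_iff]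
    intro d hd
    exact hSab d hd.1 x hx
  set K' := Kt p t' with hK'
  have hK'p : IsPGroup p K' := h.kt_pgroup t' ht' ht'1
  have hDK' : D ≤ K' := by
    intro x hx
    obtain ⟨k, hk⟩ := (IsPGroup.iff_orderOf.mp hS.pgroup) ⟨x, hx.1⟩
    rw [Subgroup.orderOf_mk] at hk
    exact mem_Kt (Subgroup.mem_centralizer_singleton_iff.mp hx.2) ⟨k, hk⟩
  have hK'Z : K' ≤ Z := by
    intro x hx
    apply Subgroup.centralizer_le_normalizer
    rw [Subgroup.mem_centralizer_iff]
    intro d hd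
    exact h.pab K' hK'p d (hDK' hd) x hx
  have hQZ : Q ≤ Z := by
    intro q hq
    have hqS := hS.qnorm hq
    have hqC : q ∈ Subgroup.centralizer ({t'} : Set G) := h.Q_le_cent_t ht' hq
    rw [Subgroup.mem_normalizer_iff]
    intro n
    constructor
    · rintro ⟨hn1, hn2⟩
      exact ⟨(Subgroup.mem_normalizer_iff.mp hqS n).mp hn1,
        Subgroup.mul_mem _ (Subgroup.mul_mem _ hqC hn2) (Subgroup.inv_mem _ hqC)⟩
    · rintro ⟨hn1, hn2⟩
      refine ⟨(Subgroup.mem_normalizer_iff.mp hqS n).mpr hn1, ?_⟩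
      have := Subgroup.mul_mem _ (Subgroup.mul_mem _ (Subgroup.inv_mem _ hqC) hn2) hqC
      simpa [mul_assoc] using this
  have hMZ : ¬ M ≤ Z := by
    intro hle
    have hZM : Z = M := h.norm_max Z hle hZtop
    exact hSM Z (le_of_eq hZM) hSZ
  obtain ⟨R, hRZ, hZR, hRp, hRcard, hRall⟩ := h.normal_compl h1 Z hQZ hZtop hMZ
  have pelt : ∀ {X : Subgroup G}, IsPGroup p X → X ≤ Z → X ≤ R := by
    intro X hXp hXZ x hx
    obtain ⟨k, hk⟩ := (IsPGroup.iff_orderOf.mp hXp) ⟨x, hx⟩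
    rw [Subgroup.orderOf_mk] at hk
    exact hRall x (hXZ hx) ⟨k, hk⟩
  have hSR : S ≤ R := pelt hS.pgroup hSZ
  have hK'R : K' ≤ R := pelt hK'p hK'Z
  -- `R = S`
  have hRS : R = S := by
    symm
    apply Subgroup.eq_of_le_of_card_ge hSR
    obtain ⟨P3, hP3⟩ := hRp.exists_le_sylow
    have c3 : Nat.card (P3 : Subgroup G) = p ^ (Nat.card G).factorization p :=
      P3.card_eq_multiplicity
    rw [hS.card, ← c3]
    exact Nat.le_of_dvd Nat.card_pos (Subgroup.card_dvd_of_le hP3)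
  have hK'S : K' ≤ S := hRS ▸ hK'R
  -- `S = S'`
  obtain ⟨S', hS'⟩ := h.exists_St h1 ht' ht'1 (hK t' ht' ht'1)
  have hSS' : S = S' := by
    apply Subgroup.eq_of_le_of_card_ge (hS'.uniq S hS.pgroup hK'S)
    rw [hS.card, hS'.card]
  -- conjugate by a power of `w`
  obtain ⟨i, hi⟩ := h.wtr t ht ht1 t' ht' ht'1
  set g := w ^ i with hg
  have hconj : Kt p t' = (Kt p t).map (MulAut.conj g).toMonoidHom := by
    rw [← hi]; exact Kt_conj p t g
  set Sg := S.map (MulAut.conj g).toMonoidHom with hSg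
  have hSgp : IsPGroup p Sg := hS.pgroup.map _
  have hSgcard : Nat.card Sg = Nat.card S :=
    Nat.card_congr (S.equivMapOfInjective _ (MulAut.conj g).injective).symm.toEquiv
  have hSgS : Sg = S := by
    have h2 : Kt p t' ≤ Sg := by rw [hconj]; exact Subgroup.map_mono hS.le
    have h3 : Sg ≤ S' := hS'.uniq Sg hSgp h2
    rw [hSS']
    apply Subgroup.eq_of_le_of_card_ge h3
    rw [hSgcard, hS.card, hS'.card]
  have hgS : g ∈ Subgroup.normalizer (S : Set G) := by
    apply mem_normalizer_of_conj_mem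
    intro x hx
    have : g * x * g⁻¹ ∈ Sg := ⟨x, hx, by simp [MulAut.conj_apply]⟩
    rwa [hSgS] at this
  have hgM : g ∈ M := h.w_pow_mem_normalizer i
  have hgQ : g ∉ Q := by
    intro hgQ
    apply hne
    rw [← hi]
    have := h.Qab g hgQ t ht
    rw [this]; group
  set Z2 := Subgroup.normalizer (S : Set G) with hZ2
  have hMZ2 : M ≤ Z2 := h.norm_le_of_mem h1 Z2 hS.qnorm hgS hgM hgQ
  have hZ2top : Z2 ≠ ⊤ := h.nloc S hSne (h.pgroup_ne_top hS.pgroup)
  have hZ2M : Z2 = M := h.norm_max Z2 hMZ2 hZ2top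
  exact hSM Z2 (le_of_eq hZ2M) Subgroup.le_normalizer

end Cfsg.Agent.Lib.Lead.Mix
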