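import Cfsg.Agent.Lib.Lead.MixP5d

/-!
# S4017, package P5 (part e): the structure theorem (note §4.3, §4.4)
-/

namespace Cfsg.Agent.Lib.Lead.Mix

universe u

variable {G : Type u} [Group G] [Finite G] {p a : ℕ} {Q : Subgroup G} {w : G}

theorem CfgB.Q_not_cyclic (h : CfgB G p a Q w) : ¬ IsCyclic Q := by
  intro hc
  obtain ⟨g, hg⟩ := hc.exists_generator
  have h1 : orderOf g = Nat.card Q := orderOf_eq_card_of_forall_mem_zpowers hg
  have h2 : g ^ 2 = 1 := Subtype.ext (by simpa using h.Qexp g g.2)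
  have h3 : orderOf g ∣ 2 := orderOf_dvd_of_pow_eq_one h2
  have h4 : 4 ≤ Nat.card Q := by
    rw [h.Qcard]
    calc 4 = 2 ^ 2 := by norm_num
      _ ≤ 2 ^ a := Nat.pow_le_pow_right (by norm_num) h.ha
  have := Nat.le_of_dvd (by norm_num) h3
  omega

/-- `S_t = K_t` (note §4.3) -/
theorem CfgB.St_eq_Kt (h : CfgB G p a Q w) (h1 : Pone p Q = ⊥)
    (hK : ∀ t ∈ Q, t ≠ 1 → Kt p t ≠ ⊥) {t : G} {S : Subgroup G}
    (ht : t ∈ Q) (ht1 : t ≠ 1) (hS : StData p a Q t S) : S = Kt p t := by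
  haveI : IsMulCommutative Q := ⟨⟨fun x y => Subtype.ext (h.Qab x x.2 y y.2)⟩⟩
  haveI : Fact p.Prime := ⟨h.hp⟩
  have hcop : (Nat.card Q).Coprime (Nat.card S) := by
    rw [h.Qcard, hS.card]; exact h.coprime_two_p _ _
  have hgen := Cfsg.Agent.Lib.Lead.generated_by_centralizers Q S h.Q_not_cyclic hS.qnorm hcop
  apply le_antisymm _ hS.le
  rw [← hgen]
  apply iSup₂_le
  rintro u ⟨huQ, hu1⟩
  by_cases hut : u = t
  · subst hut
    intro x hx
    obtain ⟨k, hk⟩ := (IsPGroup.iff_orderOf.mp hS.pgroup) ⟨x, hx.1⟩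
    rw [Subgroup.orderOf_mk] at hk
    exact mem_Kt (Subgroup.mem_centralizer_singleton_iff.mp hx.2) ⟨k, hk⟩
  · rw [h.key h1 hK ht ht1 hS huQ hu1 hut]
    exact bot_le

/-- **P5**: the structure in Case IIb. -/
theorem caseIIb_struct (h : CfgB G p a Q w) (h1 : Pone p Q = ⊥)
    (hK : ∀ t ∈ Q, t ≠ 1 → Kt p t ≠ ⊥) :
    a = 2 ∧ ∀ t ∈ Q, t ≠ 1 → (Nat.card (Kt p t) = p ^ (Nat.card G).factorization p ∧
      Subgroup.normalizer (Kt p t : Set G) = Subgroup.centralizer {t} ∧
      ∀ t' ∈ Q, t' ≠ 1 → t' ≠ t → ∀ x ∈ Kt p t, t' * x * t'⁻¹ = x⁻¹) := by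
  haveI : Fact p.Prime := ⟨h.hp⟩
  -- the third part first
  have inv : ∀ t ∈ Q, t ≠ 1 → ∀ t' ∈ Q, t' ≠ 1 → t' ≠ t → ∀ x ∈ Kt p t,
      t' * x * t'⁻¹ = x⁻¹ := by
    intro t ht ht1 t' ht' ht'1 hne x hx
    obtain ⟨S, hS⟩ := h.exists_St h1 ht ht1 (hK t ht ht1)
    have hSK := h.St_eq_Kt h1 hK ht ht1 hS
    have hkey := h.key h1 hK ht ht1 hS ht' ht'1 hne
    rw [hSK] at hkey
    have hab := h.pab (Kt p t) (h.kt_pgroup t ht ht1)
    -- `t'` normalizes `K_t`
    have hnorm : t' ∈ Subgroup.normalizer (Kt p t : Set G) :=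
      cent_le_normalizer_Kt p t (h.Q_le_cent_t ht ht')
    have hx' : t' * x * t'⁻¹ ∈ Kt p t := (Subgroup.mem_normalizer_iff.mp hnorm x).mp hx
    have ht'2 : t'⁻¹ = t' := by
      have := h.Qexp t' ht'; rw [pow_two] at this; exact inv_eq_of_mul_eq_one_left this
    -- `y = x * x^{t'}` is fixed by `t'`
    set y := x * (t' * x * t'⁻¹) with hy
    have hyK : y ∈ Kt p t := Subgroup.mul_mem _ hx hx'
    have hyc : y * t' = t' * y := by
      have e1 : t' * y * t'⁻¹ = (t' * x * t'⁻¹) * x := by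
        rw [hy, ht'2]
        have : t' * t' = 1 := by rw [← pow_two]; exact h.Qexp t' ht'
        calc t' * (x * (t' * x * t')) * t' = (t' * x * t') * x * (t' * t') := by group
          _ = (t' * x * t') * x := by rw [this, mul_one]
      have e2 : (t' * x * t'⁻¹) * x = y := by rw [hy]; exact hab _ hx' _ hx
      have e3 : t' * y * t'⁻¹ = y := e1.trans e2
      calc y * t' = (t' * y * t'⁻¹) * t' := by rw [e3]
        _ = t' * y := by group
    have hy1 : y ∈ Kt p t ⊓ Subgroup.centralizer ({t'} : Set G) :=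
      ⟨hyK, Subgroup.mem_centralizer_singleton_iff.mpr hyc⟩
    rw [hkey, Subgroup.mem_bot] at hy1
    exact (eq_inv_of_mul_eq_one_right hy1)
  constructor
  · -- `a = 2`
    by_contra ha2
    have ha3 : 3 ≤ a := by have := h.ha; omega
    have hcard8 : 8 ≤ Nat.card Q := by
      rw [h.Qcard]
      calc 8 = 2 ^ 3 := by norm_num
        _ ≤ 2 ^ a := Nat.pow_le_pow_right (by norm_num) ha3
    classical
    haveI := Fintype.ofFinite Q
    -- choose `t`, `t1`, `t2`
    obtain ⟨t, ht1⟩ : ∃ t : Q, t ≠ 1 := by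
      by_contra hall
      push Not at hall
      have : Nat.card Q ≤ 1 := by
        rw [Nat.card_eq_fintype_card]
        exact Fintype.card_le_one_iff.mpr (fun x y => (hall x).trans (hall y).symm)
      omega
    obtain ⟨t1, ht1a⟩ : ∃ t1 : Q, t1 ∉ ({1, t} : Finset Q) := by
      by_contra hall
      push Not at hall
      have : Fintype.card Q ≤ ({1, t} : Finset Q).card := by
        rw [← Finset.card_univ]
        exact Finset.card_le_card (fun x _ => hall x)
      have h2 : ({1, t} : Finset Q).card ≤ 2 := Finset.card_le_two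
      rw [Nat.card_eq_fintype_card] at hcard8
      omega
    obtain ⟨t2, ht2a⟩ : ∃ t2 : Q, t2 ∉ ({1, t, t1, t * t1} : Finset Q) := by
      by_contra hall
      push Not at hall
      have : Fintype.card Q ≤ ({1, t, t1, t * t1} : Finset Q).card := by
        rw [← Finset.card_univ]
        exact Finset.card_le_card (fun x _ => hall x)
      have h2 : ({1, t, t1, t * t1} : Finset Q).card ≤ 4 := Finset.card_le_four
      rw [Nat.card_eq_fintype_card] at hcard8
      omega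
    simp only [Finset.mem_insert, Finset.mem_singleton, not_or] at ht1a ht2a
    obtain ⟨h11, h1t⟩ := ht1a
    obtain ⟨h21, h2t, h2t1, h2tt1⟩ := ht2a
    have htG : (t : G) ≠ 1 := fun e => ht1 (Subtype.ext e)
    have c1 : (t1 : G) ≠ 1 := fun e => h11 (Subtype.ext e)
    have c2 : (t1 : G) ≠ t := fun e => h1t (Subtype.ext e)
    have c3 : (t2 : G) ≠ 1 := fun e => h21 (Subtype.ext e)
    have c4 : (t2 : G) ≠ t := fun e => h2t (Subtype.ext e)
    have sq : ∀ z : Q, z * z = 1 := fun z => Subtype.ext (by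
      have := h.Qexp z z.2; rw [pow_two] at this; simpa using this)
    have c5 : ((t1 * t2 : Q) : G) ≠ 1 := by
      intro e
      have e' : t1 * t2 = 1 := Subtype.ext e
      apply h2t1
      calc t2 = t1 * (t1 * t2) := by rw [← mul_assoc, sq, one_mul]
        _ = t1 := by rw [e', mul_one]
    have c6 : ((t1 * t2 : Q) : G) ≠ t := by
      intro e
      have e' : t1 * t2 = t := Subtype.ext e
      apply h2tt1
      have hcomm : t * t1 = t1 * t := Subtype.ext (h.Qab t t.2 t1 t1.2)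
      calc t2 = t1 * (t1 * t2) := by rw [← mul_assoc, sq, one_mul]
        _ = t1 * t := by rw [e']
        _ = t * t1 := hcomm.symm
    -- a non-trivial element of `K_t`
    have hKne := hK t t.2 htG
    obtain ⟨⟨x, hx⟩, hx1'⟩ := (Subgroup.ne_bot_iff_exists_ne_one).mp hKne
    have hx1 : x ≠ 1 := fun e => hx1' (Subtype.ext e)
    have i1 := inv t t.2 htG t1 t1.2 c1 c2 x hx
    have i2 := inv t t.2 htG t2 t2.2 c3 c4
    have i3 := inv t t.2 htG (t1 * t2 : Q) (t1 * t2 : Q).2 c5 c6 x hx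
    have hxinv : x⁻¹ ∈ Kt p (t : G) := Subgroup.inv_mem _ hx
    have i2' := i2 x⁻¹ hxinv
    -- `t1 t2` acts as the product of two inversions
    have e : ((t1 * t2 : Q) : G) * x * ((t1 * t2 : Q) : G)⁻¹ = x := by
      have : ((t1 * t2 : Q) : G) * x * ((t1 * t2 : Q) : G)⁻¹
          = (t2 : G) * ((t1 : G) * x * (t1 : G)⁻¹) * (t2 : G)⁻¹ := by
        have hcomm : (t1 : G) * t2 = t2 * t1 := h.Qab t1 t1.2 t2 t2.2
        rw [Subgroup.coe_mul, hcomm]; group
      rw [this, i1, i2', inv_inv]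
    rw [e] at i3
    -- `x = x⁻¹`, odd order
    have hx2 : x ^ 2 = 1 := by
      rw [pow_two]
      calc x * x = x * x⁻¹ := by rw [← i3]
        _ = 1 := mul_inv_cancel x
    obtain ⟨k, hk⟩ := (IsPGroup.iff_orderOf.mp (h.kt_pgroup t t.2 htG)) ⟨x, hx⟩
    rw [Subgroup.orderOf_mk] at hk
    have hd : orderOf x ∣ 2 := orderOf_dvd_of_pow_eq_one hx2
    have hd' : orderOf x ∣ p ^ k := hk ▸ dvd_rfl
    have h1' := Nat.eq_one_of_dvd_coprimes (by simpa using h.coprime_two_p 1 k) hd hd'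
    exact hx1 (orderOf_eq_one_iff.mp h1')
  · intro t ht ht1
    obtain ⟨S, hS⟩ := h.exists_St h1 ht ht1 (hK t ht ht1)
    have hSK := h.St_eq_Kt h1 hK ht ht1 hS
    refine ⟨by rw [← hSK]; exact hS.card, ?_, inv t ht ht1⟩
    symm
    apply Subgroup.eq_of_le_of_card_ge (cent_le_normalizer_Kt p t)
    rw [hS.ncard, h.kt_card t ht ht1, hSK, mul_comm]

end Cfsg.Agent.Lib.Lead.Mix
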