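import Mathlib
import Cfsg.Prelude
import Cfsg.Agent.Lib.Helper9.ModelUniq3
import Cfsg.Agent.Lib.Helper9.FusionAut
import Cfsg.Agent.Lib.Helper9.FusionNormal6
import Cfsg.Agent.Lib.Lead.PSolvExt
import Cfsg.Agent.Lib.Lead.SolvPSolv
import Cfsg.Agent.Lib.Helper2.SL2PSolv

set_option autoImplicit false

/-!
# Models and `p`-solvability: the automizer of a normal self-centralizing subgroup
-/

namespace Cfsg.Agent.LeadModelPS

open Cfsg Cfsg.FusionSystem

universe u v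

variable {Ω : Type u} [Group Ω] {S : Subgroup Ω} (F : FusionSystem S)
variable {G : Type v} [Group G] (ι : S →* G) (hι : F.IsRealizedBy ι)
variable (Q : Subgroup Ω) (hQS : Q ≤ S)

/-- the map `Q → ι(Q)`. -/
def eHom : Q →* ((Q.subgroupOf S).map ι : Subgroup G) where
  toFun x := ⟨ι ⟨x, hQS x.2⟩, ⟨⟨x, hQS x.2⟩, x.2, rfl⟩⟩
  map_one' := by
    apply Subtype.ext
    show ι ⟨((1 : Q) : Ω), _⟩ = 1
    have : (⟨((1 : Q) : Ω), hQS (1 : Q).2⟩ : S) = 1 := rfl
    rw [this, map_one]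
  map_mul' := by
    intro x y
    apply Subtype.ext
    show ι ⟨((x * y : Q) : Ω), _⟩ = ι ⟨x, _⟩ * ι ⟨y, _⟩
    rw [← map_mul]
    rfl

include hι in
theorem eHom_bijective : Function.Bijective (eHom ι Q hQS) := by
  constructor
  · intro x y hxy
    have h1 : ι ⟨x, hQS x.2⟩ = ι ⟨y, hQS y.2⟩ := congrArg Subtype.val hxy
    have h2 := hι.1 h1
    apply Subtype.ext
    exact congrArg (fun s : S => (s : Ω)) h2
  · rintro ⟨_, ⟨s, hs, rfl⟩⟩
    exact ⟨⟨s, hs⟩, rfl⟩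

/-- the isomorphism `Q ≃ ι(Q)`. -/
noncomputable def eQ : Q ≃* ((Q.subgroupOf S).map ι : Subgroup G) :=
  MulEquiv.ofBijective (eHom ι Q hQS) (eHom_bijective F ι hι Q hQS)

theorem eQ_coe (x : Q) : ((eQ F ι hι Q hQS x : ((Q.subgroupOf S).map ι : Subgroup G)) : G) = ι ⟨x, hQS x.2⟩ := rfl

variable [hn : ((Q.subgroupOf S).map ι).Normal]

/-- the automorphism of `Q` induced by `g ∈ G`. -/
noncomputable def autOf : G →* MulAut Q :=
  (MulAut.congr (eQ F ι hι Q hQS).symm).toMonoidHom.comp MulAut.conjNormal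

theorem autOf_spec (g : G) (x : Q) :
    ι ⟨(autOf F ι hι Q hQS g x : Q), hQS (autOf F ι hι Q hQS g x).2⟩ = g * ι ⟨x, hQS x.2⟩ * g⁻¹ := by
  rw [← eQ_coe F ι hι Q hQS, ← eQ_coe F ι hι Q hQS x]
  have : eQ F ι hι Q hQS (autOf F ι hι Q hQS g x) = MulAut.conjNormal g (eQ F ι hι Q hQS x) := by
    simp [autOf, MulAut.congr]
  rw [this]
  simp

theorem autOf_mem (g : G) : autOf F ι hι Q hQS g ∈ F.autGroup Q := by
  rw [Cfsg.Agent.Lib.Helper9.mem_autGroup_iff F hQS]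
  have hS : ∀ x : Q, (Q.subtype.comp (autOf F ι hι Q hQS g).toMonoidHom) x ∈ S :=
    fun x => hQS (autOf F ι hι Q hQS g x).2
  rw [hι.2 Q hQS _ hS]
  exact ⟨g, fun x => autOf_spec F ι hι Q hQS g x⟩

theorem autOf_surj (β : MulAut Q) (hβ : β ∈ F.autGroup Q) : ∃ g : G, autOf F ι hι Q hQS g = β := by
  rw [Cfsg.Agent.Lib.Helper9.mem_autGroup_iff F hQS] at hβ
  have hS : ∀ x : Q, (Q.subtype.comp β.toMonoidHom) x ∈ S := fun x => hQS (β x).2
  obtain ⟨g, hg⟩ := (hι.2 Q hQS _ hS).mp hβ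
  refine ⟨g, ?_⟩
  ext x
  have h1 := autOf_spec F ι hι Q hQS g x
  have h2 := hg x
  rw [← h2] at h1
  have h3 := hι.1 h1
  exact congrArg (fun s : S => (s : Ω)) h3

theorem autOf_ker_le : (autOf F ι hι Q hQS).ker ≤
    Subgroup.centralizer (((Q.subgroupOf S).map ι : Subgroup G) : Set G) := by
  intro g hg
  rw [MonoidHom.mem_ker] at hg
  rw [Subgroup.mem_centralizer_iff]
  rintro _ ⟨s, hs, rfl⟩
  have h1 := autOf_spec F ι hι Q hQS g ⟨s, hs⟩
  rw [hg] at h1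
  simp only [MulAut.one_apply] at h1
  have h2 : ι s = g * ι s * g⁻¹ := h1
  calc ι s * g = g * ι s * g⁻¹ * g := by rw [← h2]
    _ = g * ι s := by group

/-- the induced map onto `Aut_F(Q)`. -/
noncomputable def autOf' : G →* F.autGroup Q :=
  (autOf F ι hι Q hQS).codRestrict (F.autGroup Q) (autOf_mem F ι hι Q hQS)

theorem autOf'_surjective : Function.Surjective (autOf' F ι hι Q hQS) := by
  rintro ⟨β, hβ⟩
  obtain ⟨g, hg⟩ := autOf_surj F ι hι Q hQS β hβ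
  exact ⟨g, Subtype.ext hg⟩

theorem autOf'_ker : (autOf' F ι hι Q hQS).ker = (autOf F ι hι Q hQS).ker := by
  ext g
  simp only [MonoidHom.mem_ker, autOf']
  constructor
  · intro h
    exact congrArg Subtype.val h
  · intro h
    exact Subtype.ext h

end Cfsg.Agent.LeadModelPS
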