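import Mathlib
import Cfsg.Prelude
import Cfsg.Agent.Lib.Lead.ModelPS
import Cfsg.Agent.Lib.Helper9.Realize4
import Cfsg.Agent.Lib.Helper4.HallHigman
import Cfsg.Agent.Lib.Helper4.SolvBalance
import Cfsg.Agent.Lib.Helper7.PSolvable
import Cfsg.Agent.Lib.Helper6.PPrimeCore

set_option autoImplicit false

/-!
# Models and `p`-solvability
-/

namespace Cfsg.Agent.LeadModelPS

open Cfsg Cfsg.FusionSystem

universe u v

variable {Ω : Type u} [Group Ω] {S : Subgroup Ω} (F : FusionSystem S)
variable {G : Type v} [Group G] (ι : S →* G) (hι : F.IsRealizedBy ι)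
variable (Q : Subgroup Ω) (hQS : Q ≤ S)
variable [hn : ((Q.subgroupOf S).map ι).Normal]

include hι hQS in
/-- if `G` is `p`-solvable then so is `Aut_F(Q)` for `ι(Q)` normal in `G`. -/
theorem aut_psolv_of_psolv (p : ℕ) [Fact p.Prime] (hG : IsPSolvable p G) : IsPSolvable p (F.autGroup Q) :=
  Cfsg.Agent.Lib.Helper2.SL2Sections.isPSolvable_of_surj (autOf' F ι hι Q hQS) (autOf'_surjective F ι hι Q hQS) hG

include hι hQS in
/-- if `Aut_F(Q)` is `p`-solvable and `ι(Q)` is normal and self-centralizing in `G` then `G` is `p`-solvable. -/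
theorem psolv_of_aut [Finite G] (p : ℕ) [Fact p.Prime] (hS : IsPGroup p S)
    (hc : Subgroup.centralizer (((Q.subgroupOf S).map ι : Subgroup G) : Set G) ≤ (Q.subgroupOf S).map ι)
    (hA : IsPSolvable p (F.autGroup Q)) : IsPSolvable p G := by
  let f := autOf' F ι hι Q hQS
  have hsurj : Function.Surjective f := autOf'_surjective F ι hι Q hQS
  have hkp : IsPGroup p f.ker := by
    have h1 : f.ker ≤ (Q.subgroupOf S).map ι := by
      show (autOf' F ι hι Q hQS).ker ≤ _
      rw [autOf'_ker]
      exact (autOf_ker_le F ι hι Q hQS).trans hc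
    have h2 : IsPGroup p ((Q.subgroupOf S).map ι : Subgroup G) := (hS.to_subgroup _).map ι
    exact h2.to_le h1
  have hq : IsPSolvable p (G ⧸ f.ker) :=
    Cfsg.Agent.Lib.Helper2.SL2Sections.isPSolvable_of_surj
      (QuotientGroup.quotientKerEquivOfSurjective f hsurj).symm.toMonoidHom
      (QuotientGroup.quotientKerEquivOfSurjective f hsurj).symm.surjective hA
  exact Cfsg.Agent.Lib.Lead.SolvPSolv.isPSolvable_of_quotient f.ker
    (Or.inl (IsPGroup.iff_card.mp hkp)) hq

end Cfsg.Agent.LeadModelPS
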