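import Mathlib
import Cfsg.Prelude.Def_LocalStructure
import Cfsg.Agent.Lib.Lead.SylowNum3
import Cfsg.Agent.Lib.Lead.CoprimeSylow3

set_option autoImplicit false
set_option linter.style.haveILetI false

/-!
Minimal non-`p`-closed groups: if every proper subgroup and every proper quotient of `H` has a
normal Sylow `p`-subgroup but `H` has not, then `H` is simple or `p * m ≤ |H|` for some prime
power `m ≡ 1 (mod p)`.
-/

namespace Cfsg.Agent.Lib.Lead.NPC

open Subgroup

variable {H : Type*} [Group H] [Finite H] {p : ℕ} [hp : Fact p.Prime]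

/-- a Sylow `p`-subgroup which is normal in a normal subgroup containing it is normal -/
theorem sylow_normal_of_le_normal (P : Sylow p H) (L : Subgroup H) [L.Normal]
    (hPL : (P : Subgroup H) ≤ L) (hn : ((P : Subgroup H).subgroupOf L).Normal) :
    (P : Subgroup H).Normal := by
  rw [← normalizer_eq_top_iff]
  have h1 : normalizer ((P : Subgroup H) : Set H) ⊔ L = ⊤ := Sylow.normalizer_sup_eq_top' P hPL
  have h2 : L ≤ normalizer ((P : Subgroup H) : Set H) :=
    (Subgroup.normal_subgroupOf_iff_le_normalizer hPL).mp hn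
  rw [sup_eq_left.mpr h2] at h1
  exact h1

/-- in a minimal non-`p`-closed group every proper quotient is a `p`-group -/
theorem isPGroup_quotient_of_min (P : Sylow p H) (hP : ¬ (P : Subgroup H).Normal)
    (hsub : ∀ K : Subgroup H, K ≠ ⊤ → Cfsg.IsPClosed p K)
    (N : Subgroup H) [N.Normal] (hquot : Cfsg.IsPClosed p (H ⧸ N)) : IsPGroup p (H ⧸ N) := by
  set S : Sylow p (H ⧸ N) := P.mapSurjective (QuotientGroup.mk'_surjective N) with hS
  have hSn : (S : Subgroup (H ⧸ N)).Normal := hquot S
  set L := (S : Subgroup (H ⧸ N)).comap (QuotientGroup.mk' N) with hL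
  haveI hLn : L.Normal := hSn.comap _
  have hPL : (P : Subgroup H) ≤ L := by
    intro x hx
    rw [hL, Subgroup.mem_comap, hS, Sylow.coe_mapSurjective]
    exact Subgroup.mem_map_of_mem _ hx
  have hLtop : L = ⊤ := by
    by_contra hne
    have hcl := hsub L hne
    have h1 := hcl (P.subtype hPL)
    rw [Sylow.coe_subtype] at h1
    exact hP (sylow_normal_of_le_normal P L hPL h1)
  have hStop : (S : Subgroup (H ⧸ N)) = ⊤ := by
    rw [eq_top_iff]
    intro x _
    obtain ⟨y, rfl⟩ := QuotientGroup.mk'_surjective N x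
    have : y ∈ L := by rw [hLtop]; trivial
    exact this
  have h2 := S.isPGroup'
  intro x
  obtain ⟨k, hk⟩ := h2 ⟨x, by rw [hStop]; trivial⟩
  exact ⟨k, by simpa using congrArg Subtype.val hk⟩

/-- a `p`-group acting coprimely and nontrivially on `N` yields a prime power `≡ 1 (mod p)` which
is at most `|N|` -/
theorem exists_primePow_le (P N : Subgroup H) (hPp : IsPGroup p P)
    (hPN : P ≤ normalizer (N : Set H)) (hcop : (Nat.card P).Coprime (Nat.card N))
    (hnot : ¬ N ≤ centralizer (P : Set H)) :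
    ∃ k : ℕ, IsPrimePow k ∧ k % p = 1 ∧ k ≤ Nat.card N := by
  classical
  have hsolv : Group.IsSolvable P := by
    haveI := hPp.isNilpotent
    infer_instance
  -- `P` is nontrivial, so `p ∣ |P|`
  have hPne : P ≠ ⊥ := by
    rintro rfl
    apply hnot
    intro x _
    rw [mem_centralizer_iff]
    intro y hy
    have : y = 1 := by simpa using hy
    rw [this]; simp
  have hpP : p ∣ Nat.card P := by
    obtain ⟨n, hn⟩ := IsPGroup.iff_card.mp hPp
    rcases Nat.eq_zero_or_pos n with h0 | h0
    · exfalso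
      rw [h0, pow_zero] at hn
      exact hPne (Subgroup.card_eq_one.mp hn)
    · rw [hn]; exact dvd_pow_self p h0.ne'
  have hpN : ¬ p ∣ Nat.card N := by
    intro h
    have := Nat.dvd_gcd hpP h
    rw [Nat.Coprime.gcd_eq_one hcop] at this
    exact hp.out.one_lt.ne' (Nat.dvd_one.mp this)
  -- some invariant Sylow subgroup of `N` is not centralized
  obtain ⟨t, ht, S, hSnorm, hScent⟩ : ∃ t : ℕ, ∃ _ : Fact t.Prime, ∃ S : Sylow t N,
      P ≤ normalizer ((S : Subgroup N).map N.subtype : Set H) ∧
      ¬ (S : Subgroup N).map N.subtype ≤ centralizer (P : Set H) := by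
    by_contra hcon
    push Not at hcon
    apply hnot
    set C := N ⊓ centralizer (P : Set H) with hC
    have hdvd : Nat.card N ∣ Nat.card C := by
      rw [← Nat.factorization_prime_le_iff_dvd Nat.card_pos.ne' Nat.card_pos.ne']
      intro t ht
      haveI : Fact t.Prime := ⟨ht⟩
      obtain ⟨S, hS⟩ := Cfsg.Agent.Lib.Lead.coprime_invariant_sylow_exists P N hPN hcop
        (Or.inl hsolv) t
      have h1 := hcon t ⟨ht⟩ S hS
      have h2 : (S : Subgroup N).map N.subtype ≤ C := le_inf (Subgroup.map_subtype_le _) h1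
      have h3 : Nat.card ((S : Subgroup N).map N.subtype) = t ^ (Nat.card N).factorization t := by
        rw [Subgroup.card_map_of_injective N.subtype_injective]
        exact S.card_eq_multiplicity
      have h4 := Subgroup.card_dvd_of_le h2
      rw [h3] at h4
      exact (ht.pow_dvd_iff_le_factorization Nat.card_pos.ne').mp h4
    have hle : C ≤ N := inf_le_left
    have hCN : C = N := Subgroup.eq_of_le_of_card_ge hle (Nat.le_of_dvd Nat.card_pos hdvd)
    rw [← hCN]
    exact inf_le_right
  haveI := ht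
  set R := (S : Subgroup N).map N.subtype with hR
  have hRN : R ≤ N := Subgroup.map_subtype_le _
  have hRt : IsPGroup t R := S.isPGroup'.map _
  have hcong := Cfsg.Agent.Lib.Lead.SylowNum.card_modEq_card_inf_centralizer p P R hPp hSnorm
  set C := R ⊓ centralizer (P : Set H) with hC
  have hCR : C ≤ R := inf_le_left
  have hCne : C ≠ R := by
    intro h
    apply hScent
    rw [← h]
    exact inf_le_right
  obtain ⟨b, hb⟩ := IsPGroup.iff_card.mp hRt
  obtain ⟨c, hc⟩ := IsPGroup.iff_card.mp (hRt.to_le hCR)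
  have hlt : Nat.card C < Nat.card R := by
    rcases Nat.lt_or_ge (Nat.card C) (Nat.card R) with h | h
    · exact h
    · exact absurd (Subgroup.eq_of_le_of_card_ge hCR h) hCne
  rw [hb, hc] at hlt
  have hcb : c < b := (Nat.pow_lt_pow_iff_right ht.out.one_lt).mp hlt
  -- `t ≠ p`
  have htp : t ≠ p := by
    rintro rfl
    apply hpN
    have h1 : t ∣ Nat.card R := by
      rw [hb]; exact dvd_pow_self t (by omega)
    exact h1.trans (Subgroup.card_dvd_of_le hRN)
  have hcop' : Nat.Coprime p t := (Nat.coprime_primes hp.out ht.out).mpr (Ne.symm htp)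
  rw [hb, hc] at hcong
  -- `t ^ b ≡ t ^ c`, so `t ^ (b - c) ≡ 1`
  have h5 : t ^ c * t ^ (b - c) ≡ t ^ c * 1 [MOD p] := by
    rw [← pow_add, Nat.add_sub_cancel' hcb.le, mul_one]
    exact hcong
  have h6 : t ^ (b - c) ≡ 1 [MOD p] :=
    Nat.ModEq.cancel_left_of_coprime (by
      rw [Nat.coprime_comm] at hcop'
      exact (Nat.Coprime.pow_left c hcop').symm.gcd_eq_one ▸ rfl) h5
  refine ⟨t ^ (b - c), ⟨t, b - c, ht.out.prime, by omega, rfl⟩, ?_, ?_⟩
  · have := h6
    unfold Nat.ModEq at this
    rw [this, Nat.mod_eq_of_lt hp.out.one_lt]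
  · calc t ^ (b - c) ≤ t ^ b := Nat.pow_le_pow_right ht.out.pos (Nat.sub_le _ _)
      _ = Nat.card R := hb.symm
      _ ≤ Nat.card N := Nat.le_of_dvd Nat.card_pos (Subgroup.card_dvd_of_le hRN)

end Cfsg.Agent.Lib.Lead.NPC
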