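import Mathlib
import Cfsg.Agent.Lib.Lead.NPC1

set_option autoImplicit false
set_option linter.style.haveILetI false

/-!
Minimal non-`p`-closed groups with a proper nontrivial normal subgroup have order at least `p * m`.
-/

namespace Cfsg.Agent.Lib.Lead.NPC

open Subgroup

variable {H : Type*} [Group H] [Finite H] {p : ℕ} [hp : Fact p.Prime]

/-- if `H / N` is a `p`-group then `H = P N` for a Sylow `p`-subgroup `P` -/
theorem exists_mul_of_isPGroup_quotient (P : Sylow p H) (N : Subgroup H) [N.Normal]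
    (hq : IsPGroup p (H ⧸ N)) (h : H) : ∃ x ∈ (P : Subgroup H), ∃ n ∈ N, h = x * n := by
  set S : Sylow p (H ⧸ N) := P.mapSurjective (QuotientGroup.mk'_surjective N) with hS
  have hStop : (S : Subgroup (H ⧸ N)) = ⊤ := by
    apply Subgroup.eq_top_of_card_eq
    rw [S.card_eq_multiplicity]
    obtain ⟨k, hk⟩ := IsPGroup.iff_card.mp hq
    rw [hk, Nat.Prime.factorization_pow hp.out]
    simp
  have h1 : (QuotientGroup.mk' N h) ∈ (S : Subgroup (H ⧸ N)) := by rw [hStop]; trivial
  rw [hS, Sylow.coe_mapSurjective] at h1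
  obtain ⟨x, hx, hxh⟩ := h1
  refine ⟨x, hx, x⁻¹ * h, ?_, by group⟩
  rw [← QuotientGroup.eq]
  exact hxh

/-- the nonsimple case of a minimal non-`p`-closed group -/
theorem bound_of_min_nonsimple {m : ℕ} (hleast : ∀ k : ℕ, IsPrimePow k → k % p = 1 → m ≤ k)
    (P : Sylow p H) (hP : ¬ (P : Subgroup H).Normal)
    (hsub : ∀ K : Subgroup H, K ≠ ⊤ → Cfsg.IsPClosed p K)
    (hquot : ∀ N : Subgroup H, ∀ _ : N.Normal, N ≠ ⊥ → Cfsg.IsPClosed p (H ⧸ N))
    (N : Subgroup H) [hNn : N.Normal] (hN1 : N ≠ ⊥) (hN2 : N ≠ ⊤) : p * m ≤ Nat.card H := by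
  classical
  have hq : IsPGroup p (H ⧸ N) := isPGroup_quotient_of_min P hP hsub N (hquot N hNn hN1)
  have hNcl : Cfsg.IsPClosed p N := hsub N hN2
  obtain ⟨Q₀⟩ : Nonempty (Sylow p N) := inferInstance
  have hQ₀n : (Q₀ : Subgroup N).Normal := hNcl Q₀
  set Q := (Q₀ : Subgroup N).map N.subtype with hQ
  have hQn : Q.Normal := by
    rw [← normalizer_eq_top_iff]
    have h1 : normalizer (Q : Set H) ⊔ N = ⊤ := Sylow.normalizer_sup_eq_top Q₀
    have h2 : N ≤ normalizer (Q : Set H) := by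
      intro n hn
      rw [mem_normalizer_iff]
      intro x
      constructor
      · rintro ⟨y, hy, rfl⟩
        exact ⟨(⟨n, hn⟩ : N) * y * (⟨n, hn⟩ : N)⁻¹, hQ₀n.conj_mem y hy _, rfl⟩
      · rintro ⟨y, hy, hyx⟩
        have h3 : (⟨n, hn⟩ : N)⁻¹ * y * (⟨n, hn⟩ : N)⁻¹⁻¹ ∈ (Q₀ : Subgroup N) :=
          hQ₀n.conj_mem y hy _
        refine ⟨_, h3, ?_⟩
        have : (N.subtype y : H) = n * x * n⁻¹ := hyx
        simp only [Subgroup.coe_subtype, Subgroup.coe_mul, Subgroup.coe_inv, inv_inv]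
        rw [Subgroup.coe_subtype] at this
        rw [this]; group
    rw [sup_eq_left.mpr h2] at h1
    exact h1
  -- `Q = ⊥`
  have hQbot : Q = ⊥ := by
    by_contra hQne
    have hq' : IsPGroup p (H ⧸ Q) := isPGroup_quotient_of_min P hP hsub Q (hquot Q hQn hQne)
    have hQp : IsPGroup p Q := Q₀.isPGroup'.map _
    obtain ⟨a, ha⟩ := IsPGroup.iff_card.mp hq'
    obtain ⟨b, hb⟩ := IsPGroup.iff_card.mp hQp
    have hcard : Nat.card H = p ^ (a + b) := by
      rw [Subgroup.card_eq_card_quotient_mul_card_subgroup Q, ha, hb, pow_add]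
    have hPtop : (P : Subgroup H) = ⊤ := by
      apply Subgroup.eq_top_of_card_eq
      rw [P.card_eq_multiplicity, hcard, Nat.Prime.factorization_pow hp.out]
      simp
    apply hP
    rw [hPtop]
    infer_instance
  have hQ₀bot : (Q₀ : Subgroup N) = ⊥ := by
    rw [hQ, Subgroup.map_eq_bot_iff_of_injective _ N.subtype_injective] at hQbot
    exact hQbot
  have hpN : ¬ p ∣ Nat.card N := by
    intro hdvd
    have h1 := Q₀.card_eq_multiplicity
    rw [hQ₀bot, Subgroup.card_bot] at h1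
    have h2 : 1 ≤ (Nat.card N).factorization p :=
      (hp.out.pow_dvd_iff_le_factorization Nat.card_pos.ne').mp (by simpa using hdvd)
    have h3 : p ≤ p ^ (Nat.card N).factorization p := by
      calc p = p ^ 1 := (pow_one p).symm
        _ ≤ _ := Nat.pow_le_pow_right hp.out.pos h2
    have := hp.out.one_lt
    omega
  have hcop : (Nat.card (P : Subgroup H)).Coprime (Nat.card N) := by
    obtain ⟨a, ha⟩ := IsPGroup.iff_card.mp P.isPGroup'
    rw [ha]
    exact Nat.Coprime.pow_left a ((Nat.Prime.coprime_iff_not_dvd hp.out).mpr hpN)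
  have hPN : (P : Subgroup H) ≤ normalizer (N : Set H) := by
    rw [normalizer_eq_top_iff.mpr hNn]; exact le_top
  have hnot : ¬ N ≤ centralizer ((P : Subgroup H) : Set H) := by
    intro hcen
    apply hP
    rw [← normalizer_eq_top_iff, eq_top_iff]
    intro h _
    obtain ⟨x, hx, n, hn, rfl⟩ := exists_mul_of_isPGroup_quotient P N hq h
    apply Subgroup.mul_mem _ (le_normalizer hx)
    exact Subgroup.centralizer_le_normalizer _ (hcen hn)
  obtain ⟨k, hk1, hk2, hk3⟩ := exists_primePow_le (P : Subgroup H) N P.isPGroup' hPN hcop hnot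
  have hmk : m ≤ k := hleast k hk1 hk2
  have hidx : p ≤ Nat.card (H ⧸ N) := by
    obtain ⟨a, ha⟩ := IsPGroup.iff_card.mp hq
    rcases Nat.eq_zero_or_pos a with h0 | h0
    · exfalso
      rw [h0, pow_zero] at ha
      apply hN2
      have : N.index = 1 := ha
      exact Subgroup.index_eq_one.mp this
    · rw [ha]
      calc p = p ^ 1 := (pow_one p).symm
        _ ≤ _ := Nat.pow_le_pow_right hp.out.pos h0
  rw [Subgroup.card_eq_card_quotient_mul_card_subgroup N]
  exact Nat.mul_le_mul hidx (hmk.trans hk3)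

end Cfsg.Agent.Lib.Lead.NPC
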