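import Mathlib
import Cfsg.Prelude.Def_LocalStructure
import Cfsg.Agent.Lib.Helper1.SLCard
import Cfsg.Agent.Lib.Helper1.SL2Torus

set_option autoImplicit false
set_option linter.style.haveILetI false

/-!
Two families of groups whose Sylow `p`-subgroups are not normal: the affine group
`GF(m) ⋊ C_p` of order `p * m` (`m ≡ 1 (mod p)` a prime power) and `PSL₂(p)`.
-/

namespace Cfsg.Agent.Lib.Lead.NPC

open Subgroup

section affine

variable {F : Type} [Field F]

/-- multiplication action of a group of units on the additive group of a field -/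
noncomputable def phiF (U : Subgroup Fˣ) : U →* MulAut (Multiplicative F) :=
  (MulAutMultiplicative F).symm.toMonoidHom.comp ((AddAut.mulLeft (R := F)).comp U.subtype)

theorem phiF_apply (U : Subgroup Fˣ) (u : U) (a : Multiplicative F) :
    phiF U u a = Multiplicative.ofAdd (((u : Fˣ) : F) * Multiplicative.toAdd a) := rfl

theorem exists_nonclosed_affine (p : ℕ) [hp : Fact p.Prime] (m : ℕ) (hm : IsPrimePow m)
    (hm1 : m % p = 1) :
    ∃ (H : Type) (_ : Group H) (_ : Finite H), Nat.card H = p * m ∧ ¬ Cfsg.IsPClosed p H := by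
  classical
  obtain ⟨q, k, hq, hk, rfl⟩ := hm
  haveI : Fact q.Prime := ⟨hq.nat_prime⟩
  have hcardF : Nat.card (GaloisField q k) = q ^ k := GaloisField.card q k hk.ne'
  haveI : Finite (GaloisField q k) := Nat.finite_of_card_ne_zero (by
    rw [hcardF]; exact pow_ne_zero _ hq.nat_prime.ne_zero)
  have hunits : Nat.card (GaloisField q k)ˣ = q ^ k - 1 := by
    rw [Nat.card_units, hcardF]
  have hp1 : 1 % p = 1 := Nat.mod_eq_of_lt hp.out.one_lt
  have hdvd : p ∣ Nat.card (GaloisField q k)ˣ := by
    rw [hunits]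
    exact Nat.dvd_of_mod_eq_zero (Nat.sub_mod_eq_zero_of_mod_eq (by rw [hm1, hp1]))
  obtain ⟨ζ, hζ⟩ := exists_prime_orderOf_dvd_card' p hdvd
  set U : Subgroup (GaloisField q k)ˣ := Subgroup.zpowers ζ with hU
  have hUcard : Nat.card U = p := by rw [hU, Nat.card_zpowers, hζ]
  have hζ1 : ζ ≠ 1 := by
    intro h
    rw [h, orderOf_one] at hζ
    exact hp.out.one_lt.ne' hζ.symm
  let G := Multiplicative (GaloisField q k) ⋊[phiF U] U
  haveI : Finite G := Finite.of_equiv _ SemidirectProduct.equivProd.symm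
  have hcardG : Nat.card G = p * q ^ k := by
    rw [SemidirectProduct.card, hUcard, mul_comm]
    congr 1
  refine ⟨G, inferInstance, inferInstance, hcardG, ?_⟩
  intro hcl
  -- the Sylow subgroup `inr U`
  have hpq : ¬ p ∣ q ^ k := by
    intro h
    have := Nat.mod_eq_zero_of_dvd h
    omega
  have hfac : (Nat.card G).factorization p = 1 := by
    rw [hcardG, Nat.factorization_mul hp.out.ne_zero (pow_ne_zero _ hq.nat_prime.ne_zero),
      Finsupp.add_apply, hp.out.factorization_self, Nat.factorization_eq_zero_of_not_dvd hpq]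
  have hrange : Nat.card (SemidirectProduct.inr : U →* G).range = p := by
    rw [← hUcard]
    exact Nat.card_congr (Equiv.ofInjective _ SemidirectProduct.inr_injective).symm
  let P : Sylow p G := Sylow.ofCard (SemidirectProduct.inr : U →* G).range (by
    rw [hrange, hfac, pow_one])
  have hPn : (P : Subgroup G).Normal := hcl P
  let g : G := SemidirectProduct.inl (Multiplicative.ofAdd (1 : GaloisField q k))
  let x : G := SemidirectProduct.inr ⟨ζ, Subgroup.mem_zpowers ζ⟩
  have hx : x ∈ (P : Subgroup G) := by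
    rw [Sylow.coe_ofCard]
    exact ⟨_, rfl⟩
  have hconj := hPn.conj_mem x hx g
  rw [Sylow.coe_ofCard] at hconj
  obtain ⟨u, hu⟩ := hconj
  have hleft : (g * x * g⁻¹).left = 1 := by
    rw [← hu]; rfl
  have h2 : (g * x * g⁻¹).left =
      Multiplicative.ofAdd ((1 : GaloisField q k) - (ζ : GaloisField q k)) := by
    have e1 : (g * x * g⁻¹).left = (g * x).left * (phiF U (g * x).right) (g⁻¹).left :=
      SemidirectProduct.mul_left _ _
    have e2 : (g * x).left = g.left * (phiF U g.right) x.left := SemidirectProduct.mul_left _ _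
    have e3 : (g * x).right = g.right * x.right := SemidirectProduct.mul_right _ _
    have e4 : (g⁻¹).left = (phiF U g.right⁻¹) g.left⁻¹ := SemidirectProduct.inv_left _
    have g1 : g.left = Multiplicative.ofAdd (1 : GaloisField q k) := SemidirectProduct.left_inl _
    have g2 : g.right = 1 := SemidirectProduct.right_inl _
    have x1 : x.left = 1 := SemidirectProduct.left_inr _
    have x2 : x.right = ⟨ζ, Subgroup.mem_zpowers ζ⟩ := SemidirectProduct.right_inr _
    rw [e1, e2, e3, e4, g1, g2, x1, x2, inv_one, map_one (phiF U), one_mul, MulAut.one_apply,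
      MulAut.one_apply, mul_one, phiF_apply]
    apply Multiplicative.toAdd.injective
    simp [sub_eq_add_neg]
  rw [h2] at hleft
  have h3 : (1 : GaloisField q k) - (ζ : GaloisField q k) = 0 := by
    have := congrArg Multiplicative.toAdd hleft
    simpa using this
  apply hζ1
  apply Units.ext
  rw [sub_eq_zero] at h3
  rw [← h3]; rfl

end affine

section psl

theorem card_psl2_zmod (p : ℕ) [hp : Fact p.Prime] (hodd : p ≠ 2) :
    2 * Nat.card (Matrix.ProjectiveSpecialLinearGroup (Fin 2) (ZMod p)) = p * (p ^ 2 - 1) := by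
  have h1 := Cfsg.Agent.Lib.Helper1.card_SL2 (F := ZMod p)
  have h2 := Cfsg.Agent.Lib.Helper1.card_center_SL_field (F := ZMod p) 2 (by norm_num)
  have h3 := Subgroup.card_mul_index (Subgroup.center (Matrix.SpecialLinearGroup (Fin 2) (ZMod p)))
  have h4 : (Subgroup.center (Matrix.SpecialLinearGroup (Fin 2) (ZMod p))).index =
      Nat.card (Matrix.ProjectiveSpecialLinearGroup (Fin 2) (ZMod p)) := rfl
  rw [h4, h2, h1, ZMod.card] at h3
  have hoddp : Odd p := hp.out.odd_of_ne_two hodd
  have hg : Nat.gcd 2 (p - 1) = 2 := by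
    obtain ⟨k, hk⟩ := hoddp
    rw [hk, Nat.add_sub_cancel]
    exact Nat.gcd_eq_left ⟨k, rfl⟩
  rw [hg] at h3
  exact h3

theorem exists_nonclosed_psl (p : ℕ) [hp : Fact p.Prime] (h5 : 5 ≤ p) :
    ∃ (H : Type) (_ : Group H) (_ : Finite H), Nat.card H = p * (p ^ 2 - 1) / 2 ∧
      ¬ Cfsg.IsPClosed p H := by
  classical
  have hodd : p ≠ 2 := by omega
  have hcard := card_psl2_zmod p hodd
  haveI hfin : Finite (Matrix.ProjectiveSpecialLinearGroup (Fin 2) (ZMod p)) := by
    unfold Matrix.ProjectiveSpecialLinearGroup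
    infer_instance
  have hs : IsSimpleGroup (Matrix.ProjectiveSpecialLinearGroup (Fin 2) (ZMod p)) :=
    Matrix.ProjectiveSpecialLinearGroup.rank_two_simple (by
      rw [Nat.card_eq_fintype_card, ZMod.card]; omega)
  have hcard' : Nat.card (Matrix.ProjectiveSpecialLinearGroup (Fin 2) (ZMod p)) =
      p * (p ^ 2 - 1) / 2 := by
    rw [← hcard]; simp
  refine ⟨Matrix.ProjectiveSpecialLinearGroup (Fin 2) (ZMod p), inferInstance, hfin, hcard', ?_⟩
  intro hcl
  obtain ⟨P⟩ : Nonempty (Sylow p (Matrix.ProjectiveSpecialLinearGroup (Fin 2) (ZMod p))) :=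
    inferInstance
  have hPn := hcl P
  have hPcard := P.card_eq_multiplicity
  -- `p ∣ |G|`, and `|G| > p`
  have hp2 : 24 ≤ p ^ 2 - 1 := by
    have : 25 ≤ p ^ 2 := by nlinarith
    omega
  have hdvd : p ∣ Nat.card (Matrix.ProjectiveSpecialLinearGroup (Fin 2) (ZMod p)) := by
    have h1 : p ∣ 2 * Nat.card (Matrix.ProjectiveSpecialLinearGroup (Fin 2) (ZMod p)) := by
      rw [hcard]; exact dvd_mul_right _ _
    exact (Nat.Coprime.dvd_mul_left ((Nat.coprime_primes hp.out Nat.prime_two).mpr hodd)).mp h1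
  have hfac : 1 ≤ (Nat.card (Matrix.ProjectiveSpecialLinearGroup (Fin 2) (ZMod p))).factorization p :=
    (hp.out.pow_dvd_iff_le_factorization Nat.card_pos.ne').mp (by simpa using hdvd)
  rcases hPn.eq_bot_or_eq_top with h | h
  · rw [h, Subgroup.card_bot] at hPcard
    have h3 : p ≤ p ^ (Nat.card (Matrix.ProjectiveSpecialLinearGroup (Fin 2) (ZMod p))).factorization p := by
      calc p = p ^ 1 := (pow_one p).symm
        _ ≤ _ := Nat.pow_le_pow_right hp.out.pos hfac
    omega
  · -- then `|G|` is a power of `p`, but `p + 1` divides `2 |G|`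
    rw [h, Subgroup.card_top] at hPcard
    have h6 : (p + 1) ∣ 2 * Nat.card (Matrix.ProjectiveSpecialLinearGroup (Fin 2) (ZMod p)) := by
      rw [hcard]
      have : p ^ 2 - 1 = (p + 1) * (p - 1) := by
        have h1 : 1 ≤ p := hp.out.pos
        zify [h1, Nat.one_le_pow 2 p h1]; ring
      rw [this]
      exact Dvd.dvd.mul_left (dvd_mul_right _ _) _
    rw [hPcard] at h6
    -- a prime divisor `r` of `p + 1` divides `2 * p ^ k`, so `r = 2` or `r = p`
    have hp1 : p + 1 ≠ 1 := by omega
    -- `p + 1` is coprime to `p`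
    have hcop : Nat.Coprime (p + 1) (p ^ (Nat.card (Matrix.ProjectiveSpecialLinearGroup (Fin 2) (ZMod p))).factorization p) := by
      apply Nat.Coprime.pow_right
      rw [Nat.coprime_comm]
      rw [add_comm]
      exact (Nat.coprime_add_self_right).mpr (Nat.coprime_one_right p)
    have h7 : p + 1 ∣ 2 := (Nat.Coprime.dvd_mul_right hcop).mp h6
    have := Nat.le_of_dvd (by norm_num) h7
    omega

end psl

end Cfsg.Agent.Lib.Lead.NPC
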