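import Mathlib
import Cfsg.Agent.Lib.Helper2.SL2Sections

set_option autoImplicit false

universe u v

namespace Cfsg.Agent.Lib.Lead.NoQuad

open Cfsg Cfsg.Agent.Lib.Lead Cfsg.Agent.Lib.Helper9 Matrix

variable {G : Type u} [Group G]

/-- a finite group with a "dihedral-like" Sylow `2`-subgroup has no section `SL₂(p)`, `p` odd -/
theorem not_hasSL2Section_of_dih [Finite G] {p : ℕ} [Fact p.Prime] (hp : p ≠ 2)
    (T : Sylow 2 G) (c : G)
    (hT : ∀ x ∈ (T : Subgroup G), x ∈ Subgroup.zpowers c ∨ x ^ 2 = 1) :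
    ¬ Quad.HasSL2Section p G := by
  haveI : Fact (Nat.Prime 2) := ⟨Nat.prime_two⟩
  intro hs
  rw [Quad.hasSL2Section_iff_isSectionOf] at hs
  obtain ⟨K, f, hf⟩ := hs
  have h2 : (2 : ZMod p) ≠ 0 := Helper2.SL2Sections.two_ne_zero_zmod hp
  obtain ⟨Hq, hHq, x, hx, y, hy, hxy⟩ :=
    Helper1.exists_noncomm_two_subgroup (F := ZMod p) h2
  obtain ⟨T', hTp, hTmap, -⟩ := Quad.exists_lift_normalizer (p := 2) f hf Hq hHq
  rw [← hTmap] at hx hy
  obtain ⟨x', hx', rfl⟩ := hx
  obtain ⟨y', hy', rfl⟩ := hy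
  have hTG : IsPGroup 2 ↥(T'.map K.subtype) := hTp.map K.subtype
  obtain ⟨P, hP⟩ := hTG.exists_le_sylow
  obtain ⟨g, hg⟩ := MulAction.exists_smul_eq G P T
  have key : ∀ v ∈ T'.map K.subtype, g * v * g⁻¹ ∈ (T : Subgroup G) := by
    intro v hv
    have hvP : v ∈ (P : Subgroup G) := hP hv
    rw [← hg, Sylow.smul_def, Sylow.pointwise_smul_def]
    have := Subgroup.smul_mem_pointwise_smul v (MulAut.conj g) (P : Subgroup G) hvP
    simpa [MulAut.smul_def] using this
  have hdich : ∀ v' : ↥K, v' ∈ T' →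
      ((g * (v' : G) * g⁻¹) ∈ Subgroup.zpowers c) ∨ f v' * f v' = 1 := by
    intro v' hv'
    rcases hT _ (key (v' : G) ⟨v', hv', rfl⟩) with h | h
    · left; exact h
    · right
      have h1 : ((v' : G)) ^ 2 = 1 := by
        have h3 : g * (v' : G) ^ 2 * g⁻¹ = 1 := by
          rw [← h]; simp [pow_two]
        have h4 : (v' : G) ^ 2 = g⁻¹ * (g * (v' : G) ^ 2 * g⁻¹) * g := by group
        rw [h4, h3]; group
      have h5 : v' ^ 2 = 1 := Subtype.ext (by simpa using h1)
      rw [← map_mul, ← pow_two, h5, map_one]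
  have hcen : ∀ z : SpecialLinearGroup (Fin 2) (ZMod p), z * z = 1 → ∀ w, z * w = w * z := by
    intro z hz w
    rcases Helper1.sl2_mul_self_eq_one h2 z hz with rfl | rfl
    · simp
    · simp
  apply hxy
  rcases hdich x' hx' with hxc | hxc
  · rcases hdich y' hy' with hyc | hyc
    · have hcomm : (g * (x' : G) * g⁻¹) * (g * (y' : G) * g⁻¹) =
          (g * (y' : G) * g⁻¹) * (g * (x' : G) * g⁻¹) := by
        obtain ⟨i, hi⟩ := Subgroup.mem_zpowers_iff.1 hxc
        obtain ⟨j, hj⟩ := Subgroup.mem_zpowers_iff.1 hyc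
        rw [← hi, ← hj]
        exact (Commute.zpow_zpow_self c i j).eq
      have h6 : (x' : G) * y' = y' * x' := by
        have h3 : g * ((x' : G) * y') * g⁻¹ = g * ((y' : G) * x') * g⁻¹ := by
          calc g * ((x' : G) * y') * g⁻¹ = (g * x' * g⁻¹) * (g * y' * g⁻¹) := by group
            _ = (g * y' * g⁻¹) * (g * x' * g⁻¹) := hcomm
            _ = g * ((y' : G) * x') * g⁻¹ := by group
        exact mul_left_cancel (mul_right_cancel h3)
      have h4 : x' * y' = y' * x' := Subtype.ext h6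
      rw [← map_mul, h4, map_mul]
    · exact (hcen _ hyc _).symm
  · exact hcen _ hxc _

/-- `PSL₂(F)`, `|F|` odd, has a dihedral-like Sylow `2`-subgroup -/
theorem exists_dih_sylow_PSL2 {F : Type u} [Field F] [Fintype F] (hF : Odd (Fintype.card F)) :
    ∃ (T : Sylow 2 (ProjectiveSpecialLinearGroup (Fin 2) F))
      (c : ProjectiveSpecialLinearGroup (Fin 2) F),
      ∀ x ∈ (T : Subgroup (ProjectiveSpecialLinearGroup (Fin 2) F)),
        x ∈ Subgroup.zpowers c ∨ x ^ 2 = 1 := by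
  classical
  haveI : Fact (Nat.Prime 2) := ⟨Nat.prime_two⟩
  have h2 := Helper1.two_ne_zero_of_odd_card hF
  obtain ⟨P⟩ : Nonempty (Sylow 2 (SpecialLinearGroup (Fin 2) F)) := inferInstance
  obtain ⟨k, hk, ⟨e⟩⟩ := Helper1.sylow_two_SL2_quaternion hF P
  have hπ : Function.Surjective
      (QuotientGroup.mk' (Subgroup.center (SpecialLinearGroup (Fin 2) F))) :=
    QuotientGroup.mk'_surjective _
  refine ⟨P.mapSurjective hπ,
    QuotientGroup.mk' (Subgroup.center (SpecialLinearGroup (Fin 2) F))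
      ((e.symm (QuaternionGroup.a 1) : ↥(P : Subgroup (SpecialLinearGroup (Fin 2) F))) :
        SpecialLinearGroup (Fin 2) F), ?_⟩
  intro y hy
  rw [Sylow.coe_mapSurjective, Subgroup.mem_map] at hy
  obtain ⟨x, hx, rfl⟩ := hy
  haveI : NeZero (2 * 2 ^ k) := ⟨by positivity⟩
  rcases hq : e ⟨x, hx⟩ with i | i
  · left
    have h1 : (⟨x, hx⟩ : ↥(P : Subgroup (SpecialLinearGroup (Fin 2) F))) =
        (e.symm (QuaternionGroup.a 1)) ^ (ZMod.val i) := by
      apply e.injective
      rw [map_pow, e.apply_symm_apply, QuaternionGroup.a_one_pow, hq, ZMod.natCast_zmod_val]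
    have h3 : x = ((e.symm (QuaternionGroup.a 1) :
        ↥(P : Subgroup (SpecialLinearGroup (Fin 2) F))) : SpecialLinearGroup (Fin 2) F) ^
        (ZMod.val i) := by
      have := congrArg Subtype.val h1
      simpa using this
    rw [h3, map_pow]
    exact Subgroup.pow_mem _ (Subgroup.mem_zpowers _) _
  · right
    have h1 : (⟨x, hx⟩ : ↥(P : Subgroup (SpecialLinearGroup (Fin 2) F))) * ⟨x, hx⟩ =
        e.symm (QuaternionGroup.a ((2 ^ k : ℕ) : ZMod (2 * 2 ^ k))) := by
      apply e.injective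
      rw [map_mul, hq, e.apply_symm_apply, QuaternionGroup.xa_mul_xa]
      congr 1
      ring
    have h4 : (x * x) * (x * x) = 1 := by
      have h5 : (e.symm (QuaternionGroup.a ((2 ^ k : ℕ) : ZMod (2 * 2 ^ k))) :
          ↥(P : Subgroup (SpecialLinearGroup (Fin 2) F))) *
          e.symm (QuaternionGroup.a ((2 ^ k : ℕ) : ZMod (2 * 2 ^ k))) = 1 := by
        rw [← map_mul, QuaternionGroup.a_mul_a]
        have : ((2 ^ k : ℕ) : ZMod (2 * 2 ^ k)) + ((2 ^ k : ℕ) : ZMod (2 * 2 ^ k)) = 0 := by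
          rw [← Nat.cast_add, ← two_mul]
          exact ZMod.natCast_self _
        rw [this, ← QuaternionGroup.one_def, map_one]
      rw [← h1] at h5
      have := congrArg Subtype.val h5
      simpa using this
    rcases Helper1.sl2_mul_self_eq_one h2 (x * x) h4 with h5 | h5
    · rw [pow_two, ← map_mul, h5, map_one]
    · rw [pow_two, ← map_mul, h5, QuotientGroup.mk'_apply, QuotientGroup.eq_one_iff,
        Subgroup.mem_center_iff]
      intro w
      simp

/-- `PSL₂(F)`, `|F|` odd, has no section `SL₂(p)`, `p` odd -/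
theorem not_hasSL2Section_PSL2 {F : Type u} [Field F] [Fintype F] (hF : Odd (Fintype.card F))
    {p : ℕ} [Fact p.Prime] (hp : p ≠ 2) :
    ¬ Quad.HasSL2Section p (ProjectiveSpecialLinearGroup (Fin 2) F) := by
  obtain ⟨T, c, hT⟩ := exists_dih_sylow_PSL2 hF
  exact not_hasSL2Section_of_dih hp T c hT

end Cfsg.Agent.Lib.Lead.NoQuad
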