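import Mathlib
import Cfsg.Agent.Lib.Lead.NoQuad1
import Cfsg.Agent.Lib.Lead.Quad9

set_option autoImplicit false

open scoped commutatorElement

universe u v

namespace Cfsg.Agent.Lib.Lead.NoQuad

open Cfsg Cfsg.Agent.Lib.Lead Matrix

variable {G : Type u} [Group G]

theorem le_normalizer_of_conj {Y B : Subgroup G}
    (h : ∀ y ∈ Y, ∀ b ∈ B, y * b * y⁻¹ ∈ B) : Y ≤ Subgroup.normalizer (B : Set G) := by
  intro y hy
  rw [Subgroup.mem_normalizer_iff]
  intro b
  constructor
  · exact h y hy b
  · intro hb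
    have := h y⁻¹ (Y.inv_mem hy) _ hb
    have e : y⁻¹ * (y * b * y⁻¹) * y⁻¹⁻¹ = b := by group
    rwa [e] at this

/-- If `H` acts irreducibly on the elementary abelian `p`-group `V` (`p` odd) and the group
induced on `V` has no section `SL₂(p)`, then no subgroup of `H` acts quadratically and
nontrivially on `V`. -/
theorem no_quadratic [Finite G] {p : ℕ} [Fact p.Prime] (hp2 : p ≠ 2) (V H : Subgroup G)
    (hcomm : ∀ a ∈ V, ∀ b ∈ V, a * b = b * a) (hexp : ∀ a ∈ V, a ^ p = 1)
    (hHV : H ≤ Subgroup.normalizer (V : Set G))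
    (hirr : ∀ U : Subgroup G, U ≤ V → H ≤ Subgroup.normalizer (U : Set G) → U = ⊥ ∨ U = V)
    [hn : ((Subgroup.centralizer (V : Set G)).subgroupOf H).Normal]
    (hns : ¬ Quad.HasSL2Section p (↥H ⧸ (Subgroup.centralizer (V : Set G)).subgroupOf H))
    (A : Subgroup G) (hA : A ≤ H) (hquad : ⁅⁅V, A⁆, A⁆ = ⊥) : ⁅V, A⁆ = ⊥ := by
  classical
  by_contra hne
  have hex : ∃ a ∈ A, ∃ v ∈ V, a * v * a⁻¹ ≠ v := by
    by_contra hcon
    push Not at hcon
    apply hne
    rw [Subgroup.commutator_eq_bot_iff_le_centralizer]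
    intro v hv
    rw [Subgroup.mem_centralizer_iff]
    intro a ha
    have h1 := hcon a ha v hv
    calc a * v = a * v * a⁻¹ * a := by group
      _ = v * a := by rw [h1]
  obtain ⟨a, haA, v0, hv0, hav⟩ := hex
  let _ : CommGroup ↥V :=
    { (inferInstance : Group ↥V) with
      mul_comm := fun a b => Subtype.ext (hcomm a a.2 b b.2) }
  have hker : ∀ h : ↥H, h ∈ (Subgroup.centralizer (V : Set G)).subgroupOf H →
      Quad.conjAct V H hHV h = 1 := by
    intro h hh
    ext v
    rw [Quad.conjAct_apply]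
    have h1 : (h : G) ∈ Subgroup.centralizer (V : Set G) := Subgroup.mem_subgroupOf.mp hh
    have h2 := Subgroup.mem_centralizer_iff.mp h1 v v.2
    rw [MulAut.one_apply, ← h2]
    group
  let φ : (↥H ⧸ (Subgroup.centralizer (V : Set G)).subgroupOf H) →* MulAut ↥V :=
    QuotientGroup.lift _ (Quad.conjAct V H hHV) (fun h hh => hker h hh)
  have hφ : ∀ h : ↥H, φ (QuotientGroup.mk h) = Quad.conjAct V H hHV h := fun h => rfl
  have hφinj : ∀ g : ↥H ⧸ (Subgroup.centralizer (V : Set G)).subgroupOf H, φ g = 1 → g = 1 := by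
    intro g hg
    induction g using QuotientGroup.induction_on with
    | H h =>
      rw [hφ] at hg
      rw [QuotientGroup.eq_one_iff, Subgroup.mem_subgroupOf, Subgroup.mem_centralizer_iff]
      intro v hv
      have h1 : ((Quad.conjAct V H hHV h ⟨v, hv⟩ : ↥V) : G) = v := by rw [hg]; rfl
      rw [Quad.conjAct_apply] at h1
      calc v * (h : G) = (h : G) * v * (h : G)⁻¹ * (h : G) := by rw [h1]
        _ = (h : G) * v := by group
  apply hns
  apply Quad.hasSL2Section_of_action hp2 (A := ↥V)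
    (fun a => Subtype.ext (by simpa using hexp a a.2)) φ (QuotientGroup.mk ⟨a, hA haA⟩)
  · intro v
    rw [hφ]
    apply Subtype.ext
    simp only [Quad.conjAct_apply, div_eq_mul_inv, Subgroup.coe_mul, Subgroup.coe_inv]
    have hc : a * (v : G) * a⁻¹ * (v : G)⁻¹ ∈ ⁅V, A⁆ := by
      have h1 : ⁅(v : G), a⁆ ∈ ⁅V, A⁆ := Subgroup.commutator_mem_commutator v.2 haA
      have h2 := Subgroup.inv_mem _ h1
      rw [commutatorElement_inv] at h2
      exact h2
    have h3 : ⁅a * (v : G) * a⁻¹ * (v : G)⁻¹, a⁆ ∈ ⁅⁅V, A⁆, A⁆ :=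
      Subgroup.commutator_mem_commutator hc haA
    rw [hquad, Subgroup.mem_bot, commutatorElement_eq_one_iff_mul_comm] at h3
    rw [← h3, mul_assoc, mul_inv_cancel, mul_one]
  · intro N hNn hNp hxN
    letI : MulAction ↥N ↥V := MulAction.compHom ↥V (φ.comp N.subtype)
    have hsmul : ∀ (g : ↥N) (v : ↥V), g • v = φ (g : ↥H ⧸ _) v := fun g v => rfl
    have hNpg : IsPGroup p ↥N := by
      intro g
      obtain ⟨k, hk⟩ := hNp g g.2
      refine ⟨k, ?_⟩
      apply Subtype.ext
      apply hφinj
      rw [Subgroup.coe_pow, map_pow]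
      exact hk
    have hVp : IsPGroup p ↥V := fun v =>
      ⟨1, by rw [pow_one]; exact Subtype.ext (by simpa using hexp v v.2)⟩
    have hVnt : Nontrivial ↥V := by
      refine ⟨⟨v0, hv0⟩, 1, ?_⟩
      intro h
      apply hav
      have h1 : v0 = 1 := congrArg Subtype.val h
      rw [h1]; group
    have hVcard : p ∣ Nat.card ↥V := by
      obtain ⟨n, hn⟩ := hVp.exists_card_eq
      rcases n with _ | n
      · rw [pow_zero] at hn
        have := Finite.one_lt_card (α := ↥V)
        omega
      · rw [hn]; exact dvd_pow_self p (Nat.succ_ne_zero n)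
    have h1fix : (1 : ↥V) ∈ MulAction.fixedPoints ↥N ↥V := by
      intro g
      rw [hsmul, map_one]
    obtain ⟨w, hw, hw1⟩ :=
      hNpg.exists_fixed_point_of_prime_dvd_card_of_fixed_point (α := ↥V) hVcard h1fix
    let Fx : Subgroup ↥V :=
      { carrier := {v | ∀ g ∈ N, φ g v = v}
        one_mem' := by intro g _; exact map_one _
        mul_mem' := by
          intro a b ha hb g hg
          rw [map_mul, ha g hg, hb g hg]
        inv_mem' := by
          intro a ha g hg
          rw [map_inv, ha g hg] }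
    have hwFx : w ∈ Fx := by
      intro g hg
      exact hw ⟨g, hg⟩
    have hUV : Fx.map V.subtype ≤ V := by
      rintro _ ⟨v, -, rfl⟩
      exact v.2
    have hUH : H ≤ Subgroup.normalizer ((Fx.map V.subtype : Subgroup G) : Set G) := by
      apply le_normalizer_of_conj
      rintro h hh _ ⟨v, hv, rfl⟩
      refine ⟨Quad.conjAct V H hHV ⟨h, hh⟩ v, ?_, ?_⟩
      · intro g hg
        rw [← hφ]
        have h1 : φ g (φ (QuotientGroup.mk ⟨h, hh⟩) v) =
            φ (QuotientGroup.mk ⟨h, hh⟩)
              (φ ((QuotientGroup.mk ⟨h, hh⟩)⁻¹ * g * (QuotientGroup.mk ⟨h, hh⟩)) v) := by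
          rw [← MulAut.mul_apply, ← MulAut.mul_apply, ← map_mul, ← map_mul]
          congr 2
          group
        rw [h1]
        congr 1
        apply hv
        have := hNn.conj_mem g hg (QuotientGroup.mk ⟨h, hh⟩)⁻¹
        rwa [inv_inv] at this
      · rw [Subgroup.subtype_apply, Quad.conjAct_apply]
        rfl
    rcases hirr _ hUV hUH with hU | hU
    · apply hw1
      have h1 : (w : G) ∈ Fx.map V.subtype := ⟨w, hwFx, rfl⟩
      rw [hU, Subgroup.mem_bot] at h1
      exact (Subtype.ext h1).symm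
    · -- everything in `V` is fixed by `N`, so `N` acts trivially
      have hx1 : φ (QuotientGroup.mk ⟨a, hA haA⟩) = 1 := by
        ext v
        have h1 : (v : G) ∈ Fx.map V.subtype := by rw [hU]; exact v.2
        obtain ⟨v', hv', hvv⟩ := h1
        have h2 : v' = v := Subtype.ext hvv
        rw [← h2, MulAut.one_apply]
        exact congrArg Subtype.val (hv' _ hxN)
      have hx2 := hφinj _ hx1
      rw [QuotientGroup.eq_one_iff, Subgroup.mem_subgroupOf, Subgroup.mem_centralizer_iff] at hx2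
      apply hav
      have h3 := hx2 v0 hv0
      simp only at h3
      rw [← h3]
      group

end Cfsg.Agent.Lib.Lead.NoQuad
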