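import Mathlib
import Cfsg.Agent.Lib.Lead.NoQuad2
import Cfsg.Agent.Lib.Helper2.SL2Sections
import Cfsg.Prelude.Def_LieTwisted

set_option autoImplicit false

open scoped commutatorElement

universe u v

namespace Cfsg.Agent.Lib.Lead.NoQuad

open Cfsg Cfsg.Agent.Lib.Lead Cfsg.Agent.Lib.Helper9 Cfsg.Agent.Lib.Helper2.SL2Sections Matrix

/-- transport of "no `SL₂(p)` section" along an isomorphism -/
theorem not_hasSL2Section_of_mulEquiv {Γ : Type u} [Group Γ] {Δ : Type v} [Group Δ]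
    {p : ℕ} [Fact p.Prime] (e : Γ ≃* Δ) (h : ¬ Quad.HasSL2Section p Δ) :
    ¬ Quad.HasSL2Section p Γ := by
  intro hs
  apply h
  rw [Quad.hasSL2Section_iff_isSectionOf] at hs ⊢
  exact hs.trans (isSectionOf_of_mulEquiv e.symm)

theorem odd_prime_of_odd_pow {p n : ℕ} (hodd : Odd (p ^ n)) (h1 : p ^ n ≠ 1) : p ≠ 2 := by
  rintro rfl
  rcases Nat.eq_zero_or_pos n with rfl | hn
  · simp at h1
  · have : Even (2 ^ n) := (Nat.even_pow.mpr ⟨even_two, hn.ne'⟩)
    exact (Nat.not_odd_iff_even.mpr this) hodd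

/-- The `PSL₂` branch. -/
theorem psl_branch {Γ : Type u} [Group Γ] {p : ℕ} [Fact p.Prime]
    (F : Type) [Field F] [Fintype F] (n : ℕ) (hc : Fintype.card F = p ^ n)
    (hodd : Odd (Fintype.card F)) (e : Γ ≃* Matrix.ProjectiveSpecialLinearGroup (Fin 2) F) :
    p ≠ 2 ∧ ¬ Quad.HasSL2Section p Γ := by
  have hp2 : p ≠ 2 := by
    apply odd_prime_of_odd_pow (n := n)
    · rw [← hc]; exact hodd
    · rw [← hc]
      exact (Fintype.one_lt_card (α := F)).ne'
  exact ⟨hp2, not_hasSL2Section_of_mulEquiv e (not_hasSL2Section_PSL2 hodd hp2)⟩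

/-- The Ree branch, given that all `2`-subgroups of the Ree groups are abelian. -/
theorem ree_branch {Γ : Type u} [Group Γ]
    (hRee : ∀ (K : Type) [Field K] [Fintype K] (m : ℕ), 1 ≤ m →
      Fintype.card K = 3 ^ (2 * m + 1) → AbTwo ↥(Cfsg.Lie.twistedG2 K (3 ^ m)))
    (h : Cfsg.Lie.IsoRee Γ) :
    haveI : Fact (Nat.Prime 3) := ⟨Nat.prime_three⟩
    ¬ Quad.HasSL2Section 3 Γ := by
  haveI : Fact (Nat.Prime 3) := ⟨Nat.prime_three⟩
  obtain ⟨K, _, _, m, hm, hK, ⟨e⟩⟩ := h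
  haveI : Finite ↥(Cfsg.Lie.twistedG2 K (3 ^ m)) := inferInstance
  exact not_hasSL2Section_of_mulEquiv e
    (not_hasSL2Section_of_abTwo (by norm_num) (hRee K m hm hK))

end Cfsg.Agent.Lib.Lead.NoQuad
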