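import Mathlib
import Cfsg.Agent.Lib.Lead.NoQuad3
import Cfsg.Agent.Lib.Helper3.Ree29

set_option autoImplicit false

open scoped commutatorElement

universe u v

namespace Cfsg.Agent.Lib.Lead.NoQuad

open Cfsg Cfsg.Agent.Lib.Lead Cfsg.Agent.Lib.Helper9 Cfsg.Agent.Lib.Helper2.SL2Sections Matrix

/-- The Ree branch, unconditionally. -/
theorem ree_branch' {Γ : Type u} [Group Γ] (h : Cfsg.Lie.IsoRee Γ) :
    haveI : Fact (Nat.Prime 3) := ⟨Nat.prime_three⟩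
    ¬ Quad.HasSL2Section 3 Γ :=
  ree_branch (fun K _ _ m _ hK => Cfsg.Agent.Lib.Helper3.Ree.ree_abTwo m hK) h

/-- The full statement. -/
theorem main {G : Type u} [Group G] [Finite G] {p : ℕ} [Fact p.Prime] (V H : Subgroup G)
    (hV : Cfsg.IsElementaryAbelian p V) (hHV : H ≤ Subgroup.normalizer (V : Set G))
    (hirr : ∀ U : Subgroup G, U ≤ V → H ≤ Subgroup.normalizer (U : Set G) → U = ⊥ ∨ U = V)
    [hn : ((Subgroup.centralizer (V : Set G)).subgroupOf H).Normal]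
    (hq : (∃ (F : Type) (_ : Field F) (_ : Fintype F) (n : ℕ), Fintype.card F = p ^ n ∧
        Odd (Fintype.card F) ∧
        Nonempty (↥H ⧸ (Subgroup.centralizer (V : Set G)).subgroupOf H ≃*
          Matrix.ProjectiveSpecialLinearGroup (Fin 2) F)) ∨
      (p = 3 ∧ Cfsg.Lie.IsoRee (↥H ⧸ (Subgroup.centralizer (V : Set G)).subgroupOf H)))
    (A : Subgroup G) (hA : A ≤ H) (hquad : ⁅⁅V, A⁆, A⁆ = ⊥) : ⁅V, A⁆ = ⊥ := by
  have hcomm : ∀ a ∈ V, ∀ b ∈ V, a * b = b * a := by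
    intro a ha b hb
    have := hV.1.is_comm.comm ⟨a, ha⟩ ⟨b, hb⟩
    exact congrArg Subtype.val this
  have hexp : ∀ a ∈ V, a ^ p = 1 := hV.2
  rcases hq with ⟨F, _, _, n, hc, hodd, ⟨e⟩⟩ | ⟨rfl, hR⟩
  · obtain ⟨hp2, hns⟩ := psl_branch (p := p) F n hc hodd e
    exact no_quadratic hp2 V H hcomm hexp hHV hirr hns A hA hquad
  · have hns := ree_branch' hR
    exact no_quadratic (by norm_num) V H hcomm hexp hHV hirr hns A hA hquad

end Cfsg.Agent.Lib.Lead.NoQuad
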