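import Mathlib

set_option autoImplicit false

namespace Cfsg.Agent.Lib.Lead.NormMT

open MulAction SubMulAction
open scoped Pointwise

variable {G : Type*} [Group G] {X : Type*} [MulAction G X]

/-- The group homomorphism from the stabilizer in `H` to `H ⊓ G_a` seen inside `G_a`. -/
def stabToSub (H : Subgroup G) (a : X) :
    stabilizer H a → H.subgroupOf (stabilizer G a) :=
  fun g => ⟨⟨(g : H), by
    have := g.2
    rw [mem_stabilizer_iff] at this ⊢
    exact this⟩, by
    rw [Subgroup.mem_subgroupOf]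
    exact (g : H).2⟩

theorem stabToSub_surjective (H : Subgroup G) (a : X) :
    Function.Surjective (stabToSub H a) := by
  rintro ⟨⟨g, hga⟩, hgH⟩
  rw [Subgroup.mem_subgroupOf] at hgH
  refine ⟨⟨⟨g, hgH⟩, ?_⟩, rfl⟩
  rw [mem_stabilizer_iff] at hga ⊢
  exact hga

/-- The equivariant identity map. -/
def stabMap (H : Subgroup G) (a : X) :
    ofStabilizer H a →ₑ[stabToSub H a] ofStabilizer G a where
  toFun x := ⟨x.1, x.2⟩
  map_smul' g x := rfl

theorem stabMap_bijective (H : Subgroup G) (a : X) :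
    Function.Bijective (stabMap H a) := by
  constructor
  · intro x y h
    apply Subtype.ext
    exact congrArg Subtype.val h
  · rintro ⟨y, hy⟩
    exact ⟨⟨y, hy⟩, rfl⟩

/-- Bridge between `(k+1)`-transitivity of a subgroup and `k`-transitivity of its
stabilizer viewed inside the big stabilizer. -/
theorem bridge (H : Subgroup G) (a : X) (k : ℕ) [IsPretransitive H X] :
    IsMultiplyPretransitive H X (k + 1) ↔
      IsMultiplyPretransitive (H.subgroupOf (stabilizer G a)) (ofStabilizer G a) k := by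
  rw [ofStabilizer.isMultiplyPretransitive (G := H) (a := a)]
  exact IsPretransitive.of_embedding_congr (stabToSub_surjective H a) (stabMap_bijective H a)

/-- Faithfulness is inherited by the stabilizer acting on the complement of the point. -/
theorem faithful_ofStabilizer [FaithfulSMul G X] (a : X) :
    FaithfulSMul (stabilizer G a) (ofStabilizer G a) := by
  constructor
  intro g h hgh
  apply Subtype.ext
  apply FaithfulSMul.eq_of_smul_eq_smul (α := X)
  intro x
  by_cases hx : x = a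
  · rw [hx]
    have h1 := g.2
    have h2 := h.2
    rw [mem_stabilizer_iff] at h1 h2
    rw [h1, h2]
  · have := hgh ⟨x, hx⟩
    exact congrArg Subtype.val this

theorem subgroupOf_stab_ne_bot (H : Subgroup G) (a : X) {h : G} (hH : h ∈ H) (h1 : h ≠ 1)
    (ha : h • a = a) : H.subgroupOf (stabilizer G a) ≠ ⊥ := by
  intro hbot
  have hm : (⟨h, ha⟩ : stabilizer G a) ∈ H.subgroupOf (stabilizer G a) := by
    rw [Subgroup.mem_subgroupOf]; exact hH
  rw [hbot, Subgroup.mem_bot] at hm
  exact h1 (congrArg Subtype.val hm)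

theorem exists_of_subgroupOf_stab_ne_bot (H : Subgroup G) (a : X)
    (hne : H.subgroupOf (stabilizer G a) ≠ ⊥) : ∃ h ∈ H, h ≠ 1 ∧ h • a = a := by
  rw [Ne, Subgroup.eq_bot_iff_forall] at hne
  push Not at hne
  obtain ⟨⟨h, ha⟩, hH, h1⟩ := hne
  rw [Subgroup.mem_subgroupOf] at hH
  refine ⟨h, hH, ?_, ha⟩
  intro h'
  apply h1
  exact Subtype.ext h'

/-- injectivity of three distinct points -/
theorem inj3 {a b c : X} (hab : a ≠ b) (hac : a ≠ c) (hbc : b ≠ c) :
    Function.Injective ![a, b, c] := by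
  intro i j h
  fin_cases i <;> fin_cases j <;> simp_all

theorem inj4 {a b c d : X} (hab : a ≠ b) (hac : a ≠ c) (had : a ≠ d) (hbc : b ≠ c) (hbd : b ≠ d)
    (hcd : c ≠ d) : Function.Injective ![a, b, c, d] := by
  intro i j h
  fin_cases i <;> fin_cases j <;> simp_all

theorem three_trans_elem (h3 : IsMultiplyPretransitive G X 3) {a b c a' b' c' : X}
    (hab : a ≠ b) (hac : a ≠ c) (hbc : b ≠ c) (hab' : a' ≠ b') (hac' : a' ≠ c') (hbc' : b' ≠ c') :
    ∃ g : G, g • a = a' ∧ g • b = b' ∧ g • c = c' := by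
  obtain ⟨g, hg⟩ := h3.exists_smul_eq (⟨![a, b, c], inj3 hab hac hbc⟩ : Fin 3 ↪ X)
    ⟨![a', b', c'], inj3 hab' hac' hbc'⟩
  refine ⟨g, ?_, ?_, ?_⟩
  · have := congrArg (fun f : Fin 3 ↪ X => f 0) hg
    simpa using this
  · have := congrArg (fun f : Fin 3 ↪ X => f 1) hg
    simpa using this
  · have := congrArg (fun f : Fin 3 ↪ X => f 2) hg
    simpa using this

theorem four_trans_elem (h4 : IsMultiplyPretransitive G X 4) {a b c d a' b' c' d' : X}
    (hab : a ≠ b) (hac : a ≠ c) (had : a ≠ d) (hbc : b ≠ c) (hbd : b ≠ d) (hcd : c ≠ d)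
    (hab' : a' ≠ b') (hac' : a' ≠ c') (had' : a' ≠ d') (hbc' : b' ≠ c') (hbd' : b' ≠ d')
    (hcd' : c' ≠ d') :
    ∃ g : G, g • a = a' ∧ g • b = b' ∧ g • c = c' ∧ g • d = d' := by
  obtain ⟨g, hg⟩ := h4.exists_smul_eq
    (⟨![a, b, c, d], inj4 hab hac had hbc hbd hcd⟩ : Fin 4 ↪ X)
    ⟨![a', b', c', d'], inj4 hab' hac' had' hbc' hbd' hcd'⟩
  refine ⟨g, ?_, ?_, ?_, ?_⟩
  · have := congrArg (fun f : Fin 4 ↪ X => f 0) hg
    simpa using this
  · have := congrArg (fun f : Fin 4 ↪ X => f 1) hg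
    simpa using this
  · have := congrArg (fun f : Fin 4 ↪ X => f 2) hg
    simpa using this
  · have := congrArg (fun f : Fin 4 ↪ X => f 3) hg
    simpa using this

/-- Elementwise criterion for 3-transitivity. -/
theorem three_trans_of_elem
    (h : ∀ a b c a' b' c' : X, a ≠ b → a ≠ c → b ≠ c → a' ≠ b' → a' ≠ c' → b' ≠ c' →
      ∃ g : G, g • a = a' ∧ g • b = b' ∧ g • c = c') :
    IsMultiplyPretransitive G X 3 := by
  rw [isMultiplyPretransitive_iff]
  intro u v
  have hu : ∀ i j : Fin 3, i ≠ j → u i ≠ u j := fun i j hij h' => hij (u.injective h')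
  have hv : ∀ i j : Fin 3, i ≠ j → v i ≠ v j := fun i j hij h' => hij (v.injective h')
  obtain ⟨g, h0, h1, h2⟩ := h (u 0) (u 1) (u 2) (v 0) (v 1) (v 2)
    (hu 0 1 (by decide)) (hu 0 2 (by decide)) (hu 1 2 (by decide))
    (hv 0 1 (by decide)) (hv 0 2 (by decide)) (hv 1 2 (by decide))
  refine ⟨g, ?_⟩
  ext i
  fin_cases i
  · exact h0
  · exact h1
  · exact h2

end Cfsg.Agent.Lib.Lead.NormMT
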