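import Mathlib

set_option autoImplicit false

namespace Cfsg.Agent.Lib.Lead.PermReg

open MulAction SubMulAction
open scoped Pointwise

variable {G : Type*} [Group G] {X : Type*} [MulAction G X]

/-- Pair-block lemma: in a preprimitive action of the fixator of `s` on the complement of `s`,
a pair `{u, v}` which is permuted or moved off itself by every element is trivial. -/
theorem pair_block (s : Set X) (hp : IsPreprimitive (fixingSubgroup G s) (ofFixingSubgroup G s))
    {u v : X} (hu : u ∉ s) (hv : v ∉ s)
    (h : ∀ g ∈ fixingSubgroup G s, (g • u = u ∨ g • u = v ∨ g • v = u ∨ g • v = v) →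
       (g • u = u ∧ g • v = v) ∨ (g • u = v ∧ g • v = u)) :
    u = v ∨ sᶜ = {u, v} := by
  let B : Set (ofFixingSubgroup G s) := {⟨u, hu⟩, ⟨v, hv⟩}
  have hB : IsBlock (fixingSubgroup G s) B := by
    rw [← isBlock_subtypeVal]
    have himg : (Subtype.val '' B : Set X) = {u, v} := by simp [B, Set.image_pair]
    rw [himg, isBlock_iff_smul_eq_of_mem]
    intro g a ha hga
    have hg := h (g : G) g.2
    have hsm : g • ({u, v} : Set X) = {(g : G) • u, (g : G) • v} := by
      rw [Set.smul_set_insert, Set.smul_set_singleton]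
      rfl
    rw [hsm]
    have hga' : (g : G) • a ∈ ({u, v} : Set X) := hga
    simp only [Set.mem_insert_iff, Set.mem_singleton_iff] at ha hga'
    have hcase : (g : G) • u = u ∨ (g : G) • u = v ∨ (g : G) • v = u ∨ (g : G) • v = v := by
      rcases ha with rfl | rfl
      · rcases hga' with h1 | h1
        · exact Or.inl h1
        · exact Or.inr (Or.inl h1)
      · rcases hga' with h1 | h1
        · exact Or.inr (Or.inr (Or.inl h1))
        · exact Or.inr (Or.inr (Or.inr h1))
    rcases hg hcase with ⟨h1, h2⟩ | ⟨h1, h2⟩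
    · rw [h1, h2]
    · rw [h1, h2, Set.pair_comm]
  rcases hp.isTrivialBlock_of_isBlock hB with hsub | huniv
  · left
    have := hsub (show (⟨u, hu⟩ : ofFixingSubgroup G s) ∈ B by simp [B])
      (show (⟨v, hv⟩ : ofFixingSubgroup G s) ∈ B by simp [B])
    exact congrArg Subtype.val this
  · right
    ext x
    constructor
    · intro hx
      have : (⟨x, hx⟩ : ofFixingSubgroup G s) ∈ B := by rw [huniv]; trivial
      simp only [B, Set.mem_insert_iff, Set.mem_singleton_iff] at this
      rcases this with h1 | h1
      · exact Or.inl (congrArg Subtype.val h1)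
      · exact Or.inr (congrArg Subtype.val h1)
    · intro hx
      simp only [Set.mem_insert_iff, Set.mem_singleton_iff] at hx
      rcases hx with rfl | rfl
      · exact hu
      · exact hv

/-- In a regular action of a subgroup, `n ↦ n • a` is injective. -/
theorem smul_inj_of_reg (N : Subgroup G) (hreg : ∀ x : X, MulAction.stabilizer N x = ⊥) (a : X)
    {n m : G} (hn : n ∈ N) (hm : m ∈ N) (h : n • a = m • a) : n = m := by
  have h1 : (⟨m⁻¹ * n, N.mul_mem (N.inv_mem hm) hn⟩ : N) ∈ MulAction.stabilizer N a := by
    rw [MulAction.mem_stabilizer_iff]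
    change (m⁻¹ * n) • a = a
    rw [mul_smul, h, inv_smul_smul]
  rw [hreg a, Subgroup.mem_bot] at h1
  have h2 : m⁻¹ * n = 1 := congrArg Subtype.val h1
  exact (inv_mul_eq_one.mp h2).symm

/-- Conjugation formula. -/
theorem stab_smul_conj (a : X) (g : G) (hg : g • a = a) (n : G) :
    g • (n • a) = (g * n * g⁻¹) • a := by
  have : g⁻¹ • a = a := by rw [inv_smul_eq_iff, hg]
  rw [mul_smul, mul_smul, this]

end Cfsg.Agent.Lib.Lead.PermReg
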