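import Mathlib
import Cfsg.Agent.Lib.Lead.NormMT1
import Cfsg.Agent.Lib.Lead.PermReg

set_option autoImplicit false

namespace Cfsg.Agent.Lib.Lead.NormMT

open MulAction SubMulAction
open scoped Pointwise

variable {G : Type*} [Group G] {X : Type*} [MulAction G X]

/-- Lemma T: a transitive group whose point stabilizer has exponent two and acts regularly
on the remaining points has degree at most three: no four distinct points. -/
theorem lemmaT (N : Subgroup G) (hN : IsPretransitive N X) (a : X)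
    (h1 : ∀ n ∈ N, n • a = a → n ^ 2 = 1)
    (h2 : ∀ x y : X, x ≠ a → y ≠ a → ∃ n ∈ N, n • a = a ∧ n • x = y)
    (h3 : ∀ n ∈ N, n • a = a → ∀ y, y ≠ a → n • y = y → n = 1)
    (p q r s : X) (hpq : p ≠ q) (hpr : p ≠ r) (hps : p ≠ s) (hqr : q ≠ r) (hqs : q ≠ s)
    (hrs : r ≠ s) : False := by
  -- transport to every point
  have tr : ∀ c : X, ∃ g ∈ N, g • a = c := fun c => by
    obtain ⟨⟨g, hg⟩, hgc⟩ := hN.exists_smul_eq a c
    exact ⟨g, hg, hgc⟩
  have h1' : ∀ c : X, ∀ n ∈ N, n • c = c → n ^ 2 = 1 := by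
    intro c n hn hnc
    obtain ⟨g, hg, rfl⟩ := tr c
    have hm : g⁻¹ * n * g ∈ N := N.mul_mem (N.mul_mem (N.inv_mem hg) hn) hg
    have hma : (g⁻¹ * n * g) • a = a := by
      rw [mul_smul, mul_smul, hnc, inv_smul_smul]
    have := h1 _ hm hma
    have e : (g⁻¹ * n * g) ^ 2 = g⁻¹ * n ^ 2 * g := by
      rw [pow_two, pow_two]; group
    rw [e] at this
    have : n ^ 2 = g * 1 * g⁻¹ := by rw [← this]; group
    rw [this]; group
  have h2' : ∀ c x y : X, x ≠ c → y ≠ c → ∃ n ∈ N, n • c = c ∧ n • x = y := by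
    intro c x y hx hy
    obtain ⟨g, hg, rfl⟩ := tr c
    have hx' : g⁻¹ • x ≠ a := by
      intro h; apply hx; rw [← h, smul_inv_smul]
    have hy' : g⁻¹ • y ≠ a := by
      intro h; apply hy; rw [← h, smul_inv_smul]
    obtain ⟨n, hn, hna, hnx⟩ := h2 _ _ hx' hy'
    refine ⟨g * n * g⁻¹, N.mul_mem (N.mul_mem hg hn) (N.inv_mem hg), ?_, ?_⟩
    · rw [mul_smul, mul_smul, inv_smul_smul, hna]
    · rw [mul_smul, mul_smul, hnx, smul_inv_smul]
  have h3' : ∀ c : X, ∀ n ∈ N, n • c = c → ∀ y, y ≠ c → n • y = y → n = 1 := by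
    intro c n hn hnc y hy hny
    obtain ⟨g, hg, rfl⟩ := tr c
    have hm : g⁻¹ * n * g ∈ N := N.mul_mem (N.mul_mem (N.inv_mem hg) hn) hg
    have hma : (g⁻¹ * n * g) • a = a := by
      rw [mul_smul, mul_smul, hnc, inv_smul_smul]
    have hy' : g⁻¹ • y ≠ a := by
      intro h; apply hy; rw [← h, smul_inv_smul]
    have hmy : (g⁻¹ * n * g) • (g⁻¹ • y) = g⁻¹ • y := by
      rw [mul_smul, mul_smul, smul_inv_smul, hny]
    have := h3 _ hm hma _ hy' hmy
    have : n = g * 1 * g⁻¹ := by rw [← this]; group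
    rw [this]; group
  obtain ⟨tr', htr, htrr, htrp⟩ := h2' r p q hpr hqr
  obtain ⟨ts, hts, htss, htsp⟩ := h2' s p q hps hqs
  have sq : ∀ t ∈ N, ∀ c : X, t • c = c → t • p = q → t • q = p := by
    intro t ht c htc htp
    have := h1' c t ht htc
    rw [← htp, ← mul_smul, ← pow_two, this, one_smul]
  have htrq := sq tr' htr r htrr htrp
  have htsq := sq ts hts s htss htsp
  have hu : ts⁻¹ * tr' = 1 := by
    apply h3' p (ts⁻¹ * tr') (N.mul_mem (N.inv_mem hts) htr) _ q hpq.symm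
    · rw [mul_smul, htrq, inv_smul_eq_iff, htsq]
    · rw [mul_smul, htrp, inv_smul_eq_iff, htsp]
  have heq : tr' = ts := by
    have := inv_mul_eq_one.mp hu
    exact this.symm
  have : tr' = 1 := by
    apply h3' r tr' htr htrr s hrs.symm
    rw [heq]; exact htss
  rw [this, one_smul] at htrp
  exact hpq htrp

/-- Lemma C1: a regular normal subgroup of a 3-transitive group of degree at least four
has exponent two. -/
theorem lemmaC1 (N : Subgroup G) [N.Normal] (hreg : ∀ x : X, stabilizer N x = ⊥)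
    (h3 : IsMultiplyPretransitive G X 3)
    (h4 : ∀ p q r : X, ∃ s : X, s ≠ p ∧ s ≠ q ∧ s ≠ r) (a : X) :
    ∀ x ∈ N, x ^ 2 = 1 := by
  intro x hx
  by_contra hx2
  have hx1 : x ≠ 1 := by rintro rfl; simp at hx2
  have hxi1 : x⁻¹ ≠ 1 := by simpa using hx1
  have hxi : x⁻¹ ∈ N := N.inv_mem hx
  have hxx : x ≠ x⁻¹ := by
    intro h
    apply hx2
    rw [pow_two]
    nth_rewrite 1 [h]
    exact inv_mul_cancel x
  have hap : a ≠ x • a := by
    intro h
    exact hx1 (PermReg.smul_inj_of_reg N hreg a hx N.one_mem (by rw [one_smul]; exact h.symm))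
  have haq : a ≠ x⁻¹ • a := by
    intro h
    exact hxi1 (PermReg.smul_inj_of_reg N hreg a hxi N.one_mem (by rw [one_smul]; exact h.symm))
  have hpq : x • a ≠ x⁻¹ • a := by
    intro h
    exact hxx (PermReg.smul_inj_of_reg N hreg a hx hxi h)
  obtain ⟨c, hca, hcp, hcq⟩ := h4 a (x • a) (x⁻¹ • a)
  obtain ⟨g, hga, hgp, hgq⟩ := three_trans_elem h3 hap haq hpq hap hca.symm hcp.symm
  have hgx : g * x * g⁻¹ = x := by
    apply PermReg.smul_inj_of_reg N hreg a (‹N.Normal›.conj_mem x hx g) hx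
    rw [← PermReg.stab_smul_conj a g hga x, hgp]
  have : g • (x⁻¹ • a) = x⁻¹ • a := by
    rw [PermReg.stab_smul_conj a g hga x⁻¹]
    have : g * x⁻¹ * g⁻¹ = (g * x * g⁻¹)⁻¹ := by group
    rw [this, hgx]
  rw [this] at hgq
  exact hcq hgq.symm

/-- Lemma C2: a 4-transitive group of degree at least five has no regular normal subgroup
of exponent two. -/
theorem lemmaC2 (N : Subgroup G) [N.Normal] (hreg : ∀ x : X, stabilizer N x = ⊥)
    (hN : IsPretransitive N X) (hexp : ∀ x ∈ N, x ^ 2 = 1)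
    (h4 : IsMultiplyPretransitive G X 4)
    (h5 : ∀ p q r s : X, ∃ t : X, t ≠ p ∧ t ≠ q ∧ t ≠ r ∧ t ≠ s) (a : X) : False := by
  obtain ⟨p, hpa, -, -, -⟩ := h5 a a a a
  obtain ⟨q, hqa, hqp, -, -⟩ := h5 a p a a
  obtain ⟨⟨x, hx⟩, hxa⟩ := hN.exists_smul_eq a p
  obtain ⟨⟨y, hy⟩, hya⟩ := hN.exists_smul_eq a q
  change x • a = p at hxa
  change y • a = q at hya
  have hx2 : x * x = 1 := by rw [← pow_two]; exact hexp x hx
  have hxy : x * y ∈ N := N.mul_mem hx hy
  have hx1 : x ≠ 1 := by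
    rintro rfl
    rw [one_smul] at hxa
    exact hpa hxa.symm
  have hy1 : y ≠ 1 := by
    rintro rfl
    rw [one_smul] at hya
    exact hqa hya.symm
  have hyx : y ≠ x := by
    rintro rfl
    rw [hxa] at hya
    exact hqp hya.symm
  have hra : (x * y) • a ≠ a := by
    intro h
    have h1 := PermReg.smul_inj_of_reg N hreg a hxy N.one_mem (by rw [h, one_smul])
    apply hyx
    have : x * y = x * x := by rw [h1, hx2]
    exact mul_left_cancel this
  have hrp : (x * y) • a ≠ p := by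
    intro h
    have h1 := PermReg.smul_inj_of_reg N hreg a hxy hx (by rw [h, hxa])
    apply hy1
    exact mul_left_cancel (h1.trans (mul_one x).symm)
  have hrq : (x * y) • a ≠ q := by
    intro h
    have h1 := PermReg.smul_inj_of_reg N hreg a hxy hy (by rw [h, hya])
    apply hx1
    have : x * y = 1 * y := by rw [h1, one_mul]
    exact mul_right_cancel this
  obtain ⟨c, hca, hcp, hcq, hcr⟩ := h5 a p q ((x * y) • a)
  obtain ⟨g, hga, hgp, hgq, hgr⟩ := four_trans_elem h4 hpa.symm hqa.symm hra.symm hqp.symm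
    hrp.symm hrq.symm hpa.symm hqa.symm hca.symm hqp.symm hcp.symm hcq.symm
  have hgx : g * x * g⁻¹ = x := by
    apply PermReg.smul_inj_of_reg N hreg a (‹N.Normal›.conj_mem x hx g) hx
    rw [← PermReg.stab_smul_conj a g hga x, hxa, hgp]
  have hgy : g * y * g⁻¹ = y := by
    apply PermReg.smul_inj_of_reg N hreg a (‹N.Normal›.conj_mem y hy g) hy
    rw [← PermReg.stab_smul_conj a g hga y, hya, hgq]
  have : g • ((x * y) • a) = (x * y) • a := by
    rw [PermReg.stab_smul_conj a g hga (x * y)]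
    have : g * (x * y) * g⁻¹ = (g * x * g⁻¹) * (g * y * g⁻¹) := by group
    rw [this, hgx, hgy]
  rw [this] at hgr
  exact hcr hgr.symm

end Cfsg.Agent.Lib.Lead.NormMT
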