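import Mathlib
import Cfsg.Agent.Lib.Lead.NormMT2
import Cfsg.Agent.Lib.Helper2.Primitive

set_option autoImplicit false

namespace Cfsg.Agent.Lib.Lead.NormMT

open MulAction SubMulAction
open scoped Pointwise

universe u v

theorem exists_notMem_of_card {X : Type*} [Finite X] (s : Finset X) (h : s.card < Nat.card X) :
    ∃ x, x ∉ s := by
  classical
  by_contra hcon
  push Not at hcon
  haveI := Fintype.ofFinite X
  have : s = Finset.univ := Finset.eq_univ_iff_forall.mpr hcon
  rw [this, Finset.card_univ, Nat.card_eq_fintype_card] at h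
  exact lt_irrefl _ h

theorem exists_ne3 {X : Type*} [Finite X] (h : 4 ≤ Nat.card X) (p q r : X) :
    ∃ s : X, s ≠ p ∧ s ≠ q ∧ s ≠ r := by
  classical
  obtain ⟨x, hx⟩ := exists_notMem_of_card ({p, q, r} : Finset X)
    (lt_of_le_of_lt Finset.card_le_three (by omega))
  simp only [Finset.mem_insert, Finset.mem_singleton, not_or] at hx
  exact ⟨x, hx.1, hx.2.1, hx.2.2⟩

theorem exists_ne4 {X : Type*} [Finite X] (h : 5 ≤ Nat.card X) (p q r s : X) :
    ∃ t : X, t ≠ p ∧ t ≠ q ∧ t ≠ r ∧ t ≠ s := by
  classical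
  obtain ⟨x, hx⟩ := exists_notMem_of_card ({p, q, r, s} : Finset X)
    (lt_of_le_of_lt Finset.card_le_four (by omega))
  simp only [Finset.mem_insert, Finset.mem_singleton, not_or] at hx
  exact ⟨x, hx.1, hx.2.1, hx.2.2.1, hx.2.2.2⟩

theorem exists_ne1 {X : Type*} [Finite X] (h : 2 ≤ Nat.card X) (p : X) :
    ∃ s : X, s ≠ p := by
  classical
  obtain ⟨x, hx⟩ := exists_notMem_of_card ({p} : Finset X) (by
    rw [Finset.card_singleton]; omega)
  simp only [Finset.mem_singleton] at hx
  exact ⟨x, hx⟩

theorem exists_ne2 {X : Type*} [Finite X] (h : 3 ≤ Nat.card X) (p q : X) :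
    ∃ s : X, s ≠ p ∧ s ≠ q := by
  classical
  obtain ⟨x, hx⟩ := exists_notMem_of_card ({p, q} : Finset X)
    (lt_of_le_of_lt Finset.card_le_two (by omega))
  simp only [Finset.mem_insert, Finset.mem_singleton, not_or] at hx
  exact ⟨x, hx.1, hx.2⟩

/-- A normal nontrivial subgroup of a 2-transitive faithful group is transitive. -/
theorem normal_trans_of_two_trans {G : Type*} [Group G] {X : Type*} [MulAction G X]
    [FaithfulSMul G X] (h2 : IsMultiplyPretransitive G X 2) (N : Subgroup G) [N.Normal]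
    (hN : N ≠ ⊥) : IsPretransitive N X :=
  Helper2.isPretransitive_of_normal_of_primitive (isPreprimitive_of_is_two_pretransitive h2) N hN

/-- Exponent two implies commutative. -/
theorem comm_of_exp_two {G : Type*} [Group G] (N : Subgroup G) (hexp : ∀ n ∈ N, n ^ 2 = 1) :
    IsMulCommutative N := by
  refine ⟨⟨fun x y => ?_⟩⟩
  have hx := hexp x x.2
  have hy := hexp y y.2
  have hxy := hexp (x * y) (N.mul_mem x.2 y.2)
  apply Subtype.ext
  change (x : G) * y = y * x
  have e1 : (x : G)⁻¹ = x := inv_eq_of_mul_eq_one_left (by rw [← pow_two]; exact hx)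
  have e2 : (y : G)⁻¹ = y := inv_eq_of_mul_eq_one_left (by rw [← pow_two]; exact hy)
  have e3 : ((x : G) * y)⁻¹ = x * y := inv_eq_of_mul_eq_one_left (by rw [← pow_two]; exact hxy)
  rw [← e3, mul_inv_rev, e1, e2]

/-- A normal subgroup whose point stabilizer (inside `G_a`) has exponent two and is nontrivial,
in a 4-transitive group: impossible in degree at least four. -/
theorem no_exp_two_stab {G : Type u} [Group G] {X : Type v} [MulAction G X]
    [FaithfulSMul G X] [Finite X] (hX : 4 ≤ Nat.card X)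
    (h4 : IsMultiplyPretransitive G X 4) (N : Subgroup G) [N.Normal] (hN : IsPretransitive N X)
    (a : X) (hne : N.subgroupOf (stabilizer G a) ≠ ⊥)
    (hexp : ∀ n ∈ N.subgroupOf (stabilizer G a), n ^ 2 = 1) : False := by
  haveI : IsPretransitive G X := by
    have : IsMultiplyPretransitive G X 1 :=
      isMultiplyPretransitive_of_le (n := 4) (by norm_num) hX
    exact is_one_pretransitive_iff.mp this
  have h3a : IsMultiplyPretransitive (stabilizer G a) (ofStabilizer G a) 3 :=
    ofStabilizer.isMultiplyPretransitive.mp h4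
  haveI := faithful_ofStabilizer (G := G) a
  have hcardY : Nat.card (ofStabilizer G a) = Nat.card X - 1 := nat_card_ofStabilizer_eq G a
  have h2a : IsMultiplyPretransitive (stabilizer G a) (ofStabilizer G a) 2 :=
    isMultiplyPretransitive_of_le (n := 3) (by norm_num) (by rw [hcardY]; omega)
  have hNa : IsPretransitive (N.subgroupOf (stabilizer G a)) (ofStabilizer G a) :=
    normal_trans_of_two_trans h2a _ hne
  have hcomm := comm_of_exp_two _ hexp
  have hregY := Helper2.stabilizer_eq_bot_of_transitive_abelian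
    (N.subgroupOf (stabilizer G a)) hcomm hNa
  obtain ⟨q, hq⟩ := exists_ne1 (by omega) a
  obtain ⟨r, hra, hrq⟩ := exists_ne2 (by omega) a q
  obtain ⟨s, hsa, hsq, hsr⟩ := exists_ne3 hX a q r
  refine lemmaT N hN a ?_ ?_ ?_ a q r s hq.symm hra.symm hsa.symm hrq.symm hsq.symm hsr.symm
  · intro n hn hna
    have := hexp ⟨n, hna⟩ (by rw [Subgroup.mem_subgroupOf]; exact hn)
    exact congrArg Subtype.val this
  · intro x y hx hy
    obtain ⟨⟨⟨n, hna⟩, hnN⟩, hnx⟩ := hNa.exists_smul_eq (⟨x, hx⟩ : ofStabilizer G a) ⟨y, hy⟩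
    rw [Subgroup.mem_subgroupOf] at hnN
    refine ⟨n, hnN, hna, ?_⟩
    exact congrArg Subtype.val hnx
  · intro n hn hna y hy hny
    have hmem : (⟨⟨n, hna⟩, by rw [Subgroup.mem_subgroupOf]; exact hn⟩ :
        N.subgroupOf (stabilizer G a)) ∈
        stabilizer (N.subgroupOf (stabilizer G a)) (⟨y, hy⟩ : ofStabilizer G a) := by
      rw [mem_stabilizer_iff]
      apply Subtype.ext
      exact hny
    rw [hregY, Subgroup.mem_bot] at hmem
    have := congrArg (fun z : N.subgroupOf (stabilizer G a) => ((z : stabilizer G a) : G)) hmem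
    exact this

end Cfsg.Agent.Lib.Lead.NormMT
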