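import Mathlib
import Cfsg.Agent.Lib.Lead.NormMT3

set_option autoImplicit false

namespace Cfsg.Agent.Lib.Lead.NormMT

open MulAction SubMulAction
open scoped Pointwise

universe u v

/-- Jordan's theorem on normal subgroups of multiply transitive groups (general faithful action). -/
theorem jordan_normal (k : ℕ) (hk : 2 ≤ k) :
    ∀ {G : Type u} [Group G] {X : Type v} [MulAction G X] [FaithfulSMul G X] [Finite X],
      k < Nat.card X → IsMultiplyPretransitive G X k → ∀ (N : Subgroup G) [N.Normal], N ≠ ⊥ →
      IsMultiplyPretransitive N X (k - 1) ∨ (k = 3 ∧ ∀ n ∈ N, n ^ 2 = 1) := by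
  induction k, hk using Nat.le_induction with
  | base =>
    intro G _ X _ _ _ hcard hG N _ hN
    left
    have := normal_trans_of_two_trans hG N hN
    exact is_one_pretransitive_iff.mpr this
  | succ k hk ih =>
    intro G _ X _ _ _ hcard hG N _ hN
    have h2 : IsMultiplyPretransitive G X 2 :=
      isMultiplyPretransitive_of_le (n := k + 1) (by omega) (by omega)
    have hNt : IsPretransitive N X := normal_trans_of_two_trans h2 N hN
    have hne : Nonempty X := by
      rw [← Finite.card_pos_iff]; omega
    by_cases hreg : ∀ x : X, stabilizer N x = ⊥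
    · obtain ⟨a⟩ := hne
      have h3 : IsMultiplyPretransitive G X 3 :=
        isMultiplyPretransitive_of_le (n := k + 1) (by omega) (by omega)
      have hexp := lemmaC1 N hreg h3 (exists_ne3 (by omega)) a
      by_cases hk3 : k + 1 = 3
      · exact Or.inr ⟨hk3, hexp⟩
      · exfalso
        have h4 : IsMultiplyPretransitive G X 4 :=
          isMultiplyPretransitive_of_le (n := k + 1) (by omega) (by omega)
        exact lemmaC2 N hreg hNt hexp h4 (exists_ne4 (by omega)) a
    · push Not at hreg
      obtain ⟨a, ha⟩ := hreg
      rw [Ne, Subgroup.eq_bot_iff_forall] at ha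
      push Not at ha
      obtain ⟨n, hn, hn1⟩ := ha
      have hne' : N.subgroupOf (stabilizer G a) ≠ ⊥ := by
        apply subgroupOf_stab_ne_bot N a n.2 (fun h => hn1 (Subtype.ext h))
        rw [mem_stabilizer_iff] at hn
        exact hn
      haveI : IsPretransitive G X := by
        have : IsMultiplyPretransitive G X 1 :=
          isMultiplyPretransitive_of_le (n := k + 1) (by omega) (by omega)
        exact is_one_pretransitive_iff.mp this
      have hGa : IsMultiplyPretransitive (stabilizer G a) (ofStabilizer G a) k :=
        ofStabilizer.isMultiplyPretransitive.mp hG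
      haveI := faithful_ofStabilizer (G := G) a
      have hcardY : Nat.card (ofStabilizer G a) = Nat.card X - 1 := nat_card_ofStabilizer_eq G a
      rcases ih (G := stabilizer G a) (X := ofStabilizer G a) (by omega) hGa
        (N.subgroupOf (stabilizer G a)) hne' with h | ⟨hk3, hexp⟩
      · left
        have e : k + 1 - 1 = k - 1 + 1 := by omega
        rw [e]
        exact (bridge N a (k - 1)).mpr h
      · exfalso
        subst hk3
        exact no_exp_two_stab (by omega) hG N hNt a hne' hexp

end Cfsg.Agent.Lib.Lead.NormMT
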