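import Mathlib
import Cfsg.Agent.Lib.Lead.NormMT4
import Cfsg.Agent.S0695

set_option autoImplicit false

namespace Cfsg.Agent.Lib.Lead.NormMT

open MulAction SubMulAction
open scoped Pointwise

universe u v

theorem finite_of_faithful {G : Type*} [Group G] {X : Type*} [MulAction G X]
    [FaithfulSMul G X] [Finite X] : Finite G :=
  Finite.of_injective (MulAction.toPermHom G X) MulAction.toPerm_injective

/-- A faithful `(n-1)`-transitive group of degree `n` has order `n!`. -/
theorem card_eq_factorial_of_trans {G : Type*} [Group G] {X : Type*} [MulAction G X]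
    [FaithfulSMul G X] [Finite X] (hX : 1 ≤ Nat.card X)
    (h : IsMultiplyPretransitive G X (Nat.card X - 1)) :
    Nat.card G = (Nat.card X).factorial := by
  classical
  haveI : Finite G := finite_of_faithful (X := X)
  haveI := Fintype.ofFinite X
  apply le_antisymm
  · have := Nat.card_le_card_of_injective (MulAction.toPermHom G X) MulAction.toPerm_injective
    rwa [Nat.card_perm] at this
  · have hemb : Nonempty (Fin (Nat.card X - 1) ↪ X) := by
      apply Function.Embedding.nonempty_of_card_le
      rw [Fintype.card_fin, ← Nat.card_eq_fintype_card]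
      omega
    obtain ⟨x₀⟩ := hemb
    have hsurj : Function.Surjective (fun g : G => g • x₀) := fun y => h.exists_smul_eq x₀ y
    have h1 := Nat.card_le_card_of_surjective _ hsurj
    have h2 : Nat.card (Fin (Nat.card X - 1) ↪ X) = (Nat.card X).factorial := by
      rw [Nat.card_eq_fintype_card, Fintype.card_embedding_eq, Fintype.card_fin,
        ← Nat.card_eq_fintype_card]
      have := Nat.factorial_mul_descFactorial (n := Nat.card X) (k := Nat.card X - 1) (by omega)
      have e : Nat.card X - (Nat.card X - 1) = 1 := by omega
      rw [e, Nat.factorial_one, one_mul] at this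
      exact this
    rw [h2] at h1
    exact h1

/-- Lemma T in subgroupOf form. -/
theorem lemmaT' {G : Type*} [Group G] {X : Type*} [MulAction G X]
    (N : Subgroup G) (hN : IsPretransitive N X) (a : X)
    (hNa : IsPretransitive (N.subgroupOf (stabilizer G a)) (ofStabilizer G a))
    (hregY : ∀ y : ofStabilizer G a, stabilizer (N.subgroupOf (stabilizer G a)) y = ⊥)
    (hexp : ∀ n ∈ N.subgroupOf (stabilizer G a), n ^ 2 = 1)
    (p q r s : X) (hpq : p ≠ q) (hpr : p ≠ r) (hps : p ≠ s) (hqr : q ≠ r) (hqs : q ≠ s)
    (hrs : r ≠ s) : False := by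
  refine lemmaT N hN a ?_ ?_ ?_ p q r s hpq hpr hps hqr hqs hrs
  · intro n hn hna
    have := hexp ⟨n, hna⟩ (by rw [Subgroup.mem_subgroupOf]; exact hn)
    exact congrArg Subtype.val this
  · intro x y hx hy
    obtain ⟨⟨⟨n, hna⟩, hnN⟩, hnx⟩ := hNa.exists_smul_eq (⟨x, hx⟩ : ofStabilizer G a) ⟨y, hy⟩
    rw [Subgroup.mem_subgroupOf] at hnN
    refine ⟨n, hnN, hna, ?_⟩
    exact congrArg Subtype.val hnx
  · intro n hn hna y hy hny
    have hmem : (⟨⟨n, hna⟩, by rw [Subgroup.mem_subgroupOf]; exact hn⟩ :
        N.subgroupOf (stabilizer G a)) ∈
        stabilizer (N.subgroupOf (stabilizer G a)) (⟨y, hy⟩ : ofStabilizer G a) := by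
      rw [mem_stabilizer_iff]
      apply Subtype.ext
      exact hny
    rw [hregY, Subgroup.mem_bot] at hmem
    have := congrArg (fun z : N.subgroupOf (stabilizer G a) => ((z : stabilizer G a) : G)) hmem
    exact this

/-- Wielandt-type theorem: non-regular normal subgroups of `k`-primitive groups other than the
symmetric group are `k`-transitive. -/
theorem wielandt_normal (k : ℕ) (hk : 1 ≤ k) :
    ∀ {G : Type u} [Group G] {X : Type v} [MulAction G X] [FaithfulSMul G X] [Finite X],
      k ≤ Nat.card X → IsMultiplyPreprimitive G X k → Nat.card G ≠ (Nat.card X).factorial →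
      ∀ (H : Subgroup G) [H.Normal], H ≠ ⊥ → (2 ≤ k → ∃ a : X, stabilizer H a ≠ ⊥) →
      IsMultiplyPretransitive H X k := by
  induction k, hk using Nat.le_induction with
  | base =>
    intro G _ X _ _ _ hcard hG hGtop H _ hH _
    have hp : IsPreprimitive G X := (is_one_preprimitive_iff G X).mp hG
    exact is_one_pretransitive_iff.mpr (Helper2.isPretransitive_of_normal_of_primitive hp H hH)
  | succ k hk ih =>
    intro G _ X _ _ _ hcard hG hGtop H _ hH hnr
    haveI : Finite G := finite_of_faithful (X := X)
    have hcardE : ((k + 1 : ℕ) : ℕ∞) ≤ ENat.card X := by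
      rw [ENat.card_eq_coe_natCard]; exact_mod_cast hcard
    have h1 : IsMultiplyPreprimitive G X 1 :=
      isMultiplyPreprimitive_of_le G X hG (by omega) hcardE
    have hp : IsPreprimitive G X := (is_one_preprimitive_iff G X).mp h1
    haveI : IsPretransitive G X := hp.toIsPretransitive
    have hHt : IsPretransitive H X := Helper2.isPretransitive_of_normal_of_primitive hp H hH
    obtain ⟨a, ha⟩ := hnr (by omega)
    rw [Ne, Subgroup.eq_bot_iff_forall] at ha
    push Not at ha
    obtain ⟨n, hn, hn1⟩ := ha
    have hne' : H.subgroupOf (stabilizer G a) ≠ ⊥ := by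
      apply subgroupOf_stab_ne_bot H a n.2 (fun h => hn1 (Subtype.ext h))
      rw [mem_stabilizer_iff] at hn
      exact hn
    have hGa : IsMultiplyPreprimitive (stabilizer G a) (ofStabilizer G a) k :=
      isMultiplyPreprimitive_ofStabilizer (M := G) (α := X) (n := k) (a := a)
    haveI := faithful_ofStabilizer (G := G) a
    have hcardY : Nat.card (ofStabilizer G a) = Nat.card X - 1 := nat_card_ofStabilizer_eq G a
    have hGatop : Nat.card (stabilizer G a) ≠ (Nat.card (ofStabilizer G a)).factorial := by
      intro h
      apply hGtop
      have h1 := Subgroup.card_mul_index (stabilizer G a)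
      rw [MulAction.index_stabilizer_of_transitive, h, hcardY] at h1
      rw [← h1, mul_comm]
      exact Nat.mul_factorial_pred (by omega)
    have hk1 : k + 1 = k + 1 := rfl
    by_cases hsr : ∃ y : ofStabilizer G a, stabilizer (H.subgroupOf (stabilizer G a)) y ≠ ⊥
    · have := ih (G := stabilizer G a) (X := ofStabilizer G a) (by omega) hGa hGatop
        (H.subgroupOf (stabilizer G a)) hne' (fun _ => hsr)
      exact (bridge H a k).mpr this
    · push Not at hsr
      by_cases hk2 : 2 ≤ k
      · exfalso
        have hcardYE : ((k : ℕ) : ℕ∞) ≤ ENat.card (ofStabilizer G a) := by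
          rw [ENat.card_eq_coe_natCard, hcardY]; exact_mod_cast (by omega)
        have h2a : IsMultiplyPreprimitive (stabilizer G a) (ofStabilizer G a) 2 :=
          isMultiplyPreprimitive_of_le _ _ hGa hk2 hcardYE
        have h1a : IsMultiplyPreprimitive (stabilizer G a) (ofStabilizer G a) 1 :=
          isMultiplyPreprimitive_of_le _ _ hGa (by omega) hcardYE
        have hpa : IsPreprimitive (stabilizer G a) (ofStabilizer G a) :=
          (is_one_preprimitive_iff _ _).mp h1a
        have hHa : IsPretransitive (H.subgroupOf (stabilizer G a)) (ofStabilizer G a) :=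
          Helper2.isPretransitive_of_normal_of_primitive hpa _ hne'
        letI := Fintype.ofFinite (ofStabilizer G a)
        have hcY : Fintype.card (ofStabilizer G a) = Nat.card X - 1 := by
          rw [← Nat.card_eq_fintype_card, hcardY]
        have hGk : IsMultiplyPretransitive G X (k + 1) := hG.isMultiplyPretransitive
        rcases Cfsg.Agent.S0695.result (by rw [hcY]; omega) h2a
          (H.subgroupOf (stabilizer G a)) hHa hsr with h3 | ⟨_, hexp, _⟩
        · -- degree four
          rw [hcY] at h3
          have hX4 : Nat.card X = 4 := by omega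
          apply hGtop
          apply card_eq_factorial_of_trans (by omega)
          rw [hX4]
          exact isMultiplyPretransitive_of_le (n := k + 1) (by omega) (by omega)
        · -- exponent two: degree at most three
          have hX3 : Nat.card X ≤ 3 := by
            by_contra hcon
            push Not at hcon
            obtain ⟨q, hq⟩ := exists_ne1 (by omega) a
            obtain ⟨r, hra, hrq⟩ := exists_ne2 (by omega) a q
            obtain ⟨s, hsa, hsq, hsr'⟩ := exists_ne3 (by omega) a q r
            exact lemmaT' H hHt a hHa hsr hexp a q r s hq.symm hra.symm hsa.symm hrq.symm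
              hsq.symm hsr'.symm
          apply hGtop
          apply card_eq_factorial_of_trans (by omega)
          exact isMultiplyPretransitive_of_le (n := k + 1) (by omega) (by omega)
      · have hk1' : k = 1 := by omega
        subst hk1'
        have := ih (G := stabilizer G a) (X := ofStabilizer G a) (by omega) hGa hGatop
          (H.subgroupOf (stabilizer G a)) hne' (fun h => by omega)
        exact (bridge H a 1).mpr this

end Cfsg.Agent.Lib.Lead.NormMT
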