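import Mathlib
import Cfsg.Agent.Lib.Lead.NormMT4

set_option autoImplicit false

namespace Cfsg.Agent.Lib.Lead.NormMT

open MulAction SubMulAction
open scoped Pointwise

universe u v

/-- A finite 2-group acting on a type and preserving a finite set of odd size fixes a point of it. -/
theorem exists_fixed_in_invariant_odd {S : Type*} [Group S] [Finite S] (hS : IsPGroup 2 S)
    {X : Type*} [MulAction S X] (Y : Set X) (hinv : ∀ s : S, ∀ y ∈ Y, s • y ∈ Y)
    (hodd : Odd Y.ncard) : ∃ y ∈ Y, ∀ s : S, s • y = y := by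
  let Z : SubMulAction S X := { carrier := Y, smul_mem' := fun s y hy => hinv s y hy }
  haveI : Fact (Nat.Prime 2) := ⟨Nat.prime_two⟩
  have hcard : Nat.card Z = Y.ncard := Nat.card_coe_set_eq Y
  have hnd : ¬ 2 ∣ Nat.card Z := by
    rw [hcard]; exact hodd.not_two_dvd_nat
  obtain ⟨z, hz⟩ := hS.nonempty_fixed_point_of_prime_not_dvd_card Z hnd
  refine ⟨z.1, z.2, fun s => ?_⟩
  have := hz s
  exact congrArg Subtype.val this

variable {G : Type*} [Group G] {X : Type*} [MulAction G X]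

/-- The pointwise stabilizer in `N` of two points. -/
def twoStab (N : Subgroup G) (a b : X) : Subgroup G := N ⊓ stabilizer G a ⊓ stabilizer G b

theorem mem_twoStab {N : Subgroup G} {a b : X} {n : G} :
    n ∈ twoStab N a b ↔ n ∈ N ∧ n • a = a ∧ n • b = b := by
  simp only [twoStab, Subgroup.mem_inf, mem_stabilizer_iff, and_assoc]

/-- The setwise stabilizer in `N` of a pair of points. -/
def pairStab (N : Subgroup G) (a b : X) : Subgroup G where
  carrier := {n | n ∈ N ∧ ((n • a = a ∧ n • b = b) ∨ (n • a = b ∧ n • b = a))}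
  one_mem' := ⟨N.one_mem, Or.inl ⟨one_smul _ _, one_smul _ _⟩⟩
  mul_mem' := by
    rintro x y ⟨hx, hx'⟩ ⟨hy, hy'⟩
    refine ⟨N.mul_mem hx hy, ?_⟩
    rcases hx' with ⟨h1, h2⟩ | ⟨h1, h2⟩ <;> rcases hy' with ⟨h3, h4⟩ | ⟨h3, h4⟩
    · left; rw [mul_smul, mul_smul, h3, h4, h1, h2]; exact ⟨rfl, rfl⟩
    · right; rw [mul_smul, mul_smul, h3, h4, h1, h2]; exact ⟨rfl, rfl⟩
    · right; rw [mul_smul, mul_smul, h3, h4, h1, h2]; exact ⟨rfl, rfl⟩
    · left; rw [mul_smul, mul_smul, h3, h4, h1, h2]; exact ⟨rfl, rfl⟩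
  inv_mem' := by
    rintro x ⟨hx, hx'⟩
    refine ⟨N.inv_mem hx, ?_⟩
    rcases hx' with ⟨h1, h2⟩ | ⟨h1, h2⟩
    · left
      exact ⟨by rw [inv_smul_eq_iff, h1], by rw [inv_smul_eq_iff, h2]⟩
    · right
      exact ⟨by rw [inv_smul_eq_iff, h2], by rw [inv_smul_eq_iff, h1]⟩

theorem mem_pairStab {N : Subgroup G} {a b : X} {n : G} :
    n ∈ pairStab N a b ↔
      n ∈ N ∧ ((n • a = a ∧ n • b = b) ∨ (n • a = b ∧ n • b = a)) := Iff.rfl

theorem twoStab_le_pairStab (N : Subgroup G) (a b : X) : twoStab N a b ≤ pairStab N a b := by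
  intro n hn
  rw [mem_twoStab] at hn
  exact ⟨hn.1, Or.inl hn.2⟩

/-- `|L| = 2 |K|`. -/
theorem card_pairStab [Finite G] (N : Subgroup G) {a b : X} (hab : a ≠ b) {t : G} (ht : t ∈ N)
    (hta : t • a = b) (htb : t • b = a) :
    Nat.card (pairStab N a b) = 2 * Nat.card (twoStab N a b) := by
  classical
  have h1 := Subgroup.card_mul_index (stabilizer (pairStab N a b) a)
  rw [MulAction.index_stabilizer] at h1
  have horb : orbit (pairStab N a b) a = {a, b} := by
    ext x
    constructor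
    · rintro ⟨⟨l, hl⟩, rfl⟩
      change l • a ∈ ({a, b} : Set X)
      rcases hl.2 with ⟨h, _⟩ | ⟨h, _⟩
      · rw [h]; simp
      · rw [h]; simp
    · intro hx
      simp only [Set.mem_insert_iff, Set.mem_singleton_iff] at hx
      rcases hx with rfl | rfl
      · exact mem_orbit_self _
      · exact ⟨⟨t, ht, Or.inr ⟨hta, htb⟩⟩, hta⟩
  rw [horb, Set.ncard_pair hab] at h1
  have h2 : Nat.card (stabilizer (pairStab N a b) a) = Nat.card (twoStab N a b) := by
    have hmap : (stabilizer (pairStab N a b) a).map (pairStab N a b).subtype = twoStab N a b := by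
      ext n
      rw [Subgroup.mem_map, mem_twoStab]
      constructor
      · rintro ⟨⟨l, hl⟩, hla, rfl⟩
        rw [mem_stabilizer_iff] at hla
        change l • a = a at hla
        refine ⟨hl.1, hla, ?_⟩
        rcases hl.2 with ⟨_, h⟩ | ⟨h, _⟩
        · exact h
        · exfalso; rw [hla] at h; exact hab h
      · rintro ⟨hn, hna, hnb⟩
        refine ⟨⟨n, hn, Or.inl ⟨hna, hnb⟩⟩, ?_, rfl⟩
        rw [mem_stabilizer_iff]
        exact hna
    rw [← hmap]
    exact (Subgroup.card_map_of_injective (Subgroup.subtype_injective _)).symm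
  rw [← h1, h2, mul_comm]

end Cfsg.Agent.Lib.Lead.NormMT
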