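import Mathlib
import Cfsg.Agent.Lib.Lead.NormMT6

set_option autoImplicit false

namespace Cfsg.Agent.Lib.Lead.NormMT

open MulAction SubMulAction
open scoped Pointwise

variable {G : Type*} [Group G] {X : Type*} [MulAction G X]

theorem inj2 {a b : X} (hab : a ≠ b) : Function.Injective ![a, b] := by
  intro i j h
  fin_cases i <;> fin_cases j <;> simp_all

theorem two_trans_elem (h2 : IsMultiplyPretransitive G X 2) {a b a' b' : X}
    (hab : a ≠ b) (hab' : a' ≠ b') : ∃ g : G, g • a = a' ∧ g • b = b' := by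
  obtain ⟨g, hg⟩ := h2.exists_smul_eq (⟨![a, b], inj2 hab⟩ : Fin 2 ↪ X) ⟨![a', b'], inj2 hab'⟩
  refine ⟨g, ?_, ?_⟩
  · have := congrArg (fun f : Fin 2 ↪ X => f 0) hg
    simpa using this
  · have := congrArg (fun f : Fin 2 ↪ X => f 1) hg
    simpa using this

/-- Claim A: a Sylow 2-subgroup of the pair stabilizer fixes at most one point. -/
theorem sylow_fixes_le_one [Finite G] (N : Subgroup G) (h2 : IsMultiplyPretransitive N X 2)
    {a b : X} (hab : a ≠ b) {t : G} (ht : t ∈ N) (hta : t • a = b) (htb : t • b = a)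
    (S : Sylow 2 (pairStab N a b)) {c₁ c₂ : X}
    (h1 : ∀ s ∈ S, ((s : pairStab N a b) : G) • c₁ = c₁)
    (h2' : ∀ s ∈ S, ((s : pairStab N a b) : G) • c₂ = c₂) : c₁ = c₂ := by
  by_contra hne
  haveI : Fact (Nat.Prime 2) := ⟨Nat.prime_two⟩
  obtain ⟨⟨m, hm⟩, hma, hmb⟩ := two_trans_elem h2 hab hne
  change m • a = c₁ at hma
  change m • b = c₂ at hmb
  let ψ : (S : Subgroup (pairStab N a b)) →* twoStab N a b :=
    { toFun := fun s => ⟨m⁻¹ * ((s : pairStab N a b) : G) * m, by
        rw [mem_twoStab]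
        refine ⟨N.mul_mem (N.mul_mem (N.inv_mem hm) (s : pairStab N a b).2.1) hm, ?_, ?_⟩
        · rw [mul_smul, mul_smul, hma, h1 s s.2, inv_smul_eq_iff, hma]
        · rw [mul_smul, mul_smul, hmb, h2' s s.2, inv_smul_eq_iff, hmb]⟩
      map_one' := by
        apply Subtype.ext
        simp
      map_mul' := fun x y => by
        apply Subtype.ext
        simp only [Subgroup.coe_mul]
        group }
  have hinj : Function.Injective ψ := by
    intro x y hxy
    have := congrArg (fun z : twoStab N a b => (z : G)) hxy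
    simp only [ψ, MonoidHom.coe_mk, OneHom.coe_mk] at this
    have h' : ((x : pairStab N a b) : G) = ((y : pairStab N a b) : G) := by
      have h'' := mul_right_cancel this
      exact mul_left_cancel h''
    exact Subtype.ext (Subtype.ext h')
  have hdvd := Subgroup.card_dvd_of_injective ψ hinj
  have hS := S.card_eq_multiplicity
  rw [card_pairStab N hab ht hta htb] at hS
  have hK0 : Nat.card (twoStab N a b) ≠ 0 := Nat.card_pos.ne'
  rw [Nat.factorization_mul (by norm_num) hK0, Finsupp.add_apply,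
    Nat.Prime.factorization_self Nat.prime_two, add_comm] at hS
  have hS' : Nat.card (S : Subgroup (pairStab N a b)) =
      2 ^ ((Nat.card (twoStab N a b)).factorization 2 + 1) := hS
  rw [hS'] at hdvd
  exact Nat.pow_succ_factorization_not_dvd hK0 Nat.prime_two hdvd

/-- Claim C: an element of the pair stabilizer fixing a third point preserves the orbits of the
two-point stabilizer. -/
theorem pairStab_preserves_orbits (h3 : IsMultiplyPretransitive G X 3) (N : Subgroup G)
    [N.Normal] {a b c : X} (hab : a ≠ b) (hca : c ≠ a) (hcb : c ≠ b) {s : G}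
    (hs : s ∈ pairStab N a b) (hsc : s • c = c) {x : X} (hxa : x ≠ a) (hxb : x ≠ b) :
    ∃ k ∈ twoStab N a b, s • x = k • x := by
  obtain ⟨g, hga, hgb, hgc⟩ := three_trans_elem h3 hab hca.symm hcb.symm hab hxa.symm hxb.symm
  have hgia : g⁻¹ • a = a := by rw [inv_smul_eq_iff, hga]
  have hgib : g⁻¹ • b = b := by rw [inv_smul_eq_iff, hgb]
  have hsic : s⁻¹ • c = c := by rw [inv_smul_eq_iff, hsc]
  have hs'N : g⁻¹ * s * g ∈ N := by
    have := ‹N.Normal›.conj_mem s hs.1 g⁻¹
    rwa [inv_inv] at this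
  have hk' : g⁻¹ * s * g * s⁻¹ ∈ twoStab N a b := by
    rw [mem_twoStab]
    refine ⟨N.mul_mem hs'N (N.inv_mem hs.1), ?_, ?_⟩
    · rcases hs.2 with ⟨h1, h2⟩ | ⟨h1, h2⟩
      · have : s⁻¹ • a = a := by rw [inv_smul_eq_iff, h1]
        rw [mul_smul, mul_smul, mul_smul, this, hga, h1, hgia]
      · have : s⁻¹ • a = b := by rw [inv_smul_eq_iff, h2]
        rw [mul_smul, mul_smul, mul_smul, this, hgb, h2, hgia]
    · rcases hs.2 with ⟨h1, h2⟩ | ⟨h1, h2⟩
      · have : s⁻¹ • b = b := by rw [inv_smul_eq_iff, h2]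
        rw [mul_smul, mul_smul, mul_smul, this, hgb, h2, hgib]
      · have : s⁻¹ • b = a := by rw [inv_smul_eq_iff, h1]
        rw [mul_smul, mul_smul, mul_smul, this, hga, h1, hgib]
  rw [mem_twoStab] at hk'
  refine ⟨g * (g⁻¹ * s * g * s⁻¹) * g⁻¹, ?_, ?_⟩
  · rw [mem_twoStab]
    refine ⟨‹N.Normal›.conj_mem _ hk'.1 g, ?_, ?_⟩
    · rw [mul_smul, mul_smul, hgia, hk'.2.1, hga]
    · rw [mul_smul, mul_smul, hgib, hk'.2.2, hgb]
  · have hgix : g⁻¹ • x = c := by rw [inv_smul_eq_iff, hgc]
    rw [mul_smul, mul_smul, hgix, mul_smul, mul_smul, mul_smul, hsic, hgc, smul_inv_smul]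

/-- Claim D: orbits of the two-point stabilizer of a normal subgroup on the remaining points
have odd length. -/
theorem odd_orbit_twoStab [Finite X] (hodd : Odd (Nat.card X)) (hX3 : 3 ≤ Nat.card X)
    (h3 : IsMultiplyPretransitive G X 3) (N : Subgroup G) [N.Normal] {a b : X} (hab : a ≠ b)
    {x : X} (hxa : x ≠ a) (hxb : x ≠ b) :
    Odd ({z | ∃ k ∈ twoStab N a b, z = k • x} : Set X).ncard := by
  classical
  have hxs : x ∉ ({a, b} : Set X) := by simp [hxa, hxb]
  let y : ofFixingSubgroup G ({a, b} : Set X) := ⟨x, hxs⟩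
  have hfin : Finite ({a, b} : Set X) := Set.finite_coe_iff.mpr (Set.toFinite _)
  have h1 : IsMultiplyPretransitive (fixingSubgroup G ({a, b} : Set X))
      (ofFixingSubgroup G ({a, b} : Set X)) 1 :=
    ofFixingSubgroup.isMultiplyPretransitive G ({a, b} : Set X) (by rw [Set.ncard_pair hab])
  haveI : IsPretransitive (fixingSubgroup G ({a, b} : Set X))
      (ofFixingSubgroup G ({a, b} : Set X)) := is_one_pretransitive_iff.mp h1
  have hblock := IsBlock.orbit_of_normal (G := fixingSubgroup G ({a, b} : Set X))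
    (N := N.subgroupOf (fixingSubgroup G ({a, b} : Set X))) y
  have hdvd := hblock.ncard_dvd_card ⟨y, mem_orbit_self y⟩
  have hcardY : Nat.card (ofFixingSubgroup G ({a, b} : Set X)) = Nat.card X - 2 := by
    have e1 : Nat.card (ofFixingSubgroup G ({a, b} : Set X)) = (({a, b} : Set X)ᶜ).ncard :=
      Nat.card_coe_set_eq (({a, b} : Set X)ᶜ)
    have e2 := Set.ncard_add_ncard_compl ({a, b} : Set X)
    rw [Set.ncard_pair hab] at e2
    omega
  have himg : (Subtype.val '' (orbit (N.subgroupOf (fixingSubgroup G ({a, b} : Set X))) y) : Set X)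
      = {z | ∃ k ∈ twoStab N a b, z = k • x} := by
    ext z
    constructor
    · rintro ⟨y', ⟨⟨⟨k, hkA⟩, hkN⟩, rfl⟩, rfl⟩
      rw [Subgroup.mem_subgroupOf] at hkN
      rw [mem_fixingSubgroup_iff] at hkA
      refine ⟨k, ?_, rfl⟩
      rw [mem_twoStab]
      exact ⟨hkN, hkA a (by simp), hkA b (by simp)⟩
    · rintro ⟨k, hk, rfl⟩
      rw [mem_twoStab] at hk
      have hkA : k ∈ fixingSubgroup G ({a, b} : Set X) := by
        rw [mem_fixingSubgroup_iff]
        intro p hp
        simp only [Set.mem_insert_iff, Set.mem_singleton_iff] at hp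
        rcases hp with rfl | rfl
        · exact hk.2.1
        · exact hk.2.2
      refine ⟨(⟨⟨k, hkA⟩, by rw [Subgroup.mem_subgroupOf]; exact hk.1⟩ :
        N.subgroupOf (fixingSubgroup G ({a, b} : Set X))) • y, ⟨_, rfl⟩, rfl⟩
  rw [← himg, Set.ncard_image_of_injective _ Subtype.val_injective]
  rw [hcardY] at hdvd
  have hodd2 : Odd (Nat.card X - 2) := by
    obtain ⟨m, hm⟩ := hodd
    exact ⟨m - 1, by omega⟩
  exact Odd.of_dvd_nat hodd2 hdvd

end Cfsg.Agent.Lib.Lead.NormMT
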