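import Mathlib
import Cfsg.Agent.Lib.Lead.NormMT7

set_option autoImplicit false

namespace Cfsg.Agent.Lib.Lead.NormMT

open MulAction SubMulAction
open scoped Pointwise

variable {G : Type*} [Group G] {X : Type*} [MulAction G X]

theorem pairStab_smul_notMem {N : Subgroup G} {a b : X} {s : G} (hs : s ∈ pairStab N a b)
    {y : X} (hya : y ≠ a) (hyb : y ≠ b) : s • y ≠ a ∧ s • y ≠ b := by
  rcases hs.2 with ⟨h1, h2⟩ | ⟨h1, h2⟩
  · constructor
    · intro h
      rw [← h1] at h
      exact hya (MulAction.injective s h)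
    · intro h
      rw [← h2] at h
      exact hyb (MulAction.injective s h)
  · constructor
    · intro h
      rw [← h2] at h
      exact hyb (MulAction.injective s h)
    · intro h
      rw [← h1] at h
      exact hya (MulAction.injective s h)

theorem twoStab_smul_notMem {N : Subgroup G} {a b : X} {s : G} (hs : s ∈ twoStab N a b)
    {y : X} (hya : y ≠ a) (hyb : y ≠ b) : s • y ≠ a ∧ s • y ≠ b :=
  pairStab_smul_notMem (twoStab_le_pairStab N a b hs) hya hyb

/-- In Wagner's situation the two-point stabilizer of `N` is transitive on the remaining points. -/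
theorem twoStab_trans_of_wagner [FaithfulSMul G X] [Finite X] (hodd : Odd (Nat.card X))
    (hX3 : 3 ≤ Nat.card X) (h3 : IsMultiplyPretransitive G X 3) (N : Subgroup G) [N.Normal]
    (hN2 : IsMultiplyPretransitive N X 2) {a b : X} (hab : a ≠ b) :
    ∀ x y : X, x ≠ a → x ≠ b → y ≠ a → y ≠ b → ∃ k ∈ twoStab N a b, k • x = y := by
  classical
  haveI : Finite G := Finite.of_injective (MulAction.toPermHom G X) MulAction.toPerm_injective
  obtain ⟨⟨t, ht⟩, hta, htb⟩ := two_trans_elem hN2 hab hab.symm
  change t • a = b at hta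
  change t • b = a at htb
  let S : Sylow 2 (pairStab N a b) := default
  have hSp : IsPGroup 2 (S : Subgroup (pairStab N a b)) := S.isPGroup'
  -- Claim B : a fixed point outside {a, b}
  have hcompl : (({a, b} : Set X)ᶜ).ncard = Nat.card X - 2 := by
    have e2 := Set.ncard_add_ncard_compl ({a, b} : Set X)
    rw [Set.ncard_pair hab] at e2
    omega
  have hodd2 : Odd (Nat.card X - 2) := by
    obtain ⟨m, hm⟩ := hodd
    exact ⟨m - 1, by omega⟩
  obtain ⟨c, hc, hSc⟩ := exists_fixed_in_invariant_odd hSp (({a, b} : Set X)ᶜ)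
    (by
      intro s y hy
      simp only [Set.mem_compl_iff, Set.mem_insert_iff, Set.mem_singleton_iff, not_or] at hy ⊢
      exact pairStab_smul_notMem (s : pairStab N a b).2 hy.1 hy.2)
    (by rw [hcompl]; exact hodd2)
  simp only [Set.mem_compl_iff, Set.mem_insert_iff, Set.mem_singleton_iff, not_or] at hc
  -- every point outside {a,b} is in the K-orbit of c
  have key : ∀ x : X, x ≠ a → x ≠ b → ∃ k ∈ twoStab N a b, c = k • x := by
    intro x hxa hxb
    obtain ⟨z₀, hz₀, hSz⟩ := exists_fixed_in_invariant_odd hSp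
      ({z | ∃ k ∈ twoStab N a b, z = k • x} : Set X)
      (by
        rintro s z ⟨k, hk, rfl⟩
        have hz := twoStab_smul_notMem hk hxa hxb
        obtain ⟨k₂, hk₂, hk₂z⟩ := pairStab_preserves_orbits h3 N hab hc.1 hc.2
          (s : pairStab N a b).2 (hSc s) hz.1 hz.2
        refine ⟨k₂ * k, (twoStab N a b).mul_mem hk₂ hk, ?_⟩
        rw [mul_smul]
        exact hk₂z)
      (odd_orbit_twoStab hodd hX3 h3 N hab hxa hxb)
    have : z₀ = c := by
      apply sylow_fixes_le_one N hN2 hab ht hta htb S
      · intro s hs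
        exact hSz ⟨s, hs⟩
      · intro s hs
        exact hSc ⟨s, hs⟩
    rw [this] at hz₀
    exact hz₀
  intro x y hxa hxb hya hyb
  obtain ⟨k₁, hk₁, hck₁⟩ := key x hxa hxb
  obtain ⟨k₂, hk₂, hck₂⟩ := key y hya hyb
  refine ⟨k₂⁻¹ * k₁, (twoStab N a b).mul_mem ((twoStab N a b).inv_mem hk₂) hk₁, ?_⟩
  rw [mul_smul, ← hck₁, hck₂, inv_smul_smul]

/-- Wagner's theorem for a faithful action. -/
theorem wagner [FaithfulSMul G X] [Finite X] (hodd : Odd (Nat.card X))
    (h5 : 5 ≤ Nat.card X) (h3 : IsMultiplyPretransitive G X 3) (N : Subgroup G) [N.Normal]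
    (hN : N ≠ ⊥) : IsMultiplyPretransitive N X 3 := by
  classical
  haveI : Finite G := Finite.of_injective (MulAction.toPermHom G X) MulAction.toPerm_injective
  have hN2 : IsMultiplyPretransitive N X 2 := by
    rcases jordan_normal 3 (by norm_num) (G := G) (X := X) (by omega) h3 N hN with h | ⟨_, hexp⟩
    · exact h
    · exfalso
      have h2 : IsMultiplyPretransitive G X 2 :=
        isMultiplyPretransitive_of_le (n := 3) (by norm_num) (by omega)
      haveI hNt : IsPretransitive N X := normal_trans_of_two_trans h2 N hN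
      have hne : Nonempty X := by
        rw [← Finite.card_pos_iff]; omega
      obtain ⟨a⟩ := hne
      have hdvd : Nat.card X ∣ Nat.card N := by
        rw [← MulAction.index_stabilizer_of_transitive N a]
        exact Subgroup.index_dvd_card _
      haveI : Fact (Nat.Prime 2) := ⟨Nat.prime_two⟩
      have hpg : IsPGroup 2 N := by
        intro g
        refine ⟨1, ?_⟩
        apply Subtype.ext
        have := hexp g g.2
        simpa using this
      obtain ⟨m, hm⟩ := hpg.exists_card_eq
      rw [hm] at hdvd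
      have hcop : Nat.Coprime (Nat.card X) (2 ^ m) :=
        Nat.Coprime.pow_right m (Nat.coprime_two_right.mpr hodd)
      have := Nat.Coprime.eq_one_of_dvd hcop hdvd
      omega
  apply three_trans_of_elem
  intro a b c a' b' c' hab hac hbc hab' hac' hbc'
  obtain ⟨⟨m, hm⟩, hma, hmb⟩ := two_trans_elem hN2 hab hab'
  change m • a = a' at hma
  change m • b = b' at hmb
  have h1 : m • c ≠ a' := by
    intro h
    rw [← hma] at h
    exact hac (MulAction.injective m h).symm
  have h2 : m • c ≠ b' := by
    intro h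
    rw [← hmb] at h
    exact hbc (MulAction.injective m h).symm
  obtain ⟨k, hk, hkc⟩ := twoStab_trans_of_wagner hodd (by omega) h3 N hN2 hab' (m • c) c' h1 h2
    hac'.symm hbc'.symm
  rw [mem_twoStab] at hk
  refine ⟨⟨k * m, N.mul_mem hk.1 hm⟩, ?_, ?_, ?_⟩
  · change (k * m) • a = a'
    rw [mul_smul, hma, hk.2.1]
  · change (k * m) • b = b'
    rw [mul_smul, hmb, hk.2.2]
  · change (k * m) • c = c'
    rw [mul_smul, hkc]

end Cfsg.Agent.Lib.Lead.NormMT
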