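import Mathlib
import Cfsg.Agent.Lib.Helper5.OPar0

/-! S5988 board (leader helper5), number-theory lemma of the PK-IDX section. -/

set_option autoImplicit false

namespace Cfsg.Agent.Lib.Helper5.OPar

/-- number theory: `r ∣ q^(2t) - 1` forces `blockDim i ∣ 2 t` -/
theorem blockDim_dvd_of_dvd (q r t : ℕ) (hr : r.Prime) (hq : ¬ r ∣ q)
    (h : r ∣ q ^ (2 * t) - 1) : blockDim (orderOf ((q : ℕ) : ZMod r)) ∣ 2 * t := by
  have : Fact r.Prime := ⟨hr⟩
  have hq0 : 0 < q := by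
    rcases Nat.eq_zero_or_pos q with h0 | h0
    · exact absurd (h0 ▸ dvd_zero r) hq
    · exact h0
  have hq1 : 1 ≤ q ^ (2 * t) := Nat.one_le_pow _ _ hq0
  have h0 : ((q ^ (2 * t) - 1 : ℕ) : ZMod r) = 0 := (ZMod.natCast_eq_zero_iff _ _).2 h
  rw [Nat.cast_sub hq1, Nat.cast_pow, Nat.cast_one, sub_eq_zero] at h0
  have h1 := orderOf_dvd_of_pow_eq_one h0
  unfold blockDim
  split_ifs with he
  · exact h1
  · have hodd : Odd (orderOf ((q : ℕ) : ZMod r)) := Nat.not_even_iff_odd.1 he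
    have hc : Nat.Coprime (orderOf ((q : ℕ) : ZMod r)) 2 := Nat.coprime_two_right.2 hodd
    exact Nat.mul_dvd_mul_left 2 (hc.dvd_of_dvd_mul_left h1)

end Cfsg.Agent.Lib.Helper5.OPar
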