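import Mathlib
import Cfsg.Agent.Lib.Lead.Ore_K2d

set_option autoImplicit false

/-! S2493, package K2f: the small cases of the refined Ore theorem. -/

namespace Cfsg.Agent.Lib.Lead.Ore

open Equiv Equiv.Perm

variable {α : Type*} [Fintype α] [DecidableEq α]

theorem disjoint_swap_swap' {a b c d : α} (hac : a ≠ c) (had : a ≠ d) (hbc : b ≠ c) (hbd : b ≠ d) :
    Perm.Disjoint (swap a b) (swap c d) := by
  intro x
  by_cases hxa : x = a
  · right; subst hxa; exact swap_apply_of_ne_of_ne hac had
  · by_cases hxb : x = b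
    · right; subst hxb; exact swap_apply_of_ne_of_ne hbc hbd
    · left; exact swap_apply_of_ne_of_ne hxa hxb

theorem cycleType_dswap {a b c d : α} (hab : a ≠ b) (hcd : c ≠ d) (hac : a ≠ c) (had : a ≠ d)
    (hbc : b ≠ c) (hbd : b ≠ d) : (swap a b * swap c d).cycleType = {2, 2} := by
  rw [Perm.Disjoint.cycleType_mul (disjoint_swap_swap' hac had hbc hbd), (isCycle_swap hab).cycleType,
    (isCycle_swap hcd).cycleType, card_support_swap hab, card_support_swap hcd]
  rfl

theorem sign_dswap {a b c d : α} (hab : a ≠ b) (hcd : c ≠ d) :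
    Perm.sign (swap a b * swap c d) = 1 := by
  rw [map_mul, sign_swap hab, sign_swap hcd]; rfl

theorem dswap_apply {a b c d : α} (hac : a ≠ c) (had : a ≠ d)
    (hbc : b ≠ c) (hbd : b ≠ d) :
    (swap a b * swap c d) a = b ∧ (swap a b * swap c d) b = a ∧ (swap a b * swap c d) c = d ∧
      (swap a b * swap c d) d = c := by
  refine ⟨?_, ?_, ?_, ?_⟩
  · rw [Perm.mul_apply, swap_apply_of_ne_of_ne hac had, swap_apply_left]
  · rw [Perm.mul_apply, swap_apply_of_ne_of_ne hbc hbd, swap_apply_right]
  · rw [Perm.mul_apply, swap_apply_left, swap_apply_of_ne_of_ne had.symm hbd.symm]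
  · rw [Perm.mul_apply, swap_apply_right, swap_apply_of_ne_of_ne hac.symm hbc.symm]

/-- four distinct points in a type with at least five elements, avoiding nothing -/
theorem exists_four (hα : 5 ≤ Fintype.card α) :
    ∃ a b c d : α, a ≠ b ∧ a ≠ c ∧ a ≠ d ∧ b ≠ c ∧ b ≠ d ∧ c ≠ d := by
  have h4 : 4 ≤ (Finset.univ : Finset α).card := by rw [Finset.card_univ]; omega
  obtain ⟨s, -, hs⟩ := Finset.exists_subset_card_eq h4
  rw [Finset.card_eq_succ] at hs
  obtain ⟨a, t, hat, rfl, ht⟩ := hs
  rw [Finset.card_eq_three] at ht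
  obtain ⟨b, c, d, hbc, hbd, hcd, rfl⟩ := ht
  simp only [Finset.mem_insert, Finset.mem_singleton, not_or] at hat
  exact ⟨a, b, c, d, hat.1, hat.2.1, hat.2.2, hbc, hbd, hcd⟩

/-- two distinct points outside a set of at most three points -/
theorem exists_two_outside (hα : 5 ≤ Fintype.card α) (a b d : α) :
    ∃ e f : α, e ≠ f ∧ e ≠ a ∧ e ≠ b ∧ e ≠ d ∧ f ≠ a ∧ f ≠ b ∧ f ≠ d := by
  have hc : (({a, b, d} : Finset α)ᶜ).card ≥ 2 := by
    rw [Finset.card_compl]
    have : ({a, b, d} : Finset α).card ≤ 3 := Finset.card_le_three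
    omega
  obtain ⟨e, f, he, hf, hef⟩ := Finset.one_lt_card_iff.mp (by omega : 1 < (({a, b, d} : Finset α)ᶜ).card)
  simp only [Finset.mem_compl, Finset.mem_insert, Finset.mem_singleton, not_or] at he hf
  exact ⟨e, f, hef, he.1, he.2.1, he.2.2, hf.1, hf.2.1, hf.2.2⟩

theorem oreConcl_one (hα : 5 ≤ Fintype.card α) : OreConcl (1 : Perm α) := by
  obtain ⟨a, b, c, d, hab, hac, had, hbc, hbd, hcd⟩ := exists_four hα
  obtain ⟨e1, e2, e3, e4⟩ := dswap_apply hac had hbc hbd
  exact ⟨1, swap a b * swap c d, a, b, c, d, map_one _, sign_dswap hab hcd, by group,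
    hab, hac, had, hbc, hbd, hcd, e1, e2, e3, e4⟩

/-- disjoint transpositions: `(a b)(c d) = (a c)(b d) * (a d)(b c)` -/
theorem dswap_eq_mul {a b c d : α} (hab : a ≠ b) (hac : a ≠ c) (had : a ≠ d) (hbc : b ≠ c)
    (hbd : b ≠ d) (hcd : c ≠ d) :
    (swap a c * swap b d) * (swap a d * swap b c) = swap a b * swap c d := by
  ext x
  simp only [Perm.mul_apply, swap_apply_def]
  split_ifs <;> simp_all

/-- the three-cycle case -/
theorem oreConcl_swap_swap_same (hα : 5 ≤ Fintype.card α) {a b d : α} (hab : a ≠ b) (had : a ≠ d)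
    (hbd : b ≠ d) : OreConcl (swap a b * swap a d) := by
  obtain ⟨e, f, hef, hea, heb, hed, hfa, hfb, hfd⟩ := exists_two_outside hα a b d
  have hcomm : swap e f * swap a d = swap a d * swap e f :=
    (Perm.Disjoint.commute (disjoint_swap_swap' hea hed hfa hfd)).eq
  have hprod : (swap a b * swap e f) * (swap a d * swap e f) = swap a b * swap a d := by
    calc (swap a b * swap e f) * (swap a d * swap e f)
        = swap a b * (swap e f * swap a d) * swap e f := by group
      _ = swap a b * (swap a d * swap e f) * swap e f := by rw [hcomm]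
      _ = swap a b * swap a d * (swap e f * swap e f) := by group
      _ = swap a b * swap a d := by rw [swap_mul_self, mul_one]
  obtain ⟨e1, e2, e3, e4⟩ := dswap_apply (a := a) (b := d) (c := e) (d := f) hea.symm hfa.symm
    hed.symm hfd.symm
  refine oreConcl_of_prod _ _ _ hprod ?_ (sign_dswap had hef) a d e f had hea.symm hfa.symm
    hed.symm hfd.symm hef e1 e2 e3 e4
  rw [cycleType_dswap hab hef hea.symm hfa.symm heb.symm hfb.symm,
    cycleType_dswap had hef hea.symm hfa.symm hed.symm hfd.symm]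

/-- **K2f**. the small cases: `σ = 1` or `T = 2`, in degree at least five. -/
theorem oreConcl_small (hα : 5 ≤ Fintype.card α) (σ ι₁ ι₂ : Perm α) (h1 : ι₁ * ι₁ = 1)
    (h2 : ι₂ * ι₂ = 1) (hprod : ι₁ * ι₂ = σ) (hcard : ι₁.support.card = ι₂.support.card)
    (hT : ι₁.support.card ≤ 2) : OreConcl σ := by
  have hne1 := Perm.card_support_ne_one ι₁
  have hcases : ι₁.support.card = 0 ∨ ι₁.support.card = 2 := by omega
  rcases hcases with h0 | h2'
  · have e1 : ι₁ = 1 := Perm.card_support_eq_zero.mp h0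
    have e2 : ι₂ = 1 := Perm.card_support_eq_zero.mp (hcard ▸ h0)
    rw [← hprod, e1, e2, one_mul]
    exact oreConcl_one hα
  · obtain ⟨a, b, hab, rfl⟩ := Perm.card_support_eq_two.mp h2'
    obtain ⟨c, d, hcd, rfl⟩ := Perm.card_support_eq_two.mp (hcard ▸ h2')
    rw [← hprod]
    by_cases hac : a = c
    · subst hac
      by_cases hbd : b = d
      · subst hbd
        rw [swap_mul_self]; exact oreConcl_one hα
      · exact oreConcl_swap_swap_same hα hab hcd hbd
    by_cases had : a = d
    · subst had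
      by_cases hbc : b = c
      · subst hbc
        rw [swap_comm b a, swap_mul_self]; exact oreConcl_one hα
      · rw [swap_comm c a]
        exact oreConcl_swap_swap_same hα hab hcd.symm hbc
    by_cases hbc : b = c
    · subst hbc
      rw [swap_comm a b]
      exact oreConcl_swap_swap_same hα hab.symm hcd had
    by_cases hbd : b = d
    · subst hbd
      rw [swap_comm a b, swap_comm c b]
      exact oreConcl_swap_swap_same hα hab.symm hcd.symm hac
    -- disjoint
    obtain ⟨e1, e2, e3, e4⟩ := dswap_apply (a := a) (b := d) (c := b) (d := c) hab hac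
      (Ne.symm hbd) (Ne.symm hcd)
    refine oreConcl_of_prod _ _ _ (dswap_eq_mul hab hac had hbc hbd hcd) ?_
      (sign_dswap had hbc) a d b c had hab hac (Ne.symm hbd) (Ne.symm hcd) hbc e1 e2 e3 e4
    rw [cycleType_dswap hac hbd hab had (Ne.symm hbc) hcd,
      cycleType_dswap had hbc hab hac (Ne.symm hbd) (Ne.symm hcd)]

end Cfsg.Agent.Lib.Lead.Ore
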