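import Mathlib
import Cfsg.Agent.Lib.Helper7.AltMul2
import Cfsg.Agent.Lib.Helper7.DCov5
import Cfsg.Agent.Lib.Lead.Ore_K2f

set_option autoImplicit false

/-! S2493, package G1: in a perfect double cover of `A_{m+2}`, `m ≥ 3`, every lift of a double
transposition squares to the central involution (via Carmichael's presentation). -/

namespace Cfsg.Agent.Lib.Lead.Ore

open Equiv Equiv.Perm Cfsg.Agent.Lib.Helper7.AltMul Cfsg.Agent.Lib.Helper9.H9AutAlt

namespace G1

/-- central factors drop out of commutators -/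
theorem comm_drop {G : Type*} [Group G] (a b k₁ k₂ : G) (h₁ : ∀ x, k₁ * x = x * k₁)
    (h₂ : ∀ x, k₂ * x = x * k₂) :
    (a * k₁) * (b * k₂) * (a * k₁)⁻¹ * (b * k₂)⁻¹ = a * b * a⁻¹ * b⁻¹ := by
  calc (a * k₁) * (b * k₂) * (a * k₁)⁻¹ * (b * k₂)⁻¹
      = a * (k₁ * (b * k₂)) * k₁⁻¹ * a⁻¹ * (b * k₂)⁻¹ := by group
    _ = a * ((b * k₂) * k₁) * k₁⁻¹ * a⁻¹ * (b * k₂)⁻¹ := by rw [h₁]
    _ = a * b * (k₂ * a⁻¹) * k₂⁻¹ * b⁻¹ := by group
    _ = a * b * (a⁻¹ * k₂) * k₂⁻¹ * b⁻¹ := by rw [h₂]
    _ = a * b * a⁻¹ * b⁻¹ := by group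

/-- `(a b c)(a b d) = (a c)(b d)` -/
theorem cyc_mul_cyc_eq {α : Type*} [Fintype α] [DecidableEq α] {a b c d : α} (hab : a ≠ b) (hac : a ≠ c)
    (had : a ≠ d) (hbc : b ≠ c) (hbd : b ≠ d) (hcd : c ≠ d) :
    cyc a b c * cyc a b d = swap a c * swap b d := by
  have ea : (cyc a b c * cyc a b d) a = c := by
    rw [Perm.mul_apply, cyc_apply_fst hab had, cyc_apply_snd hac hbc]
  have eb : (cyc a b c * cyc a b d) b = d := by
    rw [Perm.mul_apply, cyc_apply_snd had hbd, cyc_apply_of_ne had.symm hbd.symm hcd.symm]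
  have ec : (cyc a b c * cyc a b d) c = a := by
    rw [Perm.mul_apply, cyc_apply_of_ne hac.symm hbc.symm hcd, cyc_apply_trd]
  have ed : (cyc a b c * cyc a b d) d = b := by
    rw [Perm.mul_apply, cyc_apply_trd, cyc_apply_fst hab hac]
  obtain ⟨f1, f2, f3, f4⟩ := dswap_apply (a := a) (b := c) (c := b) (d := d) hab had hbc.symm hcd
  ext x
  by_cases hxa : x = a
  · rw [hxa, ea, f1]
  by_cases hxb : x = b
  · rw [hxb, eb, f3]
  by_cases hxc : x = c
  · rw [hxc, ec, f2]
  by_cases hxd : x = d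
  · rw [hxd, ed, f4]
  rw [Perm.mul_apply, cyc_apply_of_ne hxa hxb hxd, cyc_apply_of_ne hxa hxb hxc, Perm.mul_apply,
    swap_apply_of_ne_of_ne hxb hxd, swap_apply_of_ne_of_ne hxa hxc]

theorem cycleType_cgen_mul (m : ℕ) (i j : Fin m) (hij : i ≠ j) :
    ((cgen m i * cgen m j : alternatingGroup (Fin (m + 2))) : Perm (Fin (m + 2))).cycleType
      = {2, 2} := by
  rw [Subgroup.coe_mul, cgen_coe, cgen_coe]
  have h01 := zero_ne_one' m
  have hi0 := (ss_ne_zero i).symm
  have hi1 := (ss_ne_one i).symm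
  have hj0 := (ss_ne_zero j).symm
  have hj1 := (ss_ne_one j).symm
  have hij' : (i.succ.succ : Fin (m + 2)) ≠ j.succ.succ :=
    fun e => hij (Fin.succ_injective _ (Fin.succ_injective _ e))
  rw [cyc_mul_cyc_eq h01 hi0 hj0 hi1 hj1 hij']
  exact cycleType_dswap hi0 hj1 h01 hj0 hi1.symm hij'

end G1

variable {G : Type*} [Group G] [Finite G]

/-- **G1**. In a perfect double cover of `A_{m+2}`, `m ≥ 3`, every lift of a double transposition
squares to the central involution. (Carmichael's presentation, `AltMul.exists_lift`.) -/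
theorem dt_lift_sq {m : ℕ} (hm : 3 ≤ m) (π : G →* alternatingGroup (Fin (m + 2)))
    (hπ : Function.Surjective π) (z : G) (hz : z ≠ 1) (hz2 : z * z = 1)
    (hzc : ∀ g : G, z * g = g * z) (hker : ∀ g : G, π g = 1 ↔ g = 1 ∨ g = z)
    (hperf : commutator G = ⊤) (d : G)
    (hd : ((π d : alternatingGroup (Fin (m + 2))) : Perm (Fin (m + 2))).cycleType = {2, 2}) :
    d * d = z := by
  classical
  have hπz : π z = 1 := (hker z).mpr (Or.inr rfl)
  -- lifts of order dividing three
  have hlift : ∀ i : Fin m, ∃ t : G, π t = cgen m i ∧ t ^ 3 = 1 := by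
    intro i
    obtain ⟨x, hx⟩ := hπ (cgen m i)
    have h3 : π (x ^ 3) = 1 := by rw [map_pow, hx, cgen_pow_three]
    rcases (hker _).mp h3 with h | h
    · exact ⟨x, hx, h⟩
    · refine ⟨x * z, by rw [map_mul, hπz, mul_one, hx], ?_⟩
      have hc : Commute x z := (hzc x).symm
      rw [hc.mul_pow, h, pow_succ, pow_two, hz2, one_mul, hz2]
  choose t ht ht3 using hlift
  -- some pair does not satisfy Carmichael's relation
  have hpair : ∃ i j : Fin m, i ≠ j ∧ (t i * t j) ^ 2 ≠ 1 := by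
    by_contra hcon
    push Not at hcon
    obtain ⟨s, hs⟩ := exists_lift t ht3 hcon
    have hπs : π.comp s = MonoidHom.id _ := by
      apply MonoidHom.eq_of_eqOn_dense (closure_range_cgen m)
      rintro _ ⟨i, rfl⟩
      rw [MonoidHom.comp_apply, hs, ht, MonoidHom.id_apply]
    -- `f = s ∘ π` fixes every commutator, hence everything
    have hk : ∀ g : G, ∃ k : G, (∀ x, k * x = x * k) ∧ g = s (π g) * k := by
      intro g
      have h1 : π ((s (π g))⁻¹ * g) = 1 := by
        have := DFunLike.congr_fun hπs (π g)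
        rw [MonoidHom.comp_apply, MonoidHom.id_apply] at this
        rw [map_mul, map_inv, this, inv_mul_cancel]
      rcases (hker _).mp h1 with h | h
      · exact ⟨1, fun x => by rw [one_mul, mul_one], by rw [mul_one]; exact (inv_mul_eq_one.mp h).symm⟩
      · exact ⟨z, hzc, by rw [← h]; group⟩
    have hfix : ∀ g ∈ commutator G, s (π g) = g := by
      intro g hg
      rw [commutator_def, Subgroup.commutator_def] at hg
      induction hg using Subgroup.closure_induction with
      | mem x hx =>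
        obtain ⟨g₁, -, g₂, -, rfl⟩ := hx
        obtain ⟨k₁, hk₁, e₁⟩ := hk g₁
        obtain ⟨k₂, hk₂, e₂⟩ := hk g₂
        rw [commutatorElement_def]
        conv_rhs => rw [e₁, e₂, G1.comm_drop _ _ _ _ hk₁ hk₂]
        simp only [map_mul, map_inv]
      | one => rw [map_one, map_one]
      | mul x y _ _ hx hy => rw [map_mul, map_mul, hx, hy]
      | inv x _ hx => rw [map_inv, map_inv, hx]
    have := hfix z (by rw [hperf]; trivial)
    rw [hπz, map_one] at this
    exact hz this.symm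
  obtain ⟨i, j, hij, hne⟩ := hpair
  -- the distinguished lift
  have hd0 : (t i * t j) * (t i * t j) = z := by
    have h1 : π ((t i * t j) ^ 2) = 1 := by
      rw [map_pow, map_mul, ht, ht, cgen_mul_sq m i j hij]
    rcases (hker _).mp h1 with h | h
    · exact absurd h hne
    · rw [← pow_two]; exact h
  -- conjugate to `π d`
  obtain ⟨ρ, hρs, hρ⟩ := Cfsg.Agent.Lib.Helper7.DCov.exists_even_conj _ _
    (G1.cycleType_cgen_mul m i j hij) hd
  obtain ⟨r, hr⟩ := hπ ⟨ρ, mem_alternatingGroup.mpr hρs⟩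
  have hπd : π (r * (t i * t j) * r⁻¹) = π d := by
    apply Subtype.ext
    rw [map_mul, map_mul, map_inv, hr, map_mul, ht, ht]
    exact hρ
  have hk : π ((r * (t i * t j) * r⁻¹)⁻¹ * d) = 1 := by
    rw [map_mul, map_inv, hπd, inv_mul_cancel]
  have hsq : (r * (t i * t j) * r⁻¹) * (r * (t i * t j) * r⁻¹) = z := by
    calc (r * (t i * t j) * r⁻¹) * (r * (t i * t j) * r⁻¹)
        = r * ((t i * t j) * (t i * t j)) * r⁻¹ := by group
      _ = r * z * r⁻¹ := by rw [hd0]
      _ = z := by rw [← hzc r, mul_assoc, mul_inv_cancel, mul_one]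
  rcases (hker _).mp hk with h | h
  · rw [inv_mul_eq_one] at h
    rw [← h]; exact hsq
  · have hd' : d = (r * (t i * t j) * r⁻¹) * z := by rw [← h]; group
    set w := r * (t i * t j) * r⁻¹ with hw
    calc d * d = w * z * (w * z) := by rw [hd']
      _ = w * (z * w) * z := by group
      _ = w * (w * z) * z := by rw [hzc w]
      _ = (w * w) * (z * z) := by group
      _ = z := by rw [hsq, hz2, mul_one]

end Cfsg.Agent.Lib.Lead.Ore
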