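import Mathlib
import Cfsg.Agent.Lib.Helper8.Ore_K1b

set_option autoImplicit false

/-! S2493, package K1c: every even permutation is a product of two involutions with supports of
the same size (and different supports unless the permutation is trivial). -/

namespace Cfsg.Agent.Lib.Lead.Ore

open Equiv Equiv.Perm

variable {α : Type*} [Fintype α] [DecidableEq α]

namespace K1c

/-- the inductive statement -/
def Q (σ : Perm α) : Prop :=
  ∃ ι₁ ι₂ : Perm α, ι₁ * ι₁ = 1 ∧ ι₂ * ι₂ = 1 ∧ ι₁ * ι₂ = σ ∧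
    ι₁.support ⊆ σ.support ∧ ι₂.support ⊆ σ.support ∧
    ι₂.support.card = ι₁.support.card + (if Perm.sign σ = -1 then 2 else 0) ∧
    (Perm.sign σ = 1 → σ ≠ 1 → ι₁.support ≠ ι₂.support)

/-- the same with the two cardinalities exchanged (no statement about the supports) -/
def Q' (σ : Perm α) : Prop :=
  ∃ ι₁ ι₂ : Perm α, ι₁ * ι₁ = 1 ∧ ι₂ * ι₂ = 1 ∧ ι₁ * ι₂ = σ ∧
    ι₁.support ⊆ σ.support ∧ ι₂.support ⊆ σ.support ∧
    ι₁.support.card = ι₂.support.card + (if Perm.sign σ = -1 then 2 else 0)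

theorem Q'_of_Q {σ : Perm α} (h : Q σ) : Q' σ := by
  obtain ⟨ι₁, ι₂, h1, h2, hprod, hs1, hs2, hcard, -⟩ := h
  have hinv : ι₁⁻¹ = ι₁ := inv_eq_of_mul_eq_one_left h1
  refine ⟨ι₁ * ι₂ * ι₁, ι₁, ?_, h1, ?_, ?_, hs1, ?_⟩
  · calc ι₁ * ι₂ * ι₁ * (ι₁ * ι₂ * ι₁) = ι₁ * ι₂ * (ι₁ * ι₁) * ι₂ * ι₁ := by group
      _ = ι₁ * (ι₂ * ι₂) * ι₁ := by rw [h1]; group
      _ = 1 := by rw [h2, mul_one, h1]
  · calc ι₁ * ι₂ * ι₁ * ι₁ = ι₁ * ι₂ * (ι₁ * ι₁) := by group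
      _ = σ := by rw [h1, mul_one, hprod]
  · intro x hx
    have h3 := Perm.support_mul_le (ι₁ * ι₂) ι₁ hx
    rw [Finset.sup_eq_union, Finset.mem_union] at h3
    rcases h3 with h3 | h3
    · rw [hprod] at h3; exact h3
    · exact hs1 h3
  · have : (ι₁ * ι₂ * ι₁).support.card = ι₂.support.card := by
      have := Perm.card_support_conj (σ := ι₁) (τ := ι₂)
      rw [hinv] at this
      exact this
    rw [this, hcard]

omit [Fintype α] [DecidableEq α] in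
theorem union_ne {A₁ A₂ B₁ B₂ S T : Finset α} [DecidableEq α] (hA₁ : A₁ ⊆ S) (hA₂ : A₂ ⊆ S) (hB₁ : B₁ ⊆ T)
    (hB₂ : B₂ ⊆ T) (hST : Disjoint S T) (hne : A₁ ≠ A₂) : A₁ ∪ B₁ ≠ A₂ ∪ B₂ := by
  intro h
  apply hne
  ext x
  constructor
  · intro hx
    have : x ∈ A₂ ∪ B₂ := h ▸ Finset.mem_union_left _ hx
    rcases Finset.mem_union.mp this with h' | h'
    · exact h'
    · exact absurd (hB₂ h') (Finset.disjoint_left.mp hST (hA₁ hx))
  · intro hx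
    have : x ∈ A₁ ∪ B₁ := h.symm ▸ Finset.mem_union_left _ hx
    rcases Finset.mem_union.mp this with h' | h'
    · exact h'
    · exact absurd (hB₁ h') (Finset.disjoint_left.mp hST (hA₂ hx))

/-- combining decompositions of two disjoint permutations -/
theorem combine {σ τ ι₁ ι₂ κ₁ κ₂ : Perm α} (hd : Perm.Disjoint σ τ)
    (h1 : ι₁ * ι₁ = 1) (h2 : ι₂ * ι₂ = 1) (hprod : ι₁ * ι₂ = σ)
    (hs1 : ι₁.support ⊆ σ.support) (hs2 : ι₂.support ⊆ σ.support)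
    (k1 : κ₁ * κ₁ = 1) (k2 : κ₂ * κ₂ = 1) (kprod : κ₁ * κ₂ = τ)
    (ks1 : κ₁.support ⊆ τ.support) (ks2 : κ₂.support ⊆ τ.support) :
    (ι₁ * κ₁) * (ι₁ * κ₁) = 1 ∧ (ι₂ * κ₂) * (ι₂ * κ₂) = 1 ∧ (ι₁ * κ₁) * (ι₂ * κ₂) = σ * τ ∧
      (ι₁ * κ₁).support ⊆ (σ * τ).support ∧ (ι₂ * κ₂).support ⊆ (σ * τ).support ∧
      (ι₁ * κ₁).support.card = ι₁.support.card + κ₁.support.card ∧
      (ι₂ * κ₂).support.card = ι₂.support.card + κ₂.support.card ∧
      (ι₁.support ≠ ι₂.support → (ι₁ * κ₁).support ≠ (ι₂ * κ₂).support) := by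
  have hST : Disjoint σ.support τ.support := Perm.disjoint_iff_disjoint_support.mp hd
  have d11 : Perm.Disjoint ι₁ κ₁ :=
    Perm.disjoint_iff_disjoint_support.mpr (Finset.disjoint_of_subset_left hs1
      (Finset.disjoint_of_subset_right ks1 hST))
  have d22 : Perm.Disjoint ι₂ κ₂ :=
    Perm.disjoint_iff_disjoint_support.mpr (Finset.disjoint_of_subset_left hs2
      (Finset.disjoint_of_subset_right ks2 hST))
  have d21 : Perm.Disjoint ι₂ κ₁ :=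
    Perm.disjoint_iff_disjoint_support.mpr (Finset.disjoint_of_subset_left hs2
      (Finset.disjoint_of_subset_right ks1 hST))
  have c11 : ι₁ * κ₁ = κ₁ * ι₁ := d11.commute.eq
  have c22 : ι₂ * κ₂ = κ₂ * ι₂ := d22.commute.eq
  have c21 : ι₂ * κ₁ = κ₁ * ι₂ := d21.commute.eq
  have hsup : (σ * τ).support = σ.support ∪ τ.support := hd.support_mul
  refine ⟨?_, ?_, ?_, ?_, ?_, d11.card_support_mul, d22.card_support_mul, ?_⟩
  · calc ι₁ * κ₁ * (ι₁ * κ₁) = ι₁ * (κ₁ * ι₁) * κ₁ := by group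
      _ = ι₁ * (ι₁ * κ₁) * κ₁ := by rw [c11]
      _ = (ι₁ * ι₁) * (κ₁ * κ₁) := by group
      _ = 1 := by rw [h1, k1, mul_one]
  · calc ι₂ * κ₂ * (ι₂ * κ₂) = ι₂ * (κ₂ * ι₂) * κ₂ := by group
      _ = ι₂ * (ι₂ * κ₂) * κ₂ := by rw [c22]
      _ = (ι₂ * ι₂) * (κ₂ * κ₂) := by group
      _ = 1 := by rw [h2, k2, mul_one]
  · calc ι₁ * κ₁ * (ι₂ * κ₂) = ι₁ * (κ₁ * ι₂) * κ₂ := by group
      _ = ι₁ * (ι₂ * κ₁) * κ₂ := by rw [c21]
      _ = (ι₁ * ι₂) * (κ₁ * κ₂) := by group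
      _ = σ * τ := by rw [hprod, kprod]
  · rw [d11.support_mul, hsup]
    exact Finset.union_subset_union hs1 ks1
  · rw [d22.support_mul, hsup]
    exact Finset.union_subset_union hs2 ks2
  · intro hne
    rw [d11.support_mul, d22.support_mul]
    exact union_ne hs1 hs2 ks1 ks2 hST hne

theorem sign_cases (σ : Perm α) : Perm.sign σ = 1 ∨ Perm.sign σ = -1 :=
  Int.units_eq_one_or _

theorem Q_all (σ : Perm α) : Q σ := by
  induction σ using Perm.cycle_induction_on with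
  | base_one =>
    refine ⟨1, 1, one_mul 1, one_mul 1, one_mul 1, le_rfl, le_rfl, ?_, fun _ h => absurd rfl h⟩
    rw [map_one, if_neg (by decide), add_zero]
  | base_cycles σ hσ =>
    obtain ⟨ι₁, ι₂, h1, h2, hprod, hs1, hs2, hcard, hne⟩ := cycle_inv_decomp σ hσ
    exact ⟨ι₁, ι₂, h1, h2, hprod, hs1, hs2, hcard, fun _ _ => hne⟩
  | induction_disjoint σ τ hd hσ hQσ hQτ =>
    obtain ⟨ι₁, ι₂, h1, h2, hprod, hs1, hs2, hcard, hne⟩ := hQσ
    have hσ1 : σ ≠ 1 := hσ.ne_one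
    rcases sign_cases σ with sσ | sσ <;> rcases sign_cases τ with sτ | sτ
    · -- (+,+)
      obtain ⟨κ₁, κ₂, k1, k2, kprod, ks1, ks2, kcard, -⟩ := hQτ
      obtain ⟨a, b, c, d, e, f, g, h⟩ := combine hd h1 h2 hprod hs1 hs2 k1 k2 kprod ks1 ks2
      refine ⟨ι₁ * κ₁, ι₂ * κ₂, a, b, c, d, e, ?_, fun _ _ => h (hne sσ hσ1)⟩
      rw [f, g, hcard, kcard, map_mul, sσ, sτ]
      simp
    · -- (+,-)
      obtain ⟨κ₁, κ₂, k1, k2, kprod, ks1, ks2, kcard, -⟩ := hQτ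
      obtain ⟨a, b, c, d, e, f, g, h⟩ := combine hd h1 h2 hprod hs1 hs2 k1 k2 kprod ks1 ks2
      have hs : Perm.sign (σ * τ) = -1 := by rw [map_mul, sσ, sτ]; rfl
      refine ⟨ι₁ * κ₁, ι₂ * κ₂, a, b, c, d, e, ?_, fun h' => ?_⟩
      · rw [f, g, hcard, kcard, hs, sσ, sτ]
        simp
        omega
      · rw [hs] at h'; exact absurd h' (by decide)
    · -- (-,+)
      obtain ⟨κ₁, κ₂, k1, k2, kprod, ks1, ks2, kcard, -⟩ := hQτ
      obtain ⟨a, b, c, d, e, f, g, h⟩ := combine hd h1 h2 hprod hs1 hs2 k1 k2 kprod ks1 ks2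
      have hs : Perm.sign (σ * τ) = -1 := by rw [map_mul, sσ, sτ]; rfl
      refine ⟨ι₁ * κ₁, ι₂ * κ₂, a, b, c, d, e, ?_, fun h' => ?_⟩
      · rw [f, g, hcard, kcard, hs, sσ, sτ]
        simp
        omega
      · rw [hs] at h'; exact absurd h' (by decide)
    · -- (-,-)
      obtain ⟨κ₁, κ₂, k1, k2, kprod, ks1, ks2, kcard⟩ := Q'_of_Q hQτ
      obtain ⟨a, b, c, d, e, f, g, h⟩ := combine hd h1 h2 hprod hs1 hs2 k1 k2 kprod ks1 ks2
      have hs : Perm.sign (σ * τ) = 1 := by rw [map_mul, sσ, sτ]; rfl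
      have hne' : ι₁.support ≠ ι₂.support := by
        intro heq
        rw [heq, sσ] at hcard
        simp at hcard
      refine ⟨ι₁ * κ₁, ι₂ * κ₂, a, b, c, d, e, ?_, fun _ _ => h hne'⟩
      rw [f, g, hcard, kcard, hs, sσ, sτ]
      simp
      omega

end K1c

/-- **K1c** (all even permutations): balanced decomposition into two involutions. -/
theorem balanced_decomp (σ : Perm α) (hσ : Perm.sign σ = 1) :
    ∃ ι₁ ι₂ : Perm α, ι₁ * ι₁ = 1 ∧ ι₂ * ι₂ = 1 ∧ ι₁ * ι₂ = σ ∧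
      ι₁.support.card = ι₂.support.card ∧ (σ ≠ 1 → ι₁.support ≠ ι₂.support) ∧
      ι₁.support ⊆ σ.support ∧ ι₂.support ⊆ σ.support := by
  obtain ⟨ι₁, ι₂, h1, h2, hprod, hs1, hs2, hcard, hne⟩ := K1c.Q_all σ
  refine ⟨ι₁, ι₂, h1, h2, hprod, ?_, hne hσ, hs1, hs2⟩
  rw [hcard, hσ, if_neg (by decide), add_zero]

end Cfsg.Agent.Lib.Lead.Ore
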