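import Mathlib
import Cfsg.Agent.Lib.Lead.Ore_K1c
import Cfsg.Agent.Lib.Lead.Ore_K2f
import Cfsg.Agent.Lib.Lead.Ore_G1
import Cfsg.Agent.Lib.Helper4.Ore_K2a
import Cfsg.Agent.Lib.Helper9.Ore_K2e
import Cfsg.Agent.Lib.Helper8.Ore_G2

set_option autoImplicit false

/-! S2493, glue: the refined Ore theorem and the abstract final theorem. -/

namespace Cfsg.Agent.Lib.Lead.Ore

open Equiv Equiv.Perm

section comb

variable {α : Type*} [Fintype α] [DecidableEq α]

/-- **K2 (glue)**. the refined Ore theorem. -/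
theorem ore_refined (hα : 5 ≤ Fintype.card α) (σ : Perm α) (hσ : Perm.sign σ = 1) :
    OreConcl σ := by
  obtain ⟨ι₁, ι₂, h1, h2, hprod, hcard, hne, -, -⟩ := balanced_decomp σ hσ
  by_cases hT : 4 ≤ ι₁.support.card
  · by_cases h1' : σ = 1
    · exact oreConcl_small hα σ 1 1 (one_mul 1) (one_mul 1) (by rw [h1', one_mul]) rfl (by simp)
    · exact oreConcl_of_decomp σ ι₁ ι₂ h1 h2 hprod hcard (hne h1') hT
  · have hev := (cycleType_of_mul_self ι₁ h1).2.1
    have : ι₁.support.card ≤ 2 := by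
      rcases hev with ⟨k, hk⟩
      omega
    exact oreConcl_small hα σ ι₁ ι₂ h1 h2 hprod hcard this

end comb

section grp

variable {G : Type*} [Group G] [Finite G]

/-- **G3**. the abstract final theorem. -/
theorem commutator_of_cover {n : ℕ} (hn : 5 ≤ n) (π : G →* alternatingGroup (Fin n))
    (hπ : Function.Surjective π) (z : G) (hz : z ≠ 1) (hz2 : z * z = 1)
    (hzc : ∀ g : G, z * g = g * z) (hker : ∀ g : G, π g = 1 ↔ g = 1 ∨ g = z)
    (hperf : commutator G = ⊤) (g : G) : ∃ x y : G, x * y * x⁻¹ * y⁻¹ = g := by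
  obtain ⟨m, rfl⟩ : ∃ m, n = m + 2 := ⟨n - 2, by omega⟩
  have hdt : ∀ d : G, ((π d : alternatingGroup (Fin (m + 2))) : Perm (Fin (m + 2))).cycleType
      = {2, 2} → d * d = z :=
    fun d hd => dt_lift_sq (by omega) π hπ z hz hz2 hzc hker hperf d hd
  obtain ⟨α', β, a, b, c, d, hsα, hsβ, hcomm, hab, hac, had, hbc, hbd, hcd, h1, h2, h3, h4⟩ :=
    ore_refined (α := Fin (m + 2)) (by rw [Fintype.card_fin]; exact hn)
      ((π g : alternatingGroup (Fin (m + 2))) : Perm (Fin (m + 2)))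
      (mem_alternatingGroup.mp (π g).2)
  obtain ⟨c', hc'⟩ := anticomm_cert π hπ z hz2 hzc hker hdt β hsβ a b c d hab hac had hbc hbd hcd
    h1 h2 h3 h4
  obtain ⟨A, hA⟩ := hπ ⟨α', mem_alternatingGroup.mpr hsα⟩
  obtain ⟨B, hB⟩ := hπ ⟨β, mem_alternatingGroup.mpr hsβ⟩
  have hBc : ((π B : alternatingGroup (Fin (m + 2))) : Perm (Fin (m + 2))) = β := by rw [hB]
  have hx : π (A * B * A⁻¹ * B⁻¹) = π g := by
    apply Subtype.ext
    rw [map_mul, map_mul, map_mul, map_inv, map_inv, hA, hB]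
    exact hcomm
  have hk := (hker (g * (A * B * A⁻¹ * B⁻¹)⁻¹)).mp (by rw [map_mul, map_inv, hx, mul_inv_cancel])
  rcases hk with hk | hk
  · exact ⟨A, B, (mul_inv_eq_one.mp hk).symm⟩
  · have hcB : c' * B * c'⁻¹ = z * B := by
      have := hc' B hBc
      rw [mul_inv_eq_iff_eq_mul] at this
      exact this
    refine ⟨A * c', B, ?_⟩
    have hg : g = z * (A * B * A⁻¹ * B⁻¹) := mul_inv_eq_iff_eq_mul.mp hk
    calc A * c' * B * (A * c')⁻¹ * B⁻¹ = A * (c' * B * c'⁻¹) * A⁻¹ * B⁻¹ := by group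
      _ = A * (z * B) * A⁻¹ * B⁻¹ := by rw [hcB]
      _ = (A * z) * B * A⁻¹ * B⁻¹ := by group
      _ = (z * A) * B * A⁻¹ * B⁻¹ := by rw [hzc A]
      _ = z * (A * B * A⁻¹ * B⁻¹) := by group
      _ = g := hg.symm

end grp

end Cfsg.Agent.Lib.Lead.Ore
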