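import Mathlib
import Cfsg.Prelude
import Cfsg.Agent.Lib.Lead.PExpMin1
import Cfsg.Agent.S4209

set_option autoImplicit false

namespace Cfsg.Agent.Lib.Lead.PExpMin

open Subgroup
open scoped commutatorElement

variable {G : Type*} [Group G] [Finite G] {p : ℕ} [Fact p.Prime]

/-- The working configuration: `x`, `y` of order dividing `p` with `(xy)^p ≠ 1` generating `G`. -/
structure Cfg (p : ℕ) (G : Type*) [Group G] (x y : G) : Prop where
  pg : IsPGroup p G
  hx : x ^ p = 1
  hy : y ^ p = 1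
  hxy : (x * y) ^ p ≠ 1
  gen : closure ({x, y} : Set G) = ⊤
  sub : ∀ K : Subgroup G, K ≠ ⊤ → ∀ a b : G, a ∈ K → b ∈ K → a ^ p = 1 → b ^ p = 1 →
    (a * b) ^ p = 1
  quo : ∀ N : Subgroup G, N.Normal → N ≠ ⊥ → ∀ g : G, g ^ p ∈ N

theorem exists_xy (hnc : ¬ (∃ H : Subgroup G, (H : Set G) = {g : G | g ^ p = 1})) :
    ∃ x y : G, x ^ p = 1 ∧ y ^ p = 1 ∧ (x * y) ^ p ≠ 1 := by
  by_contra hcon
  push Not at hcon
  refine hnc ⟨{ carrier := {g | g ^ p = 1}, mul_mem' := ?_, one_mem' := ?_, inv_mem' := ?_ }, rfl⟩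
  · intro a b ha hb; exact hcon a b ha hb
  · exact one_pow p
  · intro a ha
    simp only [Set.mem_setOf_eq] at ha ⊢
    rw [inv_pow, ha, inv_one]

theorem mul_pow_of_mem
    (hsub : ∀ K : Subgroup G, K ≠ ⊤ → (∃ H : Subgroup ↥K, (H : Set ↥K) = {g : ↥K | g ^ p = 1}))
    (K : Subgroup G) (hK : K ≠ ⊤) (a b : G) (ha : a ∈ K) (hb : b ∈ K) (hap : a ^ p = 1)
    (hbp : b ^ p = 1) : (a * b) ^ p = 1 := by
  obtain ⟨H, hH⟩ := hsub K hK
  have h1 : (⟨a, ha⟩ : K) ∈ H := by
    rw [← SetLike.mem_coe, hH]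
    exact Subtype.ext (by simpa using hap)
  have h2 : (⟨b, hb⟩ : K) ∈ H := by
    rw [← SetLike.mem_coe, hH]
    exact Subtype.ext (by simpa using hbp)
  have h3 := H.mul_mem h1 h2
  rw [← SetLike.mem_coe, hH] at h3
  have h4 := congrArg Subtype.val h3
  simpa using h4

theorem exists_cfg (hG : IsPGroup p G)
    (hnc : ¬ (∃ H : Subgroup G, (H : Set G) = {g : G | g ^ p = 1}))
    (hsub : ∀ K : Subgroup G, K ≠ ⊤ → (∃ H : Subgroup ↥K, (H : Set ↥K) = {g : ↥K | g ^ p = 1}))
    (hquo : ∀ (N : Subgroup G) [N.Normal], N ≠ ⊥ →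
      (∃ H : Subgroup (G ⧸ N), (H : Set (G ⧸ N)) = {g : (G ⧸ N) | g ^ p = 1})) :
    ∃ x y : G, Cfg p G x y := by
  obtain ⟨x, y, hx, hy, hxy⟩ := exists_xy hnc
  have hgen : closure ({x, y} : Set G) = ⊤ := by
    by_contra h
    exact hxy (mul_pow_of_mem hsub _ h x y (subset_closure (by simp)) (subset_closure (by simp))
      hx hy)
  refine ⟨x, y, hG, hx, hy, hxy, hgen, mul_pow_of_mem hsub, ?_⟩
  intro N hNn hN g
  haveI := hNn
  obtain ⟨H, hH⟩ := hquo N hN
  have h1 : closure ({x, y} : Set G) ≤ H.comap (QuotientGroup.mk' N) := by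
    rw [closure_le]
    intro a ha
    have hap : a ^ p = 1 := by
      rcases ha with rfl | rfl
      · exact hx
      · exact hy
    show (QuotientGroup.mk' N a) ∈ H
    rw [← SetLike.mem_coe, hH]
    show (QuotientGroup.mk' N a) ^ p = 1
    rw [← map_pow, hap, map_one]
  have h3 : (QuotientGroup.mk' N g) ∈ H := h1 (hgen ▸ mem_top g)
  rw [← SetLike.mem_coe, hH] at h3
  have h4 : (QuotientGroup.mk' N g) ^ p = 1 := h3
  rw [← map_pow] at h4
  exact (QuotientGroup.eq_one_iff _).mp h4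

theorem zpowers_normal {z : G} (hz : z ∈ center G) : (zpowers z).Normal := by
  constructor
  intro n hn g
  have h1 : n ∈ center G := (zpowers_le.mpr hz) hn
  rw [mem_center_iff] at h1
  rw [h1 g, mul_inv_cancel_right]
  exact hn

theorem zpowers_eq_of_mem {H : Subgroup G} (hH : Nat.card H = p) {w : G} (hw : w ∈ H)
    (hw1 : w ≠ 1) : zpowers w = H := by
  have hp : p.Prime := Fact.out
  have hle : zpowers w ≤ H := zpowers_le.mpr hw
  have hd : Nat.card (zpowers w) ∣ p := hH ▸ card_dvd_of_le hle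
  rcases (Nat.dvd_prime hp).1 hd with h1 | h1
  · exfalso
    rw [Nat.card_zpowers, orderOf_eq_one_iff] at h1
    exact hw1 h1
  · exact eq_of_le_of_card_ge hle (by rw [h1, hH])

namespace Cfg

variable {x y : G} (c : Cfg p G x y)
include c

theorem center_zpowers {z1 z2 : G} (h1 : z1 ∈ center G) (h2 : z2 ∈ center G)
    (o1 : orderOf z1 = p) (o2 : orderOf z2 = p) : zpowers z1 = zpowers z2 := by
  have hp : p.Prime := Fact.out
  have hne : ∀ z : G, orderOf z = p → zpowers z ≠ ⊥ := by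
    intro z hz hb
    rw [zpowers_eq_bot] at hb
    rw [hb, orderOf_one] at hz
    exact hp.one_lt.ne hz
  have m1 := c.quo _ (zpowers_normal h1) (hne z1 o1) (x * y)
  have m2 := c.quo _ (zpowers_normal h2) (hne z2 o2) (x * y)
  rw [← zpowers_eq_of_mem (by rw [Nat.card_zpowers, o1]) m1 c.hxy,
    ← zpowers_eq_of_mem (by rw [Nat.card_zpowers, o2]) m2 c.hxy]

theorem isCyclic_center : IsCyclic (center G) := by
  apply isCyclic_of_unique (p := p) (fun a b => Subtype.ext ((mem_center_iff.1 b.2 a.1))) (c.pg.to_subgroup _)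
  intro a b ha hb
  have h1 := c.center_zpowers a.2 b.2 (by rw [← ha, Subgroup.orderOf_coe])
    (by rw [← hb, Subgroup.orderOf_coe])
  ext g
  constructor
  · intro hg
    have : (g : G) ∈ zpowers (a : G) := by
      obtain ⟨k, hk⟩ := hg
      exact ⟨k, by rw [← hk]; simp⟩
    rw [h1] at this
    obtain ⟨k, hk⟩ := this
    exact ⟨k, Subtype.ext (by rw [← hk]; simp)⟩
  · intro hg
    have : (g : G) ∈ zpowers (b : G) := by
      obtain ⟨k, hk⟩ := hg
      exact ⟨k, by rw [← hk]; simp⟩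
    rw [← h1] at this
    obtain ⟨k, hk⟩ := this
    exact ⟨k, Subtype.ext (by rw [← hk]; simp)⟩

theorem nontrivial : Nontrivial G := by
  by_contra h
  rw [not_nontrivial_iff_subsingleton] at h
  exact c.hxy (Subsingleton.elim _ _)

theorem exists_central : ∃ z : G, z ∈ center G ∧ orderOf z = p := by
  haveI := c.nontrivial
  have hp : p.Prime := Fact.out
  haveI : Nontrivial (center G) := c.pg.center_nontrivial
  have hZ : IsPGroup p (center G) := c.pg.to_subgroup _
  have hd : p ∣ Nat.card (center G) := by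
    rcases hZ.card_eq_or_dvd with h | h
    · exact absurd h (Finite.one_lt_card_iff_nontrivial.mpr inferInstance).ne'
    · exact h
  obtain ⟨z, hz⟩ := exists_prime_orderOf_dvd_card' p hd
  exact ⟨z, z.2, by rw [← hz, Subgroup.orderOf_coe]⟩

theorem pow_sq (g : G) : g ^ (p ^ 2) = 1 := by
  have hp : p.Prime := Fact.out
  obtain ⟨z, hz, oz⟩ := c.exists_central
  have hne : zpowers z ≠ ⊥ := by
    intro hb
    rw [zpowers_eq_bot] at hb
    rw [hb, orderOf_one] at oz
    exact hp.one_lt.ne oz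
  have h1 := c.quo _ (zpowers_normal hz) hne g
  obtain ⟨k, hk⟩ := h1
  rw [pow_two, pow_mul, ← hk]
  simp only
  rw [← zpow_natCast, ← zpow_mul, mul_comm, zpow_mul, zpow_natCast, ← oz, pow_orderOf_eq_one,
    one_zpow]

theorem exponent_eq : Monoid.exponent G = p ^ 2 := by
  have hp : p.Prime := Fact.out
  have hd : Monoid.exponent G ∣ p ^ 2 := Monoid.exponent_dvd_of_forall_pow_eq_one c.pow_sq
  obtain ⟨k, hk, hk2⟩ := (Nat.dvd_prime_pow hp).1 hd
  have hno : ¬ Monoid.exponent G ∣ p := by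
    rintro ⟨e, he⟩
    apply c.hxy
    rw [he, pow_mul, Monoid.pow_exponent_eq_one, one_pow]
  interval_cases k
  · exfalso; apply hno; rw [hk2]; simp
  · exfalso; apply hno; rw [hk2]; simp
  · exact hk2

theorem not_comm : ¬ (x * y = y * x) := by
  intro h
  apply c.hxy
  rw [Commute.mul_pow (show Commute x y from h) p, c.hx, c.hy, mul_one]

theorem zpowers_ne_top : zpowers x ≠ ⊤ := by
  intro h
  have hy : y ∈ zpowers x := h ▸ mem_top y
  obtain ⟨k, hk⟩ := hy
  apply c.not_comm
  rw [← hk]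
  exact ((Commute.refl x).zpow_right k).eq

theorem exists_coatom : ∃ M : Subgroup G, IsCoatom M ∧ M.Normal ∧ x ∈ M := by
  rcases eq_top_or_exists_le_coatom (zpowers x) with h | ⟨M, hM, hle⟩
  · exact absurd h c.zpowers_ne_top
  · exact ⟨M, hM, (coatom_normal_index_of_isPGroup c.pg hM).1, hle (mem_zpowers x)⟩

theorem comm_pow : ⁅x, y⁆ ^ p = 1 := by
  obtain ⟨M, hM, hMn, hxM⟩ := c.exists_coatom
  have h1 : y * x⁻¹ * y⁻¹ ∈ M := hMn.conj_mem x⁻¹ (inv_mem hxM) y
  have h2 : (y * x⁻¹ * y⁻¹) ^ p = 1 := by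
    rw [conj_pow, inv_pow, c.hx, inv_one, mul_one, mul_inv_cancel]
  have h3 := c.sub M hM.1 x (y * x⁻¹ * y⁻¹) hxM h1 c.hx h2
  rw [commutatorElement_def]
  rw [← h3]
  congr 1
  group

theorem quotient_comm (N : Subgroup G) [N.Normal] (h : ⁅x, y⁆ ∈ N) :
    ∀ a b : G ⧸ N, a * b = b * a := by
  have hxy : (QuotientGroup.mk' N x) * (QuotientGroup.mk' N y)
      = (QuotientGroup.mk' N y) * (QuotientGroup.mk' N x) := by
    rw [← commutatorElement_eq_one_iff_mul_comm, ← map_commutatorElement]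
    exact (QuotientGroup.eq_one_iff _).mpr h
  have hcen : ∀ u : G ⧸ N, (∀ v ∈ ({x, y} : Set G), (QuotientGroup.mk' N v) * u
      = u * (QuotientGroup.mk' N v)) → u ∈ center (G ⧸ N) := by
    intro u hu
    rw [mem_center_iff]
    intro g
    obtain ⟨g, rfl⟩ := QuotientGroup.mk'_surjective N g
    have hg : g ∈ closure ({x, y} : Set G) := c.gen ▸ mem_top g
    induction hg using closure_induction with
    | mem v hv => exact hu v hv
    | one => simp
    | mul a b _ _ ha hb => rw [map_mul, mul_assoc, hb, ← mul_assoc, ha, mul_assoc]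
    | inv a _ ha =>
      rw [map_inv, eq_mul_inv_iff_mul_eq, mul_assoc, ← ha, ← mul_assoc, inv_mul_cancel, one_mul]
  have hx : (QuotientGroup.mk' N x) ∈ center (G ⧸ N) := by
    apply hcen
    intro v hv
    rcases hv with rfl | rfl
    · rfl
    · exact hxy.symm
  have hy : (QuotientGroup.mk' N y) ∈ center (G ⧸ N) := by
    apply hcen
    intro v hv
    rcases hv with rfl | rfl
    · exact hxy
    · rfl
  have hall : ∀ a : G ⧸ N, a ∈ center (G ⧸ N) := by
    intro a
    obtain ⟨a, rfl⟩ := QuotientGroup.mk'_surjective N a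
    have ha : a ∈ closure ({x, y} : Set G) := c.gen ▸ mem_top a
    have hle : closure ({x, y} : Set G) ≤ (center (G ⧸ N)).comap (QuotientGroup.mk' N) := by
      rw [closure_le]
      intro v hv
      rcases hv with rfl | rfl
      · exact hx
      · exact hy
    exact hle ha
  intro a b
  have := hall b
  rw [mem_center_iff] at this
  exact this a

theorem commutator_ne_top : commutator G ≠ ⊤ := by
  haveI := c.nontrivial
  haveI : Group.IsNilpotent G := c.pg.isNilpotent
  exact (IsSolvable.commutator_lt_top_of_nontrivial G).ne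

theorem commutator_pow (d : G) (hd : d ∈ commutator G) : d ^ p = 1 := by
  let T : Subgroup G :=
    { carrier := {g | g ∈ commutator G ∧ g ^ p = 1}
      mul_mem' := fun {a b} ha hb =>
        ⟨mul_mem ha.1 hb.1, c.sub _ c.commutator_ne_top a b ha.1 hb.1 ha.2 hb.2⟩
      one_mem' := ⟨one_mem _, one_pow _⟩
      inv_mem' := fun {a} ha => ⟨inv_mem ha.1, by rw [inv_pow, ha.2, inv_one]⟩ }
  haveI : T.Normal := by
    constructor
    intro n hn g
    exact ⟨(inferInstance : (commutator G).Normal).conj_mem n hn.1 g,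
      by rw [conj_pow, hn.2, mul_one, mul_inv_cancel]⟩
  have hxy : ⁅x, y⁆ ∈ T :=
    ⟨commutator_mem_commutator (mem_top x) (mem_top y), c.comm_pow⟩
  have hle : commutator G ≤ T := commutator_le_of_quotient_comm T (c.quotient_comm T hxy)
  exact (hle hd).2

theorem lcs_ne_bot : (⊤ : Subgroup G).lowerCentralSeries (p - 1) ≠ ⊥ := by
  intro hcl
  have hreg := Cfsg.Agent.S4209.result c.pg hcl
  obtain ⟨e, he, heq⟩ := hreg.2 x y 1
  apply c.hxy
  have he1 : e = 1 := by
    have hle : Cfsg.powerClosure p 1 ⁅closure ({x, y} : Set G), closure ({x, y} : Set G)⁆ ≤ ⊥ := by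
      unfold Cfsg.powerClosure
      rw [closure_le]
      rintro w ⟨d, hd, rfl⟩
      rw [c.gen] at hd
      rw [pow_one]
      exact c.commutator_pow d hd
    exact hle he
  rw [pow_one] at heq
  rw [heq, c.hx, c.hy, he1, mul_one, mul_one]

end Cfg

end Cfsg.Agent.Lib.Lead.PExpMin
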