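import Mathlib
import Cfsg.Prelude
import Cfsg.Agent.Lib.Lead.PExpMin2

set_option autoImplicit false

namespace Cfsg.Agent.Lib.Lead.PExpMin

open Subgroup
open scoped commutatorElement

variable {G : Type*} [Group G] [Finite G] {p : ℕ} [Fact p.Prime]

theorem lcs_stable {i : ℕ} (h : (⊤ : Subgroup G).lowerCentralSeries (i + 1)
    = (⊤ : Subgroup G).lowerCentralSeries i) (j : ℕ) :
    (⊤ : Subgroup G).lowerCentralSeries (i + j) = (⊤ : Subgroup G).lowerCentralSeries i := by
  induction j with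
  | zero => rfl
  | succ j ih =>
    rw [← add_assoc, Subgroup.lowerCentralSeries_succ, ih, ← Subgroup.lowerCentralSeries_succ, h]

theorem lcs_lt (hG : IsPGroup p G) {i : ℕ} (hi : (⊤ : Subgroup G).lowerCentralSeries i ≠ ⊥) :
    (⊤ : Subgroup G).lowerCentralSeries (i + 1) < (⊤ : Subgroup G).lowerCentralSeries i := by
  refine lt_of_le_of_ne (Subgroup.lowerCentralSeries_antitone _ (Nat.le_succ i)) ?_
  intro h
  haveI : Group.IsNilpotent G := hG.isNilpotent
  obtain ⟨n, hn⟩ := Subgroup.nilpotent_iff_lowerCentralSeries.1 (inferInstance : Group.IsNilpotent G)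
  apply hi
  rw [← lcs_stable h n, eq_bot_iff, ← hn]
  exact Subgroup.lowerCentralSeries_antitone _ (Nat.le_add_left n i)

theorem card_mul_le_of_lt' (hG : IsPGroup p G) {H K : Subgroup G} (h : H < K) :
    p * Nat.card H ≤ Nat.card K := by
  have hp : p.Prime := Fact.out
  obtain ⟨a, ha⟩ := IsPGroup.iff_card.1 (hG.to_subgroup K)
  obtain ⟨b, hb⟩ := IsPGroup.iff_card.1 (hG.to_subgroup H)
  have hlt : Nat.card H < Nat.card K := by
    refine lt_of_le_of_ne (card_le_of_le h.le) ?_
    intro heq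
    exact h.ne (eq_of_le_of_card_ge h.le heq.ge)
  rw [ha, hb] at hlt ⊢
  have hba : b < a := (Nat.pow_lt_pow_iff_right hp.one_lt).1 hlt
  calc p * p ^ b = p ^ (b + 1) := by rw [pow_succ']
    _ ≤ p ^ a := Nat.pow_le_pow_right hp.pos hba

theorem card_lcs (hG : IsPGroup p G) (j : ℕ) : ∀ i : ℕ,
    (⊤ : Subgroup G).lowerCentralSeries (i + j) ≠ ⊥ →
    p ^ (j + 1) ≤ Nat.card ((⊤ : Subgroup G).lowerCentralSeries i) := by
  have hp : p.Prime := Fact.out
  induction j with
  | zero =>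
    intro i hi
    rw [add_zero] at hi
    have hlt : (⊥ : Subgroup G) < (⊤ : Subgroup G).lowerCentralSeries i := bot_lt_iff_ne_bot.2 hi
    have := card_mul_le_of_lt' hG hlt
    rw [card_bot, mul_one] at this
    simpa using this
  | succ j ih =>
    intro i hi
    have h1 : (⊤ : Subgroup G).lowerCentralSeries (i + 1 + j) ≠ ⊥ := by
      rw [show i + 1 + j = i + (j + 1) by ring]; exact hi
    have h2 := ih (i + 1) h1
    have hi' : (⊤ : Subgroup G).lowerCentralSeries i ≠ ⊥ := by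
      intro h0
      apply hi
      rw [eq_bot_iff, ← h0]
      exact Subgroup.lowerCentralSeries_antitone _ (Nat.le_add_right i (j + 1))
    have h3 := card_mul_le_of_lt' hG (lcs_lt hG hi')
    calc p ^ (j + 1 + 1) = p * p ^ (j + 1) := by rw [pow_succ']
      _ ≤ p * Nat.card ((⊤ : Subgroup G).lowerCentralSeries (i + 1)) := Nat.mul_le_mul_left _ h2
      _ ≤ _ := h3

namespace Cfg

variable {x y : G} (c : Cfg p G x y)
include c

theorem index_commutator : p ^ 2 ≤ (commutator G).index := by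
  classical
  have hp : p.Prime := Fact.out
  haveI := c.nontrivial
  haveI : Fintype G := Fintype.ofFinite G
  obtain ⟨m, hm⟩ := IsPGroup.iff_card.1 c.pg
  have hidx : (frattini G).index ∣ p ^ m := by
    rw [← hm]; exact Subgroup.index_dvd_card _
  obtain ⟨n, _, hn⟩ := (Nat.dvd_prime_pow hp).1 hidx
  have hn2 : 2 ≤ n := by
    by_contra hlt
    push Not at hlt
    obtain ⟨T, _, hTcard, hTgen⟩ :=
      (Cfsg.Agent.Lib.Lead.burnside_basis p n c.pg hn).1 Finset.univ (by simp)
    have h1 : T.card ≤ 1 := by omega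
    obtain ⟨g, hg⟩ := Finset.card_le_one_iff_subset_singleton.1 h1
    have hz : zpowers g = ⊤ := by
      rw [eq_top_iff, ← hTgen, closure_le]
      intro t ht
      have := hg ht
      rw [Finset.mem_singleton] at this
      rw [this]; exact mem_zpowers g
    have hx : x ∈ zpowers g := hz ▸ mem_top x
    have hy : y ∈ zpowers g := hz ▸ mem_top y
    obtain ⟨a, ha⟩ := hx
    obtain ⟨b, hb⟩ := hy
    apply c.not_comm
    rw [← ha, ← hb]
    exact (((Commute.refl g).zpow_right b).zpow_left a).eq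
  have h1 : (frattini G).index ∣ (commutator G).index :=
    Subgroup.index_dvd_of_le (Cfsg.Agent.Lib.Lead.commutator_le_frattini_of_isPGroup c.pg)
  have h2 : p ^ 2 ∣ (commutator G).index := by
    refine dvd_trans ?_ h1
    rw [hn]
    exact pow_dvd_pow p hn2
  exact Nat.le_of_dvd (Nat.pos_of_ne_zero Subgroup.FiniteIndex.index_ne_zero) h2

theorem card_ge : p ^ (p + 1) ≤ Nat.card G := by
  have hp : p.Prime := Fact.out
  have h2 := hp.two_le
  have h1 := card_lcs c.pg (p - 2) 1 (by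
    rw [show 1 + (p - 2) = p - 1 by omega]; exact c.lcs_ne_bot)
  rw [Subgroup.top_lowerCentralSeries_one] at h1
  have h3 := c.index_commutator
  rw [← (commutator G).card_mul_index]
  calc p ^ (p + 1) = p ^ (p - 2 + 1) * p ^ 2 := by rw [← pow_add]; congr 1; omega
    _ ≤ _ := Nat.mul_le_mul h1 h3

end Cfg

theorem main (hG : IsPGroup p G)
    (hnc : ¬ (∃ H : Subgroup G, (H : Set G) = {g : G | g ^ p = 1}))
    (hsub : ∀ K : Subgroup G, K ≠ ⊤ → (∃ H : Subgroup ↥K, (H : Set ↥K) = {g : ↥K | g ^ p = 1}))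
    (hquo : ∀ (N : Subgroup G) [N.Normal], N ≠ ⊥ →
      (∃ H : Subgroup (G ⧸ N), (H : Set (G ⧸ N)) = {g : (G ⧸ N) | g ^ p = 1})) :
    (∃ x y : G, Subgroup.closure ({x, y} : Set G) = ⊤) ∧
      (⊤ : Subgroup G).lowerCentralSeries (p - 1) ≠ ⊥ ∧ Monoid.exponent G = p ^ 2 ∧
      IsCyclic ↥(Subgroup.center G) ∧ p ^ (p + 1) ≤ Nat.card G := by
  obtain ⟨x, y, c⟩ := exists_cfg hG hnc hsub hquo
  exact ⟨⟨x, y, c.gen⟩, c.lcs_ne_bot, c.exponent_eq, c.isCyclic_center, c.card_ge⟩

end Cfsg.Agent.Lib.Lead.PExpMin
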