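import Mathlib

set_option autoImplicit false

namespace Cfsg.Agent.Lib.Lead

universe u

namespace PIT

section
variable {H : Type u} [CommGroup H]

/-- the augmentation of the integral group ring -/
noncomputable def aug : MonoidAlgebra ℤ H →ₐ[ℤ] ℤ := MonoidAlgebra.lift ℤ ℤ H (1 : H →* ℤ)

theorem aug_of (h : H) : aug (MonoidAlgebra.of ℤ H h) = 1 := by
  unfold aug
  rw [MonoidAlgebra.lift_of]
  rfl

/-- the augmentation ideal -/
noncomputable def augIdeal (H : Type u) [CommGroup H] : Ideal (MonoidAlgebra ℤ H) :=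
  RingHom.ker (aug (H := H)).toRingHom

theorem mem_augIdeal (x : MonoidAlgebra ℤ H) : x ∈ augIdeal H ↔ aug x = 0 := Iff.rfl

theorem of_sub_one_mem (h : H) : MonoidAlgebra.of ℤ H h - 1 ∈ augIdeal H := by
  rw [mem_augIdeal, map_sub, aug_of, map_one, sub_self]

/-- the partial norm `1 + h + ⋯ + h^(e-1)` -/
noncomputable def geom (h : H) (e : ℕ) : MonoidAlgebra ℤ H :=
  ∑ k ∈ Finset.range e, (MonoidAlgebra.of ℤ H h) ^ k

theorem aug_geom (h : H) (e : ℕ) : aug (geom h e) = e := by
  unfold geom
  rw [map_sum]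
  have h1 : ∀ k ∈ Finset.range e, aug ((MonoidAlgebra.of ℤ H h) ^ k) = 1 := by
    intro k _
    rw [← map_pow, aug_of]
  rw [Finset.sum_congr rfl h1]
  simp

theorem sub_one_mul_geom (h : H) (e : ℕ) (he : h ^ e = 1) :
    (MonoidAlgebra.of ℤ H h - 1) * geom h e = 0 := by
  unfold geom
  rw [mul_geom_sum, ← map_pow, he, map_one, sub_self]

end

section
variable {H : Type u} [CommGroup H] [Fintype H]

/-- the norm element -/
noncomputable def norm (H : Type u) [CommGroup H] [Fintype H] : MonoidAlgebra ℤ H :=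
  ∑ h : H, MonoidAlgebra.of ℤ H h

theorem of_mul_norm (ρ : H) : MonoidAlgebra.of ℤ H ρ * norm H = norm H := by
  unfold norm
  rw [Finset.mul_sum]
  simp_rw [← map_mul]
  exact Equiv.sum_comp (Equiv.mulLeft ρ) (fun h => MonoidAlgebra.of ℤ H h)

theorem aug_norm : aug (norm H) = Fintype.card H := by
  unfold norm
  rw [map_sum]
  have h1 : ∀ h ∈ (Finset.univ : Finset H), aug (MonoidAlgebra.of ℤ H h) = 1 :=
    fun h _ => aug_of h
  rw [Finset.sum_congr rfl h1]
  simp

theorem coeff_norm (σ : H) : (norm H).coeff σ = 1 := by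
  classical
  unfold norm
  rw [MonoidAlgebra.coeff_sum, Finsupp.finsetSum_apply]
  simp only [MonoidAlgebra.of_apply, MonoidAlgebra.coeff_single, Finsupp.single_apply]
  rw [Finset.sum_ite_eq' Finset.univ σ (fun _ => (1 : ℤ))]
  simp

/-- an element fixed by a generating set is a multiple of the norm -/
theorem eq_smul_norm_of_fixed (θ : MonoidAlgebra ℤ H) (S : Set H) (hS : Subgroup.closure S = ⊤)
    (h : ∀ s ∈ S, MonoidAlgebra.of ℤ H s * θ = θ) : θ = (θ.coeff 1) • norm H := by
  have hall : ∀ ρ : H, MonoidAlgebra.of ℤ H ρ * θ = θ := by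
    intro ρ
    have hρ : ρ ∈ Subgroup.closure S := by rw [hS]; exact Subgroup.mem_top ρ
    induction hρ using Subgroup.closure_induction with
    | mem s hs => exact h s hs
    | one => rw [map_one, one_mul]
    | mul a b _ _ iha ihb => rw [map_mul, mul_assoc, ihb, iha]
    | inv a _ iha =>
      have h1 : MonoidAlgebra.of ℤ H a⁻¹ * (MonoidAlgebra.of ℤ H a * θ) = θ := by
        rw [← mul_assoc, ← map_mul, inv_mul_cancel, map_one, one_mul]
      rw [iha] at h1
      exact h1
  apply MonoidAlgebra.coeff_injective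
  ext σ
  rw [MonoidAlgebra.coeff_smul, Finsupp.smul_apply, coeff_norm, smul_eq_mul, mul_one]
  have h1 := congrArg (fun x : MonoidAlgebra ℤ H => x.coeff σ) (hall σ)
  simp only [MonoidAlgebra.of_apply, MonoidAlgebra.coeff_single_mul_apply, one_mul,
    inv_mul_cancel] at h1
  exact h1.symm

end

/-- Cramer: a matrix relation kills the determinant multiples -/
theorem det_smul_eq_zero {R : Type*} [CommRing R] {M : Type*} [AddCommGroup M] [Module R M]
    {ι : Type*} [Fintype ι] [DecidableEq ι] (Θ : Matrix ι ι R) (v : ι → M)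
    (h : ∀ i, ∑ j, Θ i j • v j = 0) (j : ι) : Θ.det • v j = 0 := by
  have h1 : ∑ k, (Θ.adjugate * Θ) j k • v k = 0 := by
    simp only [Matrix.mul_apply, Finset.sum_smul, mul_smul]
    rw [Finset.sum_comm]
    simp_rw [← Finset.smul_sum]
    apply Finset.sum_eq_zero
    intro i _
    rw [h i, smul_zero]
  rw [Matrix.adjugate_mul] at h1
  simp only [Matrix.smul_apply, Matrix.one_apply, smul_eq_mul, mul_ite, mul_one, mul_zero,
    ite_smul, zero_smul] at h1
  rw [Finset.sum_ite_eq Finset.univ j] at h1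
  simpa using h1

end PIT

end Cfsg.Agent.Lib.Lead
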