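import Mathlib
import Cfsg.Agent.Lib.Lead.PIT1

set_option autoImplicit false

namespace Cfsg.Agent.Lib.Lead

universe u

namespace PIT

section
variable (G : Type u) [Group G]

/-- functions `G/G' → G'/G''`, with `G/G'` acting by translation -/
def BFun : Type u := Abelianization G → Additive (Abelianization (commutator G))

instance : AddCommGroup (BFun G) :=
  inferInstanceAs (AddCommGroup (Abelianization G → Additive (Abelianization (commutator G))))

/-- translation action -/
def transl : Abelianization G →* Module.End ℤ (BFun G) where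
  toFun ρ :=
    { toFun := fun β τ => β (ρ⁻¹ * τ)
      map_add' := fun β γ => by funext τ; rfl
      map_smul' := fun n β => by funext τ; rfl }
  map_one' := by
    apply LinearMap.ext
    intro β
    funext τ
    change β (1⁻¹ * τ) = β τ
    rw [inv_one, one_mul]
  map_mul' ρ σ := by
    apply LinearMap.ext
    intro β
    funext τ
    change β ((ρ * σ)⁻¹ * τ) = β (σ⁻¹ * (ρ⁻¹ * τ))
    rw [mul_inv_rev, mul_assoc]

noncomputable instance : Module (MonoidAlgebra ℤ (Abelianization G)) (BFun G) :=
  Module.compHom (BFun G)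
    (MonoidAlgebra.lift ℤ (Module.End ℤ (BFun G)) (Abelianization G) (transl G)).toRingHom

variable {G}

theorem of_smul_apply (ρ : Abelianization G) (β : BFun G) (τ : Abelianization G) :
    ((MonoidAlgebra.of ℤ (Abelianization G) ρ) • β) τ = β (ρ⁻¹ * τ) := by
  change ((MonoidAlgebra.lift ℤ (Module.End ℤ (BFun G)) (Abelianization G) (transl G))
    (MonoidAlgebra.of ℤ (Abelianization G) ρ)) β τ = _
  rw [MonoidAlgebra.lift_of]
  rfl

theorem norm_smul_apply [Fintype (Abelianization G)] (β : BFun G) (τ : Abelianization G) :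
    (norm (Abelianization G) • β) τ = ∑ σ : Abelianization G, β σ := by
  unfold norm
  rw [Finset.sum_smul]
  have h1 : (∑ h : Abelianization G, (MonoidAlgebra.of ℤ (Abelianization G) h) • β) τ =
      ∑ h : Abelianization G, ((MonoidAlgebra.of ℤ (Abelianization G) h) • β) τ := by
    exact Finset.sum_apply τ Finset.univ (fun h => (MonoidAlgebra.of ℤ (Abelianization G) h) • β)
  rw [h1]
  simp_rw [of_smul_apply]
  exact Equiv.sum_comp ((Equiv.inv (Abelianization G)).trans (Equiv.mulRight τ)) β

end

section
variable {G : Type u} [Group G] (s : Abelianization G → G)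
  (hs : ∀ τ, Abelianization.of (s τ) = τ)

include hs in
theorem beta_mem (g : G) (τ : Abelianization G) :
    (s τ)⁻¹ * g * s ((Abelianization.of g)⁻¹ * τ) ∈ commutator G := by
  rw [← Abelianization.ker_of, MonoidHom.mem_ker, map_mul, map_mul, map_inv, hs, hs]
  rw [mul_assoc, mul_inv_cancel_left, inv_mul_cancel]

/-- the Kaloujnine–Krasner cocycle -/
def b (g : G) : BFun G := fun τ =>
  Additive.ofMul (Abelianization.of
    (⟨(s τ)⁻¹ * g * s ((Abelianization.of g)⁻¹ * τ), beta_mem s hs g τ⟩ : commutator G))

theorem b_mul (g g' : G) :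
    b s hs (g * g') = b s hs g + (MonoidAlgebra.of ℤ (Abelianization G) (Abelianization.of g)) •
      b s hs g' := by
  funext τ
  change _ = b s hs g τ + ((MonoidAlgebra.of ℤ (Abelianization G) (Abelianization.of g)) •
      b s hs g') τ
  rw [of_smul_apply]
  unfold b
  rw [← ofMul_mul, ← map_mul]
  congr 2
  apply Subtype.ext
  simp only [map_mul, mul_inv_rev, Subgroup.coe_mul]
  rw [mul_assoc (Abelianization.of g')⁻¹]
  group

/-- the crossed homomorphism `G → B × ℤ[G/G']` -/
noncomputable def d (g : G) : BFun G × MonoidAlgebra ℤ (Abelianization G) :=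
  (b s hs g, MonoidAlgebra.of ℤ (Abelianization G) (Abelianization.of g) - 1)

theorem d_mul (g g' : G) :
    d s hs (g * g') = d s hs g + (MonoidAlgebra.of ℤ (Abelianization G) (Abelianization.of g)) •
      d s hs g' := by
  unfold d
  apply Prod.ext
  · simp only [Prod.fst_add, Prod.smul_fst]
    exact b_mul s hs g g'
  · simp only [Prod.snd_add, Prod.smul_snd, smul_eq_mul, map_mul]
    ring

theorem d_one : d s hs 1 = 0 := by
  have h := d_mul s hs 1 1
  rw [mul_one, map_one, map_one, one_smul] at h
  exact left_eq_add.mp h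

theorem d_inv (g : G) :
    d s hs g⁻¹ = -((MonoidAlgebra.of ℤ (Abelianization G) (Abelianization.of g)⁻¹) • d s hs g) := by
  have h := d_mul s hs g⁻¹ g
  rw [inv_mul_cancel, d_one, map_inv] at h
  exact eq_neg_of_add_eq_zero_left h.symm

theorem d_snd (g : G) :
    (d s hs g).2 = MonoidAlgebra.of ℤ (Abelianization G) (Abelianization.of g) - 1 := rfl

theorem d_fst (g : G) : (d s hs g).1 = b s hs g := rfl

/-- on `G'` the crossed homomorphism is additive -/
theorem d_mul_of_mem {u : G} (hu : u ∈ commutator G) (g : G) :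
    d s hs (u * g) = d s hs u + d s hs g := by
  rw [d_mul]
  have : Abelianization.of u = 1 := by
    rw [← MonoidHom.mem_ker, Abelianization.ker_of]; exact hu
  rw [this, map_one, one_smul]

theorem d_snd_of_mem {u : G} (hu : u ∈ commutator G) : (d s hs u).2 = 0 := by
  have : Abelianization.of u = 1 := by
    rw [← MonoidHom.mem_ker, Abelianization.ker_of]; exact hu
  rw [d_snd, this, map_one, sub_self]

/-- conjugation corresponds to the module action -/
theorem d_conj (g u : G) (hu : u ∈ commutator G) :
    d s hs (g * u * g⁻¹) = (MonoidAlgebra.of ℤ (Abelianization G) (Abelianization.of g)) •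
      d s hs u := by
  have hu1 : Abelianization.of u = 1 := by
    rw [← MonoidHom.mem_ker, Abelianization.ker_of]; exact hu
  rw [d_mul s hs (g * u) g⁻¹, d_mul s hs g u, d_inv, map_mul, hu1, mul_one, smul_neg, smul_smul,
    ← map_mul, mul_inv_cancel, map_one, one_smul]
  abel

/-- the commutator formula -/
theorem d_commutator (g g' : G) :
    d s hs (g * g' * g⁻¹ * g'⁻¹) = (d s hs g).2 • d s hs g' - (d s hs g').2 • d s hs g := by
  have hc : g * g' * g⁻¹ * g'⁻¹ ∈ commutator G := by
    rw [commutator_eq_closure]
    exact Subgroup.subset_closure ⟨g, g', rfl⟩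
  have h1 : (g * g' * g⁻¹ * g'⁻¹) * (g' * g) = g * g' := by group
  have h2 : d s hs (g * g') = d s hs (g * g' * g⁻¹ * g'⁻¹) + d s hs (g' * g) := by
    rw [← d_mul_of_mem s hs hc (g' * g), h1]
  rw [d_mul s hs g g', d_mul s hs g' g] at h2
  rw [d_snd, d_snd, sub_smul, sub_smul, one_smul, one_smul]
  have h3 : d s hs (g * g' * g⁻¹ * g'⁻¹) =
      d s hs g + (MonoidAlgebra.of ℤ (Abelianization G) (Abelianization.of g)) • d s hs g' -
      (d s hs g' + (MonoidAlgebra.of ℤ (Abelianization G) (Abelianization.of g')) • d s hs g) :=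
    eq_sub_of_add_eq h2.symm
  rw [h3]
  abel

end

end PIT

end Cfsg.Agent.Lib.Lead
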