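import Mathlib
import Cfsg.Agent.Lib.Lead.PIT2

set_option autoImplicit false

namespace Cfsg.Agent.Lib.Lead

universe u

namespace PIT

section
variable {G : Type u} [Group G] (s : Abelianization G → G)
  (hs : ∀ τ, Abelianization.of (s τ) = τ)
variable {ι : Type} (S : ι → G)

/-- the submodule generated by the image of `G'` -/
noncomputable def Dsub : Submodule (MonoidAlgebra ℤ (Abelianization G))
    (BFun G × MonoidAlgebra ℤ (Abelianization G)) :=
  Submodule.span _ (Set.range (fun u : commutator G => d s hs (u : G)))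

/-- the submodule generated by the images of the chosen generators -/
noncomputable def Msub : Submodule (MonoidAlgebra ℤ (Abelianization G))
    (BFun G × MonoidAlgebra ℤ (Abelianization G)) :=
  Submodule.span _ (Set.range (fun i : ι => d s hs (S i)))

/-- the Koszul-type elements -/
noncomputable def kos (kl : ι × ι) : BFun G × MonoidAlgebra ℤ (Abelianization G) :=
  (d s hs (S kl.1)).2 • d s hs (S kl.2) - (d s hs (S kl.2)).2 • d s hs (S kl.1)

/-- the submodule generated by the Koszul-type elements -/
noncomputable def Csub : Submodule (MonoidAlgebra ℤ (Abelianization G))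
    (BFun G × MonoidAlgebra ℤ (Abelianization G)) :=
  Submodule.span _ (Set.range (kos s hs S))

theorem d_mem_Dsub {u : G} (hu : u ∈ commutator G) : d s hs u ∈ Dsub s hs :=
  Submodule.subset_span ⟨⟨u, hu⟩, rfl⟩

theorem d_mem_Msub_of_mem_closure {w : G} (hw : w ∈ Subgroup.closure (Set.range S)) :
    d s hs w ∈ Msub s hs S := by
  induction hw using Subgroup.closure_induction with
  | mem x hx =>
    obtain ⟨i, rfl⟩ := hx
    exact Submodule.subset_span ⟨i, rfl⟩
  | one => rw [d_one]; exact Submodule.zero_mem _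
  | mul a b _ _ iha ihb =>
    rw [d_mul]
    exact Submodule.add_mem _ iha (Submodule.smul_mem _ _ ihb)
  | inv a _ iha =>
    rw [d_inv]
    exact Submodule.neg_mem _ (Submodule.smul_mem _ _ iha)

theorem snd_eq_zero_of_mem_Dsub {δ : BFun G × MonoidAlgebra ℤ (Abelianization G)}
    (hδ : δ ∈ Dsub s hs) : δ.2 = 0 := by
  induction hδ using Submodule.span_induction with
  | mem x hx =>
    obtain ⟨u, rfl⟩ := hx
    exact d_snd_of_mem s hs u.2
  | zero => rfl
  | add a b _ _ iha ihb => rw [Prod.snd_add, iha, ihb, add_zero]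
  | smul r a _ iha => rw [Prod.smul_snd, iha, smul_zero]

/-- decomposition of `d g` -/
theorem exists_decomp (hgen : Subgroup.closure (Set.range (fun i => Abelianization.of (S i))) = ⊤)
    (g : G) : ∃ δ ∈ Dsub s hs, ∃ μ ∈ Msub s hs S, d s hs g = δ + μ := by
  have h1 : (Subgroup.closure (Set.range S)).map (Abelianization.of : G →* Abelianization G) =
      ⊤ := by
    rw [MonoidHom.map_closure, ← Set.range_comp]
    exact hgen
  have h2 : Abelianization.of g ∈ (Subgroup.closure (Set.range S)).map
      (Abelianization.of : G →* Abelianization G) := by rw [h1]; exact Subgroup.mem_top _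
  obtain ⟨w, hw, hwg⟩ := Subgroup.mem_map.mp h2
  have hu : g * w⁻¹ ∈ commutator G := by
    rw [← Abelianization.ker_of, MonoidHom.mem_ker, map_mul, map_inv, hwg, mul_inv_cancel]
  refine ⟨d s hs (g * w⁻¹), d_mem_Dsub s hs hu, d s hs w, d_mem_Msub_of_mem_closure s hs S hw, ?_⟩
  rw [← d_mul_of_mem s hs hu, inv_mul_cancel_right]

/-- the alternating bilinear expression lands in the Koszul submodule -/
theorem alt_mem_Csub {μ μ' : BFun G × MonoidAlgebra ℤ (Abelianization G)}
    (hμ : μ ∈ Msub s hs S) (hμ' : μ' ∈ Msub s hs S) :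
    μ.2 • μ' - μ'.2 • μ ∈ Csub s hs S := by
  induction hμ using Submodule.span_induction with
  | mem x hx =>
    obtain ⟨k, rfl⟩ := hx
    induction hμ' using Submodule.span_induction with
    | mem y hy =>
      obtain ⟨l, rfl⟩ := hy
      exact Submodule.subset_span ⟨(k, l), rfl⟩
    | zero => simp
    | add a b _ _ iha ihb =>
      have : (d s hs (S k)).2 • (a + b) - (a + b).2 • d s hs (S k) =
          ((d s hs (S k)).2 • a - a.2 • d s hs (S k)) +
            ((d s hs (S k)).2 • b - b.2 • d s hs (S k)) := by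
        rw [Prod.snd_add, smul_add, add_smul]; abel
      rw [this]
      exact Submodule.add_mem _ iha ihb
    | smul r a _ iha =>
      have : (d s hs (S k)).2 • (r • a) - (r • a).2 • d s hs (S k) =
          r • ((d s hs (S k)).2 • a - a.2 • d s hs (S k)) := by
        simp only [Prod.smul_snd, smul_eq_mul, smul_sub, smul_smul]
        rw [mul_comm (d s hs (S k)).2 r]
      rw [this]
      exact Submodule.smul_mem _ _ iha
  | zero => simp
  | add a b _ _ iha ihb =>
    have : (a + b).2 • μ' - μ'.2 • (a + b) = (a.2 • μ' - μ'.2 • a) + (b.2 • μ' - μ'.2 • b) := by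
      rw [Prod.snd_add, smul_add, add_smul]; abel
    rw [this]
    exact Submodule.add_mem _ iha ihb
  | smul r a _ iha =>
    have : (r • a).2 • μ' - μ'.2 • (r • a) = r • (a.2 • μ' - μ'.2 • a) := by
      simp only [Prod.smul_snd, smul_eq_mul, smul_sub, smul_smul]
      rw [mul_comm μ'.2 r]
    rw [this]
    exact Submodule.smul_mem _ _ iha

/-- **(F1)** `D ≤ C + I D` -/
theorem Dsub_le (hgen : Subgroup.closure (Set.range (fun i => Abelianization.of (S i))) = ⊤) :
    Dsub s hs ≤ Csub s hs S ⊔ augIdeal (Abelianization G) • Dsub s hs := by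
  unfold Dsub
  rw [Submodule.span_le]
  rintro _ ⟨⟨u, hu⟩, rfl⟩
  change d s hs u ∈ _
  rw [commutator_eq_closure] at hu
  induction hu using Subgroup.closure_induction with
  | mem x hx =>
    obtain ⟨g, g', rfl⟩ := hx
    rw [commutatorElement_def, d_commutator]
    obtain ⟨δ, hδ, μ, hμ, hg⟩ := exists_decomp s hs S hgen g
    obtain ⟨δ', hδ', μ', hμ', hg'⟩ := exists_decomp s hs S hgen g'
    have h1 : (d s hs g).2 = μ.2 := by
      rw [hg, Prod.snd_add, snd_eq_zero_of_mem_Dsub s hs hδ, zero_add]
    have h2 : (d s hs g').2 = μ'.2 := by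
      rw [hg', Prod.snd_add, snd_eq_zero_of_mem_Dsub s hs hδ', zero_add]
    have hI : μ.2 ∈ augIdeal (Abelianization G) := by
      rw [← h1, d_snd]; exact of_sub_one_mem _
    have hI' : μ'.2 ∈ augIdeal (Abelianization G) := by
      rw [← h2, d_snd]; exact of_sub_one_mem _
    have h3 : (d s hs g).2 • d s hs g' - (d s hs g').2 • d s hs g =
        (μ.2 • μ' - μ'.2 • μ) + (μ.2 • δ' - μ'.2 • δ) := by
      rw [h1, h2, hg, hg', smul_add, smul_add]
      abel
    rw [h3]
    apply Submodule.add_mem
    · exact Submodule.mem_sup_left (alt_mem_Csub s hs S hμ hμ')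
    · apply Submodule.mem_sup_right
      apply Submodule.sub_mem
      · exact Submodule.smul_mem_smul hI hδ'
      · exact Submodule.smul_mem_smul hI' hδ
  | one => rw [d_one]; exact Submodule.zero_mem _
  | mul a b ha _ iha ihb =>
    rw [← commutator_eq_closure] at ha
    rw [d_mul_of_mem s hs ha]
    exact Submodule.add_mem _ iha ihb
  | inv a ha iha =>
    rw [← commutator_eq_closure] at ha
    have h1 : Abelianization.of a = 1 := by
      rw [← MonoidHom.mem_ker, Abelianization.ker_of]; exact ha
    rw [d_inv, h1, inv_one, map_one, one_smul]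
    exact Submodule.neg_mem _ iha

/-- **Nakayama**: some `r ≡ 1` modulo the augmentation ideal moves `D` into `C`. -/
theorem exists_smul_mem_Csub [Finite G]
    (hgen : Subgroup.closure (Set.range (fun i => Abelianization.of (S i))) = ⊤) :
    ∃ r : MonoidAlgebra ℤ (Abelianization G), r - 1 ∈ augIdeal (Abelianization G) ∧
      ∀ δ ∈ Dsub s hs, r • δ ∈ Csub s hs S := by
  have hfg : (Dsub s hs).FG := by
    unfold Dsub
    exact Submodule.fg_span (Set.finite_range _)
  have hfg' : ((Dsub s hs).map (Csub s hs S).mkQ).FG := hfg.map _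
  have hle : (Dsub s hs).map (Csub s hs S).mkQ ≤
      augIdeal (Abelianization G) • (Dsub s hs).map (Csub s hs S).mkQ := by
    rw [← Submodule.map_smul'']
    have h1 := Submodule.map_mono (f := (Csub s hs S).mkQ) (Dsub_le s hs S hgen)
    rw [Submodule.map_sup, Submodule.mkQ_map_self, bot_sup_eq] at h1
    exact h1
  obtain ⟨r, hr1, hr2⟩ := Submodule.exists_sub_one_mem_and_smul_eq_zero_of_fg_of_le_smul
    (augIdeal (Abelianization G)) _ hfg' hle
  refine ⟨r, hr1, fun δ hδ => ?_⟩
  have h1 := hr2 _ (Submodule.mem_map_of_mem hδ)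
  rw [← map_smul] at h1
  exact (Submodule.Quotient.mk_eq_zero _).mp h1

end

end PIT

end Cfsg.Agent.Lib.Lead
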