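import Mathlib
import Cfsg.Agent.Lib.Lead.PIT3

set_option autoImplicit false

namespace Cfsg.Agent.Lib.Lead

universe u

namespace PIT

section
variable {G : Type u} [Group G] (s : Abelianization G → G)
  (hs : ∀ τ, Abelianization.of (s τ) = τ)

theorem d_pow (g : G) (k : ℕ) :
    d s hs (g ^ k) = geom (Abelianization.of g) k • d s hs g := by
  induction k with
  | zero =>
    rw [pow_zero, d_one]
    unfold geom
    rw [Finset.range_zero, Finset.sum_empty, zero_smul]
  | succ k ih =>
    rw [pow_succ, d_mul, ih, map_pow, map_pow]
    unfold geom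
    rw [Finset.sum_range_succ, add_smul]

theorem aug_eq_one_of_sub_one_mem {H : Type u} [CommGroup H] (r : MonoidAlgebra ℤ H)
    (hr : r - 1 ∈ augIdeal H) : aug r = 1 := by
  rw [mem_augIdeal, map_sub, map_one, sub_eq_zero] at hr
  exact hr

/-- **Key step of the principal ideal theorem**: the norm kills the images of the generators. -/
theorem norm_smul_d_eq_zero [Finite G] [Fintype (Abelianization G)] {ι : Type} [Fintype ι]
    [DecidableEq ι] (S : ι → G)
    (hgen : Subgroup.closure (Set.range (fun i => Abelianization.of (S i))) = ⊤)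
    (hcard : ∏ i, orderOf (Abelianization.of (S i)) = Fintype.card (Abelianization G)) (j : ι) :
    norm (Abelianization G) • d s hs (S j) = 0 := by
  obtain ⟨r, hr1, hr2⟩ := exists_smul_mem_Csub s hs S hgen
  -- the relations
  have ha : ∀ i, geom (Abelianization.of (S i)) (orderOf (Abelianization.of (S i))) •
      d s hs (S i) ∈ Dsub s hs := by
    intro i
    rw [← d_pow]
    apply d_mem_Dsub
    rw [← Abelianization.ker_of, MonoidHom.mem_ker, map_pow, pow_orderOf_eq_one]
  have hex : ∀ i, ∃ θ : ι × ι → MonoidAlgebra ℤ (Abelianization G),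
      ∑ kl, θ kl • kos s hs S kl =
        r • (geom (Abelianization.of (S i)) (orderOf (Abelianization.of (S i))) •
          d s hs (S i)) := by
    intro i
    exact (Submodule.mem_span_range_iff_exists_fun _).mp (hr2 _ (ha i))
  choose θ hθ using hex
  -- the rows of the relation matrix
  let v : ι → BFun G × MonoidAlgebra ℤ (Abelianization G) := fun i => d s hs (S i)
  let koz : ι × ι → (ι → MonoidAlgebra ℤ (Abelianization G)) := fun kl =>
    Pi.single kl.2 (v kl.1).2 - Pi.single kl.1 (v kl.2).2
  have hkoz : ∀ kl, Fintype.linearCombination (MonoidAlgebra ℤ (Abelianization G)) v (koz kl) =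
      kos s hs S kl := by
    intro kl
    rw [map_sub, Fintype.linearCombination_apply_single, Fintype.linearCombination_apply_single]
    rfl
  let row : ι → (ι → MonoidAlgebra ℤ (Abelianization G)) := fun i =>
    Pi.single i (r * geom (Abelianization.of (S i)) (orderOf (Abelianization.of (S i)))) -
      ∑ kl, θ i kl • koz kl
  have hrow : ∀ i, Fintype.linearCombination (MonoidAlgebra ℤ (Abelianization G)) v (row i) =
      0 := by
    intro i
    rw [map_sub, Fintype.linearCombination_apply_single, map_sum]
    simp_rw [map_smul, hkoz]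
    rw [hθ i, mul_smul, sub_self]
  have hrel : ∀ i, ∑ k, (Matrix.of row) i k • v k = 0 := by
    intro i
    have := hrow i
    rw [Fintype.linearCombination_apply] at this
    exact this
  have hdet := det_smul_eq_zero (Matrix.of row) v hrel
  -- the determinant is fixed by the generators
  have hfix : ∀ h ∈ Set.range (fun i => Abelianization.of (S i)),
      MonoidAlgebra.of ℤ (Abelianization G) h * (Matrix.of row).det = (Matrix.of row).det := by
    rintro _ ⟨i, rfl⟩
    have h1 := congrArg Prod.snd (hdet i)
    rw [Prod.smul_snd, Prod.snd_zero, smul_eq_mul] at h1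
    change (Matrix.of row).det * (MonoidAlgebra.of ℤ (Abelianization G)
      (Abelianization.of (S i)) - 1) = 0 at h1
    rw [mul_sub, mul_one, sub_eq_zero] at h1
    rw [mul_comm]
    exact h1
  have hk := eq_smul_norm_of_fixed (Matrix.of row).det _ hgen hfix
  -- the augmentation of the determinant
  have haug1 : aug (Matrix.of row).det =
      ((aug (H := Abelianization G)).toRingHom.mapMatrix (Matrix.of row)).det :=
    RingHom.map_det (aug (H := Abelianization G)).toRingHom _
  have hr1' : aug r = 1 := aug_eq_one_of_sub_one_mem r hr1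
  have hkoz0 : ∀ (kl : ι × ι) (k : ι), aug (koz kl k) = 0 := by
    intro kl k
    have hv : ∀ i, aug (v i).2 = 0 := by
      intro i
      exact (mem_augIdeal _).mp (of_sub_one_mem _)
    change aug ((Pi.single kl.2 (v kl.1).2 - Pi.single kl.1 (v kl.2).2 :
      ι → MonoidAlgebra ℤ (Abelianization G)) k) = 0
    rw [Pi.sub_apply, map_sub, Pi.single_apply, Pi.single_apply]
    split_ifs <;> simp [hv]
  have hmat : (aug (H := Abelianization G)).toRingHom.mapMatrix (Matrix.of row) =
      Matrix.diagonal (fun i => (orderOf (Abelianization.of (S i)) : ℤ)) := by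
    ext i k
    rw [RingHom.mapMatrix_apply, Matrix.map_apply, Matrix.of_apply, Matrix.diagonal_apply]
    change aug ((Pi.single i (r * geom (Abelianization.of (S i))
      (orderOf (Abelianization.of (S i)))) - ∑ kl, θ i kl • koz kl :
      ι → MonoidAlgebra ℤ (Abelianization G)) k) = _
    rw [Pi.sub_apply, map_sub, Finset.sum_apply, map_sum]
    have h0 : ∀ kl ∈ (Finset.univ : Finset (ι × ι)), aug ((θ i kl • koz kl) k) = 0 := by
      intro kl _
      rw [Pi.smul_apply, smul_eq_mul, map_mul, hkoz0, mul_zero]
    rw [Finset.sum_eq_zero h0, sub_zero, Pi.single_apply]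
    by_cases hik : i = k
    · rw [if_pos hik, if_pos hik.symm, map_mul, hr1', one_mul, aug_geom]
    · rw [if_neg hik, if_neg (fun h => hik h.symm), map_zero]
  rw [hmat, Matrix.det_diagonal] at haug1
  have haug2 : aug (Matrix.of row).det =
      (Matrix.of row).det.coeff 1 * (Fintype.card (Abelianization G) : ℤ) := by
    conv_lhs => rw [hk]
    rw [map_smul, aug_norm, smul_eq_mul]
  have hcard' : (∏ i, (orderOf (Abelianization.of (S i)) : ℤ)) =
      (Fintype.card (Abelianization G) : ℤ) := by
    rw [← hcard]; push_cast; rfl
  rw [haug1, hcard'] at haug2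
  have hpos : (Fintype.card (Abelianization G) : ℤ) ≠ 0 := by
    have := Fintype.card_pos (α := Abelianization G)
    exact_mod_cast this.ne'
  have hk1 : (Matrix.of row).det.coeff 1 = 1 := by
    have := mul_right_cancel₀ hpos (by rw [one_mul]; exact haug2 :
      1 * (Fintype.card (Abelianization G) : ℤ) =
        (Matrix.of row).det.coeff 1 * (Fintype.card (Abelianization G) : ℤ))
    exact this.symm
  rw [hk1, one_smul] at hk
  rw [← hk]
  exact hdet j

end

end PIT

end Cfsg.Agent.Lib.Lead
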