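import Mathlib
import Cfsg.Agent.Lib.Lead.PIT4

set_option autoImplicit false

namespace Cfsg.Agent.Lib.Lead

universe u

namespace PIT

theorem sum_inst_irrel {α : Type u} {M : Type u} [AddCommMonoid M] (i1 i2 : Fintype α)
    (f h : α → M) (hfh : ∀ a, f a = h a) :
    @Finset.sum α M _ (@Finset.univ α i1) f = @Finset.sum α M _ (@Finset.univ α i2) h := by
  have : i1 = i2 := Subsingleton.elim _ _
  subst this
  exact Finset.sum_congr rfl (fun a _ => hfh a)

section
variable {G : Type u} [Group G] (s : Abelianization G → G)
  (hs : ∀ τ, Abelianization.of (s τ) = τ)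

theorem inv_smul_eq (g : G) (q : G ⧸ commutator G) :
    (g⁻¹ • q : G ⧸ commutator G) =
      ((Abelianization.of g)⁻¹ * (show Abelianization G from q) : Abelianization G) := by
  obtain ⟨a, rfl⟩ := QuotientGroup.mk_surjective q
  rfl

/-- the transfer into `G'/G''` in terms of the cocycle `b` -/
theorem transfer_eq_sum [Finite G] [Fintype (Abelianization G)] (g : G) :
    Additive.ofMul (MonoidHom.transfer
      (Abelianization.of : commutator G →* Abelianization (commutator G)) g) =
      ∑ τ : Abelianization G, b s hs g τ := by
  have hs' : ∀ q : G ⧸ commutator G, ((s q : G) : G ⧸ commutator G) = q := hs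
  rw [MonoidHom.transfer_def _
    (⟨Set.range s, Subgroup.isComplement_range_left hs'⟩ : (commutator G).LeftTransversal) g]
  unfold Subgroup.leftTransversals.diff
  simp only
  rw [ofMul_prod]
  refine sum_inst_irrel _ _ _ _ (fun q => ?_)
  unfold b
  congr 2
  apply Subtype.ext
  have h1 : ((Subgroup.isComplement_range_left hs').leftQuotientEquiv q : G) = s q :=
    Subgroup.IsComplement.leftQuotientEquiv_apply hs' q
  have h2 : (((g • (⟨Set.range s, Subgroup.isComplement_range_left hs'⟩ :
      (commutator G).LeftTransversal)).2.leftQuotientEquiv q : _) : G) =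
      g * s ((Abelianization.of g)⁻¹ * (show Abelianization G from q)) := by
    rw [Subgroup.smul_apply_eq_smul_apply_inv_smul]
    have h3 : ((Subgroup.isComplement_range_left hs').leftQuotientEquiv (g⁻¹ • q) : G) =
        s (g⁻¹ • q) := Subgroup.IsComplement.leftQuotientEquiv_apply hs' (g⁻¹ • q)
    change g • ((Subgroup.isComplement_range_left hs').leftQuotientEquiv (g⁻¹ • q) : G) = _
    rw [h3, inv_smul_eq, smul_eq_mul]
  change ((Subgroup.isComplement_range_left hs').leftQuotientEquiv q : G)⁻¹ *
    (((g • (⟨Set.range s, Subgroup.isComplement_range_left hs'⟩ :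
      (commutator G).LeftTransversal)).2.leftQuotientEquiv q : _) : G) = _
  rw [h1, h2]
  exact (mul_assoc _ _ _).symm

end

section
variable {G : Type u} [Group G] [Finite G]

/-- a basis of a finite abelian group: generators whose orders multiply to the group order -/
theorem exists_basis (H : Type u) [CommGroup H] [Finite H] [Fintype H] :
    ∃ (ι : Type) (_ : Fintype ι) (h : ι → H), Subgroup.closure (Set.range h) = ⊤ ∧
      ∏ i, orderOf (h i) = Fintype.card H := by
  classical
  obtain ⟨ι, hι, n, hn, ⟨φ⟩⟩ := CommGroup.equiv_prod_multiplicative_zmod_of_finite H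
  haveI : ∀ i, NeZero (n i) := fun i => ⟨by have := hn i; omega⟩
  let e : ι → ((i : ι) → Multiplicative (ZMod (n i))) := fun i =>
    Pi.mulSingle i (Multiplicative.ofAdd (1 : ZMod (n i)))
  refine ⟨ι, hι, fun i => φ.symm (e i), ?_, ?_⟩
  · have h1 : Subgroup.closure (Set.range e) = ⊤ := by
      rw [eq_top_iff]
      intro f _
      rw [← Finset.univ_prod_mulSingle f]
      apply Subgroup.prod_mem
      intro i _
      have h2 : f i = (Multiplicative.ofAdd (1 : ZMod (n i))) ^ (Multiplicative.toAdd (f i)).val := by
        rw [← ofAdd_nsmul, nsmul_eq_mul, mul_one, ZMod.natCast_zmod_val]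
        rfl
      rw [h2, Pi.mulSingle_pow]
      exact Subgroup.pow_mem _ (Subgroup.subset_closure (Set.mem_range_self i)) _
    have h3 : Set.range (fun i => φ.symm (e i)) = (φ.symm : _ →* H) '' Set.range e := by
      rw [← Set.range_comp]; rfl
    rw [h3, ← MonoidHom.map_closure, h1, ← MonoidHom.range_eq_map, MonoidHom.range_eq_top]
    exact φ.symm.surjective
  · have h1 : ∀ i, orderOf (φ.symm (e i)) = n i := by
      intro i
      rw [MulEquiv.orderOf_eq, orderOf_piMulSingle, orderOf_ofAdd_eq_addOrderOf,
        ZMod.addOrderOf_one]
    simp_rw [h1]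
    rw [Fintype.card_congr φ.toEquiv, Fintype.card_pi]
    apply Finset.prod_congr rfl
    intro i _
    rw [Fintype.card_multiplicative, ZMod.card]

/-- **The Principal Ideal Theorem** (Furtwängler): the transfer of a finite group into the
abelianization of its derived subgroup is trivial. -/
theorem transfer_commutator_eq_one :
    MonoidHom.transfer (Abelianization.of : ↥(commutator G) →* Abelianization ↥(commutator G)) =
      (1 : G →* Abelianization ↥(commutator G)) := by
  classical
  letI : Fintype (Abelianization G) := Fintype.ofFinite _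
  obtain ⟨ι, hι, h, hgen, hcard⟩ := exists_basis (Abelianization G)
  let s : Abelianization G → G := fun τ => Quotient.out τ
  have hs : ∀ τ, Abelianization.of (s τ) = τ := fun τ => Quotient.out_eq' τ
  let S : ι → G := fun i => s (h i)
  have hS : ∀ i, Abelianization.of (S i) = h i := fun i => hs (h i)
  have hgen' : Subgroup.closure (Set.range (fun i => Abelianization.of (S i))) = ⊤ := by
    simp_rw [hS]; exact hgen
  have hcard' : ∏ i, orderOf (Abelianization.of (S i)) = Fintype.card (Abelianization G) := by
    simp_rw [hS]; exact hcard
  -- the generators are killed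
  have hSj : ∀ j, MonoidHom.transfer
      (Abelianization.of : ↥(commutator G) →* Abelianization ↥(commutator G)) (S j) = 1 := by
    intro j
    have h1 := norm_smul_d_eq_zero s hs S hgen' hcard' j
    have h2 := congrArg Prod.fst h1
    rw [Prod.smul_fst, d_fst, Prod.fst_zero] at h2
    have h3 := congrFun h2 1
    rw [norm_smul_apply, ← transfer_eq_sum s hs] at h3
    exact h3
  -- the kernel contains the generators and the commutator subgroup
  ext g
  rw [MonoidHom.one_apply, ← MonoidHom.mem_ker]
  have htop : Subgroup.closure (Set.range S) ⊔ commutator G = ⊤ := by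
    rw [eq_top_iff]
    intro g _
    have h1 : (Subgroup.closure (Set.range S)).map (Abelianization.of : G →* Abelianization G) =
        ⊤ := by
      rw [MonoidHom.map_closure, ← Set.range_comp]
      exact hgen'
    have h2 : Abelianization.of g ∈ (Subgroup.closure (Set.range S)).map
        (Abelianization.of : G →* Abelianization G) := by rw [h1]; exact Subgroup.mem_top _
    obtain ⟨w, hw, hwg⟩ := Subgroup.mem_map.mp h2
    have hu : w⁻¹ * g ∈ commutator G := by
      rw [← Abelianization.ker_of, MonoidHom.mem_ker, map_mul, map_inv, hwg, inv_mul_cancel]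
    have : g = w * (w⁻¹ * g) := by group
    rw [this]
    exact Subgroup.mul_mem_sup hw hu
  have hle : Subgroup.closure (Set.range S) ⊔ commutator G ≤
      (MonoidHom.transfer
        (Abelianization.of : ↥(commutator G) →* Abelianization ↥(commutator G))).ker := by
    apply sup_le
    · rw [Subgroup.closure_le]
      rintro _ ⟨j, rfl⟩
      exact hSj j
    · exact Abelianization.commutator_subset_ker _
  apply hle
  rw [htop]
  exact Subgroup.mem_top g

end

end PIT

end Cfsg.Agent.Lib.Lead
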