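import Mathlib
import Cfsg.Prelude.Def_LocalStructure
import Cfsg.Agent.Lib.Lead.MSS10
import Cfsg.Agent.Lib.Helper6.LocalKieler
import Cfsg.Agent.Lib.Helper7.Wielandt5

set_option autoImplicit false

/-! `p`-minimality from a transitive family of `p`-minimal subgroups: the unique maximal subgroup. -/

namespace Cfsg.Agent.Lib.Lead.PMin

open Cfsg Cfsg.Agent.Lib.Helper6 Cfsg.Agent.Lib.Helper7 Cfsg.Agent.Lib.Lead.MSS

variable {G : Type*} [Group G]

local notation "cj[" g "]" => Subgroup.map (MulEquiv.toMonoidHom (MulAut.conj g))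

/-- `L₀` is the largest proper subgroup of `L` containing `S`. -/
def UMax (S L L₀ : Subgroup G) : Prop :=
  S ≤ L₀ ∧ L₀ < L ∧ ∀ X : Subgroup G, S ≤ X → X < L → X ≤ L₀

theorem UMax.unique {S L A B : Subgroup G} (hA : UMax S L A) (hB : UMax S L B) : A = B :=
  le_antisymm (hB.2.2 A hA.1 hA.2.1) (hA.2.2 B hB.1 hB.2.1)

theorem cj_lt {A B : Subgroup G} (g : G) (h : A < B) : cj[g] A < cj[g] B := by
  refine lt_of_le_of_ne (Subgroup.map_mono h.le) ?_
  intro e
  exact h.ne (Subgroup.map_injective (MulAut.conj g).injective e)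

theorem cj_inv_cj (A : Subgroup G) (g : G) : cj[g⁻¹] (cj[g] A) = A := by
  rw [map_conj_map_conj, inv_mul_cancel, map_conj_one]

theorem cj_cj_inv (A : Subgroup G) (g : G) : cj[g] (cj[g⁻¹] A) = A := by
  rw [map_conj_map_conj, mul_inv_cancel, map_conj_one]

theorem UMax.map_conj {S L A : Subgroup G} (h : UMax S L A) (g : G) :
    UMax (cj[g] S) (cj[g] L) (cj[g] A) := by
  refine ⟨Subgroup.map_mono h.1, cj_lt g h.2.1, ?_⟩
  intro X hSX hXL
  have h1 : S ≤ cj[g⁻¹] X := by
    have := Subgroup.map_mono (f := (MulAut.conj g⁻¹).toMonoidHom) hSX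
    rwa [cj_inv_cj] at this
  have h2 : cj[g⁻¹] X < L := by
    have := cj_lt g⁻¹ hXL
    rwa [cj_inv_cj] at this
  have h3 := Subgroup.map_mono (f := (MulAut.conj g).toMonoidHom) (h.2.2 _ h1 h2)
  rwa [cj_cj_inv] at h3

variable [Finite G] {p : ℕ} [Fact p.Prime]

/-- the largest proper subgroup over one Sylow subgroup is also the one over any other
Sylow subgroup it contains -/
theorem UMax.of_sylow_le {S S' L A : Subgroup G} (h : UMax S L A) (hS : IsSylowOf p L S)
    (hS' : IsSylowOf p L S') (hS'A : S' ≤ A) : UMax S' L A := by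
  obtain ⟨k, hk, rfl⟩ := IsSylowOf.exists_conj hS hS'
  have h1 := h.map_conj k
  rw [map_conj_eq_self_of_mem_normalizer (Subgroup.le_normalizer hk)] at h1
  have h2 : A ≤ cj[k] A := h1.2.2 A hS'A h.2.1
  have h3 : A = cj[k] A :=
    Subgroup.eq_of_le_of_card_ge h2 (card_map_conj A k).le
  rw [← h3] at h1
  exact h1

omit [Finite G] [Fact p.Prime] in
/-- ambient form of `IsMinimalOver` for a subgroup of a subgroup -/
theorem of_isMinimalOver [Finite G] {Y L : Subgroup G} (hYL : Y ≤ L)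
    (h : IsMinimalOver (Y.subgroupOf L)) : ncl L Y = L ∧ ∃ L₀, UMax Y L L₀ := by
  obtain ⟨h1, M, ⟨hM, hYM⟩, huniq⟩ := h
  constructor
  · rw [← map_normalClosure_subgroupOf hYL, h1, ← MonoidHom.range_eq_map, Subgroup.range_subtype]
  · refine ⟨M.map L.subtype, ?_, ?_, ?_⟩
    · intro y hy
      exact ⟨⟨y, hYL hy⟩, hYM (Subgroup.mem_subgroupOf.mpr hy), rfl⟩
    · refine lt_of_le_of_ne (Subgroup.map_subtype_le M) ?_
      intro e
      apply hM.1
      apply Subgroup.map_injective L.subtype_injective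
      rw [e, ← MonoidHom.range_eq_map, Subgroup.range_subtype]
    · intro X hYX hXL
      have hX' : X.subgroupOf L ≠ ⊤ := by
        intro e
        rw [Subgroup.subgroupOf_eq_top] at e
        exact hXL.not_ge e
      rcases eq_top_or_exists_le_coatom (X.subgroupOf L) with h2 | ⟨M', hM', hXM'⟩
      · exact absurd h2 hX'
      · have h3 : M' = M :=
          huniq M' ⟨hM', le_trans (Subgroup.comap_mono hYX) hXM'⟩
        rw [h3] at hXM'
        intro x hx
        exact ⟨⟨x, hXL.le hx⟩, hXM' (Subgroup.mem_subgroupOf.mpr hx), rfl⟩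

end Cfsg.Agent.Lib.Lead.PMin
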