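import Mathlib
import Cfsg.Prelude.Def_LocalStructure
import Cfsg.Agent.Lib.Lead.PMin1

set_option autoImplicit false

/-! The standing hypotheses on a transitive family of subgroups, and first consequences. -/

namespace Cfsg.Agent.Lib.Lead.PMin

open Cfsg Cfsg.Agent.Lib.Helper6 Cfsg.Agent.Lib.Helper7 Cfsg.Agent.Lib.Lead.MSS

variable {G : Type*} [Group G]

local notation "cj[" g "]" => Subgroup.map (MulEquiv.toMonoidHom (MulAut.conj g))

/-- a conjugation-invariant, transitive family of subgroups containing `O^p` in its join, each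
member normal modulo `O_p` in the join -/
structure Fam (p : ℕ) (𝒦 : Set (Subgroup G)) : Prop where
  ne : 𝒦.Nonempty
  inv : ∀ h : G, ∀ E ∈ 𝒦, cj[h] E ∈ 𝒦
  tr : ∀ E ∈ 𝒦, ∀ K ∈ 𝒦, ∃ h : G, K = cj[h] E
  res : pResidual p G ≤ sSup 𝒦
  norm : ∀ E ∈ 𝒦, sSup 𝒦 ⊔ pCore p G ≤
    Subgroup.normalizer ((E ⊔ pCore p G : Subgroup G) : Set G)

variable {p : ℕ} {𝒦 : Set (Subgroup G)}

theorem cj_pCore (p : ℕ) (g : G) : cj[g] (pCore p G) = pCore p G :=
  map_conj_eq_self_of_mem_normalizer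
    (by rw [Subgroup.normalizer_eq_top_iff.mpr inferInstance]; trivial)

theorem cj_hat (p : ℕ) (g : G) (E : Subgroup G) :
    cj[g] (E ⊔ pCore p G) = cj[g] E ⊔ pCore p G := by
  rw [Subgroup.map_sup, cj_pCore]

theorem Fam.cj_sSup_le (h : Fam p 𝒦) (g : G) : cj[g] (sSup 𝒦) ≤ sSup 𝒦 := by
  rw [Subgroup.map_le_iff_le_comap]
  apply sSup_le
  intro E hE
  rw [← Subgroup.map_le_iff_le_comap]
  exact le_sSup (h.inv g E hE)

theorem Fam.normal_sSup (h : Fam p 𝒦) : (sSup 𝒦).Normal := by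
  constructor
  intro n hn g
  have := h.cj_sSup_le g ⟨n, hn, rfl⟩
  simpa [MulAut.conj_apply] using this

theorem Fam.normal_hat (h : Fam p 𝒦) : (sSup 𝒦 ⊔ pCore p G).Normal := by
  haveI := h.normal_sSup
  infer_instance

variable [Finite G] [Fact p.Prime]

theorem isSylowOf_top (T : Sylow p G) : IsSylowOf p ⊤ (T : Subgroup G) :=
  ⟨le_top, T.isPGroup', fun _ hQ _ hTQ => T.is_maximal' hQ hTQ⟩

theorem Fam.sup_sylow (h : Fam p 𝒦) (T : Sylow p G) : sSup 𝒦 ⊔ (T : Subgroup G) = ⊤ := by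
  rw [eq_top_iff, ← pResidual_sup_sylow T]
  exact sup_le_sup_right h.res _

/-- `T ∩ Ê` is a Sylow subgroup of `Ê = E O_p(G)` -/
theorem Fam.isSylowOf_inf (h : Fam p 𝒦) (T : Sylow p G) {E : Subgroup G} (hE : E ∈ 𝒦) :
    IsSylowOf p (E ⊔ pCore p G) ((T : Subgroup G) ⊓ (E ⊔ pCore p G)) := by
  haveI := h.normal_hat
  have h1 : IsSylowOf p (sSup 𝒦 ⊔ pCore p G) ((T : Subgroup G) ⊓ (sSup 𝒦 ⊔ pCore p G)) := by
    apply (isSylowOf_top T).inf_of_normal le_top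
    rw [Subgroup.normalizer_eq_top_iff.mpr inferInstance]
  have hle : E ⊔ pCore p G ≤ sSup 𝒦 ⊔ pCore p G := sup_le_sup_right (le_sSup hE) _
  have h2 := h1.inf_of_normal hle (h.norm E hE)
  rwa [inf_assoc, inf_eq_right.mpr hle] at h2

/-- `T` permutes the `Ê` transitively -/
theorem Fam.exists_mem_sylow (h : Fam p 𝒦) (T : Sylow p G) {E K : Subgroup G} (hE : E ∈ 𝒦)
    (hK : K ∈ 𝒦) : ∃ t ∈ (T : Subgroup G), K ⊔ pCore p G = cj[t] (E ⊔ pCore p G) := by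
  haveI := h.normal_sSup
  obtain ⟨g, rfl⟩ := h.tr E hE K hK
  have hg : g ∈ (T : Subgroup G) ⊔ sSup 𝒦 := by
    rw [sup_comm, h.sup_sylow T]; trivial
  obtain ⟨t, ht, r, hr, rfl⟩ := Subgroup.mem_sup_of_normal_right.mp hg
  refine ⟨t, ht, ?_⟩
  rw [← cj_hat, ← map_conj_map_conj]
  congr 1
  exact map_conj_eq_self_of_mem_normalizer (h.norm E hE (le_sup_left (a := sSup 𝒦) hr))

/-- a proper subgroup containing a Sylow subgroup contains no `Ê` -/
theorem Fam.not_hat_le (h : Fam p 𝒦) (T : Sylow p G) {X : Subgroup G} (hTX : (T : Subgroup G) ≤ X)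
    (hX : X ≠ ⊤) {E : Subgroup G} (hE : E ∈ 𝒦) : ¬ E ⊔ pCore p G ≤ X := by
  intro hEX
  apply hX
  rw [eq_top_iff, ← h.sup_sylow T]
  refine sup_le (sSup_le ?_) hTX
  intro K hK
  obtain ⟨t, ht, e⟩ := h.exists_mem_sylow T hE hK
  have h1 : cj[t] (E ⊔ pCore p G) ≤ cj[t] X := Subgroup.map_mono hEX
  rw [map_conj_eq_self_of_mem_normalizer (Subgroup.le_normalizer (hTX ht)), ← e] at h1
  exact le_sup_left.trans h1

end Cfsg.Agent.Lib.Lead.PMin
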