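import Mathlib
import Cfsg.Prelude.Def_LocalStructure
import Cfsg.Agent.Lib.Lead.PMin2

set_option autoImplicit false

/-! `p`-minimality from a transitive family of `p`-minimal subgroups. -/

namespace Cfsg.Agent.Lib.Lead.PMin

open Cfsg Cfsg.Agent.Lib.Helper6 Cfsg.Agent.Lib.Helper7 Cfsg.Agent.Lib.Lead.MSS

variable {G : Type*} [Group G]

local notation "cj[" g "]" => Subgroup.map (MulEquiv.toMonoidHom (MulAut.conj g))

variable {p : ℕ} {𝒦 : Set (Subgroup G)} [Finite G] [Fact p.Prime]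

/-- some Sylow subgroup of `E` lies in `T` -/
theorem Fam.exists_sylow_le (h : Fam p 𝒦) (T : Sylow p G) {E : Subgroup G} (hE : E ∈ 𝒦) :
    ∃ S, IsSylowOf p E S ∧ S ≤ (T : Subgroup G) := by
  obtain ⟨S₀, hS₀⟩ := exists_isSylowOf p E
  have hO : IsPGroup p ↥(pCore p G) := pCore_isPGroup p
  have h1 : IsPGroup p ↥(S₀ ⊔ pCore p G) :=
    IsPGroup.to_sup_of_normal_right' hS₀.2.1 hO
      (by rw [Subgroup.normalizer_eq_top_iff.mpr inferInstance]; exact le_top)
  obtain ⟨k, hk, hle⟩ := (h.isSylowOf_inf T hE).exists_conj_ge h1 (sup_le_sup_right hS₀.1 _)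
  obtain ⟨e, he, o, ho, rfl⟩ := Subgroup.mem_sup_of_normal_right.mp hk
  have hoT : o ∈ (T : Subgroup G) ⊓ (E ⊔ pCore p G) :=
    ⟨pCore_le_sylow T ho, le_sup_right (a := E) ho⟩
  rw [← map_conj_map_conj,
    map_conj_eq_self_of_mem_normalizer (Subgroup.le_normalizer hoT)] at hle
  refine ⟨cj[e⁻¹] S₀, ?_, ?_⟩
  · have := hS₀.map_conj e⁻¹
    rwa [map_conj_eq_self_of_mem_normalizer (Subgroup.le_normalizer (E.inv_mem he))] at this
  · have h2 := Subgroup.map_mono (f := (MulAut.conj e⁻¹).toMonoidHom) (le_sup_left.trans hle)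
    rw [cj_inv_cj] at h2
    exact h2.trans inf_le_left

/-- the largest proper subgroup of `Ê` over `T ∩ Ê`; it is not normalized by `E` -/
theorem Fam.exists_umax (h : Fam p 𝒦) (T : Sylow p G) {E : Subgroup G} (hE : E ∈ 𝒦)
    (hmin : ∀ S : Subgroup G, IsSylowOf p E S → ncl E S = E ∧ ∃ E₀, UMax S E E₀) :
    ∃ F, UMax ((T : Subgroup G) ⊓ (E ⊔ pCore p G)) (E ⊔ pCore p G) F ∧
      ¬ ∀ e ∈ E, cj[e] F = F := by
  obtain ⟨S, hS, hST⟩ := h.exists_sylow_le T hE
  obtain ⟨hncl, E₀, hE₀⟩ := hmin S hS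
  have hOT : pCore p G ≤ (T : Subgroup G) := pCore_le_sylow T
  -- `T ∩ E = S`
  have hTE : (T : Subgroup G) ⊓ E = S :=
    hS.2.2 _ (T.isPGroup'.to_le inf_le_left) inf_le_right (le_inf hST hS.1)
  -- `E ∩ O ≤ E₀`
  have hEO : E ⊓ pCore p G ≤ E₀ := by
    refine le_trans ?_ hE₀.1
    apply hS.normal_le ((pCore_isPGroup p).to_le inf_le_right) inf_le_left
    apply le_normalizer_inf Subgroup.le_normalizer
    rw [Subgroup.normalizer_eq_top_iff.mpr inferInstance]; exact le_top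
  have hdecomp : ∀ {X : Subgroup G}, pCore p G ≤ X → ∀ x ∈ X, x ∈ E ⊔ pCore p G →
      ∃ e ∈ X ⊓ E, ∃ o ∈ pCore p G, e * o = x := by
    intro X hOX x hxX hx
    obtain ⟨e, he, o, ho, rfl⟩ := Subgroup.mem_sup_of_normal_right.mp hx
    refine ⟨e, ⟨?_, he⟩, o, ho, rfl⟩
    have : e = e * o * o⁻¹ := by group
    rw [this]
    exact X.mul_mem hxX (X.inv_mem (hOX ho))
  have hF₀E : (E₀ ⊔ pCore p G) ⊓ E = E₀ := by
    apply le_antisymm
    · rintro x ⟨hx1, hx2⟩
      obtain ⟨e, he, o, ho, rfl⟩ := Subgroup.mem_sup_of_normal_right.mp hx1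
      have ho' : o ∈ E := by
        have : o = e⁻¹ * (e * o) := by group
        rw [this]
        exact E.mul_mem (E.inv_mem (hE₀.2.1.le he)) hx2
      exact E₀.mul_mem he (hEO ⟨ho', ho⟩)
    · exact le_inf le_sup_left hE₀.2.1.le
  refine ⟨E₀ ⊔ pCore p G, ⟨?_, ?_, ?_⟩, ?_⟩
  · rintro x ⟨hxT, hx⟩
    obtain ⟨e, he, o, ho, rfl⟩ := hdecomp hOT x hxT hx
    rw [hTE] at he
    exact Subgroup.mul_mem _ (le_sup_left (a := E₀) (hE₀.1 he)) (le_sup_right (a := E₀) ho)
  · refine lt_of_le_of_ne (sup_le_sup_right hE₀.2.1.le _) ?_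
    intro e
    apply hE₀.2.1.ne
    rw [← hF₀E, e]
    exact inf_eq_right.mpr le_sup_left
  · intro X hTX hXlt
    have hOX : pCore p G ≤ X := le_trans (le_inf hOT le_sup_right) hTX
    have h1 : X ⊓ E ≤ E₀ := by
      apply hE₀.2.2
      · exact le_inf (le_trans (le_inf hST (hS.1.trans le_sup_left)) hTX) hS.1
      · refine lt_of_le_of_ne inf_le_right ?_
        intro e
        apply hXlt.not_ge
        exact sup_le (inf_eq_right.mp e) hOX
    intro x hx
    obtain ⟨e, he, o, ho, rfl⟩ := hdecomp hOX x hx (hXlt.le hx)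
    exact Subgroup.mul_mem _ (le_sup_left (a := E₀) (h1 he)) (le_sup_right (a := E₀) ho)
  · intro hall
    have h1 : E ≤ Subgroup.normalizer ((E₀ : Subgroup G) : Set G) := by
      rw [← hF₀E]
      apply le_normalizer_inf _ Subgroup.le_normalizer
      intro e he
      exact mem_normalizer_of_map_conj_eq_self (hall e he)
    have h2 : ncl E S ≤ E₀ := ncl_le hE₀.1 h1
    rw [hncl] at h2
    exact hE₀.2.1.not_ge h2

end Cfsg.Agent.Lib.Lead.PMin
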