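import Mathlib
import Cfsg.Prelude.Def_LocalStructure
import Cfsg.Agent.Lib.Lead.PMin3

set_option autoImplicit false

/-! `p`-minimality from a transitive family of `p`-minimal subgroups: the main statement. -/

namespace Cfsg.Agent.Lib.Lead.PMin

open Cfsg Cfsg.Agent.Lib.Helper6 Cfsg.Agent.Lib.Helper7 Cfsg.Agent.Lib.Lead.MSS

variable {G : Type*} [Group G]

local notation "cj[" g "]" => Subgroup.map (MulEquiv.toMonoidHom (MulAut.conj g))

variable {p : ℕ} {𝒦 : Set (Subgroup G)}

/-- the elements compatible with a choice function on the family -/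
def stab (𝒦 : Set (Subgroup G)) (hinv : ∀ h : G, ∀ E ∈ 𝒦, cj[h] E ∈ 𝒦)
    (F : Subgroup G → Subgroup G) : Subgroup G where
  carrier := {h | ∀ E ∈ 𝒦, cj[h] (F E) = F (cj[h] E)}
  one_mem' := by
    intro E _
    rw [map_conj_one, map_conj_one]
  mul_mem' := by
    intro a b ha hb E hE
    rw [← map_conj_map_conj, ← map_conj_map_conj, hb E hE, ha _ (hinv b E hE)]
  inv_mem' := by
    intro a ha E hE
    have h1 := ha _ (hinv a⁻¹ E hE)
    rw [cj_cj_inv] at h1
    rw [← h1, cj_inv_cj]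

variable [Finite G] [Fact p.Prime]

theorem Fam.isMinimalOver (h : Fam p 𝒦)
    (hmin : ∀ E ∈ 𝒦, ∀ S : Subgroup G, IsSylowOf p E S → ncl E S = E ∧ ∃ E₀, UMax S E E₀)
    (T : Sylow p G) : IsMinimalOver (T : Subgroup G) := by
  obtain ⟨E₁, hE₁⟩ := h.ne
  -- the normal closure
  have hncl : Subgroup.normalClosure ((T : Subgroup G) : Set G) = ⊤ := by
    rw [eq_top_iff, ← h.sup_sylow T]
    refine sup_le (sSup_le ?_) Subgroup.le_normalClosure
    intro E hE
    obtain ⟨S, hS⟩ := exists_isSylowOf p E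
    obtain ⟨g, hg⟩ := exists_map_conj_le_sylow T hS.2.1
    have h1 : S ≤ Subgroup.normalClosure ((T : Subgroup G) : Set G) := by
      have h2 : cj[g] S ≤ Subgroup.normalClosure ((T : Subgroup G) : Set G) :=
        hg.trans Subgroup.le_normalClosure
      have h3 := Subgroup.map_mono (f := (MulAut.conj g⁻¹).toMonoidHom) h2
      rw [cj_inv_cj] at h3
      refine h3.trans ?_
      exact (map_conj_eq_self_of_mem_normalizer
        (by rw [Subgroup.normalizer_eq_top_iff.mpr Subgroup.normalClosure_normal]; trivial)).le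
    rw [← (hmin E hE S hS).1]
    apply ncl_le h1
    rw [Subgroup.normalizer_eq_top_iff.mpr Subgroup.normalClosure_normal]; exact le_top
  -- `T` is proper
  have hT : (T : Subgroup G) ≠ ⊤ := by
    intro e
    obtain ⟨S, hS⟩ := exists_isSylowOf p E₁
    obtain ⟨_, E₀, hE₀⟩ := hmin E₁ hE₁ S hS
    have h1 : E₁ = S :=
      hS.2.2 E₁ (T.isPGroup'.to_le (by rw [e]; exact le_top)) le_rfl hS.1
    exact hE₀.2.1.not_ge (by rw [h1]; exact hE₀.1)
  -- the choice function
  have key := fun E (hE : E ∈ 𝒦) => h.exists_umax T hE (hmin E hE)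
  classical
  set F : Subgroup G → Subgroup G := fun E =>
    if hE : E ∈ 𝒦 then Classical.choose (key E hE) else ⊥ with hF
  have hFs : ∀ E (hE : E ∈ 𝒦), UMax ((T : Subgroup G) ⊓ (E ⊔ pCore p G)) (E ⊔ pCore p G) (F E) ∧
      ¬ ∀ e ∈ E, cj[e] (F E) = F E := by
    intro E hE
    have := Classical.choose_spec (key E hE)
    simp only [hF, dif_pos hE]
    exact this
  -- every proper subgroup over `T` lies in the stabilizer
  have hle : ∀ X : Subgroup G, (T : Subgroup G) ≤ X → X ≠ ⊤ → X ≤ stab 𝒦 h.inv F := by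
    intro X hTX hX x hx E hE
    have hK : cj[x] E ∈ 𝒦 := h.inv x E hE
    have hcjX : cj[x] X = X := map_conj_eq_self_of_mem_normalizer (Subgroup.le_normalizer hx)
    have h1 := (hFs E hE).1.map_conj x
    rw [cj_hat] at h1
    have hS' : IsSylowOf p (cj[x] E ⊔ pCore p G)
        (cj[x] ((T : Subgroup G) ⊓ (E ⊔ pCore p G))) := by
      have := (h.isSylowOf_inf T hE).map_conj x
      rwa [cj_hat] at this
    have h2 : cj[x] ((T : Subgroup G) ⊓ (E ⊔ pCore p G)) ≤ F (cj[x] E) := by
      have h3 : X ⊓ (cj[x] E ⊔ pCore p G) ≤ F (cj[x] E) := by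
        apply (hFs _ hK).1.2.2
        · exact inf_le_inf_right _ hTX
        · refine lt_of_le_of_ne inf_le_right ?_
          intro e
          exact h.not_hat_le T hTX hX hK (inf_eq_right.mp e)
      refine le_trans (le_inf ?_ hS'.1) h3
      rw [← hcjX]
      exact Subgroup.map_mono (inf_le_left.trans hTX)
    have h4 := (hFs _ hK).1.of_sylow_le (h.isSylowOf_inf T hK) hS' h2
    exact h1.unique h4
  have hTs : (T : Subgroup G) ≤ stab 𝒦 h.inv F := hle _ le_rfl hT
  have hne : stab 𝒦 h.inv F ≠ ⊤ := by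
    intro e
    apply (hFs E₁ hE₁).2
    intro x hx
    have h1 : x ∈ stab 𝒦 h.inv F := by rw [e]; trivial
    have h2 := h1 E₁ hE₁
    rwa [map_conj_eq_self_of_mem_normalizer (Subgroup.le_normalizer hx)] at h2
  refine ⟨hncl, stab 𝒦 h.inv F, ⟨⟨hne, ?_⟩, hTs⟩, ?_⟩
  · intro Z hZ
    by_contra hZt
    exact hZ.not_ge (hle Z (hTs.trans hZ.le) hZt)
  · rintro M ⟨hM, hTM⟩
    have h1 := hle M hTM hM.1
    rcases eq_or_lt_of_le h1 with h2 | h2
    · exact h2
    · exact absurd (hM.2 _ h2) hne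

end Cfsg.Agent.Lib.Lead.PMin
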