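import Mathlib
import Cfsg.Prelude.Def_LocalStructure
import Cfsg.Agent.Lib.Lead.PMin2
import Cfsg.Agent.S2859

set_option autoImplicit false

/-! Centralizers modulo a normal subgroup, and the key commutator lemma. -/

namespace Cfsg.Agent.Lib.Lead.PMin

open Cfsg Cfsg.Agent.Lib.Helper6 Cfsg.Agent.Lib.Helper7 Cfsg.Agent.Lib.Lead.MSS
open scoped commutatorElement

variable {G : Type*} [Group G]

local notation "cj[" g "]" => Subgroup.map (MulEquiv.toMonoidHom (MulAut.conj g))

/-- the centralizer of `X` modulo the normal subgroup `O` -/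
def cz (O X : Subgroup G) [hO : O.Normal] : Subgroup G where
  carrier := {g | ∀ x ∈ X, ⁅g, x⁆ ∈ O}
  one_mem' := by
    intro x _
    simp [commutatorElement_def]
  mul_mem' := by
    intro a b ha hb x hx
    have e : ⁅a * b, x⁆ = a * ⁅b, x⁆ * a⁻¹ * ⁅a, x⁆ := by
      simp only [commutatorElement_def]; group
    rw [e]
    exact O.mul_mem (hO.conj_mem _ (hb x hx) a) (ha x hx)
  inv_mem' := by
    intro a ha x hx
    have e : ⁅a⁻¹, x⁆ = a⁻¹ * (⁅a, x⁆)⁻¹ * a⁻¹⁻¹ := by
      simp only [commutatorElement_def]; group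
    rw [e]
    exact hO.conj_mem _ (O.inv_mem (ha x hx)) a⁻¹

variable {O : Subgroup G} [hO : O.Normal]

theorem mem_cz {X : Subgroup G} {g : G} : g ∈ cz O X ↔ ∀ x ∈ X, ⁅g, x⁆ ∈ O := Iff.rfl

theorem le_cz_iff {A X : Subgroup G} : A ≤ cz O X ↔ ⁅A, X⁆ ≤ O := by
  rw [Subgroup.commutator_le]
  exact Iff.rfl

theorem le_cz_comm {A B : Subgroup G} : A ≤ cz O B ↔ B ≤ cz O A := by
  rw [le_cz_iff, le_cz_iff, Subgroup.commutator_comm]

theorem self_le_cz (X : Subgroup G) : O ≤ cz O X := by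
  intro o ho x _
  have e : ⁅o, x⁆ = o * (x * o⁻¹ * x⁻¹) := by
    simp only [commutatorElement_def]; group
  rw [e]
  exact O.mul_mem ho (hO.conj_mem _ (O.inv_mem ho) x)

theorem cz_anti {X Y : Subgroup G} (h : X ≤ Y) : cz O Y ≤ cz O X :=
  fun _ hg x hx => hg x (h hx)

/-- `X ≤ cz O X` when `X` is abelian modulo `O` -/
theorem le_cz_sup {A X Y : Subgroup G} (hX : A ≤ cz O X) (hY : A ≤ cz O Y) :
    A ≤ cz O (X ⊔ Y) := by
  rw [le_cz_comm]
  exact sup_le (le_cz_comm.mp hX) (le_cz_comm.mp hY)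

variable {p : ℕ} [Finite G] [Fact p.Prime]

/-- the key lemma: a commutator `[x, s]` with a `p`-element `s`, lying in a subgroup `D` that is
abelian modulo `O_p(G)` with `O_p(D) ≤ O_p(G)`, and commuting with `s` modulo `O_p(G)`, lies in
`O_p(G)` -/
theorem comm_mem_pCore {D : Subgroup G} (hDD : ⁅D, D⁆ ≤ pCore p G)
    (hDO : pCoreOf p D ≤ pCore p G) {s x : G} (hs : ∃ a : ℕ, s ^ p ^ a = 1)
    (hc : ⁅x, s⁆ ∈ D) (hcs : ⁅⁅x, s⁆, s⁆ ∈ pCore p G) : ⁅x, s⁆ ∈ pCore p G := by
  set c := ⁅x, s⁆ with hcdef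
  obtain ⟨a, ha⟩ := hs
  let π := QuotientGroup.mk' (pCore p G)
  have hcomm : Commute (π c) (π s) := by
    rw [← commutatorElement_eq_one_iff_commute, ← map_commutatorElement]
    exact (QuotientGroup.eq_one_iff _).mpr hcs
  have e1 : π x * π s * (π x)⁻¹ = π c * π s := by
    rw [← map_inv, ← map_mul, ← map_mul, ← map_mul]
    congr 1
    rw [hcdef, commutatorElement_def]; group
  have e2 : (π c) ^ p ^ a = 1 := by
    have h1 : (π c * π s) ^ p ^ a = 1 := by
      rw [← e1, conj_pow, ← map_pow, ha, map_one, mul_one, mul_inv_cancel]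
    rw [hcomm.mul_pow, ← map_pow π s, ha, map_one, mul_one] at h1
    exact h1
  have e3 : c ^ p ^ a ∈ pCore p G := by
    rw [← map_pow] at e2
    exact (QuotientGroup.eq_one_iff _).mp e2
  obtain ⟨b, hb⟩ := (pCore_isPGroup p (G := G)) ⟨c ^ p ^ a, e3⟩
  have e4 : c ^ p ^ (a + b) = 1 := by
    have := congrArg Subtype.val hb
    simp only [Subgroup.coe_pow, Subgroup.coe_one] at this
    rw [pow_add, pow_mul]; exact this
  have hcp : IsPGroup p ↥(Subgroup.zpowers c) := isPGroup_zpowers_of_pow_eq_one ⟨_, e4⟩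
  have hOD : IsPGroup p ↥(pCore p G ⊓ D) := (pCore_isPGroup p).to_le inf_le_left
  have hDn : D ≤ Subgroup.normalizer ((pCore p G ⊓ D : Subgroup G) : Set G) := by
    apply le_normalizer_inf _ Subgroup.le_normalizer
    rw [Subgroup.normalizer_eq_top_iff.mpr inferInstance]; exact le_top
  set P := Subgroup.zpowers c ⊔ (pCore p G ⊓ D) with hP
  have hPp : IsPGroup p ↥P :=
    IsPGroup.to_sup_of_normal_right' hcp hOD ((Subgroup.zpowers_le.mpr hc).trans hDn)
  have hPD : P ≤ D := sup_le (Subgroup.zpowers_le.mpr hc) inf_le_right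
  have hDP : D ≤ Subgroup.normalizer ((P : Subgroup G) : Set G) := by
    intro d hd
    apply mem_normalizer_of_map_conj_le
    rw [hP, Subgroup.map_sup]
    apply sup_le
    · rw [MonoidHom.map_zpowers, Subgroup.zpowers_le]
      have e : (MulAut.conj d).toMonoidHom c = ⁅d, c⁆ * c := by
        simp only [MulEquiv.coe_toMonoidHom, MulAut.conj_apply, commutatorElement_def]; group
      rw [e]
      refine Subgroup.mul_mem _ (le_sup_right (a := Subgroup.zpowers c) ?_)
        (le_sup_left (b := pCore p G ⊓ D) (Subgroup.mem_zpowers c))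
      exact ⟨hDD (Subgroup.commutator_mem_commutator hd hc),
        (Subgroup.commutator_le_self D) (Subgroup.commutator_mem_commutator hd hc)⟩
    · rw [map_conj_eq_self_of_mem_normalizer (hDn hd)]
      exact le_sup_right
  have h5 : P ≤ pCoreOf p D := Cfsg.Agent.S2859.le_pCoreOf' hPD hDP hPp
  exact hDO (h5 (le_sup_left (b := pCore p G ⊓ D) (Subgroup.mem_zpowers c)))

end Cfsg.Agent.Lib.Lead.PMin
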