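import Mathlib
import Cfsg.Prelude.Def_LocalStructure
import Cfsg.Agent.Lib.Lead.PMin5

set_option autoImplicit false

/-! Strong `p`-irreducibility in ambient form. -/

namespace Cfsg.Agent.Lib.Lead.PMin

open Cfsg Cfsg.Agent.Lib.Helper6 Cfsg.Agent.Lib.Helper7 Cfsg.Agent.Lib.Lead.MSS
open Cfsg.Agent.Lib.Lead.Subnormalizer
open scoped commutatorElement

variable {G : Type*} [Group G]

local notation "cj[" g "]" => Subgroup.map (MulEquiv.toMonoidHom (MulAut.conj g))

/-- ambient form of strong `p`-irreducibility -/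
structure SPIrrA (p : ℕ) (E : Subgroup G) : Prop where
  not_closed : ¬ IsPClosed p ↥E
  res_le : ∀ N : Subgroup G, N ≤ E → E ≤ Subgroup.normalizer (N : Set G) →
    ¬ ⁅N, E⁆ ≤ pCoreOf p E → pResSub p E ≤ N

theorem sPIrrA_of {p : ℕ} {E : Subgroup G} (h : IsStronglyPIrreducible p ↥E) : SPIrrA p E := by
  refine ⟨h.1, ?_⟩
  intro N hNE hEN hc
  haveI : (N.subgroupOf E).Normal := (Subgroup.normal_subgroupOf_iff_le_normalizer hNE).mpr hEN
  have h1 : ¬ ⁅N.subgroupOf E, (⊤ : Subgroup ↥E)⁆ ≤ pCore p ↥E := by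
    intro hle
    apply hc
    rw [← Subgroup.subgroupOf_self E, Cfsg.Agent.S2859.commutator_subgroupOf hNE le_rfl] at hle
    intro x hx
    have hxE : x ∈ E :=
      (Subgroup.commutator_mono hNE le_rfl).trans (Subgroup.commutator_le_self E) hx
    exact ⟨⟨x, hxE⟩, hle (Subgroup.mem_subgroupOf.mpr hx), rfl⟩
  have h2 := h.2 (N.subgroupOf E) inferInstance h1
  have h3 := Subgroup.map_mono (f := E.subtype) h2
  rwa [pResSub_eq, Subgroup.map_subgroupOf_eq_of_le hNE] at h3

variable {p : ℕ} [Finite G] [Fact p.Prime]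

theorem isPClosed_of_le_normalizer_sylow {E S : Subgroup G} (hS : IsSylowOf p E S)
    (h : E ≤ Subgroup.normalizer (S : Set G)) : IsPClosed p ↥E := by
  obtain ⟨P, hP⟩ := hS.exists_sylow
  apply isPClosed_of_normal_sylow P
  have e : (P : Subgroup ↥E) = S.subgroupOf E := by
    rw [← hP]
    exact (Subgroup.comap_map_eq_self_of_injective E.subtype_injective _).symm
  rw [e]
  exact (Subgroup.normal_subgroupOf_iff_le_normalizer hS.1).mpr h

theorem pResSub_sup_sylow {E S : Subgroup G} (hS : IsSylowOf p E S) : pResSub p E ⊔ S = E := by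
  obtain ⟨P, hP⟩ := hS.exists_sylow
  have h1 := congrArg (Subgroup.map E.subtype) (pResidual_sup_sylow P)
  rw [Subgroup.map_sup, pResSub_eq, hP, ← MonoidHom.range_eq_map, Subgroup.range_subtype] at h1
  exact h1

/-- a strongly `p`-irreducible group is generated by the conjugates of a Sylow subgroup -/
theorem SPIrrA.ncl_eq {E S : Subgroup G} (h : SPIrrA p E) (hS : IsSylowOf p E S) :
    ncl E S = E := by
  have hle : ncl E S ≤ E := ncl_le hS.1 Subgroup.le_normalizer
  apply le_antisymm hle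
  have h1 : pResSub p E ≤ ncl E S := by
    apply h.res_le _ hle (le_normalizer_ncl E S)
    intro hc
    apply h.not_closed
    apply isPClosed_of_le_normalizer_sylow hS
    rw [Subgroup.le_normalizer_iff_commutator_le_left]
    exact (Subgroup.commutator_mono (le_ncl E S) le_rfl).trans
      (hc.trans (pCoreOf_le_of_isSylowOf hS))
  exact le_trans (pResSub_sup_sylow hS).ge (sup_le h1 (le_ncl E S))

variable {𝒦 : Set (Subgroup G)}

/-- subgroups of `R̂` normalized by `R̂` have their `O_p` in `O_p(G)` -/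
theorem Fam.pCoreOf_le_of_normalized (h : Fam p 𝒦) {D : Subgroup G}
    (hD : D ≤ sSup 𝒦 ⊔ pCore p G)
    (hn : sSup 𝒦 ⊔ pCore p G ≤ Subgroup.normalizer (D : Set G)) :
    pCoreOf p D ≤ pCore p G := by
  haveI := h.normal_hat
  refine le_trans ?_ (pCoreOf_le_pCore p (sSup 𝒦 ⊔ pCore p G))
  exact Cfsg.Agent.S2859.le_pCoreOf' ((pCoreOf_le D).trans hD)
    (hn.trans (Cfsg.Agent.S2859.normalizer_le_normalizer_pCoreOf p D)) (pCoreOf_isPGroup p D)

theorem Fam.hat_le (_h : Fam p 𝒦) {E : Subgroup G} (hE : E ∈ 𝒦) :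
    E ⊔ pCore p G ≤ sSup 𝒦 ⊔ pCore p G := sup_le_sup_right (le_sSup hE) _

theorem Fam.pCoreOf_le (h : Fam p 𝒦) {E : Subgroup G} (hE : E ∈ 𝒦) :
    pCoreOf p E ≤ pCore p G := by
  have h1 : pCoreOf p E ⊔ pCore p G ≤ pCoreOf p (E ⊔ pCore p G) := by
    apply Cfsg.Agent.S2859.le_pCoreOf' (sup_le_sup_right (Cfsg.Agent.Lib.Helper6.pCoreOf_le E) _)
    · apply sup_le
      · apply le_normalizer_sup (le_normalizer_pCoreOf p E)
        rw [Subgroup.normalizer_eq_top_iff.mpr inferInstance]; exact le_top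
      · exact le_sup_right.trans Subgroup.le_normalizer
    · exact IsPGroup.to_sup_of_normal_right' (pCoreOf_isPGroup p E) (pCore_isPGroup p)
        (by rw [Subgroup.normalizer_eq_top_iff.mpr inferInstance]; exact le_top)
  exact le_sup_left.trans (h1.trans (h.pCoreOf_le_of_normalized (h.hat_le hE) (h.norm E hE)))

end Cfsg.Agent.Lib.Lead.PMin
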