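import Mathlib
import Cfsg.Prelude.Def_LocalStructure
import Cfsg.Agent.Lib.Lead.PMin6

set_option autoImplicit false

/-! The dichotomy for two members of a transitive family of strongly `p`-irreducible subgroups. -/

namespace Cfsg.Agent.Lib.Lead.PMin

open Cfsg Cfsg.Agent.Lib.Helper6 Cfsg.Agent.Lib.Helper7 Cfsg.Agent.Lib.Lead.MSS
open Cfsg.Agent.Lib.Lead.Subnormalizer
open scoped commutatorElement

variable {G : Type*} [Group G]

local notation "cj[" g "]" => Subgroup.map (MulEquiv.toMonoidHom (MulAut.conj g))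

/-- Dedekind's law with a normal subgroup -/
theorem sup_inf_of_normal {O E X : Subgroup G} [O.Normal] (hOX : O ≤ X) :
    (E ⊔ O) ⊓ X = (E ⊓ X) ⊔ O := by
  apply le_antisymm
  · rintro x ⟨hx, hxX⟩
    obtain ⟨e, he, o, ho, rfl⟩ := Subgroup.mem_sup_of_normal_right.mp hx
    have heX : e ∈ X := by
      have : e = e * o * o⁻¹ := by group
      rw [this]
      exact X.mul_mem hxX (X.inv_mem (hOX ho))
    exact Subgroup.mul_mem _ (le_sup_left (b := O) ⟨he, heX⟩) (le_sup_right (a := E ⊓ X) ho)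
  · exact sup_le (inf_le_inf_right _ le_sup_left) (le_inf le_sup_right hOX)

variable {p : ℕ} [Finite G] [Fact p.Prime]

/-- a subgroup generated by the conjugates of a Sylow subgroup lies in any subgroup containing
its `p`-elements -/
theorem le_of_pElements {E S C : Subgroup G} (hS : IsSylowOf p E S) (hncl : ncl E S = E)
    (h : ∀ g ∈ E, (∃ a : ℕ, g ^ p ^ a = 1) → g ∈ C) : E ≤ C := by
  have h1 : ncl E S ≤ C := by
    unfold ncl
    rw [Subgroup.closure_le]
    rintro _ ⟨e, he, s, hs, rfl⟩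
    apply h
    · exact E.mul_mem (E.mul_mem he (hS.1 hs)) (E.inv_mem he)
    · obtain ⟨a, ha⟩ := hS.2.1 ⟨s, hs⟩
      refine ⟨a, ?_⟩
      have : s ^ p ^ a = 1 := by
        have := congrArg Subtype.val ha
        simpa using this
      rw [conj_pow, this, mul_one, mul_inv_cancel]
  exact hncl.ge.trans h1

/-- `O^p(E O_p(G))` lies in a subgroup containing `O^p(E)` and `O_p(G)` and normalized by `E` -/
theorem pResSub_hat_le {E A : Subgroup G} (hOA : pCore p G ≤ A)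
    (hEA : E ≤ Subgroup.normalizer (A : Set G)) (hres : pResSub p E ≤ A) :
    pResSub p (E ⊔ pCore p G) ≤ A := by
  obtain ⟨S, hS⟩ := exists_isSylowOf p E
  apply Cfsg.Agent.S2859.pResSub_le_of_le_sup hS.2.1 (hS.1.trans hEA)
  apply sup_le _ (hOA.trans le_sup_left)
  exact le_trans (pResSub_sup_sylow hS).ge (sup_le_sup_right hres _)

variable {𝒦 : Set (Subgroup G)}

theorem Fam.card_pResSub_hat (h : Fam p 𝒦) {E K : Subgroup G} (hE : E ∈ 𝒦) (hK : K ∈ 𝒦) :
    Nat.card ↥(pResSub p (K ⊔ pCore p G)) = Nat.card ↥(pResSub p (E ⊔ pCore p G)) := by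
  obtain ⟨g, rfl⟩ := h.tr E hE K hK
  rw [← cj_hat, ← pResSub_map_conj, card_map_conj]

theorem Fam.pResSub_hat_eq (h : Fam p 𝒦) {E K : Subgroup G} (hE : E ∈ 𝒦) (hK : K ∈ 𝒦)
    (hle : pResSub p E ≤ K ⊔ pCore p G) :
    pResSub p (E ⊔ pCore p G) = pResSub p (K ⊔ pCore p G) := by
  have hEK : E ≤ Subgroup.normalizer ((K ⊔ pCore p G : Subgroup G) : Set G) :=
    (le_sSup hE).trans (le_sup_left.trans (h.norm K hK))
  have h1 : pResSub p (E ⊔ pCore p G) ≤ K ⊔ pCore p G := pResSub_hat_le le_sup_right hEK hle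
  have h2 : pResSub p (E ⊔ pCore p G) ≤ pResSub p (K ⊔ pCore p G) := by
    rw [← pResSub_pResSub]
    exact pResSub_mono p h1
  exact Subgroup.eq_of_le_of_card_ge h2 (h.card_pResSub_hat hE hK).le

/-- the commuting case -/
theorem Fam.commutator_le (h : Fam p 𝒦) {E K : Subgroup G} (hE : E ∈ 𝒦) (hK : K ∈ 𝒦)
    (hirr : SPIrrA p E)
    (c1 : ⁅E ⊓ (K ⊔ pCore p G), E⁆ ≤ pCoreOf p E) : ⁅E, K⁆ ≤ pCore p G := by
  set O := pCore p G with hO
  set D := (E ⊔ O) ⊓ (K ⊔ O) with hD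
  have hER : E ≤ sSup 𝒦 ⊔ O := (le_sSup hE).trans le_sup_left
  have hKR : K ≤ sSup 𝒦 ⊔ O := (le_sSup hK).trans le_sup_left
  have hD1 : D ≤ cz O E := by
    rw [hD, sup_inf_of_normal le_sup_right]
    exact sup_le (le_cz_iff.mpr (c1.trans (h.pCoreOf_le hE))) (self_le_cz E)
  have hDD : ⁅D, D⁆ ≤ O := by
    rw [← le_cz_iff]
    have h1 : E ⊔ O ≤ cz O D := sup_le (le_cz_comm.mp hD1) (self_le_cz D)
    exact inf_le_left.trans h1
  have hDO : pCoreOf p D ≤ O :=
    h.pCoreOf_le_of_normalized (inf_le_left.trans (h.hat_le hE))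
      (le_normalizer_inf (h.norm E hE) (h.norm K hK))
  obtain ⟨S, hS⟩ := exists_isSylowOf p E
  rw [← le_cz_iff]
  apply le_of_pElements hS (hirr.ncl_eq hS)
  intro g hg hgp x hx
  have hgE : g ∈ E ⊔ O := le_sup_left (b := O) hg
  have hxK : x ∈ K ⊔ O := le_sup_left (b := O) hx
  have hxN : x ∈ Subgroup.normalizer ((E ⊔ O : Subgroup G) : Set G) := h.norm E hE (hKR hx)
  have hgN : g ∈ Subgroup.normalizer ((K ⊔ O : Subgroup G) : Set G) := h.norm K hK (hER hg)
  have hc : ⁅x, g⁆ ∈ D := by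
    constructor
    · rw [commutatorElement_def]
      exact Subgroup.mul_mem _ ((Subgroup.mem_normalizer_iff.mp hxN g).mp hgE)
        (Subgroup.inv_mem _ hgE)
    · have e : ⁅x, g⁆ = x * (g * x⁻¹ * g⁻¹) := by
        rw [commutatorElement_def]; group
      rw [e]
      exact Subgroup.mul_mem _ hxK
        ((Subgroup.mem_normalizer_iff.mp hgN x⁻¹).mp (Subgroup.inv_mem _ hxK))
  have hcs : ⁅⁅x, g⁆, g⁆ ∈ O := hD1 hc g hg
  have h5 := comm_mem_pCore hDD hDO hgp hc hcs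
  rw [← commutatorElement_inv]
  exact O.inv_mem h5

theorem Fam.dichotomy (h : Fam p 𝒦) (hirr : ∀ E ∈ 𝒦, SPIrrA p E) {E K : Subgroup G}
    (hE : E ∈ 𝒦) (hK : K ∈ 𝒦) :
    pResSub p (E ⊔ pCore p G) = pResSub p (K ⊔ pCore p G) ∨ ⁅E, K⁆ ≤ pCore p G := by
  by_cases c1 : ⁅E ⊓ (K ⊔ pCore p G), E⁆ ≤ pCoreOf p E
  · exact Or.inr (h.commutator_le hE hK (hirr E hE) c1)
  · left
    apply h.pResSub_hat_eq hE hK
    have hEK : E ≤ Subgroup.normalizer ((K ⊔ pCore p G : Subgroup G) : Set G) :=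
      (le_sSup hE).trans (le_sup_left.trans (h.norm K hK))
    exact ((hirr E hE).res_le _ inf_le_left
      (le_normalizer_inf Subgroup.le_normalizer hEK) c1).trans inf_le_right

end Cfsg.Agent.Lib.Lead.PMin
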