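import Mathlib
import Cfsg.Prelude.Def_LocalStructure
import Cfsg.Agent.Lib.Lead.PMin7

set_option autoImplicit false

/-! `p`-irreducibility from a transitive family of strongly `p`-irreducible subgroups. -/

namespace Cfsg.Agent.Lib.Lead.PMin

open Cfsg Cfsg.Agent.Lib.Helper6 Cfsg.Agent.Lib.Helper7 Cfsg.Agent.Lib.Lead.MSS
open Cfsg.Agent.Lib.Lead.Subnormalizer
open scoped commutatorElement

variable {G : Type*} [Group G]

local notation "cj[" g "]" => Subgroup.map (MulEquiv.toMonoidHom (MulAut.conj g))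

variable {p : ℕ} [Finite G] [Fact p.Prime] {𝒦 : Set (Subgroup G)}

theorem le_normalizer_of_normal (X N : Subgroup G) [hN : N.Normal] :
    X ≤ Subgroup.normalizer (N : Set G) := by
  rw [Subgroup.normalizer_eq_top_iff.mpr hN]; exact le_top

theorem Fam.not_isPClosed (h : Fam p 𝒦) (hirr : ∀ E ∈ 𝒦, SPIrrA p E) : ¬ IsPClosed p G := by
  intro hcl
  obtain ⟨E, hE⟩ := h.ne
  apply (hirr E hE).not_closed
  obtain ⟨S, hS⟩ := exists_isSylowOf p E
  have hSO : S ≤ pCore p G := isPClosed_le_pCore_of_isPGroup hcl hS.2.1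
  have e : pCore p G ⊓ E = S :=
    hS.2.2 _ ((pCore_isPGroup p).to_le inf_le_left) inf_le_right (le_inf hSO hS.1)
  apply isPClosed_of_le_normalizer_sylow hS
  rw [← e]
  exact le_normalizer_inf (le_normalizer_of_normal E _) Subgroup.le_normalizer

/-- the first case: some (hence every) `O^p(E)` lies in `N O_p(G)` -/
theorem Fam.pResidual_le_of_exists (h : Fam p 𝒦) (N : Subgroup G) [N.Normal]
    {E₁ : Subgroup G} (hE₁ : E₁ ∈ 𝒦) (hle : pResSub p E₁ ≤ N ⊔ pCore p G) :
    pResidual p G ≤ N := by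
  set N₁ := N ⊔ pCore p G with hN₁
  haveI hN₁n : N₁.Normal := by rw [hN₁]; infer_instance
  apply pResidual_le_of_le_sup N (pCore_isPGroup p)
  have hall : ∀ E ∈ 𝒦, pResSub p E ≤ N₁ := by
    intro E hE
    obtain ⟨g, rfl⟩ := h.tr E₁ hE₁ E hE
    rw [← pResSub_map_conj]
    have := Subgroup.map_mono (f := (MulAut.conj g).toMonoidHom) hle
    rwa [map_conj_eq_self_of_mem_normalizer (le_normalizer_of_normal ⊤ N₁ (Subgroup.mem_top g))]
      at this
  let π := QuotientGroup.mk' N₁
  have hker : ∀ {A : Subgroup G}, A ≤ N₁ → A.map π = ⊥ := by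
    intro A hA
    rw [eq_bot_iff]
    rintro _ ⟨a, ha, rfl⟩
    exact (QuotientGroup.eq_one_iff a).mpr (hA ha)
  have hEp : ∀ E ∈ 𝒦, IsPGroup p ↥(E.map π) := by
    intro E hE
    obtain ⟨S, hS⟩ := exists_isSylowOf p E
    have e : E.map π = S.map π := by
      conv_lhs => rw [← pResSub_sup_sylow hS]
      rw [Subgroup.map_sup, hker (hall E hE), bot_sup_eq]
    rw [e]
    exact hS.2.1.map π
  have hR : IsPGroup p ↥((sSup 𝒦).map π) := by
    have h1 : (sSup 𝒦).map π ≤ pCoreOf p ((sSup 𝒦).map π) := by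
      rw [Subgroup.map_le_iff_le_comap]
      apply sSup_le
      intro E hE
      rw [← Subgroup.map_le_iff_le_comap]
      apply Cfsg.Agent.S2859.le_pCoreOf' (Subgroup.map_mono (le_sSup hE)) _ (hEp E hE)
      have e : E.map π = (E ⊔ pCore p G).map π := by
        rw [Subgroup.map_sup, hker (le_sup_right : pCore p G ≤ N₁), sup_bot_eq]
      rw [e]
      exact (Subgroup.map_mono (le_sup_left.trans (h.norm E hE))).trans
        (Subgroup.le_normalizer_map π)
    exact (pCoreOf_isPGroup p _).to_le h1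
  apply pResidual_le_of_forall
  intro g hg
  exact mem_of_coprime_of_isPGroup_map (sSup 𝒦) N₁ hR (h.res (mem_pResidual_of_coprime' hg)) hg

/-- the second case: no `O^p(E)` lies in `N O_p(G)`; then `N` is `p`-closed -/
theorem Fam.isPClosed_of_forall (h : Fam p 𝒦) (hirr : ∀ E ∈ 𝒦, SPIrrA p E) (N : Subgroup G)
    [hN : N.Normal] (hno : ∀ E ∈ 𝒦, ¬ pResSub p E ≤ N ⊔ pCore p G) : IsPClosed p ↥N := by
  set O := pCore p G with hO
  set N₁ := N ⊔ O with hN₁
  haveI hN₁n : N₁.Normal := by rw [hN₁]; infer_instance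
  haveI hRn := h.normal_hat
  set R' := sSup 𝒦 ⊔ O with hR'
  have hOp : IsPGroup p ↥O := pCore_isPGroup p
  -- the sections `N₁ ∩ E` are central in `E` modulo `O`
  have hall : ∀ E ∈ 𝒦, ⁅N₁ ⊓ E, E⁆ ≤ pCoreOf p E := by
    intro E hE
    by_contra hc
    apply hno E hE
    exact ((hirr E hE).res_le _ inf_le_right
      (le_normalizer_inf (le_normalizer_of_normal E N₁) Subgroup.le_normalizer) hc).trans
      inf_le_left
  -- first round
  have claim1 : ∀ E ∈ 𝒦, E ≤ cz O (N₁ ⊓ R') := by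
    intro E hE
    set D := (E ⊔ O) ⊓ N₁ with hD
    have hD1 : D ≤ cz O E := by
      rw [hD, sup_inf_of_normal le_sup_right]
      refine sup_le (le_cz_iff.mpr ?_) (self_le_cz E)
      rw [inf_comm]
      exact (hall E hE).trans (h.pCoreOf_le hE)
    have hDD : ⁅D, D⁆ ≤ O := by
      rw [← le_cz_iff]
      have h1 : E ⊔ O ≤ cz O D := sup_le (le_cz_comm.mp hD1) (self_le_cz D)
      exact inf_le_left.trans h1
    have hDO : pCoreOf p D ≤ O :=
      h.pCoreOf_le_of_normalized (inf_le_left.trans (h.hat_le hE))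
        (le_normalizer_inf (h.norm E hE) (le_normalizer_of_normal _ N₁))
    obtain ⟨S, hS⟩ := exists_isSylowOf p E
    apply le_of_pElements hS ((hirr E hE).ncl_eq hS)
    intro g hg hgp x hx
    have hgE : g ∈ E ⊔ O := le_sup_left (b := O) hg
    have hxN : x ∈ Subgroup.normalizer ((E ⊔ O : Subgroup G) : Set G) := h.norm E hE hx.2
    have hc : ⁅x, g⁆ ∈ D := by
      constructor
      · rw [commutatorElement_def]
        exact Subgroup.mul_mem _ ((Subgroup.mem_normalizer_iff.mp hxN g).mp hgE)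
          (Subgroup.inv_mem _ hgE)
      · have e : ⁅x, g⁆ = x * (g * x⁻¹ * g⁻¹) := by
          rw [commutatorElement_def]; group
        rw [e]
        exact N₁.mul_mem hx.1 (hN₁n.conj_mem _ (N₁.inv_mem hx.1) g)
    have hcs : ⁅⁅x, g⁆, g⁆ ∈ O := hD1 hc g hg
    have h5 := comm_mem_pCore hDD hDO hgp hc hcs
    rw [← commutatorElement_inv]
    exact O.inv_mem h5
  have claim2 : R' ≤ cz O (N₁ ⊓ R') := sup_le (sSup_le claim1) (self_le_cz _)
  -- second round
  have claim3 : ∀ E ∈ 𝒦, E ≤ cz O N := by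
    intro E hE
    set D := N ⊓ R' with hD
    haveI hDn : D.Normal := by rw [hD]; infer_instance
    have hDle : D ≤ N₁ ⊓ R' := inf_le_inf_right _ le_sup_left
    have hDD : ⁅D, D⁆ ≤ O := by
      rw [← le_cz_iff]
      exact (inf_le_right.trans claim2).trans (cz_anti hDle)
    have hDO : pCoreOf p D ≤ O := pCoreOf_le_pCore p D
    obtain ⟨S, hS⟩ := exists_isSylowOf p E
    apply le_of_pElements hS ((hirr E hE).ncl_eq hS)
    intro g hg hgp x hx
    have hgR : g ∈ R' := (le_sSup hE).trans le_sup_left hg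
    have hc : ⁅x, g⁆ ∈ D := by
      constructor
      · have e : ⁅x, g⁆ = x * (g * x⁻¹ * g⁻¹) := by
          rw [commutatorElement_def]; group
        rw [e]
        exact N.mul_mem hx (hN.conj_mem _ (N.inv_mem hx) g)
      · rw [commutatorElement_def]
        exact R'.mul_mem (hRn.conj_mem _ hgR x) (R'.inv_mem hgR)
    have hcs : ⁅⁅x, g⁆, g⁆ ∈ O := by
      rw [← commutatorElement_inv]
      exact O.inv_mem (claim1 E hE hg _ (hDle hc))
    have h5 := comm_mem_pCore hDD hDO hgp hc hcs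
    rw [← commutatorElement_inv]
    exact O.inv_mem h5
  have claim4 : sSup 𝒦 ≤ cz O N := sSup_le claim3
  -- `N` normalizes its Sylow subgroup `T ∩ N`
  obtain ⟨T⟩ : Nonempty (Sylow p G) := inferInstance
  have hS : IsSylowOf p N ((T : Subgroup G) ⊓ N) :=
    (isSylowOf_top T).inf_of_normal le_top (le_normalizer_of_normal ⊤ N)
  apply isPClosed_of_le_normalizer_sylow hS
  intro n _
  haveI := h.normal_sSup
  have hn : n ∈ (T : Subgroup G) ⊔ sSup 𝒦 := by
    rw [sup_comm, h.sup_sylow T]; trivial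
  obtain ⟨t, ht, r, hr, rfl⟩ := Subgroup.mem_sup_of_normal_right.mp hn
  apply mem_normalizer_of_map_conj_le
  rw [← map_conj_map_conj]
  have h1 : cj[r] ((T : Subgroup G) ⊓ N) ≤ (T : Subgroup G) ⊓ N := by
    rintro _ ⟨y, hy, rfl⟩
    have e : (MulAut.conj r).toMonoidHom y = ⁅r, y⁆ * y := by
      simp only [MulEquiv.coe_toMonoidHom, MulAut.conj_apply, commutatorElement_def]; group
    rw [e]
    refine Subgroup.mul_mem _ ?_ hy
    refine ⟨pCore_le_sylow T (claim4 hr y hy.2), ?_⟩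
    rw [commutatorElement_def]
    exact N.mul_mem (hN.conj_mem _ hy.2 r) (N.inv_mem hy.2)
  refine (Subgroup.map_mono h1).trans (le_of_eq ?_)
  apply map_conj_eq_self_of_mem_normalizer
  exact le_normalizer_inf (Subgroup.le_normalizer (H := (T : Subgroup G)))
    (le_normalizer_of_normal _ N) ht

theorem Fam.isPIrreducible (h : Fam p 𝒦) (hirr : ∀ E ∈ 𝒦, SPIrrA p E) : IsPIrreducible p G := by
  refine ⟨h.not_isPClosed hirr, ?_⟩
  intro N hN hNc
  by_cases hex : ∃ E ∈ 𝒦, pResSub p E ≤ N ⊔ pCore p G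
  · obtain ⟨E, hE, hle⟩ := hex
    exact h.pResidual_le_of_exists N hE hle
  · push Not at hex
    exact absurd (h.isPClosed_of_forall hirr N hex) hNc

end Cfsg.Agent.Lib.Lead.PMin
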