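import Mathlib
import Cfsg.Agent.Lib.Helper8.WardB

/-!
# S4306, tools: the module form of (L-frob) and a numerical lemma on Fermat primes
-/

set_option autoImplicit false
set_option linter.unusedSectionVars false
set_option linter.unusedVariables false

namespace Cfsg.Agent.Lib.Lead.PQTools

open Cfsg.Agent.Lib.Helper8.SBS Cfsg.Agent.Lib.Helper8.Ward

universe u w

section tools

variable {N : Type u} [AddCommGroup N] [Finite N] {L : Type w} [Group L] [Finite L]
  [DistribMulAction L N]

/-- **(L-frob)**, module form: a Frobenius-type group `K⟨a⟩` on `N`, `C_N(K) = 0 = C_N(a)` forces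
`N = 0`. -/
theorem lfrob {p : ℕ} (hp : 0 < p) (K : Subgroup L) (a : L) (ha : a ^ p = 1)
    (haK : ∀ k ∈ K, a * k * a⁻¹ ∈ K)
    (hfix : ∀ j, 0 < j → j < p → ∀ k ∈ K, a ^ j * k = k * a ^ j → k = 1)
    (hcop : (Nat.card N).Coprime (Nat.card K))
    (hCK : ∀ n : N, (∀ k ∈ K, k • n = n) → n = 0) (hCa : ∀ n : N, a • n = n → n = 0) :
    ∀ n : N, n = 0 := by
  intro n
  have h1 : ∀ k ∈ K, mu p a (k • n) = 0 := by
    intro k _
    exact hCa _ (smul_mu_self ha _)
  have h2 : ∀ j, 0 < j → j < p → nu K (a ^ j • n) = 0 := by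
    intro j _ _
    exact hCK _ (fun k hk => smul_nu_of_mem hk _)
  have h3 := frob_trace K a haK hfix n h1 h2 hp
  exact eq_zero_of_nsmul_eq_zero hcop h3

end tools

section numeric

/-- a Fermat prime `p = 2^n + 1` divides `2^c - 1`, `1 ≤ c ≤ 2n`, only for `c = 2n`. -/
theorem fermat_dvd {p n c : ℕ} (hp : p = 2 ^ n + 1) (hc1 : 1 ≤ c) (hc2 : c ≤ 2 * n)
    (hdvd : p ∣ 2 ^ c - 1) : c = 2 * n := by
  by_contra hne
  have hclt : c < 2 * n := lt_of_le_of_ne hc2 hne
  have hpos : 0 < 2 ^ c - 1 := by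
    have : 2 ≤ 2 ^ c := by
      calc 2 = 2 ^ 1 := (pow_one 2).symm
        _ ≤ 2 ^ c := Nat.pow_le_pow_right (by norm_num) hc1
    omega
  rcases Nat.lt_or_ge n c with hnc | hcn
  · -- `n < c < 2n`
    obtain ⟨d, rfl⟩ : ∃ d, c = n + d := ⟨c - n, by omega⟩
    have hd1 : 1 ≤ d := by omega
    have hdn : d < n := by omega
    -- `2^(n+d) - 1 + (2^d + 1) = 2^d * (2^n + 1)`
    have hsum : 2 ^ (n + d) - 1 + (2 ^ d + 1) = 2 ^ d * p := by
      rw [hp, pow_add]
      have : 1 ≤ 2 ^ n * 2 ^ d := Nat.one_le_iff_ne_zero.2 (by positivity)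
      have h2 : 2 ^ d * (2 ^ n + 1) = 2 ^ n * 2 ^ d + 2 ^ d := by ring
      omega
    have h1 : p ∣ 2 ^ d + 1 := by
      have h2 : p ∣ 2 ^ (n + d) - 1 + (2 ^ d + 1) := by rw [hsum]; exact dvd_mul_left _ _
      exact (Nat.dvd_add_right hdvd).1 h2
    have h3 : 2 ^ d + 1 < p := by
      rw [hp]
      have : 2 ^ d < 2 ^ n := Nat.pow_lt_pow_right (by norm_num) hdn
      omega
    have h4 : 0 < 2 ^ d + 1 := by positivity
    exact absurd (Nat.le_of_dvd h4 h1) (not_le.2 h3)
  · -- `c ≤ n`
    have h3 : 2 ^ c - 1 < p := by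
      rw [hp]
      have : 2 ^ c ≤ 2 ^ n := Nat.pow_le_pow_right (by norm_num) hcn
      omega
    exact absurd (Nat.le_of_dvd hpos hdvd) (not_le.2 h3)

end numeric

section count

variable {N : Type u} [AddCommGroup N] [Finite N] {L : Type w} [Group L]
  [DistribMulAction L N]

/-- the fixed points of `h`. -/
def fixAdd (h : L) : AddSubgroup N where
  carrier := {v | h • v = v}
  zero_mem' := smul_zero h
  add_mem' := by
    intro a b ha hb
    show h • (a + b) = a + b
    rw [smul_add, ha, hb]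
  neg_mem' := by
    intro a ha
    show h • (-a) = -a
    rw [smul_neg, ha]

theorem mem_fixAdd {h : L} {v : N} : v ∈ fixAdd (N := N) h ↔ h • v = v := Iff.rfl

/-- **orbit counting for a Fermat prime**: an element `h` of order dividing the Fermat prime
`p = 2^n + 1` acting on a group `N` of order `2^(2n)` with a non-zero fixed point acts trivially. -/
theorem smul_eq_of_fermat {p n : ℕ} (hp : p.Prime) (hpn : p = 2 ^ n + 1) (h : L) (hh : h ^ p = 1)
    (hN : Nat.card N = 2 ^ (2 * n)) (hfix : ∃ v : N, v ≠ 0 ∧ h • v = v) :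
    ∀ v : N, h • v = v := by
  classical
  have : Fact p.Prime := ⟨hp⟩
  have : Fintype N := Fintype.ofFinite N
  -- the cyclic group generated by `h` is a `p`-group
  have hPG : IsPGroup p (Subgroup.zpowers h) := by
    intro g
    refine ⟨1, ?_⟩
    obtain ⟨k, hk⟩ := g.2
    apply Subtype.ext
    rw [pow_one, Subgroup.coe_pow, Subgroup.coe_one, ← hk, ← zpow_natCast, ← zpow_mul, mul_comm,
      zpow_mul, zpow_natCast, hh, one_zpow]
  have : Fintype (MulAction.fixedPoints (Subgroup.zpowers h) N) := Fintype.ofFinite _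
  have hmod := hPG.card_modEq_card_fixedPoints (α := N)
  -- the fixed points of `⟨h⟩` are those of `h`
  have hcardfix : Nat.card (MulAction.fixedPoints (Subgroup.zpowers h) N) =
      Nat.card (fixAdd (N := N) h) := by
    apply Nat.card_congr
    refine ⟨fun v => ⟨v.1, v.2 ⟨h, Subgroup.mem_zpowers h⟩⟩, fun v => ⟨v.1, ?_⟩, ?_, ?_⟩
    · rintro ⟨g, k, rfl⟩
      show (h ^ k) • (v : N) = v
      have hv : h • (v : N) = v := v.2
      have hinv : h⁻¹ • (v : N) = v := by
        conv_lhs => rw [← hv]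
        rw [inv_smul_smul]
      have key : ∀ j : ℕ, h ^ j • (v : N) = v := by
        intro j
        induction j with
        | zero => simp
        | succ j ih => rw [pow_succ, mul_smul, hv, ih]
      have key' : ∀ j : ℕ, (h⁻¹) ^ j • (v : N) = v := by
        intro j
        induction j with
        | zero => simp
        | succ j ih => rw [pow_succ, mul_smul, hinv, ih]
      rcases Int.eq_nat_or_neg k with ⟨j, rfl | rfl⟩
      · rw [zpow_natCast]; exact key j
      · rw [zpow_neg, zpow_natCast, ← inv_pow]; exact key' j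
    · intro v; rfl
    · intro v; rfl
  -- the order of the fixed-point group is `2^c`
  have hdvd : Nat.card (fixAdd (N := N) h) ∣ 2 ^ (2 * n) := by
    rw [← hN]
    exact AddSubgroup.card_addSubgroup_dvd_card _
  obtain ⟨c, hc2, hc⟩ := (Nat.dvd_prime_pow Nat.prime_two).1 hdvd
  -- `c ≥ 1`
  have hc1 : 1 ≤ c := by
    by_contra h0
    have hc0 : c = 0 := by omega
    rw [hc0, pow_zero, Nat.card_eq_one_iff_unique] at hc
    obtain ⟨v, hv0, hv⟩ := hfix
    have : (⟨v, hv⟩ : fixAdd (N := N) h) = 0 := hc.1.elim _ _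
    exact hv0 (congrArg Subtype.val this)
  -- `p ∣ 2^c - 1`
  have hpd : p ∣ 2 ^ c - 1 := by
    rw [hcardfix, hc, Nat.card_eq_fintype_card.symm.symm] at hmod
    have h1 : Nat.card N = 2 ^ (2 * n) := hN
    have h2 : (2 ^ (2 * n)) % p = 1 % p := by
      have : 2 ^ (2 * n) = (2 ^ n - 1) * p + 1 := by
        rw [hpn, mul_comm 2 n, pow_mul]
        have h3 : 1 ≤ 2 ^ n := Nat.one_le_iff_ne_zero.2 (by positivity)
        obtain ⟨m, hm⟩ : ∃ m, 2 ^ n = m + 1 := ⟨2 ^ n - 1, by omega⟩
        rw [hm]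
        simp only [Nat.add_sub_cancel]
        ring
      rw [this, Nat.add_mod, Nat.mul_mod_left, zero_add, Nat.mod_mod]
    have h3 : (2 ^ c) % p = 1 % p := by
      have : Nat.card N % p = 2 ^ c % p := by
        have := hmod
        rw [← Nat.card_eq_fintype_card] at this
        exact this
      rw [← this, h1, h2]
    have h4 : 1 ≤ 2 ^ c := Nat.one_le_iff_ne_zero.2 (by positivity)
    exact (Nat.modEq_iff_dvd' h4).1 h3.symm
  have hc' := fermat_dvd hpn hc1 hc2 hpd
  -- so the fixed-point group is everything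
  have htop : fixAdd (N := N) h = ⊤ := by
    apply AddSubgroup.eq_top_of_card_eq
    rw [hc, hc', hN]
  intro v
  have : v ∈ fixAdd (N := N) h := by rw [htop]; exact AddSubgroup.mem_top v
  exact this

end count

end Cfsg.Agent.Lib.Lead.PQTools
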