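import Cfsg.Agent.Lib.Lead.PSingDefs
import Cfsg.Agent.Lib.Helper9.PSingAux
import Cfsg.Agent.Lib.Helper5.PSingQ6a

/-!
# S4321, package Q6b: Lemma B

Two `p`-elements with coprime class sizes, both prime to `p`, give an edge between the primes
of the two class sizes.
-/

set_option autoImplicit false

namespace Cfsg.Agent.Lib.Lead.PSing

open Cfsg.Agent.Lib.Helper9.PSing

universe u
variable {G : Type u} [Group G] [Finite G] {p : ℕ} [Fact p.Prime]

omit [Finite G] [Fact p.Prime] in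
theorem q6b_mem_iff (g x : G) :
    g ∈ Subgroup.centralizer ({x} : Set G) ↔ Commute g x := by
  rw [Subgroup.mem_centralizer_singleton_iff]
  exact ⟨fun h => h, fun h => h⟩

omit [Finite G] [Fact p.Prime] in
theorem q6b_cs_inv (x : G) : cs x⁻¹ = cs x := by
  unfold cs
  congr 1
  ext y
  rw [q6b_mem_iff, q6b_mem_iff, Commute.inv_right_iff]

theorem q6b_le (x y : G) (hcop : Nat.Coprime (cs x) (cs y)) :
    cs y ≤ cs (x * y) := by
  -- `C(x) ∩ C(x*y) ≤ C(x) ∩ C(y)` so `a * b ≤ a * d`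
  have h1 : Subgroup.centralizer ({x} : Set G) ⊓ Subgroup.centralizer ({x * y} : Set G) ≤
      Subgroup.centralizer ({x} : Set G) ⊓ Subgroup.centralizer ({y} : Set G) := by
    intro g hg
    rw [Subgroup.mem_inf, q6b_mem_iff, q6b_mem_iff] at hg
    rw [Subgroup.mem_inf, q6b_mem_iff, q6b_mem_iff]
    refine ⟨hg.1, ?_⟩
    have := (hg.1.inv_right).mul_right hg.2
    simpa using this
  have h4 : (Subgroup.centralizer ({x} : Set G) ⊓ Subgroup.centralizer ({y} : Set G)).index ∣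
      (Subgroup.centralizer ({x} : Set G) ⊓ Subgroup.centralizer ({x * y} : Set G)).index :=
    Subgroup.index_dvd_of_le h1
  rw [index_inf_of_coprime _ _ hcop] at h4
  have h5 : (Subgroup.centralizer ({x} : Set G) ⊓ Subgroup.centralizer ({x * y} : Set G)).index ≤
      cs x * cs (x * y) := Subgroup.index_inf_le
  have h6 : cs x * cs y ≤ cs x * cs (x * y) :=
    le_trans (Nat.le_of_dvd (Nat.pos_of_ne_zero Subgroup.index_ne_zero_of_finite) h4) h5
  exact Nat.le_of_mul_le_mul_left h6 (Nat.pos_of_ne_zero Subgroup.index_ne_zero_of_finite)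

theorem q6b_dvd (x y : G) (hcop : Nat.Coprime (cs x) (cs y)) :
    cs (x * y) ∣ cs x * cs y := by
  have h1 : Subgroup.centralizer ({x} : Set G) ⊓ Subgroup.centralizer ({y} : Set G) ≤
      Subgroup.centralizer ({x * y} : Set G) := by
    intro g hg
    rw [Subgroup.mem_inf, q6b_mem_iff, q6b_mem_iff] at hg
    rw [q6b_mem_iff]
    exact hg.1.mul_right hg.2
  have := Subgroup.index_dvd_of_le h1
  rwa [index_inf_of_coprime _ _ hcop] at this

/-- Q6b (Lemma B). -/
theorem lemmaB (u v : G) (hu : IsPEl p u) (hv : IsPEl p v)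
    (hcop : Nat.Coprime (cs u) (cs v)) (hup : ¬ p ∣ cs u) (hvp : ¬ p ∣ cs v)
    (ha : 1 < cs u) (hb : 1 < cs v) :
    ∃ (z : G) (q t : ℕ), p ∣ orderOf z ∧ q.Prime ∧ t.Prime ∧ q ∣ cs u ∧ t ∣ cs v ∧
      q * t ∣ cs z := by
  have hpp : p.Prime := Fact.out
  -- conjugate `v` to commute with `u`
  obtain ⟨g, hg⟩ := exists_conj_mem_of_not_dvd_index (Subgroup.centralizer ({v} : Set G)) hvp u hu
  rw [q6b_mem_iff] at hg
  obtain ⟨v', hv'def⟩ : ∃ v' : G, v' = g⁻¹ * v * g⁻¹⁻¹ := ⟨_, rfl⟩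
  have hcs' : cs v' = cs v := by rw [hv'def]; exact cs_conj g⁻¹ v
  have hv'p : IsPEl p v' := by rw [hv'def]; exact isPEl_conj g⁻¹ v hv
  have hcomm : Commute u v' := by
    show u * v' = v' * u
    rw [hv'def]
    have h1 : (g * u * g⁻¹) * v = v * (g * u * g⁻¹) := hg
    calc u * (g⁻¹ * v * g⁻¹⁻¹) = g⁻¹ * ((g * u * g⁻¹) * v) * g := by group
      _ = g⁻¹ * (v * (g * u * g⁻¹)) * g := by rw [h1]
      _ = g⁻¹ * v * g⁻¹⁻¹ * u := by group
  rw [← hcs'] at hcop hvp hb
  -- z = u * v'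
  have hz1 : u * v' ≠ 1 := by
    intro h
    have : u = v'⁻¹ := eq_inv_of_mul_eq_one_left h
    have h2 : cs u = cs v' := by rw [this, q6b_cs_inv]
    rw [h2] at hcop
    have := (Nat.coprime_self _).mp hcop
    omega
  have hzp : p ∣ orderOf (u * v') := by
    obtain ⟨k1, hk1⟩ := hu
    obtain ⟨k2, hk2⟩ := hv'p
    have hpow : (u * v') ^ (p ^ (k1 + k2)) = 1 := by
      rw [hcomm.mul_pow, pow_add, pow_mul, ← hk1, pow_orderOf_eq_one, one_pow, mul_comm (orderOf u),
        pow_mul, ← hk2, pow_orderOf_eq_one, one_pow, one_mul]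
    obtain ⟨j, -, hj⟩ := (Nat.dvd_prime_pow hpp).mp (orderOf_dvd_of_pow_eq_one hpow)
    rw [hj]
    rcases j with _ | j
    · exfalso
      rw [pow_zero, orderOf_eq_one_iff] at hj
      exact hz1 hj
    · exact dvd_pow_self p (Nat.succ_ne_zero j)
  have hd : cs (u * v') ∣ cs u * cs v' := q6b_dvd u v' hcop
  have hle_b : cs v' ≤ cs (u * v') := q6b_le u v' hcop
  have hle_a : cs u ≤ cs (u * v') := by
    have := q6b_le v' u hcop.symm
    rwa [← hcomm.eq] at this
  -- a prime of `cs u` divides `cs z`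
  have hq : ∃ q : ℕ, q.Prime ∧ q ∣ cs u ∧ q ∣ cs (u * v') := by
    by_contra hcon
    have hc : Nat.Coprime (cs (u * v')) (cs u) :=
      Nat.coprime_of_dvd (fun q hq h1 h2 => hcon ⟨q, hq, h2, h1⟩)
    have h1 : cs (u * v') ∣ cs v' := hc.dvd_of_dvd_mul_left hd
    have h2 : cs (u * v') = cs v' :=
      le_antisymm (Nat.le_of_dvd (by omega) h1) hle_b
    have := Cfsg.Agent.Lib.Helper5.PSing.central_of_cs_mul_eq u v' hu hcomm hcop hvp h2
    omega
  have ht : ∃ t : ℕ, t.Prime ∧ t ∣ cs v' ∧ t ∣ cs (u * v') := by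
    by_contra hcon
    have hc : Nat.Coprime (cs (u * v')) (cs v') :=
      Nat.coprime_of_dvd (fun q hq h1 h2 => hcon ⟨q, hq, h2, h1⟩)
    have h1 : cs (u * v') ∣ cs u := hc.dvd_of_dvd_mul_right hd
    have h2 : cs (u * v') = cs u :=
      le_antisymm (Nat.le_of_dvd (by omega) h1) hle_a
    have h3 : cs (v' * u) = cs u := by rw [← hcomm.eq]; exact h2
    have := Cfsg.Agent.Lib.Helper5.PSing.central_of_cs_mul_eq v' u hv'p hcomm.symm hcop.symm hup h3
    omega
  obtain ⟨q, hq, hqa, hqd⟩ := hq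
  obtain ⟨t, ht, htb, htd⟩ := ht
  have hqt : q ≠ t := by
    rintro rfl
    have := Nat.eq_one_of_dvd_coprimes hcop hqa htb
    exact hq.one_lt.ne' this
  refine ⟨u * v', q, t, hzp, hq, ht, hqa, hcs' ▸ htb, ?_⟩
  exact Nat.Coprime.mul_dvd_of_dvd_of_dvd ((Nat.coprime_primes hq ht).mpr hqt) hqd htd

end Cfsg.Agent.Lib.Lead.PSing
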