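import Cfsg.Agent.Lib.Lead.PSingDefs

/-!
# S4321: top-level assembly (graph combinatorics) from the packages
-/

set_option autoImplicit false
namespace Cfsg.Agent.Lib.Lead.PSing
universe u
variable {G : Type u} [Group G] [Finite G] {p : ℕ} [Fact p.Prime]

/-- vertex predicate of the frozen statement -/
def Vx (G : Type u) [Group G] (p t : ℕ) : Prop :=
  t.Prime ∧ ∃ x : G, p ∣ orderOf x ∧ t ∣ cs x

/-- edge predicate of the frozen statement -/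
def Ed (G : Type u) [Group G] (p r s : ℕ) : Prop :=
  ∃ x : G, p ∣ orderOf x ∧ r * s ∣ cs x

/-- the conclusion of the frozen statement -/
def Dist3 (G : Type u) [Group G] (p r s : ℕ) : Prop :=
  Ed G p r s ∨ (∃ t : ℕ, Vx G p t ∧ t ≠ r ∧ t ≠ s ∧ Ed G p r t ∧ Ed G p t s) ∨
    (∃ t u : ℕ, Vx G p t ∧ Vx G p u ∧ t ≠ r ∧ u ≠ s ∧ t ≠ u ∧ Ed G p r t ∧ Ed G p t u ∧ Ed G p u s)

omit [Finite G] [Fact p.Prime] in
theorem walk3 {r q t s : ℕ} (hq : Vx G p q) (ht : Vx G p t)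
    (h1 : r = q ∨ Ed G p r q) (h2 : q = t ∨ Ed G p q t) (h3 : t = s ∨ Ed G p t s)
    (hrs : r ≠ s) : Dist3 G p r s := by
  by_cases e1 : r = q
  · subst e1
    by_cases e2 : r = t
    · subst e2
      rcases h3 with h3 | h3
      · exact absurd h3 hrs
      · exact Or.inl h3
    · have h2' : Ed G p r t := h2.resolve_left e2
      by_cases e3 : t = s
      · subst e3; exact Or.inl h2'
      · exact Or.inr (Or.inl ⟨t, ht, fun h => e2 h.symm, e3, h2', h3.resolve_left e3⟩)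
  · have h1' : Ed G p r q := h1.resolve_left e1
    by_cases e2 : q = t
    · subst e2
      by_cases e3 : q = s
      · subst e3; exact Or.inl h1'
      · exact Or.inr (Or.inl ⟨q, hq, fun h => e1 h.symm, e3, h1', h3.resolve_left e3⟩)
    · have h2' : Ed G p q t := h2.resolve_left e2
      by_cases e3 : t = s
      · subst e3
        exact Or.inr (Or.inl ⟨q, hq, fun h => e1 h.symm, e2, h1', h2'⟩)
      · exact Or.inr (Or.inr ⟨q, t, hq, ht, fun h => e1 h.symm, e3, e2, h1', h2',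
          h3.resolve_left e3⟩)

omit [Finite G] [Fact p.Prime] in
/-- two primes dividing the same `p`-singular class size are equal or adjacent -/
theorem adj_of_dvd {x : G} (hx : p ∣ orderOf x) {r q : ℕ} (hr : r.Prime) (hq : q.Prime)
    (hrx : r ∣ cs x) (hqx : q ∣ cs x) : r = q ∨ Ed G p r q := by
  by_cases e : r = q
  · exact Or.inl e
  · exact Or.inr ⟨x, hx, Nat.Coprime.mul_dvd_of_dvd_of_dvd ((Nat.coprime_primes hr hq).mpr e) hrx hqx⟩

omit [Finite G] in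
theorem dist3_of_packages
    (L0 : ∀ x : G, p ∣ orderOf x →
      ∃ u : G, IsPEl p u ∧ u ≠ 1 ∧ p ∣ orderOf u ∧ cs u ∣ cs x ∧ 1 < cs u)
    (LA : ∀ u v : G, IsPEl p u → p ∣ cs u → IsPEl p v → ¬ p ∣ cs v → 1 < cs v →
      ∃ (x : G) (t : ℕ), p ∣ orderOf x ∧ t.Prime ∧ t ∣ cs v ∧ p * t ∣ cs x)
    (LB : ∀ u v : G, IsPEl p u → IsPEl p v → Nat.Coprime (cs u) (cs v) → ¬ p ∣ cs u →
      ¬ p ∣ cs v → 1 < cs u → 1 < cs v →
      ∃ (z : G) (q t : ℕ), p ∣ orderOf z ∧ q.Prime ∧ t.Prime ∧ q ∣ cs u ∧ t ∣ cs v ∧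
        q * t ∣ cs z)
    {r s : ℕ} (hr : Vx G p r) (hs : Vx G p s) (hrs : r ≠ s) : Dist3 G p r s := by
  have hpp : p.Prime := Fact.out
  obtain ⟨hrp, x, hx, hrx⟩ := hr
  obtain ⟨hsp, y, hy, hsy⟩ := hs
  obtain ⟨u, hu, hu1, huo, hux, ha⟩ := L0 x hx
  obtain ⟨v, hv, hv1, hvo, hvy, hb⟩ := L0 y hy
  -- primes of `cs u` are vertices adjacent-or-equal to `r`
  have hA : ∀ q : ℕ, q.Prime → q ∣ cs u → Vx G p q ∧ (r = q ∨ Ed G p r q) := fun q hq hqu =>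
    ⟨⟨hq, u, huo, hqu⟩, adj_of_dvd hx hrp hq hrx (hqu.trans hux)⟩
  have hB : ∀ t : ℕ, t.Prime → t ∣ cs v → Vx G p t ∧ (t = s ∨ Ed G p t s) := fun t ht htv =>
    ⟨⟨ht, v, hvo, htv⟩, adj_of_dvd hy ht hsp (htv.trans hvy) hsy⟩
  by_cases hcop : Nat.Coprime (cs u) (cs v)
  · by_cases hpa : p ∣ cs u
    · have hpb : ¬ p ∣ cs v := fun h => hpp.one_lt.ne' (Nat.eq_one_of_dvd_coprimes hcop hpa h)
      obtain ⟨x', t, hx', ht, htv, hpt⟩ := LA u v hu hpa hv hpb hb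
      exact walk3 (hA p hpp hpa).1 (hB t ht htv).1 (hA p hpp hpa).2 (Or.inr ⟨x', hx', hpt⟩)
        (hB t ht htv).2 hrs
    · by_cases hpb : p ∣ cs v
      · obtain ⟨x', q, hx', hq, hqu, hpq⟩ := LA v u hv hpb hu hpa ha
        exact walk3 (hA q hq hqu).1 (hB p hpp hpb).1 (hA q hq hqu).2
          (Or.inr ⟨x', hx', by rwa [mul_comm]⟩) (hB p hpp hpb).2 hrs
      · obtain ⟨z, q, t, hz, hq, ht, hqu, htv, hqt⟩ := LB u v hu hv hcop hpa hpb ha hb
        exact walk3 (hA q hq hqu).1 (hB t ht htv).1 (hA q hq hqu).2 (Or.inr ⟨z, hz, hqt⟩)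
          (hB t ht htv).2 hrs
  · obtain ⟨q, hq, hqd⟩ := Nat.Prime.not_coprime_iff_dvd.mp hcop
    exact walk3 (hA q hq hqd.1).1 (hB q hq hqd.2).1 (hA q hq hqd.1).2 (Or.inl rfl)
      (hB q hq hqd.2).2 hrs

theorem lemmaA_of_packages
    (Q2 : ∀ v : G, IsPEl p v → ¬ p ∣ cs v → 1 < cs v → HypE G p v → Dich G p)
    (Q3 : Dich G p → ∀ u : G, IsPEl p u → p ∣ cs u → ∀ P : Sylow p G, (P : Subgroup G).Normal)
    (Q4 : Dich G p → ∀ u : G, IsPEl p u → p ∣ cs u → ∀ P : Sylow p G, (P : Subgroup G).Normal →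
      p ∣ Nat.card ↥(Subgroup.center G))
    (hZ : ¬ p ∣ Nat.card ↥(Subgroup.center G)) (u v : G)
    (hu : IsPEl p u) (hup : p ∣ cs u) (hv : IsPEl p v) (hvp : ¬ p ∣ cs v) (hb : 1 < cs v) :
    ∃ (x : G) (t : ℕ), p ∣ orderOf x ∧ t.Prime ∧ t ∣ cs v ∧ p * t ∣ cs x := by
  by_contra hcon
  have hE : HypE G p v := by
    intro x hx hpx
    by_contra hnc
    obtain ⟨t, ht, htd⟩ := Nat.Prime.not_coprime_iff_dvd.mp hnc
    have htp : t ≠ p := by
      rintro rfl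
      exact hvp htd.2
    apply hcon
    refine ⟨x, t, hx, ht, htd.2, ?_⟩
    have hpp : p.Prime := Fact.out
    exact Nat.Coprime.mul_dvd_of_dvd_of_dvd ((Nat.coprime_primes hpp ht).mpr (Ne.symm htp)) hpx htd.1
  have hD := Q2 v hv hvp hb hE
  obtain ⟨P⟩ : Nonempty (Sylow p G) := inferInstance
  have hP := Q3 hD u hu hup P
  exact hZ (Q4 hD u hu hup P hP)

end Cfsg.Agent.Lib.Lead.PSing
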