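import Mathlib
import Cfsg.Agent.Lib.Lead.PStabQuot2

set_option autoImplicit false

namespace Cfsg.Agent.Lib.Lead.PStabQuot

open scoped commutatorElement
open Cfsg.Agent.Lib.Helper6 Cfsg.Agent.Lib.Lead.ExpSec Cfsg.Agent.Lib.Lead

section
variable {G : Type*} [Group G] [Finite G] {p : ℕ} [hp : Fact p.Prime]

/-- pushing the automizer condition forward to the quotient by a normal `p'`-subgroup -/
theorem autCond_quotient (K A P : Subgroup G) [hKn : K.Normal] (hP : IsPGroup p P)
    (hK : (Nat.card K).Coprime p) (hn : (K ⊔ P).Normal) (h : AutCond p A P) :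
    AutCond p (A.map (QuotientGroup.mk' K)) (P.map (QuotientGroup.mk' K)) := by
  obtain ⟨D, hCD, hDN, hND, hpow, hAD⟩ := h
  set π := QuotientGroup.mk' K with hπ
  have hPK : P ⊓ K = ⊥ := isPGroup_inf_coprime_eq_bot hK hP
  have hsurj : Function.Surjective π := QuotientGroup.mk'_surjective K
  have hker : ∀ k ∈ K, π k = 1 := by
    intro k hk
    rw [hπ, QuotientGroup.mk'_apply, QuotientGroup.eq_one_iff]; exact hk
  have hmapC : (Subgroup.centralizer (P : Set G)).map π ≤
      Subgroup.centralizer ((P.map π : Subgroup (G ⧸ K)) : Set (G ⧸ K)) := by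
    rintro _ ⟨c, hc, rfl⟩
    rw [Subgroup.mem_centralizer_iff]
    rintro _ ⟨u, hu, rfl⟩
    rw [← map_mul, ← map_mul, Subgroup.mem_centralizer_iff.mp hc u hu]
  refine ⟨D.map π, ?_, ?_, ?_, ?_, Subgroup.map_mono hAD⟩
  · intro c hc
    obtain ⟨g, rfl⟩ := hsurj c
    obtain ⟨n, hn', k, hk, rfl⟩ := exists_mul_of_sup_normal K P hP hK hn g
    rw [map_mul, hker k hk, mul_one] at hc ⊢
    exact ⟨n, hCD (mem_centralizer_of_map K P hPK hn' hc), rfl⟩
  · exact (Subgroup.map_mono hDN).trans (Subgroup.le_normalizer_map π)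
  · intro c _
    obtain ⟨g, rfl⟩ := hsurj c
    obtain ⟨n, hn', k, hk, rfl⟩ := exists_mul_of_sup_normal K P hP hK hn g
    rw [map_mul, hker k hk, mul_one]
    exact Subgroup.le_normalizer_map π ⟨n, hND hn', rfl⟩
  · rintro _ ⟨d, hd, rfl⟩
    obtain ⟨k, hk⟩ := hpow d hd
    refine ⟨k, ?_⟩
    rw [← map_pow]
    exact hmapC ⟨_, hk, rfl⟩

/-- lifting a pair of `p`-subgroups from the quotient by a normal `p'`-subgroup -/
theorem exists_lift (K : Subgroup G) [hKn : K.Normal] (hK : (Nat.card K).Coprime p)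
    (A' P' : Subgroup (G ⧸ K)) (hA' : IsPGroup p A') (hP' : IsPGroup p P')
    (hnorm : ∀ a ∈ A', ∀ x ∈ P', a * x * a⁻¹ ∈ P') :
    ∃ A P S : Subgroup G, IsPGroup p S ∧ A ≤ S ∧ P ≤ S ∧
      (∀ a ∈ A, ∀ x ∈ P, a * x * a⁻¹ ∈ P) ∧
      A.map (QuotientGroup.mk' K) = A' ∧ P.map (QuotientGroup.mk' K) = P' := by
  classical
  set π := QuotientGroup.mk' K with hπ
  have hsurj : Function.Surjective π := QuotientGroup.mk'_surjective K
  have hAN : A' ≤ Subgroup.normalizer (P' : Set (G ⧸ K)) := le_normalizer_of_conj_mem A' P' hnorm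
  have hM'p : IsPGroup p (A' ⊔ P' : Subgroup (G ⧸ K)) :=
    IsPGroup.to_sup_of_normal_right' hA' hP' hAN
  set M' : Subgroup (G ⧸ K) := A' ⊔ P' with hM'
  set M := M'.comap π with hM
  have hKM : K ≤ M := by
    intro x hx
    apply Subgroup.mem_comap.mpr
    have : π x = 1 := by
      rw [hπ, QuotientGroup.mk'_apply, QuotientGroup.eq_one_iff]; exact hx
    rw [this]; exact Subgroup.one_mem _
  have hMmap : M.map π = M' := Subgroup.map_comap_eq_self_of_surjective hsurj _
  obtain ⟨S₀⟩ : Nonempty (Sylow p M) := inferInstance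
  set S : Subgroup G := (S₀ : Subgroup M).map M.subtype with hS
  have hSM : S ≤ M := Subgroup.map_subtype_le _
  have hSp : IsPGroup p S := S₀.2.map _
  have hSK : S ⊓ K = ⊥ := isPGroup_inf_coprime_eq_bot hK hSp
  -- cardinalities
  obtain ⟨a, ha⟩ := IsPGroup.iff_card.mp hM'p
  have hcardM : Nat.card M = p ^ a * Nat.card K := by
    have h1 := card_map_mul_card_inf_ker π M
    rw [QuotientGroup.ker_mk', inf_eq_right.mpr hKM, hMmap, ha] at h1
    exact h1.symm
  have hcardS : Nat.card S = p ^ a := by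
    have h1 : Nat.card S = Nat.card (S₀ : Subgroup M) :=
      (Nat.card_congr ((S₀ : Subgroup M).equivMapOfInjective M.subtype
        M.subtype_injective).toEquiv).symm
    rw [h1, S₀.card_eq_multiplicity, hcardM]
    congr 1
    have hp' := hp.out
    have hKpos : Nat.card K ≠ 0 := Nat.card_pos.ne'
    have hndvd : ¬ p ∣ Nat.card K := (Nat.Prime.coprime_iff_not_dvd hp').mp hK.symm
    rw [Nat.factorization_mul (pow_ne_zero a hp'.ne_zero) hKpos]
    simp [Nat.Prime.factorization_pow hp', Nat.factorization_eq_zero_of_not_dvd hndvd]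
  have hSmap : S.map π = M' := by
    apply Subgroup.eq_of_le_of_card_ge
    · rw [← hMmap]; exact Subgroup.map_mono hSM
    · have h1 := card_map_mul_card_inf_ker π S
      rw [QuotientGroup.ker_mk', hSK, Subgroup.card_bot, mul_one] at h1
      rw [h1, hcardS, ha]
  refine ⟨S ⊓ A'.comap π, S ⊓ P'.comap π, S, hSp, inf_le_left, inf_le_left, ?_, ?_, ?_⟩
  · intro x hx y hy
    refine Subgroup.mem_inf.mpr ⟨S.mul_mem (S.mul_mem hx.1 hy.1) (S.inv_mem hx.1), ?_⟩
    apply Subgroup.mem_comap.mpr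
    rw [map_mul, map_mul, map_inv]
    exact hnorm _ hx.2 _ hy.2
  · apply le_antisymm
    · rintro _ ⟨x, hx, rfl⟩
      exact hx.2
    · intro y hy
      have : y ∈ S.map π := by rw [hSmap]; exact (le_sup_left : A' ≤ M') hy
      obtain ⟨s, hs, rfl⟩ := this
      exact ⟨s, Subgroup.mem_inf.mpr ⟨hs, hy⟩, rfl⟩
  · apply le_antisymm
    · rintro _ ⟨x, hx, rfl⟩
      exact hx.2
    · intro y hy
      have : y ∈ S.map π := by rw [hSmap]; exact (le_sup_right : P' ≤ M') hy
      obtain ⟨s, hs, rfl⟩ := this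
      exact ⟨s, Subgroup.mem_inf.mpr ⟨hs, hy⟩, rfl⟩

end

end Cfsg.Agent.Lib.Lead.PStabQuot
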