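import Mathlib

/-!
# Splitting a split polynomial over a local subring of `ℂ` into unit / non-unit roots

Stand-alone algebra for S4427 (package L2 of helper8's plan).  `O` is a subring of `ℂ`,
`P` the "non-unit" predicate (for `O = localRing M`, `P = MemLocalIdeal M`).
-/

namespace Cfsg.Agent.Lib.Lead.PolySplit

open Polynomial

theorem isCoprime_multiset_prod {R : Type*} [CommRing R] {ι : Type*} (f : ι → R)
    (s t : Multiset ι) (h : ∀ a ∈ s, ∀ b ∈ t, IsCoprime (f a) (f b)) :
    IsCoprime (s.map f).prod (t.map f).prod := by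
  induction s using Multiset.induction_on with
  | empty => simpa using isCoprime_one_left
  | cons a s ih =>
    rw [Multiset.map_cons, Multiset.prod_cons]
    refine IsCoprime.mul_left ?_ (ih fun a' ha' b hb => h a' (Multiset.mem_cons_of_mem ha') b hb)
    have ha : ∀ b ∈ t, IsCoprime (f a) (f b) := fun b hb => h a (Multiset.mem_cons_self a s) b hb
    clear h ih
    induction t using Multiset.induction_on with
    | empty => simpa using isCoprime_one_right
    | cons b t ih2 =>
      rw [Multiset.map_cons, Multiset.prod_cons]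
      exact IsCoprime.mul_right (ha b (Multiset.mem_cons_self b t))
        (ih2 fun b' hb' => ha b' (Multiset.mem_cons_of_mem hb'))

/-- The linear factor `X - z` as a polynomial over the subring `O` (junk value `1` if `z ∉ O`). -/
noncomputable def lin (O : Subring ℂ) (z : ℂ) : (↥O)[X] := by
  classical
  exact if h : z ∈ O then X - C ⟨z, h⟩ else 1

theorem lin_map (O : Subring ℂ) {z : ℂ} (h : z ∈ O) : (lin O z).map O.subtype = X - C z := by
  classical
  simp [lin, h]

theorem lin_eq (O : Subring ℂ) {z : ℂ} (h : z ∈ O) : lin O z = X - C ⟨z, h⟩ := by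
  classical
  simp [lin, h]

theorem isCoprime_lin (O : Subring ℂ) {z w : ℂ} (hz : z ∈ O) (hw : w ∈ O)
    (hinv : (z - w)⁻¹ ∈ O) (hne : z - w ≠ 0) : IsCoprime (lin O z) (lin O w) := by
  rw [lin_eq O hz, lin_eq O hw]
  refine ⟨-C ⟨(z - w)⁻¹, hinv⟩, C ⟨(z - w)⁻¹, hinv⟩, ?_⟩
  have h1 : (⟨(z - w)⁻¹, hinv⟩ : ↥O) * (⟨z, hz⟩ - ⟨w, hw⟩) = 1 := by
    apply Subtype.ext
    simp [inv_mul_cancel₀ hne]
  calc -C (⟨(z - w)⁻¹, hinv⟩ : ↥O) * (X - C ⟨z, hz⟩) + C ⟨(z - w)⁻¹, hinv⟩ * (X - C ⟨w, hw⟩)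
      = C ((⟨(z - w)⁻¹, hinv⟩ : ↥O) * (⟨z, hz⟩ - ⟨w, hw⟩)) := by
        rw [C_mul, C_sub]; ring
    _ = 1 := by rw [h1, C_1]

/-- **Package (L2).**  Let `O ⊆ ℂ` be a subring and `P` a predicate ("non-unit") with `P 0`, `¬ P 1`,
closed under addition and negation-free in the sense below, such that every `x ∈ O` with `¬ P x` has
`x⁻¹ ∈ O`.  If `μ` is monic with all roots in `O` and `μ(0) = μ(1) = 0`, there is `g ∈ O[X]` with
`μ ∣ g² - g`, `X ∣ g`, `g(1) = 1`. -/
theorem exists_poly_idem (O : Subring ℂ) (P : ℂ → Prop) (hP0 : P 0) (hP1 : ¬ P 1)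
    (hPadd : ∀ x y, P x → P y → P (x + y))
    (hinv : ∀ x ∈ O, ¬ P x → x⁻¹ ∈ O)
    (μ : ℂ[X]) (hμ : μ.Monic) (hroots : ∀ z ∈ μ.roots, z ∈ O)
    (h0 : μ.IsRoot 0) (h1 : μ.IsRoot 1) :
    ∃ g h : ℂ[X], (∀ i, g.coeff i ∈ O) ∧ (∀ i, h.coeff i ∈ O) ∧ μ ∣ g ^ 2 - g ∧ g = X * h ∧
      g.eval 1 = 1 := by
  classical
  set S := μ.roots with hS
  have hμprod : μ = (S.map (X - C ·)).prod :=
    (IsAlgClosed.splits μ).eq_prod_roots_of_monic hμ
  have hμ0 : μ ≠ 0 := hμ.ne_zero
  have h0S : (0 : ℂ) ∈ S := (mem_roots hμ0).2 h0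
  have h1S : (1 : ℂ) ∈ S := (mem_roots hμ0).2 h1
  set Sn := S.filter P with hSn
  set Su := S.filter (fun z => ¬ P z) with hSu
  have hsplit : Sn + Su = S := Multiset.filter_add_not P S
  set N : (↥O)[X] := (Sn.map (lin O)).prod with hN
  set U : (↥O)[X] := (Su.map (lin O)).prod with hU
  -- the product maps to μ
  have hUN : (U * N).map O.subtype = μ := by
    rw [hμprod, hU, hN, ← Multiset.prod_add, ← Multiset.map_add, add_comm Su Sn, hsplit,
      Polynomial.map_multiset_prod, Multiset.map_map]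
    congr 1
    apply Multiset.map_congr rfl
    intro z hz
    simp only [Function.comp]
    exact lin_map O (hroots z hz)
  -- coprimality
  have hcop : IsCoprime U N := by
    apply isCoprime_multiset_prod
    intro a ha b hb
    have haS : a ∈ S := Multiset.mem_of_mem_filter ha
    have hbS : b ∈ S := Multiset.mem_of_mem_filter hb
    have haP : ¬ P a := (Multiset.mem_filter.1 ha).2
    have hbP : P b := (Multiset.mem_filter.1 hb).2
    have hab : ¬ P (a - b) := by
      intro h
      apply haP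
      have := hPadd _ _ h hbP
      simpa using this
    have hne : a - b ≠ 0 := by
      intro h
      rw [h] at hab
      exact hab hP0
    exact isCoprime_lin O (hroots a haS) (hroots b hbS)
      (hinv _ (O.sub_mem (hroots a haS) (hroots b hbS)) hab) hne
  obtain ⟨A, B, hAB⟩ := hcop
  -- X divides N
  have h0Sn : (0 : ℂ) ∈ Sn := Multiset.mem_filter.2 ⟨h0S, hP0⟩
  have hXN : (X : (↥O)[X]) ∣ N := by
    have : lin O 0 ∣ N := Multiset.dvd_prod (Multiset.mem_map_of_mem _ h0Sn)
    rw [lin_eq O O.zero_mem] at this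
    have h00 : (⟨0, O.zero_mem⟩ : ↥O) = 0 := rfl
    rwa [h00, C_0, sub_zero] at this
  obtain ⟨N', hN'⟩ := hXN
  -- (X - 1) divides U
  have h1Su : (1 : ℂ) ∈ Su := Multiset.mem_filter.2 ⟨h1S, hP1⟩
  have hX1U : (X - C (1 : ↥O)) ∣ U := by
    have : lin O 1 ∣ U := Multiset.dvd_prod (Multiset.mem_map_of_mem _ h1Su)
    rw [lin_eq O O.one_mem] at this
    exact this
  obtain ⟨U', hU'⟩ := hX1U
  refine ⟨(B * N).map O.subtype, (B * N').map O.subtype, ?_, ?_, ?_, ?_, ?_⟩
  · intro i
    rw [coeff_map]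
    exact (coeff (B * N) i).2
  · intro i
    rw [coeff_map]
    exact (coeff (B * N') i).2
  · -- μ ∣ g^2 - g
    have hkey : (B * N) ^ 2 - B * N = -(A * B) * (U * N) := by
      have : B * N = 1 - A * U := by rw [← hAB]; ring
      calc (B * N) ^ 2 - B * N = (B * N) * (B * N - 1) := by ring
        _ = (B * N) * (-(A * U)) := by rw [this]; ring
        _ = -(A * B) * (U * N) := by ring
    have : ((B * N).map O.subtype) ^ 2 - (B * N).map O.subtype
        = ((-(A * B)).map O.subtype) * μ := by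
      rw [← hUN, ← Polynomial.map_pow, ← Polynomial.map_sub, ← Polynomial.map_mul, hkey]
    rw [this]
    exact Dvd.intro_left _ rfl
  · rw [hN', ← Polynomial.map_X O.subtype, ← Polynomial.map_mul]
    congr 1
    ring
  · have hBN : B * N = 1 - A * U := by rw [← hAB]; ring
    rw [hBN, hU']
    simp [Polynomial.eval_map]

end Cfsg.Agent.Lib.Lead.PolySplit
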