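import Mathlib
import Cfsg.Agent.Lib.Lead.PolySplit
import Cfsg.Agent.Lib.Helper8.BlockLocal

/-!
# (L2) for the local ring at a prime of the algebraic integers (S4427, helper8's plan)
-/

namespace Cfsg.Agent.Lib.Lead.PolySplit

open Polynomial Cfsg Cfsg.Agent.Lib.Helper8

/-- **(L2), local-ring form.**  `M` a prime ideal of the algebraic integers.  If `μ ∈ ℂ[X]` is monic,
all its roots lie in the local ring at `M`, and `μ(0) = μ(1) = 0`, then there are `g, h ∈ ℂ[X]` with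
coefficients in the local ring, `μ ∣ g² - g`, `g = X * h` and `g(1) = 1`. -/
theorem exists_poly_idem_local {M : Ideal AlgInt} (hM : M.IsPrime)
    (μ : ℂ[X]) (hμ : μ.Monic) (hroots : ∀ z ∈ μ.roots, MemLocalRing M z)
    (h0 : μ.IsRoot 0) (h1 : μ.IsRoot 1) :
    ∃ g h : ℂ[X], (∀ i, MemLocalRing M (g.coeff i)) ∧ (∀ i, MemLocalRing M (h.coeff i)) ∧
      μ ∣ g ^ 2 - g ∧ g = X * h ∧ g.eval 1 = 1 := by
  obtain ⟨g, h, hg, hh, h1', h2, h3⟩ :=
    exists_poly_idem (localRing M hM) (MemLocalIdeal M)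
      (memLocalIdeal_zero hM.ne_top) (not_memLocalIdeal_one hM)
      (fun x y hx hy => memLocalIdeal_add hM hx hy)
      (fun x hx hx' => memLocalRing_inv hx hx') μ hμ hroots h0 h1
  exact ⟨g, h, hg, hh, h1', h2, h3⟩

end Cfsg.Agent.Lib.Lead.PolySplit
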