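import Mathlib

set_option autoImplicit false

/-!
Sylow 2-subgroup `P = Q × R` with `Q` generalized quaternion and all involutions of `R` central in `R`:
basic structure (all involutions of `P` are central in `P`) and the square-root counting function.
-/

namespace Cfsg.Agent.Lib.Lead.QxR

open QuaternionGroup

/-- facts about `QuaternionGroup m`, `2 ≤ m` -/
theorem quat_facts (m : ℕ) (hm : 2 ≤ m) :
    ∃ z : QuaternionGroup m, z ≠ 1 ∧ z * z = 1 ∧
      (∀ x : QuaternionGroup m, x * x = 1 → x = 1 ∨ x = z) ∧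
      ∃ y₁ y₂ y₃ : QuaternionGroup m, y₁ ≠ y₂ ∧ y₁ ≠ y₃ ∧ y₂ ≠ y₃ ∧
        y₁ * y₁ = z ∧ y₂ * y₂ = z ∧ y₃ * y₃ = z := by
  haveI : NeZero (2 * m) := ⟨by omega⟩
  have hm0 : ((m : ℕ) : ZMod (2 * m)) ≠ 0 := by
    rw [Ne, ZMod.natCast_eq_zero_iff]
    intro h
    have := Nat.le_of_dvd (by omega) h
    omega
  have hmm : ((m : ℕ) : ZMod (2 * m)) + (m : ℕ) = 0 := by
    have : ((m : ℕ) : ZMod (2 * m)) + (m : ℕ) = ((2 * m : ℕ) : ZMod (2 * m)) := by
      push_cast; ring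
    rw [this, ZMod.natCast_self]
  have hne : ∀ i j : ℕ, i < 2 * m → j < 2 * m → i ≠ j →
      (xa ((i : ℕ) : ZMod (2 * m)) : QuaternionGroup m) ≠ xa ((j : ℕ) : ZMod (2 * m)) := by
    intro i j hi hj hij h
    rw [xa.injEq, ZMod.natCast_eq_natCast_iff', Nat.mod_eq_of_lt hi, Nat.mod_eq_of_lt hj] at h
    exact hij h
  have hsq : ∀ i : ZMod (2 * m), (xa i : QuaternionGroup m) * xa i = a ((m : ℕ) : ZMod (2 * m)) := by
    intro i
    rw [xa_mul_xa, add_sub_cancel_right]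
  refine ⟨a ((m : ℕ) : ZMod (2 * m)), ?_, ?_, ?_, xa ((0 : ℕ) : ZMod (2 * m)),
    xa ((1 : ℕ) : ZMod (2 * m)), xa ((2 : ℕ) : ZMod (2 * m)), ?_, ?_, ?_, hsq _, hsq _, hsq _⟩
  · rw [one_def, Ne, a.injEq]; exact hm0
  · rw [a_mul_a, hmm, one_def]
  · intro x hx
    cases x with
    | a i =>
      rw [a_mul_a, one_def, a.injEq] at hx
      have h1 : ((i.val + i.val : ℕ) : ZMod (2 * m)) = 0 := by
        push_cast; rw [ZMod.natCast_zmod_val]; exact hx
      rw [ZMod.natCast_eq_zero_iff] at h1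
      have h2 : i.val < 2 * m := ZMod.val_lt i
      obtain ⟨c, hc⟩ := h1
      have hc' : c = 0 ∨ c = 1 := by
        rcases c with _ | _ | c
        · left; rfl
        · right; rfl
        · exfalso
          have : 2 * m * (c + 1 + 1) ≥ 2 * m * 2 := Nat.mul_le_mul_left _ (by omega)
          omega
      rcases hc' with rfl | rfl
      · left
        have : i.val = 0 := by omega
        rw [one_def, a.injEq]
        exact (ZMod.val_eq_zero i).mp this
      · right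
        have : i.val = m := by omega
        rw [a.injEq]
        calc i = ((i.val : ℕ) : ZMod (2 * m)) := (ZMod.natCast_zmod_val i).symm
          _ = ((m : ℕ) : ZMod (2 * m)) := by rw [this]
    | xa i =>
      exfalso
      rw [hsq, one_def, a.injEq] at hx
      exact hm0 hx
  · exact hne 0 1 (by omega) (by omega) (by omega)
  · exact hne 0 2 (by omega) (by omega) (by omega)
  · exact hne 1 2 (by omega) (by omega) (by omega)

variable {G : Type*} [Group G]

/-- The hypotheses on `P = Q × R`. -/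
structure Hyp (P Q R : Subgroup G) (z : G) : Prop where
  hQP : Q ≤ P
  hRP : R ≤ P
  hcomm : ∀ a ∈ Q, ∀ b ∈ R, a * b = b * a
  hdisj : Q ⊓ R = ⊥
  hsup : Q ⊔ R = P
  hzQ : z ∈ Q
  hz1 : z ≠ 1
  hzz : z * z = 1
  hzu : ∀ q ∈ Q, q * q = 1 → q = 1 ∨ q = z
  hy : ∃ y₁ ∈ Q, ∃ y₂ ∈ Q, ∃ y₃ ∈ Q, y₁ ≠ y₂ ∧ y₁ ≠ y₃ ∧ y₂ ≠ y₃ ∧
    y₁ * y₁ = z ∧ y₂ * y₂ = z ∧ y₃ * y₃ = z
  hR : ∀ r ∈ R, orderOf r = 2 → ∀ s ∈ R, r * s = s * r

namespace Hyp

variable {P Q R : Subgroup G} {z : G}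

theorem decomp (h : Hyp P Q R z) {x : G} (hx : x ∈ P) : ∃ q ∈ Q, ∃ r ∈ R, x = q * r := by
  let T : Subgroup G :=
    { carrier := {x | ∃ q ∈ Q, ∃ r ∈ R, x = q * r}
      one_mem' := ⟨1, Q.one_mem, 1, R.one_mem, by simp⟩
      mul_mem' := by
        rintro _ _ ⟨q, hq, r, hr, rfl⟩ ⟨q', hq', r', hr', rfl⟩
        refine ⟨q * q', Q.mul_mem hq hq', r * r', R.mul_mem hr hr', ?_⟩
        have := h.hcomm q' hq' r hr
        calc q * r * (q' * r') = q * (r * q') * r' := by group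
          _ = q * (q' * r) * r' := by rw [this]
          _ = q * q' * (r * r') := by group
      inv_mem' := by
        rintro _ ⟨q, hq, r, hr, rfl⟩
        refine ⟨q⁻¹, Q.inv_mem hq, r⁻¹, R.inv_mem hr, ?_⟩
        have := h.hcomm q⁻¹ (Q.inv_mem hq) r⁻¹ (R.inv_mem hr)
        rw [mul_inv_rev, this] }
  have hQT : Q ≤ T := fun q hq => ⟨q, hq, 1, R.one_mem, by simp⟩
  have hRT : R ≤ T := fun r hr => ⟨1, Q.one_mem, r, hr, by simp⟩
  have : P ≤ T := by rw [← h.hsup]; exact sup_le hQT hRT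
  exact this hx

theorem decomp_unique (h : Hyp P Q R z) {q q' r r' : G} (hq : q ∈ Q) (hq' : q' ∈ Q)
    (hr : r ∈ R) (hr' : r' ∈ R) (he : q * r = q' * r') : q = q' ∧ r = r' := by
  have h1 : q'⁻¹ * q = r' * r⁻¹ := by
    have : q'⁻¹ * (q * r) * r⁻¹ = q'⁻¹ * (q' * r') * r⁻¹ := by rw [he]
    calc q'⁻¹ * q = q'⁻¹ * (q * r) * r⁻¹ := by group
      _ = q'⁻¹ * (q' * r') * r⁻¹ := this
      _ = r' * r⁻¹ := by group
  have h2 : q'⁻¹ * q ∈ Q ⊓ R :=
    ⟨Q.mul_mem (Q.inv_mem hq') hq, by rw [h1]; exact R.mul_mem hr' (R.inv_mem hr)⟩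
  rw [h.hdisj, Subgroup.mem_bot] at h2
  have hqq : q = q' := by
    have := congrArg (fun t => q' * t) h2
    simpa using this
  refine ⟨hqq, ?_⟩
  subst hqq
  exact mul_left_cancel he

theorem z_central (h : Hyp P Q R z) {q : G} (hq : q ∈ Q) : z * q = q * z := by
  have h1 : q * z * q⁻¹ ∈ Q := Q.mul_mem (Q.mul_mem hq h.hzQ) (Q.inv_mem hq)
  have h2 : q * z * q⁻¹ * (q * z * q⁻¹) = 1 := by
    calc q * z * q⁻¹ * (q * z * q⁻¹) = q * (z * z) * q⁻¹ := by group
      _ = 1 := by rw [h.hzz]; group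
  rcases h.hzu _ h1 h2 with h3 | h3
  · exfalso
    apply h.hz1
    have : z = q⁻¹ * (q * z * q⁻¹) * q := by group
    rw [this, h3]; group
  · calc z * q = q * z * q⁻¹ * q := by rw [h3]
      _ = q * z := by group

theorem zR_comm (h : Hyp P Q R z) {r : G} (hr : r ∈ R) : z * r = r * z := h.hcomm z h.hzQ r hr

/-- squares decompose -/
theorem sq_decomp (h : Hyp P Q R z) {q r q₀ a : G} (hq : q ∈ Q) (hr : r ∈ R) (hq₀ : q₀ ∈ Q)
    (ha : a ∈ R) (he : q * r * (q * r) = q₀ * a) : q * q = q₀ ∧ r * r = a := by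
  have hc := h.hcomm q hq r hr
  have : q * q * (r * r) = q₀ * a := by
    rw [← he]
    calc q * q * (r * r) = q * (q * r) * r := by group
      _ = q * (r * q) * r := by rw [hc]
      _ = q * r * (q * r) := by group
  exact h.decomp_unique (Q.mul_mem hq hq) hq₀ (R.mul_mem hr hr) ha this

theorem invol_R_central (h : Hyp P Q R z) {r : G} (hr : r ∈ R) (hrr : r * r = 1) {s : G}
    (hs : s ∈ R) : r * s = s * r := by
  by_cases h1 : r = 1
  · subst h1; simp
  · have : orderOf r = 2 := orderOf_eq_prime (by rw [pow_two]; exact hrr) h1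
    exact h.hR r hr this s hs

/-- involutions of `P` are central in `P` -/
theorem invol_central (h : Hyp P Q R z) {x : G} (hx : x ∈ P) (hxx : x * x = 1) {y : G}
    (hy : y ∈ P) : x * y = y * x := by
  obtain ⟨q, hq, r, hr, rfl⟩ := h.decomp hx
  obtain ⟨q', hq', r', hr', rfl⟩ := h.decomp hy
  obtain ⟨hqq, hrr⟩ := h.sq_decomp hq hr Q.one_mem R.one_mem (by rw [hxx]; simp)
  have c1 : q * q' = q' * q := by
    rcases h.hzu q hq hqq with rfl | rfl
    · simp
    · exact h.z_central hq'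
  have c2 : r * r' = r' * r := h.invol_R_central hr hrr hr'
  have c3 := h.hcomm q hq r' hr'
  have c4 := h.hcomm q' hq' r hr
  calc q * r * (q' * r') = q * (r * q') * r' := by group
    _ = q * (q' * r) * r' := by rw [c4]
    _ = (q * q') * (r * r') := by group
    _ = (q' * q) * (r' * r) := by rw [c1, c2]
    _ = q' * (q * r') * r := by group
    _ = q' * (r' * q) * r := by rw [c3]
    _ = q' * r' * (q * r) := by group

/-- an involution of `P` outside `R` has the form `z * r` -/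
theorem invol_not_R (h : Hyp P Q R z) {x : G} (hx : x ∈ P) (hxx : x * x = 1) (hxR : x ∉ R) :
    ∃ r ∈ R, r * r = 1 ∧ x = z * r := by
  obtain ⟨q, hq, r, hr, rfl⟩ := h.decomp hx
  obtain ⟨hqq, hrr⟩ := h.sq_decomp hq hr Q.one_mem R.one_mem (by rw [hxx]; simp)
  rcases h.hzu q hq hqq with rfl | rfl
  · exfalso; apply hxR; simpa using hr
  · exact ⟨r, hr, hrr, rfl⟩

end Hyp

end Cfsg.Agent.Lib.Lead.QxR
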