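import Mathlib
import Cfsg.Agent.Lib.Lead.QxR1

set_option autoImplicit false

/-!
The square-root counting function `rho` on `P = Q × R` and its maximisers.
-/

namespace Cfsg.Agent.Lib.Lead.QxR

variable {G : Type*} [Group G]

/-- number of square roots in `P` -/
noncomputable def rho (P : Subgroup G) (e : G) : ℕ := Nat.card {x : G // x ∈ P ∧ x * x = e}

theorem rho_conj (P : Subgroup G) {n : G} (hn : n ∈ Subgroup.normalizer (P : Set G)) (e : G) :
    rho P (n * e * n⁻¹) = rho P e := by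
  unfold rho
  apply Nat.card_congr
  have hn' : n⁻¹ ∈ Subgroup.normalizer (P : Set G) := Subgroup.inv_mem _ hn
  refine
    { toFun := fun x => ⟨n⁻¹ * x.1 * n, ?_, ?_⟩
      invFun := fun x => ⟨n * x.1 * n⁻¹, ?_, ?_⟩
      left_inv := fun x => Subtype.ext (by simp [mul_assoc])
      right_inv := fun x => Subtype.ext (by simp [mul_assoc]) }
  · have := (Subgroup.mem_normalizer_iff.mp hn' x.1).mp x.2.1
    simpa using this
  · have := x.2.2
    calc n⁻¹ * x.1 * n * (n⁻¹ * x.1 * n) = n⁻¹ * (x.1 * x.1) * n := by group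
      _ = e := by rw [this]; group
  · exact (Subgroup.mem_normalizer_iff.mp hn x.1).mp x.2.1
  · have := x.2.2
    calc n * x.1 * n⁻¹ * (n * x.1 * n⁻¹) = n * (x.1 * x.1) * n⁻¹ := by group
      _ = n * e * n⁻¹ := by rw [this]

theorem rho_pos_iff [Finite G] (P : Subgroup G) (e : G) : 0 < rho P e ↔ ∃ x ∈ P, x * x = e := by
  unfold rho
  rw [Nat.card_pos_iff]
  constructor
  · rintro ⟨⟨x, hx, hxx⟩, _⟩
    exact ⟨x, hx, hxx⟩
  · rintro ⟨x, hx, hxx⟩
    exact ⟨⟨⟨x, hx, hxx⟩⟩, inferInstance⟩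

namespace Hyp

variable {P Q R : Subgroup G} {z : G}

theorem rho_lt [Finite G] (h : Hyp P Q R z) {a : G} (ha : a ∈ R) (hpos : 0 < rho P a) :
    rho P a < rho P (z * a) := by
  classical
  obtain ⟨x₀, hx₀, hxx₀⟩ := (rho_pos_iff P a).mp hpos
  obtain ⟨y₁, hy₁, y₂, hy₂, y₃, hy₃, h12, h13, h23, hs1, hs2, hs3⟩ := h.hy
  -- structure of square roots of `a`
  have key : ∀ x : G, x ∈ P → x * x = a → ∃ q ∈ Q, ∃ r ∈ R, x = q * r ∧ (q = 1 ∨ q = z) ∧
      r * r = a := by
    intro x hx hxx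
    obtain ⟨q, hq, r, hr, rfl⟩ := h.decomp hx
    obtain ⟨hqq, hrr⟩ := h.sq_decomp hq hr Q.one_mem ha (by rw [hxx]; simp)
    exact ⟨q, hq, r, hr, rfl, h.hzu q hq hqq, hrr⟩
  -- square roots of `a` commute with `Q`
  have hcq : ∀ x : G, x ∈ P → x * x = a → ∀ y ∈ Q, x * y = y * x := by
    intro x hx hxx y hy
    obtain ⟨q, hq, r, hr, rfl, hq1, -⟩ := key x hx hxx
    have c1 : q * y = y * q := by
      rcases hq1 with rfl | rfl
      · simp
      · exact h.z_central hy
    have c2 := h.hcomm y hy r hr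
    calc q * r * y = q * (r * y) := by group
      _ = q * (y * r) := by rw [c2]
      _ = (q * y) * r := by group
      _ = (y * q) * r := by rw [c1]
      _ = y * (q * r) := by group
  unfold rho
  haveI : Fintype {x : G // x ∈ P ∧ x * x = a} := Fintype.ofFinite _
  haveI : Fintype {x : G // x ∈ P ∧ x * x = z * a} := Fintype.ofFinite _
  rw [Nat.card_eq_fintype_card, Nat.card_eq_fintype_card]
  let f : {x : G // x ∈ P ∧ x * x = a} → {x : G // x ∈ P ∧ x * x = z * a} := fun x =>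
    ⟨x.1 * y₁, P.mul_mem x.2.1 (h.hQP hy₁), by
      have c := hcq x.1 x.2.1 x.2.2 y₁ hy₁
      have c' := h.hcomm z h.hzQ a ha
      calc x.1 * y₁ * (x.1 * y₁) = x.1 * (y₁ * x.1) * y₁ := by group
        _ = x.1 * (x.1 * y₁) * y₁ := by rw [c]
        _ = (x.1 * x.1) * (y₁ * y₁) := by group
        _ = a * z := by rw [x.2.2, hs1]
        _ = z * a := c'.symm⟩
  apply Fintype.card_lt_of_injective_not_surjective f
  · intro x x' hxx'
    have := congrArg Subtype.val hxx'
    simp only [f] at this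
    exact Subtype.ext (mul_right_cancel this)
  · intro hsurj
    obtain ⟨q₀, hq₀, r₀, hr₀, rfl, -, hrr₀⟩ := key x₀ hx₀ hxx₀
    -- choose y' among y₂, y₃ different from z * y₁
    obtain ⟨y', hy', hy'1, hy'z, hs'⟩ : ∃ y' ∈ Q, y' ≠ y₁ ∧ y' ≠ z * y₁ ∧ y' * y' = z := by
      by_cases hc : y₂ = z * y₁
      · refine ⟨y₃, hy₃, fun e => h13 e.symm, ?_, hs3⟩
        intro e
        exact h23 (by rw [hc, e])
      · exact ⟨y₂, hy₂, fun e => h12 e.symm, hc, hs2⟩
    have hw : y' * r₀ * (y' * r₀) = z * a := by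
      have c := h.hcomm y' hy' r₀ hr₀
      calc y' * r₀ * (y' * r₀) = y' * (r₀ * y') * r₀ := by group
        _ = y' * (y' * r₀) * r₀ := by rw [c]
        _ = (y' * y') * (r₀ * r₀) := by group
        _ = z * a := by rw [hs', hrr₀]
    obtain ⟨⟨x, hx, hxx⟩, hfx⟩ := hsurj ⟨y' * r₀, P.mul_mem (h.hQP hy') (h.hRP hr₀), hw⟩
    have hfx' : x * y₁ = y' * r₀ := congrArg Subtype.val hfx
    obtain ⟨q, hq, r, hr, rfl, hq1, -⟩ := key x hx hxx
    have c := h.hcomm y₁ hy₁ r hr
    have e1 : q * y₁ * r = y' * r₀ := by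
      rw [← hfx']
      calc q * y₁ * r = q * (y₁ * r) := by group
        _ = q * (r * y₁) := by rw [c]
        _ = q * r * y₁ := by group
    obtain ⟨e2, -⟩ := h.decomp_unique (Q.mul_mem hq hy₁) hy' hr hr₀ e1
    rcases hq1 with rfl | rfl
    · apply hy'1; rw [← e2]; simp
    · exact hy'z e2.symm

/-- a maximiser of `rho` among the involutions of `P` is not in `R` -/
theorem max_not_R [Finite G] (h : Hyp P Q R z) {e : G} (he : e ∈ P) (hee : e * e = 1)
    (hmax : ∀ e' ∈ P, e' * e' = 1 → rho P e' ≤ rho P e) : e ∉ R := by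
  intro heR
  have h1 : 0 < rho P 1 := (rho_pos_iff P 1).mpr ⟨1, P.one_mem, by simp⟩
  have h2 : 0 < rho P e := lt_of_lt_of_le h1 (hmax 1 P.one_mem (by simp))
  have h3 := h.rho_lt heR h2
  have h4 : z * e * (z * e) = 1 := by
    have c := h.hcomm z h.hzQ e heR
    calc z * e * (z * e) = z * (e * z) * e := by group
      _ = z * (z * e) * e := by rw [c]
      _ = (z * z) * (e * e) := by group
      _ = 1 := by rw [h.hzz, hee, one_mul]
  have h5 := hmax (z * e) (P.mul_mem (h.hQP h.hzQ) he) h4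
  omega

end Hyp

end Cfsg.Agent.Lib.Lead.QxR
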