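import Mathlib
import Cfsg.Agent.Lib.Lead.QxR2

set_option autoImplicit false

/-!
`P = Q × R` a Sylow 2-subgroup: there is a nonidentity involution of `P` fixed by `N_G(P)`.
-/

namespace Cfsg.Agent.Lib.Lead.QxR

variable {G : Type*} [Group G]

/-- the subgroup of elements of `P` of order at most 2, when these are central in `P` -/
def Esub (P : Subgroup G) (hc : ∀ x ∈ P, x * x = 1 → ∀ y ∈ P, x * y = y * x) : Subgroup G where
  carrier := {x | x ∈ P ∧ x * x = 1}
  one_mem' := ⟨P.one_mem, by simp⟩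
  mul_mem' := by
    rintro a b ⟨ha, ha2⟩ ⟨hb, hb2⟩
    refine ⟨P.mul_mem ha hb, ?_⟩
    have := hc a ha ha2 b hb
    calc a * b * (a * b) = a * (b * a) * b := by group
      _ = a * (a * b) * b := by rw [this]
      _ = (a * a) * (b * b) := by group
      _ = 1 := by rw [ha2, hb2, one_mul]
  inv_mem' := by
    rintro a ⟨ha, ha2⟩
    have : a⁻¹ = a := inv_eq_of_mul_eq_one_left ha2
    rw [Set.mem_setOf_eq, this]; exact ⟨ha, ha2⟩

theorem mem_Esub {P : Subgroup G} {hc : ∀ x ∈ P, x * x = 1 → ∀ y ∈ P, x * y = y * x} {x : G} :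
    x ∈ Esub P hc ↔ x ∈ P ∧ x * x = 1 := Iff.rfl

/-- `Esub` is commutative -/
@[reducible] def EsubComm (P : Subgroup G) (hc : ∀ x ∈ P, x * x = 1 → ∀ y ∈ P, x * y = y * x) :
    CommGroup ↥(Esub P hc) :=
  { (inferInstance : Group ↥(Esub P hc)) with
    mul_comm := fun a b => Subtype.ext (hc a.1 a.2.1 a.2.2 b.1 b.2.1) }

/-- conjugation by an element of the normalizer, on `Esub` -/
def conjE (P : Subgroup G) (hc : ∀ x ∈ P, x * x = 1 → ∀ y ∈ P, x * y = y * x) (n : G)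
    (hn : n ∈ Subgroup.normalizer (P : Set G)) : ↥(Esub P hc) →* ↥(Esub P hc) :=
  MonoidHom.mk' (fun e => ⟨n * e.1 * n⁻¹, (Subgroup.mem_normalizer_iff.mp hn e.1).mp e.2.1, by
    have := e.2.2
    calc n * e.1 * n⁻¹ * (n * e.1 * n⁻¹) = n * (e.1 * e.1) * n⁻¹ := by group
      _ = 1 := by rw [this]; group⟩)
    (by intro a b; apply Subtype.ext; simp [mul_assoc])

@[simp] theorem conjE_coe (P : Subgroup G) (hc : ∀ x ∈ P, x * x = 1 → ∀ y ∈ P, x * y = y * x) (n : G)
    (hn : n ∈ Subgroup.normalizer (P : Set G)) (e : ↥(Esub P hc)) :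
    ((conjE P hc n hn e : ↥(Esub P hc)) : G) = n * e.1 * n⁻¹ := rfl

namespace Hyp

variable {P Q R : Subgroup G} {z : G}

theorem hc (h : Hyp P Q R z) : ∀ x ∈ P, x * x = 1 → ∀ y ∈ P, x * y = y * x :=
  fun _ hx hxx _ hy => h.invol_central hx hxx hy

/-- the sign: `1` on `R`, `-1` outside -/
noncomputable def sgn (h : Hyp P Q R z) : ↥(Esub P h.hc) →* ℤˣ := by
  classical
  exact MonoidHom.mk' (fun e => if e.1 ∈ R then 1 else -1) (by
    intro a b
    by_cases ha : a.1 ∈ R <;> by_cases hb : b.1 ∈ R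
    · have : a.1 * b.1 ∈ R := R.mul_mem ha hb
      simp [ha, hb, this]
    · have : a.1 * b.1 ∉ R := by
        intro hab
        apply hb
        have : b.1 = a.1⁻¹ * (a.1 * b.1) := by group
        rw [this]; exact R.mul_mem (R.inv_mem ha) hab
      simp [ha, hb, this]
    · have : a.1 * b.1 ∉ R := by
        intro hab
        apply ha
        have : a.1 = (a.1 * b.1) * b.1⁻¹ := by group
        rw [this]; exact R.mul_mem hab (R.inv_mem hb)
      simp [ha, hb, this]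
    · have : a.1 * b.1 ∈ R := by
        obtain ⟨r, hr, -, e1⟩ := h.invol_not_R a.2.1 a.2.2 ha
        obtain ⟨r', hr', -, e2⟩ := h.invol_not_R b.2.1 b.2.2 hb
        have c := h.zR_comm hr
        have : a.1 * b.1 = r * r' := by
          rw [e1, e2]
          calc z * r * (z * r') = (z * r) * z * r' := by group
            _ = (r * z) * z * r' := by rw [c]
            _ = r * (z * z) * r' := by group
            _ = r * r' := by rw [h.hzz]; group
        rw [this]; exact R.mul_mem hr hr'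
      simp [ha, hb, this])

theorem sgn_of_not_mem (h : Hyp P Q R z) {e : ↥(Esub P h.hc)} (he : e.1 ∉ R) : h.sgn e = -1 := by
  classical
  unfold sgn
  simp [MonoidHom.mk', he]

theorem sgn_of_mem (h : Hyp P Q R z) {e : ↥(Esub P h.hc)} (he : e.1 ∈ R) : h.sgn e = 1 := by
  classical
  unfold sgn
  simp [MonoidHom.mk', he]

end Hyp

variable [Finite G]

/-- existence of a nonidentity involution of `P` fixed by the normalizer of `P` -/
theorem exists_fixed (S : Sylow 2 G) {Q R : Subgroup G} {z : G} (h : Hyp (S : Subgroup G) Q R z) :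
    ∃ e₀ : G, e₀ ∈ (S : Subgroup G) ∧ e₀ * e₀ = 1 ∧ e₀ ≠ 1 ∧
      ∀ n ∈ Subgroup.normalizer ((S : Subgroup G) : Set G), n * e₀ * n⁻¹ = e₀ := by
  classical
  set P : Subgroup G := (S : Subgroup G) with hP
  have hc := h.hc
  letI : CommGroup ↥(Esub P hc) := EsubComm P hc
  -- a maximiser
  obtain ⟨e₁, he₁⟩ := Finite.exists_max (fun e : ↥(Esub P hc) => rho P e.1)
  have hmax : ∀ e' ∈ P, e' * e' = 1 → rho P e' ≤ rho P e₁.1 := fun e' h1 h2 => he₁ ⟨e', h1, h2⟩
  -- conjugates of e₁ are not in R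
  have hnR : ∀ n (hn : n ∈ Subgroup.normalizer (P : Set G)), (conjE P hc n hn e₁).1 ∉ R := by
    intro n hn
    apply h.max_not_R (conjE P hc n hn e₁).2.1 (conjE P hc n hn e₁).2.2
    intro e' h1 h2
    rw [conjE_coe, rho_conj P hn]
    exact hmax e' h1 h2
  -- a complement to P in its normalizer
  set Γ : Subgroup G := Subgroup.normalizer (P : Set G) with hΓ
  have hPΓ : P ≤ Γ := Subgroup.le_normalizer
  haveI : (P.subgroupOf Γ).Normal := Subgroup.normal_in_normalizer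
  have hcardP : ∃ k, Nat.card ↥(P.subgroupOf Γ) = 2 ^ k := by
    obtain ⟨k, hk⟩ := IsPGroup.iff_card.mp S.2
    exact ⟨k, by rw [Nat.card_congr (Subgroup.subgroupOfEquivOfLe hPΓ).toEquiv]; exact hk⟩
  have hodd : Odd (P.subgroupOf Γ).index := by
    have h1 : (P.subgroupOf Γ).index ∣ P.index := Subgroup.relIndex_dvd_index_of_le hPΓ
    have h2 : ¬ 2 ∣ P.index := S.not_dvd_index
    rw [← Nat.not_even_iff_odd, even_iff_two_dvd]
    exact fun h3 => h2 (dvd_trans h3 h1)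
  obtain ⟨k, hk⟩ := hcardP
  have hcop : Nat.Coprime (Nat.card ↥(P.subgroupOf Γ)) (P.subgroupOf Γ).index := by
    rw [hk]
    exact Nat.Coprime.pow_left _ (Nat.coprime_two_left.mpr hodd)
  obtain ⟨K, hK⟩ := Subgroup.exists_left_complement'_of_coprime hcop
  have hKodd : Odd (Nat.card ↥K) := by rw [← hK.index_eq_card]; exact hodd
  haveI : Fintype ↥K := Fintype.ofFinite _
  -- the product
  set e₀ : ↥(Esub P hc) := ∏ k : ↥K, conjE P hc ((k : ↥Γ) : G) (k : ↥Γ).2 e₁ with he₀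
  have hsgn : h.sgn e₀ = -1 := by
    rw [he₀, map_prod]
    have : ∀ k : ↥K, h.sgn (conjE P hc ((k : ↥Γ) : G) (k : ↥Γ).2 e₁) = -1 :=
      fun k => h.sgn_of_not_mem (hnR _ _)
    rw [Finset.prod_congr rfl (fun k _ => this k), Finset.prod_const, Finset.card_univ,
      ← Nat.card_eq_fintype_card]
    exact hKodd.neg_one_pow
  have hne1 : e₀ ≠ 1 := by
    intro h1
    rw [h1, map_one] at hsgn
    exact absurd hsgn (by decide)
  -- invariance under K
  have hKinv : ∀ k₀ : ↥K, conjE P hc ((k₀ : ↥Γ) : G) (k₀ : ↥Γ).2 e₀ = e₀ := by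
    intro k₀
    rw [he₀, map_prod]
    apply Fintype.prod_equiv (Equiv.mulLeft k₀)
    intro k
    apply Subtype.ext
    simp [mul_assoc]
  -- invariance under P
  have hPinv : ∀ p ∈ P, p * e₀.1 * p⁻¹ = e₀.1 := by
    intro p hp
    have := hc e₀.1 e₀.2.1 e₀.2.2 p hp
    calc p * e₀.1 * p⁻¹ = (p * e₀.1) * p⁻¹ := rfl
      _ = (e₀.1 * p) * p⁻¹ := by rw [this]
      _ = e₀.1 := by group
  refine ⟨e₀.1, e₀.2.1, e₀.2.2, fun h1 => hne1 (Subtype.ext h1), ?_⟩
  intro n hn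
  -- decompose n = k * p
  obtain ⟨⟨k, p⟩, hkp⟩ := hK.2 (⟨n, hn⟩ : ↥Γ)
  have hkp' : ((k : ↥Γ) : G) * ((p : ↥Γ) : G) = n := by
    have := congrArg (Subtype.val) hkp
    simpa using this
  have hp : ((p : ↥Γ) : G) ∈ P := p.2
  have hk := congrArg Subtype.val (hKinv k)
  rw [conjE_coe] at hk
  rw [← hkp']
  calc ((k : ↥Γ) : G) * ((p : ↥Γ) : G) * e₀.1 * (((k : ↥Γ) : G) * ((p : ↥Γ) : G))⁻¹
      = ((k : ↥Γ) : G) * (((p : ↥Γ) : G) * e₀.1 * ((p : ↥Γ) : G)⁻¹) * ((k : ↥Γ) : G)⁻¹ := by group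
    _ = ((k : ↥Γ) : G) * e₀.1 * ((k : ↥Γ) : G)⁻¹ := by rw [hPinv _ hp]
    _ = e₀.1 := hk

end Cfsg.Agent.Lib.Lead.QxR
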