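import Mathlib
import Cfsg.Prelude.Def_TwoFusion
import Cfsg.Agent.Lib.Lead.QxR3
import Cfsg.Agent.S0215

set_option autoImplicit false

/-!
A finite group whose Sylow 2-subgroup is `Q × R`, `Q` generalized quaternion, involutions of `R`
central in `R`, is not simple (Glauberman's Z*-theorem applied to an involution of `Ω₁(Z(S))` fixed
by `N_G(S)`).
-/

namespace Cfsg.Agent.Lib.Lead.QxR

variable {G : Type*} [Group G] [Finite G]

theorem hyp_of_quat (P Q R : Subgroup G) (hQR : Cfsg.IsInternalDirectProduct Q R P) (n : ℕ)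
    (hn : 1 ≤ n) (eQ : ↥Q ≃* QuaternionGroup (2 ^ n))
    (hR : ∀ r ∈ R, orderOf r = 2 → ∀ s ∈ R, r * s = s * r) : ∃ z : G, Hyp P Q R z := by
  obtain ⟨hQP, hRP, hcomm, hdisj, hsup⟩ := hQR
  have hm : 2 ≤ 2 ^ n := by
    calc 2 = 2 ^ 1 := by norm_num
      _ ≤ 2 ^ n := Nat.pow_le_pow_right (by norm_num) hn
  obtain ⟨z', hz1, hzz, hzu, y₁, y₂, y₃, h12, h13, h23, hs1, hs2, hs3⟩ := quat_facts (2 ^ n) hm
  have hsymm_sq : ∀ y w : QuaternionGroup (2 ^ n), y * y = w →
      ((eQ.symm y : ↥Q) : G) * ((eQ.symm y : ↥Q) : G) = ((eQ.symm w : ↥Q) : G) := by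
    intro y w hyw
    rw [← Subgroup.coe_mul, ← map_mul, hyw]
  have hinj : ∀ y w : QuaternionGroup (2 ^ n), y ≠ w →
      ((eQ.symm y : ↥Q) : G) ≠ ((eQ.symm w : ↥Q) : G) := by
    intro y w hyw h
    exact hyw (eQ.symm.injective (Subtype.ext h))
  refine ⟨((eQ.symm z' : ↥Q) : G), ?_⟩
  refine
    { hQP := hQP, hRP := hRP, hcomm := hcomm, hdisj := hdisj, hsup := hsup
      hzQ := (eQ.symm z').2
      hz1 := ?_
      hzz := ?_
      hzu := ?_
      hy := ⟨_, (eQ.symm y₁).2, _, (eQ.symm y₂).2, _, (eQ.symm y₃).2, hinj _ _ h12, hinj _ _ h13,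
        hinj _ _ h23, hsymm_sq _ _ hs1, hsymm_sq _ _ hs2, hsymm_sq _ _ hs3⟩
      hR := hR }
  · have := hinj z' 1 hz1
    simpa using this
  · have := hsymm_sq z' 1 hzz
    simpa using this
  · intro q hq hqq
    have h1 : eQ ⟨q, hq⟩ * eQ ⟨q, hq⟩ = 1 := by
      rw [← map_mul]
      have : (⟨q, hq⟩ : ↥Q) * ⟨q, hq⟩ = 1 := Subtype.ext hqq
      rw [this, map_one]
    rcases hzu _ h1 with h2 | h2
    · left
      have : (⟨q, hq⟩ : ↥Q) = 1 := by
        have := congrArg eQ.symm h2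
        simpa using this
      exact congrArg Subtype.val this
    · right
      have : (⟨q, hq⟩ : ↥Q) = eQ.symm z' := by
        have := congrArg eQ.symm h2
        simpa using this
      exact congrArg Subtype.val this

theorem main (S : Sylow 2 G) (Q R : Subgroup G)
    (hQR : Cfsg.IsInternalDirectProduct Q R (S : Subgroup G)) (n : ℕ) (hn : 1 ≤ n)
    (eQ : ↥Q ≃* QuaternionGroup (2 ^ n))
    (hR : ∀ r ∈ R, orderOf r = 2 → ∀ s ∈ R, r * s = s * r) : ¬ IsSimpleGroup G := by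
  intro hsimple
  obtain ⟨z, h⟩ := hyp_of_quat (S : Subgroup G) Q R hQR n hn eQ hR
  obtain ⟨e₀, he₀S, he₀2, he₀1, hfix⟩ := exists_fixed S h
  have hord : orderOf e₀ = 2 := orderOf_eq_prime (by rw [pow_two]; exact he₀2) he₀1
  -- e₀ is isolated in S
  have hiso : ∀ g : G, g * e₀ * g⁻¹ ∈ S → g * e₀ * g⁻¹ = e₀ := by
    intro g hg
    have hg2 : g * e₀ * g⁻¹ * (g * e₀ * g⁻¹) = 1 := by
      calc g * e₀ * g⁻¹ * (g * e₀ * g⁻¹) = g * (e₀ * e₀) * g⁻¹ := by group
        _ = 1 := by rw [he₀2]; group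
    have hc1 : e₀ ∈ Subgroup.centralizer ((S : Subgroup G) : Set G) := by
      rw [Subgroup.mem_centralizer_iff]
      intro y hy
      exact (h.invol_central he₀S he₀2 hy).symm
    have hc2 : (g⁻¹)⁻¹ * e₀ * g⁻¹ ∈ Subgroup.centralizer ((S : Subgroup G) : Set G) := by
      rw [inv_inv, Subgroup.mem_centralizer_iff]
      intro y hy
      exact (h.invol_central hg hg2 hy).symm
    obtain ⟨m, hm, hm2⟩ := Sylow.conj_eq_normalizer_conj_of_mem_centralizer S e₀ g⁻¹ hc1 hc2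
    rw [inv_inv] at hm2
    rw [hm2]
    have := hfix m⁻¹ (Subgroup.inv_mem _ hm)
    rwa [inv_inv] at this
  obtain ⟨N, hN, hNodd, hNc⟩ := Cfsg.Agent.S0215.result S e₀ hord he₀S hiso
  rcases hN.eq_bot_or_eq_top with hb | ht
  · -- e₀ central
    subst hb
    have hcent : ∀ g : G, e₀ * g = g * e₀ := by
      intro g
      have := hNc g
      rw [Subgroup.mem_bot] at this
      calc e₀ * g = (e₀ * g * e₀⁻¹ * g⁻¹) * g * e₀ := by group
        _ = g * e₀ := by rw [this, one_mul]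
    have hnorm : (Subgroup.zpowers e₀).Normal := by
      constructor
      intro x hx g
      rw [Subgroup.mem_zpowers_iff] at hx ⊢
      obtain ⟨k, rfl⟩ := hx
      refine ⟨k, ?_⟩
      have : Commute e₀ g := hcent g
      have h2 := (this.zpow_left k).eq
      calc e₀ ^ k = (e₀ ^ k * g) * g⁻¹ := by group
        _ = (g * e₀ ^ k) * g⁻¹ := by rw [h2]
        _ = g * e₀ ^ k * g⁻¹ := rfl
    rcases hnorm.eq_bot_or_eq_top with hb | ht
    · apply he₀1
      have : e₀ ∈ Subgroup.zpowers e₀ := Subgroup.mem_zpowers e₀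
      rw [hb, Subgroup.mem_bot] at this
      exact this
    · -- every element squares to 1, but z = y₁ * y₁ ≠ 1
      obtain ⟨y₁, hy₁, -, -, -, -, -, -, -, hs1, -, -⟩ := h.hy
      have : y₁ ∈ Subgroup.zpowers e₀ := by rw [ht]; exact Subgroup.mem_top _
      rw [Subgroup.mem_zpowers_iff] at this
      obtain ⟨k, rfl⟩ := this
      apply h.hz1
      rw [← hs1, ← zpow_add, ← two_mul, zpow_mul, zpow_ofNat, pow_two, he₀2, one_zpow]
  · subst ht
    rw [Subgroup.card_top] at hNodd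
    have : 2 ∣ Nat.card G := by rw [← hord]; exact orderOf_dvd_natCard e₀
    rw [← Nat.not_even_iff_odd, even_iff_two_dvd] at hNodd
    exact hNodd this

end Cfsg.Agent.Lib.Lead.QxR
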