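import Mathlib
import Cfsg.Agent.Lib.Lead.RankThree3
import Cfsg.Agent.S0130

set_option autoImplicit false
set_option linter.unusedSectionVars false
set_option linter.style.haveILetI false

/-! For odd `p`, a `p`-group with an elementary abelian subgroup of order `p ^ 4` has a normal one
(S0122). -/

namespace Cfsg.Agent.Lib.Lead.RankFour

open Cfsg Cfsg.Agent.Lib.Lead
open scoped commutatorElement Pointwise

variable {P : Type*} [Group P] [Finite P] {p : ℕ} [hp : Fact p.Prime]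

/-- a subgroup strictly between index-`p` layers: `A2 < B ≤ A`, `|A2| = p^2`, `|A| = p^3` gives `B = A` -/
theorem eq_of_lt_of_le (hP : IsPGroup p P) {A A2 B : Subgroup P} (hAc : Nat.card A = p ^ 3)
    (hA2c : Nat.card A2 = p ^ 2) (h1 : A2 < B) (h2 : B ≤ A) : B = A := by
  apply Subgroup.eq_of_le_of_card_ge h2
  obtain ⟨k, hk⟩ := IsPGroup.iff_card.mp (hP.to_subgroup B)
  have h3 : Nat.card A2 < Nat.card B := by
    by_contra h
    push Not at h
    exact h1.ne (Subgroup.eq_of_le_of_card_ge h1.le h)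
  rw [hA2c, hk] at h3
  have h4 : 2 < k := (Nat.pow_lt_pow_iff_right hp.out.one_lt).mp h3
  rw [hAc, hk]
  exact Nat.pow_le_pow_right hp.out.pos h4

/-- the data: `A` normal elementary abelian of order `p ^ 3` with Alperin's property, `A2 < A`
normal of order `p ^ 2`, `a0 ∈ A` central modulo `A2` -/
structure Ctx (p : ℕ) (A A2 : Subgroup P) (a0 : P) : Prop where
  hP : IsPGroup p P
  hp2 : p ≠ 2
  hAn : A.Normal
  hAe : IsElementaryAbelian p A
  hAc : Nat.card A = p ^ 3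
  halp : ∀ x ∈ Subgroup.centralizer (A : Set P), x ^ p = 1 → x ∈ A
  hA2n : A2.Normal
  hA2A : A2 ≤ A
  hA2c : Nat.card A2 = p ^ 2
  ha0 : a0 ∈ A
  ha0' : a0 ∉ A2
  hcomm : ∀ g : P, ⁅a0, g⁆ ∈ A2

/-- the family of elementary abelian subgroups of order `p ^ 4` containing `A2` -/
structure Fam (p : ℕ) (A2 F : Subgroup P) : Prop where
  hFe : IsElementaryAbelian p F
  hFc : Nat.card F = p ^ 4
  hA2F : A2 ≤ F

namespace Ctx

variable {A A2 : Subgroup P} {a0 : P}

theorem comm_A (c : Ctx p A A2 a0) {x y : P} (hx : x ∈ A) (hy : y ∈ A) : x * y = y * x := by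
  have := c.hAe.1.is_comm.comm ⟨x, hx⟩ ⟨y, hy⟩
  exact congrArg Subtype.val this

/-- an element centralizing `A2` and some `a ∈ A ∖ A2` centralizes `A` -/
theorem mem_centralizer_A (c : Ctx p A A2 a0) {x a : P} (hx : x ∈ Subgroup.centralizer (A2 : Set P))
    (ha : a ∈ A) (ha' : a ∉ A2) (hxa : x * a = a * x) : x ∈ Subgroup.centralizer (A : Set P) := by
  set B : Subgroup P := A ⊓ Subgroup.centralizer ({x} : Set P) with hB
  have h1 : A2 < B := by
    refine lt_of_le_of_ne (le_inf c.hA2A ?_) ?_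
    · intro y hy
      rw [Subgroup.mem_centralizer_singleton_iff]
      exact (Subgroup.mem_centralizer_iff.mp hx y hy)
    · intro h
      apply ha'
      rw [h]
      exact ⟨ha, Subgroup.mem_centralizer_singleton_iff.mpr hxa.symm⟩
  have h2 := eq_of_lt_of_le c.hP c.hAc c.hA2c h1 inf_le_left
  rw [Subgroup.mem_centralizer_iff]
  intro y hy
  have : y ∈ B := by rw [h2]; exact hy
  exact (Subgroup.mem_centralizer_singleton_iff.mp this.2)

variable {F F' E : Subgroup P}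

theorem comm_F (hF : Fam p A2 F) {x y : P} (hx : x ∈ F) (hy : y ∈ F) : x * y = y * x := by
  have := hF.hFe.1.is_comm.comm ⟨x, hx⟩ ⟨y, hy⟩
  exact congrArg Subtype.val this

theorem F_le_centralizer_A2 (hF : Fam p A2 F) : F ≤ Subgroup.centralizer (A2 : Set P) := by
  intro f hf
  rw [Subgroup.mem_centralizer_iff]
  intro y hy
  exact comm_F hF (hF.hA2F hy) hf

/-- `F ∩ A = A2` -/
theorem inf_eq (c : Ctx p A A2 a0) (hF : Fam p A2 F) : F ⊓ A = A2 := by
  by_contra hne
  have h1 : A2 < F ⊓ A := lt_of_le_of_ne (le_inf hF.hA2F c.hA2A) (Ne.symm hne)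
  have h2 := eq_of_lt_of_le c.hP c.hAc c.hA2c h1 inf_le_right
  have hAF : A ≤ F := by rw [← h2]; exact inf_le_left
  have hFA : F ≤ A := by
    intro f hf
    apply c.halp f _ (hF.hFe.2 f hf)
    rw [Subgroup.mem_centralizer_iff]
    intro y hy
    exact comm_F hF (hAF hy) hf
  have := Subgroup.card_le_of_le hFA
  rw [hF.hFc, c.hAc] at this
  exact absurd this (not_le.mpr (Nat.pow_lt_pow_right hp.out.one_lt (by norm_num)))

end Ctx

theorem card_eq_relIndex_mul {H K : Subgroup P} (h : H ≤ K) :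
    Nat.card K = H.relIndex K * Nat.card H := by
  have := Subgroup.relIndex_mul_relIndex ⊥ H K bot_le h
  rw [Subgroup.relIndex_bot_left, Subgroup.relIndex_bot_left] at this
  rw [← this, mul_comm]

namespace Ctx

variable {A A2 : Subgroup P} {a0 : P} {F F' E : Subgroup P}

theorem card_sup (c : Ctx p A A2 a0) (hF : Fam p A2 F) : Nat.card ↥(F ⊔ A) = p ^ 5 := by
  haveI := c.hAn
  have h1 : A.relIndex (F ⊔ A) = A.relIndex F := Subgroup.relIndex_sup_right _ _
  have h2 : (A ⊓ F).relIndex F = A.relIndex F := Subgroup.inf_relIndex_right _ _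
  have h3 := card_eq_relIndex_mul (inf_le_right : A ⊓ F ≤ F)
  rw [h2, inf_comm, c.inf_eq hF, hF.hFc, c.hA2c] at h3
  have h4 : A.relIndex F = p ^ 2 := by
    have : p ^ 2 * p ^ 2 = A.relIndex F * p ^ 2 := by rw [← h3]; ring
    exact (Nat.eq_of_mul_eq_mul_right (pow_pos hp.out.pos 2) this).symm
  have h5 := card_eq_relIndex_mul (le_sup_right : A ≤ F ⊔ A)
  rw [h1, h4, c.hAc] at h5
  rw [h5]; ring

theorem relIndex_sup (c : Ctx p A A2 a0) (hF : Fam p A2 F) : F.relIndex (F ⊔ A) = p := by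
  have h := card_eq_relIndex_mul (le_sup_left : F ≤ F ⊔ A)
  rw [c.card_sup hF, hF.hFc] at h
  have : p * p ^ 4 = F.relIndex (F ⊔ A) * p ^ 4 := by rw [← h]; ring
  exact (Nat.eq_of_mul_eq_mul_right (pow_pos hp.out.pos 4) this).symm

/-- `F` is the only member of the family inside `F A` -/
theorem uniq (c : Ctx p A A2 a0) (hF : Fam p A2 F) (hF' : Fam p A2 F') (h : F' ≤ F ⊔ A) :
    F' = F := by
  haveI := c.hAn
  by_contra hne
  have hnle : ¬ F' ≤ F := fun hle =>
    hne (Subgroup.eq_of_le_of_card_ge hle (by rw [hF.hFc, hF'.hFc]))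
  obtain ⟨f', hf', hf'F⟩ := SetLike.not_le_iff_exists.mp hnle
  have h1 : f' ∈ ((F ⊔ A : Subgroup P) : Set P) := h hf'
  rw [Subgroup.mul_normal] at h1
  obtain ⟨f, hf, a, ha, rfl⟩ := Set.mem_mul.mp h1
  have haF : a ∉ F := fun haF => hf'F (F.mul_mem hf haF)
  have haA2 : a ∉ A2 := fun h0 => haF (hF.hA2F h0)
  -- `F ∩ F' ≤ A2`
  have hD : F ⊓ F' ≤ A2 := by
    intro d hd
    have hdf : d * f = f * d := comm_F hF hd.1 hf
    have hdf' : d * (f * a) = f * a * d := comm_F hF' hd.2 hf'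
    have hda : d * a = a * d := by
      have : f * (d * a) = f * (a * d) := by
        calc f * (d * a) = d * f * a := by rw [hdf, mul_assoc]
          _ = d * (f * a) := by rw [mul_assoc]
          _ = f * a * d := hdf'
          _ = f * (a * d) := by rw [mul_assoc]
      exact mul_left_cancel this
    have hdA : d ∈ A := c.halp d
      (c.mem_centralizer_A (F_le_centralizer_A2 hF hd.1) ha haA2 hda) (hF.hFe.2 d hd.1)
    rw [← c.inf_eq hF]
    exact ⟨hd.1, hdA⟩
  -- counting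
  have h2 : F.relIndex F' ≤ p := by
    have := Subgroup.relIndex_le_of_le_right (H := F) h (by rw [c.relIndex_sup hF]; exact hp.out.ne_zero)
    rwa [c.relIndex_sup hF] at this
  have h3 : (F ⊓ F').relIndex F' = F.relIndex F' := Subgroup.inf_relIndex_right _ _
  have h4 := card_eq_relIndex_mul (inf_le_right : F ⊓ F' ≤ F')
  rw [h3, hF'.hFc] at h4
  have h5 : Nat.card ↥(F ⊓ F') ≤ p ^ 2 := by
    rw [← c.hA2c]; exact Subgroup.card_le_of_le hD
  have h6 : p ^ 4 ≤ p * p ^ 2 := by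
    rw [h4]; exact Nat.mul_le_mul h2 h5
  have h7 : p * p ^ 2 = p ^ 3 := by ring
  rw [h7] at h6
  exact absurd h6 (not_le.mpr (Nat.pow_lt_pow_right hp.out.one_lt (by norm_num)))

end Ctx

namespace Ctx

variable {A A2 : Subgroup P} {a0 : P} {F F' E : Subgroup P}

/-- the commutator map `E → A2`, `e ↦ [a0, e]` -/
def psi (c : Ctx p A A2 a0) (hE : Fam p A2 E) : ↥E →* ↥A2 where
  toFun e := ⟨⁅a0, (e : P)⁆, c.hcomm e⟩
  map_one' := by
    apply Subtype.ext
    simp [commutatorElement_def]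
  map_mul' e₁ e₂ := by
    obtain ⟨x, hx⟩ := e₁
    obtain ⟨y, hy⟩ := e₂
    apply Subtype.ext
    show ⁅a0, x * y⁆ = ⁅a0, x⁆ * ⁅a0, y⁆
    have h1 : x * ⁅a0, y⁆ = ⁅a0, y⁆ * x :=
      (Subgroup.mem_centralizer_iff.mp (F_le_centralizer_A2 hE hx) _ (c.hcomm y)).symm
    simp only [commutatorElement_def] at h1 ⊢
    calc a0 * (x * y) * a0⁻¹ * (x * y)⁻¹
        = a0 * x * a0⁻¹ * x⁻¹ * (x * (a0 * y * a0⁻¹ * y⁻¹)) * x⁻¹ := by group
      _ = a0 * x * a0⁻¹ * x⁻¹ * ((a0 * y * a0⁻¹ * y⁻¹) * x) * x⁻¹ := by rw [h1]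
      _ = a0 * x * a0⁻¹ * x⁻¹ * (a0 * y * a0⁻¹ * y⁻¹) := by group

theorem psi_apply (c : Ctx p A A2 a0) (hE : Fam p A2 E) (e : ↥E) :
    ((c.psi hE e : ↥A2) : P) = ⁅a0, (e : P)⁆ := rfl

theorem commute_of_commutator_eq_one {a x : P} (h : ⁅a, x⁆ = 1) : x * a = a * x := by
  rw [commutatorElement_def] at h
  have : a * x = x * a := by
    calc a * x = (a * x * a⁻¹ * x⁻¹) * (x * a) := by group
      _ = x * a := by rw [h, one_mul]
  exact this.symm

theorem ker_psi (c : Ctx p A A2 a0) (hE : Fam p A2 E) :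
    (c.psi hE).ker = A2.subgroupOf E := by
  ext e
  rw [MonoidHom.mem_ker, Subgroup.mem_subgroupOf]
  constructor
  · intro h
    have h1 : ⁅a0, (e : P)⁆ = 1 := by
      have := congrArg Subtype.val h
      simpa [psi_apply] using this
    have h2 := commute_of_commutator_eq_one h1
    have h3 := c.mem_centralizer_A (F_le_centralizer_A2 hE e.2) c.ha0 c.ha0' h2
    have h4 := c.halp e h3 (hE.hFe.2 e e.2)
    rw [← c.inf_eq hE]
    exact ⟨e.2, h4⟩
  · intro h
    apply Subtype.ext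
    rw [psi_apply]
    have := c.comm_A c.ha0 (c.hA2A h)
    show ⁅a0, (e : P)⁆ = 1
    rw [commutatorElement_def, this]
    group

theorem psi_surjective (c : Ctx p A A2 a0) (hE : Fam p A2 E) : Function.Surjective (c.psi hE) := by
  rw [← MonoidHom.range_eq_top]
  apply Subgroup.eq_top_of_le_card
  have h1 := Subgroup.index_ker (c.psi hE)
  have h2 := (c.psi hE).ker.card_mul_index
  rw [h1, c.ker_psi hE, hE.hFc] at h2
  have h3 : Nat.card ↥(A2.subgroupOf E) = p ^ 2 := by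
    rw [← c.hA2c]
    exact Nat.card_congr (Subgroup.subgroupOfEquivOfLe hE.hA2F).toEquiv
  rw [h3] at h2
  have h4 : Nat.card ↥(c.psi hE).range = p ^ 2 := by
    have : p ^ 2 * Nat.card ↥(c.psi hE).range = p ^ 2 * p ^ 2 := by rw [h2]; ring
    exact Nat.eq_of_mul_eq_mul_left (pow_pos hp.out.pos 2) this
  rw [h4, c.hA2c]

/-- if `E` and `F` normalize each other then `F ≤ E A` -/
theorem le_sup (c : Ctx p A A2 a0) (hE : Fam p A2 E) (hF : Fam p A2 F)
    (hFE : F ≤ Subgroup.normalizer (E : Set P)) (hEF : E ≤ Subgroup.normalizer (F : Set P)) :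
    F ≤ E ⊔ A := by
  intro f hf
  obtain ⟨⟨e, he⟩, hef⟩ := c.psi_surjective hE ⟨⁅a0, f⁆, c.hcomm f⟩
  have h1 : ⁅a0, e⁆ = ⁅a0, f⁆ := by
    have := congrArg Subtype.val hef
    simpa [psi_apply] using this
  -- `x = e⁻¹ f` commutes with `a0`
  have h2 : (e⁻¹ * f) * a0 = a0 * (e⁻¹ * f) := by
    rw [commutatorElement_def, commutatorElement_def] at h1
    have h3 : e * a0⁻¹ * e⁻¹ = f * a0⁻¹ * f⁻¹ := by
      have : a0 * (e * a0⁻¹ * e⁻¹) = a0 * (f * a0⁻¹ * f⁻¹) := by
        calc a0 * (e * a0⁻¹ * e⁻¹) = a0 * e * a0⁻¹ * e⁻¹ := by group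
          _ = a0 * f * a0⁻¹ * f⁻¹ := h1
          _ = a0 * (f * a0⁻¹ * f⁻¹) := by group
      exact mul_left_cancel this
    have h4 : (e⁻¹ * f) * a0⁻¹ = a0⁻¹ * (e⁻¹ * f) := by
      calc (e⁻¹ * f) * a0⁻¹ = e⁻¹ * (f * a0⁻¹ * f⁻¹) * f := by group
        _ = e⁻¹ * (e * a0⁻¹ * e⁻¹) * f := by rw [h3]
        _ = a0⁻¹ * (e⁻¹ * f) := by group
    calc (e⁻¹ * f) * a0 = a0 * (a0⁻¹ * (e⁻¹ * f)) * a0 := by group
      _ = a0 * ((e⁻¹ * f) * a0⁻¹) * a0 := by rw [h4]
      _ = a0 * (e⁻¹ * f) := by group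
  have h5 : e⁻¹ * f ∈ Subgroup.centralizer (A2 : Set P) :=
    Subgroup.mul_mem _ (Subgroup.inv_mem _ (F_le_centralizer_A2 hE he)) (F_le_centralizer_A2 hF hf)
  have h6 := c.mem_centralizer_A h5 c.ha0 c.ha0' h2
  -- `x ^ p = 1`
  have hcE : ⁅f, e⁻¹⁆ ∈ E := by
    rw [commutatorElement_def]
    have : f * e⁻¹ * f⁻¹ ∈ E :=
      (Subgroup.mem_normalizer_iff.mp (hFE hf) e⁻¹).mp (E.inv_mem he)
    have h := E.mul_mem this (E.inv_mem (E.inv_mem he))
    exact h
  have hcF : ⁅f, e⁻¹⁆ ∈ F := by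
    rw [commutatorElement_def]
    have : e⁻¹ * f⁻¹ * e⁻¹⁻¹ ∈ F :=
      (Subgroup.mem_normalizer_iff.mp (hEF (E.inv_mem he)) f⁻¹).mp (F.inv_mem hf)
    have h := F.mul_mem hf this
    have e' : f * (e⁻¹ * f⁻¹ * e⁻¹⁻¹) = f * e⁻¹ * f⁻¹ * e⁻¹⁻¹ := by group
    rwa [e'] at h
  have h7 : (e⁻¹ * f) ^ p = 1 := by
    rw [mul_pow_prime_of_commute_commutator c.hp2 e⁻¹ f (comm_F hE (E.inv_mem he) hcE)
      (comm_F hF hf hcF) (hE.hFe.2 _ hcE), hE.hFe.2 _ (E.inv_mem he), hF.hFe.2 _ hf, one_mul]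
  have h8 := c.halp _ h6 h7
  have : f = e * (e⁻¹ * f) := by group
  rw [this]
  exact Subgroup.mul_mem _ ((le_sup_left : E ≤ E ⊔ A) he) ((le_sup_right : A ≤ E ⊔ A) h8)

end Ctx

theorem mem_map_conj {g x : P} {E : Subgroup P} :
    x ∈ E.map (MulAut.conj g).toMonoidHom ↔ g⁻¹ * x * g ∈ E := by
  constructor
  · rintro ⟨y, hy, rfl⟩
    have : g⁻¹ * ((MulAut.conj g).toMonoidHom y) * g = y := by
      simp [MulAut.conj_apply]; group
    rw [this]; exact hy
  · intro h
    refine ⟨g⁻¹ * x * g, h, ?_⟩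
    simp [MulAut.conj_apply]; group

namespace Ctx

variable {A A2 : Subgroup P} {a0 : P} {F F' E : Subgroup P}

theorem fam_conj (c : Ctx p A A2 a0) (hE : Fam p A2 E) (g : P) :
    Fam p A2 (E.map (MulAut.conj g).toMonoidHom) := by
  haveI := c.hA2n
  refine ⟨⟨⟨⟨?_⟩⟩, ?_⟩, ?_, ?_⟩
  · rintro ⟨x, hx⟩ ⟨y, hy⟩
    apply Subtype.ext
    rw [mem_map_conj] at hx hy
    have h := comm_F hE hx hy
    show x * y = y * x
    have h2 : g⁻¹ * (x * y) * g = g⁻¹ * (y * x) * g := by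
      calc g⁻¹ * (x * y) * g = (g⁻¹ * x * g) * (g⁻¹ * y * g) := by group
        _ = (g⁻¹ * y * g) * (g⁻¹ * x * g) := h
        _ = g⁻¹ * (y * x) * g := by group
    exact mul_left_cancel (mul_right_cancel h2)
  · intro x hx
    rw [mem_map_conj] at hx
    have h := hE.hFe.2 _ hx
    have h2 : g⁻¹ * x * g = (MulAut.conj g⁻¹) x := by simp [MulAut.conj_apply]
    rw [h2, ← map_pow] at h
    have h3 : (MulAut.conj g⁻¹) (x ^ p) = (MulAut.conj g⁻¹) 1 := by rw [h, map_one]
    exact (MulAut.conj g⁻¹).injective h3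
  · rw [Subgroup.card_map_of_injective (MulAut.conj g).injective, hE.hFc]
  · intro x hx
    rw [mem_map_conj]
    apply hE.hA2F
    have := c.hA2n.conj_mem x hx g⁻¹
    simpa using this

/-- every member of the family is normal -/
theorem normal_of_fam (c : Ctx p A A2 a0) (hE : Fam p A2 E) : E.Normal := by
  rw [← Subgroup.normalizer_eq_top_iff]
  by_contra hne
  haveI : Group.IsNilpotent P := c.hP.isNilpotent
  have hlt := Group.normalizerCondition_of_isNilpotent (G := P) (Subgroup.normalizer (E : Set P))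
    (lt_top_iff_ne_top.mpr hne)
  obtain ⟨g, hgN, hgE⟩ := SetLike.exists_of_lt hlt
  have hFam := c.fam_conj hE g
  have hgN' : ∀ x, x ∈ Subgroup.normalizer (E : Set P) ↔
      g * x * g⁻¹ ∈ Subgroup.normalizer (E : Set P) := Subgroup.mem_normalizer_iff.mp hgN
  have hFN : E.map (MulAut.conj g).toMonoidHom ≤ Subgroup.normalizer (E : Set P) := by
    rintro _ ⟨y, hy, rfl⟩
    have : g * y * g⁻¹ ∈ Subgroup.normalizer (E : Set P) :=
      (hgN' y).mp (Subgroup.le_normalizer hy)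
    simpa [MulAut.conj_apply] using this
  have hEF : E ≤ Subgroup.normalizer ((E.map (MulAut.conj g).toMonoidHom : Subgroup P) : Set P) := by
    intro e he
    have h1 : g⁻¹ * e * g ∈ Subgroup.normalizer (E : Set P) := by
      have := (hgN' (g⁻¹ * e * g)).mpr (by
        have e' : g * (g⁻¹ * e * g) * g⁻¹ = e := by group
        rw [e']; exact Subgroup.le_normalizer he)
      exact this
    rw [Subgroup.mem_normalizer_iff]
    intro x
    rw [mem_map_conj, mem_map_conj]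
    have h2 := Subgroup.mem_normalizer_iff.mp h1 (g⁻¹ * x * g)
    rw [h2]
    have e' : g⁻¹ * e * g * (g⁻¹ * x * g) * (g⁻¹ * e * g)⁻¹ = g⁻¹ * (e * x * e⁻¹) * g := by group
    rw [e']
  have h1 := c.le_sup hE hFam hFN hEF
  have h2 := c.uniq hE hFam h1
  apply hgE
  rw [Subgroup.mem_normalizer_iff]
  intro x
  constructor
  · intro hx
    have : g * x * g⁻¹ ∈ E.map (MulAut.conj g).toMonoidHom := ⟨x, hx, by simp⟩
    rw [h2] at this
    exact this
  · intro hx
    rw [← h2, mem_map_conj] at hx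
    have e' : g⁻¹ * (g * x * g⁻¹) * g = x := by group
    rwa [e'] at hx

end Ctx

/-- a subgroup of an elementary abelian subgroup is elementary abelian -/
theorem elemAb_of_le {E F : Subgroup P} (hE : IsElementaryAbelian p E) (h : F ≤ E) :
    IsElementaryAbelian p F := by
  refine ⟨⟨⟨?_⟩⟩, fun x hx => hE.2 x (h hx)⟩
  rintro ⟨x, hx⟩ ⟨y, hy⟩
  apply Subtype.ext
  have := congrArg Subtype.val (hE.1.is_comm.comm ⟨x, h hx⟩ ⟨y, h hy⟩)
  exact this

/-- steps 1–3: building the context -/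
theorem exists_ctx (hP : IsPGroup p P) (hp2 : p ≠ 2)
    (hno : ∀ B : Subgroup P, B.Normal → IsElementaryAbelian p B → Nat.card B ≠ p ^ 4)
    (E : Subgroup P) (hE : IsElementaryAbelian p E) (hE4 : Nat.card E = p ^ 4) :
    ∃ (A A2 : Subgroup P) (a0 : P), Ctx p A A2 a0 := by
  -- step 1
  have h1 : ∃ A : Subgroup P, A.Normal ∧ IsMulCommutative A ∧ (∀ a ∈ A, a ^ p = 1) ∧
      Nat.card A = p ^ 3 := by
    by_contra hcon
    push Not at hcon
    have := card_le_sq_of_no_normal_cube hp2 hP (fun A hAn hAc hAe => hcon A hAn hAc hAe)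
      E hE.1 hE.2
    rw [hE4] at this
    exact absurd this (not_le.mpr (Nat.pow_lt_pow_right hp.out.one_lt (by norm_num)))
  obtain ⟨A, hAn, hAc, hAe, hAcard⟩ := h1
  haveI := hAn
  -- step 2
  have hmax : ∀ B : Subgroup P, B.Normal → IsMulCommutative B → (∀ b ∈ B, b ^ p ^ 1 = 1) →
      A ≤ B → B = A := by
    intro B hBn hBc hBe hAB
    by_contra hne
    haveI := hBn
    have hlt : A < B := lt_of_le_of_ne hAB (Ne.symm hne)
    obtain ⟨B', e, hB'n, hAB', hB'B, hrel, -, -, -⟩ := exists_normal_relIndex_p_le hP A B hlt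
    have hc := card_eq_relIndex_mul hAB'
    rw [hrel, hAcard] at hc
    refine hno B' hB'n (elemAb_of_le ⟨hBc, fun b hb => ?_⟩ hB'B) (by rw [hc]; ring)
    simpa using hBe b hb
  have halp : ∀ x ∈ Subgroup.centralizer (A : Set P), x ^ p = 1 → x ∈ A := by
    intro x hx hxp
    exact Cfsg.Agent.S0130.result hP 1 (by simpa using hp2) A hAc
      (fun a ha => by simpa using hAe a ha) hmax x hx (by simpa using hxp)
  -- step 3
  have hbot : (⊥ : Subgroup P) < A := by
    rw [bot_lt_iff_ne_bot]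
    rintro rfl
    rw [Subgroup.card_bot] at hAcard
    have := Nat.one_lt_pow (n := 3) (by norm_num) hp.out.one_lt
    omega
  obtain ⟨B1, -, hB1n, -, hB1A, hrel1, -, -, -⟩ := exists_normal_relIndex_p_le hP ⊥ A hbot
  haveI := hB1n
  have hc1 := card_eq_relIndex_mul (bot_le : (⊥ : Subgroup P) ≤ B1)
  rw [hrel1, Subgroup.card_bot, mul_one] at hc1
  have hlt1 : B1 < A := by
    refine lt_of_le_of_ne hB1A ?_
    rintro rfl
    rw [hc1] at hAcard
    have := Nat.pow_lt_pow_right hp.out.one_lt (show 1 < 3 by norm_num)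
    rw [pow_one] at this
    omega
  obtain ⟨B2, -, hB2n, hB12, hB2A, hrel2, -, -, -⟩ := exists_normal_relIndex_p_le hP B1 A hlt1
  haveI := hB2n
  have hc2 := card_eq_relIndex_mul hB12
  rw [hrel2, hc1] at hc2
  have hc2' : Nat.card B2 = p ^ 2 := by rw [hc2]; ring
  have hlt2 : B2 < A := by
    refine lt_of_le_of_ne hB2A ?_
    rintro rfl
    rw [hc2'] at hAcard
    have := Nat.pow_lt_pow_right hp.out.one_lt (show 2 < 3 by norm_num)
    omega
  obtain ⟨B3, a0, -, -, hB3A, -, ha0, ha0', hcomm⟩ := exists_normal_relIndex_p_le hP B2 A hlt2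
  exact ⟨A, B2, a0, ⟨hP, hp2, hAn, ⟨hAc, hAe⟩, hAcard, halp, hB2n, hB2A, hc2', hB3A ha0, ha0',
    hcomm⟩⟩

namespace Ctx

variable {A A2 : Subgroup P} {a0 : P} {F F' E : Subgroup P}

/-- step 4: an elementary abelian subgroup of order `p ^ 4` containing `A2` -/
theorem exists_fam (c : Ctx p A A2 a0) (hE : IsElementaryAbelian p E) (hE4 : Nat.card E = p ^ 4) :
    ∃ F : Subgroup P, Fam p A2 F := by
  haveI := c.hA2n
  by_cases hA2E : A2 ≤ E
  · exact ⟨E, hE, hE4, hA2E⟩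
  set C := Subgroup.centralizer (A2 : Set P) with hC
  set E0 := E ⊓ C with hE0
  -- `|E0| ≥ p ^ 3`
  have hidx : C.index ≤ p := by
    have h1 := card_le_card_centralizer_mul_of_sq c.hP A2 c.hA2c
    have h2 := Subgroup.card_mul_index C
    rw [← h2] at h1
    exact Nat.le_of_mul_le_mul_left h1 Nat.card_pos
  have hrel : E0.relIndex E ≤ p := by
    rw [hE0, Subgroup.inf_relIndex_left]
    refine le_trans (Nat.le_of_dvd ?_ (Subgroup.relIndex_dvd_index_of_normal C E)) hidx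
    exact Nat.pos_of_ne_zero Subgroup.index_ne_zero_of_finite
  have hE0c : p ^ 3 ≤ Nat.card E0 := by
    have h := card_eq_relIndex_mul (inf_le_left : E0 ≤ E)
    rw [hE4] at h
    have h2 : p ^ 3 * p ≤ Nat.card E0 * p := by
      calc p ^ 3 * p = p ^ 4 := by ring
        _ = E0.relIndex E * Nat.card E0 := h
        _ ≤ p * Nat.card E0 := Nat.mul_le_mul_right _ hrel
        _ = Nat.card E0 * p := by ring
    exact Nat.le_of_mul_le_mul_right h2 hp.out.pos
  -- `E' = E0 ⊔ A2` is elementary abelian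
  have hA2comm : ∀ x ∈ A2, ∀ y ∈ A2, x * y = y * x := fun x hx y hy =>
    c.comm_A (c.hA2A hx) (c.hA2A hy)
  have hEcomm : ∀ x ∈ E, ∀ y ∈ E, x * y = y * x := fun x hx y hy =>
    congrArg Subtype.val (hE.1.is_comm.comm ⟨x, hx⟩ ⟨y, hy⟩)
  have hmem : ∀ x, x ∈ E0 ⊔ A2 ↔ ∃ e ∈ E0, ∃ a ∈ A2, e * a = x := by
    intro x
    rw [← SetLike.mem_coe, Subgroup.mul_normal, Set.mem_mul]
    simp only [SetLike.mem_coe]
  have hE' : IsElementaryAbelian p (E0 ⊔ A2 : Subgroup P) := by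
    refine ⟨⟨⟨?_⟩⟩, ?_⟩
    · rintro ⟨x, hx⟩ ⟨y, hy⟩
      apply Subtype.ext
      show x * y = y * x
      obtain ⟨e, he, a, ha, rfl⟩ := (hmem x).mp hx
      obtain ⟨e', he', a', ha', rfl⟩ := (hmem y).mp hy
      have h1 := hEcomm e he.1 e' he'.1
      have h2 := hA2comm a ha a' ha'
      have h3 : a * e' = e' * a := Subgroup.mem_centralizer_iff.mp he'.2 a ha
      have h4 : a' * e = e * a' := Subgroup.mem_centralizer_iff.mp he.2 a' ha'
      calc e * a * (e' * a') = e * (a * e') * a' := by group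
        _ = e * (e' * a) * a' := by rw [h3]
        _ = (e * e') * (a * a') := by group
        _ = (e' * e) * (a' * a) := by rw [h1, h2]
        _ = e' * (e * a') * a := by group
        _ = e' * (a' * e) * a := by rw [h4]
        _ = e' * a' * (e * a) := by group
    · intro x hx
      obtain ⟨e, he, a, ha, rfl⟩ := (hmem x).mp hx
      have h3 : Commute e a := (Subgroup.mem_centralizer_iff.mp he.2 a ha).symm
      rw [h3.mul_pow, hE.2 e he.1, c.hAe.2 a (c.hA2A ha), one_mul]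
  -- `|E'| ≥ p ^ 4`
  have hlt : E0 < E0 ⊔ A2 := by
    refine lt_of_le_of_ne le_sup_left ?_
    intro h
    apply hA2E
    have : A2 ≤ E0 := by rw [h]; exact le_sup_right
    exact this.trans inf_le_left
  obtain ⟨k, hk⟩ := IsPGroup.iff_card.mp (c.hP.to_subgroup (E0 ⊔ A2))
  have hk4 : 4 ≤ k := by
    have h3 : Nat.card E0 < Nat.card ↥(E0 ⊔ A2) := by
      by_contra h
      push Not at h
      exact hlt.ne (Subgroup.eq_of_le_of_card_ge hlt.le h)
    rw [hk] at h3
    have : p ^ 3 < p ^ k := lt_of_le_of_lt hE0c h3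
    exact (Nat.pow_lt_pow_iff_right hp.out.one_lt).mp this
  -- pick a subgroup of order `p ^ 4` containing `A2`
  have hA2sub : Nat.card (A2.subgroupOf (E0 ⊔ A2)) = p ^ 2 := by
    rw [← c.hA2c]
    exact Nat.card_congr (Subgroup.subgroupOfEquivOfLe le_sup_right).toEquiv
  obtain ⟨K, hKc, hAK⟩ := Sylow.exists_subgroup_card_pow_prime_le (G := ↥(E0 ⊔ A2)) p
    (n := 2) (m := 4) (by rw [hk]; exact pow_dvd_pow p hk4) (A2.subgroupOf (E0 ⊔ A2)) hA2sub
    (by norm_num)
  refine ⟨K.map (E0 ⊔ A2).subtype, ?_, ?_, ?_⟩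
  · apply elemAb_of_le hE'
    rintro _ ⟨y, -, rfl⟩
    exact y.2
  · rw [Subgroup.card_map_of_injective (Subgroup.subtype_injective _), hKc]
  · intro x hx
    have hx' : x ∈ E0 ⊔ A2 := (le_sup_right : A2 ≤ E0 ⊔ A2) hx
    refine ⟨⟨x, hx'⟩, hAK ?_, rfl⟩
    rw [Subgroup.mem_subgroupOf]
    exact hx

end Ctx

/-- **For odd `p`, a `p`-group containing an elementary abelian subgroup of order `p ^ 4` has a
normal one.** -/
theorem exists_normal_elemAb_four (hP : IsPGroup p P) (hp2 : p ≠ 2)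
    (E : Subgroup P) (hE : IsElementaryAbelian p E) (hE4 : Nat.card E = p ^ 4) :
    ∃ B : Subgroup P, B.Normal ∧ IsElementaryAbelian p B ∧ Nat.card B = p ^ 4 := by
  by_contra hcon
  push Not at hcon
  obtain ⟨A, A2, a0, c⟩ := exists_ctx hP hp2 hcon E hE hE4
  obtain ⟨F, hF⟩ := c.exists_fam hE hE4
  exact hcon F (c.normal_of_fam hF) hF.hFe hF.hFc
end Cfsg.Agent.Lib.Lead.RankFour
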