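import Mathlib
import Cfsg.Agent.Lib.Lead.RankFour1

set_option autoImplicit false
set_option linter.unusedSectionVars false
set_option linter.style.haveILetI false

/-! A `3`-group of rank at least `4` is `2`-connected (S1338). -/

namespace Cfsg.Agent.Lib.Lead.RankFour

open Cfsg Cfsg.Agent.Lib.Lead
open scoped commutatorElement Pointwise

section gen
variable {G G' : Type*} [Group G] [Group G'] [Finite G]

theorem card_le_card_map_mul_card_ker (f : G →* G') (K : Subgroup G) :
    Nat.card K ≤ Nat.card (K.map f) * Nat.card f.ker := by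
  have h := card_eq_relIndex_mul (inf_le_right : f.ker ⊓ K ≤ K)
  rw [Subgroup.inf_relIndex_right, Subgroup.relIndex_ker] at h
  rw [h]
  exact Nat.mul_le_mul_left _ (Subgroup.card_le_of_le inf_le_left)

/-- the closure of a set of pairwise commuting elements of order dividing `p` is elementary
abelian -/
theorem elemAb_closure {p : ℕ} (S : Set G) (hc : ∀ x ∈ S, ∀ y ∈ S, x * y = y * x)
    (hp : ∀ x ∈ S, x ^ p = 1) : IsElementaryAbelian p (Subgroup.closure S) := by
  have h1 : Subgroup.closure S ≤ Subgroup.centralizer (Subgroup.closure S : Set G) := by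
    rw [Subgroup.centralizer_closure]
    rw [Subgroup.closure_le]
    intro x hx
    simp only [Subgroup.coe_iInf, Set.mem_iInter, SetLike.mem_coe]
    intro y hy
    exact hc y hy x hx
  have h2 : IsMulCommutative (Subgroup.closure S) := Subgroup.le_centralizer_iff_isMulCommutative.mp h1
  refine ⟨h2, ?_⟩
  intro a ha
  induction ha using Subgroup.closure_induction with
  | mem x hx => exact hp x hx
  | one => exact one_pow _
  | mul x y hx hy hx' hy' =>
    have hxy : Commute x y := by
      have := h1 hy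
      rw [Subgroup.mem_centralizer_iff] at this
      exact this x hx
    rw [hxy.mul_pow, hx', hy', one_mul]
  | inv x hx hx' => rw [inv_pow, hx', inv_one]

end gen

theorem reflTransGen_symm {α : Type*} {r : α → α → Prop} (hs : ∀ x y, r x y → r y x) {a b : α}
    (h : Relation.ReflTransGen r a b) : Relation.ReflTransGen r b a := by
  induction h with
  | refl => exact Relation.ReflTransGen.refl
  | tail _ hbc ih => exact Relation.ReflTransGen.head (hs _ _ hbc) ih

theorem comm_identity {α : Type*} [CommGroup α] (a b c : α) :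
    ((a / c) / (c / b)) / ((c / b) / (b / a)) = b ^ 3 / c ^ 3 := by
  apply Additive.ofMul.injective
  simp only [ofMul_div, ofMul_pow]
  abel

variable {P : Type*} [Group P] [Finite P]

/-- an element of order dividing `3` normalizing an elementary abelian group of order `3 ^ 4`
centralizes at least `9` of its elements (Jordan blocks have size at most `3`) -/
theorem nine_le_card_inf_centralizer (A : Subgroup P) [hAn : A.Normal]
    (hA : IsElementaryAbelian 3 A) (hAc : Nat.card A = 3 ^ 4) (e : P) (he : e ^ 3 = 1) :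
    9 ≤ Nat.card ↥(A ⊓ Subgroup.centralizer ({e} : Set P)) := by
  classical
  have hcomm : ∀ a b : A, a * b = b * a := fun a b => hA.1.is_comm.comm a b
  letI : CommGroup ↥A := { (inferInstance : Group ↥A) with mul_comm := hcomm }
  have hcube : ∀ a : A, a ^ 3 = 1 := fun a => Subtype.ext (by simpa using hA.2 a a.2)
  set σ : MulAut ↥A := MulAut.conjNormal e with hσ
  have hσ3 : ∀ a, σ (σ (σ a)) = a := by
    intro a
    apply Subtype.ext
    simp only [hσ, MulAut.conjNormal_apply]
    have : e * (e * (e * (a : P) * e⁻¹) * e⁻¹) * e⁻¹ = e ^ 3 * a * (e ^ 3)⁻¹ := by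
      simp only [pow_succ, pow_zero, one_mul, mul_inv_rev, mul_assoc]
    rw [this, he]; simp
  set f : ↥A →* ↥A := σ.toMonoidHom / MonoidHom.id ↥A with hf
  have hfa : ∀ a, f a = σ a / a := fun a => rfl
  have hf3 : ∀ a, f (f (f a)) = 1 := by
    intro a
    simp only [hfa, map_div, hσ3]
    rw [comm_identity, hcube, hcube, div_one]
  have h1 := card_le_card_map_mul_card_ker f ⊤
  have h2 := card_le_card_map_mul_card_ker f ((⊤ : Subgroup ↥A).map f)
  have h3 := card_le_card_map_mul_card_ker f (((⊤ : Subgroup ↥A).map f).map f)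
  have h4 : (((⊤ : Subgroup ↥A).map f).map f).map f = ⊥ := by
    rw [eq_bot_iff]
    rintro _ ⟨_, ⟨_, ⟨a, -, rfl⟩, rfl⟩, rfl⟩
    rw [Subgroup.mem_bot]; exact hf3 a
  rw [h4, Subgroup.card_bot, one_mul] at h3
  rw [Subgroup.card_top, hAc] at h1
  have hK : Nat.card f.ker ∣ 3 ^ 4 := by
    rw [← hAc]; exact Subgroup.card_subgroup_dvd_card _
  obtain ⟨j, hj, hjK⟩ := (Nat.dvd_prime_pow Nat.prime_three).mp hK
  have h5 : 81 ≤ Nat.card f.ker ^ 3 := by
    calc 81 = 3 ^ 4 := by norm_num
      _ ≤ _ := h1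
      _ ≤ (Nat.card ↥(((⊤ : Subgroup ↥A).map f).map f) * Nat.card f.ker) * Nat.card f.ker :=
        Nat.mul_le_mul_right _ h2
      _ ≤ (Nat.card f.ker * Nat.card f.ker) * Nat.card f.ker :=
        Nat.mul_le_mul_right _ (Nat.mul_le_mul_right _ h3)
      _ = _ := by ring
  have h6 : 9 ≤ Nat.card f.ker := by
    rw [hjK] at h5 ⊢
    interval_cases j <;> omega
  have h7 : f.ker.map A.subtype = A ⊓ Subgroup.centralizer ({e} : Set P) := by
    ext x
    constructor
    · rintro ⟨a, ha, rfl⟩
      refine ⟨a.2, ?_⟩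
      rw [SetLike.mem_coe, MonoidHom.mem_ker, hfa, div_eq_one] at ha
      have := congrArg Subtype.val ha
      simp only [hσ, MulAut.conjNormal_apply] at this
      show (a : P) ∈ Subgroup.centralizer ({e} : Set P)
      rw [Subgroup.mem_centralizer_singleton_iff]
      have h8 : e * (a : P) = (a : P) * e := by
        calc e * (a : P) = (e * (a : P) * e⁻¹) * e := by group
          _ = (a : P) * e := by rw [this]
      exact h8.symm
    · rintro ⟨hxA, hxe⟩
      refine ⟨⟨x, hxA⟩, ?_, rfl⟩
      rw [SetLike.mem_coe, MonoidHom.mem_ker, hfa, div_eq_one]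
      apply Subtype.ext
      simp only [hσ, MulAut.conjNormal_apply]
      have hxe' : x ∈ Subgroup.centralizer ({e} : Set P) := hxe
      rw [Subgroup.mem_centralizer_singleton_iff] at hxe'
      have h8 : e * x = x * e := hxe'.symm
      rw [h8]; group
  rw [← h7, Subgroup.card_map_of_injective (Subgroup.subtype_injective _)]
  exact h6

/-- every elementary abelian subgroup of order at least `9` is joined to `A` -/
theorem reach (hP : IsPGroup 3 P) (A : Subgroup P) [hAn : A.Normal]
    (hAe : IsElementaryAbelian 3 A) (hAc : Nat.card A = 3 ^ 4) (z : P) (hzA : z ∈ A) (hz1 : z ≠ 1)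
    (hzc : ∀ g : P, z * g = g * z) (E : Subgroup P) (hE : IsElementaryAbelian 3 E)
    (hEc : 3 ^ 2 ≤ Nat.card E) :
    Relation.ReflTransGen (fun A B : Subgroup P => IsElementaryAbelian 3 A ∧ 3 ^ 2 ≤ Nat.card ↥A ∧
      IsElementaryAbelian 3 B ∧ 3 ^ 2 ≤ Nat.card ↥B ∧ ∀ a ∈ A, ∀ b ∈ B, a * b = b * a) E A := by
  haveI : Fact (Nat.Prime 3) := ⟨Nat.prime_three⟩
  have hz3 : z ^ 3 = 1 := hAe.2 z hzA
  have hoz : orderOf z = 3 := by
    have h1 : orderOf z ∣ 3 := orderOf_dvd_of_pow_eq_one hz3
    rcases (Nat.dvd_prime Nat.prime_three).mp h1 with h | h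
    · exact absurd (orderOf_eq_one_iff.mp h) hz1
    · exact h
  have hcz : Nat.card (Subgroup.zpowers z) = 3 := by rw [Nat.card_zpowers, hoz]
  -- step 1
  obtain ⟨e, heE, hez⟩ : ∃ e ∈ E, e ∉ Subgroup.zpowers z := by
    by_contra hcon
    push Not at hcon
    have : E ≤ Subgroup.zpowers z := hcon
    have := Subgroup.card_le_of_le this
    rw [hcz] at this
    omega
  have he3 : e ^ 3 = 1 := hE.2 e heE
  have hEcomm : ∀ x ∈ E, ∀ y ∈ E, x * y = y * x := fun x hx y hy =>
    congrArg Subtype.val (hE.1.is_comm.comm ⟨x, hx⟩ ⟨y, hy⟩)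
  have hAcomm : ∀ x ∈ A, ∀ y ∈ A, x * y = y * x := fun x hx y hy =>
    congrArg Subtype.val (hAe.1.is_comm.comm ⟨x, hx⟩ ⟨y, hy⟩)
  -- step 2
  have hE2 : IsElementaryAbelian 3 (Subgroup.closure ({z, e} : Set P)) := by
    apply elemAb_closure
    · rintro x (rfl | rfl) y (rfl | rfl)
      · rfl
      · exact hzc _
      · exact (hzc _).symm
      · rfl
    · rintro x (rfl | rfl)
      · exact hz3
      · exact he3
  have hzE2 : z ∈ Subgroup.closure ({z, e} : Set P) := Subgroup.subset_closure (by simp)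
  have heE2 : e ∈ Subgroup.closure ({z, e} : Set P) := Subgroup.subset_closure (by simp)
  have hE2c : 3 ^ 2 ≤ Nat.card (Subgroup.closure ({z, e} : Set P)) := by
    have hlt : Subgroup.zpowers z < Subgroup.closure ({z, e} : Set P) := by
      refine lt_of_le_of_ne ?_ ?_
      · rw [Subgroup.zpowers_le]; exact hzE2
      · intro h; apply hez; rw [h]; exact heE2
    obtain ⟨k, hk⟩ := IsPGroup.iff_card.mp (hP.to_subgroup (Subgroup.closure ({z, e} : Set P)))
    have h3 : Nat.card (Subgroup.zpowers z) < Nat.card (Subgroup.closure ({z, e} : Set P)) := by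
      by_contra h
      push Not at h
      exact hlt.ne (Subgroup.eq_of_le_of_card_ge hlt.le h)
    rw [hcz, hk] at h3
    rw [hk]
    have : 1 < k := by
      by_contra h
      push Not at h
      interval_cases k <;> omega
    exact Nat.pow_le_pow_right (by norm_num) this
  -- step 3
  have hC : IsElementaryAbelian 3 (A ⊓ Subgroup.centralizer ({e} : Set P) : Subgroup P) :=
    elemAb_of_le hAe inf_le_left
  have hCc : 3 ^ 2 ≤ Nat.card ↥(A ⊓ Subgroup.centralizer ({e} : Set P)) :=
    nine_le_card_inf_centralizer A hAe hAc e he3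
  -- the chain
  have r1 : ∀ a ∈ E, ∀ b ∈ Subgroup.closure ({z, e} : Set P), a * b = b * a := by
    intro a ha b hb
    have : Subgroup.closure ({z, e} : Set P) ≤ Subgroup.centralizer ({a} : Set P) := by
      rw [Subgroup.closure_le]
      rintro x (rfl | rfl)
      · rw [SetLike.mem_coe, Subgroup.mem_centralizer_singleton_iff]; exact hzc a
      · rw [SetLike.mem_coe, Subgroup.mem_centralizer_singleton_iff]; exact hEcomm _ heE a ha
    have := this hb
    rw [Subgroup.mem_centralizer_singleton_iff] at this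
    exact this.symm
  have r2 : ∀ a ∈ Subgroup.closure ({z, e} : Set P),
      ∀ b ∈ A ⊓ Subgroup.centralizer ({e} : Set P), a * b = b * a := by
    intro a ha b hb
    have : Subgroup.closure ({z, e} : Set P) ≤ Subgroup.centralizer ({b} : Set P) := by
      rw [Subgroup.closure_le]
      rintro x (rfl | rfl)
      · rw [SetLike.mem_coe, Subgroup.mem_centralizer_singleton_iff]; exact hzc b
      · rw [SetLike.mem_coe, Subgroup.mem_centralizer_singleton_iff]
        have hb2 : b ∈ Subgroup.centralizer ({x} : Set P) := hb.2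
        rw [Subgroup.mem_centralizer_singleton_iff] at hb2
        exact hb2.symm
    have := this ha
    rw [Subgroup.mem_centralizer_singleton_iff] at this
    exact this
  have r3 : ∀ a ∈ A ⊓ Subgroup.centralizer ({e} : Set P), ∀ b ∈ A, a * b = b * a :=
    fun a ha b hb => hAcomm a ha.1 b hb
  exact Relation.ReflTransGen.trans
    (Relation.ReflTransGen.single (b := Subgroup.closure ({z, e} : Set P)) ⟨hE, hEc, hE2, hE2c, r1⟩)
    (Relation.ReflTransGen.trans
      (Relation.ReflTransGen.single (b := A ⊓ Subgroup.centralizer ({e} : Set P))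
        ⟨hE2, hE2c, hC, hCc, r2⟩)
      (Relation.ReflTransGen.single ⟨hC, hCc, hAe, by rw [hAc]; norm_num, r3⟩))

theorem isKConnected_three (hP : IsPGroup 3 P) (hrk : ¬ Cfsg.PRankLE 3 3 P) :
    Cfsg.IsKConnected 3 2 P := by
  haveI : Fact (Nat.Prime 3) := ⟨Nat.prime_three⟩
  unfold Cfsg.PRankLE at hrk
  push Not at hrk
  obtain ⟨E0, hE0c, hE0e, hE0card⟩ := hrk
  obtain ⟨k, hk⟩ := IsPGroup.iff_card.mp (hP.to_subgroup E0)
  have hk4 : 4 ≤ k := by
    rw [hk] at hE0card
    exact (Nat.pow_lt_pow_iff_right (by norm_num)).mp hE0card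
  obtain ⟨K, hKc⟩ := Sylow.exists_subgroup_card_pow_prime (G := ↥E0) 3 (n := 4)
    (by rw [hk]; exact pow_dvd_pow 3 hk4)
  have hE4 : IsElementaryAbelian 3 (K.map E0.subtype) :=
    elemAb_of_le ⟨hE0c, hE0e⟩ (by rintro _ ⟨y, -, rfl⟩; exact y.2)
  have hE4c : Nat.card (K.map E0.subtype) = 3 ^ 4 := by
    rw [Subgroup.card_map_of_injective (Subgroup.subtype_injective _), hKc]
  obtain ⟨A, hAn, hAe, hAc⟩ := exists_normal_elemAb_four hP (by norm_num) _ hE4 hE4c
  haveI := hAn
  have hbot : (⊥ : Subgroup P) < A := by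
    rw [bot_lt_iff_ne_bot]
    rintro rfl
    rw [Subgroup.card_bot] at hAc
    norm_num at hAc
  obtain ⟨B1, z, -, -, hB1A, -, hzB, hz1, hzc⟩ := exists_normal_relIndex_p_le hP ⊥ A hbot
  have hzA : z ∈ A := hB1A hzB
  have hz1' : z ≠ 1 := fun h => hz1 (by rw [h]; exact Subgroup.one_mem _)
  have hzcomm : ∀ g : P, z * g = g * z := by
    intro g
    have := hzc g
    rw [Subgroup.mem_bot, commutatorElement_eq_one_iff_mul_comm] at this
    exact this
  intro E E' hE hEc hE' hE'c
  have h1 := reach hP A hAe hAc z hzA hz1' hzcomm E hE hEc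
  have h2 := reach hP A hAe hAc z hzA hz1' hzcomm E' hE' hE'c
  refine h1.trans ?_
  have hsymm : ∀ X Y : Subgroup P, (IsElementaryAbelian 3 X ∧ 3 ^ 2 ≤ Nat.card ↥X ∧
      IsElementaryAbelian 3 Y ∧ 3 ^ 2 ≤ Nat.card ↥Y ∧ ∀ a ∈ X, ∀ b ∈ Y, a * b = b * a) →
      (IsElementaryAbelian 3 Y ∧ 3 ^ 2 ≤ Nat.card ↥Y ∧
      IsElementaryAbelian 3 X ∧ 3 ^ 2 ≤ Nat.card ↥X ∧ ∀ a ∈ Y, ∀ b ∈ X, a * b = b * a) := by
    rintro X Y ⟨h1, h2, h3, h4, h5⟩
    exact ⟨h3, h4, h1, h2, fun a ha b hb => (h5 b hb a ha).symm⟩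
  exact reflTransGen_symm hsymm h2

end Cfsg.Agent.Lib.Lead.RankFour
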