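import Mathlib
import Cfsg.Agent.Lib.Lead.FrobNPC5
import Cfsg.Agent.Lib.Lead.NormalRankTwoB

set_option autoImplicit false
open Pointwise

namespace Cfsg.Agent.Lib.Lead

universe u

section
variable {G : Type u} [Group G] [Finite G]

/-- an odd-order element normalising a 2-subgroup centralises it, if all real 2-elements are
central -/
theorem real_two_aux (h : ∀ x : G, (∃ j : ℕ, orderOf x = 2 ^ j) → IsConj x x⁻¹ → x ∈ Subgroup.center G)
    (g : G) (hcop : Nat.Coprime (orderOf g) 2) :
    ∀ n : ℕ, ∀ D : Subgroup G, Nat.card D = n → IsPGroup 2 D →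
      g ∈ Subgroup.normalizer (D : Set G) → g ∈ Subgroup.centralizer (D : Set G) := by
  classical
  haveI : Fact (Nat.Prime 2) := ⟨Nat.prime_two⟩
  intro n
  induction n using Nat.strong_induction_on with
  | _ n ih =>
    intro D hDn hD hg
    by_cases hbot : D = ⊥
    · rw [hbot, Subgroup.mem_centralizer_iff]
      intro y hy
      have : y = 1 := hy
      rw [this, one_mul, mul_one]
    -- a normal subgroup of index 2
    have htop : (⊤ : Subgroup D) ≠ ⊥ := by
      intro h0
      apply hbot
      have h1 : Nat.card (⊤ : Subgroup D) = 1 := by rw [h0]; exact Subgroup.card_bot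
      rw [Subgroup.card_top] at h1
      exact Subgroup.card_eq_one.mp h1
    obtain ⟨M, hMn, -, hMidx⟩ := exists_normal_le_relIndex_p (p := 2) hD (⊤ : Subgroup D) htop
    rw [Subgroup.relIndex_top_right] at hMidx
    haveI := hMn
    -- the subgroup generated by squares
    set S : Subgroup G := Subgroup.closure {z : G | ∃ y ∈ D, z = y ^ 2} with hS
    have hSM : S ≤ M.map D.subtype := by
      rw [hS, Subgroup.closure_le]
      rintro z ⟨y, hy, rfl⟩
      have h1 := M.pow_index_mem (⟨y, hy⟩ : D)
      rw [hMidx] at h1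
      exact ⟨⟨y, hy⟩ ^ 2, h1, rfl⟩
    have hSD : S ≤ D := hSM.trans (Subgroup.map_subtype_le M)
    have hMcard : Nat.card (M.map D.subtype) * 2 = Nat.card D := by
      rw [Subgroup.card_map_of_injective D.subtype_injective, ← hMidx]
      exact Subgroup.card_mul_index M
    have hScard : Nat.card S < n := by
      have h1 := Subgroup.card_le_of_le hSM
      have h2 : 0 < Nat.card (M.map D.subtype) := Nat.card_pos
      omega
    have hconj : ∀ k : G, k ∈ Subgroup.normalizer (D : Set G) → ∀ z ∈ S, k * z * k⁻¹ ∈ S := by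
      intro k hk z hz
      rw [hS] at hz
      induction hz using Subgroup.closure_induction with
      | mem z hz =>
        obtain ⟨y, hy, rfl⟩ := hz
        apply Subgroup.subset_closure
        refine ⟨k * y * k⁻¹, (Subgroup.mem_normalizer_iff.mp hk y).mp hy, ?_⟩
        rw [conj_pow]
      | one => rw [mul_one, mul_inv_cancel]; exact S.one_mem
      | mul a b _ _ ha hb =>
        have : k * (a * b) * k⁻¹ = (k * a * k⁻¹) * (k * b * k⁻¹) := by group
        rw [this]; exact S.mul_mem ha hb
      | inv a _ ha =>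
        have : k * a⁻¹ * k⁻¹ = (k * a * k⁻¹)⁻¹ := by group
        rw [this]; exact S.inv_mem ha
    have hgS : g ∈ Subgroup.normalizer (S : Set G) := by
      rw [Subgroup.mem_normalizer_iff]
      intro z
      constructor
      · exact hconj g hg z
      · intro hz
        have h1 := hconj g⁻¹ (Subgroup.inv_mem _ hg) _ hz
        have h2 : g⁻¹ * (g * z * g⁻¹) * g⁻¹⁻¹ = z := by group
        rw [h2] at h1
        exact h1
    have hSc := ih (Nat.card S) hScard S rfl (hD.to_le hSD) hgS
    -- now the main argument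
    rw [Subgroup.mem_centralizer_iff]
    intro y hy
    have hy' : g * y * g⁻¹ ∈ D := (Subgroup.mem_normalizer_iff.mp hg y).mp hy
    set x : G := y⁻¹ * (g * y * g⁻¹) with hx
    have hxD : x ∈ D := D.mul_mem (D.inv_mem hy) hy'
    have hy2 : (g * y * g⁻¹) ^ 2 = y ^ 2 := by
      rw [conj_pow]
      have h1 : y ^ 2 ∈ S := Subgroup.subset_closure ⟨y, hy, rfl⟩
      have h2 := Subgroup.mem_centralizer_iff.mp hSc (y ^ 2) h1
      rw [← h2]; group
    have hyx : g * y * g⁻¹ = y * x := by rw [hx]; group
    have hreal : y⁻¹ * x⁻¹ * y = x := by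
      rw [hyx] at hy2
      have h3 : y * x * (y * x) = y * y := by rw [← sq, hy2, sq]
      have h4 : x * y * x = y := by
        have : y * (x * y * x) = y * y := by rw [← h3]; group
        exact mul_left_cancel this
      calc y⁻¹ * x⁻¹ * y = y⁻¹ * x⁻¹ * (x * y * x) := by rw [h4]
        _ = x := by group
    have hxc : x ∈ Subgroup.center G := by
      apply h x
      · obtain ⟨j, hj⟩ := (IsPGroup.iff_orderOf.mp hD) ⟨x, hxD⟩
        exact ⟨j, by rw [← hj, Subgroup.orderOf_mk]⟩
      · rw [isConj_iff]
        refine ⟨y, ?_⟩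
        calc y * x * y⁻¹ = y * (y⁻¹ * x⁻¹ * y) * y⁻¹ := by rw [hreal]
          _ = x⁻¹ := by group
    have hxcomm : ∀ w : G, w * x = x * w := fun w => Subgroup.mem_center_iff.mp hxc w
    have hpow : ∀ k : ℕ, g ^ k * y * (g ^ k)⁻¹ = y * x ^ k := by
      intro k
      induction k with
      | zero => simp
      | succ k ihk =>
        have h5 : g ^ (k + 1) * y * (g ^ (k + 1))⁻¹ = g * (g ^ k * y * (g ^ k)⁻¹) * g⁻¹ := by
          rw [pow_succ']; group
        rw [h5, ihk]
        have h6 : g * (y * x ^ k) * g⁻¹ = (g * y * g⁻¹) * (g * x ^ k * g⁻¹) := by group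
        rw [h6, hyx]
        have h7 : g * x ^ k * g⁻¹ = x ^ k := by
          have : g * x ^ k = x ^ k * g := by
            have := (Subgroup.center G).pow_mem hxc k
            exact Subgroup.mem_center_iff.mp this g
          rw [this]; group
        rw [h7, pow_succ']
        group
    have h8 := hpow (orderOf g)
    rw [pow_orderOf_eq_one, one_mul, inv_one, mul_one] at h8
    have h9 : x ^ orderOf g = 1 := by
      have : y * 1 = y * x ^ orderOf g := by rw [mul_one]; exact h8
      exact (mul_left_cancel this).symm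
    have h10 : orderOf x ∣ orderOf g := orderOf_dvd_of_pow_eq_one h9
    obtain ⟨j, hj⟩ := (IsPGroup.iff_orderOf.mp hD) ⟨x, hxD⟩
    rw [Subgroup.orderOf_mk] at hj
    have h11 : Nat.Coprime (orderOf x) (orderOf x) := by
      apply Nat.Coprime.coprime_dvd_left h10
      rw [hj]
      exact Nat.Coprime.pow_right j hcop
    have h12 : x = 1 := orderOf_eq_one_iff.mp ((Nat.coprime_self _).mp h11)
    rw [h12, mul_one] at hyx
    calc y * g = (g * y * g⁻¹) * g := by rw [hyx]
      _ = g * y := by group

theorem hasNormalPComplement_two_of_real_central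
    (h : ∀ x : G, (∃ j : ℕ, orderOf x = 2 ^ j) → IsConj x x⁻¹ → x ∈ Subgroup.center G) :
    Cfsg.HasNormalPComplement 2 G := by
  haveI : Fact (Nat.Prime 2) := ⟨Nat.prime_two⟩
  rw [hasNormalPComplement_iff_plocalCentral]
  intro D hD g hg hcop
  exact real_two_aux h g hcop _ D rfl hD hg

end

end Cfsg.Agent.Lib.Lead
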