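import Mathlib
import Cfsg.Agent.Lib.Lead.Replacement7
import Cfsg.Prelude.Def_PLocal

set_option autoImplicit false

/-!
Glauberman's replacement theorem: elements of order `p`.
-/

namespace Cfsg.Agent.Lib.Lead

namespace Repl

open scoped commutatorElement

variable {S : Type*} [Group S] {A B : Subgroup S} {b : S}

/-- the elements of `K` with trivial `n`-th power, for a commutative `K` -/
def omN (n : ℕ) (K : Subgroup S) (hK : ∀ x ∈ K, ∀ y ∈ K, x * y = y * x) : Subgroup S where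
  carrier := {v | v ∈ K ∧ v ^ n = 1}
  one_mem' := ⟨K.one_mem, one_pow n⟩
  mul_mem' := by
    rintro x y ⟨hx, hxn⟩ ⟨hy, hyn⟩
    refine ⟨K.mul_mem hx hy, ?_⟩
    rw [(show Commute x y from hK x hx y hy).mul_pow, hxn, hyn, one_mul]
  inv_mem' := by
    rintro x ⟨hx, hxn⟩
    exact ⟨K.inv_mem hx, by rw [inv_pow, hxn, inv_one]⟩

theorem mem_omN {n : ℕ} {K : Subgroup S} {hK : ∀ x ∈ K, ∀ y ∈ K, x * y = y * x} {x : S} :
    x ∈ omN n K hK ↔ x ∈ K ∧ x ^ n = 1 := Iff.rfl

theorem omegaOne_eq_omN (p : ℕ) (K : Subgroup S) (hK : ∀ x ∈ K, ∀ y ∈ K, x * y = y * x) :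
    Cfsg.omegaOne p K = omN p K hK := by
  unfold Cfsg.omegaOne
  have : {x : S | x ∈ K ∧ x ^ p = 1} = ((omN p K hK : Subgroup S) : Set S) := rfl
  rw [this, Subgroup.closure_eq]

namespace Setup

variable (h : Setup A B b)
include h

theorem uel_pow_eq_one {p : ℕ} [hp : Fact p.Prime] (hp2 : p ≠ 2) (hS : IsPGroup p S) (n : ℕ)
    {a : S} (ha : a ∈ A) (han : a ^ n = 1) : uel b a ^ n = 1 := by
  rw [uel_eq]
  obtain ⟨y, hy⟩ : ∃ y, y = (b⁻¹ * a * b)⁻¹ := ⟨_, rfl⟩
  rw [← hy]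
  have hyc : y ∈ cj A b := by rw [hy]; exact (cj A b).inv_mem (conj_mem_cj ha)
  have heD : ⁅y, a⁆ ∈ dsub A b := by
    have := (dsub A b).inv_mem (h.comm_mem_dsub ha hyc)
    have e : (a * y * a⁻¹ * y⁻¹)⁻¹ = ⁅y, a⁆ := by rw [commutatorElement_def]; group
    rwa [e] at this
  have hxc : Commute a ⁅y, a⁆ := (h.dsub_comm_A heD ha).symm
  have hyc' : Commute y ⁅y, a⁆ := (h.dsub_comm_cj heD hyc).symm
  rw [mul_pow_of_commute_comm a y hxc hyc' n, han, one_mul]
  have hyn : y ^ n = 1 := by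
    rw [hy, inv_pow]
    have : (b⁻¹ * a * b) ^ n = b⁻¹ * a ^ n * b := by
      have := map_pow (MulAut.conj b⁻¹) a n
      simpa [MulAut.conj_apply] using this.symm
    rw [this, han]; group
  rw [hyn, one_mul]
  apply pow_choose_eq_one_of_odd hp2 hS _ n
  have hc1 : Commute ⁅a, y⁆ a := by
    have : ⁅a, y⁆ = ⁅y, a⁆⁻¹ := (commutatorElement_inv y a).symm
    rw [this]
    exact (hxc.symm).inv_left
  have h1 := Cfsg.Agent.Lib.Lead.commutatorElement_pow_left a y hc1 n
  rw [han, commutatorElement_one_left] at h1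
  have h2 : ⁅y, a⁆ = ⁅a, y⁆⁻¹ := (commutatorElement_inv a y).symm
  rw [h2, inv_pow, ← h1, inv_one]

/-- the elements of order dividing `n` of `A` are no more numerous than those of `A*` -/
theorem card_omN_le [Finite S] {p : ℕ} [hp : Fact p.Prime] (hp2 : p ≠ 2) (hS : IsPGroup p S)
    (n : ℕ) (hc : ∀ x ∈ h.astar, ∀ y ∈ h.astar, x * y = y * x) :
    Nat.card (omN n A h.comm) ≤ Nat.card (omN n h.astar hc) := by
  set V := omN n A h.comm with hV
  set Vs := omN n h.astar hc with hVs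
  set DA : Subgroup V := (dsub A b).subgroupOf V with hDA
  set DS : Subgroup Vs := (dsub A b).subgroupOf Vs with hDS
  let f : V → Vs := fun a =>
    ⟨uel b a, h.uel_mem_astar a.2.1, h.uel_pow_eq_one hp2 hS n a.2.1 a.2.2⟩
  have hrel : ∀ a a' : V, (f a)⁻¹ * f a' ∈ DS ↔ a⁻¹ * a' ∈ DA := by
    intro a a'
    rw [hDS, hDA, Subgroup.mem_subgroupOf, Subgroup.mem_subgroupOf]
    exact h.uel_rel_iff a.2.1 a'.2.1
  let g : (V ⧸ DA) → (Vs ⧸ DS) := Quotient.map' f (by
    intro a a' hr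
    rw [QuotientGroup.leftRel_apply] at hr ⊢
    exact (hrel a a').mpr hr)
  have hg : ∀ a : V, g (QuotientGroup.mk a) = QuotientGroup.mk (f a) := fun a => rfl
  have hinj : Function.Injective g := by
    intro x y
    induction x using QuotientGroup.induction_on with
    | H a =>
    induction y using QuotientGroup.induction_on with
    | H a' =>
    intro hxy
    rw [hg, hg, QuotientGroup.eq] at hxy
    rw [QuotientGroup.eq]
    exact (hrel a a').mp hxy
  have hcard : Nat.card (V ⧸ DA) ≤ Nat.card (Vs ⧸ DS) := Nat.card_le_card_of_injective g hinj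
  have h1 := Subgroup.card_eq_card_quotient_mul_card_subgroup DA
  have h2 := Subgroup.card_eq_card_quotient_mul_card_subgroup DS
  have h3 : Nat.card DA = Nat.card (dsub A b ⊓ V : Subgroup S) := by
    rw [hDA]
    exact Nat.card_congr (Subgroup.subgroupOfEquivOfLe (inf_le_right : dsub A b ⊓ V ≤ V)).toEquiv |>.symm ▸
      (by rw [Subgroup.inf_subgroupOf_right])
  have h4 : Nat.card DS = Nat.card (dsub A b ⊓ Vs : Subgroup S) := by
    rw [hDS]
    exact Nat.card_congr (Subgroup.subgroupOfEquivOfLe (inf_le_right : dsub A b ⊓ Vs ≤ Vs)).toEquiv |>.symm ▸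
      (by rw [Subgroup.inf_subgroupOf_right])
  have h5 : dsub A b ⊓ V = dsub A b ⊓ Vs := by
    ext x
    constructor
    · rintro ⟨hd, hv⟩
      exact ⟨hd, h.dsub_le_astar hd, hv.2⟩
    · rintro ⟨hd, hv⟩
      exact ⟨hd, hd.1, hv.2⟩
  rw [h1, h2, h3, h4, h5]
  exact Nat.mul_le_mul_right _ hcard

end Setup

end Repl

end Cfsg.Agent.Lib.Lead
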