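import Mathlib
import Cfsg.Agent.Lib.Lead.Replacement8
import Cfsg.Agent.Lib.Lead.ZJ2

set_option autoImplicit false

/-!
Glauberman's replacement theorem in a `p`-group, for `B` normalized by `A`.
-/

namespace Cfsg.Agent.Lib.Lead

namespace Repl

open scoped commutatorElement

theorem omN_map_subtype {G : Type*} [Group G] (n : ℕ) (T : Subgroup G) (K' : Subgroup T)
    (hK' : ∀ x ∈ K', ∀ y ∈ K', x * y = y * x)
    (hK : ∀ x ∈ K'.map T.subtype, ∀ y ∈ K'.map T.subtype, x * y = y * x) :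
    (omN n K' hK').map T.subtype = omN n (K'.map T.subtype) hK := by
  ext x
  constructor
  · rintro ⟨x', ⟨hx', hxn⟩, rfl⟩
    refine ⟨⟨x', hx', rfl⟩, ?_⟩
    have := congrArg Subtype.val hxn
    simpa using this
  · rintro ⟨⟨x', hx', rfl⟩, hxn⟩
    refine ⟨x', ⟨hx', ?_⟩, rfl⟩
    apply Subtype.ext
    simpa using hxn

theorem replacement_full {G : Type*} [Group G] [Finite G] {p : ℕ} [Fact p.Prime] (hp : p ≠ 2)
    (hG : IsPGroup p G) (A B : Subgroup G) (hA : ∀ x ∈ A, ∀ y ∈ A, x * y = y * x)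
    (hBA : ⁅B, B⁆ ≤ A) (hAB : A ≤ Subgroup.normalizer (B : Set G))
    (hBnA : ¬ B ≤ Subgroup.normalizer (A : Set G)) :
    ∃ (Astar : Subgroup G) (hc : ∀ x ∈ Astar, ∀ y ∈ Astar, x * y = y * x),
      Nat.card Astar = Nat.card A ∧ A ⊓ B < Astar ⊓ B ∧
      Astar ≤ Subgroup.normalizer (A : Set G) ∧ Astar ≤ Subgroup.normalClosure (A : Set G) ∧
      (∀ n : ℕ, (∀ a ∈ A, a ^ n = 1) → ∀ x ∈ Astar, x ^ n = 1) ∧
      ∀ n : ℕ, Nat.card (omN n A hA) ≤ Nat.card (omN n Astar hc) := by
  set T := A ⊔ B with hTdef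
  have hT : IsPGroup p T := hG.to_subgroup T
  have hι : Function.Injective T.subtype := T.subtype_injective
  have hAT : A ≤ T := le_sup_left
  have hBT : B ≤ T := le_sup_right
  have hTB : T ≤ Subgroup.normalizer (B : Set G) := sup_le hAB Subgroup.le_normalizer
  have hA'map : (A.subgroupOf T).map T.subtype = A := Subgroup.map_subgroupOf_eq_of_le hAT
  have hB'map : (B.subgroupOf T).map T.subtype = B := Subgroup.map_subgroupOf_eq_of_le hBT
  haveI hB'n : (B.subgroupOf T).Normal := (Subgroup.normal_subgroupOf_iff_le_normalizer hBT).mpr hTB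
  have hA'c : ∀ x ∈ A.subgroupOf T, ∀ y ∈ A.subgroupOf T, x * y = y * x := fun x hx y hy =>
    Subtype.ext (hA x (Subgroup.mem_subgroupOf.mp hx) y (Subgroup.mem_subgroupOf.mp hy))
  have hBA' : ⁅B.subgroupOf T, B.subgroupOf T⁆ ≤ A.subgroupOf T := by
    rw [Subgroup.commutator_le]
    intro x hx y hy
    rw [Subgroup.mem_subgroupOf]
    have : ((⁅x, y⁆ : T) : G) = ⁅(x : G), (y : G)⁆ := by
      simp [commutatorElement_def]
    rw [this]
    exact hBA (Subgroup.commutator_mem_commutator (Subgroup.mem_subgroupOf.mp hx)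
      (Subgroup.mem_subgroupOf.mp hy))
  have hnot' : ¬ B.subgroupOf T ≤ Subgroup.normalizer ((A.subgroupOf T : Subgroup T) : Set T) := by
    rw [← Subgroup.subgroupOf_normalizer_eq hAT]
    intro hle
    apply hBnA
    intro x hx
    have h1 : (⟨x, hBT hx⟩ : T) ∈ B.subgroupOf T := Subgroup.mem_subgroupOf.mpr hx
    exact Subgroup.mem_subgroupOf.mp (hle h1)
  obtain ⟨b, hb, hbN, hbA⟩ := ZJ.exists_normalizing hT (B.subgroupOf T) (A.subgroupOf T) hnot'
  have h : Setup (A.subgroupOf T) (B.subgroupOf T) b := ⟨hA'c, hB'n, hBA', hb, hbN⟩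
  have hcs : ∀ x ∈ h.astar, ∀ y ∈ h.astar, x * y = y * x :=
    h.astar_comm (fun a ha a' ha' => h.uel_comm_of_odd (eq_one_of_sq_of_odd hp hT) ha ha')
  have hcomm : ∀ x ∈ h.astar.map T.subtype, ∀ y ∈ h.astar.map T.subtype, x * y = y * x := by
    rintro _ ⟨x, hx, rfl⟩ _ ⟨y, hy, rfl⟩
    have := congrArg Subtype.val (hcs x hx y hy)
    simpa using this
  have hcardA : Nat.card A = Nat.card (A.subgroupOf T) := by
    conv_lhs => rw [← hA'map]
    exact Subgroup.card_map_of_injective hι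
  refine ⟨h.astar.map T.subtype, hcomm, ?_, ?_, ?_, ?_, ?_, ?_⟩
  · rw [Subgroup.card_map_of_injective hι, h.card_astar, ← hcardA]
  · have h4 := h.inf_lt_astar_inf hbA
    have h5 := (Subgroup.map_lt_map_iff_of_injective hι).mpr h4
    have e1 : (A.subgroupOf T ⊓ B.subgroupOf T).map T.subtype = A ⊓ B := by
      rw [Subgroup.map_inf _ _ _ hι, hA'map, hB'map]
    have e2 : (h.astar ⊓ B.subgroupOf T).map T.subtype = h.astar.map T.subtype ⊓ B := by
      rw [Subgroup.map_inf _ _ _ hι, hB'map]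
    rw [e1, e2] at h5
    exact h5
  · rintro _ ⟨x, hx, rfl⟩
    have h11 := h.astar_le_normalizer hx
    rw [← Subgroup.subgroupOf_normalizer_eq hAT] at h11
    exact Subgroup.mem_subgroupOf.mp h11
  · rintro _ ⟨x, hx, rfl⟩
    obtain ⟨a, ha, d, hd, rfl⟩ := h.mem_astar.mp hx
    have haA : (a : G) ∈ A := Subgroup.mem_subgroupOf.mp ha
    have hdA : (d : G) ∈ A := Subgroup.mem_subgroupOf.mp hd.1
    have hn : (Subgroup.normalClosure (A : Set G)).Normal := Subgroup.normalClosure_normal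
    have e : ((uel b a * d : T) : G) = (a : G) * ((b : G)⁻¹ * (a : G)⁻¹ * ((b : G)⁻¹)⁻¹) * (d : G) := by
      simp [uel]; group
    show ((uel b a * d : T) : G) ∈ Subgroup.normalClosure (A : Set G)
    rw [e]
    refine Subgroup.mul_mem _ (Subgroup.mul_mem _ (Subgroup.subset_normalClosure haA) ?_)
      (Subgroup.subset_normalClosure hdA)
    exact hn.conj_mem _ (Subgroup.inv_mem _ (Subgroup.subset_normalClosure haA)) _
  · rintro n hn _ ⟨x, hx, rfl⟩
    have h11 := h.astar_pow_eq_one hp hT n (fun a ha => Subtype.ext (by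
      rw [Subgroup.coe_pow, Subgroup.coe_one]
      exact hn a (Subgroup.mem_subgroupOf.mp ha))) x hx
    have := congrArg Subtype.val h11
    simpa using this
  · intro n
    have h1 := h.card_omN_le hp hT n hcs
    have h2 := omN_map_subtype n T h.astar hcs hcomm
    have hA'' : ∀ x ∈ (A.subgroupOf T).map T.subtype, ∀ y ∈ (A.subgroupOf T).map T.subtype,
        x * y = y * x := by
      rw [hA'map]; exact hA
    have h3 := omN_map_subtype n T (A.subgroupOf T) hA'c hA''
    have h4 : Nat.card (omN n A hA) = Nat.card (omN n (A.subgroupOf T) hA'c) := by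
      rw [← Subgroup.card_map_of_injective hι (K := omN n (A.subgroupOf T) hA'c), h3]
      congr 2 <;> simp [hA'map]
    rw [← h2, Subgroup.card_map_of_injective hι, h4]
    exact h1

end Repl

end Cfsg.Agent.Lib.Lead
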