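import Mathlib
import Cfsg.Agent.Lib.Helper3.Ru2Defs
import Cfsg.Agent.Lib.Lead.Frattini2

set_option autoImplicit false

/-! S3174/S3175 swarm, package U1: a subgroup of `W` which is abelian modulo a maximal subgroup of
`Phi W` has index at least eight. -/

namespace Cfsg.Agent.Lib.Helper3.Ru2

open scoped commutatorElement

variable {T : Type*} [Group T] {W : Subgroup T}

/-- the hypothesis `frat_le` in terms of subgroups of `T` -/
theorem u1_hd (h : Hyp W) (M : Subgroup T) (hidx : M.relIndex W ≤ 16) : Phi W ≤ M := by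
  intro f hf
  obtain ⟨hfW, hfF⟩ := (mem_Phi_iff W f).mp hf
  have := h.frat_le (M.subgroupOf W) hidx hfF
  exact this

/-- `(a b)² = a² ⁅a⁻¹, b⁆ b²` -/
theorem u1_sq_mul (a b : T) : (a * b) ^ 2 = a ^ 2 * ⁅a⁻¹, b⁆ * b ^ 2 := by
  rw [commutatorElement_def, pow_two, pow_two, pow_two]; group

/-- the elements of `A` whose square lies in `K` -/
def u1Omega (A K : Subgroup T) (hcomm : ∀ a ∈ A, ∀ b ∈ A, ⁅a, b⁆ ∈ K) : Subgroup T where
  carrier := {a | a ∈ A ∧ a ^ 2 ∈ K}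
  one_mem' := ⟨A.one_mem, by rw [one_pow]; exact K.one_mem⟩
  mul_mem' := by
    rintro a b ⟨haA, ha⟩ ⟨hbA, hb⟩
    refine ⟨A.mul_mem haA hbA, ?_⟩
    rw [u1_sq_mul]
    exact K.mul_mem (K.mul_mem ha (hcomm _ (A.inv_mem haA) _ hbA)) hb
  inv_mem' := by
    rintro a ⟨haA, ha⟩
    refine ⟨A.inv_mem haA, ?_⟩
    rw [inv_pow]; exact K.inv_mem ha

/-- U1 -/
theorem u1_of_str (h : Hyp W) (hs : Str W) : U1Prop W := by
  have : Fact (Nat.Prime 2) := ⟨Nat.prime_two⟩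
  have hfin : Finite T := h.finite
  have hT := h.pgroup
  intro A K hPA hAW hKP hrel hcomm
  by_contra hlt
  push Not at hlt
  -- `|W : A| ≤ 4`
  have hAW4 : A.relIndex W ≤ 4 := by
    have hdvd : A.relIndex W ∣ Nat.card ↥W := Subgroup.relIndex_dvd_card A W
    obtain ⟨w, hw⟩ := (hT.to_subgroup W).exists_card_eq
    rw [hw] at hdvd
    obtain ⟨j, -, hj⟩ := (Nat.dvd_prime_pow Nat.prime_two).mp hdvd
    rw [hj] at hlt ⊢
    have : j < 3 := (Nat.pow_lt_pow_iff_right (a := 2) (by norm_num)).mp (by simpa using hlt)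
    calc 2 ^ j ≤ 2 ^ 2 := Nat.pow_le_pow_right (by norm_num) (by omega)
      _ = 4 := by norm_num
  -- `K` has index two in `Phi W`
  have hKidx : (K.subgroupOf (Phi W)).index = 2 := hrel
  have hmulK : ∀ f ∈ Phi W, ∀ g ∈ Phi W, f ∉ K → g ∉ K → f * g ∈ K := by
    intro f hf g hg hfK hgK
    have := (Subgroup.mul_mem_iff_of_index_two hKidx (a := ⟨f, hf⟩) (b := ⟨g, hg⟩)).mpr
      (by constructor <;> intro hh
          · exact absurd hh hfK
          · exact absurd hh hgK)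
    exact this
  -- the subgroup `Ω`
  let Ω : Subgroup T := u1Omega A K hcomm
  have hΩA : Ω ≤ A := fun _ hx => hx.1
  have hΩmem : ∀ x, x ∈ Ω ↔ x ∈ A ∧ x ^ 2 ∈ K := fun _ => Iff.rfl
  -- two elements of `A` outside `Ω` have their product in `Ω`
  have hprod : ∀ a ∈ A, ∀ b ∈ A, a ∉ Ω → b ∉ Ω → a * b ∈ Ω := by
    intro a ha b hb haΩ hbΩ
    have ha2 : a ^ 2 ∈ Phi W := sq_mem_Phi hT W (hAW ha)
    have hb2 : b ^ 2 ∈ Phi W := sq_mem_Phi hT W (hAW hb)
    have ha2K : a ^ 2 ∉ K := fun hh => haΩ ⟨ha, hh⟩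
    have hb2K : b ^ 2 ∉ K := fun hh => hbΩ ⟨hb, hh⟩
    have hk : ⁅a⁻¹, b⁆ ∈ K := hcomm _ (A.inv_mem ha) _ hb
    have hkW : ⁅a⁻¹, b⁆ ∈ W := (Phi_le W) (hKP hk)
    have hc : b ^ 2 * ⁅a⁻¹, b⁆ = ⁅a⁻¹, b⁆ * b ^ 2 := hs.phi_central _ hb2 _ hkW
    refine ⟨A.mul_mem ha hb, ?_⟩
    rw [u1_sq_mul]
    have : a ^ 2 * ⁅a⁻¹, b⁆ * b ^ 2 = (a ^ 2 * b ^ 2) * ⁅a⁻¹, b⁆ := by
      rw [mul_assoc, ← hc, ← mul_assoc]
    rw [this]
    exact K.mul_mem (hmulK _ ha2 _ hb2 ha2K hb2K) hk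
  -- `|A : Ω| ≤ 2`
  have hΩidx : Ω.relIndex A ≤ 2 := by
    by_cases htop : Ω.subgroupOf A = ⊤
    · rw [Subgroup.relIndex, htop, Subgroup.index_top]; norm_num
    · have hex : ∃ a₀ : ↥A, a₀ ∉ Ω.subgroupOf A := by
        by_contra hcon
        push Not at hcon
        exact htop (eq_top_iff.mpr fun x _ => hcon x)
      obtain ⟨a₀, ha₀⟩ := hex
      have : (Ω.subgroupOf A).index = 2 := by
        rw [Subgroup.index_eq_two_iff]
        refine ⟨a₀, fun b => ?_⟩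
        by_cases hb : b ∈ Ω.subgroupOf A
        · refine Or.inr ⟨hb, fun hba => ha₀ ?_⟩
          have := (Ω.subgroupOf A).mul_mem ((Ω.subgroupOf A).inv_mem hb) hba
          rwa [inv_mul_cancel_left] at this
        · refine Or.inl ⟨?_, hb⟩
          exact hprod b.1 b.2 a₀.1 a₀.2 hb ha₀
      rw [Subgroup.relIndex, this]
  by_cases hPΩ : Phi W ≤ Ω
  · -- case 2: a maximal subgroup of `Ω` missing `Phi W`
    have hΩp : IsPGroup 2 ↥Ω := hT.to_subgroup Ω
    let N : Subgroup ↥Ω := K.subgroupOf Ω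
    have hfrat : frattini ↥Ω ≤ N := by
      apply Cfsg.Agent.Lib.Lead.frattini_le_of_elementary_quotient (p := 2) N
      · rw [commutator_def, Subgroup.commutator_le]
        intro x _ y _
        show ((⁅x, y⁆ : ↥Ω) : T) ∈ K
        exact hcomm _ (hΩA x.2) _ (hΩA y.2)
      · intro x
        show ((x ^ 2 : ↥Ω) : T) ∈ K
        exact x.2.2
    -- an element of `Phi W` outside `K`
    have hexf : ∃ f ∈ Phi W, f ∉ K := by
      by_contra hcon
      push Not at hcon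
      have : K.subgroupOf (Phi W) = ⊤ := eq_top_iff.mpr fun x _ => hcon x.1 x.2
      rw [this, Subgroup.index_top] at hKidx
      omega
    obtain ⟨f, hfP, hfK⟩ := hexf
    have hfΩ : f ∈ Ω := hPΩ hfP
    have hfN : (⟨f, hfΩ⟩ : ↥Ω) ∉ frattini ↥Ω := fun hh => hfK (hfrat hh)
    rw [Cfsg.Agent.Lib.Lead.mem_frattini_iff] at hfN
    push Not at hfN
    obtain ⟨M', hM', hfM'⟩ := hfN
    obtain ⟨-, hM'idx⟩ := Cfsg.Agent.Lib.Lead.coatom_normal_index_of_isPGroup hΩp hM'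
    let M : Subgroup T := M'.map Ω.subtype
    have hMΩ : M ≤ Ω := by
      rintro _ ⟨m, -, rfl⟩
      exact m.2
    have hMrel : M.relIndex Ω = 2 := by
      have e3 : (M'.map Ω.subtype).subgroupOf Ω = M' :=
        Subgroup.comap_map_eq_self_of_injective Ω.subtype_injective M'
      rw [Subgroup.relIndex, e3, hM'idx]
    have hfM : f ∉ M := by
      rintro ⟨m, hm, hmf⟩
      have : m = ⟨f, hfΩ⟩ := Subtype.ext hmf
      rw [this] at hm
      exact hfM' hm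
    have h1 : M.relIndex W = M.relIndex Ω * (Ω.relIndex A * A.relIndex W) := by
      rw [Subgroup.relIndex_mul_relIndex Ω A W hΩA hAW,
        Subgroup.relIndex_mul_relIndex M Ω W hMΩ (hΩA.trans hAW)]
    have h2 : M.relIndex W ≤ 16 := by
      rw [h1, hMrel]
      calc 2 * (Ω.relIndex A * A.relIndex W) ≤ 2 * (2 * 4) :=
            Nat.mul_le_mul_left _ (Nat.mul_le_mul hΩidx hAW4)
        _ = 16 := by norm_num
    exact hfM (u1_hd h M h2 hfP)
  · -- case 1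
    have h1 : Ω.relIndex W = Ω.relIndex A * A.relIndex W :=
      (Subgroup.relIndex_mul_relIndex Ω A W hΩA hAW).symm
    have h2 : Ω.relIndex W ≤ 16 := by
      rw [h1]
      calc Ω.relIndex A * A.relIndex W ≤ 2 * 4 := Nat.mul_le_mul hΩidx hAW4
        _ ≤ 16 := by norm_num
    exact hPΩ (u1_hd h Ω h2)

end Cfsg.Agent.Lib.Helper3.Ru2
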