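import Mathlib
import Cfsg.Agent.Lib.Helper3.Ru2Defs

set_option autoImplicit false

/-! S3174/S3175 swarm, package UNI: `W` is the only subgroup of `T` isomorphic to `W`. -/

namespace Cfsg.Agent.Lib.Helper3.Ru2

open scoped commutatorElement

variable {T : Type*} [Group T] {W : Subgroup T}

/-- in a finite `p`-group a proper subgroup lies in a subgroup of index `p` -/
theorem uni_exists_index_p {G : Type*} [Group G] [Finite G] {p : ℕ} [Fact p.Prime]
    (hG : IsPGroup p G) (C : Subgroup G) (hC : C ≠ ⊤) :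
    ∃ K : Subgroup G, C ≤ K ∧ K.index = p := by
  have hfin : {K : Subgroup G | C ≤ K ∧ K ≠ ⊤}.Finite := Set.toFinite _
  obtain ⟨M, hM⟩ := hfin.exists_maximal ⟨C, le_refl C, hC⟩
  obtain ⟨⟨hCM, hMtop⟩, hmax⟩ := hM
  have hco : IsCoatom M := by
    refine ⟨hMtop, fun K hK => ?_⟩
    by_contra hKtop
    have := hmax ⟨hCM.trans hK.le, hKtop⟩ hK.le
    exact absurd (le_antisymm hK.le this) hK.ne
  exact ⟨M, hCM, (Cfsg.Agent.Lib.Lead.coatom_normal_index_of_isPGroup hG hco).2⟩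

/-- the Frattini subgroup is invariant under isomorphisms -/
theorem uni_frattini_iff {G H : Type*} [Group G] [Group H] (e : G ≃* H) (x : G) :
    x ∈ frattini G ↔ e x ∈ frattini H := by
  constructor
  · intro hx
    exact frattini_le_comap_frattini_of_surjective (φ := e.toMonoidHom) e.surjective hx
  · intro hx
    have := frattini_le_comap_frattini_of_surjective (φ := e.symm.toMonoidHom) e.symm.surjective hx
    simpa using this

/-- for a normal subgroup `P` the elements `s` with `⁅a, s⁆ ∈ P` form a subgroup -/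
def uniComm (P : Subgroup T) [P.Normal] (a : T) : Subgroup T where
  carrier := {s | ⁅a, s⁆ ∈ P}
  one_mem' := by
    show ⁅a, (1 : T)⁆ ∈ P
    rw [commutatorElement_def]; simp
  mul_mem' := by
    intro s s' hs hs'
    show ⁅a, s * s'⁆ ∈ P
    have e : ⁅a, s * s'⁆ = ⁅a, s⁆ * (s * ⁅a, s'⁆ * s⁻¹) := by
      simp only [commutatorElement_def]; group
    rw [e]
    exact P.mul_mem hs (Subgroup.Normal.conj_mem inferInstance _ hs' s)
  inv_mem' := by
    intro s hs
    show ⁅a, s⁻¹⁆ ∈ P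
    have e : ⁅a, s⁻¹⁆ = s⁻¹ * ⁅a, s⁆⁻¹ * s⁻¹⁻¹ := by
      simp only [commutatorElement_def]; group
    rw [e]
    exact Subgroup.Normal.conj_mem inferInstance _ (P.inv_mem hs) s⁻¹

/-- for a normal subgroup `P` the elements `a` with `⁅a, c⁆ ∈ P` form a subgroup -/
def uniCommL (P : Subgroup T) [P.Normal] (c : T) : Subgroup T where
  carrier := {a | ⁅a, c⁆ ∈ P}
  one_mem' := by
    show ⁅(1 : T), c⁆ ∈ P
    rw [commutatorElement_def]; simp
  mul_mem' := by
    intro a b ha hb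
    show ⁅a * b, c⁆ ∈ P
    have e : ⁅a * b, c⁆ = a * ⁅b, c⁆ * a⁻¹ * ⁅a, c⁆ := by
      simp only [commutatorElement_def]; group
    rw [e]
    exact P.mul_mem (Subgroup.Normal.conj_mem inferInstance _ hb a) ha
  inv_mem' := by
    intro a ha
    show ⁅a⁻¹, c⁆ ∈ P
    have e : ⁅a⁻¹, c⁆ = a⁻¹ * ⁅a, c⁆⁻¹ * a⁻¹⁻¹ := by
      simp only [commutatorElement_def]; group
    rw [e]
    exact Subgroup.Normal.conj_mem inferInstance _ (P.inv_mem ha) a⁻¹

/-- UNI: `W` is the only subgroup of `T` isomorphic to `W` -/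
theorem unique_iso_lead (F : Full W) (hW : W.Normal) (hQ : Nonempty (T ⧸ W ≃* DihedralGroup 4))
    (W₁ : Subgroup T) (e : Nonempty (↥W ≃* ↥W₁)) : W₁ = W := by
  classical
  have : Fact (Nat.Prime 2) := ⟨Nat.prime_two⟩
  have hfin : Finite T := F.hyp.finite
  have hT := F.hyp.pgroup
  obtain ⟨e⟩ := e
  obtain ⟨eQ⟩ := hQ
  have hs := F.str
  have hPn : (Phi W).Normal := Phi_normal W
  -- cardinalities
  have cW : Nat.card ↥W = 2 ^ 11 := by
    have h1 := Subgroup.card_mul_index W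
    rw [hs.index_W, hs.card_T] at h1
    omega
  have cW₁ : Nat.card ↥W₁ = 2 ^ 11 := by rw [← Nat.card_congr e.toEquiv]; exact cW
  have cPhi : Nat.card ↥(Phi W) = 8 := by rw [hs.phi_eq, hs.card_ucs 3 (by omega)]; norm_num
  have cZ4 : Nat.card ↥(Subgroup.upperCentralSeries T 4) = 16 := by
    rw [hs.card_ucs 4 (by omega)]; norm_num
  -- transport along `e`
  have hfr : ∀ x : ↥W, x ∈ frattini ↥W ↔ e x ∈ frattini ↥W₁ := uni_frattini_iff e
  have hmap : (frattini ↥W).map e.toMonoidHom = frattini ↥W₁ := by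
    ext y
    constructor
    · rintro ⟨x, hx, rfl⟩
      exact (hfr x).mp hx
    · intro hy
      refine ⟨e.symm y, (hfr _).mpr (by simpa using hy), by simp⟩
  have cPhi₁ : Nat.card ↥(Phi W₁) = 8 := by
    rw [card_Phi, ← hmap, Subgroup.card_map_of_injective e.injective, ← card_Phi, cPhi]
  have hcen₁ : ∀ f ∈ Phi W₁, ∀ w ∈ W₁, f * w = w * f := by
    intro f hf w hw
    obtain ⟨hfW, hfF⟩ := (mem_Phi_iff W₁ f).mp hf
    have hx : e.symm ⟨f, hfW⟩ ∈ frattini ↥W := (hfr _).mpr (by simpa using hfF)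
    have hxP : ((e.symm ⟨f, hfW⟩ : ↥W) : T) ∈ Phi W := (mem_Phi_iff W _).mpr ⟨_, hx⟩
    have h1 := hs.phi_central _ hxP _ (e.symm ⟨w, hw⟩).2
    have h2 : e.symm ⟨f, hfW⟩ * e.symm ⟨w, hw⟩ = e.symm ⟨w, hw⟩ * e.symm ⟨f, hfW⟩ :=
      Subtype.ext h1
    have h3 := congrArg e h2
    rw [map_mul, map_mul, MulEquiv.apply_symm_apply, MulEquiv.apply_symm_apply] at h3
    exact congrArg Subtype.val h3
  have hd : ∀ M : Subgroup T, M.relIndex W ≤ 16 → Phi W ≤ M := by
    intro M hidx f hf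
    obtain ⟨hfW, hfF⟩ := (mem_Phi_iff W f).mp hf
    exact F.hyp.frat_le (M.subgroupOf W) hidx hfF
  have hd₁ : ∀ M : Subgroup T, M.relIndex W₁ ≤ 16 → Phi W₁ ≤ M := by
    intro M hidx f hf
    obtain ⟨hfW, hfF⟩ := (mem_Phi_iff W₁ f).mp hf
    have hU : ((M.subgroupOf W₁).comap e.toMonoidHom).index ≤ 16 := by
      rw [Subgroup.index_comap_of_surjective _ e.surjective]; exact hidx
    have hx : e.symm ⟨f, hfW⟩ ∈ frattini ↥W := (hfr _).mpr (by simpa using hfF)
    have := F.hyp.frat_le _ hU hx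
    rw [Subgroup.mem_comap] at this
    have h' : (⟨f, hfW⟩ : ↥W₁) ∈ M.subgroupOf W₁ := by simpa using this
    exact h'
  -- the intersection
  set A : Subgroup T := W ⊓ W₁ with hA
  have hAW : A ≤ W := inf_le_left
  have hAW₁ : A ≤ W₁ := inf_le_right
  have hrel₁ : A.relIndex W₁ ≤ 8 := by
    rw [hA, Subgroup.inf_relIndex_right]
    have := Subgroup.relIndex_dvd_index_of_normal W W₁
    rw [hs.index_W] at this
    exact Nat.le_of_dvd (by norm_num) this
  have hrelEq : A.relIndex W = A.relIndex W₁ := by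
    have h1 := Subgroup.relIndex_mul_relIndex ⊥ A W bot_le hAW
    have h2 := Subgroup.relIndex_mul_relIndex ⊥ A W₁ bot_le hAW₁
    rw [Subgroup.relIndex_bot_left, Subgroup.relIndex_bot_left] at h1 h2
    rw [cW] at h1
    rw [cW₁] at h2
    have hpos : 0 < Nat.card ↥A := Nat.card_pos
    exact Nat.eq_of_mul_eq_mul_left hpos (h1.trans h2.symm)
  have hrel : A.relIndex W ≤ 8 := hrelEq ▸ hrel₁
  have hPA : Phi W ≤ A := hd A (by omega)
  have hP₁A : Phi W₁ ≤ A := hd₁ A (by omega)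
  -- case distinction
  by_cases hcase : Phi W ≤ Phi W₁
  · -- `Phi W₁ = Phi W = Z_3`, so `W₁` centralises `Z_3`
    have hPeq : Phi W = Phi W₁ :=
      Subgroup.eq_of_le_of_card_ge hcase (by rw [cPhi, cPhi₁])
    have hle : W₁ ≤ W := by
      intro w hw
      rw [F.hyp.hW, Subgroup.mem_centralizer_iff]
      intro z hz
      have hz' : z ∈ Phi W₁ := by rw [← hPeq, hs.phi_eq]; exact hz
      exact hcen₁ z hz' w hw
    exact Subgroup.eq_of_le_of_card_ge hle (by rw [cW, cW₁])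
  · exfalso
    -- a maximal subgroup `K` of `Phi W` containing `Phi W ⊓ Phi W₁`
    have hEtop : (Phi W ⊓ Phi W₁).subgroupOf (Phi W) ≠ ⊤ := by
      intro htop
      apply hcase
      intro f hf
      have : (⟨f, hf⟩ : ↥(Phi W)) ∈ (Phi W ⊓ Phi W₁).subgroupOf (Phi W) := by rw [htop]; trivial
      exact this.2
    obtain ⟨K', hEK', hK'idx⟩ := uni_exists_index_p (hT.to_subgroup (Phi W)) _ hEtop
    set K : Subgroup T := K'.map (Phi W).subtype with hK
    have hKP : K ≤ Phi W := by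
      rintro _ ⟨k, -, rfl⟩
      exact k.2
    have hKrel : K.relIndex (Phi W) = 2 := by
      have e3 : (K'.map (Phi W).subtype).subgroupOf (Phi W) = K' :=
        Subgroup.comap_map_eq_self_of_injective (Phi W).subtype_injective K'
      rw [Subgroup.relIndex, hK, e3, hK'idx]
    have hcommA : ∀ a ∈ A, ∀ b ∈ A, ⁅a, b⁆ ∈ K := by
      intro a ha b hb
      have h1 : ⁅a, b⁆ ∈ Phi W := comm_mem_Phi hT W (hAW ha) (hAW hb)
      have h2 : ⁅a, b⁆ ∈ Phi W₁ := comm_mem_Phi hT W₁ (hAW₁ ha) (hAW₁ hb)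
      have h3 : (⟨⁅a, b⁆, h1⟩ : ↥(Phi W)) ∈ K' := hEK' ⟨h1, h2⟩
      exact ⟨⟨⁅a, b⁆, h1⟩, h3, rfl⟩
    have h8 : 8 ≤ A.relIndex W := F.u1 A K hPA hAW hKP hKrel hcommA
    have hrel8 : A.relIndex W = 8 := le_antisymm hrel h8
    have hrel₁8 : A.relIndex W₁ = 8 := hrelEq ▸ hrel8
    -- `W ⊔ W₁ = ⊤`
    have hsup : W₁ ⊔ W = ⊤ := by
      have h1 : W.relIndex (W₁ ⊔ W) = 8 := by
        rw [Subgroup.relIndex_sup_right, ← Subgroup.inf_relIndex_right, ← hA]; exact hrel₁8
      have h2 := Subgroup.relIndex_mul_index (H := W) (K := W₁ ⊔ W) le_sup_right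
      rw [h1, hs.index_W] at h2
      have h3 : (W₁ ⊔ W).index = 1 := by omega
      exact Subgroup.index_eq_one.mp h3
    have hdecomp : ∀ t : T, ∃ w₁ ∈ W₁, ∃ w ∈ W, t = w₁ * w := by
      intro t
      have ht : t ∈ W₁ ⊔ W := by rw [hsup]; trivial
      rw [← SetLike.mem_coe, Subgroup.mul_normal] at ht
      obtain ⟨w₁, hw₁, w, hw, rfl⟩ := ht
      exact ⟨w₁, hw₁, w, hw, rfl⟩
    -- `Phi W₁ ≤ Z_4`
    have hP₁Z4 : Phi W₁ ≤ Subgroup.upperCentralSeries T 4 := by
      rw [← hs.fix_top]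
      intro f hf
      refine ⟨hAW (hP₁A hf), fun t _ => ?_⟩
      obtain ⟨w₁, hw₁, w, hw, rfl⟩ := hdecomp t
      have hc : f * w₁ = w₁ * f := hcen₁ f hf w₁ hw₁
      have e1 : ⁅f, w₁ * w⁆ = w₁ * ⁅f, w⁆ * w₁⁻¹ := by
        simp only [commutatorElement_def]
        calc f * (w₁ * w) * f⁻¹ * (w₁ * w)⁻¹ = (f * w₁) * w * f⁻¹ * w⁻¹ * w₁⁻¹ := by group
          _ = (w₁ * f) * w * f⁻¹ * w⁻¹ * w₁⁻¹ := by rw [hc]
          _ = _ := by group
      rw [e1]
      exact hPn.conj_mem _ (comm_mem_Phi hT W (hAW (hP₁A hf)) hw) w₁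
    -- `Z_3 = Phi W` has index two in `Z_4`
    have hZidx : ((Phi W).subgroupOf (Subgroup.upperCentralSeries T 4)).index = 2 := by
      have hle : Phi W ≤ Subgroup.upperCentralSeries T 4 := by
        rw [hs.phi_eq]; exact Subgroup.upperCentralSeries_mono T (by omega)
      have h1 := Subgroup.relIndex_mul_relIndex ⊥ (Phi W) (Subgroup.upperCentralSeries T 4) bot_le hle
      rw [Subgroup.relIndex_bot_left, Subgroup.relIndex_bot_left, cPhi, cZ4] at h1
      show (Phi W).relIndex (Subgroup.upperCentralSeries T 4) = 2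
      omega
    have hmulP : ∀ x ∈ Phi W₁, ∀ y ∈ Phi W₁, x ∉ Phi W → y ∉ Phi W → x * y ∈ Phi W := by
      intro x hx y hy hxP hyP
      have := (Subgroup.mul_mem_iff_of_index_two hZidx (a := ⟨x, hP₁Z4 hx⟩)
        (b := ⟨y, hP₁Z4 hy⟩)).mpr (by
          constructor <;> intro hh
          · exact absurd hh hxP
          · exact absurd hh hyP)
      exact this
    -- an element `c ∈ W₁` of order four modulo `W`
    let φ : T →* DihedralGroup 4 := eQ.toMonoidHom.comp (QuotientGroup.mk' W)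
    have hφs : Function.Surjective φ := eQ.surjective.comp (QuotientGroup.mk'_surjective W)
    have hφker : ∀ t : T, φ t = 1 ↔ t ∈ W := by
      intro t
      show eQ (QuotientGroup.mk' W t) = 1 ↔ t ∈ W
      rw [MulEquiv.map_eq_one_iff, QuotientGroup.mk'_apply, QuotientGroup.eq_one_iff]
    obtain ⟨c₀, hc₀⟩ := hφs (DihedralGroup.r 1)
    obtain ⟨c, hcW₁, w₀, hw₀, rfl⟩ := hdecomp c₀
    have hφc : φ c = DihedralGroup.r 1 := by
      rw [← hc₀, map_mul, (hφker w₀).mpr hw₀, mul_one]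
    set S : Subgroup T := (Subgroup.zpowers (DihedralGroup.r (1 : ZMod 4))).comap φ with hS
    have hWS : W ≤ S := by
      intro w hw
      rw [hS, Subgroup.mem_comap, (hφker w).mpr hw]
      exact Subgroup.one_mem _
    have hSidx : S.index = 2 := by
      rw [hS, Subgroup.index_comap_of_surjective _ hφs]
      have h1 := Subgroup.card_mul_index (Subgroup.zpowers (DihedralGroup.r (1 : ZMod 4)))
      rw [Nat.card_zpowers, DihedralGroup.orderOf_r_one, DihedralGroup.nat_card] at h1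
      omega
    have hSle : S ≤ W ⊔ Subgroup.zpowers c := by
      intro s hs'
      rw [hS, Subgroup.mem_comap, Subgroup.mem_zpowers_iff] at hs'
      obtain ⟨i, hi⟩ := hs'
      have h1 : φ (s * (c ^ i)⁻¹) = 1 := by
        rw [map_mul, map_inv, map_zpow, hφc, hi, mul_inv_cancel]
      have h2 : s * (c ^ i)⁻¹ ∈ W := (hφker _).mp h1
      have h3 : s = (s * (c ^ i)⁻¹) * c ^ i := by group
      rw [h3]
      exact Subgroup.mul_mem _ (Subgroup.mem_sup_left h2)
        (Subgroup.mem_sup_right (Subgroup.zpow_mem_zpowers c i))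
    -- `B₀`: the elements of `A` commuting with `c` modulo `Phi W`
    set B₀ : Subgroup T := A ⊓ uniCommL (Phi W) c with hB₀
    have hB₀fix : B₀ ≤ fixMod W S := by
      intro a ha
      refine ⟨hAW ha.1, fun s hs' => ?_⟩
      have h1 : W ⊔ Subgroup.zpowers c ≤ uniComm (Phi W) a := by
        rw [sup_le_iff]
        refine ⟨fun w hw => comm_mem_Phi hT W (hAW ha.1) hw, ?_⟩
        rw [Subgroup.zpowers_le]
        exact ha.2
      exact h1 (hSle hs')
    have cfix : Nat.card ↥(fixMod W S) ≤ 32 := by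
      have := F.fix S hWS
      rw [hSidx] at this
      omega
    have cB₀ : Nat.card ↥B₀ ≤ 32 := (Subgroup.card_le_of_le hB₀fix).trans cfix
    -- `|A : B₀| ≤ 2`
    have hprod : ∀ a ∈ A, ∀ b ∈ A, a ∉ B₀ → b ∉ B₀ → a * b ∈ B₀ := by
      intro a ha b hb haB hbB
      have hac : ⁅a, c⁆ ∈ Phi W₁ := comm_mem_Phi hT W₁ (hAW₁ ha) hcW₁
      have hbc : ⁅b, c⁆ ∈ Phi W₁ := comm_mem_Phi hT W₁ (hAW₁ hb) hcW₁
      have hacP : ⁅a, c⁆ ∉ Phi W := fun hh => haB ⟨ha, hh⟩
      have hbcP : ⁅b, c⁆ ∉ Phi W := fun hh => hbB ⟨hb, hh⟩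
      refine ⟨A.mul_mem ha hb, ?_⟩
      show ⁅a * b, c⁆ ∈ Phi W
      have hcen : ⁅b, c⁆ * a = a * ⁅b, c⁆ := hcen₁ _ hbc a (hAW₁ ha)
      have e1 : ⁅a * b, c⁆ = ⁅b, c⁆ * ⁅a, c⁆ := by
        have : ⁅a * b, c⁆ = (a * ⁅b, c⁆) * a⁻¹ * ⁅a, c⁆ := by
          simp only [commutatorElement_def]; group
        rw [this, ← hcen]; group
      rw [e1]
      exact hmulP _ hbc _ hac hbcP hacP
    have hB₀A : B₀ ≤ A := inf_le_left
    have hB₀idx : B₀.relIndex A ≤ 2 := by
      by_cases htop : B₀.subgroupOf A = ⊤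
      · rw [Subgroup.relIndex, htop, Subgroup.index_top]; norm_num
      · have hex : ∃ a₀ : ↥A, a₀ ∉ B₀.subgroupOf A := by
          by_contra hcon
          push Not at hcon
          exact htop (eq_top_iff.mpr fun x _ => hcon x)
        obtain ⟨a₀, ha₀⟩ := hex
        have : (B₀.subgroupOf A).index = 2 := by
          rw [Subgroup.index_eq_two_iff]
          refine ⟨a₀, fun b => ?_⟩
          by_cases hb : b ∈ B₀.subgroupOf A
          · refine Or.inr ⟨hb, fun hba => ha₀ ?_⟩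
            have := (B₀.subgroupOf A).mul_mem ((B₀.subgroupOf A).inv_mem hb) hba
            rwa [inv_mul_cancel_left] at this
          · refine Or.inl ⟨?_, hb⟩
            exact hprod b.1 b.2 a₀.1 a₀.2 hb ha₀
        rw [Subgroup.relIndex, this]
    -- count
    have hA1 := Subgroup.relIndex_mul_relIndex ⊥ A W bot_le hAW
    have hA2 := Subgroup.relIndex_mul_relIndex ⊥ B₀ A bot_le hB₀A
    rw [Subgroup.relIndex_bot_left, Subgroup.relIndex_bot_left] at hA1 hA2
    rw [hrel8, cW] at hA1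
    have cA : Nat.card ↥A = 2 ^ 8 := by omega
    rw [cA] at hA2
    have : Nat.card ↥B₀ * B₀.relIndex A ≤ 32 * 2 := Nat.mul_le_mul cB₀ hB₀idx
    omega

end Cfsg.Agent.Lib.Helper3.Ru2
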