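import Mathlib
import Cfsg.Prelude.Def_Transfer
import Cfsg.Agent.Lib.Lead.CosetSign
import Cfsg.Agent.Lib.Lead.DihIdx2
import Cfsg.Agent.Lib.Helper6.PRes

set_option autoImplicit false

namespace Cfsg.Agent.Lib.Lead.S1924Main

open Cfsg Cfsg.Agent.Lib.Lead.CosetSign

variable {G : Type*} [Group G]

theorem relIndex_mul_card' {H K : Subgroup G} (h : H ≤ K) :
    H.relIndex K * Nat.card H = Nat.card K := by
  have h1 := Subgroup.card_mul_index (H.subgroupOf K)
  have h2 : Nat.card (H.subgroupOf K) = Nat.card H :=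
    Nat.card_congr (Subgroup.subgroupOfEquivOfLe h).toEquiv
  rw [h2] at h1
  rw [mul_comm]; exact h1

theorem relIndex_ne_zero' [Finite G] (H K : Subgroup G) : H.relIndex K ≠ 0 := by
  unfold Subgroup.relIndex
  exact Subgroup.index_ne_zero_of_finite

theorem eq_pow_of_mem_zpowers {u y : G} {k : ℕ} (ho : orderOf u = 2 ^ (k + 1))
    (hy : y ∈ Subgroup.zpowers u) (hy2 : orderOf y = 2) : y = u ^ 2 ^ k := by
  have hfin : IsOfFinOrder u := by
    rw [← orderOf_pos_iff, ho]; positivity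
  rw [← hfin.mem_powers_iff_mem_zpowers] at hy
  obtain ⟨j, rfl⟩ := (Submonoid.mem_powers_iff _ _).mp hy
  have h1 : (u ^ j) ^ 2 = 1 := by rw [← hy2]; exact pow_orderOf_eq_one _
  rw [← pow_mul] at h1
  have h2 : 2 ^ (k + 1) ∣ j * 2 := by rw [← ho]; exact orderOf_dvd_of_pow_eq_one h1
  rw [pow_succ] at h2
  have h3 : 2 ^ k ∣ j := (Nat.mul_dvd_mul_iff_right (by norm_num)).mp h2
  obtain ⟨i, rfl⟩ := h3
  have hv2 : (u ^ 2 ^ k) ^ 2 = 1 := by
    rw [← pow_mul, ← pow_succ, ← ho]; exact pow_orderOf_eq_one u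
  rw [pow_mul]
  rcases Nat.even_or_odd' i with ⟨q, hq | hq⟩
  · exfalso
    rw [pow_mul, hq, pow_mul, hv2, one_pow, orderOf_one] at hy2
    omega
  · rw [hq, pow_succ, pow_mul, hv2, one_pow, one_mul]

theorem main [Finite G] (L T S D C : Subgroup G) (hL : Cfsg.pResidual 2 ↥L = ⊤)
    (hTL : T ≤ L) (hT2 : IsPGroup 2 T) (hTsyl : ¬ 2 ∣ T.relIndex L)
    (hS2 : IsPGroup 2 S) (hSsyl : ¬ 2 ∣ S.index) (hTS : T ≤ S)
    (hDS : D ≤ S) (hDih : ∃ n : ℕ, 2 ≤ n ∧ Nonempty (↥D ≃* DihedralGroup n)) (hDT : D ⊓ T = ⊥)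
    (hTD : T ⊔ D = S) (hTDc : Nat.card T * Nat.card D = Nat.card S)
    (hCD : C ≤ D) (hC : IsCyclic ↥C) (hCi : C.relIndex D = 2)
    (h1 : ∀ x ∈ D, x ∉ C → orderOf x = 2 → ∀ g : G, g * x * g⁻¹ ∈ T ⊔ C → False)
    (h2 : ∀ c ∈ C, orderOf c = 2 → ∀ g : G, g * c * g⁻¹ ∈ T → False) :
    ∃ K : Subgroup G, K.Normal ∧ K ⊔ D = ⊤ ∧
      ∀ T' : Subgroup G, T' ≤ L → IsPGroup 2 T' → ¬ 2 ∣ T'.relIndex L →
        T' ≤ K ∧ ¬ 2 ∣ T'.relIndex K := by
  classical
  have : Fact (Nat.Prime 2) := ⟨Nat.prime_two⟩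
  -- K = O^2(G)
  have hLK : L ≤ pResidual 2 G := by
    have := Cfsg.Agent.Lib.Helper6.pResidual_map_le 2 L.subtype
    rw [hL] at this
    intro l hl
    exact this ⟨⟨l, hl⟩, Subgroup.mem_top _, rfl⟩
  have hTK : T ≤ pResidual 2 G := hTL.trans hLK
  -- dihedral facts
  obtain ⟨n, hn, ⟨e⟩⟩ := hDih
  have hC0 : IsCyclic (C.subgroupOf D) :=
    isCyclic_of_surjective (Subgroup.subgroupOfEquivOfLe hCD).symm
      (Subgroup.subgroupOfEquivOfLe hCD).symm.surjective
  have hinv : ∀ d ∈ D, d ∉ C → orderOf d = 2 := by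
    intro d hd hdC
    have := DihIdx2.orderOf_eq_two_of_not_mem hn e (C.subgroupOf D) hC0 hCi ⟨d, hd⟩
      (by rw [Subgroup.mem_subgroupOf]; exact hdC)
    rw [← this, ← Subgroup.orderOf_coe]
  obtain ⟨x, hxD, hxC⟩ : ∃ x ∈ D, x ∉ C := by
    have : ¬ D ≤ C := by
      intro h
      have := Subgroup.relIndex_eq_one.mpr h
      omega
    exact SetLike.not_le_iff_exists.mp this
  have hx2 : orderOf x = 2 := hinv x hxD hxC
  -- cards
  have cD : Nat.card D = 2 * Nat.card C := by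
    have := relIndex_mul_card' hCD
    rw [hCi] at this; omega
  have cG : Nat.card G = Nat.card S * S.index := (Subgroup.card_mul_index S).symm
  have hm : Odd S.index := by
    rw [Nat.odd_iff]; omega
  have hQS : T ⊔ C ≤ S := sup_le hTS (hCD.trans hDS)
  have hTC : T ⊓ C = ⊥ := by
    rw [eq_bot_iff, ← hDT]
    exact le_inf (inf_le_right.trans hCD) inf_le_left
  have hposT : 0 < Nat.card T := Nat.card_pos
  have hposC : 0 < Nat.card C := Nat.card_pos
  have cQ : Nat.card (T ⊔ C : Subgroup G) = Nat.card T * Nat.card C := by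
    apply le_antisymm
    · have h3 := relIndex_mul_card' hQS
      have h4 : (T ⊔ C).relIndex S ≠ 1 := by
        intro h
        have := Subgroup.relIndex_eq_one.mp h
        exact h1 x hxD hxC hx2 1 (by simpa using this (hDS hxD))
      have h5 : (T ⊔ C).relIndex S ≠ 0 := relIndex_ne_zero' _ _
      have h6 : 2 ≤ (T ⊔ C).relIndex S := by omega
      have h7 : 2 * Nat.card (T ⊔ C : Subgroup G) ≤ Nat.card S := by
        rw [← h3]; exact Nat.mul_le_mul_right _ h6
      rw [← hTDc, cD] at h7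
      have h8 : 2 * Nat.card (T ⊔ C : Subgroup G) ≤ 2 * (Nat.card T * Nat.card C) := by
        calc 2 * Nat.card (T ⊔ C : Subgroup G) ≤ Nat.card T * (2 * Nat.card C) := h7
          _ = 2 * (Nat.card T * Nat.card C) := by ring
      omega
    · have h3 := relIndex_mul_card' (le_sup_left : T ≤ T ⊔ C)
      have h4 : T.relIndex C ≤ T.relIndex (T ⊔ C) :=
        Subgroup.relIndex_le_of_le_right le_sup_right (relIndex_ne_zero' _ _)
      have h5 : T.relIndex C = Nat.card C := by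
        rw [← Subgroup.inf_relIndex_right, hTC, Subgroup.relIndex_bot_left]
      rw [← h3, mul_comm]
      exact Nat.mul_le_mul_right _ (h5 ▸ h4)
  -- Step 1: the first sign homomorphism
  obtain ⟨σ₀, hσ₀⟩ := exists_sign_hom (⊤ : Subgroup G) (T ⊔ C) le_top 0 S.index hm (by
    rw [Subgroup.card_top, cG, ← hTDc, cD, cQ]; ring)
  have hσx : ∀ y (hy : y ∈ D), y ∉ C → σ₀ ⟨y, Subgroup.mem_top y⟩ = -1 := by
    intro y hyD hyC
    have hy2 := hinv y hyD hyC
    apply hσ₀
    · apply Subtype.ext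
      simp only [Subgroup.coe_pow, Subgroup.coe_one]
      have : y ^ 2 = 1 := by rw [← hy2]; exact pow_orderOf_eq_one y
      simpa using this
    · intro g hg
      apply h1 y hyD hyC hy2 (g : G)
      simpa using hg
  have hKM : pResidual 2 G ≤ kerSub ⊤ σ₀ := pResidual_le_kerSub ⊤ σ₀ le_top
  have hCM : C ≤ kerSub ⊤ σ₀ := by
    intro c hc
    rw [mem_kerSub_iff ⊤ σ₀ c (Subgroup.mem_top c)]
    have h3 : x⁻¹ * c ∈ D := D.mul_mem (D.inv_mem hxD) (hCD hc)
    have h4 : x⁻¹ * c ∉ C := by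
      intro h
      apply hxC
      have := C.mul_mem hc (C.inv_mem h)
      simpa using this
    have h5 : (⟨c, Subgroup.mem_top c⟩ : ↥(⊤ : Subgroup G)) =
        ⟨x, Subgroup.mem_top x⟩ * ⟨x⁻¹ * c, Subgroup.mem_top _⟩ := by
      apply Subtype.ext; simp
    rw [h5, map_mul, hσx x hxD hxC, hσx _ h3 h4]; rfl
  have cM : Nat.card (kerSub ⊤ σ₀) = Nat.card T * Nat.card C * S.index := by
    have := card_kerSub ⊤ σ₀ ⟨x, Subgroup.mem_top x⟩ (hσx x hxD hxC)
    rw [Subgroup.card_top, cG, ← hTDc, cD] at this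
    have h3 : Nat.card T * (2 * Nat.card C) * S.index = (Nat.card T * Nat.card C * S.index) * 2 := by
      ring
    rw [h3] at this
    exact Nat.eq_of_mul_eq_mul_right (by norm_num) this
  -- Step 2: K ⊓ D = ⊥
  have hKD : pResidual 2 G ⊓ D = ⊥ := by
    by_contra hne
    have hP : IsPGroup 2 ↥(pResidual 2 G ⊓ D) := hS2.to_le (inf_le_right.trans hDS)
    obtain ⟨j, hj⟩ := IsPGroup.iff_card.mp hP
    have hj0 : j ≠ 0 := by
      rintro rfl
      apply hne
      rw [pow_zero] at hj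
      exact Subgroup.card_eq_one.mp hj
    obtain ⟨y', hy'⟩ := exists_prime_orderOf_dvd_card' (G := ↥(pResidual 2 G ⊓ D)) 2 (by
      rw [hj]; exact dvd_pow_self 2 hj0)
    have hy2 : orderOf (y' : G) = 2 := by rw [Subgroup.orderOf_coe]; exact hy'
    have hyK : (y' : G) ∈ pResidual 2 G := y'.2.1
    have hyD : (y' : G) ∈ D := y'.2.2
    have hyC : (y' : G) ∈ C := by
      by_contra hyC
      have h3 := hKM hyK
      rw [mem_kerSub_iff ⊤ σ₀ _ (Subgroup.mem_top _), hσx _ hyD hyC] at h3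
      exact absurd h3 (by decide)
    obtain ⟨u', hu'⟩ := hC.exists_generator
    have hou : orderOf (u' : G) = Nat.card C := by
      rw [Subgroup.orderOf_coe]; exact orderOf_eq_card_of_forall_mem_zpowers hu'
    have hPC : IsPGroup 2 ↥C := hS2.to_le (hCD.trans hDS)
    obtain ⟨i, hi⟩ := IsPGroup.iff_card.mp hPC
    have hi0 : i ≠ 0 := by
      rintro rfl
      rw [pow_zero] at hi
      have : C = ⊥ := Subgroup.card_eq_one.mp hi
      rw [this, Subgroup.mem_bot] at hyC
      rw [hyC, orderOf_one] at hy2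
      omega
    obtain ⟨k, rfl⟩ := Nat.exists_eq_succ_of_ne_zero hi0
    have hou' : orderOf (u' : G) = 2 ^ (k + 1) := by rw [hou, hi]
    have hyz : (y' : G) ∈ Subgroup.zpowers (u' : G) := by
      obtain ⟨z, hz⟩ := Subgroup.mem_zpowers_iff.mp (hu' ⟨(y' : G), hyC⟩)
      refine Subgroup.mem_zpowers_iff.mpr ⟨z, ?_⟩
      have := congrArg Subtype.val hz
      simpa using this
    have hyu := eq_pow_of_mem_zpowers hou' hyz hy2
    have key := cyclic_step T hTK k (kerSub ⊤ σ₀) (u' : G) S.index hKM (hCM u'.2) hou' hm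
      (by rw [cM, hi]) (by
        intro g _
        rw [← hyu]
        exact fun h => h2 _ hyC hy2 g h)
    rw [← hyu] at key
    exact key hyK
  -- conclusion
  have hsup : pResidual 2 G ⊔ D = ⊤ := by
    have h3 := Cfsg.Agent.Lib.Helper6.pResidual_sup_sylow (G := G) (p := 2)
      (IsPGroup.toSylow hS2 hSsyl)
    rw [IsPGroup.toSylow_coe] at h3
    rw [eq_top_iff, ← h3, ← hTD]
    exact sup_le le_sup_left (sup_le (hTK.trans le_sup_left) le_sup_right)
  have hidx : (pResidual 2 G).index = Nat.card D := by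
    have h3 := Subgroup.relIndex_sup_left D (pResidual 2 G)
    rw [hsup, Subgroup.relIndex_top_right] at h3
    rw [h3, ← Subgroup.inf_relIndex_right, hKD, Subgroup.relIndex_bot_left]
  have cK : Nat.card (pResidual 2 G) = Nat.card T * S.index := by
    have h3 := Subgroup.card_mul_index (pResidual 2 G)
    rw [hidx, cG, ← hTDc] at h3
    have hposD : 0 < Nat.card D := Nat.card_pos
    have : Nat.card (pResidual 2 G) * Nat.card D = (Nat.card T * S.index) * Nat.card D := by
      rw [h3]; ring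
    exact Nat.eq_of_mul_eq_mul_right hposD this
  refine ⟨pResidual 2 G, inferInstance, hsup, ?_⟩
  intro T' hT'L hT'2 hT'syl
  have hT'K : T' ≤ pResidual 2 G := hT'L.trans hLK
  refine ⟨hT'K, ?_⟩
  -- |T'| = |T|
  have hcardT : Nat.card T' = Nat.card T := by
    obtain ⟨a, ha⟩ := IsPGroup.iff_card.mp hT2
    obtain ⟨b, hb⟩ := IsPGroup.iff_card.mp hT'2
    have e1 := relIndex_mul_card' hTL
    have e2 := relIndex_mul_card' hT'L
    have c1 : Nat.Coprime (Nat.card T) (T'.relIndex L) := by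
      rw [ha]; exact Nat.Coprime.pow_left a
        ((Nat.Prime.coprime_iff_not_dvd Nat.prime_two).mpr hT'syl)
    have c2 : Nat.Coprime (Nat.card T') (T.relIndex L) := by
      rw [hb]; exact Nat.Coprime.pow_left b
        ((Nat.Prime.coprime_iff_not_dvd Nat.prime_two).mpr hTsyl)
    have d1 : Nat.card T ∣ Nat.card T' := by
      have : Nat.card T ∣ T'.relIndex L * Nat.card T' := by rw [e2, ← e1]; exact dvd_mul_left _ _
      exact c1.dvd_of_dvd_mul_left this
    have d2 : Nat.card T' ∣ Nat.card T := by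
      have : Nat.card T' ∣ T.relIndex L * Nat.card T := by rw [e1, ← e2]; exact dvd_mul_left _ _
      exact c2.dvd_of_dvd_mul_left this
    exact Nat.dvd_antisymm d2 d1
  have e3 := relIndex_mul_card' hT'K
  rw [cK, hcardT] at e3
  have : T'.relIndex (pResidual 2 G) = S.index := by
    have : T'.relIndex (pResidual 2 G) * Nat.card T = S.index * Nat.card T := by
      rw [e3]; ring
    exact Nat.eq_of_mul_eq_mul_right hposT this
  rw [this]; exact hSsyl

end Cfsg.Agent.Lib.Lead.S1924Main
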