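import Mathlib
import Cfsg.Agent.Lib.Lead.S3Defs
import Cfsg.Agent.Lib.Helper7.S3S
import Cfsg.Agent.Lib.Helper9.S3Pa
import Cfsg.Agent.Lib.Helper3.S3B6

/-!
# S4305: the critical theorem (Theorem C)

In the critical configuration, if every proper `⟨s,t⟩`-invariant subgroup of `H` is abelian then
`H` is abelian.  Glue of `crit_split` (helper7), `crit_pgroup_abelian` (helper9) and
`crit_split_false` (helper3, with helper8's and helper9's leaves).
-/

set_option autoImplicit false

namespace Cfsg.Agent.Lib.Lead.S3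

universe u w

variable {V : Type u} [AddCommGroup V] [Finite V] {T : Type w} [Group T] [Finite T]
  [DistribMulAction T V] {p : ℕ} {H : Subgroup T} {s t : T}

/-- **Theorem C.** -/
theorem crit_abelian (h : Crit V p H s t) (hmin : MinNonab H s t) :
    ∀ x ∈ H, ∀ y ∈ H, x * y = y * x := by
  by_contra hnab
  rcases Cfsg.Agent.Lib.Helper7.S3S.crit_split h hmin hnab with
    ⟨q, hq, hqp, hH⟩ | ⟨q, r, Q, R, hq, hr, hqr, hqp, hQn, hQH, hRH, hQq, hRr, hQc, hRs, hRt, hQR, hQ1⟩
  · exact hnab (Cfsg.Agent.Lib.Helper9.S3Pa.crit_pgroup_abelian h hq hqp hH)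
  · exact Cfsg.Agent.Lib.Helper3.S3B.crit_split_false h hmin hnab hq hr hqr hqp hQn hQH hRH hQq hRr
      hQc hRs hRt hQR hQ1

end Cfsg.Agent.Lib.Lead.S3
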