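import Mathlib
import Cfsg.Agent.Lib.Lead.S3Defs

/-!
# S4305: from the internal Theorem R to the external statement
-/

set_option autoImplicit false
set_option linter.unusedSectionVars false
set_option linter.unusedVariables false

namespace Cfsg.Agent.Lib.Lead.S3

universe u

/-- the rotation of `Fin 3`. -/
def rot3 : Equiv.Perm (Fin 3) := finRotate 3

/-- a transposition of `Fin 3`. -/
def swap3 : Equiv.Perm (Fin 3) := Equiv.swap 0 1

theorem rot3_pow : rot3 ^ 3 = 1 := by decide
theorem swap3_pow : swap3 ^ 2 = 1 := by decide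
theorem swap3_rot3 : swap3 * rot3 * swap3⁻¹ = rot3⁻¹ := by decide
theorem rot3_ne : rot3 ≠ 1 := by decide
theorem swap3_ne : swap3 ≠ 1 := by decide

theorem perm3_cases (a : Equiv.Perm (Fin 3)) :
    a = 1 ∨ a = rot3 ∨ a = rot3 ^ 2 ∨ a = swap3 ∨ a = rot3 * swap3 ∨ a = rot3 ^ 2 * swap3 := by
  revert a
  decide

theorem perm3_mem_closure (a : Equiv.Perm (Fin 3)) :
    a ∈ Subgroup.closure ({rot3, swap3} : Set (Equiv.Perm (Fin 3))) := by
  have hs : rot3 ∈ Subgroup.closure ({rot3, swap3} : Set (Equiv.Perm (Fin 3))) :=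
    Subgroup.subset_closure (by simp)
  have ht : swap3 ∈ Subgroup.closure ({rot3, swap3} : Set (Equiv.Perm (Fin 3))) :=
    Subgroup.subset_closure (by simp)
  rcases perm3_cases a with rfl | rfl | rfl | rfl | rfl | rfl
  · exact Subgroup.one_mem _
  · exact hs
  · exact Subgroup.pow_mem _ hs 2
  · exact ht
  · exact Subgroup.mul_mem _ hs ht
  · exact Subgroup.mul_mem _ (Subgroup.pow_mem _ hs 2) ht

/-- the external statement from the internal Theorem R. -/
theorem nilpotent_commutator_of_thmR
    (hR : ∀ (n : ℕ) (Γ : Type u) [Group Γ] [Finite Γ] (G : Subgroup Γ) (s t : Γ),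
      Nat.card Γ = n → Setting G s t → Group.IsNilpotent ↥⁅G, G⁆)
    {G : Type u} [Group G] [Finite G] [Group.IsSolvable G]
    [MulDistribMulAction (Equiv.Perm (Fin 3)) G] (hcop : (Nat.card G).Coprime 6)
    (hfpf : ∀ g : G, (∀ a : Equiv.Perm (Fin 3), a • g = g) → g = 1) :
    Group.IsNilpotent ↥(commutator G) := by
  classical
  let φ : Equiv.Perm (Fin 3) →* MulAut G := MulDistribMulAction.toMulAut (Equiv.Perm (Fin 3)) G
  have hΓfin : Finite (G ⋊[φ] Equiv.Perm (Fin 3)) :=
    Finite.of_equiv _ (SemidirectProduct.equivProd (φ := φ)).symm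
  have hinl : Function.Injective (SemidirectProduct.inl : G →* G ⋊[φ] Equiv.Perm (Fin 3)) :=
    SemidirectProduct.inl_injective
  have hinr : Function.Injective (SemidirectProduct.inr : Equiv.Perm (Fin 3) →* G ⋊[φ] Equiv.Perm (Fin 3)) :=
    SemidirectProduct.inr_injective
  set Gi : Subgroup (G ⋊[φ] Equiv.Perm (Fin 3)) :=
    (SemidirectProduct.inl : G →* G ⋊[φ] Equiv.Perm (Fin 3)).range with hGi
  set s : G ⋊[φ] Equiv.Perm (Fin 3) := SemidirectProduct.inr rot3 with hs
  set t : G ⋊[φ] Equiv.Perm (Fin 3) := SemidirectProduct.inr swap3 with ht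
  have hcardGi : Nat.card Gi = Nat.card G :=
    (Nat.card_congr (MonoidHom.ofInjective hinl).toEquiv).symm
  -- conjugation by `inr a` is the action
  have hact : ∀ (a : Equiv.Perm (Fin 3)) (g : G),
      (SemidirectProduct.inr a : G ⋊[φ] Equiv.Perm (Fin 3)) * SemidirectProduct.inl g =
        SemidirectProduct.inl g * SemidirectProduct.inr a → a • g = g := by
    intro a g h1
    have h2 : (SemidirectProduct.inl (φ a g) : G ⋊[φ] Equiv.Perm (Fin 3)) =
        SemidirectProduct.inl g := by
      rw [SemidirectProduct.inl_aut, h1, mul_assoc, ← map_mul, mul_inv_cancel, map_one, mul_one]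
    exact hinl h2
  have hS : Setting Gi s t := by
    refine ⟨?_, ?_, ?_, ?_, ?_, ?_, ?_, ?_, ?_, ?_⟩
    · rw [hGi, SemidirectProduct.range_inl_eq_ker_rightHom]
      infer_instance
    · exact Group.isSolvable_of_surjective
        (MonoidHom.rangeRestrict_surjective (SemidirectProduct.inl : G →* G ⋊[φ] Equiv.Perm (Fin 3)))
    · rw [hcardGi]; exact hcop
    · rw [hs, ← map_pow, rot3_pow, map_one]
    · rw [ht, ← map_pow, swap3_pow, map_one]
    · rw [hs, ht, ← map_inv, ← map_mul, ← map_mul, swap3_rot3, map_inv]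
    · intro h
      rw [hs] at h
      exact rot3_ne (hinr (h.trans (map_one _).symm))
    · intro h
      rw [ht] at h
      exact swap3_ne (hinr (h.trans (map_one _).symm))
    · intro x
      refine ⟨SemidirectProduct.inl x.left, ⟨x.left, rfl⟩, SemidirectProduct.inr x.right, ?_,
        (SemidirectProduct.inl_left_mul_inr_right x).symm⟩
      have h1 := perm3_mem_closure x.right
      have h2 : (SemidirectProduct.inr x.right : G ⋊[φ] Equiv.Perm (Fin 3)) ∈
          (Subgroup.closure ({rot3, swap3} : Set (Equiv.Perm (Fin 3)))).map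
            (SemidirectProduct.inr : Equiv.Perm (Fin 3) →* G ⋊[φ] Equiv.Perm (Fin 3)) :=
        ⟨x.right, h1, rfl⟩
      rw [MonoidHom.map_closure] at h2
      have h3 : (SemidirectProduct.inr : Equiv.Perm (Fin 3) →* G ⋊[φ] Equiv.Perm (Fin 3)) ''
          ({rot3, swap3} : Set (Equiv.Perm (Fin 3))) = {s, t} := by
        rw [Set.image_pair]
      rwa [h3] at h2
    · rintro _ ⟨g, rfl⟩ h1 h2
      have hg : g = 1 := by
        apply hfpf g
        have hs1 : rot3 • g = g := hact rot3 g h1
        have ht1 : swap3 • g = g := hact swap3 g h2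
        have hs2 : rot3 ^ 2 • g = g := by rw [pow_two, mul_smul, hs1, hs1]
        intro a
        rcases perm3_cases a with rfl | rfl | rfl | rfl | rfl | rfl
        · exact one_smul _ g
        · exact hs1
        · exact hs2
        · exact ht1
        · rw [mul_smul, ht1, hs1]
        · rw [mul_smul, ht1, hs2]
      rw [hg, map_one]
  have hnil := hR _ (G ⋊[φ] Equiv.Perm (Fin 3)) Gi s t rfl hS
  -- transfer along `inl`
  have hmap : (commutator G).map (SemidirectProduct.inl : G →* G ⋊[φ] Equiv.Perm (Fin 3)) = ⁅Gi, Gi⁆ := by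
    rw [commutator_def, Subgroup.map_commutator, ← MonoidHom.range_eq_map]
  let f : ↥(commutator G) →* ↥⁅Gi, Gi⁆ :=
    { toFun := fun x => ⟨SemidirectProduct.inl (x : G), by
        rw [← hmap]; exact ⟨x, x.2, rfl⟩⟩
      map_one' := Subtype.ext (by simp)
      map_mul' := fun x y => Subtype.ext (by simp) }
  have hf : Function.Injective f := by
    intro x y hxy
    have : (SemidirectProduct.inl (x : G) : G ⋊[φ] Equiv.Perm (Fin 3)) = SemidirectProduct.inl (y : G) :=
      congrArg Subtype.val hxy
    exact Subtype.ext (hinl this)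
  have : Group.IsNilpotent ↥⁅Gi, Gi⁆ := hnil
  exact Subgroup.isNilpotent_of_ker_le_center f (by
    rw [(MonoidHom.ker_eq_bot_iff f).2 hf]; exact bot_le)

end Cfsg.Agent.Lib.Lead.S3
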