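import Mathlib
import Cfsg.Agent.Lib.Lead.S3Defs
import Cfsg.Agent.Lib.Helper8.S3Defs

/-!
# S4305: the two forms of the internal setting agree
-/

set_option autoImplicit false
set_option linter.unusedSectionVars false
set_option linter.unusedVariables false

namespace Cfsg.Agent.Lib.Lead.S3

universe w

variable {Γ : Type w} [Group Γ] [Finite Γ] {G : Subgroup Γ} {s t : Γ}

/-- `|⟨s,t⟩| = 6` when `s ≠ 1`, `t ≠ 1`. -/
theorem card_closure_eq (hs3 : s ^ 3 = 1) (ht2 : t ^ 2 = 1) (hts : t * s * t⁻¹ = s⁻¹)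
    (hs1 : s ≠ 1) (ht1 : t ≠ 1) : Nat.card (Subgroup.closure ({s, t} : Set Γ)) = 6 := by
  have hdvd := card_closure_dvd hs3 ht2 hts
  have hos : orderOf s = 3 := by
    have : Fact (Nat.Prime 3) := ⟨Nat.prime_three⟩
    exact orderOf_eq_prime hs3 hs1
  have hot : orderOf t = 2 := by
    have : Fact (Nat.Prime 2) := ⟨Nat.prime_two⟩
    exact orderOf_eq_prime ht2 ht1
  have h3 : 3 ∣ Nat.card (Subgroup.closure ({s, t} : Set Γ)) := by
    have := orderOf_dvd_natCard (⟨s, Subgroup.subset_closure (by simp)⟩ :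
      Subgroup.closure ({s, t} : Set Γ))
    rwa [Subgroup.orderOf_mk, hos] at this
  have h2 : 2 ∣ Nat.card (Subgroup.closure ({s, t} : Set Γ)) := by
    have := orderOf_dvd_natCard (⟨t, Subgroup.subset_closure (by simp)⟩ :
      Subgroup.closure ({s, t} : Set Γ))
    rwa [Subgroup.orderOf_mk, hot] at this
  have h6 : 6 ∣ Nat.card (Subgroup.closure ({s, t} : Set Γ)) :=
    Nat.Coprime.mul_dvd_of_dvd_of_dvd (by norm_num) h2 h3
  exact Nat.dvd_antisymm hdvd h6

/-- lead's form of the setting gives helper8's. -/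
theorem Setting.toH8 (h : Setting G s t) : Cfsg.Agent.Lib.Helper8.S3F.Setting G s t := by
  refine ⟨h.hGn, h.hsolv, h.hcop, h.hs3, h.ht2, h.hts, ?_, h.hfpf, ?_⟩
  · exact card_closure_eq h.hs3 h.ht2 h.hts h.hs1 h.ht1
  · rw [eq_top_iff]
    intro x _
    obtain ⟨g, hg, a, ha, rfl⟩ := h.hgen x
    exact Subgroup.mul_mem _ (Subgroup.mem_sup_left hg) (Subgroup.mem_sup_right ha)

end Cfsg.Agent.Lib.Lead.S3
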