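import Mathlib
import Cfsg.Agent.Lib.Lead.Thom4
import Cfsg.Agent.Lib.Helper2.OmegaZ
import Cfsg.Agent.Lib.Helper9.PCore

set_option autoImplicit false

/-!
The centralizer of `Q / Z(Q)` and of `Ω₁(Z(Q))` in a group of characteristic `p`.
-/

namespace Cfsg.Agent.Lib.Lead

namespace S4F

open scoped commutatorElement
open Cfsg.Agent.Lib.Helper2.OmegaZ

variable {X : Type*} [Group X]

/-- the centre of `Q`, inside `X` -/
abbrev Zs (Q : Subgroup X) : Subgroup X := Q ⊓ Subgroup.centralizer (Q : Set X)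

theorem Zs_normal (Q : Subgroup X) [hQ : Q.Normal] : (Zs Q).Normal := by
  haveI : (Subgroup.centralizer (Q : Set X)).Normal := Subgroup.normal_centralizer
  infer_instance

theorem omegaZ_normal {p : ℕ} (Q : Subgroup X) [hQ : Q.Normal] : (omegaZ p Q).Normal := by
  haveI := Zs_normal Q
  refine ⟨fun v hv g => ⟨(Zs_normal Q).conj_mem v hv.1 g, ?_⟩⟩
  rw [conj_pow, hv.2, mul_one, mul_inv_cancel]

/-- the elements centralizing `Q / Z(Q)` -/
def cQZ (Q : Subgroup X) [hQ : Q.Normal] : Subgroup X where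
  carrier := {g | ∀ y ∈ Q, ⁅g, y⁆ ∈ Zs Q}
  one_mem' := by
    intro y _
    rw [commutatorElement_def]
    simp
  mul_mem' := by
    intro g h hg hh y hy
    have e : ⁅g * h, y⁆ = g * ⁅h, y⁆ * g⁻¹ * ⁅g, y⁆ := by
      simp only [commutatorElement_def]; group
    rw [e]
    exact Subgroup.mul_mem _ ((Zs_normal Q).conj_mem _ (hh y hy) g) (hg y hy)
  inv_mem' := by
    intro g hg y hy
    have e : ⁅g⁻¹, y⁆ = g⁻¹ * ⁅g, y⁆⁻¹ * g⁻¹⁻¹ := by
      simp only [commutatorElement_def]; group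
    rw [e]
    exact (Zs_normal Q).conj_mem _ (Subgroup.inv_mem _ (hg y hy)) g⁻¹

theorem mem_cQZ {Q : Subgroup X} [hQ : Q.Normal] {g : X} :
    g ∈ cQZ Q ↔ ∀ y ∈ Q, ⁅g, y⁆ ∈ Zs Q := Iff.rfl

theorem cQZ_normal (Q : Subgroup X) [hQ : Q.Normal] : (cQZ Q).Normal := by
  refine ⟨fun g hg x y hy => ?_⟩
  have e : ⁅x * g * x⁻¹, y⁆ = x * ⁅g, x⁻¹ * y * x⁻¹⁻¹⁆ * x⁻¹ := by
    simp only [commutatorElement_def]; group
  rw [e]
  exact (Zs_normal Q).conj_mem _ (hg _ (hQ.conj_mem y hy x⁻¹)) x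

variable [Finite X] {p : ℕ} [hpf : Fact p.Prime]

/-- an element of order prime to `p` centralizing `Q / Z(Q)` and `Ω₁(Z(Q))` centralizes `Q` -/
theorem commute_of_mem_cQZ {Q : Subgroup X} [hQ : Q.Normal] (hQp : IsPGroup p Q) {h : X}
    (hN : h ∈ cQZ Q) (hV : h ∈ Subgroup.centralizer ((omegaZ p Q : Subgroup X) : Set X))
    (hcop : (orderOf h).Coprime p) : h ∈ Subgroup.centralizer (Q : Set X) := by
  have hZn := Zs_normal Q
  have hZc : ∀ a ∈ Zs Q, ∀ b ∈ Zs Q, a * b = b * a := by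
    intro a ha b hb
    exact (Subgroup.mem_centralizer_iff.mp hb.2) a ha.1
  have hZp : IsPGroup p (Zs Q) := hQp.to_le inf_le_left
  have hhZ : ∀ z ∈ Zs Q, h * z = z * h := by
    apply Thom.commute_of_commute_omP (Zs Q) hZc hZp h _ hcop
    · intro z hz hzp
      exact ((Subgroup.mem_centralizer_iff.mp hV) z ⟨hz, hzp⟩).symm
    · rw [Subgroup.normalizer_eq_top]
      trivial
  rw [Subgroup.mem_centralizer_iff]
  intro y hy
  set c := ⁅h, y⁆ with hc
  have hcZ : c ∈ Zs Q := hN y hy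
  have hhc : h * c = c * h := hhZ c hcZ
  have hpow : ∀ n : ℕ, h ^ n * y * (h ^ n)⁻¹ = c ^ n * y := by
    intro n
    induction n with
    | zero => simp
    | succ n ihn =>
      have h1 : h ^ (n + 1) * y * (h ^ (n + 1))⁻¹ = h * (h ^ n * y * (h ^ n)⁻¹) * h⁻¹ := by
        rw [pow_succ']; group
      rw [h1, ihn]
      have hacn : h * c ^ n = c ^ n * h := (show Commute h c from hhc).pow_right n
      have h2 : h * (c ^ n * y) * h⁻¹ = c ^ n * (h * y * h⁻¹) := by
        rw [← mul_assoc, hacn]; group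
      have h3 : h * y * h⁻¹ = c * y := by rw [hc, commutatorElement_def]; group
      rw [h2, h3, ← mul_assoc, ← pow_succ]
  have h4 := hpow (orderOf h)
  rw [pow_orderOf_eq_one, one_mul, inv_one, mul_one] at h4
  have hcn : c ^ orderOf h = 1 := by
    have : c ^ orderOf h * y = 1 * y := by rw [← h4, one_mul]
    exact mul_right_cancel this
  have hc1 : c = 1 := by
    obtain ⟨i, hi⟩ := hZp ⟨c, hcZ⟩
    have hi' : c ^ p ^ i = 1 := by
      have := congrArg Subtype.val hi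
      simpa using this
    have h5 : orderOf c ∣ orderOf h := orderOf_dvd_of_pow_eq_one hcn
    have h6 : orderOf c ∣ p ^ i := orderOf_dvd_of_pow_eq_one hi'
    have h7 : orderOf c ∣ 1 := by
      have := Nat.dvd_gcd h5 h6
      rwa [Nat.Coprime.gcd_eq_one (Nat.Coprime.pow_right i hcop)] at this
    exact orderOf_eq_one_iff.mp (Nat.dvd_one.mp h7)
  have : h * y * h⁻¹ * y⁻¹ = 1 := by
    rw [← commutatorElement_def]; exact hc1
  calc y * h = (h * y * h⁻¹ * y⁻¹)⁻¹ * (h * y) := by group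
    _ = h * y := by rw [this, inv_one, one_mul]

/-- `C_N(Ω₁(Z(Q))) ≤ O_p(X)` where `N` centralizes `Q / Z(Q)` and `Q = O_p(X)` contains its
centralizer -/
theorem cQZ_inf_centralizer_le
    (hc : Subgroup.centralizer (Cfsg.pCore p X : Set X) ≤ Cfsg.pCore p X) :
    haveI := Cfsg.Agent.Lib.Helper9.pCore_normal' (G := X) p
    cQZ (Cfsg.pCore p X) ⊓
      Subgroup.centralizer ((omegaZ p (Cfsg.pCore p X) : Subgroup X) : Set X) ≤ Cfsg.pCore p X := by
  haveI hQn := Cfsg.Agent.Lib.Helper9.pCore_normal' (G := X) p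
  have hQp : IsPGroup p (Cfsg.pCore p X) := Cfsg.Agent.Lib.Helper9.pCore_isPGroup' p
  haveI := cQZ_normal (Cfsg.pCore p X)
  haveI := omegaZ_normal (p := p) (Cfsg.pCore p X)
  haveI : (Subgroup.centralizer ((omegaZ p (Cfsg.pCore p X) : Subgroup X) : Set X)).Normal :=
    Subgroup.normal_centralizer
  apply Cfsg.Agent.Lib.Helper9.le_pCore inferInstance
  intro g
  set n := orderOf (g : X) with hn
  have hnpos : 0 < n := orderOf_pos (g : X)
  set k := n.factorization p with hk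
  set m := n / p ^ k with hm
  have hmk : p ^ k * m = n := Nat.ordProj_mul_ordCompl_eq_self n p
  have hmcop : m.Coprime p := (Nat.coprime_ordCompl hpf.out hnpos.ne').symm
  set h := (g : X) ^ p ^ k with hh
  have hhm : h ^ m = 1 := by
    rw [hh, ← pow_mul, hmk, hn, pow_orderOf_eq_one]
  have hcop : (orderOf h).Coprime p :=
    Nat.Coprime.coprime_dvd_left (orderOf_dvd_of_pow_eq_one hhm) hmcop
  have hhmem := Subgroup.pow_mem _ g.2 (p ^ k)
  have hhC := commute_of_mem_cQZ hQp hhmem.1 hhmem.2 hcop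
  have hhQ : h ∈ Cfsg.pCore p X := hc hhC
  obtain ⟨i, hi⟩ := hQp ⟨h, hhQ⟩
  have hi' : h ^ p ^ i = 1 := by
    have := congrArg Subtype.val hi
    simpa using this
  have h1 : orderOf h ∣ 1 := by
    have h6 : orderOf h ∣ p ^ i := orderOf_dvd_of_pow_eq_one hi'
    have := Nat.dvd_gcd (dvd_refl _) h6
    rwa [Nat.Coprime.gcd_eq_one (Nat.Coprime.pow_right i hcop)] at this
  have h2 : h = 1 := orderOf_eq_one_iff.mp (Nat.dvd_one.mp h1)
  refine ⟨k, ?_⟩
  apply Subtype.ext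
  rw [Subgroup.coe_pow, Subgroup.coe_one]
  exact h2

end S4F

end Cfsg.Agent.Lib.Lead
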