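import Mathlib
import Cfsg.Agent.Lib.Lead.S4F1
import Cfsg.Agent.Lib.Lead.S4F2
import Cfsg.Agent.Lib.Lead.Thom10
import Cfsg.Agent.Lib.Lead.OddStable
import Cfsg.Agent.Lib.Helper6.Subn
import Cfsg.Agent.Lib.Helper6.PPrimeCore
import Cfsg.Agent.S0044
import Cfsg.Agent.S0009

set_option autoImplicit false

/-!
Solvable groups in which the symmetric group of degree four is not involved, with a Sylow
`2`-subgroup of class at most two: the Thompson subgroup lies in `O_2`.
-/

namespace Cfsg.Agent.Lib.Lead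

namespace S4F

open GT ZJ Thom
open Cfsg.Agent.Lib.Helper2.Replacement
open Cfsg.Agent.Lib.Helper2.OmegaZ
open scoped Pointwise commutatorElement IsMulCommutative

universe u

/-- the image of a solvable subgroup acting faithfully modulo `O_2` has trivial `O_2` and hence an
odd normal `q`-subgroup not centralized by a given nontrivial `2`-element -/
theorem exists_pCore_not_centralized {Y : Type u} [Group Y] [Finite Y] [Group.IsSolvable Y]
    (hO2 : Cfsg.pCore 2 Y = ⊥) (α : Y) (hα1 : α ≠ 1) (hα2 : ∃ j : ℕ, α ^ 2 ^ j = 1) :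
    ∃ q : ℕ, q.Prime ∧ q ≠ 2 ∧ α ∉ Subgroup.centralizer (Cfsg.pCore q Y : Set Y) := by
  haveI : Fact (Nat.Prime 2) := ⟨Nat.prime_two⟩
  by_contra hall
  push Not at hall
  have hF : Cfsg.fittingSubgroup Y ≤ Subgroup.centralizer {α} := by
    rw [Cfsg.Agent.S0009.result]
    apply iSup_le
    intro q
    by_cases hq2 : (q : ℕ) = 2
    · rw [hq2, hO2]; exact bot_le
    · intro x hx
      rw [Subgroup.mem_centralizer_singleton_iff]
      exact (Subgroup.mem_centralizer_iff.mp (hall q q.2 hq2)) x hx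
  have hαC : α ∈ Subgroup.centralizer (Cfsg.fittingSubgroup Y : Set Y) := by
    rw [Subgroup.mem_centralizer_iff]
    intro x hx
    exact Subgroup.mem_centralizer_singleton_iff.mp (hF hx)
  have hαF : α ∈ Cfsg.fittingSubgroup Y := Cfsg.Agent.S0044.result hαC
  have hFle : Cfsg.fittingSubgroup Y ≤ Cfsg.pPrimeCore 2 Y := by
    rw [Cfsg.Agent.S0009.result]
    apply iSup_le
    intro q
    by_cases hq2 : (q : ℕ) = 2
    · rw [hq2, hO2]; exact bot_le
    · haveI : Fact (q : ℕ).Prime := ⟨q.2⟩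
      apply Cfsg.Agent.Lib.Helper6.le_pPrimeCore (Cfsg.Agent.Lib.Helper9.pCore_normal' _)
      obtain ⟨k, hk⟩ := IsPGroup.iff_card.mp
        (Cfsg.Agent.Lib.Helper9.pCore_isPGroup' (G := Y) (q : ℕ))
      rw [hk]
      apply Nat.Coprime.pow_left
      exact (Nat.coprime_primes q.2 Nat.prime_two).mpr hq2
  apply hα1
  obtain ⟨j, hj⟩ := hα2
  obtain ⟨k, -, hk⟩ := (Nat.dvd_prime_pow Nat.prime_two).mp (orderOf_dvd_of_pow_eq_one hj)
  exact Cfsg.Agent.Lib.Helper6.eq_one_of_pElement_of_coprime_card (p := 2)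
    (Cfsg.Agent.Lib.Helper6.pPrimeCore_coprime 2) (hFle hαF) ⟨k, hk⟩

end S4F

end Cfsg.Agent.Lib.Lead
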