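import Mathlib
import Cfsg.Agent.Lib.Lead.S4F3

set_option autoImplicit false

/-!
Solvable groups in which the symmetric group of degree four is not involved, with a Sylow
`2`-subgroup of class at most two: the Thompson subgroup lies in `O_2`.
-/

namespace Cfsg.Agent.Lib.Lead

namespace S4F

open GT ZJ Thom
open Cfsg.Agent.Lib.Helper2.Replacement
open Cfsg.Agent.Lib.Helper2.OmegaZ
open scoped Pointwise commutatorElement IsMulCommutative

universe u

theorem Jn_le_pCore_of_S4free {X : Type u} [Group X] [Finite X] [Group.IsSolvable X]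
    (hO : Cfsg.pPrimeCore 2 X = ⊥) (hS4 : ¬ Cfsg.Involves (Equiv.Perm (Fin 4)) X)
    (D : Subgroup X) (hD : IsPGroup 2 D) (hQD : Cfsg.pCore 2 X ≤ D)
    (hcl : ∀ a ∈ D, ∀ b ∈ D, ∀ c ∈ D, ⁅⁅a, b⁆, c⁆ = 1) :
    Jn 2 X D ≤ Cfsg.pCore 2 X := by
  haveI : Fact (Nat.Prime 2) := ⟨Nat.prime_two⟩
  set Q := Cfsg.pCore 2 X with hQdef
  haveI hQn : Q.Normal := Cfsg.Agent.Lib.Helper9.pCore_normal' 2
  have hQp : IsPGroup 2 Q := Cfsg.Agent.Lib.Helper9.pCore_isPGroup' 2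
  have hc : Subgroup.centralizer (Q : Set X) ≤ Q :=
    OddStable.centralizer_pCore_le_of_solvable (p := 2) hO
  set V := omegaZ 2 Q with hVdef
  haveI hVn : V.Normal := omegaZ_normal Q
  have hVea : Cfsg.IsElementaryAbelian 2 V := isEA_of_le_omegaZ Q le_rfl
  haveI : IsMulCommutative V := hVea.1
  have hVQ : V ≤ Q := fun x hx => hx.1.1
  have hQCV : Q ≤ Subgroup.centralizer (V : Set X) := by
    intro y hy
    rw [Subgroup.mem_centralizer_iff]
    intro v hv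
    exact ((Subgroup.mem_centralizer_iff.mp hv.1.2) y hy).symm
  set N := cQZ Q with hNdef
  haveI hNn : N.Normal := cQZ_normal Q
  have hDN : D ≤ N := by
    intro d hd y hy
    have hyD : y ∈ D := hQD hy
    refine Subgroup.mem_inf.mpr ⟨?_, ?_⟩
    · rw [commutatorElement_def]
      exact Q.mul_mem (hQn.conj_mem y hy d) (Q.inv_mem hy)
    · rw [Subgroup.mem_centralizer_iff]
      intro c hcQ
      have := hcl d hd y hyD c (hQD hcQ)
      rw [commutatorElement_eq_one_iff_mul_comm] at this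
      exact this.symm
  have hNV : N ⊓ Subgroup.centralizer (V : Set X) ≤ Q := cQZ_inf_centralizer_le hc
  by_contra hJ
  have hJW : ¬ Jn 2 X D ≤ Subgroup.centralizer (V : Set X) := by
    intro h
    apply hJ
    exact (le_inf ((Jn_le 2 D).trans hDN) h).trans hNV
  obtain ⟨A, hAD, hAc, hquad, hne, hoffA⟩ :=
    hasOffender_Jn (p := 2) (n := 2) (dvd_refl 2) X D V hD hVn (hVQ.trans hQD) hVea hJW
  set ρ : X →* MulAut V := MulAut.conjNormal with hρ
  have hkerρ : ∀ g, ρ g = 1 ↔ g ∈ Subgroup.centralizer (V : Set X) := fun g => by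
    rw [← MonoidHom.mem_ker]; exact mem_ker_conjNormal V g
  have hkerQ : ∀ g ∈ Q, ρ g = 1 := fun g hg => (hkerρ g).mpr (hQCV hg)
  have hW2 : ∀ w ∈ V, w * w = 1 := fun w hw => by rw [← pow_two]; exact hVea.2 w hw
  have hW2' : ∀ w : V, w * w = 1 := fun w => Subtype.ext (hW2 w w.2)
  have hconj : ∀ (g : X) (w : V), ((ρ g w : V) : X) = g * w * g⁻¹ :=
    fun g w => MulAut.conjNormal_apply g w
  set Γ : Subgroup (MulAut V) := N.map ρ with hΓ
  set Ab := A.map ρ with hAb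
  have hAbΓ : Ab ≤ Γ := Subgroup.map_mono (hAD.trans hDN)
  -- `Γ` is solvable with trivial `O_2`
  have hΓsolv : Group.IsSolvable Γ :=
    Group.isSolvable_of_surjective (f := ρ.subgroupMap N) (ρ.subgroupMap_surjective N)
  have hΓO2 : Cfsg.pCore 2 Γ = ⊥ := by
    rw [eq_bot_iff]
    set Tb := Cfsg.pCore 2 Γ with hTb
    have hTbn : Tb.Normal := Cfsg.Agent.Lib.Helper9.pCore_normal' 2
    have hTbp : IsPGroup 2 Tb := Cfsg.Agent.Lib.Helper9.pCore_isPGroup' 2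
    set T : Subgroup X := N ⊓ (Tb.map Γ.subtype).comap ρ with hT
    have hTN : T ≤ N := inf_le_left
    have hTp : IsPGroup 2 T := by
      rintro ⟨t, htN, ht⟩
      obtain ⟨τ, hτ, hτt⟩ := ht
      obtain ⟨k, hk⟩ := hTbp ⟨τ, hτ⟩
      have h1 : ρ (t ^ 2 ^ k) = 1 := by
        rw [map_pow, ← hτt]
        have := congrArg (fun z : Tb => ((z : Γ) : MulAut V)) hk
        simpa using this
      have h2 : t ^ 2 ^ k ∈ Q := hNV ⟨N.pow_mem htN _, (hkerρ _).mp h1⟩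
      obtain ⟨j, hj⟩ := hQp ⟨_, h2⟩
      refine ⟨k + j, ?_⟩
      apply Subtype.ext
      have := congrArg Subtype.val hj
      simp only [Subgroup.coe_pow, Subgroup.coe_one] at this ⊢
      rw [pow_add, pow_mul]
      exact this
    have hTsub : T.IsSubnormal := by
      refine Subgroup.IsSubnormal.step T N hTN hNn.isSubnormal ?_
      refine ⟨fun t ht n => ?_⟩
      rw [Subgroup.mem_subgroupOf] at ht ⊢
      refine ⟨N.mul_mem (N.mul_mem n.2 ht.1) (N.inv_mem n.2), ?_⟩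
      obtain ⟨τ, hτ, hτt⟩ := ht.2
      have hnΓ : ρ (n : X) ∈ Γ := ⟨n, n.2, rfl⟩
      refine ⟨(⟨ρ (n : X), hnΓ⟩ : Γ) * τ * (⟨ρ (n : X), hnΓ⟩ : Γ)⁻¹, hTbn.conj_mem τ hτ _, ?_⟩
      have hτt' : ((τ : Γ) : MulAut V) = ρ (t : X) := hτt
      simp only [Subgroup.coe_mul, Subgroup.coe_inv, map_mul, map_inv, Subgroup.subtype_apply]
      rw [hτt']
    have hTQ : T ≤ Q := Cfsg.Agent.Lib.Helper6.le_pCore_of_isSubnormal_of_isPGroup hTsub hTp
    intro τ hτ
    obtain ⟨n, hnN, hnτ⟩ := τ.2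
    have hnT : n ∈ T := ⟨hnN, ⟨τ, hτ, hnτ.symm⟩⟩
    rw [Subgroup.mem_bot]
    apply Subtype.ext
    rw [← hnτ]
    exact hkerQ n (hTQ hnT)
  -- an element of `A` acting nontrivially
  have : ∃ a₀ ∈ A, ρ a₀ ≠ 1 := by
    by_contra hall
    push Not at hall
    apply hne
    rw [Subgroup.commutator_comm, Subgroup.commutator_eq_bot_iff_le_centralizer]
    intro a ha
    exact (hkerρ a).mp (hall a ha)
  obtain ⟨a₀, ha₀A, ha₀1⟩ := this
  have hα2 : ∃ j : ℕ, (ρ a₀) ^ 2 ^ j = 1 := by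
    obtain ⟨j, hj⟩ := hD ⟨a₀, hAD ha₀A⟩
    refine ⟨j, ?_⟩
    have : a₀ ^ 2 ^ j = 1 := by simpa using congrArg Subtype.val hj
    rw [← map_pow, this, map_one]
  have hα₀Γ : ρ a₀ ∈ Γ := hAbΓ ⟨a₀, ha₀A, rfl⟩
  obtain ⟨q, hq, hq2, hncent⟩ := exists_pCore_not_centralized hΓO2 (⟨ρ a₀, hα₀Γ⟩ : Γ)
    (fun h => ha₀1 (congrArg Subtype.val h))
    (by
      obtain ⟨j, hj⟩ := hα2
      exact ⟨j, Subtype.ext (by simpa using hj)⟩)
  haveI : Fact q.Prime := ⟨hq⟩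
  have hPbn : (Cfsg.pCore q Γ).Normal := Cfsg.Agent.Lib.Helper9.pCore_normal' q
  have hPbp : IsPGroup q (Cfsg.pCore q Γ) := Cfsg.Agent.Lib.Helper9.pCore_isPGroup' q
  set P : Subgroup (MulAut V) := (Cfsg.pCore q Γ).map Γ.subtype with hP
  have hPΓ : P ≤ Γ := Subgroup.map_subtype_le _
  have hPodd : Odd (Nat.card P) := by
    rw [hP, Subgroup.card_map_of_injective Γ.subtype_injective]
    obtain ⟨k, hk⟩ := IsPGroup.iff_card.mp hPbp
    rw [hk]
    exact (hq.odd_of_ne_two hq2).pow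
  have hΓP : Γ ≤ Subgroup.normalizer (P : Set (MulAut V)) := by
    intro γ hγ
    apply Subgroup.mem_normalizer_fintype
    rintro _ ⟨x, hx, rfl⟩
    exact ⟨(⟨γ, hγ⟩ : Γ) * x * (⟨γ, hγ⟩ : Γ)⁻¹, hPbn.conj_mem x hx _, rfl⟩
  have hncP : ρ a₀ ∉ Subgroup.centralizer (P : Set (MulAut V)) := by
    intro h
    apply hncent
    rw [Subgroup.mem_centralizer_iff] at h ⊢
    intro x hx
    apply Subtype.ext
    exact h x ⟨x, hx, rfl⟩
  have hAbc : ∀ a ∈ Ab, ∀ a' ∈ Ab, a * a' = a' * a := by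
    rintro _ ⟨a, ha, rfl⟩ _ ⟨a', ha', rfl⟩
    rw [← map_mul, ← map_mul, hAc a ha a' ha']
  have hAb2 : ∀ a ∈ Ab, a * a = 1 := by
    rintro _ ⟨a, ha, rfl⟩
    rw [← map_mul, hkerρ]
    apply sq_mem_centralizer_of_quadratic V hW2 a
    intro w hw
    have : ⁅⁅w, a⁆, a⁆ ∈ ⁅⁅V, A⁆, A⁆ :=
      Subgroup.commutator_mem_commutator (Subgroup.commutator_mem_commutator hw ha) ha
    rw [hquad, Subgroup.mem_bot] at this
    exact this
  obtain ⟨x, hxP, hx1, hxinv, hxAb⟩ := exists_inverted_invariant Ab P hAbc hAb2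
    (hAbΓ.trans hΓP) hPodd (ρ a₀) ⟨a₀, ha₀A, rfl⟩ hncP
  have hxodd : Odd (orderOf x) :=
    hPodd.of_dvd_nat (Subgroup.orderOf_dvd_natCard P hxP)
  set Kb := Subgroup.zpowers x with hKb
  have hKbP : Kb ≤ P := Subgroup.zpowers_le.mpr hxP
  have hKodd : ∀ k ∈ Kb, Odd (orderOf k) := fun k hk =>
    hPodd.of_dvd_nat (Subgroup.orderOf_dvd_natCard P (hKbP hk))
  have hsetup : FF2.Setup Kb Ab := by
    refine ⟨?_, hKodd, hAbc, hAb2, ?_⟩
    · intro k hk k' hk'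
      obtain ⟨i, rfl⟩ := Subgroup.mem_zpowers_iff.mp hk
      obtain ⟨j, rfl⟩ := Subgroup.mem_zpowers_iff.mp hk'
      exact zpow_mul_comm x i j
    · intro a ha k hk
      obtain ⟨i, rfl⟩ := Subgroup.mem_zpowers_iff.mp hk
      have : a * x ^ i * a⁻¹ = (a * x * a⁻¹) ^ i := (conj_zpow).symm
      rw [this]
      apply Subgroup.zpow_mem
      rcases hxAb a ha with h | h
      · rw [h]; exact Subgroup.mem_zpowers x
      · rw [h]; exact Subgroup.inv_mem _ (Subgroup.mem_zpowers x)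
  have hnt : ∃ a ∈ Ab, ∃ k ∈ Kb, a * k ≠ k * a := by
    refine ⟨ρ a₀, ⟨a₀, ha₀A, rfl⟩, x, Subgroup.mem_zpowers x, ?_⟩
    intro h
    apply hx1
    have h1 : ρ a₀ * x * (ρ a₀)⁻¹ = x := by rw [h]; group
    rw [hxinv] at h1
    have h2 : x * x = 1 := by
      calc x * x = x * x⁻¹ := by rw [h1]
        _ = 1 := mul_inv_cancel x
    exact FF2.eq_one_of_sq_of_odd h2 hxodd
  -- the offender inequality
  have hoff : ∀ Bb : Subgroup (MulAut V), Bb ≤ Ab →
      Nat.card Bb * Nat.card (FF2.Fix Bb) ≤ Nat.card Ab * Nat.card (FF2.Fix Ab) := by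
    intro Bb hBb
    set B := A ⊓ Bb.comap ρ with hB
    have hBA : B ≤ A := inf_le_left
    have hBmap : B.map ρ = Bb := by
      apply le_antisymm
      · rintro _ ⟨x, hx, rfl⟩
        exact hx.2
      · intro b hb
        obtain ⟨a, ha, rfl⟩ := hBb hb
        exact ⟨a, ⟨ha, hb⟩, rfl⟩
    have hBker : B ⊓ ρ.ker = A ⊓ ρ.ker := by
      apply le_antisymm (inf_le_inf_right _ hBA)
      rintro x ⟨hxA, hxk⟩
      refine ⟨⟨hxA, ?_⟩, hxk⟩
      show ρ x ∈ Bb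
      rw [MonoidHom.mem_ker.mp hxk]
      exact Bb.one_mem
    have h1 := card_eq_card_inf_ker_mul_card_map ρ B
    have h2 := card_eq_card_inf_ker_mul_card_map ρ A
    rw [hBker, hBmap] at h1
    have h3 := hoffA B hBA
    unfold ff at h3
    rw [← card_Fix_map_conjNormal V B, ← card_Fix_map_conjNormal V A, hBmap, h1, h2] at h3
    have hpos : 0 < Nat.card (A ⊓ ρ.ker : Subgroup X) := Nat.card_pos
    rw [mul_assoc, mul_assoc] at h3
    exact Nat.le_of_mul_le_mul_left h3 hpos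
  obtain ⟨U, y, a, hyK, haA, hU4, hUy, hUa, hfpf, ⟨u₀, hu₀U, hu₀⟩⟩ :=
    FF2.module_lemma hW2' Kb Ab hsetup hnt hoff
  obtain ⟨y₀, hy₀N, hy₀⟩ := hPΓ (hKbP hyK)
  obtain ⟨a₁, ha₁A, ha₁⟩ := haA
  set U' : Subgroup X := U.map V.subtype with hU'
  have hU'card : Nat.card U' = 4 := by
    rw [hU', Subgroup.card_map_of_injective V.subtype_injective]; exact hU4
  have hU'V : U' ≤ V := by
    rintro _ ⟨w, _, rfl⟩
    exact w.2
  have hU'2 : ∀ u ∈ U', u * u = 1 := fun u hu => hW2 u (hU'V hu)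
  have hy₀N' : y₀ ∈ Subgroup.normalizer (U' : Set X) := by
    apply Subgroup.mem_normalizer_fintype
    rintro _ ⟨w, hw, rfl⟩
    refine ⟨ρ y₀ w, ?_, hconj y₀ w⟩
    rw [hy₀]
    exact hUy w hw
  have ha₁N' : a₁ ∈ Subgroup.normalizer (U' : Set X) := by
    apply Subgroup.mem_normalizer_fintype
    rintro _ ⟨w, hw, rfl⟩
    refine ⟨ρ a₁ w, ?_, hconj a₁ w⟩
    rw [ha₁]
    exact hUa w hw
  apply hS4
  apply S4.involves_S4 U' hU'card hU'2 y₀ a₁ hy₀N' ha₁N'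
  · rintro _ ⟨w, hw, rfl⟩ h
    have h1 : ρ y₀ w = w := Subtype.ext (by rw [hconj]; exact h)
    rw [hy₀] at h1
    rw [hfpf w hw h1]
    rfl
  · refine ⟨orderOf y, hKodd y hyK, ?_⟩
    apply Subgroup.centralizer_le hU'V
    rw [← hkerρ, map_pow, hy₀, pow_orderOf_eq_one]
  · intro h
    apply hu₀
    apply Subtype.ext
    rw [← ha₁, hconj]
    have := (Subgroup.mem_centralizer_iff.mp h) u₀ ⟨u₀, hu₀U, rfl⟩
    rw [← this, mul_inv_cancel_right]
  · obtain ⟨j, hj⟩ := hD ⟨a₁, hAD ha₁A⟩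
    refine ⟨j, ?_⟩
    have : a₁ ^ 2 ^ j = 1 := by simpa using congrArg Subtype.val hj
    rw [this]
    exact Subgroup.one_mem _

end S4F

end Cfsg.Agent.Lib.Lead
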