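import Mathlib
import Cfsg.Agent.Lib.Lead.S4F4
import Cfsg.Agent.Lib.Lead.DS4d
import Cfsg.Agent.Lib.Helper3.Basic
import Cfsg.Agent.Lib.Lead.Thom11

set_option autoImplicit false

/-!
Groups `X` with `C_X(O_2(X)) ≤ O_2(X)` in which the symmetric group of degree four is not
involved, with Sylow `2`-subgroups of class at most two: the Thompson subgroup lies in `O_2`.
-/

namespace Cfsg.Agent.Lib.Lead

namespace S4F

open GT ZJ Thom
open Cfsg.Agent.Lib.Helper2.Replacement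
open Cfsg.Agent.Lib.Helper2.OmegaZ
open scoped Pointwise commutatorElement IsMulCommutative

universe u

/-- the statement proved by induction -/
def Stmt (Y : Type u) [Group Y] [Finite Y] : Prop :=
  Subgroup.centralizer (Cfsg.pCore 2 Y : Set Y) ≤ Cfsg.pCore 2 Y →
  ¬ Cfsg.Involves (Equiv.Perm (Fin 4)) Y →
  (∀ R : Subgroup Y, IsPGroup 2 R → ∀ a ∈ R, ∀ b ∈ R, ∀ c ∈ R, ⁅⁅a, b⁆, c⁆ = 1) →
  ∀ S : Sylow 2 Y, Jn 2 Y (S : Subgroup Y) ≤ Cfsg.pCore 2 Y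

/-- the inductive hypothesis -/
def IH (n : ℕ) : Prop := ∀ (Y : Type u) [Group Y] [Finite Y], Nat.card Y < n → Stmt Y

theorem isPGroup_of_abelExp_two {X : Type u} [Group X] {E : Subgroup X} (hE : AbelExp 2 E) :
    IsPGroup 2 E := by
  rintro ⟨e, he⟩
  refine ⟨1, Subtype.ext ?_⟩
  show e ^ 2 ^ 1 = 1
  rw [pow_one]
  exact hE.2 e he

theorem abelExp_map {X Y : Type*} [Group X] [Group Y] {n : ℕ} {E : Subgroup X} (hE : AbelExp n E)
    (f : X →* Y) : AbelExp n (E.map f) := by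
  constructor
  · rintro _ ⟨x, hx, rfl⟩ _ ⟨y, hy, rfl⟩
    rw [← map_mul, ← map_mul, hE.1 x hx y hy]
  · rintro _ ⟨x, hx, rfl⟩
    rw [← map_pow, hE.2 x hx, map_one]

theorem tool_of_IH {X : Type u} [Group X] [Finite X] (hIH : IH.{u} (Nat.card X))
    (hc : Subgroup.centralizer (Cfsg.pCore 2 X : Set X) ≤ Cfsg.pCore 2 X)
    (hS4 : ¬ Cfsg.Involves (Equiv.Perm (Fin 4)) X)
    (hcl : ∀ R : Subgroup X, IsPGroup 2 R → ∀ a ∈ R, ∀ b ∈ R, ∀ c ∈ R, ⁅⁅a, b⁆, c⁆ = 1)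
    (H : Subgroup X) (hH : H ≠ ⊤) (hQH : Cfsg.pCore 2 X ≤ H) (A' : Subgroup X) (hA'H : A' ≤ H)
    (hA'e : AbelExp 2 A')
    (hA'max : ∀ E : Subgroup X, AbelExp 2 E → Nat.card E ≤ Nat.card A') :
    ∃ N₀ : Subgroup X, N₀ ≤ H ∧ (∀ h ∈ H, ∀ n ∈ N₀, h * n * h⁻¹ ∈ N₀) ∧ IsPGroup 2 N₀ ∧
      A' ≤ N₀ := by
  haveI : Fact (Nat.Prime 2) := ⟨Nat.prime_two⟩
  have hlt : Nat.card H < Nat.card X := by
    apply lt_of_le_of_ne (Subgroup.card_le_card_group H)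
    intro h
    exact hH ((Subgroup.card_eq_iff_eq_top H).mp h)
  haveI hQn : (Cfsg.pCore 2 X).Normal := Cfsg.Agent.Lib.Helper9.pCore_normal' 2
  have hQp : IsPGroup 2 (Cfsg.pCore 2 X) := Cfsg.Agent.Lib.Helper9.pCore_isPGroup' 2
  have hQH' : (Cfsg.pCore 2 X).subgroupOf H ≤ Cfsg.pCore 2 ↥H := by
    apply Cfsg.Agent.Lib.Helper6.le_pCore
    · infer_instance
    · exact hQp.comap_subtype
  have hcH : Subgroup.centralizer (Cfsg.pCore 2 ↥H : Set ↥H) ≤ Cfsg.pCore 2 ↥H := by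
    intro x hx
    apply hQH'
    rw [Subgroup.mem_subgroupOf]
    apply hc
    rw [Subgroup.mem_centralizer_iff]
    intro q hq
    have := Subgroup.mem_centralizer_iff.mp hx ⟨q, hQH hq⟩
      (hQH' (Subgroup.mem_subgroupOf.mpr hq))
    exact congrArg Subtype.val this
  have hS4H : ¬ Cfsg.Involves (Equiv.Perm (Fin 4)) ↥H :=
    fun h => hS4 (Thom.involves_of_subgroup H h)
  have hclH : ∀ R : Subgroup ↥H, IsPGroup 2 R → ∀ a ∈ R, ∀ b ∈ R, ∀ c ∈ R,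
      ⁅⁅a, b⁆, c⁆ = 1 := by
    intro R hR a ha b hb c hc'
    have := hcl (R.map H.subtype) (hR.map _) a ⟨a, ha, rfl⟩ b ⟨b, hb, rfl⟩ c ⟨c, hc', rfl⟩
    apply H.subtype_injective
    rw [map_commutatorElement, map_commutatorElement, map_one]
    exact this
  have hA'p : IsPGroup 2 (A'.subgroupOf H) := (isPGroup_of_abelExp_two hA'e).comap_subtype
  obtain ⟨S_H, hAS⟩ := hA'p.exists_le_sylow
  have hJ := hIH ↥H hlt hcH hS4H hclH S_H
  have hmax : A'.subgroupOf H ∈ maxIn 2 (S_H : Subgroup ↥H) := by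
    refine ⟨hAS, ⟨?_, ?_⟩, ?_⟩
    · intro x hx y hy
      apply Subtype.ext
      exact hA'e.1 x hx y hy
    · intro a ha
      apply Subtype.ext
      have := hA'e.2 a ha
      simpa using this
    · intro B _ hBe
      have h1 : Nat.card (B.map H.subtype) = Nat.card B :=
        Subgroup.card_map_of_injective H.subtype_injective
      rw [← h1, card_subgroupOf_of_le hA'H]
      exact hA'max _ (abelExp_map hBe _)
  have hle : A'.subgroupOf H ≤ Cfsg.pCore 2 ↥H := (Thom.le_Jn hmax).trans hJ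
  refine ⟨(Cfsg.pCore 2 ↥H).map H.subtype, Subgroup.map_subtype_le _, ?_,
    (Cfsg.Agent.Lib.Helper9.pCore_isPGroup' 2).map _, ?_⟩
  · rintro h hh _ ⟨n, hn, rfl⟩
    refine ⟨⟨h, hh⟩ * n * ⟨h, hh⟩⁻¹,
      (Cfsg.Agent.Lib.Helper9.pCore_normal' 2).conj_mem n hn _, ?_⟩
    simp
  · intro a ha
    exact ⟨⟨a, hA'H ha⟩, hle (Subgroup.mem_subgroupOf.mpr ha), rfl⟩

end S4F

end Cfsg.Agent.Lib.Lead
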