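import Mathlib
import Cfsg.Agent.Lib.Lead.S4F5

set_option autoImplicit false

/-!
Groups `X` with `C_X(O_2(X)) ≤ O_2(X)` in which the symmetric group of degree four is not
involved, with Sylow `2`-subgroups of class at most two: the inductive step.
-/

namespace Cfsg.Agent.Lib.Lead

namespace S4F

open GT ZJ Thom
open Cfsg.Agent.Lib.Helper2.Replacement
open Cfsg.Agent.Lib.Helper2.OmegaZ
open scoped Pointwise commutatorElement IsMulCommutative

universe u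

theorem Jn_le_pCore_step {X : Type u} [Group X] [Finite X] (hIH : IH.{u} (Nat.card X))
    (hc : Subgroup.centralizer (Cfsg.pCore 2 X : Set X) ≤ Cfsg.pCore 2 X)
    (hS4 : ¬ Cfsg.Involves (Equiv.Perm (Fin 4)) X)
    (hclall : ∀ R : Subgroup X, IsPGroup 2 R → ∀ a ∈ R, ∀ b ∈ R, ∀ c ∈ R, ⁅⁅a, b⁆, c⁆ = 1)
    (S : Sylow 2 X) : Jn 2 X (S : Subgroup X) ≤ Cfsg.pCore 2 X := by
  haveI : Fact (Nat.Prime 2) := ⟨Nat.prime_two⟩
  set D : Subgroup X := (S : Subgroup X) with hDdef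
  have hD : IsPGroup 2 D := S.isPGroup'
  have hcl := hclall D hD
  set Q := Cfsg.pCore 2 X with hQdef
  haveI hQn : Q.Normal := Cfsg.Agent.Lib.Helper9.pCore_normal' 2
  have hQp : IsPGroup 2 Q := Cfsg.Agent.Lib.Helper9.pCore_isPGroup' 2
  have hQD : Q ≤ D := Cfsg.Agent.Lib.Helper9.pCore_le_sylow S
  set V := omegaZ 2 Q with hVdef
  haveI hVn : V.Normal := omegaZ_normal Q
  have hVea : Cfsg.IsElementaryAbelian 2 V := isEA_of_le_omegaZ Q le_rfl
  haveI : IsMulCommutative V := hVea.1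
  have hVQ : V ≤ Q := fun x hx => hx.1.1
  have hQCV : Q ≤ Subgroup.centralizer (V : Set X) := by
    intro y hy
    rw [Subgroup.mem_centralizer_iff]
    intro v hv
    exact ((Subgroup.mem_centralizer_iff.mp hv.1.2) y hy).symm
  set N := cQZ Q with hNdef
  haveI hNn : N.Normal := cQZ_normal Q
  have hDN : D ≤ N := by
    intro d hd y hy
    have hyD : y ∈ D := hQD hy
    refine Subgroup.mem_inf.mpr ⟨?_, ?_⟩
    · rw [commutatorElement_def]
      exact Q.mul_mem (hQn.conj_mem y hy d) (Q.inv_mem hy)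
    · rw [Subgroup.mem_centralizer_iff]
      intro c hcQ
      have := hcl d hd y hyD c (hQD hcQ)
      rw [commutatorElement_eq_one_iff_mul_comm] at this
      exact this.symm
  have hNV : N ⊓ Subgroup.centralizer (V : Set X) ≤ Q := cQZ_inf_centralizer_le hc
  by_contra hJ
  have hJW : ¬ Jn 2 X D ≤ Subgroup.centralizer (V : Set X) := by
    intro h
    apply hJ
    exact (le_inf ((Jn_le 2 D).trans hDN) h).trans hNV
  have hW : AbelExp 2 V := ⟨(isMulCommutative_iff V).mp hVea.1, fun a ha => hVea.2 a ha⟩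
  obtain ⟨A₀, hA₀, hA₀W⟩ : ∃ A ∈ maxIn 2 D, ¬ A ≤ Subgroup.centralizer (V : Set X) := by
    by_contra hall
    push Not at hall
    exact hJW (sSup_le hall)
  obtain ⟨h1, h2, h3⟩ := replacement_maxIn hD (hVQ.trans hQD) hW hA₀
  set A := ⁅V, A₀⁆ ⊔ (A₀ ⊓ Subgroup.centralizer ((⁅V, A₀⁆ : Subgroup X) : Set X)) with hAdef
  have hAmem : A ∈ maxIn 2 D := h1
  have hAD : A ≤ D := h1.1
  have hAe : AbelExp 2 A := h1.2.1
  have hAc : ∀ a ∈ A, ∀ b ∈ A, a * b = b * a := hAe.1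
  have hquad : ⁅⁅V, A⁆, A⁆ = ⊥ := h2
  have hne : ⁅V, A⁆ ≠ ⊥ := by
    apply h3
    intro hbot
    apply hA₀W
    rw [Subgroup.commutator_comm, Subgroup.commutator_eq_bot_iff_le_centralizer] at hbot
    exact hbot
  have hoffA : ∀ B : Subgroup X, B ≤ A → ff V B ≤ ff V A :=
    (weak_offender_of_maxIn (hVQ.trans hQD) hW h1).2
  set ρ : X →* MulAut V := MulAut.conjNormal with hρ
  have hkerρ : ∀ g, ρ g = 1 ↔ g ∈ Subgroup.centralizer (V : Set X) := fun g => by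
    rw [← MonoidHom.mem_ker]; exact mem_ker_conjNormal V g
  have hkerQ : ∀ g ∈ Q, ρ g = 1 := fun g hg => (hkerρ g).mpr (hQCV hg)
  have hW2 : ∀ w ∈ V, w * w = 1 := fun w hw => by rw [← pow_two]; exact hVea.2 w hw
  have hW2' : ∀ w : V, w * w = 1 := fun w => Subtype.ext (hW2 w w.2)
  have hconj : ∀ (g : X) (w : V), ((ρ g w : V) : X) = g * w * g⁻¹ :=
    fun g w => MulAut.conjNormal_apply g w
  set Γ : Subgroup (MulAut V) := N.map ρ with hΓ
  set Ab := A.map ρ with hAb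
  have hAbΓ : Ab ≤ Γ := Subgroup.map_mono (hAD.trans hDN)
  -- an element of `A` acting nontrivially
  have : ∃ a₀ ∈ A, ρ a₀ ≠ 1 := by
    by_contra hall
    push Not at hall
    apply hne
    rw [Subgroup.commutator_comm, Subgroup.commutator_eq_bot_iff_le_centralizer]
    intro a ha
    exact (hkerρ a).mp (hall a ha)
  obtain ⟨a₀, ha₀A, ha₀1⟩ := this
  have hAbc : ∀ a ∈ Ab, ∀ a' ∈ Ab, a * a' = a' * a := by
    rintro _ ⟨a, ha, rfl⟩ _ ⟨a', ha', rfl⟩
    rw [← map_mul, ← map_mul, hAc a ha a' ha']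
  have hAb2 : ∀ a ∈ Ab, a * a = 1 := by
    rintro _ ⟨a, ha, rfl⟩
    rw [← map_mul, hkerρ]
    apply sq_mem_centralizer_of_quadratic V hW2 a
    intro w hw
    have : ⁅⁅w, a⁆, a⁆ ∈ ⁅⁅V, A⁆, A⁆ :=
      Subgroup.commutator_mem_commutator (Subgroup.commutator_mem_commutator hw ha) ha
    rw [hquad, Subgroup.mem_bot] at this
    exact this
  -- the offender inequality
  have hoff : ∀ Bb : Subgroup (MulAut V), Bb ≤ Ab →
      Nat.card Bb * Nat.card (FF2.Fix Bb) ≤ Nat.card Ab * Nat.card (FF2.Fix Ab) := by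
    intro Bb hBb
    set B := A ⊓ Bb.comap ρ with hB
    have hBA : B ≤ A := inf_le_left
    have hBmap : B.map ρ = Bb := by
      apply le_antisymm
      · rintro _ ⟨x, hx, rfl⟩
        exact hx.2
      · intro b hb
        obtain ⟨a, ha, rfl⟩ := hBb hb
        exact ⟨a, ⟨ha, hb⟩, rfl⟩
    have hBker : B ⊓ ρ.ker = A ⊓ ρ.ker := by
      apply le_antisymm (inf_le_inf_right _ hBA)
      rintro x ⟨hxA, hxk⟩
      refine ⟨⟨hxA, ?_⟩, hxk⟩
      show ρ x ∈ Bb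
      rw [MonoidHom.mem_ker.mp hxk]
      exact Bb.one_mem
    have h1 := card_eq_card_inf_ker_mul_card_map ρ B
    have h2 := card_eq_card_inf_ker_mul_card_map ρ A
    rw [hBker, hBmap] at h1
    have h3 := hoffA B hBA
    unfold ff at h3
    rw [← card_Fix_map_conjNormal V B, ← card_Fix_map_conjNormal V A, hBmap, h1, h2] at h3
    have hpos : 0 < Nat.card (A ⊓ ρ.ker : Subgroup X) := Nat.card_pos
    rw [mul_assoc, mul_assoc] at h3
    exact Nat.le_of_mul_le_mul_left h3 hpos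
  have hNker : ∀ t ∈ N, ρ t = 1 → t ∈ Q := fun t ht h => hNV ⟨ht, (hkerρ t).mp h⟩
  have hpre2 : ∀ R : Subgroup (MulAut V), IsPGroup 2 R →
      IsPGroup 2 (N ⊓ R.comap ρ : Subgroup X) := by
    intro R hR
    rintro ⟨t, htN, ht⟩
    obtain ⟨k, hk⟩ := hR ⟨ρ t, ht⟩
    have h1 : ρ (t ^ 2 ^ k) = 1 := by
      rw [map_pow]
      have := congrArg (fun z : R => (z : MulAut V)) hk
      simpa using this
    have h2 : t ^ 2 ^ k ∈ Q := hNker _ (N.pow_mem htN _) h1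
    obtain ⟨j, hj⟩ := hQp ⟨_, h2⟩
    refine ⟨k + j, ?_⟩
    apply Subtype.ext
    have := congrArg Subtype.val hj
    simp only [Subgroup.coe_pow, Subgroup.coe_one] at this ⊢
    rw [pow_add, pow_mul]
    exact this
  have hO2 : ∀ N₁ : Subgroup (MulAut V), N₁ ≤ Γ → (∀ γ ∈ Γ, ∀ n ∈ N₁, γ * n * γ⁻¹ ∈ N₁) →
      IsPGroup 2 N₁ → N₁ = ⊥ := by
    intro N₁ hN₁Γ hN₁n hN₁p
    set T : Subgroup X := N ⊓ N₁.comap ρ with hT
    have hTp : IsPGroup 2 T := hpre2 N₁ hN₁p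
    have hTsub : T.IsSubnormal := by
      refine Subgroup.IsSubnormal.step T N inf_le_left hNn.isSubnormal ?_
      refine ⟨fun t ht n => ?_⟩
      rw [Subgroup.mem_subgroupOf] at ht ⊢
      refine ⟨N.mul_mem (N.mul_mem n.2 ht.1) (N.inv_mem n.2), ?_⟩
      show ρ ((n * t * n⁻¹ : N) : X) ∈ N₁
      simp only [Subgroup.coe_mul, Subgroup.coe_inv, map_mul, map_inv]
      exact hN₁n _ ⟨n, n.2, rfl⟩ _ ht.2
    have hTQ : T ≤ Q := Cfsg.Agent.Lib.Helper6.le_pCore_of_isSubnormal_of_isPGroup hTsub hTp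
    rw [eq_bot_iff]
    intro τ hτ
    obtain ⟨n, hnN, rfl⟩ := hN₁Γ hτ
    rw [Subgroup.mem_bot]
    exact hkerQ n (hTQ ⟨hnN, hτ⟩)
  have hab2 : ∀ R : Subgroup (MulAut V), R ≤ Γ → IsPGroup 2 R →
      ∀ r ∈ R, ∀ s ∈ R, r * s = s * r := by
    intro R hRΓ hRp r hr s hs
    obtain ⟨r₀, hr₀N, rfl⟩ := hRΓ hr
    obtain ⟨s₀, hs₀N, rfl⟩ := hRΓ hs
    have hR₀p := hpre2 R hRp
    have hr₀ : r₀ ∈ (N ⊓ R.comap ρ : Subgroup X) := ⟨hr₀N, hr⟩
    have hs₀ : s₀ ∈ (N ⊓ R.comap ρ : Subgroup X) := ⟨hs₀N, hs⟩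
    have hQR₀ : Q ≤ (N ⊓ R.comap ρ : Subgroup X) := by
      intro q hq
      refine ⟨hDN (hQD hq), ?_⟩
      show ρ q ∈ R
      rw [hkerQ q hq]
      exact R.one_mem
    have hcen : ⁅r₀, s₀⁆ ∈ Subgroup.centralizer (Q : Set X) := by
      rw [Subgroup.mem_centralizer_iff]
      intro q hq
      have := hclall _ hR₀p r₀ hr₀ s₀ hs₀ q (hQR₀ hq)
      rw [commutatorElement_eq_one_iff_mul_comm] at this
      exact this.symm
    have h1 : ρ ⁅r₀, s₀⁆ = 1 := hkerQ _ (hc hcen)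
    rw [map_commutatorElement, commutatorElement_eq_one_iff_mul_comm] at h1
    exact h1
  have hAglob : ∀ E : Subgroup X, AbelExp 2 E → Nat.card E ≤ Nat.card A := by
    intro E hE
    have hEp : IsPGroup 2 E := isPGroup_of_abelExp_two hE
    obtain ⟨c, -, hcE⟩ := Cfsg.Agent.Lib.Helper3.exists_conj_le_of_le_sylow S ⊤ E le_top hEp le_top
    have hEq : (MulAut.conj c • E : Subgroup X) = E.map (MulAut.conj c).toMonoidHom := rfl
    have hconjE : AbelExp 2 (MulAut.conj c • E : Subgroup X) := by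
      rw [hEq]; exact abelExp_map hE _
    have := hAmem.2.2 _ hcE hconjE
    have hcard : Nat.card (MulAut.conj c • E : Subgroup X) = Nat.card E := by
      rw [hEq]; exact Subgroup.card_map_of_injective (MulAut.conj c).injective
    rwa [hcard] at this
  have htool : ∀ H : Subgroup (MulAut V), H ≤ Γ → H ≠ Γ → ∀ γ ∈ Γ, DS4.cj γ Ab ≤ H →
      ∃ N₁ : Subgroup (MulAut V), N₁ ≤ H ∧ (∀ h ∈ H, ∀ n ∈ N₁, h * n * h⁻¹ ∈ N₁) ∧
        IsPGroup 2 N₁ ∧ DS4.cj γ Ab ≤ N₁ := by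
    intro H hHΓ hHne γ hγ hle
    obtain ⟨g, hgN, rfl⟩ := hγ
    have hH₀top : (N ⊓ H.comap ρ : Subgroup X) ≠ ⊤ := by
      intro htop
      apply hHne
      apply le_antisymm hHΓ
      rintro _ ⟨n, hn, rfl⟩
      have : n ∈ (N ⊓ H.comap ρ : Subgroup X) := by rw [htop]; trivial
      exact this.2
    have hQH₀ : Q ≤ (N ⊓ H.comap ρ : Subgroup X) := by
      intro q hq
      refine ⟨hDN (hQD hq), ?_⟩
      show ρ q ∈ H
      rw [hkerQ q hq]
      exact H.one_mem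
    have hρA' : ∀ x ∈ A.map (MulAut.conj g).toMonoidHom, ρ x ∈ DS4.cj (ρ g) Ab := by
      rintro _ ⟨a, ha, rfl⟩
      rw [DS4.mem_cj]
      refine ⟨ρ a, ⟨a, ha, rfl⟩, ?_⟩
      show ρ g * ρ a * (ρ g)⁻¹ = ρ (g * a * g⁻¹)
      rw [map_mul, map_mul, map_inv]
    have hA'H₀ : A.map (MulAut.conj g).toMonoidHom ≤ (N ⊓ H.comap ρ : Subgroup X) := by
      intro x hx
      refine ⟨?_, hle (hρA' x hx)⟩
      obtain ⟨a, ha, rfl⟩ := hx
      exact hNn.conj_mem a (hDN (hAD ha)) g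
    have hA'e : AbelExp 2 (A.map (MulAut.conj g).toMonoidHom) := abelExp_map hAe _
    have hA'max : ∀ E : Subgroup X, AbelExp 2 E →
        Nat.card E ≤ Nat.card (A.map (MulAut.conj g).toMonoidHom) := by
      intro E hE
      rw [Subgroup.card_map_of_injective (MulAut.conj g).injective]
      exact hAglob E hE
    obtain ⟨N₀, hN₀H, hN₀n, hN₀p, hA'N₀⟩ := tool_of_IH hIH hc hS4 hclall _ hH₀top hQH₀ _
      hA'H₀ hA'e hA'max
    refine ⟨N₀.map ρ, ?_, ?_, hN₀p.map ρ, ?_⟩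
    · rintro _ ⟨n, hn, rfl⟩
      exact (hN₀H hn).2
    · rintro h hh _ ⟨n, hn, rfl⟩
      obtain ⟨h₀, hh₀N, rfl⟩ := hHΓ hh
      refine ⟨h₀ * n * h₀⁻¹, hN₀n h₀ ⟨hh₀N, hh⟩ n hn, ?_⟩
      rw [map_mul, map_mul, map_inv]
    · intro x hx
      obtain ⟨b, hb, rfl⟩ := DS4.mem_cj.mp hx
      obtain ⟨a, ha, rfl⟩ := hb
      refine ⟨g * a * g⁻¹, hA'N₀ ⟨a, ha, rfl⟩, ?_⟩
      rw [map_mul, map_mul, map_inv]
  have hHyp : DS4.Hyp Γ Ab := by
    refine ⟨hW2', hAbΓ, ?_, hAb2, hAbc, ?_, ?_, hO2, hab2, htool⟩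
    · intro hbot
      have : ρ a₀ ∈ Ab := ⟨a₀, ha₀A, rfl⟩
      rw [hbot, Subgroup.mem_bot] at this
      exact ha₀1 this
    · rintro _ ⟨α, hα, rfl⟩ _ ⟨α', hα', rfl⟩ w
      apply Subtype.ext
      rw [hconj]
      have hu : ((ρ α w * w : V) : X) = ⁅α, (w : X)⁆ := by
        rw [Subgroup.coe_mul, hconj, commutatorElement_def]
        have : ((w : X))⁻¹ = w := inv_eq_of_mul_eq_one_left (hW2 w w.2)
        rw [this]
      rw [hu]
      have hmem : ⁅⁅α, (w : X)⁆, α'⁆ ∈ ⁅⁅V, A⁆, A⁆ := by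
        apply Subgroup.commutator_mem_commutator _ hα'
        rw [Subgroup.commutator_comm]
        exact Subgroup.commutator_mem_commutator hα w.2
      rw [hquad, Subgroup.mem_bot, commutatorElement_eq_one_iff_mul_comm] at hmem
      rw [← hmem, mul_inv_cancel_right]
    · have := hoff ⊥ bot_le
      rw [Subgroup.card_bot, one_mul] at this
      have hFix : FF2.Fix (⊥ : Subgroup (MulAut V)) = ⊤ := by
        ext w
        constructor
        · intro _; trivial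
        · intro _ b hb
          rw [Subgroup.mem_bot] at hb
          rw [hb]; rfl
      rw [hFix, Subgroup.card_top] at this
      exact this
  obtain ⟨U, y, a, hyΓ, haΓ, hU4, hUy, hUa, hfpf, ⟨u₀, hu₀U, hu₀⟩, hy3, haa⟩ :=
    hHyp.exists_four
  obtain ⟨y₀, hy₀N, hy₀⟩ := hyΓ
  obtain ⟨a₁, ha₁N, ha₁⟩ := haΓ
  set U' : Subgroup X := U.map V.subtype with hU'
  have hU'card : Nat.card U' = 4 := by
    rw [hU', Subgroup.card_map_of_injective V.subtype_injective]; exact hU4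
  have hU'V : U' ≤ V := by
    rintro _ ⟨w, _, rfl⟩
    exact w.2
  have hU'2 : ∀ u ∈ U', u * u = 1 := fun u hu => hW2 u (hU'V hu)
  have hy₀N' : y₀ ∈ Subgroup.normalizer (U' : Set X) := by
    apply Subgroup.mem_normalizer_fintype
    rintro _ ⟨w, hw, rfl⟩
    refine ⟨ρ y₀ w, ?_, hconj y₀ w⟩
    rw [hy₀]
    exact hUy w hw
  have ha₁N' : a₁ ∈ Subgroup.normalizer (U' : Set X) := by
    apply Subgroup.mem_normalizer_fintype
    rintro _ ⟨w, hw, rfl⟩
    refine ⟨ρ a₁ w, ?_, hconj a₁ w⟩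
    rw [ha₁]
    exact hUa w hw
  apply hS4
  apply S4.involves_S4 U' hU'card hU'2 y₀ a₁ hy₀N' ha₁N'
  · rintro _ ⟨w, hw, rfl⟩ h
    have h1 : ρ y₀ w = w := Subtype.ext (by rw [hconj]; exact h)
    rw [hy₀] at h1
    rw [hfpf w hw h1]
    rfl
  · refine ⟨3, by decide, ?_⟩
    apply Subgroup.centralizer_le hU'V
    rw [← hkerρ, map_pow, hy₀, hy3]
  · intro h
    apply hu₀
    apply Subtype.ext
    rw [← ha₁, hconj]
    have := (Subgroup.mem_centralizer_iff.mp h) u₀ ⟨u₀, hu₀U, rfl⟩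
    rw [← this, mul_inv_cancel_right]
  · refine ⟨1, ?_⟩
    apply Subgroup.centralizer_le hU'V
    rw [← hkerρ, pow_one, pow_two, map_mul, ha₁, haa]

end S4F

end Cfsg.Agent.Lib.Lead
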