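import Mathlib
import Cfsg.Agent.Lib.Lead.S4F6

set_option autoImplicit false

/-!
Groups `X` with `C_X(O_2(X)) ≤ O_2(X)` in which the symmetric group of degree four is not
involved, with Sylow `2`-subgroups of class at most two: the Thompson subgroup lies in `O_2`.
-/

namespace Cfsg.Agent.Lib.Lead

namespace S4F

open GT ZJ Thom
open scoped Pointwise commutatorElement

universe u

theorem stmt_all : ∀ (n : ℕ) (X : Type u) [Group X] [Finite X], Nat.card X = n → Stmt X := by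
  intro n
  induction n using Nat.strong_induction_on with
  | _ n ih =>
    intro X _ _ hn hc hS4 hcl S
    subst hn
    apply Jn_le_pCore_step _ hc hS4 hcl S
    intro Y _ _ hY
    exact ih (Nat.card Y) hY Y rfl

theorem Jn_le_pCore_of_S4free_constrained {X : Type u} [Group X] [Finite X]
    (hc : Subgroup.centralizer (Cfsg.pCore 2 X : Set X) ≤ Cfsg.pCore 2 X)
    (hS4 : ¬ Cfsg.Involves (Equiv.Perm (Fin 4)) X) (S : Sylow 2 X)
    (hcl : ∀ a ∈ (S : Subgroup X), ∀ b ∈ (S : Subgroup X), ∀ c ∈ (S : Subgroup X),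
      ⁅⁅a, b⁆, c⁆ = 1) :
    Jn 2 X (S : Subgroup X) ≤ Cfsg.pCore 2 X := by
  haveI : Fact (Nat.Prime 2) := ⟨Nat.prime_two⟩
  apply stmt_all _ X rfl hc hS4 _ S
  intro R hR a ha b hb c hc'
  obtain ⟨g, -, hgR⟩ := Cfsg.Agent.Lib.Helper3.exists_conj_le_of_le_sylow S ⊤ R le_top hR le_top
  have hmem : ∀ x ∈ R, g * x * g⁻¹ ∈ (S : Subgroup X) :=
    fun x hx => hgR (Cfsg.Agent.Lib.Helper3.conj_mem_conj_smul R g x hx)
  have h1 := hcl _ (hmem a ha) _ (hmem b hb) _ (hmem c hc')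
  have e : ⁅⁅g * a * g⁻¹, g * b * g⁻¹⁆, g * c * g⁻¹⁆ = g * ⁅⁅a, b⁆, c⁆ * g⁻¹ := by
    simp only [commutatorElement_def]; group
  rw [e] at h1
  calc ⁅⁅a, b⁆, c⁆ = g⁻¹ * (g * ⁅⁅a, b⁆, c⁆ * g⁻¹) * g := by group
    _ = 1 := by rw [h1]; group

end S4F

end Cfsg.Agent.Lib.Lead
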