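import Mathlib
import Cfsg.Agent.Lib.Lead.S4F7
import Cfsg.Agent.Lib.Lead.Thom11
import Cfsg.Agent.Lib.Helper4.SolvBalance
import Cfsg.Agent.Lib.Helper2.PConstrained

set_option autoImplicit false

/-!
Thompson factorization for `2`-constrained groups not involving the symmetric group of degree
four, with Sylow `2`-subgroups of class at most two.
-/

namespace Cfsg.Agent.Lib.Lead

namespace S4F

open scoped commutatorElement

theorem thompson_factorization_constrained {G : Type*} [Group G] [Finite G]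
    (hcon : Cfsg.IsPConstrained 2 G) (hS4 : ¬ Cfsg.Involves (Equiv.Perm (Fin 4)) G)
    (S : Sylow 2 G) (hcl : Subgroup.lowerCentralSeries (S : Subgroup G) 2 = ⊥) :
    Subgroup.normalizer ((Cfsg.thompsonSubgroupOf 2 (S : Subgroup G)) : Set G) ⊔
      Cfsg.pPrimeCore 2 G = ⊤ := by
  haveI : Fact (Nat.Prime 2) := ⟨Nat.prime_two⟩
  set R := Cfsg.pPrimeCore 2 G with hRdef
  haveI hRn : R.Normal := (Cfsg.Agent.Lib.Helper6.pPrimeCore_mem_set 2).1
  have hRc : (Nat.card R).Coprime 2 := Cfsg.Agent.Lib.Helper6.pPrimeCore_coprime 2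
  set f := QuotientGroup.mk' R with hf
  have hfs : Function.Surjective f := QuotientGroup.mk'_surjective R
  set D := (S : Subgroup G).map f with hD
  have hSp : IsPGroup 2 (S : Subgroup G) := S.isPGroup'
  have hDp : IsPGroup 2 D := hSp.map f
  have hQD : Cfsg.pCore 2 (G ⧸ R) ≤ D := by
    have := Cfsg.Agent.Lib.Helper9.pCore_le_sylow (S.mapSurjective hfs)
    rwa [Sylow.coe_mapSurjective] at this
  have hclS : ∀ a ∈ (S : Subgroup G), ∀ b ∈ (S : Subgroup G), ∀ c ∈ (S : Subgroup G),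
      ⁅⁅a, b⁆, c⁆ = 1 := by
    intro a ha b hb c hc
    have : ⁅⁅a, b⁆, c⁆ ∈ Subgroup.lowerCentralSeries (S : Subgroup G) 2 :=
      Subgroup.commutator_mem_commutator (Subgroup.commutator_mem_commutator ha hb) hc
    rw [hcl, Subgroup.mem_bot] at this
    exact this
  have hclD : ∀ a ∈ D, ∀ b ∈ D, ∀ c ∈ D, ⁅⁅a, b⁆, c⁆ = 1 := by
    rintro _ ⟨a, ha, rfl⟩ _ ⟨b, hb, rfl⟩ _ ⟨c, hc, rfl⟩
    rw [← map_commutatorElement, ← map_commutatorElement, hclS a ha b hb c hc, map_one]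
  have hinj : Set.InjOn f ((S : Subgroup G) : Set G) :=
    Cfsg.Agent.Lib.Lead.GT.injOn_mk_of_coprime R hRc _ hSp
  have hcq := Cfsg.Agent.Lib.Helper2.PConstrained.isPConstrained_iff_quot.mp hcon
  have hJ : Cfsg.Agent.Lib.Lead.Thom.Jn 2 (G ⧸ R) D ≤ Cfsg.pCore 2 (G ⧸ R) := by
    have := Cfsg.Agent.Lib.Lead.S4F.Jn_le_pCore_of_S4free_constrained (X := G ⧸ R) hcq
      (fun h => hS4 (Cfsg.Agent.Lib.Lead.Thom.involves_of_quotient R h)) (S.mapSurjective hfs)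
      (by rw [Sylow.coe_mapSurjective]; exact hclD)
    rwa [Sylow.coe_mapSurjective] at this
  have hmid := Cfsg.Agent.Lib.Lead.Thom.Jn_mid 2 D (Cfsg.pCore 2 (G ⧸ R)) hJ hQD
  have hQn : (Cfsg.pCore 2 (G ⧸ R)).Normal := Cfsg.Agent.Lib.Helper9.pCore_normal' 2
  have hQp : IsPGroup 2 (Cfsg.pCore 2 (G ⧸ R)) := Cfsg.Agent.Lib.Helper9.pCore_isPGroup' 2
  have hnorm : Subgroup.normalizer ((Cfsg.Agent.Lib.Lead.Thom.Jn 2 (G ⧸ R) D : Subgroup (G ⧸ R)) :
      Set (G ⧸ R)) = ⊤ := by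
    rw [← hmid, eq_top_iff]
    refine le_trans ?_ ((Cfsg.Agent.Lib.Lead.Thom.isJFunctor_Jn (p := 2)
      (dvd_refl 2)).sec.normalizer_le _ hQp)
    rw [Subgroup.normalizer_eq_top]
  have hJmap : Cfsg.Agent.Lib.Lead.Thom.Jn 2 (G ⧸ R) D =
      (Cfsg.Agent.Lib.Lead.Thom.Jn 2 G (S : Subgroup G)).map f :=
    Cfsg.Agent.Lib.Lead.Thom.Jn_map 2 f _ hinj
  have hnm := Cfsg.Agent.Lib.Lead.GT.normalizer_map_mk R hRc
    (Cfsg.Agent.Lib.Lead.Thom.Jn 2 G (S : Subgroup G))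
    (hSp.to_le (Cfsg.Agent.Lib.Lead.Thom.Jn_le 2 _))
  rw [Cfsg.Agent.Lib.Lead.Thom.thompsonSubgroupOf_eq', eq_top_iff]
  intro g _
  have hg : f g ∈ (Subgroup.normalizer ((Cfsg.Agent.Lib.Lead.Thom.Jn 2 G (S : Subgroup G) :
      Subgroup G) : Set G)).map f := by
    rw [← hnm, ← hJmap, hnorm]
    trivial
  obtain ⟨n, hn, hng⟩ := hg
  have h1 : n⁻¹ * g ∈ R := QuotientGroup.eq.mp hng
  have h2 : g = n * (n⁻¹ * g) := by group
  rw [h2]
  exact Subgroup.mul_mem _ (Subgroup.mem_sup_left hn) (Subgroup.mem_sup_right h1)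

end S4F

end Cfsg.Agent.Lib.Lead
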