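import Mathlib
import Cfsg.Prelude
import Cfsg.Agent.Lib.Helper2.SU3G1

/-! Borel decomposition in the antidiagonal-form SU_3 (package PKG-A for S2283). -/

namespace Cfsg.Agent.Lib.SU3Bdec

open Matrix Cfsg.Agent.Lib.Helper2.SU3G

theorem unitary_entry {F : Type*} [Field F] {σ : F ≃+* F} (g : ↥(GJ σ)) (i j : Fin 3) :
    mat g 0 i * σ (mat g 2 j) + mat g 1 i * σ (mat g 1 j) + mat g 2 i * σ (mat g 0 j)
      = JM i j := by
  have hu := congrFun (congrFun (mat_unitary g) i) j
  rw [← hu]
  simp only [Matrix.mul_apply, Fin.sum_univ_three, Matrix.transpose_apply, Matrix.map_apply, JM]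
  simp
  ring

theorem bdecomp {F : Type*} [Field F] {σ : F ≃+* F} (hσ : ∀ a : F, σ (σ a) = a) (g : ↥(GJ σ))
    (h1 : mat g 1 0 = 0) (h2 : mat g 2 0 = 0) :
    ∃ (hl : mat g 0 0 ≠ 0) (a b : F) (h : IsU σ a b),
      g = tG hσ (mat g 0 0) hl * uG hσ a b h := by
  have e02 := unitary_entry g 0 2
  have e01 := unitary_entry g 0 1
  have e12 := unitary_entry g 1 2
  have e22 := unitary_entry g 2 2
  have hdet := mat_det g
  rw [Matrix.det_fin_three] at hdet
  simp only [h1, h2, JM] at e02 e01 e12 e22 hdet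
  simp at e02 e01 e12 e22 hdet
  have hl : mat g 0 0 ≠ 0 := by
    intro h0; rw [h0, zero_mul] at e02; exact zero_ne_one e02
  have h21 : mat g 2 1 = 0 := e01.resolve_left hl
  rw [h21] at e12 hdet
  simp only [mul_zero, zero_mul, add_zero, sub_zero] at e12 hdet
  have hsl : σ (mat g 0 0) ≠ 0 := (map_ne_zero σ).2 hl
  have hs22 : σ (mat g 2 2) = (mat g 0 0)⁻¹ := eq_inv_of_mul_eq_one_right e02
  have h22 : mat g 2 2 = (σ (mat g 0 0))⁻¹ := by
    have := congrArg σ hs22
    rw [hσ, map_inv₀] at this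
    exact this
  have h11 : mat g 1 1 = σ (mat g 0 0) / mat g 0 0 := by
    rw [h22] at hdet
    field_simp at hdet ⊢
    linear_combination hdet
  have hs12 : σ (mat g 1 2) = - mat g 0 1 / σ (mat g 0 0) := by
    rw [hs22, h11] at e12
    field_simp at e12 ⊢
    linear_combination e12
  have h12 : mat g 1 2 = - σ (mat g 0 1) / mat g 0 0 := by
    have := congrArg σ hs12
    rw [hσ, map_div₀, map_neg, hσ] at this
    exact this
  have hU : IsU σ (mat g 0 1 / mat g 0 0) (mat g 0 2 / mat g 0 0) := by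
    unfold IsU
    rw [hs12, hs22] at e22
    rw [h12, h22] at e22
    simp only [map_div₀]
    linear_combination e22
  refine ⟨hl, mat g 0 1 / mat g 0 0, mat g 0 2 / mat g 0 0, hU, ?_⟩
  apply mat_injective
  rw [mat_mul, mat_tG, mat_uG]
  ext i j
  fin_cases i <;> fin_cases j <;> simp [tM, uM, Matrix.mul_apply, Fin.sum_univ_three]
  · field_simp
  · field_simp
  · exact h1
  · exact h11
  · rw [h12]; field_simp
  · exact h2
  · exact h21
  · exact h22

end Cfsg.Agent.Lib.SU3Bdec
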