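import Mathlib
import Cfsg.Agent.Lib.Lead.SchDefs

/-!
# S4395, LA2a (field_count), pieces SPAN and ODD (lead) -- ALTERNATIVE, unused: the swarm uses Helper7.SchLA2a; own namespace to avoid clashes
-/

set_option autoImplicit false
universe u
namespace Cfsg.Agent.Lib.Lead.SchFcOddAlt
open Cfsg.Agent.Lib.Lead.Sch

section FC
variable {K : Type u} [Field K]

/-- SPAN: the powers of `ζ` span `K` additively. -/
theorem fc_span (ζ : K) (hgen : ∀ S : Subring K, ζ ∈ S → S = ⊤) (x : K) :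
    x ∈ AddSubgroup.closure (Set.range fun i : ℕ => ζ ^ i) := by
  have h1 : Subring.closure ({ζ} : Set K) = ⊤ := hgen _ (Subring.subset_closure rfl)
  have h2 : x ∈ Subring.closure ({ζ} : Set K) := by rw [h1]; trivial
  rw [Subring.mem_closure_iff] at h2
  have h3 : ((Submonoid.closure ({ζ} : Set K) : Submonoid K) : Set K) = Set.range fun i : ℕ => ζ ^ i := by
    ext y
    rw [SetLike.mem_coe, Submonoid.mem_closure_singleton]
    rfl
  rw [h3] at h2
  exact h2

/-- two additive maps agreeing on powers of `ζ` agree. -/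
theorem fc_ext {A : Type*} [AddCommGroup A] (ζ : K) (hgen : ∀ S : Subring K, ζ ∈ S → S = ⊤)
    (f g : K →+ A) (h : ∀ i : ℕ, f (ζ ^ i) = g (ζ ^ i)) (x : K) : f x = g x := by
  have hx := fc_span ζ hgen x
  induction hx using AddSubgroup.closure_induction with
  | mem y hy => obtain ⟨i, rfl⟩ := hy; exact h i
  | zero => rw [map_zero, map_zero]
  | add a b _ _ ha hb => rw [map_add, map_add, ha, hb]
  | neg a _ ha => rw [map_neg, map_neg, ha]

end FC
section Odd
open Polynomial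
variable {K : Type u} [Field K] (p q : ℕ) [Fact q.Prime]

/-- number theory: `ζ⁻¹ = ζ^(p^n)` with `ζ` of order `q` and `ord_q(p)` odd forces `q = 2`. -/
theorem fc_odd_nt (ha : orderOf (p : ZMod q) % 2 = 1) (ζ : K) (hζ : orderOf ζ = q) (n : ℕ)
    (h : ζ⁻¹ = ζ ^ (p ^ n)) : q = 2 := by
  have hζ0 : ζ ≠ 0 := by
    rintro rfl
    rw [orderOf_zero] at hζ
    exact (Fact.out : q.Prime).ne_zero hζ.symm
  have h1 : ζ ^ (p ^ n + 1) = 1 := by
    rw [pow_succ, ← h, inv_mul_cancel₀ hζ0]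
  have h2 : q ∣ p ^ n + 1 := by rw [← hζ]; exact orderOf_dvd_of_pow_eq_one h1
  have h3 : (p : ZMod q) ^ n = -1 := by
    have : ((p ^ n + 1 : ℕ) : ZMod q) = 0 := (ZMod.natCast_eq_zero_iff _ _).2 h2
    push_cast at this
    exact eq_neg_of_add_eq_zero_left this
  have h4 : (p : ZMod q) ^ (2 * n) = 1 := by
    rw [mul_comm, pow_mul, h3]; norm_num
  have h5 : orderOf (p : ZMod q) ∣ 2 * n := orderOf_dvd_of_pow_eq_one h4
  have hcop : Nat.Coprime (orderOf (p : ZMod q)) 2 := by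
    rw [Nat.coprime_two_right]
    exact Nat.odd_iff.2 ha
  have h6 : orderOf (p : ZMod q) ∣ n := hcop.dvd_of_dvd_mul_left h5
  have h7 : (p : ZMod q) ^ n = 1 := orderOf_dvd_iff_pow_eq_one.1 h6
  rw [h7] at h3
  have h8 : ((2 : ℕ) : ZMod q) = 0 := by
    have : (1 : ZMod q) + 1 = 0 := by nth_rewrite 1 [h3]; exact neg_add_cancel 1
    push_cast
    rw [← this]; norm_num
  have h9 : q ∣ 2 := (ZMod.natCast_eq_zero_iff _ _).1 h8
  exact (Nat.prime_dvd_prime_iff_eq (Fact.out : q.Prime) Nat.prime_two).1 h9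

variable [Fact p.Prime] [CharP K p]

/-- evaluation at `ζ` is onto. -/
theorem fc_aeval_surj (ζ : K) (hgen : ∀ S : Subring K, ζ ∈ S → S = ⊤) :
    letI := ZMod.algebra K p
    Function.Surjective (aeval (R := ZMod p) ζ) := by
  letI := ZMod.algebra K p
  intro x
  have h1 : ((aeval (R := ZMod p) ζ : (ZMod p)[X] →ₐ[ZMod p] K) : (ZMod p)[X] →+* K).range = ⊤ :=
    hgen _ ⟨X, aeval_X ζ⟩
  have h2 : x ∈ ((aeval (R := ZMod p) ζ : (ZMod p)[X] →ₐ[ZMod p] K) : (ZMod p)[X] →+* K).range := by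
    rw [h1]; trivial
  obtain ⟨g, hg⟩ := h2
  exact ⟨g, hg⟩

/-- the relation `l (f(ζ)) = - l (f(ζ⁻¹))` for all polynomials. -/
theorem fc_poly (ζ : K) (l : K →+ ZMod p) (hl : ∀ i : ℕ, l (ζ ^ i) = - l (ζ⁻¹ ^ i)) (f : (ZMod p)[X]) :
    letI := ZMod.algebra K p
    l (aeval (R := ZMod p) ζ f) = - l (aeval (R := ZMod p) ζ⁻¹ f) := by
  letI := ZMod.algebra K p
  induction f using Polynomial.induction_on' with
  | add f g hf hg => rw [map_add, map_add, map_add, map_add, hf, hg, neg_add]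
  | monomial n a =>
    obtain ⟨m, rfl⟩ := ZMod.natCast_zmod_surjective a
    rw [aeval_monomial, aeval_monomial, map_natCast, ← nsmul_eq_mul, ← nsmul_eq_mul, map_nsmul, map_nsmul,
      hl n, smul_neg]

variable [Finite K]

/-- ODD: if `ord_q(p)` is odd, the only functional is `0`. -/
theorem fc_odd (hpq : p ≠ q) (ha : orderOf (p : ZMod q) % 2 = 1) (ζ : K) (hζq : ζ ^ q = 1) (hζ1 : ζ ≠ 1)
    (hgen : ∀ S : Subring K, ζ ∈ S → S = ⊤) (l : K →+ ZMod p)
    (hl : ∀ i : ℕ, l (ζ ^ i) = - l (ζ⁻¹ ^ i)) : l = 0 := by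
  letI := ZMod.algebra K p
  have hζ : orderOf ζ = q := orderOf_eq_prime hζq hζ1
  have hζ0 : ζ ≠ 0 := by
    rintro rfl
    rw [orderOf_zero] at hζ
    exact (Fact.out : q.Prime).ne_zero hζ.symm
  by_cases hq2 : q = 2
  · -- `ζ⁻¹ = ζ`
    have hinv : ζ⁻¹ = ζ := by
      rw [hq2, pow_two] at hζq
      exact inv_eq_of_mul_eq_one_left hζq
    have h2 : (2 : ZMod p) ≠ 0 := by
      intro h
      have : ((2 : ℕ) : ZMod p) = 0 := by push_cast; exact h
      have hd := (ZMod.natCast_eq_zero_iff _ _).1 this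
      have := (Nat.prime_dvd_prime_iff_eq (Fact.out : p.Prime) Nat.prime_two).1 hd
      exact hpq (this.trans hq2.symm)
    have h0 : ∀ i : ℕ, l (ζ ^ i) = (0 : K →+ ZMod p) (ζ ^ i) := by
      intro i
      have := hl i
      rw [hinv] at this
      have h3 : (2 : ZMod p) * l (ζ ^ i) = 0 := by
        rw [two_mul]; nth_rewrite 1 [this]; exact neg_add_cancel _
      rcases mul_eq_zero.1 h3 with h | h
      · exact absurd h h2
      · rw [h]; rfl
    ext x
    exact fc_ext ζ hgen l 0 h0 x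
  · -- `q` odd
    have hsurj₁ := fc_aeval_surj p ζ hgen
    have hgen' : ∀ S : Subring K, ζ⁻¹ ∈ S → S = ⊤ := by
      intro S hS
      apply hgen
      have : ζ = ζ⁻¹ ^ (q - 1) := by
        have hq1 : 1 ≤ q := (Fact.out : q.Prime).one_lt.le
        have h1 : ζ * ζ ^ (q - 1) = 1 := by rw [← pow_succ', Nat.sub_add_cancel hq1, hζq]
        rw [inv_pow]
        exact (eq_inv_of_mul_eq_one_left h1)
      rw [this]
      exact S.pow_mem hS _
    have hsurj₂ := fc_aeval_surj p ζ⁻¹ hgen'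
    -- a polynomial vanishing at `ζ` but not at `ζ⁻¹`
    have hex : ∃ g : (ZMod p)[X], aeval (R := ZMod p) ζ g = 0 ∧ aeval (R := ZMod p) ζ⁻¹ g ≠ 0 := by
      by_contra hcon
      push Not at hcon
      let f₁ : (ZMod p)[X] →+* K := (aeval (R := ZMod p) ζ : (ZMod p)[X] →ₐ[ZMod p] K)
      let f₂ : (ZMod p)[X] →+* K := (aeval (R := ZMod p) ζ⁻¹ : (ZMod p)[X] →ₐ[ZMod p] K)
      have hker : RingHom.ker f₁ ≤ RingHom.ker f₂ := by
        intro g hg
        rw [RingHom.mem_ker] at hg ⊢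
        exact hcon g hg
      let τ : K →+* K := f₁.liftOfSurjective hsurj₁ ⟨f₂, hker⟩
      have hτ : ∀ g, τ (f₁ g) = f₂ g := fun g => RingHom.liftOfSurjective_comp_apply f₁ hsurj₁ ⟨f₂, hker⟩ g
      have hτζ : τ ζ = ζ⁻¹ := by
        have := hτ X
        have e1 : f₁ X = ζ := aeval_X ζ
        have e2 : f₂ X = ζ⁻¹ := aeval_X ζ⁻¹
        rw [e1, e2] at this
        exact this
      have hbij : Function.Bijective τ :=
        ⟨τ.injective, Finite.injective_iff_surjective.1 τ.injective⟩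
      let τe : K ≃+* K := RingEquiv.ofBijective τ hbij
      let τa : K ≃ₐ[ZMod p] K := AlgEquiv.ofRingEquiv (f := τe) (by
        intro x
        obtain ⟨m, rfl⟩ := ZMod.natCast_zmod_surjective x
        rw [map_natCast, map_natCast])
      obtain ⟨n, hn⟩ := FiniteField.exists_forall_apply_eq_pow (ZMod p) p K τa
      have h1 : τ ζ = ζ ^ (p ^ n) := by
        have := hn ζ
        rw [Nat.card_zmod] at this
        exact this
      rw [hτζ] at h1
      exact hq2 (fc_odd_nt p q ha ζ hζ n h1)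
    obtain ⟨g, hg0, hg1⟩ := hex
    ext x
    show l x = 0
    obtain ⟨h, hh⟩ := hsurj₂ ((aeval (R := ZMod p) ζ⁻¹ g)⁻¹ * x)
    have key := fc_poly p ζ l hl (g * h)
    have e1 : aeval (R := ZMod p) ζ (g * h) = 0 := by rw [map_mul, hg0, zero_mul]
    have e2 : aeval (R := ZMod p) ζ⁻¹ (g * h) = x := by rw [map_mul, hh, mul_inv_cancel_left₀ hg1]
    rw [e1, e2, map_zero] at key
    exact neg_eq_zero.1 key.symm

end Odd

end Cfsg.Agent.Lib.Lead.SchFcOddAlt
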