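import Mathlib
import Cfsg.Prelude.Def_CaseTheorems
import Cfsg.Agent.Lib.Lead.SecRankTwo1
import Cfsg.Agent.Lib.Lead.ExtraspecialCentral
import Cfsg.Agent.Lib.Lead.GenCentralizers
import Cfsg.Agent.Lib.Lead.Nilpotent

set_option autoImplicit false

/-! 2-groups of sectional rank at most 2 containing a nonabelian subgroup of order 8. -/

namespace Cfsg.Agent.Lib.Lead

namespace SecRankTwo

open scoped commutatorElement

section
variable {S : Type*} [Group S] [Finite S]

/-- the common properties of `D₈` and `Q₈` inside `S` -/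
structure Ord8 (H : Subgroup S) (z : S) : Prop where
  mem : z ∈ H
  ne_one : z ≠ 1
  sq_one : z ^ 2 = 1
  central : ∀ h ∈ H, h * z = z * h
  sq : ∀ h ∈ H, h ^ 2 = 1 ∨ h ^ 2 = z
  comm : ∀ h ∈ H, ∀ k ∈ H, h * k * h⁻¹ * k⁻¹ = 1 ∨ h * k * h⁻¹ * k⁻¹ = z
  center : ∀ h ∈ H, (∀ k ∈ H, k * h = h * k) → h = 1 ∨ h = z
  nonab : ∃ h ∈ H, ∃ k ∈ H, h * k ≠ k * h
  card : Nat.card H = 8

theorem ord8_range {X : Type*} [Group X] (ψ : X →* S) (hψ : Function.Injective ψ)
    (H : Subgroup S) (hH : ψ.range = H) (z₀ : X)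
    (h1 : z₀ ≠ 1) (h2 : z₀ ^ 2 = 1) (h3 : ∀ x : X, x * z₀ = z₀ * x)
    (h4 : ∀ x : X, x ^ 2 = 1 ∨ x ^ 2 = z₀)
    (h5 : ∀ x y : X, x * y * x⁻¹ * y⁻¹ = 1 ∨ x * y * x⁻¹ * y⁻¹ = z₀)
    (h6 : ∀ x : X, (∀ y : X, y * x = x * y) → x = 1 ∨ x = z₀)
    (h7 : ∃ x y : X, x * y ≠ y * x) (h8 : Nat.card X = 8) : Ord8 H (ψ z₀) := by
  subst hH
  refine ⟨⟨z₀, rfl⟩, ?_, ?_, ?_, ?_, ?_, ?_, ?_, ?_⟩
  · intro h
    apply h1
    apply hψ
    rw [h, map_one]
  · rw [← map_pow, h2, map_one]
  · rintro _ ⟨x, rfl⟩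
    rw [← map_mul, ← map_mul, h3 x]
  · rintro _ ⟨x, rfl⟩
    rcases h4 x with h | h
    · left; rw [← map_pow, h, map_one]
    · right; rw [← map_pow, h]
  · rintro _ ⟨x, rfl⟩ _ ⟨y, rfl⟩
    rcases h5 x y with h | h
    · left; rw [← map_inv, ← map_inv, ← map_mul, ← map_mul, ← map_mul, h, map_one]
    · right; rw [← map_inv, ← map_inv, ← map_mul, ← map_mul, ← map_mul, h]
  · rintro _ ⟨x, rfl⟩ hx
    have hx' : ∀ y : X, y * x = x * y := by
      intro y
      apply hψ
      rw [map_mul, map_mul]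
      exact hx _ ⟨y, rfl⟩
    rcases h6 x hx' with h | h
    · left; rw [h, map_one]
    · right; rw [h]
  · obtain ⟨x, y, hxy⟩ := h7
    refine ⟨ψ x, ⟨x, rfl⟩, ψ y, ⟨y, rfl⟩, ?_⟩
    intro h
    apply hxy
    apply hψ
    rw [map_mul, map_mul, h]
  · rw [← h8]
    exact Nat.card_congr (MonoidHom.ofInjective hψ).toEquiv.symm

theorem comm_elt_eq_one {a b : S} (h : a * b = b * a) : a * b * a⁻¹ * b⁻¹ = 1 := by
  rw [h]; group

theorem card_closure_ge (H : Subgroup S) {y : S} (hy : y ∉ H) :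
    2 * Nat.card H ≤ Nat.card (Subgroup.closure ((H : Set S) ∪ {y})) := by
  set K := Subgroup.closure ((H : Set S) ∪ {y}) with hK
  have hHK : H ≤ K := by
    intro h hh
    exact Subgroup.subset_closure (Or.inl hh)
  have hyK : y ∈ K := Subgroup.subset_closure (Or.inr rfl)
  obtain ⟨m, hm⟩ := Subgroup.card_dvd_of_le hHK
  have hpos : 0 < Nat.card K := Nat.card_pos
  have hHpos : 0 < Nat.card H := Nat.card_pos
  have hm1 : m ≠ 1 := by
    intro h
    rw [h, mul_one] at hm
    have := Subgroup.eq_of_le_of_card_ge hHK hm.le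
    apply hy
    rw [this]; exact hyK
  have hm0 : m ≠ 0 := by
    intro h
    rw [h, mul_zero] at hm
    omega
  have : 2 ≤ m := by omega
  rw [hm]
  nlinarith

theorem card_zpowers_two {z : S} (hz1 : z ≠ 1) (hz2 : z ^ 2 = 1) :
    Nat.card (Subgroup.zpowers z) = 2 := by
  rw [Nat.card_zpowers]
  exact orderOf_eq_prime hz2 hz1

/-- the centralizer of `H` lies in `H` -/
theorem centralizer_le (h2 : IsPGroup 2 S) (hr : Cfsg.SectionalPRankLE 2 2 S)
    {H : Subgroup S} {z : S} (hO : Ord8 H z) : Subgroup.centralizer (H : Set S) ≤ H := by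
  classical
  intro x hx
  by_contra hxH
  obtain ⟨n, hn⟩ := h2 x
  have hex : ∃ j, x ^ (2 ^ j) ∈ H := ⟨n, by rw [hn]; exact H.one_mem⟩
  have hj : x ^ (2 ^ (Nat.find hex)) ∈ H := Nat.find_spec hex
  have hj0 : Nat.find hex ≠ 0 := by
    intro h
    rw [h, pow_zero, pow_one] at hj
    exact hxH hj
  obtain ⟨i, hi⟩ : ∃ i, Nat.find hex = i + 1 := Nat.exists_eq_succ_of_ne_zero hj0
  have hyH : x ^ (2 ^ i) ∉ H := Nat.find_min hex (by omega)
  obtain ⟨y, hy⟩ : ∃ y, y = x ^ (2 ^ i) := ⟨_, rfl⟩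
  rw [← hy] at hyH
  have hy2 : y ^ 2 ∈ H := by
    rw [hy, ← pow_mul, ← pow_succ, ← hi]; exact hj
  have hyC : y ∈ Subgroup.centralizer (H : Set S) := by
    rw [hy]; exact Subgroup.pow_mem _ hx _
  have hyc : ∀ h ∈ H, h * y = y * h := fun h hh => (Subgroup.mem_centralizer_iff.mp hyC) h hh
  have hy2c : ∀ k ∈ H, k * y ^ 2 = y ^ 2 * k :=
    fun k hk => (Subgroup.mem_centralizer_iff.mp (Subgroup.pow_mem _ hyC 2)) k hk
  have hy2z : y ^ 2 = 1 ∨ y ^ 2 = z := hO.center _ hy2 hy2c
  have hzM : ∀ {m : S}, m = 1 ∨ m = z → m ∈ Subgroup.zpowers z := by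
    rintro m (h | h)
    · rw [h]; exact one_mem _
    · rw [h]; exact Subgroup.mem_zpowers z
  apply false_of_section hr ((H : Set S) ∪ {y}) (Subgroup.zpowers z)
  · rw [Subgroup.zpowers_le]
    exact Subgroup.subset_closure (Or.inl hO.mem)
  · intro m hm a ha
    rcases mem_zpowers_of_sq_one hO.sq_one hm with h | h
    · rw [h, mul_one, one_mul]
    · rw [h]
      rcases ha with ha | ha
      · exact hO.central a ha
      · rw [Set.mem_singleton_iff] at ha
        rw [ha]
        exact (hyc z hO.mem).symm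
  · intro a ha b hb
    rcases ha with ha | ha
    · rcases hb with hb | hb
      · exact hzM (hO.comm a ha b hb)
      · rw [Set.mem_singleton_iff] at hb
        rw [hb, comm_elt_eq_one (hyc a ha)]
        exact one_mem _
    · rw [Set.mem_singleton_iff] at ha
      rcases hb with hb | hb
      · rw [ha, comm_elt_eq_one (hyc b hb).symm]
        exact one_mem _
      · rw [Set.mem_singleton_iff] at hb
        rw [ha, hb, comm_elt_eq_one rfl]
        exact one_mem _
  · intro a ha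
    rcases ha with ha | ha
    · exact hzM (hO.sq a ha)
    · rw [Set.mem_singleton_iff] at ha
      rw [ha]
      exact hzM hy2z
  · rw [card_zpowers_two hO.ne_one hO.sq_one]
    have := card_closure_ge H hyH
    rw [hO.card] at this
    omega

/-- the nontrivial coset of a subgroup of order 2 in a group of order 4 -/
theorem four_coset {V : Subgroup S} (hV4 : Nat.card V = 4) {c t w : S} (hc : c ∈ V)
    (hc1 : c ≠ 1) (hc2 : c ^ 2 = 1) (ht : t ∈ V) (ht1 : t ≠ 1) (htc : t ≠ c)
    (hw : w ∈ V) (hw1 : w ≠ 1) (hwc : w ≠ c) : w = t ∨ w = t * c := by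
  set A : Subgroup V := (Subgroup.zpowers c).subgroupOf V with hA
  have hA2 : Nat.card A = 2 := by
    have h1 : Nat.card A = Nat.card (Subgroup.zpowers c) :=
      Nat.card_congr (Subgroup.subgroupOfEquivOfLe (Subgroup.zpowers_le.mpr hc)).toEquiv
    rw [h1]
    exact card_zpowers_two hc1 hc2
  have hidx : A.index = 2 := by
    have h1 := A.card_mul_index
    rw [hA2, hV4] at h1
    omega
  have hmem : ∀ x : V, x ∈ A ↔ (x : S) = 1 ∨ (x : S) = c := by
    intro x
    rw [hA, Subgroup.mem_subgroupOf]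
    constructor
    · exact mem_zpowers_of_sq_one hc2
    · rintro (h | h)
      · rw [h]; exact one_mem _
      · rw [h]; exact Subgroup.mem_zpowers c
  have h1 := Subgroup.mul_mem_iff_of_index_two hidx (a := (⟨t, ht⟩ : V)⁻¹) (b := ⟨w, hw⟩)
  have h2 : ¬ ((⟨t, ht⟩ : V)⁻¹ ∈ A) := by
    rw [inv_mem_iff, hmem]
    rintro (h | h)
    · exact ht1 h
    · exact htc h
  have h3 : ¬ ((⟨w, hw⟩ : V) ∈ A) := by
    rw [hmem]
    rintro (h | h)
    · exact hw1 h
    · exact hwc h
  have h4 : (⟨t, ht⟩ : V)⁻¹ * ⟨w, hw⟩ ∈ A := h1.mpr ⟨fun h => absurd h h2, fun h => absurd h h3⟩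
  rw [hmem] at h4
  rcases h4 with h | h
  · left
    have h5 : t⁻¹ * w = 1 := h
    have : w = t * (t⁻¹ * w) := by group
    rw [this, h5, mul_one]
  · right
    have h5 : t⁻¹ * w = c := h
    have : w = t * (t⁻¹ * w) := by group
    rw [this, h5]

/-- the central involution of `H` centralizes a normal four-group -/
theorem z_centralizes (h2 : IsPGroup 2 S) {H : Subgroup S} {z : S} (hO : Ord8 H z)
    (V : Subgroup S) [hVn : V.Normal] (hV4 : Nat.card V = 4) (hVsq : ∀ x ∈ V, x ^ 2 = 1)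
    (hVc : ∀ x ∈ V, ∀ y ∈ V, x * y = y * x) : ∀ v ∈ V, z * v = v * z := by
  haveI : Fact (Nat.Prime 2) := ⟨Nat.prime_two⟩
  haveI : Group.IsNilpotent S := h2.isNilpotent
  have hVne : V ≠ ⊥ := by
    intro h
    rw [h, Subgroup.card_bot] at hV4
    omega
  obtain ⟨⟨v₀, hv₀⟩, hv₀1⟩ := (Subgroup.ne_bot_iff_exists_ne_one).mp (inf_center_ne_bot V hVne)
  have hv₀V : v₀ ∈ V := hv₀.1
  have hv₀Z : v₀ ∈ Subgroup.center S := hv₀.2
  have hv₀ne : v₀ ≠ 1 := by
    intro h
    apply hv₀1
    exact Subtype.ext h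
  have hv₀c : ∀ g : S, g * v₀ = v₀ * g := Subgroup.mem_center_iff.mp hv₀Z
  have hZle : Subgroup.zpowers v₀ ≤ Subgroup.center S := Subgroup.zpowers_le.mpr hv₀Z
  intro v hv
  by_cases hvc : v = 1 ∨ v = v₀
  · rcases hvc with h | h
    · rw [h, mul_one, one_mul]
    · rw [h]; exact hv₀c z
  · push Not at hvc
    have ht : ∀ g : S, ⁅g, v⁆ ∈ Subgroup.zpowers v₀ := by
      intro g
      rw [commutatorElement_def]
      have hw : g * v * g⁻¹ ∈ V := hVn.conj_mem v hv g
      have hw1 : g * v * g⁻¹ ≠ 1 := by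
        intro h
        apply hvc.1
        have : v = g⁻¹ * (g * v * g⁻¹) * g := by group
        rw [this, h]; group
      have hwc : g * v * g⁻¹ ≠ v₀ := by
        intro h
        apply hvc.2
        have : v = g⁻¹ * (g * v * g⁻¹) * g := by group
        rw [this, h, mul_assoc, ← hv₀c g, ← mul_assoc, inv_mul_cancel, one_mul]
      rcases four_coset hV4 hv₀V hv₀ne (hVsq v₀ hv₀V) hv hvc.1 hvc.2 hw hw1 hwc with h | h
      · rw [h, mul_inv_cancel]; exact one_mem _
      · rw [h, hv₀c v, mul_assoc, mul_inv_cancel, mul_one]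
        exact Subgroup.mem_zpowers v₀
    obtain ⟨h, hh, k, hk, hhk⟩ := hO.nonab
    have hz : z = h * k * h⁻¹ * k⁻¹ := by
      rcases hO.comm h hh k hk with h1 | h1
      · exfalso
        apply hhk
        have : h * k = (h * k * h⁻¹ * k⁻¹) * (k * h) := by group
        rw [this, h1, one_mul]
      · exact h1.symm
    let φ := commutatorHom (Subgroup.zpowers v₀) hZle v ht
    have hcommZ : ∀ a b : Subgroup.zpowers v₀, a * b = b * a := by
      intro a b
      apply Subtype.ext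
      rw [Subgroup.coe_mul, Subgroup.coe_mul]
      exact Subgroup.mem_center_iff.mp (hZle b.2) a.1
    have hφz : φ z = 1 := by
      rw [hz, map_mul, map_mul, map_mul, map_inv, map_inv, hcommZ (φ h) (φ k), mul_assoc (φ k),
        mul_inv_cancel, mul_one, mul_inv_cancel]
    have h1 : ⁅z, v⁆ = 1 := congrArg Subtype.val hφz
    exact commutatorElement_eq_one_iff_mul_comm.mp h1

/-- a normal four-group lies in `H` and contains its centre -/
theorem four_le (h2 : IsPGroup 2 S) (hr : Cfsg.SectionalPRankLE 2 2 S)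
    {H : Subgroup S} {z : S} (hO : Ord8 H z)
    (V : Subgroup S) [hVn : V.Normal] (hV4 : Nat.card V = 4) (hVsq : ∀ x ∈ V, x ^ 2 = 1)
    (hVc : ∀ x ∈ V, ∀ y ∈ V, x * y = y * x) : z ∈ V ∧ V ≤ H := by
  have hzc := z_centralizes h2 hO V hV4 hVsq hVc
  have hzV : z ∈ V := by
    by_contra hzV
    apply false_of_section hr ((V : Set S) ∪ {z}) ⊥ bot_le
    · intro m hm a _
      rw [Subgroup.mem_bot] at hm
      rw [hm, mul_one, one_mul]
    · intro a ha b hb
      rw [Subgroup.mem_bot]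
      apply comm_elt_eq_one
      rcases ha with ha | ha
      · rcases hb with hb | hb
        · exact hVc a ha b hb
        · rw [Set.mem_singleton_iff] at hb
          rw [hb]; exact (hzc a ha).symm
      · rw [Set.mem_singleton_iff] at ha
        rcases hb with hb | hb
        · rw [ha]; exact hzc b hb
        · rw [Set.mem_singleton_iff] at hb
          rw [ha, hb]
    · intro a ha
      rw [Subgroup.mem_bot]
      rcases ha with ha | ha
      · exact hVsq a ha
      · rw [Set.mem_singleton_iff] at ha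
        rw [ha]; exact hO.sq_one
    · rw [Subgroup.card_bot]
      have := card_closure_ge V hzV
      rw [hV4] at this
      omega
  refine ⟨hzV, ?_⟩
  intro v hv
  by_contra hvH
  have hv1 : v ≠ 1 := by
    intro h; apply hvH; rw [h]; exact one_mem _
  have hvz : v ≠ z := by
    intro h; apply hvH; rw [h]; exact hO.mem
  have hzM : ∀ {m : S}, m = 1 ∨ m = z → m ∈ Subgroup.zpowers z := by
    rintro m (h | h)
    · rw [h]; exact one_mem _
    · rw [h]; exact Subgroup.mem_zpowers z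
  have hconj : ∀ h ∈ H, h * v * h⁻¹ * v⁻¹ = 1 ∨ h * v * h⁻¹ * v⁻¹ = z := by
    intro h hh
    have hw : h * v * h⁻¹ ∈ V := hVn.conj_mem v hv h
    have hwH : h * v * h⁻¹ ∉ H := by
      intro hmem
      apply hvH
      have : v = h⁻¹ * (h * v * h⁻¹) * h := by group
      rw [this]
      exact H.mul_mem (H.mul_mem (H.inv_mem hh) hmem) hh
    have hw1 : h * v * h⁻¹ ≠ 1 := by
      intro h'; apply hwH; rw [h']; exact one_mem _
    have hwz : h * v * h⁻¹ ≠ z := by
      intro h'; apply hwH; rw [h']; exact hO.mem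
    rcases four_coset hV4 hzV hO.ne_one hO.sq_one hv hv1 hvz hw hw1 hwz with h' | h'
    · left; rw [h', mul_inv_cancel]
    · right; rw [h', hVc v hv z hzV, mul_assoc, mul_inv_cancel, mul_one]
  apply false_of_section hr ((H : Set S) ∪ {v}) (Subgroup.zpowers z)
  · rw [Subgroup.zpowers_le]
    exact Subgroup.subset_closure (Or.inl hO.mem)
  · intro m hm a ha
    rcases mem_zpowers_of_sq_one hO.sq_one hm with h | h
    · rw [h, mul_one, one_mul]
    · rw [h]
      rcases ha with ha | ha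
      · exact hO.central a ha
      · rw [Set.mem_singleton_iff] at ha
        rw [ha]
        exact hVc v hv z hzV
  · intro a ha b hb
    rcases ha with ha | ha
    · rcases hb with hb | hb
      · exact hzM (hO.comm a ha b hb)
      · rw [Set.mem_singleton_iff] at hb
        rw [hb]
        exact hzM (hconj a ha)
    · rw [Set.mem_singleton_iff] at ha
      rcases hb with hb | hb
      · rw [ha]
        have h1 : v * b * v⁻¹ * b⁻¹ = (b * v * b⁻¹ * v⁻¹)⁻¹ := by group
        rw [h1]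
        exact Subgroup.inv_mem _ (hzM (hconj b hb))
      · rw [Set.mem_singleton_iff] at hb
        rw [ha, hb, comm_elt_eq_one rfl]
        exact one_mem _
  · intro a ha
    rcases ha with ha | ha
    · exact hzM (hO.sq a ha)
    · rw [Set.mem_singleton_iff] at ha
      rw [ha, hVsq v hv]
      exact one_mem _
  · rw [card_zpowers_two hO.ne_one hO.sq_one]
    have := card_closure_ge H hvH
    rw [hO.card] at this
    omega

/-- a noncyclic abelian normal subgroup yields a normal four-group -/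
theorem exists_normal_four (h2 : IsPGroup 2 S) (hr : Cfsg.SectionalPRankLE 2 2 S)
    (F : Subgroup S) [hFn : F.Normal] (hFc : IsMulCommutative F) (hnc : ¬ IsCyclic F) :
    ∃ V : Subgroup S, V.Normal ∧ Nat.card V = 4 ∧ (∀ x ∈ V, x ^ 2 = 1) ∧
      ∀ x ∈ V, ∀ y ∈ V, x * y = y * x := by
  classical
  have hFc' : ∀ x ∈ F, ∀ y ∈ F, x * y = y * x := by
    intro x hx y hy
    exact congrArg Subtype.val (hFc.is_comm.comm (⟨x, hx⟩ : F) ⟨y, hy⟩)
  letI : CommGroup F :=
    { (inferInstance : Group F) with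
      mul_comm := fun a b => Subtype.ext (hFc' a.1 a.2 b.1 b.2) }
  obtain ⟨q, hq, W, hWcard, hWexp⟩ := exists_elementary_abelian_sq (A := F) hnc
  have hqp : q = 2 := by
    obtain ⟨k, hk⟩ := IsPGroup.iff_card.mp ((h2.to_subgroup F).to_subgroup W)
    have h1 : q ∣ 2 ^ k := by
      rw [← hk, hWcard]
      exact dvd_pow_self q (by norm_num)
    exact (Nat.prime_dvd_prime_iff_eq hq Nat.prime_two).mp (hq.dvd_of_dvd_pow h1)
  subst hqp
  let Ω : Subgroup S :=
    { carrier := {x | x ∈ F ∧ x ^ 2 = 1}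
      mul_mem' := by
        rintro x y ⟨hx, hxq⟩ ⟨hy, hyq⟩
        refine ⟨F.mul_mem hx hy, ?_⟩
        have hc : Commute x y := hFc' x hx y hy
        rw [hc.mul_pow, hxq, hyq, one_mul]
      one_mem' := ⟨F.one_mem, one_pow 2⟩
      inv_mem' := by
        rintro x ⟨hx, hxq⟩
        exact ⟨F.inv_mem hx, by rw [inv_pow, hxq, inv_one]⟩ }
  have hΩmem : ∀ x : S, x ∈ Ω ↔ x ∈ F ∧ x ^ 2 = 1 := fun x => Iff.rfl
  have hΩn : Ω.Normal := by
    constructor
    intro x hx g
    rw [hΩmem] at hx ⊢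
    refine ⟨hFn.conj_mem x hx.1 g, ?_⟩
    rw [conj_pow, hx.2, mul_one, mul_inv_cancel]
  have hΩcard : 2 ^ 2 ≤ Nat.card Ω := by
    rw [← hWcard]
    apply Nat.card_le_card_of_injective (fun w : W => (⟨((w : F) : S), by
      rw [hΩmem]
      refine ⟨(w : F).2, ?_⟩
      have := hWexp w.1 w.2
      have h2 := congrArg Subtype.val this
      rwa [Subgroup.coe_pow] at h2⟩ : Ω))
    intro a b hab
    have h1 : ((a : F) : S) = ((b : F) : S) := congrArg (fun z : Ω => (z : S)) hab
    exact Subtype.ext (Subtype.ext h1)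
  have hΩc : ∀ x ∈ Ω, ∀ y ∈ Ω, x * y = y * x := fun x hx y hy => hFc' x hx.1 y hy.1
  have hΩle : Nat.card Ω ≤ 4 := by
    by_contra hlt
    push Not at hlt
    apply false_of_section hr (Ω : Set S) ⊥ bot_le
    · intro m hm a _
      rw [Subgroup.mem_bot] at hm
      rw [hm, mul_one, one_mul]
    · intro a ha b hb
      rw [Subgroup.mem_bot]
      exact comm_elt_eq_one (hΩc a ha b hb)
    · intro a ha
      rw [Subgroup.mem_bot]
      exact ha.2
    · rw [Subgroup.card_bot, Subgroup.closure_eq]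
      omega
  refine ⟨Ω, hΩn, by omega, fun x hx => hx.2, hΩc⟩

end

end SecRankTwo

end Cfsg.Agent.Lib.Lead
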