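import Mathlib
import Cfsg.Prelude.Def_CaseTheorems
import Cfsg.Agent.Lib.Lead.SecRankTwo2
import Cfsg.Agent.Lib.Lead.HallSymp4

set_option autoImplicit false

/-! 2-groups of sectional rank at most 2 containing `D₈` or `Q₈`: dihedral, semidihedral or
quaternion. -/

namespace Cfsg.Agent.Lib.Lead

namespace SecRankTwo

section decide_lemmas

open DihedralGroup in
theorem d8_z_ne : (r 2 : DihedralGroup 4) ≠ 1 := by decide

open DihedralGroup in
theorem d8_z_sq : (r 2 : DihedralGroup 4) ^ 2 = 1 := by decide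

open DihedralGroup in
theorem d8_central : ∀ x : DihedralGroup 4, x * r 2 = r 2 * x := by decide

open DihedralGroup in
theorem d8_sq : ∀ x : DihedralGroup 4, x ^ 2 = 1 ∨ x ^ 2 = r 2 := by decide

open DihedralGroup in
theorem d8_comm : ∀ x y : DihedralGroup 4,
    x * y * x⁻¹ * y⁻¹ = 1 ∨ x * y * x⁻¹ * y⁻¹ = r 2 := by decide

open DihedralGroup in
theorem d8_center : ∀ x : DihedralGroup 4, (∀ y : DihedralGroup 4, y * x = x * y) →
    x = 1 ∨ x = r 2 := by decide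

open DihedralGroup in
theorem d8_nonab : ∃ x y : DihedralGroup 4, x * y ≠ y * x := by decide

open DihedralGroup in
theorem d8_r1_sq : (r 1 : DihedralGroup 4) ^ 2 = r 2 := by decide

open DihedralGroup in
theorem d8_sq_of_ne : ∀ a : DihedralGroup 4, a ^ 2 ≠ 1 → a ^ 2 = r 2 := by decide

open DihedralGroup in
theorem d8_order4 : ∀ a : DihedralGroup 4, a ^ 2 ≠ 1 → a = r 1 ∨ a = r 3 := by decide

open DihedralGroup in
theorem d8_four : ∀ s b : DihedralGroup 4, s ^ 2 = 1 → s ≠ 1 → s ≠ r 2 → b ^ 2 = 1 → b ≠ 1 →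
    b ≠ r 2 → b * s = s * b → b = s ∨ b = s * r 2 := by decide

open DihedralGroup in
theorem d8_inner : ∀ s : DihedralGroup 4, s ^ 2 = 1 → s ≠ 1 → s ≠ r 2 →
    (∃ h : DihedralGroup 4, h * r 1 * h⁻¹ = r 1 ∧ h * s * h⁻¹ = s) ∧
    (∃ h : DihedralGroup 4, h * r 1 * h⁻¹ = r 1 ∧ h * s * h⁻¹ = s * r 2) ∧
    (∃ h : DihedralGroup 4, h * r 1 * h⁻¹ = r 3 ∧ h * s * h⁻¹ = s) ∧
    (∃ h : DihedralGroup 4, h * r 1 * h⁻¹ = r 3 ∧ h * s * h⁻¹ = s * r 2) := by decide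

open DihedralGroup in
theorem d8_conj (s a b : DihedralGroup 4) (hs2 : s ^ 2 = 1) (hs1 : s ≠ 1) (hsz : s ≠ r 2)
    (ha : a ^ 2 ≠ 1) (hb2 : b ^ 2 = 1) (hb1 : b ≠ 1) (hbz : b ≠ r 2) (hbs : b * s = s * b) :
    ∃ h : DihedralGroup 4, h * r 1 * h⁻¹ = a ∧ h * s * h⁻¹ = b := by
  obtain ⟨h1, h2, h3, h4⟩ := d8_inner s hs2 hs1 hsz
  rcases d8_order4 a ha with rfl | rfl
  · rcases d8_four s b hs2 hs1 hsz hb2 hb1 hbz hbs with rfl | rfl
    · exact h1
    · exact h2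
  · rcases d8_four s b hs2 hs1 hsz hb2 hb1 hbz hbs with rfl | rfl
    · exact h3
    · exact h4

open DihedralGroup in
theorem d8_gen : ∀ s x : DihedralGroup 4, s ^ 2 = 1 → s ≠ 1 → s ≠ r 2 →
    ∃ i : Fin 4, ∃ j : Fin 2, x = (r 1) ^ (i : ℕ) * s ^ (j : ℕ) := by decide

open QuaternionGroup in
theorem q8_z_ne : (a 2 : QuaternionGroup 2) ≠ 1 := by decide

open QuaternionGroup in
theorem q8_z_sq : (a 2 : QuaternionGroup 2) ^ 2 = 1 := by decide

open QuaternionGroup in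
theorem q8_central : ∀ x : QuaternionGroup 2, x * a 2 = a 2 * x := by decide

open QuaternionGroup in
theorem q8_sq : ∀ x : QuaternionGroup 2, x ^ 2 = 1 ∨ x ^ 2 = a 2 := by decide

open QuaternionGroup in
theorem q8_comm : ∀ x y : QuaternionGroup 2,
    x * y * x⁻¹ * y⁻¹ = 1 ∨ x * y * x⁻¹ * y⁻¹ = a 2 := by decide

open QuaternionGroup in
theorem q8_center : ∀ x : QuaternionGroup 2, (∀ y : QuaternionGroup 2, y * x = x * y) →
    x = 1 ∨ x = a 2 := by decide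

open QuaternionGroup in
theorem q8_nonab : ∃ x y : QuaternionGroup 2, x * y ≠ y * x := by decide

open QuaternionGroup in
theorem q8_inv : ∀ x : QuaternionGroup 2, x ^ 2 = 1 → x = 1 ∨ x = a 2 := by decide

end decide_lemmas

section
variable {S : Type*} [Group S] [Finite S]

theorem hom_of_equiv (H : Subgroup S) {X : Type*} [Group X] (e : H ≃* X) :
    ∃ ψ : X →* S, Function.Injective ψ ∧ ψ.range = H := by
  refine ⟨H.subtype.comp e.symm.toMonoidHom, ?_, ?_⟩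
  · intro x y hxy
    have hxy' : ((e.symm x : H) : S) = ((e.symm y : H) : S) := hxy
    exact e.symm.injective (Subtype.ext hxy')
  · ext s
    constructor
    · rintro ⟨x, rfl⟩
      exact (e.symm x).2
    · intro hs
      refine ⟨e ⟨s, hs⟩, ?_⟩
      show ((e.symm (e ⟨s, hs⟩) : H) : S) = s
      rw [MulEquiv.symm_apply_apply]

open QuaternionGroup in
theorem final_Q (h2 : IsPGroup 2 S) (hr : Cfsg.SectionalPRankLE 2 2 S)
    (ψ : QuaternionGroup 2 →* S) (hψ : Function.Injective ψ) (H : Subgroup S)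
    (hH : ψ.range = H) (V : Subgroup S) [hVn : V.Normal] (hV4 : Nat.card V = 4)
    (hVsq : ∀ x ∈ V, x ^ 2 = 1) (hVc : ∀ x ∈ V, ∀ y ∈ V, x * y = y * x) : False := by
  have hO : Ord8 H (ψ (a 2)) :=
    ord8_range ψ hψ H hH (a 2) q8_z_ne q8_z_sq q8_central q8_sq q8_comm q8_center q8_nonab
      (by rw [Nat.card_eq_fintype_card, QuaternionGroup.card])
  obtain ⟨hzV, hVH⟩ := four_le h2 hr hO V hV4 hVsq hVc
  subst hH
  have hle : V ≤ Subgroup.zpowers (ψ (a 2)) := by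
    intro v hv
    obtain ⟨x, rfl⟩ := hVH hv
    have hx2 : x ^ 2 = 1 := by
      apply hψ
      rw [map_pow, map_one]
      exact hVsq _ hv
    rcases q8_inv x hx2 with h | h
    · rw [h, map_one]; exact one_mem _
    · rw [h]; exact Subgroup.mem_zpowers _
  have := Subgroup.card_le_of_le hle
  rw [hV4, card_zpowers_two hO.ne_one hO.sq_one] at this
  omega

open DihedralGroup in
theorem final_D (h2 : IsPGroup 2 S) (hr : Cfsg.SectionalPRankLE 2 2 S)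
    (ψ : DihedralGroup 4 →* S) (hψ : Function.Injective ψ) (H : Subgroup S)
    (hH : ψ.range = H) (V : Subgroup S) [hVn : V.Normal] (hV4 : Nat.card V = 4)
    (hVsq : ∀ x ∈ V, x ^ 2 = 1) (hVc : ∀ x ∈ V, ∀ y ∈ V, x * y = y * x) : H = ⊤ := by
  have hO : Ord8 H (ψ (r 2)) :=
    ord8_range ψ hψ H hH (r 2) d8_z_ne d8_z_sq d8_central d8_sq d8_comm d8_center d8_nonab
      (by rw [DihedralGroup.nat_card])
  obtain ⟨hzV, hVH⟩ := four_le h2 hr hO V hV4 hVsq hVc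
  subst hH
  have hex : ∃ σ ∈ V, σ ≠ 1 ∧ σ ≠ ψ (r 2) := by
    by_contra hne
    push Not at hne
    have hle : V ≤ Subgroup.zpowers (ψ (r 2)) := by
      intro v hv
      by_cases h1 : v = 1
      · rw [h1]; exact one_mem _
      · rw [hne v hv h1]; exact Subgroup.mem_zpowers _
    have := Subgroup.card_le_of_le hle
    rw [hV4, card_zpowers_two hO.ne_one hO.sq_one] at this
    omega
  obtain ⟨σ, hσV, hσ1, hσz⟩ := hex
  obtain ⟨s₀, hs₀⟩ := hVH hσV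
  have hs₀sq : s₀ ^ 2 = 1 := by
    apply hψ
    rw [map_pow, hs₀, map_one]
    exact hVsq σ hσV
  have hs₀1 : s₀ ≠ 1 := by
    rintro rfl
    apply hσ1
    rw [← hs₀, map_one]
  have hs₀z : s₀ ≠ r 2 := by
    rintro rfl
    exact hσz hs₀.symm
  have hNH : Subgroup.normalizer ((ψ.range : Subgroup S) : Set S) ≤ ψ.range := by
    intro k hk
    have hk' : ∀ x, x ∈ ψ.range ↔ k * x * k⁻¹ ∈ ψ.range := Subgroup.mem_normalizer_iff.mp hk
    obtain ⟨a, ha⟩ := (hk' (ψ (r 1))).mp ⟨r 1, rfl⟩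
    have hconjz : k * ψ (r 2) * k⁻¹ = ψ (a ^ 2) := by
      rw [map_pow, ha, conj_pow, ← map_pow, d8_r1_sq]
    have ha2 : a ^ 2 ≠ 1 := by
      intro h
      rw [h, map_one] at hconjz
      apply hO.ne_one
      have : ψ (r 2) = k⁻¹ * (k * ψ (r 2) * k⁻¹) * k := by group
      rw [this, hconjz]; group
    have ha2' : a ^ 2 = r 2 := d8_sq_of_ne a ha2
    have hkz : k * ψ (r 2) * k⁻¹ = ψ (r 2) := by rw [hconjz, ha2']
    have hbV : k * σ * k⁻¹ ∈ V := hVn.conj_mem σ hσV k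
    obtain ⟨b, hb⟩ := hVH hbV
    have hb2 : b ^ 2 = 1 := by
      apply hψ
      rw [map_pow, hb, map_one]
      exact hVsq _ hbV
    have hb1 : b ≠ 1 := by
      rintro rfl
      rw [map_one] at hb
      apply hσ1
      have : σ = k⁻¹ * (k * σ * k⁻¹) * k := by group
      rw [this, ← hb]; group
    have hbz : b ≠ r 2 := by
      rintro rfl
      apply hσz
      have : σ = k⁻¹ * (k * σ * k⁻¹) * k := by group
      have e1 : k⁻¹ * ψ (r 2) * k = ψ (r 2) := by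
        have e2 : k⁻¹ * ψ (r 2) * k = k⁻¹ * (k * ψ (r 2) * k⁻¹) * k := by rw [hkz]
        rw [e2]; group
      rw [this, ← hb, e1]
    have hbs : b * s₀ = s₀ * b := by
      apply hψ
      rw [map_mul, map_mul, hb, hs₀]
      exact hVc _ hbV _ hσV
    obtain ⟨h, hh1, hh2⟩ := d8_conj s₀ a b hs₀sq hs₀1 hs₀z ha2 hb2 hb1 hbz hbs
    have hg1 : ((ψ h)⁻¹ * k) * ψ (r 1) = ψ (r 1) * ((ψ h)⁻¹ * k) := by
      have e1 : ψ h * ψ (r 1) * (ψ h)⁻¹ = k * ψ (r 1) * k⁻¹ := by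
        rw [← ha, ← hh1, map_mul, map_mul, map_inv]
      have : (ψ h)⁻¹ * k * ψ (r 1) = (ψ h)⁻¹ * (k * ψ (r 1) * k⁻¹) * k := by group
      rw [this, ← e1]; group
    have hg2 : ((ψ h)⁻¹ * k) * ψ s₀ = ψ s₀ * ((ψ h)⁻¹ * k) := by
      have e1 : ψ h * ψ s₀ * (ψ h)⁻¹ = k * ψ s₀ * k⁻¹ := by
        rw [hs₀, ← hb, ← hh2, map_mul, map_mul, map_inv, hs₀]
      have : (ψ h)⁻¹ * k * ψ s₀ = (ψ h)⁻¹ * (k * ψ s₀ * k⁻¹) * k := by group
      rw [this, ← e1]; group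
    have hgC : (ψ h)⁻¹ * k ∈ Subgroup.centralizer ((ψ.range : Subgroup S) : Set S) := by
      rw [Subgroup.mem_centralizer_iff]
      rintro _ ⟨x, rfl⟩
      obtain ⟨i, j, hx⟩ := d8_gen s₀ x hs₀sq hs₀1 hs₀z
      rw [hx, map_mul, map_pow, map_pow]
      have c1 : Commute ((ψ h)⁻¹ * k) (ψ (r 1)) := hg1
      have c2 : Commute ((ψ h)⁻¹ * k) (ψ s₀) := hg2
      exact ((c1.pow_right _).mul_right (c2.pow_right _)).eq.symm
    have hgH := centralizer_le h2 hr hO hgC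
    have : k = ψ h * ((ψ h)⁻¹ * k) := by group
    rw [this]
    exact Subgroup.mul_mem _ ⟨h, rfl⟩ hgH
  by_contra hne
  haveI : Fact (Nat.Prime 2) := ⟨Nat.prime_two⟩
  haveI : Group.IsNilpotent S := h2.isNilpotent
  have hlt : ψ.range < ⊤ := lt_top_iff_ne_top.mpr hne
  have h1 := (normalizerCondition_of_isNilpotent (G := S)) _ hlt
  exact absurd hNH (not_le_of_gt h1)

theorem conv_D {n m : ℕ} (hn : 2 ≤ n) (hc : Nat.card S = 2 ^ (n + 1))
    (e : S ≃* DihedralGroup m) : ∃ k : ℕ, Nonempty (S ≃* DihedralGroup (2 ^ (k + 2))) := by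
  have h1 : Nat.card S = 2 * m := by rw [Nat.card_congr e.toEquiv, DihedralGroup.nat_card]
  obtain ⟨k, rfl⟩ : ∃ k, n = k + 2 := ⟨n - 2, by omega⟩
  have hm : m = 2 ^ (k + 2) := by
    have h3 : (2 : ℕ) ^ (k + 2 + 1) = 2 * 2 ^ (k + 2) := by ring
    rw [hc, h3] at h1
    omega
  subst hm
  exact ⟨k, ⟨e⟩⟩

theorem conv_Q {n m : ℕ} (hn : 2 ≤ n) (hc : Nat.card S = 2 ^ (n + 1))
    (e : S ≃* QuaternionGroup m) : ∃ k : ℕ, Nonempty (S ≃* QuaternionGroup (2 ^ (k + 1))) := by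
  have hm0 : m ≠ 0 := by
    rintro rfl
    haveI : Infinite (QuaternionGroup 0) :=
      Infinite.of_injective (fun i : ℤ => (QuaternionGroup.a i : QuaternionGroup 0))
        (fun i j h => by injection h)
    haveI : Infinite S := Infinite.of_injective e.symm e.symm.injective
    exact not_finite S
  haveI : NeZero m := ⟨hm0⟩
  have h1 : Nat.card S = 4 * m := by
    rw [Nat.card_congr e.toEquiv, Nat.card_eq_fintype_card, QuaternionGroup.card]
  obtain ⟨k, rfl⟩ : ∃ k, n = k + 2 := ⟨n - 2, by omega⟩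
  have hm : m = 2 ^ (k + 1) := by
    have h3 : (2 : ℕ) ^ (k + 2 + 1) = 4 * 2 ^ (k + 1) := by ring
    rw [hc, h3] at h1
    omega
  subst hm
  exact ⟨k, ⟨e⟩⟩

theorem conv_QD (h : Cfsg.IsQuasiDihedral S) :
    ∃ k : ℕ, Nat.card S = 2 ^ (k + 4) ∧ ∃ a b : S, orderOf a = 2 ^ (k + 3) ∧ orderOf b = 2 ∧
      b * a * b⁻¹ = a ^ (2 ^ (k + 2) - 1) := by
  obtain ⟨n, hn, hc, x, y, hx, hy, hxy⟩ := h
  obtain ⟨k, rfl⟩ : ∃ k, n = k + 3 := ⟨n - 3, by omega⟩
  have e2 : k + 3 - 1 = k + 2 := by omega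
  rw [e2] at hxy
  exact ⟨k, hc, x, y, hx, hy, hxy⟩

/-- the main theorem -/
theorem main (h2 : IsPGroup 2 S) (hr : Cfsg.SectionalPRankLE 2 2 S)
    (hsub : ∃ H : Subgroup S,
      Nonempty (↥H ≃* DihedralGroup 4) ∨ Nonempty (↥H ≃* QuaternionGroup 2)) :
    ((∃ k : ℕ, Nonempty (S ≃* DihedralGroup (2 ^ (k + 2)))) ∨
      (∃ k : ℕ, Nat.card S = 2 ^ (k + 4) ∧ ∃ a b : S, orderOf a = 2 ^ (k + 3) ∧
        orderOf b = 2 ∧ b * a * b⁻¹ = a ^ (2 ^ (k + 2) - 1)) ∨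
      (∃ k : ℕ, Nonempty (S ≃* QuaternionGroup (2 ^ (k + 1))))) := by
  obtain ⟨H, hH⟩ := hsub
  haveI : Fact (Nat.Prime 2) := ⟨Nat.prime_two⟩
  have hnab : ∃ x y : S, x * y ≠ y * x := by
    rcases hH with ⟨⟨e⟩⟩ | ⟨⟨e⟩⟩
    · obtain ⟨ψ, hψ, -⟩ := hom_of_equiv H e
      obtain ⟨x, y, hxy⟩ := d8_nonab
      refine ⟨ψ x, ψ y, ?_⟩
      intro h
      apply hxy
      apply hψ
      rw [map_mul, map_mul, h]
    · obtain ⟨ψ, hψ, -⟩ := hom_of_equiv H e
      obtain ⟨x, y, hxy⟩ := q8_nonab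
      refine ⟨ψ x, ψ y, ?_⟩
      intro h
      apply hxy
      apply hψ
      rw [map_mul, map_mul, h]
  by_cases hN : ∀ F : Subgroup S, F.Normal → IsMulCommutative F → IsCyclic F
  · have hnc : ¬ IsCyclic S := by
      intro hc
      obtain ⟨x, y, hxy⟩ := hnab
      obtain ⟨g, hg⟩ := IsCyclic.exists_generator (α := S)
      obtain ⟨i, rfl⟩ := Subgroup.mem_zpowers_iff.mp (hg x)
      obtain ⟨j, rfl⟩ := Subgroup.mem_zpowers_iff.mp (hg y)
      exact hxy (Commute.zpow_zpow_self g i j).eq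
    obtain ⟨-, n, hn, hc, hcase⟩ := HallSymp.lemmaN h2 hN hnc
    rcases hcase with ⟨m, ⟨e⟩⟩ | ⟨m, ⟨e⟩⟩ | hqd
    · exact Or.inl (conv_D hn hc e)
    · exact Or.inr (Or.inr (conv_Q hn hc e))
    · exact Or.inr (Or.inl (conv_QD hqd))
  · push Not at hN
    obtain ⟨F, hFn, hFc, hFnc⟩ := hN
    obtain ⟨V, hVn, hV4, hVsq, hVc⟩ := exists_normal_four h2 hr F hFc hFnc
    rcases hH with ⟨⟨e⟩⟩ | ⟨⟨e⟩⟩
    · left
      obtain ⟨ψ, hψ, hrange⟩ := hom_of_equiv H e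
      have hHtop := final_D h2 hr ψ hψ H hrange V hV4 hVsq hVc
      subst hHtop
      exact ⟨0, ⟨Subgroup.topEquiv.symm.trans e⟩⟩
    · exfalso
      obtain ⟨ψ, hψ, hrange⟩ := hom_of_equiv H e
      exact final_Q h2 hr ψ hψ H hrange V hV4 hVsq hVc

end

end SecRankTwo

end Cfsg.Agent.Lib.Lead
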