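import Mathlib
import Cfsg.Prelude.Def_SubgroupEmbedding
import Cfsg.Prelude.Def_Solvable
import Cfsg.Prelude.Def_Transfer
import Cfsg.Agent.Lib.Lead.IsoRankA
import Cfsg.Agent.Lib.Lead.OddStable2
import Cfsg.Agent.Lib.Helper9.PCore
import Cfsg.Agent.Lib.Helper9.LargeExtra13

set_option autoImplicit false

/-! Sidki pairs: the minimal counterexample reduction (basic tools). -/

namespace Cfsg.Agent.Lib.Lead.Sidki

open Cfsg Subgroup
open Cfsg.Agent.Lib.Helper9.LargeExtra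

universe u

section
variable {G : Type u} [Group G] [Finite G]

/-- the standing hypotheses on the pair `(G, V)` -/
structure Hyp (V : Subgroup G) : Prop where
  comm : ∀ a ∈ V, ∀ b ∈ V, a * b = b * a
  sq : ∀ a ∈ V, a * a = 1
  ne : V ≠ ⊥
  sid : IsSidkiPair V
  minG : ∀ (H : Type u) [Group H] [Finite H] (W : Subgroup H), Nat.card H < Nat.card G →
    IsElementaryAbelian 2 W → W ≠ ⊥ → IsSidkiPair W → W ⊓ pCore 2 H ≠ ⊥

variable {V : Subgroup G}

theorem Hyp.inv_eq (h : Hyp V) {a : G} (ha : a ∈ V) : a⁻¹ = a :=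
  inv_eq_of_mul_eq_one_right (h.sq a ha)

theorem card_lt_of_ne_top {H : Subgroup G} (hH : H ≠ ⊤) : Nat.card ↥H < Nat.card G := by
  rcases lt_or_eq_of_le (Subgroup.card_le_card_group (H := H)) with h1 | h1
  · exact h1
  · exact absurd (Subgroup.eq_top_of_card_eq H h1) hH

/-- extraction of a non-Sidki configuration in a proper subgroup -/
theorem Hyp.nsid (h : Hyp V) {H W : Subgroup G} (hH : H ≠ ⊤) (hWH : W ≤ H) (hWV : W ≤ V)
    (hW : W ≠ ⊥) (hcore : ∀ x ∈ W, x ∈ (pCore 2 ↥H).map H.subtype → x = 1) :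
    ∃ y ∈ H, ∃ w ∈ W, Odd (orderOf y) ∧ w * y * w⁻¹ = y⁻¹ ∧
      ∀ w' ∈ W, w' * y = y * w' → w' = 1 := by
  by_contra hcon
  push_neg at hcon
  have hsid : IsSidkiPair (W.subgroupOf H) := by
    intro y v hv hodd hinv
    have hodd' : Odd (orderOf (y : G)) := by rwa [Subgroup.orderOf_coe]
    have hinv' : (v : G) * (y : G) * (v : G)⁻¹ = (y : G)⁻¹ := by
      have := congrArg Subtype.val hinv
      simpa using this
    obtain ⟨w', hw', hc, hne⟩ := hcon (y : G) y.2 (v : G) (Subgroup.mem_subgroupOf.mp hv) hodd' hinv'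
    refine ⟨⟨w', hWH hw'⟩, Subgroup.mem_subgroupOf.mpr hw', ?_, ?_⟩
    · intro h1
      exact hne (congrArg Subtype.val h1)
    · exact Subtype.ext hc
  have hea : IsElementaryAbelian 2 (W.subgroupOf H) := by
    refine ⟨Cfsg.Agent.Lib.Lead.IsoRank.isMulCommutative_of_forall ?_, ?_⟩
    · intro a ha b hb
      exact Subtype.ext (h.comm _ (hWV (Subgroup.mem_subgroupOf.mp ha)) _
        (hWV (Subgroup.mem_subgroupOf.mp hb)))
    · intro a ha
      apply Subtype.ext
      rw [Subgroup.coe_pow, pow_two]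
      exact h.sq _ (hWV (Subgroup.mem_subgroupOf.mp ha))
  have hne : W.subgroupOf H ≠ ⊥ := by
    intro h1
    apply hW
    rw [eq_bot_iff]
    intro x hx
    have : (⟨x, hWH hx⟩ : ↥H) ∈ W.subgroupOf H := Subgroup.mem_subgroupOf.mpr hx
    rw [h1, Subgroup.mem_bot] at this
    rw [Subgroup.mem_bot]
    exact congrArg Subtype.val this
  have := h.minG ↥H (W.subgroupOf H) (card_lt_of_ne_top hH) hea hne hsid
  apply this
  rw [eq_bot_iff]
  intro x hx
  rw [Subgroup.mem_bot]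
  have h1 : (x : G) ∈ W := Subgroup.mem_subgroupOf.mp (Subgroup.mem_inf.mp hx).1
  have h2 : (x : G) ∈ (pCore 2 ↥H).map H.subtype := ⟨x, (Subgroup.mem_inf.mp hx).2, rfl⟩
  exact Subtype.ext (hcore _ h1 h2)

/-- a proper subgroup containing `V` has `V ∩ O_2(H) ≠ 1` -/
theorem Hyp.exists_mem_core (h : Hyp V) {H : Subgroup G} (hH : H ≠ ⊤) (hVH : V ≤ H) :
    ∃ x ∈ V, x ≠ 1 ∧ x ∈ (pCore 2 ↥H).map H.subtype := by
  by_contra hcon
  push_neg at hcon
  obtain ⟨y, _, w, hw, hodd, hinv, hc⟩ := h.nsid hH hVH le_rfl h.ne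
    (fun x hx hx2 => by
      by_contra h1
      exact hcon x hx h1 hx2)
  obtain ⟨w', hw', hne, hcomm⟩ := h.sid y w hw hodd hinv
  exact hne (hc w' hw' hcomm)

/-- `O_2(H)` centralizes a subgroup `K` normalized by `H` with `O_2(K) = 1` -/
theorem core_comm {H K : Subgroup G} (hKH : K ≤ H) (hn : H ≤ normalizer (K : Set G))
    (hK : (pCore 2 ↥K).map K.subtype = ⊥) {x : G} (hx : x ∈ (pCore 2 ↥H).map H.subtype)
    {k : G} (hk : k ∈ K) : x * k = k * x := by
  haveI : Fact (Nat.Prime 2) := ⟨Nat.prime_two⟩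
  have hxH : x ∈ H := pCoreMap_le 2 H hx
  set R := (pCore 2 ↥H).map H.subtype with hR
  have hQ : R ⊓ K ≤ (pCore 2 ↥K).map K.subtype := by
    apply le_pCoreMap 2 K (R ⊓ K) inf_le_right
    · exact (pCoreMap_isPGroup 2 H).to_le inf_le_left
    · intro k' hk' q hq
      refine Subgroup.mem_inf.mpr ⟨pCoreMap_conj_mem 2 H (hKH hk') (Subgroup.mem_inf.mp hq).1, ?_⟩
      exact K.mul_mem (K.mul_mem hk' (Subgroup.mem_inf.mp hq).2) (K.inv_mem hk')
  have hc : x * k * x⁻¹ * k⁻¹ ∈ R ⊓ K := by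
    refine Subgroup.mem_inf.mpr ⟨?_, ?_⟩
    · have h1 : k * x⁻¹ * k⁻¹ ∈ R := pCoreMap_conj_mem 2 H (hKH hk) (R.inv_mem hx)
      have e : x * k * x⁻¹ * k⁻¹ = x * (k * x⁻¹ * k⁻¹) := by group
      rw [e]
      exact R.mul_mem hx h1
    · have h1 : x * k * x⁻¹ ∈ K := ((Subgroup.mem_normalizer_iff.mp (hn hxH)) k).mp hk
      exact K.mul_mem h1 (K.inv_mem hk)
  have h1 := hQ hc
  rw [hK, Subgroup.mem_bot] at h1
  calc x * k = (x * k * x⁻¹ * k⁻¹) * (k * x) := by group
    _ = k * x := by rw [h1, one_mul]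

/-- `O_2` of a normal subgroup is trivial when `O_2(G) = 1` -/
theorem pcm_normal_eq_bot (hO : pCore 2 G = ⊥) (C : Subgroup G) [C.Normal] :
    (pCore 2 ↥C).map C.subtype = ⊥ := by
  haveI : Fact (Nat.Prime 2) := ⟨Nat.prime_two⟩
  have := Cfsg.Agent.Lib.Lead.OddStable.pCore_map_subtype_le_of_normal (p := 2) C
  rwa [hO, le_bot_iff] at this

/-- `O_2` of a subgroup `K` normalized by `H ≥ K` is trivial when `O_2(H) = 1` -/
theorem pcm_char {H K : Subgroup G} (hKH : K ≤ H) (hn : H ≤ normalizer (K : Set G))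
    (hH : (pCore 2 ↥H).map H.subtype = ⊥) : (pCore 2 ↥K).map K.subtype = ⊥ := by
  haveI : Fact (Nat.Prime 2) := ⟨Nat.prime_two⟩
  rw [eq_bot_iff, ← hH]
  apply le_pCoreMap 2 H _ ((pCoreMap_le 2 K).trans hKH) (pCoreMap_isPGroup 2 K)
  intro g hg x hx
  have hgn := Subgroup.mem_normalizer_iff.mp (hn hg)
  have e := pCoreMap_conj 2 K K g (fun y => by
    have h1 := Subgroup.mem_normalizer_iff.mp (hn (H.inv_mem hg)) y
    simpa using h1)
  rw [e]
  exact ⟨x, hx, rfl⟩

/-- elements of `A ⊔ B` are products when `B` normalizes `A` -/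
theorem exists_mul_of_mem_sup {A B : Subgroup G} (hB : B ≤ normalizer (A : Set G)) {x : G}
    (hx : x ∈ A ⊔ B) : ∃ a ∈ A, ∃ b ∈ B, x = a * b := by
  let S : Subgroup G :=
    { carrier := {x | ∃ a ∈ A, ∃ b ∈ B, x = a * b}
      one_mem' := ⟨1, A.one_mem, 1, B.one_mem, (mul_one 1).symm⟩
      mul_mem' := by
        rintro _ _ ⟨a, ha, b, hb, rfl⟩ ⟨a', ha', b', hb', rfl⟩
        refine ⟨a * (b * a' * b⁻¹), A.mul_mem ha
          (((Subgroup.mem_normalizer_iff.mp (hB hb)) a').mp ha'), b * b', B.mul_mem hb hb', ?_⟩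
        group
      inv_mem' := by
        rintro _ ⟨a, ha, b, hb, rfl⟩
        refine ⟨b⁻¹ * a⁻¹ * b⁻¹⁻¹, ((Subgroup.mem_normalizer_iff.mp (hB (B.inv_mem hb))) a⁻¹).mp
          (A.inv_mem ha), b⁻¹, B.inv_mem hb, ?_⟩
        group }
  have hle : A ⊔ B ≤ S := by
    apply sup_le
    · intro a ha
      exact ⟨a, ha, 1, B.one_mem, (mul_one a).symm⟩
    · intro b hb
      exact ⟨1, A.one_mem, b, hb, (one_mul b).symm⟩
  exact hle hx

/-- squares of elements of `A ⊔ B` lie in `A` when `B` has exponent two and normalizes `A` -/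
theorem sq_mem_of_mem_sup {A B : Subgroup G} (hB : B ≤ normalizer (A : Set G))
    (hsq : ∀ b ∈ B, b * b = 1) {x : G} (hx : x ∈ A ⊔ B) : x * x ∈ A := by
  obtain ⟨a, ha, b, hb, rfl⟩ := exists_mul_of_mem_sup hB hx
  have e : a * b * (a * b) = a * (b * a * b⁻¹) * (b * b) := by group
  rw [e, hsq b hb, mul_one]
  exact A.mul_mem ha (((Subgroup.mem_normalizer_iff.mp (hB hb)) a).mp ha)

/-- an element of odd order whose square lies in `A` lies in `A` -/
theorem mem_of_sq_mem_of_odd {A : Subgroup G} {x : G} (hsq : x * x ∈ A) (hodd : Odd (orderOf x)) :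
    x ∈ A := by
  obtain ⟨j, hj⟩ := hodd
  have e : x = (x * x) ^ (j + 1) := by
    rw [← pow_two, ← pow_mul]
    have : 2 * (j + 1) = orderOf x + 1 := by omega
    rw [this, pow_succ, pow_orderOf_eq_one, one_mul]
  rw [e]
  exact A.pow_mem hsq _

/-- an element of odd order with trivial square is trivial -/
theorem eq_one_of_sq_of_odd {x : G} (hsq : x * x = 1) (hodd : Odd (orderOf x)) : x = 1 := by
  have := mem_of_sq_mem_of_odd (A := ⊥) (by rw [hsq]; exact Subgroup.one_mem _) hodd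
  rwa [Subgroup.mem_bot] at this

/-- products of commuting elements of odd order have odd order -/
theorem odd_orderOf_mul {x y : G} (hc : x * y = y * x) (hx : Odd (orderOf x))
    (hy : Odd (orderOf y)) : Odd (orderOf (x * y)) := by
  have h1 : (x * y) ^ (orderOf x * orderOf y) = 1 := by
    have hc' : Commute x y := hc
    rw [hc'.mul_pow, pow_mul, pow_orderOf_eq_one, one_pow, one_mul, mul_comm, pow_mul,
      pow_orderOf_eq_one, one_pow]
  have h2 := orderOf_dvd_of_pow_eq_one h1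
  exact Odd.of_dvd_nat (hx.mul hy) h2

end

end Cfsg.Agent.Lib.Lead.Sidki
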