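import Mathlib
import Cfsg.Agent.Lib.Lead.Sidki1
import Cfsg.Agent.Lib.Helper6.PRes

set_option autoImplicit false

/-! Sidki pairs: quotients, `O_2(G) = 1`, minimal normal subgroups. -/

namespace Cfsg.Agent.Lib.Lead.Sidki

open Cfsg Subgroup

universe u

section
variable {G : Type u} [Group G] [Finite G] {V : Subgroup G}

/-- lifting an inverted element of odd order from a quotient -/
theorem exists_lift_inverted {Q : Type*} [Group Q] (φ : G →* Q) (hφ : Function.Surjective φ)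
    {v : G} (hv : v * v = 1) {hb : Q} (hodd : Odd (orderOf hb))
    (hinv : φ v * hb * (φ v)⁻¹ = hb⁻¹) :
    ∃ h' : G, Odd (orderOf h') ∧ v * h' * v⁻¹ = h'⁻¹ ∧ φ h' = hb := by
  obtain ⟨g, rfl⟩ := hφ hb
  have hvi : v⁻¹ = v := inv_eq_of_mul_eq_one_right hv
  set y := g * v * g⁻¹ * v⁻¹ with hy
  have hyinv : v * y * v⁻¹ = y⁻¹ := by
    rw [hy, hvi]
    have e1 : (g * v * g⁻¹ * v)⁻¹ = v⁻¹ * g * v⁻¹ * g⁻¹ := by group
    rw [e1, hvi]
    calc v * (g * v * g⁻¹ * v) * v = v * g * v * g⁻¹ * (v * v) := by group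
      _ = v * g * v * g⁻¹ := by rw [hv, mul_one]
  have hφy : φ y = φ g * φ g := by
    rw [hy, map_mul, map_mul, map_mul, map_inv, map_inv]
    have e2 : φ v * (φ g)⁻¹ * (φ v)⁻¹ = φ g := by
      have h3 : (φ v * φ g * (φ v)⁻¹)⁻¹ = ((φ g)⁻¹)⁻¹ := congrArg (fun z => z⁻¹) hinv
      rw [inv_inv] at h3
      have h4 : φ v * (φ g)⁻¹ * (φ v)⁻¹ = (φ v * φ g * (φ v)⁻¹)⁻¹ := by group
      rw [h4, h3]
    calc φ g * φ v * (φ g)⁻¹ * (φ v)⁻¹ = φ g * (φ v * (φ g)⁻¹ * (φ v)⁻¹) := by group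
      _ = φ g * φ g := by rw [e2]
  -- the odd part of `y`
  obtain ⟨a, m, hm, hn⟩ := Nat.exists_eq_two_pow_mul_odd (orderOf_pos y).ne'
  set r := orderOf (φ g) with hr
  -- an inverse of `2 ^ (a + 1)` modulo `r`
  have hcop : Nat.Coprime (2 ^ (a + 1)) r := by
    apply Nat.Coprime.pow_left
    exact (Nat.Prime.coprime_iff_not_dvd Nat.prime_two).mpr hodd.not_two_dvd_nat
  obtain ⟨s, hs⟩ : ∃ s : ℕ, (φ g) ^ (2 ^ (a + 1) * s) = φ g := by
    by_cases hr1 : r = 1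
    · refine ⟨0, ?_⟩
      have : φ g = 1 := orderOf_eq_one_iff.mp hr1
      rw [this, one_pow]
    · have hr2 : 1 < r := by
        have := hodd.pos
        omega
      obtain ⟨s, -, hs⟩ := Nat.exists_mul_mod_eq_one_of_coprime hcop hr2
      refine ⟨s, ?_⟩
      rw [← pow_mod_orderOf, ← hr, hs, pow_one]
  refine ⟨y ^ (2 ^ a * s), ?_, ?_, ?_⟩
  · have h1 : (y ^ (2 ^ a * s)) ^ m = 1 := by
      rw [← pow_mul]
      have : 2 ^ a * s * m = orderOf y * s := by rw [hn]; ring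
      rw [this, pow_mul, pow_orderOf_eq_one, one_pow]
    exact Odd.of_dvd_nat hm (orderOf_dvd_of_pow_eq_one h1)
  · rw [← conj_pow, hyinv, inv_pow]
  · rw [map_pow, hφy, ← pow_two, ← pow_mul]
    have : 2 * (2 ^ a * s) = 2 ^ (a + 1) * s := by ring
    rw [this, hs]

/-- the image of a Sidki pair in a quotient by a normal subgroup avoiding `V` -/
theorem Hyp.quot (h : Hyp V) (N : Subgroup G) [N.Normal] (hN : N ≠ ⊥) (hVN : V ⊓ N = ⊥) :
    V.map (QuotientGroup.mk' N) ⊓ pCore 2 (G ⧸ N) ≠ ⊥ := by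
  have hnot : ∀ w ∈ V, w ≠ 1 → w ∉ N := by
    intro w hw hw1 hwN
    have : w ∈ V ⊓ N := Subgroup.mem_inf.mpr ⟨hw, hwN⟩
    rw [hVN, Subgroup.mem_bot] at this
    exact hw1 this
  apply h.minG (G ⧸ N) (V.map (QuotientGroup.mk' N))
  · rw [Subgroup.card_eq_card_quotient_mul_card_subgroup N]
    have h1 : 1 < Nat.card ↥N := (Subgroup.one_lt_card_iff_ne_bot N).mpr hN
    have h2 : 0 < Nat.card (G ⧸ N) := Nat.card_pos
    nlinarith
  · refine ⟨Cfsg.Agent.Lib.Lead.IsoRank.isMulCommutative_of_forall ?_, ?_⟩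
    · rintro _ ⟨a, ha, rfl⟩ _ ⟨b, hb, rfl⟩
      rw [← map_mul, ← map_mul, h.comm a ha b hb]
    · rintro _ ⟨a, ha, rfl⟩
      rw [← map_pow, pow_two, h.sq a ha, map_one]
  · intro h1
    obtain ⟨w, hw⟩ := (Subgroup.ne_bot_iff_exists_ne_one).mp h.ne
    have hwV : (w : G) ∈ V := w.2
    have hw1' : (w : G) ≠ 1 := fun e => hw (Subtype.ext e)
    have : QuotientGroup.mk' N (w : G) ∈ V.map (QuotientGroup.mk' N) := ⟨w, hwV, rfl⟩
    rw [h1, Subgroup.mem_bot, QuotientGroup.mk'_apply, QuotientGroup.eq_one_iff] at this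
    exact hnot _ hwV hw1' this
  · rintro hb _ ⟨v, hv, rfl⟩ hodd hinv
    obtain ⟨h', hodd', hinv', hφ⟩ := exists_lift_inverted (QuotientGroup.mk' N)
      (QuotientGroup.mk'_surjective N) (h.sq v hv) hodd hinv
    obtain ⟨w, hw, hw1, hc⟩ := h.sid h' v hv hodd' hinv'
    refine ⟨QuotientGroup.mk' N w, ⟨w, hw, rfl⟩, ?_, ?_⟩
    · rw [QuotientGroup.mk'_apply, ne_eq, QuotientGroup.eq_one_iff]
      exact hnot w hw hw1
    · rw [← hφ, ← map_mul, ← map_mul, hc]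

/-- `O_2(G) = 1` -/
theorem Hyp.core_eq_bot (h : Hyp V) (hVO : V ⊓ pCore 2 G = ⊥) : pCore 2 G = ⊥ := by
  haveI : Fact (Nat.Prime 2) := ⟨Nat.prime_two⟩
  by_contra hne
  haveI := Cfsg.Agent.Lib.Helper9.pCore_normal' (G := G) 2
  have h1 := h.quot (pCore 2 G) hne hVO
  apply h1
  rw [Cfsg.Agent.Lib.Helper6.pCore_quotient_of_isPGroup (pCore 2 G)
    (Cfsg.Agent.Lib.Helper9.pCore_isPGroup' 2), QuotientGroup.map_mk'_self, inf_bot_eq]

/-- minimal normal subgroups -/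
def IsMinNormal (M : Subgroup G) : Prop :=
  M.Normal ∧ M ≠ ⊥ ∧ ∀ K : Subgroup G, K.Normal → K ≤ M → K ≠ ⊥ → K = M

theorem exists_minNormal_le {A : Subgroup G} (hA : A.Normal) (hne : A ≠ ⊥) :
    ∃ M : Subgroup G, IsMinNormal M ∧ M ≤ A := by
  have hwf : WellFounded ((· < ·) : Subgroup G → Subgroup G → Prop) := wellFounded_lt
  let S : Set (Subgroup G) := {K | K.Normal ∧ K ≠ ⊥ ∧ K ≤ A}
  have hS : S.Nonempty := ⟨A, hA, hne, le_rfl⟩
  obtain ⟨M, hM, hmin⟩ := hwf.has_min S hS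
  refine ⟨M, ⟨hM.1, hM.2.1, ?_⟩, hM.2.2⟩
  intro K hK hKM hK1
  by_contra hne'
  exact hmin K ⟨hK, hK1, hKM.trans hM.2.2⟩ (lt_of_le_of_ne hKM hne')

end

end Cfsg.Agent.Lib.Lead.Sidki
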