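import Mathlib
import Cfsg.Agent.Lib.Lead.Sidki2
import Cfsg.Agent.Lib.Helper9.ThreeTransp

set_option autoImplicit false

/-! Sidki pairs: an involution in `O_2` modulo a central subgroup of odd order lies in `O_2(G)`. -/

namespace Cfsg.Agent.Lib.Lead.Sidki

open Cfsg Subgroup

universe u

section
variable {G : Type u} [Group G] [Finite G]

/-- Two involutions whose product is a 2-element generate a 2-group. -/
theorem isPGroup_two_of_pow {t t' : G} (ht : t * t = 1) (ht' : t' * t' = 1) {k : ℕ}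
    (hk : (t * t') ^ (2 ^ k) = 1) :
    IsPGroup 2 ↥(Subgroup.zpowers t ⊔ Subgroup.zpowers t') := by
  have hti : t⁻¹ = t := inv_eq_of_mul_eq_one_right ht
  have ht'i : t'⁻¹ = t' := inv_eq_of_mul_eq_one_right ht'
  have h1 : IsPGroup 2 ↥(Subgroup.zpowers t) :=
    Cfsg.Agent.Lib.Helper9.ThreeTransp.isPGroup_zpowers_of_pow (k := 1)
      (by rw [pow_one, pow_two]; exact ht)
  have h2 : IsPGroup 2 ↥(Subgroup.zpowers (t * t')) :=
    Cfsg.Agent.Lib.Helper9.ThreeTransp.isPGroup_zpowers_of_pow (k := k) hk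
  have hnorm : Subgroup.zpowers t ≤ Subgroup.normalizer (Subgroup.zpowers (t * t') : Set G) := by
    rw [Subgroup.zpowers_le]
    apply Subgroup.mem_normalizer_fintype
    intro n hn
    obtain ⟨m, rfl⟩ := Subgroup.mem_zpowers_iff.mp hn
    have e : t * (t * t') ^ m * t⁻¹ = ((t * t')⁻¹) ^ m := by
      have e1 : t * (t * t') * t⁻¹ = (t * t')⁻¹ := by
        rw [mul_inv_rev, hti, ht'i]
        calc t * (t * t') * t = (t * t) * t' * t := by group
          _ = t' * t := by rw [ht, one_mul]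
      have := map_zpow (MulAut.conj t) (t * t') m
      simp only [MulAut.conj_apply] at this
      rw [this, e1]
    rw [SetLike.mem_coe, e, inv_zpow']
    exact Subgroup.zpow_mem_zpowers _ _
  have h3 := IsPGroup.to_sup_of_normal_right' h1 h2 hnorm
  apply h3.to_le
  apply sup_le le_sup_left
  rw [Subgroup.zpowers_le]
  have hmem : t⁻¹ * (t * t') ∈ Subgroup.zpowers t ⊔ Subgroup.zpowers (t * t') :=
    Subgroup.mul_mem _ (Subgroup.inv_mem _ (Subgroup.mem_sup_left (Subgroup.mem_zpowers t)))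
      (Subgroup.mem_sup_right (Subgroup.mem_zpowers _))
  have e : t⁻¹ * (t * t') = t' := by group
  rw [e] at hmem
  exact hmem

/-- an involution lying in `O_2` modulo a central subgroup without involutions lies in `O_2(G)` -/
theorem mem_core_of_quot_central (M : Subgroup G) [M.Normal]
    (hcen : ∀ m ∈ M, ∀ g : G, g * m = m * g) (hinv2 : ∀ m ∈ M, m * m = 1 → m = 1)
    {x : G} (hx : x * x = 1) (hxq : QuotientGroup.mk' M x ∈ pCore 2 (G ⧸ M)) :
    x ∈ pCore 2 G := by
  haveI : Fact (Nat.Prime 2) := ⟨Nat.prime_two⟩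
  have hxi : x⁻¹ = x := inv_eq_of_mul_eq_one_right hx
  have hX : ∀ g : G, IsPGroup 2 ↥(Subgroup.zpowers x ⊔
      Cfsg.Agent.Lib.Helper7.cj g (Subgroup.zpowers x)) := by
    intro g
    have e : Cfsg.Agent.Lib.Helper7.cj g (Subgroup.zpowers x) = Subgroup.zpowers (g * x * g⁻¹) := by
      unfold Cfsg.Agent.Lib.Helper7.cj
      rw [MonoidHom.map_zpowers]
      simp only [MulEquiv.coe_toMonoidHom, MulAut.conj_apply]
    rw [e]
    set t' := g * x * g⁻¹ with ht'
    have ht'2 : t' * t' = 1 := by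
      calc g * x * g⁻¹ * (g * x * g⁻¹) = g * (x * x) * g⁻¹ := by group
        _ = 1 := by rw [hx]; group
    have ht'i : t'⁻¹ = t' := inv_eq_of_mul_eq_one_right ht'2
    haveI hn := Cfsg.Agent.Lib.Helper9.pCore_normal' (G := G ⧸ M) 2
    have hyq : QuotientGroup.mk' M (x * t') ∈ pCore 2 (G ⧸ M) := by
      rw [map_mul]
      apply Subgroup.mul_mem _ hxq
      rw [ht', map_mul, map_mul, map_inv]
      exact hn.conj_mem _ hxq _
    obtain ⟨k, hk⟩ := (Cfsg.Agent.Lib.Helper9.pCore_isPGroup' (G := G ⧸ M) 2) ⟨_, hyq⟩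
    have hk' : (QuotientGroup.mk' M (x * t')) ^ (2 ^ k) = 1 := by
      have := congrArg Subtype.val hk
      simpa using this
    have hz : (x * t') ^ (2 ^ k) ∈ M := by
      rw [← map_pow, QuotientGroup.mk'_apply, QuotientGroup.eq_one_iff] at hk'
      exact hk'
    have hinvy : x * (x * t') * x⁻¹ = (x * t')⁻¹ := by
      rw [mul_inv_rev, ht'i, hxi]
      calc x * (x * t') * x = (x * x) * t' * x := by group
        _ = t' * x := by rw [hx, one_mul]
    have hz1 : (x * t') ^ (2 ^ k) = 1 := by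
      apply hinv2 _ hz
      have h1 : x * (x * t') ^ (2 ^ k) * x⁻¹ = ((x * t') ^ (2 ^ k))⁻¹ := by
        rw [← conj_pow, hinvy, inv_pow]
      have h2 : x * (x * t') ^ (2 ^ k) * x⁻¹ = (x * t') ^ (2 ^ k) := by
        rw [hcen _ hz x]; group
      rw [h2] at h1
      calc (x * t') ^ (2 ^ k) * (x * t') ^ (2 ^ k)
          = (x * t') ^ (2 ^ k) * ((x * t') ^ (2 ^ k))⁻¹ := by rw [← h1]
        _ = 1 := mul_inv_cancel _
    exact isPGroup_two_of_pow hx ht'2 hz1
  obtain ⟨hsn, _⟩ := Cfsg.Agent.Lib.Helper7.baer_suzuki (Subgroup.zpowers x) hX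
  have hp : IsPGroup 2 ↥(Subgroup.zpowers x) :=
    Cfsg.Agent.Lib.Helper9.ThreeTransp.isPGroup_zpowers_of_pow (k := 1)
      (by rw [pow_one, pow_two]; exact hx)
  exact Cfsg.Agent.Lib.Helper6.le_pCore_of_isSubnormal_of_isPGroup hsn hp (Subgroup.mem_zpowers x)

/-- a subgroup is normalized by `B` when it is stable under conjugation by the elements of `B` -/
theorem le_normalizer_of_conj_mem {B K : Subgroup G}
    (h : ∀ b ∈ B, ∀ k ∈ K, b * k * b⁻¹ ∈ K) : B ≤ normalizer (K : Set G) := by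
  intro b hb
  rw [Subgroup.mem_normalizer_iff]
  intro k
  constructor
  · exact h b hb k
  · intro hk
    have := h b⁻¹ (B.inv_mem hb) _ hk
    have e : b⁻¹ * (b * k * b⁻¹) * b⁻¹⁻¹ = k := by group
    rwa [e] at this

end

end Cfsg.Agent.Lib.Lead.Sidki
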