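import Mathlib
import Cfsg.Agent.Lib.Lead.Sidki2b

set_option autoImplicit false

/-! Sidki pairs: a minimal counterexample has no nontrivial abelian normal subgroup. -/

namespace Cfsg.Agent.Lib.Lead.Sidki

open Cfsg Subgroup
open Cfsg.Agent.Lib.Helper9.LargeExtra

universe u

section
variable {G : Type u} [Group G] [Finite G] {V : Subgroup G}

/-- `O_2(H) ∩ K ≤ O_2(K)` for `K ≤ H` -/
theorem pcm_inf_le {H K : Subgroup G} (hKH : K ≤ H) :
    (pCore 2 ↥H).map H.subtype ⊓ K ≤ (pCore 2 ↥K).map K.subtype := by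
  haveI : Fact (Nat.Prime 2) := ⟨Nat.prime_two⟩
  apply le_pCoreMap 2 K _ inf_le_right
  · exact (pCoreMap_isPGroup 2 H).to_le inf_le_left
  · intro k' hk' q hq
    refine Subgroup.mem_inf.mpr ⟨pCoreMap_conj_mem 2 H (hKH hk') (Subgroup.mem_inf.mp hq).1, ?_⟩
    exact K.mul_mem (K.mul_mem hk' (Subgroup.mem_inf.mp hq).2) (K.inv_mem hk')

/-- a normal subgroup of exponent two is trivial when `O_2(G) = 1` -/
theorem eq_bot_of_normal_two (hO : pCore 2 G = ⊥) {K : Subgroup G} (hK : K.Normal)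
    (h2 : ∀ k ∈ K, k * k = 1) : K = ⊥ := by
  have hp : IsPGroup 2 ↥K := by
    intro k
    refine ⟨1, ?_⟩
    apply Subtype.ext
    rw [pow_one, pow_two]
    show (k : G) * (k : G) = 1
    exact h2 _ k.2
  have := Cfsg.Agent.Lib.Helper9.le_pCore hK hp
  rwa [hO, le_bot_iff] at this

theorem no_invol (hO : pCore 2 G = ⊥) {M : Subgroup G} (hMn : M.Normal)
    (hab : ∀ a ∈ M, ∀ b ∈ M, a * b = b * a) : ∀ m ∈ M, m * m = 1 → m = 1 := by
  let Ω : Subgroup G :=
    { carrier := {m | m ∈ M ∧ m * m = 1}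
      one_mem' := ⟨M.one_mem, mul_one 1⟩
      mul_mem' := by
        rintro a b ⟨ha, ha2⟩ ⟨hb, hb2⟩
        refine ⟨M.mul_mem ha hb, ?_⟩
        calc a * b * (a * b) = a * (b * a) * b := by group
          _ = a * (a * b) * b := by rw [hab b hb a ha]
          _ = (a * a) * (b * b) := by group
          _ = 1 := by rw [ha2, hb2, mul_one]
      inv_mem' := by
        rintro a ⟨ha, ha2⟩
        refine ⟨M.inv_mem ha, ?_⟩
        calc a⁻¹ * a⁻¹ = (a * a)⁻¹ := by group
          _ = 1 := by rw [ha2, inv_one] }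
  have hΩn : Ω.Normal := by
    constructor
    rintro a ⟨ha, ha2⟩ g
    refine ⟨hMn.conj_mem a ha g, ?_⟩
    calc g * a * g⁻¹ * (g * a * g⁻¹) = g * (a * a) * g⁻¹ := by group
      _ = 1 := by rw [ha2]; group
  have hΩ : Ω = ⊥ := eq_bot_of_normal_two hO hΩn (fun k hk => hk.2)
  intro m hm hm2
  have : m ∈ Ω := ⟨hm, hm2⟩
  rwa [hΩ, Subgroup.mem_bot] at this

theorem odd_of_no_invol {M : Subgroup G} (hinv2 : ∀ m ∈ M, m * m = 1 → m = 1) :
    ∀ m ∈ M, Odd (orderOf m) := by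
  intro m hm
  by_contra hodd
  rw [Nat.not_odd_iff_even] at hodd
  have h2 : 2 ∣ orderOf m := hodd.two_dvd
  have hpos : orderOf m ≠ 0 := (orderOf_pos m).ne'
  have ho : orderOf (m ^ (orderOf m / 2)) = 2 := orderOf_pow_orderOf_div hpos h2
  have hyM : m ^ (orderOf m / 2) ∈ M := M.pow_mem hm _
  have hy2 : (m ^ (orderOf m / 2)) ^ 2 = 1 := by
    have := pow_orderOf_eq_one (m ^ (orderOf m / 2))
    rwa [ho] at this
  rw [pow_two] at hy2
  have hy1 := hinv2 _ hyM hy2
  rw [hy1, orderOf_one] at ho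
  omega

theorem Hyp.cent_sup_eq_top (h : Hyp V) (hO : pCore 2 G = ⊥) {M : Subgroup G} (hMn : M.Normal)
    (hab : ∀ a ∈ M, ∀ b ∈ M, a * b = b * a) : centralizer (M : Set G) ⊔ V = ⊤ := by
  haveI := hMn
  by_contra hne
  haveI hCn : (centralizer (M : Set G)).Normal := inferInstance
  obtain ⟨x, hxV, hx1, hxR⟩ := h.exists_mem_core hne le_sup_right
  have hpC : (pCore 2 ↥(centralizer (M : Set G))).map (centralizer (M : Set G)).subtype = ⊥ :=
    pcm_normal_eq_bot hO _
  have hn : centralizer (M : Set G) ⊔ V ≤ normalizer ((centralizer (M : Set G) : Subgroup G) : Set G) := by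
    rw [Subgroup.normalizer_eq_top]; exact le_top
  have hMC : M ≤ centralizer (M : Set G) := by
    intro m hm
    rw [Subgroup.mem_centralizer_iff]
    intro a ha
    exact hab a ha m hm
  have hxC : x ∈ centralizer (M : Set G) := by
    rw [Subgroup.mem_centralizer_iff]
    intro m hm
    exact (core_comm le_sup_left hn hpC hxR (hMC hm)).symm
  have : x ∈ (pCore 2 ↥(centralizer (M : Set G))).map (centralizer (M : Set G)).subtype :=
    pcm_inf_le (le_sup_left : centralizer (M : Set G) ≤ centralizer (M : Set G) ⊔ V)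
      (Subgroup.mem_inf.mpr ⟨hxR, hxC⟩)
  rw [hpC, Subgroup.mem_bot] at this
  exact hx1 this

theorem eq_of_invariant {M : Subgroup G} (hM : IsMinNormal M)
    (htop : centralizer (M : Set G) ⊔ V = ⊤) {K : Subgroup G} (hKM : K ≤ M) (hK : K ≠ ⊥)
    (hV : ∀ v ∈ V, ∀ k ∈ K, v * k * v⁻¹ ∈ K) : K = M := by
  have h1 : centralizer (M : Set G) ≤ normalizer (K : Set G) := by
    apply le_normalizer_of_conj_mem
    intro c hc k hk
    have e : c * k * c⁻¹ = k := by
      have := (Subgroup.mem_centralizer_iff.mp hc) k (hKM hk)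
      rw [← this]; group
    rw [e]; exact hk
  have h2 : V ≤ normalizer (K : Set G) := le_normalizer_of_conj_mem hV
  have h3 : normalizer (K : Set G) = ⊤ := by
    rw [eq_top_iff, ← htop]; exact sup_le h1 h2
  exact hM.2.2 K (Subgroup.normalizer_eq_top_iff.mp h3) hKM hK

theorem Hyp.cent_or_inv (h : Hyp V) {M : Subgroup G} (hM : IsMinNormal M)
    (hab : ∀ a ∈ M, ∀ b ∈ M, a * b = b * a)
    (htop : centralizer (M : Set G) ⊔ V = ⊤) {v : G} (hv : v ∈ V) :
    (∀ m ∈ M, v * m * v⁻¹ = m) ∨ (∀ m ∈ M, v * m * v⁻¹ = m⁻¹) := by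
  have hvi : v⁻¹ = v := h.inv_eq hv
  have hmemK : ∀ k, k ∈ M ⊓ centralizer ({v} : Set G) ↔ k ∈ M ∧ v * k = k * v := by
    intro k
    rw [Subgroup.mem_inf, Subgroup.mem_centralizer_iff]
    constructor
    · rintro ⟨h1, h2⟩
      exact ⟨h1, h2 v rfl⟩
    · rintro ⟨h1, h2⟩
      refine ⟨h1, ?_⟩
      intro a ha
      rw [Set.mem_singleton_iff] at ha
      rw [ha]; exact h2
  have hKV : ∀ v' ∈ V, ∀ k ∈ M ⊓ centralizer ({v} : Set G),
      v' * k * v'⁻¹ ∈ M ⊓ centralizer ({v} : Set G) := by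
    intro v' hv' k hk
    obtain ⟨hkM, hkc⟩ := (hmemK k).mp hk
    refine (hmemK _).mpr ⟨hM.1.conj_mem k hkM v', ?_⟩
    have hc : v * v' = v' * v := h.comm v hv v' hv'
    have hc' : v * v'⁻¹ = v'⁻¹ * v := by
      rw [h.inv_eq hv']; exact hc
    calc v * (v' * k * v'⁻¹) = (v * v') * k * v'⁻¹ := by group
      _ = v' * (v * k) * v'⁻¹ := by rw [hc]; group
      _ = v' * (k * v) * v'⁻¹ := by rw [hkc]
      _ = v' * k * (v * v'⁻¹) := by group
      _ = v' * k * (v'⁻¹ * v) := by rw [hc']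
      _ = v' * k * v'⁻¹ * v := by group
  by_cases hKb : M ⊓ centralizer ({v} : Set G) = ⊥
  · right
    intro m hm
    have hvm : v * m * v⁻¹ ∈ M := hM.1.conj_mem m hm v
    have hmem : m * (v * m * v⁻¹) ∈ M ⊓ centralizer ({v} : Set G) := by
      refine (hmemK _).mpr ⟨M.mul_mem hm hvm, ?_⟩
      have hvv : v * v = 1 := h.sq v hv
      rw [hvi] at hvm ⊢
      calc v * (m * (v * m * v)) = ((v * m * v) * m) * v := by group
        _ = (m * (v * m * v)) * v := by rw [hab _ hvm m hm]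
    rw [hKb, Subgroup.mem_bot] at hmem
    exact eq_inv_of_mul_eq_one_right hmem
  · left
    intro m hm
    have hKM := eq_of_invariant hM htop inf_le_left hKb hKV
    have : m ∈ M ⊓ centralizer ({v} : Set G) := by rw [hKM]; exact hm
    obtain ⟨_, hc⟩ := (hmemK m).mp this
    rw [hc]; group

theorem Hyp.exists_not_mem_cent (h : Hyp V) (hO : pCore 2 G = ⊥) {M : Subgroup G}
    (hM : IsMinNormal M) (hinv2 : ∀ m ∈ M, m * m = 1 → m = 1)
    (htop : centralizer (M : Set G) ⊔ V = ⊤) : ∃ t ∈ V, t ∉ centralizer (M : Set G) := by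
  by_contra hcon
  push_neg at hcon
  haveI := hM.1
  have hCtop : centralizer (M : Set G) = ⊤ := by
    rw [eq_top_iff, ← htop]
    exact sup_le le_rfl (fun v hv => hcon v hv)
  have hcen : ∀ m ∈ M, ∀ g : G, g * m = m * g := by
    intro m hm g
    have hg : g ∈ centralizer (M : Set G) := by rw [hCtop]; exact Subgroup.mem_top g
    exact ((Subgroup.mem_centralizer_iff.mp hg) m hm).symm
  have hVM : V ⊓ M = ⊥ := by
    rw [eq_bot_iff]
    intro x hx
    rw [Subgroup.mem_bot]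
    exact hinv2 x (Subgroup.mem_inf.mp hx).2 (h.sq x (Subgroup.mem_inf.mp hx).1)
  have hq := h.quot M hM.2.1 hVM
  apply hq
  rw [eq_bot_iff]
  intro y hy
  obtain ⟨hy1, hy2⟩ := Subgroup.mem_inf.mp hy
  obtain ⟨x, hxV, rfl⟩ := Subgroup.mem_map.mp hy1
  rw [Subgroup.mem_bot]
  have hxc : x ∈ pCore 2 G := mem_core_of_quot_central M hcen hinv2 (h.sq x hxV) hy2
  rw [hO, Subgroup.mem_bot] at hxc
  rw [hxc, map_one]

end

end Cfsg.Agent.Lib.Lead.Sidki
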