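import Mathlib
import Cfsg.Agent.Lib.Lead.Sidki3

set_option autoImplicit false

/-! Sidki pairs: a minimal counterexample has no nontrivial abelian normal subgroup (end). -/

namespace Cfsg.Agent.Lib.Lead.Sidki

open Cfsg Subgroup
open Cfsg.Agent.Lib.Helper9.LargeExtra

universe u

section
variable {G : Type u} [Group G] [Finite G] {V : Subgroup G}

theorem Hyp.no_abelian_minNormal (h : Hyp V) (hO : pCore 2 G = ⊥) {M : Subgroup G}
    (hM : IsMinNormal M) (hab : ∀ a ∈ M, ∀ b ∈ M, a * b = b * a) : False := by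
  haveI hMn := hM.1
  have hinv2 := no_invol hO hM.1 hab
  have hoddM := odd_of_no_invol hinv2
  have htop := h.cent_sup_eq_top hO hM.1 hab
  have hci : ∀ v ∈ V, (∀ m ∈ M, v * m * v⁻¹ = m) ∨ (∀ m ∈ M, v * m * v⁻¹ = m⁻¹) :=
    fun v hv => h.cent_or_inv hM hab htop hv
  obtain ⟨t, htV, htC⟩ := h.exists_not_mem_cent hO hM hinv2 htop
  -- membership in C
  have hmemC : ∀ g : G, g ∈ centralizer (M : Set G) ↔ ∀ m ∈ M, g * m * g⁻¹ = m := by
    intro g
    rw [Subgroup.mem_centralizer_iff]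
    constructor
    · intro hg m hm
      rw [← hg m hm]; group
    · intro hg m hm
      have := hg m hm
      calc m * g = (g * m * g⁻¹) * g := by rw [this]
        _ = g * m := by group
  -- elements of V outside C invert M
  have hinvM : ∀ v ∈ V, v ∉ centralizer (M : Set G) → ∀ m ∈ M, v * m * v⁻¹ = m⁻¹ := by
    intro v hv hvC
    rcases hci v hv with h1 | h1
    · exact absurd ((hmemC v).mpr h1) hvC
    · exact h1
  -- product of two elements outside C lies in C
  have hprod : ∀ v₁ ∈ V, ∀ v₂ ∈ V, v₁ ∉ centralizer (M : Set G) → v₂ ∉ centralizer (M : Set G) →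
      v₁ * v₂ ∈ centralizer (M : Set G) := by
    intro v₁ hv₁ v₂ hv₂ h1 h2
    rw [hmemC]
    intro m hm
    have e1 := hinvM v₂ hv₂ h2 m hm
    have e2 := hinvM v₁ hv₁ h1 m⁻¹ (M.inv_mem hm)
    calc v₁ * v₂ * m * (v₁ * v₂)⁻¹ = v₁ * (v₂ * m * v₂⁻¹) * v₁⁻¹ := by group
      _ = v₁ * m⁻¹ * v₁⁻¹ := by rw [e1]
      _ = m⁻¹⁻¹ := e2
      _ = m := inv_inv m
  obtain ⟨m0, hm0M, hm01⟩ : ∃ m ∈ M, m ≠ 1 := by
    by_contra hcon
    push_neg at hcon
    apply hM.2.1
    rw [eq_bot_iff]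
    intro x hx
    rw [Subgroup.mem_bot]; exact hcon x hx
  -- U' ≠ ⊥
  have hU : V ⊓ centralizer (M : Set G) ≠ ⊥ := by
    intro hU
    have hVt : ∀ v ∈ V, v = 1 ∨ v = t := by
      intro v hv
      by_cases hvC : v ∈ centralizer (M : Set G)
      · left
        have : v ∈ V ⊓ centralizer (M : Set G) := Subgroup.mem_inf.mpr ⟨hv, hvC⟩
        rwa [hU, Subgroup.mem_bot] at this
      · right
        have : v * t ∈ V ⊓ centralizer (M : Set G) :=
          Subgroup.mem_inf.mpr ⟨V.mul_mem hv htV, hprod v hv t htV hvC htC⟩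
        rw [hU, Subgroup.mem_bot] at this
        have := eq_inv_of_mul_eq_one_left this
        rw [this, h.inv_eq htV]
    have hinv := hinvM t htV htC m0 hm0M
    obtain ⟨w, hw, hw1, hwc⟩ := h.sid m0 t htV (hoddM m0 hm0M) hinv
    rcases hVt w hw with e | e
    · exact hw1 e
    · rw [e] at hwc
      have : t * m0 * t⁻¹ = m0 := by rw [hwc]; group
      rw [hinv] at this
      apply hm01
      apply hinv2 m0 hm0M
      calc m0 * m0 = m0 * m0⁻¹ := by rw [this]
        _ = 1 := mul_inv_cancel m0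
  have hCne : centralizer (M : Set G) ≠ ⊤ := by
    intro e; apply htC; rw [e]; exact Subgroup.mem_top t
  have hpC : (pCore 2 ↥(centralizer (M : Set G))).map (centralizer (M : Set G)).subtype = ⊥ :=
    pcm_normal_eq_bot hO _
  obtain ⟨hh, hhC, u, huU, hodd, hinvu, hcu⟩ := h.nsid hCne inf_le_right inf_le_left hU
    (fun x _ hx => by rwa [hpC, Subgroup.mem_bot] at hx)
  have huV : u ∈ V := (Subgroup.mem_inf.mp huU).1
  have huC : u ∈ centralizer (M : Set G) := (Subgroup.mem_inf.mp huU).2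
  obtain ⟨z, hzV, hz1, hzc⟩ := h.sid hh u huV hodd hinvu
  have hzC : z ∉ centralizer (M : Set G) := by
    intro hzC
    exact hz1 (hcu z (Subgroup.mem_inf.mpr ⟨hzV, hzC⟩) hzc)
  have hhm : hh * m0 = m0 * hh := ((Subgroup.mem_centralizer_iff.mp hhC) m0 hm0M).symm
  have hyodd : Odd (orderOf (hh * m0)) := odd_orderOf_mul hhm hodd (hoddM m0 hm0M)
  have hzhh : z * hh * z⁻¹ = hh := by rw [hzc]; group
  have hzm : z * m0 * z⁻¹ = m0⁻¹ := hinvM z hzV hzC m0 hm0M
  have hum : u * m0⁻¹ * u⁻¹ = m0⁻¹ := (hmemC u).mp huC m0⁻¹ (M.inv_mem hm0M)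
  have hyinv : (u * z) * (hh * m0) * (u * z)⁻¹ = (hh * m0)⁻¹ := by
    calc (u * z) * (hh * m0) * (u * z)⁻¹
        = u * ((z * hh * z⁻¹) * (z * m0 * z⁻¹)) * u⁻¹ := by group
      _ = u * (hh * m0⁻¹) * u⁻¹ := by rw [hzhh, hzm]
      _ = (u * hh * u⁻¹) * (u * m0⁻¹ * u⁻¹) := by group
      _ = hh⁻¹ * m0⁻¹ := by rw [hinvu, hum]
      _ = (m0 * hh)⁻¹ := by group
      _ = (hh * m0)⁻¹ := by rw [hhm]
  obtain ⟨w, hwV, hw1, hwc⟩ := h.sid (hh * m0) (u * z) (V.mul_mem huV hzV) hyodd hyinv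
  by_cases hwC : w ∈ centralizer (M : Set G)
  · have hwm : w * m0 = m0 * w := ((Subgroup.mem_centralizer_iff.mp hwC) m0 hm0M).symm
    have : w * hh = hh * w := by
      have e1 : w * hh * m0 = hh * w * m0 := by
        calc w * hh * m0 = w * (hh * m0) := by group
          _ = hh * m0 * w := hwc
          _ = hh * (m0 * w) := by group
          _ = hh * (w * m0) := by rw [hwm]
          _ = hh * w * m0 := by group
      exact mul_right_cancel e1
    exact hw1 (hcu w (Subgroup.mem_inf.mpr ⟨hwV, hwC⟩) this)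
  · have hwm : w * m0 * w⁻¹ = m0⁻¹ := hinvM w hwV hwC m0 hm0M
    have hwhh : w * hh * w⁻¹ = hh * m0 * m0 := by
      have e1 : w * (hh * m0) * w⁻¹ = hh * m0 := by rw [hwc]; group
      calc w * hh * w⁻¹ = (w * (hh * m0) * w⁻¹) * (w * m0 * w⁻¹)⁻¹ := by group
        _ = hh * m0 * m0⁻¹⁻¹ := by rw [e1, hwm]
        _ = hh * m0 * m0 := by rw [inv_inv]
    have hw'V : w * z ∈ V := V.mul_mem hwV hzV
    have hw'C : w * z ∈ centralizer (M : Set G) := hprod w hwV z hzV hwC hzC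
    have hw'hh : (w * z) * hh * (w * z)⁻¹ = hh * m0 * m0 := by
      calc (w * z) * hh * (w * z)⁻¹ = w * (z * hh * z⁻¹) * w⁻¹ := by group
        _ = w * hh * w⁻¹ := by rw [hzhh]
        _ = hh * m0 * m0 := hwhh
    have hw'm : (w * z) * m0 * (w * z)⁻¹ = m0 := (hmemC (w * z)).mp hw'C m0 hm0M
    have hw'2 : (w * z) * (w * z) = 1 := h.sq _ hw'V
    have e4 : hh = hh * m0 * m0 * m0 * m0 := by
      calc hh = ((w * z) * (w * z)) * hh * ((w * z) * (w * z))⁻¹ := by rw [hw'2]; group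
        _ = (w * z) * ((w * z) * hh * (w * z)⁻¹) * (w * z)⁻¹ := by group
        _ = (w * z) * (hh * m0 * m0) * (w * z)⁻¹ := by rw [hw'hh]
        _ = ((w * z) * hh * (w * z)⁻¹) * ((w * z) * m0 * (w * z)⁻¹) *
              ((w * z) * m0 * (w * z)⁻¹) := by group
        _ = hh * m0 * m0 * m0 * m0 := by rw [hw'hh, hw'm]
    have e5 : (m0 * m0) * (m0 * m0) = 1 := by
      have : hh * 1 = hh * ((m0 * m0) * (m0 * m0)) := by
        rw [mul_one]
        calc hh = hh * m0 * m0 * m0 * m0 := e4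
          _ = hh * ((m0 * m0) * (m0 * m0)) := by group
      exact (mul_left_cancel this).symm
    have e6 : m0 * m0 = 1 := hinv2 _ (M.mul_mem hm0M hm0M) e5
    exact hm01 (hinv2 m0 hm0M e6)

/-- a minimal counterexample has no nontrivial abelian normal subgroup -/
theorem Hyp.no_abelian_normal (h : Hyp V) (hO : pCore 2 G = ⊥) {A : Subgroup G} (hA : A.Normal)
    (hab : ∀ a ∈ A, ∀ b ∈ A, a * b = b * a) : A = ⊥ := by
  by_contra hne
  obtain ⟨M, hM, hMA⟩ := exists_minNormal_le hA hne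
  exact h.no_abelian_minNormal hO hM (fun a ha b hb => hab a (hMA ha) b (hMA hb))

end

end Cfsg.Agent.Lib.Lead.Sidki
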