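import Mathlib
import Cfsg.Agent.Lib.Lead.Sidki3b

set_option autoImplicit false

/-! Sidki pairs: `G = M V` and `C_G(M) = 1` for a minimal normal subgroup `M`. -/

namespace Cfsg.Agent.Lib.Lead.Sidki

open Cfsg Subgroup
open Cfsg.Agent.Lib.Helper9.LargeExtra

universe u

section
variable {G : Type u} [Group G] [Finite G] {V : Subgroup G}

theorem Hyp.cent_inf_eq_bot (h : Hyp V) (hO : pCore 2 G = ⊥) {M : Subgroup G}
    (hM : IsMinNormal M) : centralizer (M : Set G) ⊓ M = ⊥ := by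
  haveI := hM.1
  apply h.no_abelian_normal hO (inferInstance : (centralizer (M : Set G) ⊓ M).Normal)
  intro a ha b hb
  exact (Subgroup.mem_centralizer_iff.mp (Subgroup.mem_inf.mp hb).1 a (Subgroup.mem_inf.mp ha).2)

theorem Hyp.sup_eq_top (h : Hyp V) (hO : pCore 2 G = ⊥) {M : Subgroup G} (hM : IsMinNormal M) :
    M ⊔ V = ⊤ := by
  haveI hMn := hM.1
  by_contra hne
  have hCM := h.cent_inf_eq_bot hO hM
  have hpM : (pCore 2 ↥M).map M.subtype = ⊥ := pcm_normal_eq_bot hO M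
  have hnM : ∀ H : Subgroup G, H ≤ normalizer (M : Set G) := by
    intro H; rw [Subgroup.normalizer_eq_top]; exact le_top
  obtain ⟨x, hxV, hx1, hxR⟩ := h.exists_mem_core hne le_sup_right
  have hxC : x ∈ centralizer (M : Set G) := by
    rw [Subgroup.mem_centralizer_iff]
    intro m hm
    exact (core_comm le_sup_left (hnM _) hpM hxR hm).symm
  have hU : V ⊓ centralizer (M : Set G) ≠ ⊥ := by
    intro e
    have : x ∈ V ⊓ centralizer (M : Set G) := Subgroup.mem_inf.mpr ⟨hxV, hxC⟩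
    rw [e, Subgroup.mem_bot] at this
    exact hx1 this
  have hCne : centralizer (M : Set G) ≠ ⊤ := by
    intro e
    apply hM.2.1
    rw [eq_bot_iff, ← hCM, e]
    exact le_inf le_top le_rfl
  have hpC : (pCore 2 ↥(centralizer (M : Set G))).map (centralizer (M : Set G)).subtype = ⊥ :=
    pcm_normal_eq_bot hO _
  obtain ⟨hh, hhC, u, huU, hodd, hinvu, hcu⟩ := h.nsid hCne inf_le_right inf_le_left hU
    (fun x _ hx => by rwa [hpC, Subgroup.mem_bot] at hx)
  have huV : u ∈ V := (Subgroup.mem_inf.mp huU).1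
  have huC : u ∈ centralizer (M : Set G) := (Subgroup.mem_inf.mp huU).2
  obtain ⟨z, hzV, hz1, hzc⟩ := h.sid hh u huV hodd hinvu
  have hmemZ : ∀ k, k ∈ V ⊓ centralizer ({hh} : Set G) ↔ k ∈ V ∧ k * hh = hh * k := by
    intro k
    rw [Subgroup.mem_inf, Subgroup.mem_centralizer_iff]
    constructor
    · rintro ⟨h1, h2⟩
      exact ⟨h1, (h2 hh rfl).symm⟩
    · rintro ⟨h1, h2⟩
      refine ⟨h1, ?_⟩
      intro a ha
      rw [Set.mem_singleton_iff] at ha
      rw [ha]; exact h2.symm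
  have hZne : V ⊓ centralizer ({hh} : Set G) ≠ ⊥ := by
    intro e
    have : z ∈ V ⊓ centralizer ({hh} : Set G) := (hmemZ z).mpr ⟨hzV, hzc⟩
    rw [e, Subgroup.mem_bot] at this
    exact hz1 this
  have hMZne : M ⊔ (V ⊓ centralizer ({hh} : Set G)) ≠ ⊤ := by
    intro e
    apply hne
    rw [eq_top_iff, ← e]
    exact sup_le_sup_left inf_le_left M
  obtain ⟨m', hm'H, z', hz'Z, hodd', hinv', hcz⟩ := h.nsid hMZne le_sup_right inf_le_left hZne
    (fun x hxZ hx => by
      obtain ⟨hxV', hxc⟩ := (hmemZ x).mp hxZ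
      have hxC' : x ∈ centralizer (M : Set G) := by
        rw [Subgroup.mem_centralizer_iff]
        intro m hm
        exact (core_comm le_sup_left (hnM _) hpM hx hm).symm
      exact hcu x (Subgroup.mem_inf.mpr ⟨hxV', hxC'⟩) hxc)
  obtain ⟨hz'V, hz'c⟩ := (hmemZ z').mp hz'Z
  have hm'M : m' ∈ M := by
    apply mem_of_sq_mem_of_odd _ hodd'
    exact sq_mem_of_mem_sup (hnM _) (fun b hb => h.sq b (Subgroup.mem_inf.mp hb).1) hm'H
  have hhm : hh * m' = m' * hh := ((Subgroup.mem_centralizer_iff.mp hhC) m' hm'M).symm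
  have hyodd : Odd (orderOf (hh * m')) := odd_orderOf_mul hhm hodd hodd'
  have hz'hh : z' * hh * z'⁻¹ = hh := by rw [hz'c]; group
  have hum : u * m'⁻¹ * u⁻¹ = m'⁻¹ := by
    have := (Subgroup.mem_centralizer_iff.mp huC) m'⁻¹ (M.inv_mem hm'M)
    rw [← this]; group
  have hyinv : (u * z') * (hh * m') * (u * z')⁻¹ = (hh * m')⁻¹ := by
    calc (u * z') * (hh * m') * (u * z')⁻¹
        = u * ((z' * hh * z'⁻¹) * (z' * m' * z'⁻¹)) * u⁻¹ := by group
      _ = u * (hh * m'⁻¹) * u⁻¹ := by rw [hz'hh, hinv']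
      _ = (u * hh * u⁻¹) * (u * m'⁻¹ * u⁻¹) := by group
      _ = hh⁻¹ * m'⁻¹ := by rw [hinvu, hum]
      _ = (m' * hh)⁻¹ := by group
      _ = (hh * m')⁻¹ := by rw [hhm]
  obtain ⟨w, hwV, hw1, hwc⟩ := h.sid (hh * m') (u * z') (V.mul_mem huV hz'V) hyodd hyinv
  have hCn : (centralizer (M : Set G)).Normal := inferInstance
  have e1 : (w * hh * w⁻¹) * (w * m' * w⁻¹) = hh * m' := by
    calc (w * hh * w⁻¹) * (w * m' * w⁻¹) = w * (hh * m') * w⁻¹ := by group
      _ = hh * m' := by rw [hwc]; group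
  have e2 : hh⁻¹ * (w * hh * w⁻¹) = m' * (w * m' * w⁻¹)⁻¹ := by
    calc hh⁻¹ * (w * hh * w⁻¹)
        = hh⁻¹ * ((w * hh * w⁻¹) * (w * m' * w⁻¹)) * (w * m' * w⁻¹)⁻¹ := by group
      _ = hh⁻¹ * (hh * m') * (w * m' * w⁻¹)⁻¹ := by rw [e1]
      _ = m' * (w * m' * w⁻¹)⁻¹ := by group
  have hmem : hh⁻¹ * (w * hh * w⁻¹) ∈ centralizer (M : Set G) ⊓ M := by
    refine Subgroup.mem_inf.mpr ⟨?_, ?_⟩
    · exact Subgroup.mul_mem _ (Subgroup.inv_mem _ hhC) (hCn.conj_mem hh hhC w)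
    · rw [e2]
      exact M.mul_mem hm'M (M.inv_mem (hMn.conj_mem m' hm'M w))
  rw [hCM, Subgroup.mem_bot] at hmem
  have hwhh : w * hh = hh * w := by
    have : w * hh * w⁻¹ = hh := by
      calc w * hh * w⁻¹ = hh * (hh⁻¹ * (w * hh * w⁻¹)) := by group
        _ = hh := by rw [hmem, mul_one]
    calc w * hh = (w * hh * w⁻¹) * w := by group
      _ = hh * w := by rw [this]
  have hwm : w * m' = m' * w := by
    have h3 : m' * (w * m' * w⁻¹)⁻¹ = 1 := by rw [← e2]; exact hmem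
    have : w * m' * w⁻¹ = m' := by
      have := eq_inv_of_mul_eq_one_left h3
      rw [inv_inv] at this
      exact this.symm
    calc w * m' = (w * m' * w⁻¹) * w := by group
      _ = m' * w := by rw [this]
  exact hw1 (hcz w ((hmemZ w).mpr ⟨hwV, hwhh⟩) hwm)

theorem Hyp.cent_eq_bot (h : Hyp V) (hO : pCore 2 G = ⊥) {M : Subgroup G} (hM : IsMinNormal M) :
    centralizer (M : Set G) = ⊥ := by
  haveI hMn := hM.1
  have hCM := h.cent_inf_eq_bot hO hM
  have htop := h.sup_eq_top hO hM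
  apply eq_bot_of_normal_two hO (inferInstance : (centralizer (M : Set G)).Normal)
  intro c hc
  have hc2 : c * c ∈ M :=
    sq_mem_of_mem_sup (A := M) (B := V) (by rw [Subgroup.normalizer_eq_top]; exact le_top) h.sq
      (by rw [htop]; exact Subgroup.mem_top c)
  have : c * c ∈ centralizer (M : Set G) ⊓ M :=
    Subgroup.mem_inf.mpr ⟨Subgroup.mul_mem _ hc hc, hc2⟩
  rwa [hCM, Subgroup.mem_bot] at this

end

end Cfsg.Agent.Lib.Lead.Sidki
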