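import Mathlib
import Cfsg.Agent.Lib.Lead.Sidki4

set_option autoImplicit false

/-! Sidki pairs: minimal normal subgroups of a minimal normal subgroup, conjugates. -/

namespace Cfsg.Agent.Lib.Lead.Sidki

open Cfsg Subgroup
open Cfsg.Agent.Lib.Helper9.LargeExtra

universe u

section
variable {G : Type u} [Group G] [Finite G] {V : Subgroup G}

/-- `L` is a minimal normal subgroup of `M` (both subgroups of `G`) -/
def IsMinIn (M L : Subgroup G) : Prop :=
  L ≤ M ∧ L ≠ ⊥ ∧ M ≤ normalizer (L : Set G) ∧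
    ∀ K : Subgroup G, K ≤ L → K ≠ ⊥ → M ≤ normalizer (K : Set G) → K = L

theorem exists_isMinIn (M : Subgroup G) (hM : M ≠ ⊥) : ∃ L, IsMinIn M L := by
  have hwf : WellFounded ((· < ·) : Subgroup G → Subgroup G → Prop) := wellFounded_lt
  let S : Set (Subgroup G) := {K | K ≤ M ∧ K ≠ ⊥ ∧ M ≤ normalizer (K : Set G)}
  have hS : S.Nonempty := ⟨M, le_rfl, hM, Subgroup.le_normalizer⟩
  obtain ⟨L, hL, hmin⟩ := hwf.has_min S hS
  refine ⟨L, hL.1, hL.2.1, hL.2.2, ?_⟩
  intro K hKL hK1 hKn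
  by_contra hne'
  exact hmin K ⟨hKL.trans hL.1, hK1, hKn⟩ (lt_of_le_of_ne hKL hne')

theorem isSimpleGroup_of_isMinIn {M : Subgroup G} (h : IsMinIn M M) : IsSimpleGroup ↥M := by
  have hnt : Nontrivial ↥M := (Subgroup.nontrivial_iff_ne_bot M).mpr h.2.1
  refine { toNontrivial := hnt, eq_bot_or_eq_top_of_normal := ?_ }
  intro N hN
  by_cases hN1 : N = ⊥
  · left; exact hN1
  · right
    have hK : N.map M.subtype = M := by
      apply h.2.2.2
      · intro x hx
        obtain ⟨n, _, rfl⟩ := Subgroup.mem_map.mp hx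
        exact n.2
      · intro e
        apply hN1
        exact (Subgroup.map_eq_bot_iff_of_injective N M.subtype_injective).mp e
      · apply le_normalizer_of_conj_mem
        intro m hm k hk
        obtain ⟨n, hn, rfl⟩ := Subgroup.mem_map.mp hk
        exact ⟨⟨m, hm⟩ * n * ⟨m, hm⟩⁻¹, hN.conj_mem n hn ⟨m, hm⟩, rfl⟩
    rw [eq_top_iff]
    intro x _
    have : (x : G) ∈ N.map M.subtype := by rw [hK]; exact x.2
    obtain ⟨n, hn, hnx⟩ := Subgroup.mem_map.mp this
    have : n = x := Subtype.ext hnx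
    rwa [← this]

/-- the conjugate `w⁻¹ L w` -/
def cjs (w : G) (L : Subgroup G) : Subgroup G := L.comap (MulAut.conj w).toMonoidHom

theorem mem_cjs {w : G} {L : Subgroup G} {x : G} : x ∈ cjs w L ↔ w * x * w⁻¹ ∈ L := Iff.rfl

theorem cjs_le {M L : Subgroup G} (hMn : M.Normal) (hLM : L ≤ M) (w : G) : cjs w L ≤ M := by
  intro x hx
  have h1 : w * x * w⁻¹ ∈ M := hLM (mem_cjs.mp hx)
  have h2 := hMn.conj_mem _ h1 w⁻¹
  have e : w⁻¹ * (w * x * w⁻¹) * w⁻¹⁻¹ = x := by group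
  rwa [e] at h2

theorem cjs_normalized {M L : Subgroup G} (hMn : M.Normal) (hn : M ≤ normalizer (L : Set G))
    (w : G) : M ≤ normalizer (cjs w L : Set G) := by
  apply le_normalizer_of_conj_mem
  intro m hm x hx
  rw [mem_cjs] at hx ⊢
  have hm' : w * m * w⁻¹ ∈ M := hMn.conj_mem m hm w
  have := (Subgroup.mem_normalizer_iff.mp (hn hm') (w * x * w⁻¹)).mp hx
  have e : w * (m * x * m⁻¹) * w⁻¹ = (w * m * w⁻¹) * (w * x * w⁻¹) * (w * m * w⁻¹)⁻¹ := by group
  rw [e]; exact this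

theorem mem_normalizer_of_meet {M L : Subgroup G} (hMn : M.Normal) (hL : IsMinIn M L) {w : G}
    (hw : w * w = 1) {a : G} (ha : a ∈ L) (ha' : a ∈ cjs w L) (ha1 : a ≠ 1) :
    w ∈ normalizer (L : Set G) := by
  have hwi : w⁻¹ = w := inv_eq_of_mul_eq_one_right hw
  have hKn : M ≤ normalizer ((L ⊓ cjs w L : Subgroup G) : Set G) := by
    apply le_normalizer_of_conj_mem
    intro m hm k hk
    obtain ⟨hk1, hk2⟩ := Subgroup.mem_inf.mp hk
    refine Subgroup.mem_inf.mpr ⟨?_, ?_⟩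
    · exact (Subgroup.mem_normalizer_iff.mp (hL.2.2.1 hm) k).mp hk1
    · exact (Subgroup.mem_normalizer_iff.mp (cjs_normalized hMn hL.2.2.1 w hm) k).mp hk2
  have hKne : L ⊓ cjs w L ≠ ⊥ := by
    intro e
    have : a ∈ L ⊓ cjs w L := Subgroup.mem_inf.mpr ⟨ha, ha'⟩
    rw [e, Subgroup.mem_bot] at this
    exact ha1 this
  have hKL := hL.2.2.2 _ inf_le_left hKne hKn
  have hsub : ∀ l ∈ L, w * l * w⁻¹ ∈ L := by
    intro l hl
    have : l ∈ L ⊓ cjs w L := by rw [hKL]; exact hl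
    exact mem_cjs.mp (Subgroup.mem_inf.mp this).2
  rw [Subgroup.mem_normalizer_iff]
  intro k
  constructor
  · exact hsub k
  · intro hk
    have := hsub _ hk
    have e : w * (w * k * w⁻¹) * w⁻¹ = k := by
      rw [hwi]
      calc w * (w * k * w) * w = (w * w) * k * (w * w) := by group
        _ = k := by rw [hw, one_mul, mul_one]
    rwa [e] at this

theorem comm_of_not_mem_normalizer {M L : Subgroup G} (hMn : M.Normal) (hL : IsMinIn M L) {w : G}
    (hw : w * w = 1) (hwn : w ∉ normalizer (L : Set G)) {a b : G} (ha : a ∈ L)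
    (hb : b ∈ cjs w L) : a * b = b * a := by
  have hbM : b ∈ M := cjs_le hMn hL.1 w hb
  have haM : a ∈ M := hL.1 ha
  have h1 : a * b * a⁻¹ * b⁻¹ ∈ L := by
    have := (Subgroup.mem_normalizer_iff.mp (hL.2.2.1 hbM) a⁻¹).mp (L.inv_mem ha)
    have e : a * b * a⁻¹ * b⁻¹ = a * (b * a⁻¹ * b⁻¹) := by group
    rw [e]; exact L.mul_mem ha this
  have h2 : a * b * a⁻¹ * b⁻¹ ∈ cjs w L := by
    have := (Subgroup.mem_normalizer_iff.mp (cjs_normalized hMn hL.2.2.1 w haM) b).mp hb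
    exact Subgroup.mul_mem _ this (Subgroup.inv_mem _ hb)
  by_contra hne
  apply hwn
  apply mem_normalizer_of_meet hMn hL hw h1 h2
  intro e
  apply hne
  calc a * b = (a * b * a⁻¹ * b⁻¹) * (b * a) := by group
    _ = b * a := by rw [e, one_mul]

theorem exists_cjs_of_conj {M L : Subgroup G} (hsq : ∀ v ∈ V, v * v = 1) (hMn : M.Normal)
    (htop : M ⊔ V = ⊤) (hn : M ≤ normalizer (L : Set G)) (g : G) {l : G} (hl : l ∈ L) :
    ∃ v ∈ V, g * l * g⁻¹ ∈ cjs v L := by
  have hg : g ∈ M ⊔ V := by rw [htop]; exact Subgroup.mem_top g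
  haveI := hMn
  obtain ⟨m, hm, v, hv, rfl⟩ := exists_mul_of_mem_sup
    (by rw [Subgroup.normalizer_eq_top]; exact le_top) hg
  refine ⟨v, hv, ?_⟩
  have hvi : v⁻¹ = v := inv_eq_of_mul_eq_one_right (hsq v hv)
  have h1 : v * l * v⁻¹ ∈ cjs v L := by
    rw [mem_cjs, hvi]
    have e : v * (v * l * v) * v = (v * v) * l * (v * v) := by group
    rw [e, hsq v hv, one_mul, mul_one]; exact hl
  have := (Subgroup.mem_normalizer_iff.mp (cjs_normalized hMn hn v hm) _).mp h1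
  have e : m * v * l * (m * v)⁻¹ = m * (v * l * v⁻¹) * m⁻¹ := by group
  rw [e]; exact this

theorem comm_of_cjs {v₀ v x : G} (hvv : v₀ * v = v * v₀)
    (hcy : v₀ * (v * x * v⁻¹) = (v * x * v⁻¹) * v₀) : x * v₀ = v₀ * x := by
  have c1 : Commute v₀ v := hvv
  have c2 : Commute v₀ (v * x * v⁻¹) := hcy
  have c3 : Commute v₀ (v⁻¹ * (v * x * v⁻¹) * v) := (c1.inv_right.mul_right c2).mul_right c1
  have e : v⁻¹ * (v * x * v⁻¹) * v = x := by group
  rw [e] at c3
  exact c3.eq.symm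

theorem cent_V_L {M L : Subgroup G} (h : Hyp V) (hM : IsMinNormal M) (htop : M ⊔ V = ⊤)
    (hC : centralizer (M : Set G) = ⊥) (hL : IsMinIn M L) {v₀ : G} (hv₀ : v₀ ∈ V)
    (hc : ∀ l ∈ L, v₀ * l = l * v₀) : v₀ = 1 := by
  haveI hMn := hM.1
  have h1 : ∀ g : G, ∀ l ∈ L, (g * l * g⁻¹) * v₀ = v₀ * (g * l * g⁻¹) := by
    intro g l hl
    obtain ⟨v, hv, hx⟩ := exists_cjs_of_conj h.sq hMn htop hL.2.2.1 g hl
    exact comm_of_cjs (h.comm v₀ hv₀ v hv) (hc _ (mem_cjs.mp hx))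
  have h2 : Subgroup.normalClosure (L : Set G) ≤ centralizer ({v₀} : Set G) := by
    rw [Subgroup.normalClosure, Subgroup.closure_le]
    intro x hx
    obtain ⟨a, ha, hax⟩ := Group.mem_conjugatesOfSet_iff.mp hx
    obtain ⟨c, rfl⟩ := isConj_iff.mp hax
    rw [SetLike.mem_coe, Subgroup.mem_centralizer_iff]
    intro y hy
    rw [Set.mem_singleton_iff] at hy
    rw [hy]
    exact (h1 c a ha).symm
  have h3 : Subgroup.normalClosure (L : Set G) = M := by
    apply hM.2.2 _ Subgroup.normalClosure_normal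
      (Subgroup.normalClosure_le_normal (fun x hx => hL.1 hx))
    intro e
    apply hL.2.1
    rw [eq_bot_iff, ← e]
    exact Subgroup.subset_normalClosure
  have h4 : v₀ ∈ centralizer (M : Set G) := by
    rw [Subgroup.mem_centralizer_iff]
    intro m hm
    have : m ∈ centralizer ({v₀} : Set G) := h2 (by rw [h3]; exact hm)
    exact ((Subgroup.mem_centralizer_iff.mp this) v₀ rfl).symm
  rwa [hC, Subgroup.mem_bot] at h4

theorem not_abelian_of_isMinIn {M L : Subgroup G} (h : Hyp V) (hO : pCore 2 G = ⊥)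
    (hM : IsMinNormal M) (htop : M ⊔ V = ⊤) (hL : IsMinIn M L) :
    ¬ (∀ a ∈ L, ∀ b ∈ L, a * b = b * a) := by
  intro hab
  haveI hMn := hM.1
  have h1 : ∀ k : G, ∀ a ∈ L, ∀ b ∈ L, a * (k * b * k⁻¹) = (k * b * k⁻¹) * a := by
    intro k a ha b hb
    obtain ⟨v, hv, hx⟩ := exists_cjs_of_conj h.sq hMn htop hL.2.2.1 k hb
    by_cases hvn : v ∈ normalizer (L : Set G)
    · have hy : v * (k * b * k⁻¹) * v⁻¹ ∈ L := mem_cjs.mp hx
      have hx' : k * b * k⁻¹ ∈ L := (Subgroup.mem_normalizer_iff.mp hvn _).mpr hy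
      exact hab a ha _ hx'
    · exact comm_of_not_mem_normalizer hMn hL (h.sq v hv) hvn ha hx
  have h2 : ∀ x ∈ Group.conjugatesOfSet (L : Set G), ∀ y ∈ Group.conjugatesOfSet (L : Set G),
      x * y = y * x := by
    intro x hx y hy
    obtain ⟨a, ha, hax⟩ := Group.mem_conjugatesOfSet_iff.mp hx
    obtain ⟨g, rfl⟩ := isConj_iff.mp hax
    obtain ⟨b, hb, hby⟩ := Group.mem_conjugatesOfSet_iff.mp hy
    obtain ⟨g', rfl⟩ := isConj_iff.mp hby
    have := h1 (g⁻¹ * g') a ha b hb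
    calc g * a * g⁻¹ * (g' * b * g'⁻¹)
        = g * (a * ((g⁻¹ * g') * b * (g⁻¹ * g')⁻¹)) * g⁻¹ := by group
      _ = g * (((g⁻¹ * g') * b * (g⁻¹ * g')⁻¹) * a) * g⁻¹ := by rw [this]
      _ = g' * b * g'⁻¹ * (g * a * g⁻¹) := by group
  have hA : Subgroup.closure (Group.conjugatesOfSet (L : Set G)) ≤
      centralizer (Group.conjugatesOfSet (L : Set G)) := by
    rw [Subgroup.closure_le]
    intro x hx
    rw [SetLike.mem_coe, Subgroup.mem_centralizer_iff]
    intro y hy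
    exact h2 y hy x hx
  have hB : Subgroup.closure (Group.conjugatesOfSet (L : Set G)) ≤
      centralizer (Subgroup.closure (Group.conjugatesOfSet (L : Set G)) : Set G) := by
    rw [Subgroup.closure_le]
    intro y hy
    rw [SetLike.mem_coe, Subgroup.mem_centralizer_iff]
    intro x hx
    exact ((Subgroup.mem_centralizer_iff.mp (hA hx)) y hy).symm
  have h3 : ∀ x ∈ Subgroup.normalClosure (L : Set G), ∀ y ∈ Subgroup.normalClosure (L : Set G),
      x * y = y * x := by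
    intro x hx y hy
    rw [Subgroup.normalClosure] at hx hy
    exact (Subgroup.mem_centralizer_iff.mp (hB hy)) x hx
  have h4 := h.no_abelian_normal hO Subgroup.normalClosure_normal h3
  apply hL.2.1
  rw [eq_bot_iff, ← h4]
  exact Subgroup.subset_normalClosure

theorem center_L_eq_bot {M L : Subgroup G} (h : Hyp V) (hO : pCore 2 G = ⊥)
    (hM : IsMinNormal M) (htop : M ⊔ V = ⊤) (hL : IsMinIn M L) :
    ∀ x ∈ L, (∀ l ∈ L, x * l = l * x) → x = 1 := by
  intro x hx hxc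
  by_contra hx1
  have hKn : M ≤ normalizer ((L ⊓ centralizer (L : Set G) : Subgroup G) : Set G) := by
    apply le_normalizer_of_conj_mem
    intro m hm k hk
    obtain ⟨hk1, hk2⟩ := Subgroup.mem_inf.mp hk
    have hmn := Subgroup.mem_normalizer_iff.mp (hL.2.2.1 hm)
    refine Subgroup.mem_inf.mpr ⟨(hmn k).mp hk1, ?_⟩
    rw [Subgroup.mem_centralizer_iff]
    intro l hl
    have hl' : m⁻¹ * l * m⁻¹⁻¹ ∈ L :=
      (Subgroup.mem_normalizer_iff.mp (hL.2.2.1 (M.inv_mem hm)) l).mp hl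
    have := (Subgroup.mem_centralizer_iff.mp hk2) _ hl'
    calc l * (m * k * m⁻¹) = m * ((m⁻¹ * l * m⁻¹⁻¹) * k) * m⁻¹ := by group
      _ = m * (k * (m⁻¹ * l * m⁻¹⁻¹)) * m⁻¹ := by rw [this]
      _ = m * k * m⁻¹ * l := by group
  have hKne : L ⊓ centralizer (L : Set G) ≠ ⊥ := by
    intro e
    have : x ∈ L ⊓ centralizer (L : Set G) := by
      refine Subgroup.mem_inf.mpr ⟨hx, ?_⟩
      rw [Subgroup.mem_centralizer_iff]
      intro l hl
      exact (hxc l hl).symm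
    rw [e, Subgroup.mem_bot] at this
    exact hx1 this
  have hKL := hL.2.2.2 _ inf_le_left hKne hKn
  apply not_abelian_of_isMinIn h hO hM htop hL
  intro a ha b hb
  have : b ∈ L ⊓ centralizer (L : Set G) := by rw [hKL]; exact hb
  exact (Subgroup.mem_centralizer_iff.mp (Subgroup.mem_inf.mp this).2) a ha

theorem exists_odd_of_pcm_eq_bot {L : Subgroup G} (hL1 : L ≠ ⊥)
    (hp : (pCore 2 ↥L).map L.subtype = ⊥) : ∃ x ∈ L, x ≠ 1 ∧ Odd (orderOf x) := by
  haveI : Fact (Nat.Prime 2) := ⟨Nat.prime_two⟩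
  by_contra hcon
  push_neg at hcon
  have hpg : IsPGroup 2 ↥L := by
    intro l
    obtain ⟨a, r, hr, hn⟩ := Nat.exists_eq_two_pow_mul_odd (orderOf_pos (l : G)).ne'
    refine ⟨a, ?_⟩
    have hy : Odd (orderOf ((l : G) ^ (2 ^ a))) := by
      have h1 : ((l : G) ^ (2 ^ a)) ^ r = 1 := by
        rw [← pow_mul, ← hn, pow_orderOf_eq_one]
      exact Odd.of_dvd_nat hr (orderOf_dvd_of_pow_eq_one h1)
    have hyL : (l : G) ^ (2 ^ a) ∈ L := L.pow_mem l.2 _
    have : (l : G) ^ (2 ^ a) = 1 := by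
      by_contra hne
      exact hcon _ hyL hne hy
    apply Subtype.ext
    rw [Subgroup.coe_pow, this, Subgroup.coe_one]
  have hle : L ≤ (pCore 2 ↥L).map L.subtype := by
    apply le_pCoreMap 2 L L le_rfl hpg
    intro k hk q hq
    exact L.mul_mem (L.mul_mem hk hq) (L.inv_mem hk)
  rw [hp, le_bot_iff] at hle
  exact hL1 hle

theorem odd_orderOf_conj_inv {t x : G} (h : Odd (orderOf x)) : Odd (orderOf (t * x⁻¹ * t⁻¹)) := by
  have : orderOf (t * x⁻¹ * t⁻¹) = orderOf x := by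
    have := (MulAut.conj t).orderOf_eq x⁻¹
    rw [MulAut.conj_apply, orderOf_inv] at this
    exact this
  rwa [this]

end

end Cfsg.Agent.Lib.Lead.Sidki
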