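import Mathlib
import Cfsg.Agent.Lib.Lead.Sidki5
import Cfsg.Agent.Lib.Lead.IsoRankB
import Cfsg.Agent.Lib.Helper3.AltStd1
import Cfsg.Agent.Lib.Helper3.Components7

set_option autoImplicit false

/-! Sidki pairs: a minimal normal subgroup of a minimal counterexample is simple; conclusion. -/

namespace Cfsg.Agent.Lib.Lead.Sidki

open Cfsg Subgroup
open Cfsg.Agent.Lib.Helper9.LargeExtra

universe u

section
variable {G : Type u} [Group G] [Finite G] {V : Subgroup G}

theorem Hyp.minIn_eq (h : Hyp V) (hO : pCore 2 G = ⊥) {M L : Subgroup G} (hM : IsMinNormal M)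
    (hL : IsMinIn M L) : L = M := by
  by_contra hLM
  haveI hMn := hM.1
  have htop := h.sup_eq_top hO hM
  have hC := h.cent_eq_bot hO hM
  have hpM : (pCore 2 ↥M).map M.subtype = ⊥ := pcm_normal_eq_bot hO M
  have hpL : (pCore 2 ↥L).map L.subtype = ⊥ := pcm_char hL.1 hL.2.2.1 hpM
  have hcVL : ∀ v ∈ V, (∀ l ∈ L, v * l = l * v) → v = 1 :=
    fun v hv hc => cent_V_L h hM htop hC hL hv hc
  have hZL := center_L_eq_bot h hO hM htop hL
  have hLn : ¬ L.Normal := by
    intro hn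
    exact hLM (hM.2.2 L hn hL.1 hL.2.1)
  by_cases hV0 : V ⊓ normalizer (L : Set G) = ⊥
  · -- no nontrivial element of `V` normalizes `L`
    obtain ⟨t, htV, ht1⟩ : ∃ t ∈ V, t ≠ 1 := by
      by_contra hcon
      push_neg at hcon
      apply h.ne
      rw [eq_bot_iff]
      intro x hx
      rw [Subgroup.mem_bot]
      exact hcon x hx
    have hnotn : ∀ w ∈ V, w ≠ 1 → w ∉ normalizer (L : Set G) := by
      intro w hw hw1 hwn
      have : w ∈ V ⊓ normalizer (L : Set G) := Subgroup.mem_inf.mpr ⟨hw, hwn⟩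
      rw [hV0, Subgroup.mem_bot] at this
      exact hw1 this
    obtain ⟨x, hxL, hx1, hxodd⟩ := exists_odd_of_pcm_eq_bot hL.2.1 hpL
    have hti : t⁻¹ = t := h.inv_eq htV
    have ht2 : t * t = 1 := h.sq t htV
    have hx' : t * x⁻¹ * t⁻¹ ∈ cjs t L := by
      rw [mem_cjs, hti]
      have e : t * (t * x⁻¹ * t) * t = (t * t) * x⁻¹ * (t * t) := by group
      rw [e, ht2, one_mul, mul_one]; exact L.inv_mem hxL
    have hcomm : x * (t * x⁻¹ * t⁻¹) = (t * x⁻¹ * t⁻¹) * x :=
      comm_of_not_mem_normalizer hMn hL ht2 (hnotn t htV ht1) hxL hx'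
    have hx'odd : Odd (orderOf (t * x⁻¹ * t⁻¹)) := odd_orderOf_conj_inv hxodd
    have hhodd : Odd (orderOf (x * (t * x⁻¹ * t⁻¹))) := odd_orderOf_mul hcomm hxodd hx'odd
    have hinv : t * (x * (t * x⁻¹ * t⁻¹)) * t⁻¹ = (x * (t * x⁻¹ * t⁻¹))⁻¹ := by
      calc t * (x * (t * x⁻¹ * t⁻¹)) * t⁻¹ = t * x * t * x⁻¹ * (t * t)⁻¹ := by group
        _ = t * x * t * x⁻¹ := by rw [ht2, inv_one, mul_one]
        _ = t * x * t⁻¹ * x⁻¹ := by rw [hti]
        _ = (x * (t * x⁻¹ * t⁻¹))⁻¹ := by group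
    obtain ⟨w, hwV, hw1, hwc⟩ := h.sid _ t htV hhodd hinv
    by_cases hwt : w = t
    · rw [hwt] at hwc
      have e1 : t * (x * (t * x⁻¹ * t⁻¹)) * t⁻¹ = x * (t * x⁻¹ * t⁻¹) := by rw [hwc]; group
      rw [hinv] at e1
      have e2 : (x * (t * x⁻¹ * t⁻¹)) * (x * (t * x⁻¹ * t⁻¹)) = 1 := by
        nth_rewrite 1 [← e1]
        exact inv_mul_cancel _
      have e3 := eq_one_of_sq_of_odd e2 hhodd
      have hxc : x ∈ cjs t L := by
        have : x = (t * x⁻¹ * t⁻¹)⁻¹ := eq_inv_of_mul_eq_one_left e3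
        rw [this]; exact Subgroup.inv_mem _ hx'
      exact hnotn t htV ht1 (mem_normalizer_of_meet hMn hL ht2 hxL hxc hx1)
    · have hwt' : w * t ≠ 1 := by
        intro e
        apply hwt
        have := eq_inv_of_mul_eq_one_left e
        rw [this, hti]
      have hw2 : w * w = 1 := h.sq w hwV
      have hwt2 : (w * t) * (w * t) = 1 := h.sq _ (V.mul_mem hwV htV)
      have hwi : w⁻¹ = w := h.inv_eq hwV
      have h1 : w * x * w⁻¹ ∈ cjs w L := by
        rw [mem_cjs, hwi]
        have e : w * (w * x * w) * w = (w * w) * x * (w * w) := by group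
        rw [e, hw2, one_mul, mul_one]; exact hxL
      have h2 : w * (t * x⁻¹ * t⁻¹) * w⁻¹ ∈ cjs (w * t) L := by
        rw [mem_cjs]
        have e : w * t * (w * (t * x⁻¹ * t⁻¹) * w⁻¹) * (w * t)⁻¹
            = ((w * t) * (w * t)) * x⁻¹ * ((w * t) * (w * t))⁻¹ := by group
        rw [e, hwt2, one_mul, inv_one, mul_one]; exact L.inv_mem hxL
      have hcl : ∀ l ∈ L, l * (x * (t * x⁻¹ * t⁻¹)) = (x * (t * x⁻¹ * t⁻¹)) * l := by
        intro l hl
        have c1 := comm_of_not_mem_normalizer hMn hL hw2 (hnotn w hwV hw1) hl h1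
        have c2 := comm_of_not_mem_normalizer hMn hL hwt2
          (hnotn _ (V.mul_mem hwV htV) hwt') hl h2
        have e0 : x * (t * x⁻¹ * t⁻¹) = (w * x * w⁻¹) * (w * (t * x⁻¹ * t⁻¹) * w⁻¹) := by
          calc x * (t * x⁻¹ * t⁻¹) = w * (x * (t * x⁻¹ * t⁻¹)) * w⁻¹ := by rw [hwc]; group
            _ = _ := by group
        have key : ∀ A B : G, l * A = A * l → l * B = B * l → l * (A * B) = (A * B) * l := by
          intro A B hA hB
          calc l * (A * B) = (l * A) * B := by group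
            _ = (A * l) * B := by rw [hA]
            _ = A * (l * B) := by group
            _ = A * (B * l) := by rw [hB]
            _ = (A * B) * l := by group
        rw [e0]; exact key _ _ c1 c2
      have hx'c : ∀ l ∈ L, l * (t * x⁻¹ * t⁻¹) = (t * x⁻¹ * t⁻¹) * l := fun l hl =>
        comm_of_not_mem_normalizer hMn hL ht2 (hnotn t htV ht1) hl hx'
      apply hx1
      apply hZL x hxL
      intro l hl
      have c1 : Commute l (x * (t * x⁻¹ * t⁻¹)) := hcl l hl
      have c2 : Commute l (t * x⁻¹ * t⁻¹) := hx'c l hl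
      have c3 : Commute l ((x * (t * x⁻¹ * t⁻¹)) * (t * x⁻¹ * t⁻¹)⁻¹) := c1.mul_right c2.inv_right
      have e : (x * (t * x⁻¹ * t⁻¹)) * (t * x⁻¹ * t⁻¹)⁻¹ = x := by group
      rw [e] at c3
      exact c3.eq.symm
  · -- some nontrivial element of `V` normalizes `L`
    have hsupn : L ⊔ (V ⊓ normalizer (L : Set G)) ≤ normalizer (L : Set G) :=
      sup_le Subgroup.le_normalizer inf_le_right
    have hne : L ⊔ (V ⊓ normalizer (L : Set G)) ≠ ⊤ := by
      intro e
      apply hLn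
      rw [← Subgroup.normalizer_eq_top_iff, eq_top_iff, ← e]
      exact hsupn
    obtain ⟨a, haH, v₀, hv₀, hodd, hinv, hca⟩ := h.nsid hne le_sup_right inf_le_left hV0
      (fun x hx hxR => by
        apply hcVL x (Subgroup.mem_inf.mp hx).1
        intro l hl
        exact core_comm le_sup_left hsupn hpL hxR hl)
    have haL : a ∈ L := by
      apply mem_of_sq_mem_of_odd _ hodd
      exact sq_mem_of_mem_sup inf_le_right (fun b hb => h.sq b (Subgroup.mem_inf.mp hb).1) haH
    have ha1 : a ≠ 1 := by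
      intro e
      obtain ⟨y, hy⟩ := (Subgroup.ne_bot_iff_exists_ne_one).mp hV0
      apply hy
      apply Subtype.ext
      exact hca y y.2 (by rw [e, mul_one, one_mul])
    obtain ⟨w, hwV, hw1, hwc⟩ := h.sid a v₀ (Subgroup.mem_inf.mp hv₀).1 hodd hinv
    have hwn : w ∈ normalizer (L : Set G) := by
      apply mem_normalizer_of_meet hMn hL (h.sq w hwV) haL _ ha1
      rw [mem_cjs, hwc]
      have e : a * w * w⁻¹ = a := by group
      rw [e]; exact haL
    exact hw1 (hca w (Subgroup.mem_inf.mpr ⟨hwV, hwn⟩) hwc)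

/-- the conclusion of the minimal counterexample reduction -/
theorem Hyp.main (h : Hyp V) (hVO : V ⊓ pCore 2 G = ⊥) :
    IsSimpleGroup ↥(generalizedFittingSubgroup G) ∧
      ¬ IsMulCommutative ↥(generalizedFittingSubgroup G) ∧
      V ⊔ generalizedFittingSubgroup G = ⊤ := by
  have hO := h.core_eq_bot hVO
  have hTop : (⊤ : Subgroup G) ≠ ⊥ := by
    intro e
    apply h.ne
    rw [eq_bot_iff, ← e]
    exact le_top
  obtain ⟨M, hM, -⟩ := exists_minNormal_le (A := (⊤ : Subgroup G)) inferInstance hTop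
  haveI hMn := hM.1
  obtain ⟨L, hL⟩ := exists_isMinIn M hM.2.1
  have hLM := h.minIn_eq hO hM hL
  rw [hLM] at hL
  haveI hsimp : IsSimpleGroup ↥M := isSimpleGroup_of_isMinIn hL
  have hnab : ∃ a b : ↥M, a * b ≠ b * a := by
    by_contra hcon
    push_neg at hcon
    apply hM.2.1
    apply h.no_abelian_normal hO hMn
    intro a ha b hb
    exact congrArg Subtype.val (hcon ⟨a, ha⟩ ⟨b, hb⟩)
  have hq : IsQuasisimple ↥M :=
    Cfsg.Agent.Lib.Helper3.AltStd.isQuasisimple_of_isSimpleGroup hnab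
  have hcomp : IsComponent M := ⟨hMn.isSubnormal, hq⟩
  have hC := h.cent_eq_bot hO hM
  have hres := Cfsg.Agent.Lib.Lead.IsoRank.simple_of_inf_centralizer_eq_bot hcomp
    (by rw [hC, inf_bot_eq])
  refine ⟨hres.1, hres.2, ?_⟩
  have hMF : M ≤ generalizedFittingSubgroup G :=
    (Cfsg.Agent.Lib.Helper3.IsComponent.le_layer hcomp).trans
      Cfsg.Agent.Lib.Helper3.layer_le_generalizedFittingSubgroup
  have htop := h.sup_eq_top hO hM
  rw [eq_top_iff, ← htop, sup_comm]
  exact sup_le_sup_left hMF V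

end

end Cfsg.Agent.Lib.Lead.Sidki
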