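import Mathlib
import Cfsg.Prelude.Def_Transfer

set_option autoImplicit false

namespace Cfsg.Agent.Lib.Lead.SigCrit

universe u

/-- elements of a subgroup generated by commuting elements of order dividing `p` have order dividing
`p` -/
theorem pow_eq_one_of_mem_closure_comm {G : Type u} [Group G] {p : ℕ} (T : Set G)
    (hT : ∀ s ∈ T, ∀ t ∈ T, s * t = t * s) (hTp : ∀ s ∈ T, s ^ p = 1) :
    ∀ w ∈ Subgroup.closure T, w ^ p = 1 := by
  have hc := Subgroup.isMulCommutative_closure hT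
  intro w hw
  induction hw using Subgroup.closure_induction with
  | mem x hx => exact hTp x hx
  | one => exact one_pow p
  | mul x y hx hy ihx ihy =>
    have hcomm : Commute x y := congrArg Subtype.val (hc.is_comm.comm ⟨x, hx⟩ ⟨y, hy⟩)
    rw [hcomm.mul_pow, ihx, ihy, one_mul]
  | inv x hx ihx => rw [inv_pow, ihx, inv_one]

/-- a subgroup of exponent `p` of `C` containing `Ω₁(P)`, `P` a Sylow subgroup of `C`, equals `Ω₁(P)` -/
theorem eq_omega_of_le {G : Type u} [Group G] [Finite G] {p : ℕ} [hpp : Fact p.Prime]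
    (C : Subgroup G) (P : Sylow p ↥C) (B : Subgroup G)
    (hBP : B = Subgroup.closure {x : G | x ∈ ((P : Subgroup ↥C).map C.subtype : Subgroup G) ∧
      orderOf x = p})
    (S : Subgroup G) (hSC : S ≤ C) (hSexp : ∀ w ∈ S, w ^ p = 1) (hBS : B ≤ S) : S = B := by
  classical
  have hSp : IsPGroup p (S.subgroupOf C) := by
    intro s
    refine ⟨1, ?_⟩
    apply Subtype.ext
    apply Subtype.ext
    have := hSexp s.1.1 s.2
    simpa using this
  obtain ⟨P₁, hP₁⟩ := hSp.exists_le_sylow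
  obtain ⟨c, hc⟩ := MulAction.exists_smul_eq ↥C P₁ P
  have hconj : ∀ s ∈ S, (c : G) * s * (c : G)⁻¹ ∈ B := by
    intro s hs
    have h1 : (⟨s, hSC hs⟩ : ↥C) ∈ S.subgroupOf C := by
      rw [Subgroup.mem_subgroupOf]; exact hs
    have h2 : (⟨s, hSC hs⟩ : ↥C) ∈ (P₁ : Subgroup ↥C) := hP₁ h1
    have h3 : c * (⟨s, hSC hs⟩ : ↥C) * c⁻¹ ∈ ((c • P₁ : Sylow p ↥C) : Subgroup ↥C) := by
      rw [Sylow.coe_subgroup_smul]
      exact ⟨_, h2, rfl⟩
    rw [hc] at h3
    have h4 : (c : G) * s * (c : G)⁻¹ ∈ ((P : Subgroup ↥C).map C.subtype : Subgroup G) :=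
      ⟨_, h3, rfl⟩
    have h5 : ((c : G) * s * (c : G)⁻¹) ^ p = 1 := by
      rw [conj_pow, hSexp s hs, mul_one, mul_inv_cancel]
    have h6 : orderOf ((c : G) * s * (c : G)⁻¹) ∣ p := orderOf_dvd_of_pow_eq_one h5
    rcases (Nat.dvd_prime hpp.out).mp h6 with h7 | h7
    · rw [orderOf_eq_one_iff.mp h7]; exact B.one_mem
    · rw [hBP]
      exact Subgroup.subset_closure ⟨h4, h7⟩
  have hmap : S.map (MulAut.conj (c : G)).toMonoidHom ≤ B := by
    rintro _ ⟨s, hs, rfl⟩
    exact hconj s hs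
  have hcard : Nat.card S ≤ Nat.card B := by
    have h1 : Nat.card (S.map (MulAut.conj (c : G)).toMonoidHom) = Nat.card S :=
      Subgroup.card_map_of_injective (MulAut.conj (c : G)).injective
    rw [← h1]
    exact Subgroup.card_le_of_le hmap
  exact (Subgroup.eq_of_le_of_card_ge hBS hcard).symm

/-- If `B = Ω₁(P)` for a Sylow `p`-subgroup `P` of `C_G(b₀)`, `b₀ ∈ B`, and `B` is elementary abelian, then
`B` contains every element of order `p` of `C_G(B)`. -/
theorem omega_sylow_centralizer {G : Type u} [Group G] [Finite G] {p : ℕ} [hpp : Fact p.Prime]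
    (B : Subgroup G) (hB : Cfsg.IsElementaryAbelian p B) (b₀ : G) (hb₀ : b₀ ∈ B)
    (P : Sylow p ↥(Subgroup.centralizer ({b₀} : Set G)))
    (hBP : B = Subgroup.closure {x : G | x ∈ ((P : Subgroup ↥(Subgroup.centralizer ({b₀} : Set G))).map
      (Subgroup.centralizer ({b₀} : Set G)).subtype : Subgroup G) ∧ orderOf x = p}) :
    ∀ x ∈ Subgroup.centralizer (B : Set G), orderOf x = p → x ∈ B := by
  classical
  intro x hxC hxo
  have hBcomm : ∀ a ∈ B, ∀ b ∈ B, a * b = b * a := by
    intro a ha b hb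
    exact congrArg Subtype.val (hB.1.is_comm.comm ⟨a, ha⟩ ⟨b, hb⟩)
  have hxB : ∀ b ∈ B, b * x = x * b := fun b hb => Subgroup.mem_centralizer_iff.mp hxC b hb
  set T : Set G := insert x (B : Set G) with hTdef
  have hT : ∀ s ∈ T, ∀ t ∈ T, s * t = t * s := by
    intro s hs t ht
    rcases hs with rfl | hs <;> rcases ht with rfl | ht
    · rfl
    · exact (hxB t ht).symm
    · exact hxB s hs
    · exact hBcomm s hs t ht
  have hTp : ∀ s ∈ T, s ^ p = 1 := by
    intro s hs
    rcases hs with rfl | hs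
    · rw [← hxo]; exact pow_orderOf_eq_one s
    · exact hB.2 s hs
  set S := Subgroup.closure T with hS
  have hSexp : ∀ w ∈ S, w ^ p = 1 := pow_eq_one_of_mem_closure_comm T hT hTp
  have hBS : B ≤ S := fun b hb => Subgroup.subset_closure (Set.mem_insert_of_mem _ hb)
  have hxS : x ∈ S := Subgroup.subset_closure (Set.mem_insert _ _)
  have hSC : S ≤ Subgroup.centralizer ({b₀} : Set G) := by
    rw [hS, Subgroup.closure_le]
    intro s hs
    rw [SetLike.mem_coe, Subgroup.mem_centralizer_iff]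
    intro b hb
    rw [Set.mem_singleton_iff] at hb
    subst hb
    exact hT b (Set.mem_insert_of_mem _ hb₀) s hs
  have hSB : S = B := eq_omega_of_le _ P B hBP S hSC hSexp hBS
  rw [← hSB]
  exact hxS

end Cfsg.Agent.Lib.Lead.SigCrit
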