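import Mathlib
import Cfsg.Agent.Lib.Lead.CoprimeTools

set_option autoImplicit false

namespace Cfsg.Agent.Lib.Lead.SmallClass

open scoped commutatorElement

/-- a counting lemma: bounded fibres -/
theorem card_le_mul_of_fibers {α β δ : Type*} [Finite α] [Finite β] (f : α → β) (g : α → α → δ)
    (S : Set δ) [Finite S]
    (hS : ∀ a₁ a, f a = f a₁ → g a₁ a ∈ S)
    (hg : ∀ a₁ a a', f a = f a₁ → f a' = f a₁ → g a₁ a = g a₁ a' → a = a') :
    Nat.card α ≤ Nat.card S * Nat.card β := by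
  rcases isEmpty_or_nonempty α with h | h
  · rw [Nat.card_of_isEmpty]; exact Nat.zero_le _
  have hr : ∀ a, f (Function.invFun f (f a)) = f a := fun a => Function.invFun_eq ⟨a, rfl⟩
  let F : α → S × β := fun a => (⟨g (Function.invFun f (f a)) a, hS _ _ (hr a).symm⟩, f a)
  have hF : Function.Injective F := by
    intro a a' h
    have h1 : f a = f a' := congrArg Prod.snd h
    have h2 : g (Function.invFun f (f a)) a = g (Function.invFun f (f a')) a' :=
      congrArg (fun q : S × β => (q.1 : δ)) h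
    rw [← h1] at h2
    exact hg _ a a' (hr a).symm (by rw [← h1]; exact (hr a).symm) h2
  have := Nat.card_le_card_of_injective F hF
  rwa [Nat.card_prod] at this

section

variable {G : Type*} [Group G] [Finite G]

/-- **Key lemma.**  If `x` has a centralizer of largest order among the noncentral elements, then
`[A, x]` is central for every normal abelian subgroup `A`. -/
theorem comm_mem_center_of_min (A : Subgroup G) [hAn : A.Normal] (hA : IsMulCommutative A) (x : G)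
    (hmin : ∀ y : G, y ∉ Subgroup.center G →
      Nat.card (Subgroup.centralizer ({y} : Set G)) ≤ Nat.card (Subgroup.centralizer ({x} : Set G)))
    (a : G) (ha : a ∈ A) : ⁅a, x⁆ ∈ Subgroup.center G := by
  by_contra hb
  have hAcomm : ∀ u ∈ A, ∀ v ∈ A, u * v = v * u := by
    intro u hu v hv
    have := hA.is_comm.comm (⟨u, hu⟩ : A) ⟨v, hv⟩
    exact congrArg Subtype.val this
  have hmemC : ∀ {y g : G}, g ∈ Subgroup.centralizer ({y} : Set G) ↔ g * y = y * g := by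
    intro y g
    rw [Subgroup.mem_centralizer_iff]
    constructor
    · intro h; exact (h y rfl).symm
    · intro h z hz; rw [Set.mem_singleton_iff] at hz; rw [hz]; exact h.symm
  have hbA : ⁅a, x⁆ ∈ A := by
    rw [commutatorElement_def, mul_assoc, mul_assoc, ← mul_assoc x]
    exact A.mul_mem ha (hAn.conj_mem _ (A.inv_mem ha) x)
  have hAK : A ≤ Subgroup.centralizer ({⁅a, x⁆} : Set G) := by
    intro u hu
    rw [hmemC]
    exact hAcomm u hu _ hbA
  have haC : a ∉ Subgroup.centralizer ({x} : Set G) := by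
    intro h
    apply hb
    rw [hmemC] at h
    have : ⁅a, x⁆ = 1 := by
      rw [commutatorElement_def, h]; group
    rw [this]; exact Subgroup.one_mem _
  -- equality of commutators
  have hceq : ∀ a₁ a₂ : G, a₂⁻¹ * a₁ ∈ Subgroup.centralizer ({x} : Set G) → ⁅a₁, x⁆ = ⁅a₂, x⁆ := by
    intro a₁ a₂ h
    rw [hmemC] at h
    rw [commutatorElement_def, commutatorElement_def]
    have h1 : a₁ * x * a₁⁻¹ = a₂ * x * a₂⁻¹ := by
      calc a₁ * x * a₁⁻¹ = a₂ * ((a₂⁻¹ * a₁) * x) * a₁⁻¹ := by group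
        _ = a₂ * (x * (a₂⁻¹ * a₁)) * a₁⁻¹ := by rw [h]
        _ = a₂ * x * a₂⁻¹ := by group
    rw [h1]
  have hconj : ∀ c ∈ Subgroup.centralizer ({x} : Set G), c * ⁅a, x⁆ * c⁻¹ = ⁅c * a * c⁻¹, x⁆ := by
    intro c hc
    rw [hmemC] at hc
    have hc' : c⁻¹ * x = x * c⁻¹ := by
      calc c⁻¹ * x = c⁻¹ * (x * c) * c⁻¹ := by group
        _ = c⁻¹ * (c * x) * c⁻¹ := by rw [hc]
        _ = x * c⁻¹ := by group
    rw [commutatorElement_def, commutatorElement_def]
    calc c * (a * x * a⁻¹ * x⁻¹) * c⁻¹ = c * a * (x * (a⁻¹ * (x⁻¹ * c⁻¹))) := by group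
      _ = c * a * (x * (a⁻¹ * (c⁻¹ * x⁻¹))) := by
          have : x⁻¹ * c⁻¹ = c⁻¹ * x⁻¹ := by
            rw [← mul_inv_rev, ← mul_inv_rev, hc]
          rw [this]
      _ = c * a * ((x * c⁻¹) * (c * a⁻¹ * c⁻¹) * x⁻¹) := by group
      _ = c * a * ((c⁻¹ * x) * (c * a⁻¹ * c⁻¹) * x⁻¹) := by rw [hc']
      _ = c * a * c⁻¹ * x * (c * a * c⁻¹)⁻¹ * x⁻¹ := by group
  set C : Subgroup G := Subgroup.centralizer ({x} : Set G) with hC
  set K : Subgroup G := Subgroup.centralizer ({⁅a, x⁆} : Set G) with hK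
  -- the counting map
  let β := {y : G // y ∈ A ∧ y ∉ C}
  have hfin : Finite β := Subtype.finite
  let f : (↥C × ↥(C ⊓ A : Subgroup G)) → β := fun q =>
    ⟨(q.1 : G) * a * (q.1 : G)⁻¹ * (q.2 : G),
      A.mul_mem (hAn.conj_mem a ha _) (Subgroup.mem_inf.mp q.2.2).2, by
        intro h
        have h1 : (q.1 : G) * a * (q.1 : G)⁻¹ ∈ C := by
          have := C.mul_mem h (C.inv_mem (Subgroup.mem_inf.mp q.2.2).1)
          rwa [mul_inv_cancel_right] at this
        have h2 : a ∈ C := by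
          have := C.mul_mem (C.mul_mem (C.inv_mem q.1.2) h1) q.1.2
          have e : (q.1 : G)⁻¹ * ((q.1 : G) * a * (q.1 : G)⁻¹) * (q.1 : G) = a := by group
          rwa [e] at this
        exact haC h2⟩
  let g : (↥C × ↥(C ⊓ A : Subgroup G)) → (↥C × ↥(C ⊓ A : Subgroup G)) → G :=
    fun q₁ q => (q₁.1 : G)⁻¹ * (q.1 : G)
  have hcount := card_le_mul_of_fibers f g ((C ⊓ K : Subgroup G) : Set G)
    (by
      intro q₁ q hfq
      have hfq' : (q.1 : G) * a * (q.1 : G)⁻¹ * (q.2 : G)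
          = (q₁.1 : G) * a * (q₁.1 : G)⁻¹ * (q₁.2 : G) := congrArg Subtype.val hfq
      show (q₁.1 : G)⁻¹ * (q.1 : G) ∈ C ⊓ K
      refine Subgroup.mem_inf.mpr ⟨C.mul_mem (C.inv_mem q₁.1.2) q.1.2, ?_⟩
      rw [hK, hmemC]
      have h1 : ((q₁.1 : G) * a * (q₁.1 : G)⁻¹)⁻¹ * ((q.1 : G) * a * (q.1 : G)⁻¹) ∈ C := by
        have h2 : ((q₁.1 : G) * a * (q₁.1 : G)⁻¹)⁻¹ * ((q.1 : G) * a * (q.1 : G)⁻¹)
            = (q₁.2 : G) * (q.2 : G)⁻¹ := by
          have e1 : (q.1 : G) * a * (q.1 : G)⁻¹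
              = (q₁.1 : G) * a * (q₁.1 : G)⁻¹ * (q₁.2 : G) * (q.2 : G)⁻¹ := by
            rw [← hfq']; group
          rw [e1]; group
        rw [h2]
        exact C.mul_mem (Subgroup.mem_inf.mp q₁.2.2).1 (C.inv_mem (Subgroup.mem_inf.mp q.2.2).1)
      have h3 := hceq _ _ h1
      rw [← hconj _ q.1.2, ← hconj _ q₁.1.2] at h3
      calc (q₁.1 : G)⁻¹ * (q.1 : G) * ⁅a, x⁆
          = (q₁.1 : G)⁻¹ * ((q.1 : G) * ⁅a, x⁆ * (q.1 : G)⁻¹) * (q.1 : G) := by group
        _ = (q₁.1 : G)⁻¹ * ((q₁.1 : G) * ⁅a, x⁆ * (q₁.1 : G)⁻¹) * (q.1 : G) := by rw [h3]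
        _ = ⁅a, x⁆ * ((q₁.1 : G)⁻¹ * (q.1 : G)) := by group)
    (by
      intro q₁ q q' hfq hfq' hgq
      have e1 : (q.1 : G) = (q'.1 : G) := by
        have : (q₁.1 : G)⁻¹ * (q.1 : G) = (q₁.1 : G)⁻¹ * (q'.1 : G) := hgq
        exact mul_left_cancel this
      have hf1 : (q.1 : G) * a * (q.1 : G)⁻¹ * (q.2 : G)
          = (q₁.1 : G) * a * (q₁.1 : G)⁻¹ * (q₁.2 : G) := congrArg Subtype.val hfq
      have hf2 : (q'.1 : G) * a * (q'.1 : G)⁻¹ * (q'.2 : G)
          = (q₁.1 : G) * a * (q₁.1 : G)⁻¹ * (q₁.2 : G) := congrArg Subtype.val hfq'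
      rw [← hf2, e1] at hf1
      have e2 : (q.2 : G) = (q'.2 : G) := mul_left_cancel hf1
      exact Prod.ext (Subtype.ext e1) (Subtype.ext e2))
  rw [Nat.card_prod] at hcount
  -- the complement
  have hβ : Nat.card β + Nat.card (C ⊓ A : Subgroup G) ≤ Nat.card A := by
    have h1 := Set.ncard_inter_add_ncard_diff_eq_ncard (A : Set G) (C : Set G) (Set.toFinite _)
    have h2 : Nat.card β = ((A : Set G) \ (C : Set G)).ncard := by
      rw [← Nat.card_coe_set_eq]
      rfl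
    have h3 : Nat.card (C ⊓ A : Subgroup G) = ((A : Set G) ∩ (C : Set G)).ncard := by
      rw [← Nat.card_coe_set_eq, Set.inter_comm]
      rfl
    have h4 : Nat.card A = (A : Set G).ncard := by
      rw [← Nat.card_coe_set_eq]
      rfl
    rw [h2, h3, h4]
    omega
  -- the product formula
  have hprod := card_sup_mul_card_inf (C ⊓ K) A (by
    rw [Subgroup.normalizer_eq_top]; exact le_top)
  have hinf : (C ⊓ K) ⊓ A = C ⊓ A := by
    rw [inf_assoc, inf_eq_right.mpr hAK]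
  rw [hinf] at hprod
  have hsupK : Nat.card ((C ⊓ K) ⊔ A : Subgroup G) ≤ Nat.card K :=
    Subgroup.card_le_of_le (sup_le inf_le_right hAK)
  have hKC : Nat.card K ≤ Nat.card C := hmin _ hb
  have hpos1 : 0 < Nat.card (C ⊓ K : Subgroup G) := Nat.card_pos
  have hpos2 : 0 < Nat.card (C ⊓ A : Subgroup G) := Nat.card_pos
  have hcount' : Nat.card C * Nat.card (C ⊓ A : Subgroup G)
      ≤ Nat.card (C ⊓ K : Subgroup G) * Nat.card β := hcount
  -- |K| |A₀| ≥ |C'| |A| ≥ |C'| |β| + |C'| |A₀| > |C| |A₀|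
  have h5 : Nat.card (C ⊓ K : Subgroup G) * Nat.card A
      ≤ Nat.card K * Nat.card (C ⊓ A : Subgroup G) := by
    rw [← hprod]
    exact Nat.mul_le_mul_right _ hsupK
  have h6 : Nat.card (C ⊓ K : Subgroup G) * (Nat.card β + Nat.card (C ⊓ A : Subgroup G))
      ≤ Nat.card (C ⊓ K : Subgroup G) * Nat.card A := Nat.mul_le_mul_left _ hβ
  have h7 : Nat.card K * Nat.card (C ⊓ A : Subgroup G)
      ≤ Nat.card C * Nat.card (C ⊓ A : Subgroup G) := Nat.mul_le_mul_right _ hKC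
  nlinarith [Nat.mul_pos hpos1 hpos2]

end

end Cfsg.Agent.Lib.Lead.SmallClass
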