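import Mathlib
import Cfsg.Agent.Lib.Lead.SmallClass1
import Cfsg.Agent.Lib.Lead.Nilpotent
import Cfsg.Agent.Lib.Lead.UniqueOrderP1

set_option autoImplicit false

namespace Cfsg.Agent.Lib.Lead.SmallClass

open scoped commutatorElement

section

variable {G : Type*} [Group G]

/-- the elements whose commutators with `A` are central -/
def cenComm (A : Subgroup G) : Subgroup G where
  carrier := {g | ∀ a ∈ A, ⁅a, g⁆ ∈ Subgroup.center G}
  one_mem' := by
    intro a _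
    rw [commutatorElement_one_right]
    exact Subgroup.one_mem _
  mul_mem' := by
    intro g h hg hh a ha
    have h1 : ⁅a, g * h⁆ = ⁅a, g⁆ * (g * ⁅a, h⁆ * g⁻¹) := by
      simp only [commutatorElement_def]; group
    rw [h1]
    have h2 : g * ⁅a, h⁆ * g⁻¹ = ⁅a, h⁆ := by
      have := Subgroup.mem_center_iff.mp (hh a ha) g
      rw [this, mul_inv_cancel_right]
    rw [h2]
    exact Subgroup.mul_mem _ (hg a ha) (hh a ha)
  inv_mem' := by
    intro g hg a ha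
    have h1 : ⁅a, g⁻¹⁆ = g⁻¹ * ⁅a, g⁆⁻¹ * g := by
      simp only [commutatorElement_def]; group
    rw [h1]
    have hc := Subgroup.inv_mem _ (hg a ha)
    have h2 : g⁻¹ * ⁅a, g⁆⁻¹ * g = ⁅a, g⁆⁻¹ := by
      have := Subgroup.mem_center_iff.mp hc g⁻¹
      rw [this, inv_mul_cancel_right]
    rw [h2]
    exact hc

theorem mem_cenComm {A : Subgroup G} {g : G} :
    g ∈ cenComm A ↔ ∀ a ∈ A, ⁅a, g⁆ ∈ Subgroup.center G := Iff.rfl

/-- commutators of elements of `cenComm A` centralize `A` -/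
theorem comm_mem_centralizer {A : Subgroup G} {g h : G} (hg : g ∈ cenComm A) (hh : h ∈ cenComm A) :
    ⁅g, h⁆ ∈ Subgroup.centralizer (A : Set G) := by
  rw [Subgroup.mem_centralizer_iff]
  intro a ha
  -- a g a⁻¹ = z₁ g, a h a⁻¹ = z₂ h with central z's
  have h1 : a * g * a⁻¹ = ⁅a, g⁆ * g := by
    rw [commutatorElement_def]; group
  have h2 : a * h * a⁻¹ = ⁅a, h⁆ * h := by
    rw [commutatorElement_def]; group
  have hz1 := Subgroup.mem_center_iff.mp (hg a ha)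
  have hz2 := Subgroup.mem_center_iff.mp (hh a ha)
  have h3 : a * ⁅g, h⁆ * a⁻¹ = ⁅a * g * a⁻¹, a * h * a⁻¹⁆ := by
    simp only [commutatorElement_def]; group
  have h4 : ⁅⁅a, g⁆ * g, ⁅a, h⁆ * h⁆ = ⁅g, h⁆ := by
    rw [commutatorElement_def, commutatorElement_def g h]
    have e1 : (⁅a, g⁆ * g)⁻¹ = g⁻¹ * ⁅a, g⁆⁻¹ := mul_inv_rev _ _
    have e2 : (⁅a, h⁆ * h)⁻¹ = h⁻¹ * ⁅a, h⁆⁻¹ := mul_inv_rev _ _
    rw [e1, e2]
    -- move the central elements
    have c1 : ∀ y : G, y * ⁅a, g⁆ = ⁅a, g⁆ * y := hz1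
    have c2 : ∀ y : G, y * ⁅a, h⁆ = ⁅a, h⁆ * y := hz2
    calc ⁅a, g⁆ * g * (⁅a, h⁆ * h) * (g⁻¹ * ⁅a, g⁆⁻¹) * (h⁻¹ * ⁅a, h⁆⁻¹)
        = ⁅a, g⁆ * (g * ⁅a, h⁆) * h * g⁻¹ * ⁅a, g⁆⁻¹ * h⁻¹ * ⁅a, h⁆⁻¹ := by group
      _ = ⁅a, g⁆ * (⁅a, h⁆ * g) * h * g⁻¹ * ⁅a, g⁆⁻¹ * h⁻¹ * ⁅a, h⁆⁻¹ := by rw [c2 g]
      _ = ⁅a, g⁆ * ⁅a, h⁆ * ((g * h * g⁻¹) * ⁅a, g⁆⁻¹) * h⁻¹ * ⁅a, h⁆⁻¹ := by group
      _ = ⁅a, g⁆ * ⁅a, h⁆ * (⁅a, g⁆⁻¹ * (g * h * g⁻¹)) * h⁻¹ * ⁅a, h⁆⁻¹ := by
          have : (g * h * g⁻¹) * ⁅a, g⁆⁻¹ = ⁅a, g⁆⁻¹ * (g * h * g⁻¹) := by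
            have := c1 (g * h * g⁻¹)⁻¹
            calc (g * h * g⁻¹) * ⁅a, g⁆⁻¹ = ((⁅a, g⁆) * (g * h * g⁻¹)⁻¹)⁻¹ := by group
              _ = ((g * h * g⁻¹)⁻¹ * ⁅a, g⁆)⁻¹ := by rw [this]
              _ = ⁅a, g⁆⁻¹ * (g * h * g⁻¹) := by group
          rw [this]
      _ = (⁅a, g⁆ * ⁅a, h⁆ * ⁅a, g⁆⁻¹) * ((g * h * g⁻¹ * h⁻¹) * ⁅a, h⁆⁻¹) := by group
      _ = (⁅a, g⁆ * ⁅a, h⁆ * ⁅a, g⁆⁻¹) * (⁅a, h⁆⁻¹ * (g * h * g⁻¹ * h⁻¹)) := by
          have : (g * h * g⁻¹ * h⁻¹) * ⁅a, h⁆⁻¹ = ⁅a, h⁆⁻¹ * (g * h * g⁻¹ * h⁻¹) := by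
            have := c2 (g * h * g⁻¹ * h⁻¹)⁻¹
            calc (g * h * g⁻¹ * h⁻¹) * ⁅a, h⁆⁻¹ = ((⁅a, h⁆) * (g * h * g⁻¹ * h⁻¹)⁻¹)⁻¹ := by group
              _ = ((g * h * g⁻¹ * h⁻¹)⁻¹ * ⁅a, h⁆)⁻¹ := by rw [this]
              _ = ⁅a, h⁆⁻¹ * (g * h * g⁻¹ * h⁻¹) := by group
          rw [this]
      _ = (⁅a, g⁆ * ⁅a, h⁆) * ⁅a, g⁆⁻¹ * ⁅a, h⁆⁻¹ * (g * h * g⁻¹ * h⁻¹) := by group
      _ = (⁅a, h⁆ * ⁅a, g⁆) * ⁅a, g⁆⁻¹ * ⁅a, h⁆⁻¹ * (g * h * g⁻¹ * h⁻¹) := by rw [c2 ⁅a, g⁆]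
      _ = g * h * g⁻¹ * h⁻¹ := by group
  rw [h1, h2, h4] at h3
  calc a * ⁅g, h⁆ = (a * ⁅g, h⁆ * a⁻¹) * a := by group
    _ = ⁅g, h⁆ * a := by rw [h3]

variable [Finite G]

/-- the index of the centralizer is one exactly for central elements -/
theorem index_centralizer_eq_one_iff (x : G) :
    (Subgroup.centralizer ({x} : Set G)).index = 1 ↔ x ∈ Subgroup.center G := by
  rw [Subgroup.index_eq_one]
  constructor
  · intro h
    rw [Subgroup.mem_center_iff]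
    intro g
    have : g ∈ Subgroup.centralizer ({x} : Set G) := by rw [h]; exact Subgroup.mem_top g
    rw [Subgroup.mem_centralizer_iff] at this
    exact (this x rfl).symm
  · intro h
    rw [eq_top_iff]
    intro g _
    rw [Subgroup.mem_centralizer_iff]
    intro y hy
    rw [Set.mem_singleton_iff] at hy
    rw [hy]
    exact (Subgroup.mem_center_iff.mp h g).symm

/-- **Isaacs.** The elements in the two smallest classes lie in `cenComm A`. -/
theorem small_class_le_cenComm (A : Subgroup G) [hAn : A.Normal] (hA : IsMulCommutative A)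
    (m : ℕ)
    (hmin : ∀ x : G, 1 < (Subgroup.centralizer ({x} : Set G)).index →
      m ≤ (Subgroup.centralizer ({x} : Set G)).index) :
    Subgroup.closure {x : G | (Subgroup.centralizer ({x} : Set G)).index = 1 ∨
      (Subgroup.centralizer ({x} : Set G)).index = m} ≤ cenComm A := by
  rw [Subgroup.closure_le]
  intro x hx
  rcases hx with hx | hx
  · -- central elements
    have hxc := (index_centralizer_eq_one_iff x).mp hx
    intro a ha
    have : ⁅a, x⁆ = 1 := by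
      rw [commutatorElement_def, (Subgroup.mem_center_iff.mp hxc a)]; group
    rw [this]; exact Subgroup.one_mem _
  · intro a ha
    apply comm_mem_center_of_min A hA x _ a ha
    intro y hy
    have hy1 : (Subgroup.centralizer ({y} : Set G)).index ≠ 1 := by
      intro h; exact hy ((index_centralizer_eq_one_iff y).mp h)
    have hy0 : (Subgroup.centralizer ({y} : Set G)).index ≠ 0 := Subgroup.index_ne_zero_of_finite
    have hym := hmin y (by omega)
    rw [← hx] at hym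
    have e1 := (Subgroup.centralizer ({y} : Set G)).card_mul_index
    have e2 := (Subgroup.centralizer ({x} : Set G)).card_mul_index
    by_contra hlt
    push Not at hlt
    have : Nat.card (Subgroup.centralizer ({x} : Set G)) * (Subgroup.centralizer ({x} : Set G)).index
        < Nat.card (Subgroup.centralizer ({y} : Set G)) * (Subgroup.centralizer ({y} : Set G)).index := by
      have hx0 : 0 < (Subgroup.centralizer ({x} : Set G)).index :=
        Nat.pos_of_ne_zero Subgroup.index_ne_zero_of_finite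
      calc Nat.card (Subgroup.centralizer ({x} : Set G)) * (Subgroup.centralizer ({x} : Set G)).index
          < Nat.card (Subgroup.centralizer ({y} : Set G)) * (Subgroup.centralizer ({x} : Set G)).index :=
            Nat.mul_lt_mul_of_pos_right hlt hx0
        _ ≤ Nat.card (Subgroup.centralizer ({y} : Set G)) * (Subgroup.centralizer ({y} : Set G)).index :=
            Nat.mul_le_mul_left _ hym
    rw [e1, e2] at this
    exact lt_irrefl _ this

/-- **Isaacs.** Fourfold commutators of elements in the two smallest classes vanish. -/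
theorem small_class_comm (A : Subgroup G) [hAn : A.Normal] (hA : IsMulCommutative A)
    (hCA : Subgroup.centralizer (A : Set G) = A) (m : ℕ)
    (hmin : ∀ x : G, 1 < (Subgroup.centralizer ({x} : Set G)).index →
      m ≤ (Subgroup.centralizer ({x} : Set G)).index)
    (x y z : G)
    (hx : x ∈ Subgroup.closure {x : G | (Subgroup.centralizer ({x} : Set G)).index = 1 ∨
      (Subgroup.centralizer ({x} : Set G)).index = m})
    (hy : y ∈ Subgroup.closure {x : G | (Subgroup.centralizer ({x} : Set G)).index = 1 ∨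
      (Subgroup.centralizer ({x} : Set G)).index = m})
    (hz : z ∈ Subgroup.closure {x : G | (Subgroup.centralizer ({x} : Set G)).index = 1 ∨
      (Subgroup.centralizer ({x} : Set G)).index = m}) :
    ⁅⁅x, y⁆, z⁆ ∈ Subgroup.center G := by
  have hle := small_class_le_cenComm A hA m hmin
  have h1 : ⁅x, y⁆ ∈ A := by
    rw [← hCA]
    exact comm_mem_centralizer (hle hx) (hle hy)
  exact (hle hz) _ h1

end

end Cfsg.Agent.Lib.Lead.SmallClass
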