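import Mathlib
import Cfsg.Agent.Lib.Lead.SmallClass2

set_option autoImplicit false

namespace Cfsg.Agent.Lib.Lead.SmallClass

open scoped commutatorElement

section

variable {G : Type*} [Group G]

theorem ucs_three_eq_top' (h : ∀ x y z : G, ⁅⁅x, y⁆, z⁆ ∈ Subgroup.center G) :
    Subgroup.upperCentralSeries G 3 = ⊤ := by
  rw [eq_top_iff]
  intro x _
  rw [Subgroup.mem_upperCentralSeries_succ_iff]
  intro y
  rw [Subgroup.mem_upperCentralSeries_succ_iff]
  intro z
  rw [Subgroup.upperCentralSeries_one]
  exact h x y z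

theorem ucs_three_eq_top (M : Subgroup G)
    (h : ∀ x y z : G, x ∈ M → y ∈ M → z ∈ M → ⁅⁅x, y⁆, z⁆ ∈ Subgroup.center G) :
    Subgroup.upperCentralSeries ↥M 3 = ⊤ := by
  apply ucs_three_eq_top'
  intro x y z
  rw [Subgroup.mem_center_iff]
  intro w
  apply Subtype.ext
  have h1 := Subgroup.mem_center_iff.mp (h x y z x.2 y.2 z.2) w
  exact h1

variable [Finite G]

theorem isaacs_small_classes (A : Subgroup G) [A.Normal] (hA : IsMulCommutative A)
    (hCA : Subgroup.centralizer (A : Set G) = A) (m : ℕ)
    (hmin : ∀ x : G, 1 < (Subgroup.centralizer ({x} : Set G)).index →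
      m ≤ (Subgroup.centralizer ({x} : Set G)).index) :
    Subgroup.upperCentralSeries ↥(Subgroup.closure {x : G |
      (Subgroup.centralizer ({x} : Set G)).index = 1 ∨
        (Subgroup.centralizer ({x} : Set G)).index = m}) 3 = ⊤ := by
  apply ucs_three_eq_top
  intro x y z hx hy hz
  exact small_class_comm A hA hCA m hmin x y z hx hy hz

theorem ishikawa {p : ℕ} [Fact p.Prime] (hP : IsPGroup p G) (m : ℕ)
    (h : ∀ x : G, (Subgroup.centralizer ({x} : Set G)).index = 1 ∨
      (Subgroup.centralizer ({x} : Set G)).index = m) :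
    Subgroup.upperCentralSeries G 3 = ⊤ := by
  haveI : Group.IsNilpotent G := hP.isNilpotent
  obtain ⟨A, hAn, hAc, hmax⟩ := exists_max_normal_abelian G
  have hCA := centralizer_eq_of_max_abelian_normal A hmax
  apply ucs_three_eq_top'
  intro x y z
  have hmin : ∀ x : G, 1 < (Subgroup.centralizer ({x} : Set G)).index →
      m ≤ (Subgroup.centralizer ({x} : Set G)).index := by
    intro x hx
    rcases h x with h1 | h1
    · omega
    · exact h1.ge
  exact small_class_comm A hAc hCA m hmin x y z (Subgroup.subset_closure (h x))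
    (Subgroup.subset_closure (h y)) (Subgroup.subset_closure (h z))

end

end Cfsg.Agent.Lib.Lead.SmallClass
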