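import Mathlib

set_option autoImplicit false

namespace Cfsg.Agent.Lib.Lead.SmallSupp

open Equiv Equiv.Perm MulAction SubMulAction

variable {α : Type*} [Fintype α] [DecidableEq α]

/-- Subsets with small boundary under a permutation. -/
theorem exists_small_boundary (g : Perm α) (S : Finset α) (hS : ∀ y, g⁻¹ y ∈ S ↔ y ∈ S)
    (j : ℕ) (hj : j ≤ S.card) :
    ∃ R ⊆ S, R.card = j ∧ ((R.image ⇑g⁻¹) \ R).card ≤ 1 := by
  induction j with
  | zero => exact ⟨∅, Finset.empty_subset _, rfl, by simp⟩
  | succ j ih =>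
    obtain ⟨R, hRS, hRj, hRb⟩ := ih (by omega)
    -- choose the new point
    have hp : ∃ p ∈ S \ R, (R.image ⇑g⁻¹) \ R ⊆ {p} := by
      rcases Nat.eq_zero_or_pos ((R.image ⇑g⁻¹) \ R).card with h0 | hpos
      · rw [Finset.card_eq_zero] at h0
        have : (S \ R).Nonempty := by
          rw [← Finset.card_pos, Finset.card_sdiff_of_subset hRS]; omega
        obtain ⟨p, hp⟩ := this
        exact ⟨p, hp, by rw [h0]; exact Finset.empty_subset _⟩
      · have h1 : ((R.image ⇑g⁻¹) \ R).card = 1 := by omega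
        rw [Finset.card_eq_one] at h1
        obtain ⟨p, hp⟩ := h1
        refine ⟨p, ?_, by rw [hp]⟩
        have hpm : p ∈ (R.image ⇑g⁻¹) \ R := by rw [hp]; exact Finset.mem_singleton_self p
        rw [Finset.mem_sdiff, Finset.mem_image] at hpm
        obtain ⟨⟨r, hr, hrp⟩, hpR⟩ := hpm
        rw [Finset.mem_sdiff]
        refine ⟨?_, hpR⟩
        rw [← hrp, hS]
        exact hRS hr
    obtain ⟨p, hpSR, hpb⟩ := hp
    rw [Finset.mem_sdiff] at hpSR
    refine ⟨insert p R, ?_, ?_, ?_⟩
    · intro y hy
      rw [Finset.mem_insert] at hy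
      rcases hy with rfl | hy
      · exact hpSR.1
      · exact hRS hy
    · rw [Finset.card_insert_of_notMem hpSR.2, hRj]
    · have hsub : ((insert p R).image ⇑g⁻¹) \ (insert p R) ⊆ {g⁻¹ p} := by
        intro y hy
        rw [Finset.mem_sdiff, Finset.mem_image] at hy
        obtain ⟨⟨r, hr, hry⟩, hy2⟩ := hy
        rw [Finset.mem_insert] at hr
        rw [Finset.mem_insert, not_or] at hy2
        rcases hr with rfl | hr
        · rw [Finset.mem_singleton]; exact hry.symm
        · exfalso
          have : y ∈ (R.image ⇑g⁻¹) \ R := by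
            rw [Finset.mem_sdiff, Finset.mem_image]
            exact ⟨⟨r, hr, hry⟩, hy2.2⟩
          have := hpb this
          rw [Finset.mem_singleton] at this
          exact hy2.1 this
      exact le_trans (Finset.card_le_card hsub) (by simp)

/-- In a `k`-transitive group the pointwise stabilizer of fewer than `k` points is transitive on the
remaining points. -/
theorem exists_fix_move (G : Subgroup (Perm α)) {k : ℕ} (hkn : k ≤ Fintype.card α)
    (hG : IsMultiplyPretransitive G α k) (P : Finset α) (hP : P.card + 1 ≤ k) {r q : α}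
    (hr : r ∉ P) (hq : q ∉ P) : ∃ x ∈ G, (∀ p ∈ P, x p = p) ∧ x r = q := by
  have hfin : Finite ((P : Set α)) := Set.finite_coe_iff.mpr (Set.toFinite _)
  have h1 : IsMultiplyPretransitive (fixingSubgroup G (P : Set α))
      (ofFixingSubgroup G (P : Set α)) 1 :=
    ofFixingSubgroup.isMultiplyPretransitive' (G := G) (n := k) (P : Set α)
      (by rw [Set.ncard_coe_finset]; exact hP)
      (by rw [ENat.card_eq_coe_fintype_card]; exact_mod_cast hkn)
  have h1' : IsPretransitive (fixingSubgroup G (P : Set α)) (ofFixingSubgroup G (P : Set α)) :=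
    is_one_pretransitive_iff.mp h1
  obtain ⟨⟨⟨x, hxG⟩, hx⟩, hxr⟩ := h1'.exists_smul_eq
    (⟨r, by rw [mem_ofFixingSubgroup_iff]; simpa using hr⟩ : ofFixingSubgroup G (P : Set α))
    ⟨q, by rw [mem_ofFixingSubgroup_iff]; simpa using hq⟩
  rw [mem_fixingSubgroup_iff] at hx
  refine ⟨x, hxG, ?_, ?_⟩
  · intro p hp
    exact hx p (by simpa using hp)
  · exact congrArg Subtype.val hxr

end Cfsg.Agent.Lib.Lead.SmallSupp
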