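import Mathlib
import Cfsg.Agent.Lib.Lead.SmallSupp

set_option autoImplicit false

namespace Cfsg.Agent.Lib.Lead.SmallSupp

open Equiv Equiv.Perm MulAction SubMulAction

variable {α : Type*} [Fintype α] [DecidableEq α]

theorem perm_apply_inv (f : Perm α) (x : α) : f (f⁻¹ x) = x := by
  rw [← Perm.mul_apply, mul_inv_cancel, Perm.one_apply]

/-- Support of the commutator-like element `g⁻¹ x g x⁻¹`. -/
theorem support_comm_subset (g x : Perm α) (R : Finset α)
    (hx : ∀ p ∈ g.support \ R, x p = p) :
    (g⁻¹ * x * g * x⁻¹).support ⊆ (R ∪ R.image ⇑g⁻¹) ∪ ((R.image ⇑x) \ g.support) := by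
  intro y hy
  by_contra hcon
  rw [Finset.mem_union, Finset.mem_union, not_or, not_or] at hcon
  obtain ⟨⟨hyR, hygR⟩, hyx⟩ := hcon
  apply (mem_support.mp hy)
  simp only [Perm.mul_apply]
  by_cases hyS : y ∈ g.support
  · have h1 : x y = y := hx y (Finset.mem_sdiff.mpr ⟨hyS, hyR⟩)
    have h1' : x⁻¹ y = y := by rw [Perm.inv_eq_iff_eq, h1]
    have hgyS : g y ∈ g.support := Perm.apply_mem_support.mpr hyS
    have hgyR : g y ∉ R := by
      intro h
      apply hygR
      rw [Finset.mem_image]
      exact ⟨g y, h, by simp⟩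
    have h2 : x (g y) = g y := hx (g y) (Finset.mem_sdiff.mpr ⟨hgyS, hgyR⟩)
    rw [h1', h2]
    simp
  · have hz : x⁻¹ y ∉ g.support := by
      intro hz
      by_cases hzR : x⁻¹ y ∈ R
      · apply hyx
        rw [Finset.mem_sdiff, Finset.mem_image]
        exact ⟨⟨x⁻¹ y, hzR, by simp⟩, hyS⟩
      · have := hx (x⁻¹ y) (Finset.mem_sdiff.mpr ⟨hz, hzR⟩)
        rw [perm_apply_inv] at this
        rw [← this] at hz
        exact hyS hz
    have h1 : g (x⁻¹ y) = x⁻¹ y := Perm.notMem_support.mp hz
    have h2 : g y = y := Perm.notMem_support.mp hyS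
    have h3 : g⁻¹ y = y := by rw [Perm.inv_eq_iff_eq, h2]
    rw [h1, perm_apply_inv, h3]

/-- The descent step: from a nonidentity element of support size `m` with `4 ≤ m ≤ 2k - 3` in a
`k`-transitive group, produce a nonidentity element of smaller support. -/
theorem descent (G : Subgroup (Perm α)) {k : ℕ} (hk : 3 ≤ k) (hkn : k ≤ Fintype.card α)
    (hG : IsMultiplyPretransitive G α k) (g : Perm α) (hg : g ∈ G) (hm4 : 4 ≤ g.support.card)
    (hm : g.support.card ≤ 2 * k - 3) :
    ∃ c ∈ G, c ≠ 1 ∧ c.support.card < g.support.card := by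
  by_cases hfull : g.support = Finset.univ
  · -- Case I: no fixed points
    obtain ⟨T, -, hT⟩ := Finset.exists_subset_card_eq (s := (Finset.univ : Finset α)) (n := k)
      (by rw [Finset.card_univ]; exact hkn)
    obtain ⟨p, hp, q, hq, hpq⟩ := Finset.one_lt_card.mp (by omega : 1 < T.card)
    have hPcard : ((T.erase p).erase q).card = k - 2 := by
      rw [Finset.card_erase_of_mem (Finset.mem_erase.mpr ⟨hpq.symm, hq⟩),
        Finset.card_erase_of_mem hp, hT]
      omega
    obtain ⟨x, hxG, hxP, hxp⟩ := exists_fix_move G hkn hG ((T.erase p).erase q) (by omega)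
      (r := p) (q := q) (by simp) (by simp)
    refine ⟨x, hxG, ?_, ?_⟩
    · intro h1
      rw [h1] at hxp
      exact hpq hxp
    · have hsub : x.support ⊆ Finset.univ \ ((T.erase p).erase q) := by
        intro y hy
        rw [Finset.mem_sdiff]
        refine ⟨Finset.mem_univ _, fun hyP => ?_⟩
        exact (mem_support.mp hy) (hxP y hyP)
      have h1 := Finset.card_le_card hsub
      rw [Finset.card_sdiff_of_subset (Finset.subset_univ _), hPcard, Finset.card_univ] at h1
      rw [hfull, Finset.card_univ]
      omega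
  · -- Case II
    obtain ⟨q, hq⟩ : ∃ q, q ∉ g.support := by
      by_contra h
      push Not at h
      exact hfull (Finset.eq_univ_iff_forall.mpr h)
    have hinv : ∀ y, g⁻¹ y ∈ g.support ↔ y ∈ g.support := by
      intro y
      rw [← Perm.support_inv, Perm.apply_mem_support, Perm.support_inv]
    obtain ⟨R, hRS, hRj, hRb⟩ := exists_small_boundary g g.support hinv
      (max 1 (g.support.card - k + 1)) (by
        rcases le_total 1 (g.support.card - k + 1) with h | h
        · rw [max_eq_right h]; omega
        · rw [max_eq_left h]; omega)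
    have hPcard : (g.support \ R).card + 1 ≤ k := by
      rw [Finset.card_sdiff_of_subset hRS, hRj]
      rcases le_total 1 (g.support.card - k + 1) with h | h
      · rw [max_eq_right h]; omega
      · rw [max_eq_left h]; omega
    have hgq : g q = q := Perm.notMem_support.mp hq
    have hgiq : g⁻¹ q = q := by rw [Perm.inv_eq_iff_eq, hgq]
    by_cases hb : R.card = 1 ∨ (R.image ⇑g⁻¹) \ R = ∅
    · -- sub-case (a)
      obtain ⟨r₁, hr₁⟩ : R.Nonempty := by
        rw [← Finset.card_pos, hRj]
        exact lt_of_lt_of_le Nat.one_pos (le_max_left _ _)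
      obtain ⟨x, hxG, hxP, hxr⟩ := exists_fix_move G hkn hG (g.support \ R) hPcard
        (r := r₁) (q := q) (by simp [hr₁]) (by simp [hq])
      refine ⟨g⁻¹ * x * g * x⁻¹, G.mul_mem (G.mul_mem (G.mul_mem (G.inv_mem hg) hxG) hg)
        (G.inv_mem hxG), ?_, ?_⟩
      · intro h1
        have h2 := congrArg (fun f : Perm α => f q) h1
        simp only [Perm.mul_apply, Perm.one_apply] at h2
        have e1 : x⁻¹ q = r₁ := by rw [Perm.inv_eq_iff_eq, hxr]
        rw [e1] at h2
        -- g⁻¹ (x (g r₁)) = q, so x (g r₁) = g q = q = x r₁, so g r₁ = r₁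
        have h3 : x (g r₁) = q := by
          have := congrArg g h2
          rw [perm_apply_inv, hgq] at this
          exact this
        have h4 : g r₁ = r₁ := x.injective (h3.trans hxr.symm)
        exact (mem_support.mp (hRS hr₁)) h4
      · have hsub := support_comm_subset g x R hxP
        have h1 := Finset.card_le_card hsub
        have h2 : ((R ∪ R.image ⇑g⁻¹) ∪ ((R.image ⇑x) \ g.support)).card ≤
            (R ∪ R.image ⇑g⁻¹).card + ((R.image ⇑x) \ g.support).card := Finset.card_union_le _ _
        have h3 : (R ∪ R.image ⇑g⁻¹).card = R.card + ((R.image ⇑g⁻¹) \ R).card := by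
          rw [← Finset.card_union_of_disjoint Finset.disjoint_sdiff, Finset.union_sdiff_self_eq_union]
        have h4 : ((R.image ⇑x) \ g.support).card ≤ R.card :=
          le_trans (Finset.card_le_card Finset.sdiff_subset) Finset.card_image_le
        rcases hb with hb | hb
        · omega
        · rw [hb, Finset.card_empty] at h3
          rw [hRj] at h3 h4
          rcases le_total 1 (g.support.card - k + 1) with h | h
          · rw [max_eq_right h] at h3 h4; omega
          · rw [max_eq_left h] at h3 h4; omega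
    · -- sub-case (b)
      push Not at hb
      obtain ⟨hR1, hbne⟩ := hb
      have hbcard : ((R.image ⇑g⁻¹) \ R).card = 1 := by
        have : 0 < ((R.image ⇑g⁻¹) \ R).card := Finset.card_pos.mpr hbne
        omega
      obtain ⟨p₀, hp₀⟩ := Finset.card_eq_one.mp hbcard
      have hp₀m : p₀ ∈ (R.image ⇑g⁻¹) \ R := by rw [hp₀]; exact Finset.mem_singleton_self _
      rw [Finset.mem_sdiff, Finset.mem_image] at hp₀m
      obtain ⟨⟨r₁, hr₁, hr₁p⟩, hp₀R⟩ := hp₀m
      have hgp₀ : g p₀ = r₁ := by rw [← hr₁p]; simp
      have hp₀S : p₀ ∈ g.support := by rw [← hr₁p, hinv]; exact hRS hr₁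
      have hR2 : 1 < R.card := by
        have : 1 ≤ R.card := by
          rw [hRj]; exact le_max_left _ _
        omega
      obtain ⟨r', hr', hr'ne⟩ : ∃ r' ∈ R, r' ≠ r₁ := by
        obtain ⟨u, hu, v, hv, huv⟩ := Finset.one_lt_card.mp hR2
        by_cases hur : u = r₁
        · exact ⟨v, hv, fun h => huv (hur.trans h.symm)⟩
        · exact ⟨u, hu, hur⟩
      obtain ⟨x, hxG, hxP, hxr⟩ := exists_fix_move G hkn hG (g.support \ R) hPcard
        (r := r₁) (q := r') (by simp [hr₁]) (by simp [hr'])
      refine ⟨g⁻¹ * x * g * x⁻¹, G.mul_mem (G.mul_mem (G.mul_mem (G.inv_mem hg) hxG) hg)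
        (G.inv_mem hxG), ?_, ?_⟩
      · intro h1
        have h2 := congrArg (fun f : Perm α => f p₀) h1
        simp only [Perm.mul_apply, Perm.one_apply] at h2
        have hxp₀ : x p₀ = p₀ := hxP p₀ (Finset.mem_sdiff.mpr ⟨hp₀S, hp₀R⟩)
        have e1 : x⁻¹ p₀ = p₀ := by rw [Perm.inv_eq_iff_eq, hxp₀]
        rw [e1, hgp₀, hxr] at h2
        have := congrArg g h2
        rw [perm_apply_inv, hgp₀] at this
        exact hr'ne this
      · have hsub := support_comm_subset g x R hxP
        have h1 := Finset.card_le_card hsub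
        have h2 : ((R ∪ R.image ⇑g⁻¹) ∪ ((R.image ⇑x) \ g.support)).card ≤
            (R ∪ R.image ⇑g⁻¹).card + ((R.image ⇑x) \ g.support).card := Finset.card_union_le _ _
        have h3 : (R ∪ R.image ⇑g⁻¹).card = R.card + ((R.image ⇑g⁻¹) \ R).card := by
          rw [← Finset.card_union_of_disjoint Finset.disjoint_sdiff, Finset.union_sdiff_self_eq_union]
        have h4 : ((R.image ⇑x) \ g.support).card ≤ R.card - 1 := by
          have hsub2 : (R.image ⇑x) \ g.support ⊆ (R.erase r₁).image ⇑x := by
            intro y hy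
            rw [Finset.mem_sdiff, Finset.mem_image] at hy
            obtain ⟨⟨r, hr, hry⟩, hyS⟩ := hy
            rw [Finset.mem_image]
            refine ⟨r, ?_, hry⟩
            rw [Finset.mem_erase]
            refine ⟨?_, hr⟩
            rintro rfl
            rw [hxr] at hry
            rw [← hry] at hyS
            exact hyS (hRS hr')
          refine le_trans (Finset.card_le_card hsub2) (le_trans Finset.card_image_le ?_)
          rw [Finset.card_erase_of_mem hr₁]
        rw [hbcard] at h3
        rw [hRj] at h3 h4 hR2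
        rcases le_total 1 (g.support.card - k + 1) with h | h
        · rw [max_eq_right h] at h3 h4 hR2; omega
        · rw [max_eq_left h] at h3 h4 hR2; omega

end Cfsg.Agent.Lib.Lead.SmallSupp
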