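import Mathlib
import Cfsg.Agent.Lib.Lead.SolvPSolv
import Cfsg.Agent.Lib.Lead.Quad13

set_option autoImplicit false

/-!
Absence of `SL₂(p)` sections in solvable groups (with abelian Sylow `2`-subgroups when `p = 3`),
and the resulting `p`-stability.
-/

namespace Cfsg.Agent.Lib.Lead

namespace SolvPSolv

universe u

open Cfsg

local notation "X23" => Matrix.SpecialLinearGroup (Fin 2) (ZMod 3)

theorem exists_noncomm_X23 : ∃ a b : X23, a ^ 4 = 1 ∧ b ^ 4 = 1 ∧ a * b ≠ b * a := by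
  decide +kernel

instance fact_three : Fact (Nat.Prime 3) := ⟨Nat.prime_three⟩

/-- a group with abelian Sylow `2`-subgroups has no section `SL₂(3)` -/
theorem not_hasSL2Section_three {G : Type u} [Group G] [Finite G]
    (h : ∀ T : Sylow 2 G, IsMulCommutative T) (M : Subgroup G) :
    ¬ Quad.HasSL2Section 3 ↥M := by
  haveI : Fact (Nat.Prime 2) := ⟨Nat.prime_two⟩
  rintro ⟨K, L, hL, ⟨e⟩⟩
  haveI := hL
  set π : ↥K →* X23 := e.toMonoidHom.comp (QuotientGroup.mk' (L.subgroupOf K)) with hπ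
  have hπs : Function.Surjective π :=
    e.surjective.comp (QuotientGroup.mk'_surjective _)
  obtain ⟨T2⟩ : Nonempty (Sylow 2 ↥K) := inferInstance
  -- `T2` is abelian
  have hT2c : ∀ x ∈ (T2 : Subgroup ↥K), ∀ y ∈ (T2 : Subgroup ↥K), x * y = y * x := by
    set T2G : Subgroup G := ((T2 : Subgroup ↥K).map K.subtype).map M.subtype with hT2G
    have hp2 : IsPGroup 2 T2G := (T2.isPGroup'.map _).map _
    obtain ⟨T, hT⟩ := hp2.exists_le_sylow
    intro x hx y hy
    have hxG : ((x : ↥M) : G) ∈ (T : Subgroup G) := hT ⟨(x : ↥M), ⟨x, hx, rfl⟩, rfl⟩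
    have hyG : ((y : ↥M) : G) ∈ (T : Subgroup G) := hT ⟨(y : ↥M), ⟨y, hy, rfl⟩, rfl⟩
    have hc := (h T).is_comm.comm ⟨_, hxG⟩ ⟨_, hyG⟩
    have hc' : ((x : ↥M) : G) * ((y : ↥M) : G) = ((y : ↥M) : G) * ((x : ↥M) : G) :=
      congrArg Subtype.val hc
    apply Subtype.ext
    apply Subtype.ext
    simpa using hc'
  have hle : Cfsg.Agent.Lib.Helper3.quat23 ≤ ((T2.mapSurjective hπs : Sylow 2 X23) : Subgroup X23) := by
    apply IsPGroup.le_sylow_of_normal (N := Cfsg.Agent.Lib.Helper3.quat23)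
    intro g
    refine ⟨2, ?_⟩
    apply Subtype.ext
    have : (g : X23) ^ 4 = 1 := g.2
    simpa using this
  obtain ⟨a, b, ha, hb, hab⟩ := exists_noncomm_X23
  apply hab
  have haQ : a ∈ ((T2.mapSurjective hπs : Sylow 2 X23) : Subgroup X23) := hle ha
  have hbQ : b ∈ ((T2.mapSurjective hπs : Sylow 2 X23) : Subgroup X23) := hle hb
  rw [Sylow.coe_mapSurjective] at haQ hbQ
  obtain ⟨x, hx, rfl⟩ := haQ
  obtain ⟨y, hy, rfl⟩ := hbQ
  rw [← map_mul, ← map_mul, hT2c x hx y hy]

/-- solvable groups (with abelian Sylow `2`-subgroups if `p = 3`) have no section `SL₂(p)`, `p` odd -/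
theorem not_hasSL2Section_of_isSolvable {G : Type u} [Group G] [Finite G] [Group.IsSolvable G]
    {p : ℕ} [Fact p.Prime] (hp : p ≠ 2) (h3 : p = 3 → ∀ T : Sylow 2 G, IsMulCommutative T)
    (M : Subgroup G) : ¬ Quad.HasSL2Section p ↥M := by
  by_cases hp3 : p = 3
  · subst hp3
    exact not_hasSL2Section_three (h3 rfl) M
  · have hp5 : 5 ≤ p := by
      have hpp : p.Prime := Fact.out
      have h2 := hpp.two_le
      by_contra hlt
      push_neg at hlt
      have h4 : p = 4 := by omega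
      rw [h4] at hpp
      exact absurd hpp (by decide)
    exact Cfsg.Agent.Lib.Helper2.SL2Sections.not_hasSL2Section_of_isPSolvable p hp5
      (isPSolvable_of_isSolvable' p ↥M)

/-- the resulting `p`-stability -/
theorem isNormalizerPStable_of_isSolvable {G : Type u} [Group G] [Finite G] [Group.IsSolvable G]
    {p : ℕ} [Fact p.Prime] (hp : p ≠ 2) (h3 : p = 3 → ∀ T : Sylow 2 G, IsMulCommutative T) :
    Cfsg.IsNormalizerPStable p G := by
  intro P hP g hg hq
  exact Quad.mem_pCore_of_not_hasSL2Section hp P hP g hg hq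
    (not_hasSL2Section_of_isSolvable hp h3 _)

end SolvPSolv

end Cfsg.Agent.Lib.Lead
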