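import Mathlib
import Cfsg.Prelude.Def_TwoFusion
import Cfsg.Prelude.Def_CaseTheorems
import Cfsg.Agent.Lib.Helper6.PPrimeCore
import Cfsg.Agent.Lib.Helper8.ZQ2

set_option autoImplicit false

namespace Cfsg.Agent.Lib.Lead.StrongClosedCent

open Cfsg
open scoped Pointwise

variable {G : Type*} [Group G] [Finite G]

/-- membership in a conjugate Sylow subgroup -/
theorem mem_smul_sylow_iff {p : ℕ} (P : Sylow p G) (y x : G) :
    x ∈ ((y • P : Sylow p G) : Subgroup G) ↔ y⁻¹ * x * y ∈ (P : Subgroup G) := by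
  rw [Sylow.coe_subgroup_smul, Subgroup.mem_pointwise_smul_iff_inv_smul_mem]
  simp [MulAut.smul_def, MulAut.conj_apply]

/-- Step 1: a Sylow subgroup adapted to `H ⊔ A`. -/
theorem exists_adapted_sylow (S : Sylow 2 G) (A : Subgroup G)
    (hA : IsStronglyClosed A (S : Subgroup G)) (H : Subgroup G)
    (hAH : A ≤ Subgroup.normalizer (H : Set G)) (hdisj : A ⊓ H = ⊥) :
    ∃ (S₁ : Sylow 2 G) (T : Sylow 2 ↥(H ⊔ A)), A ≤ (S₁ : Subgroup G) ∧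
      (T : Subgroup ↥(H ⊔ A)).map (H ⊔ A).subtype ≤ (S₁ : Subgroup G) ∧
      A ≤ (T : Subgroup ↥(H ⊔ A)).map (H ⊔ A).subtype ∧
      (∀ q ∈ A, ∀ h ∈ H, h * q * h⁻¹ ∈ (S₁ : Subgroup G) → h * q * h⁻¹ = q) := by
  have hA2 : IsPGroup 2 A := S.2.to_le hA.1
  obtain ⟨T, hT⟩ := (hA2.comap_subtype (K := H ⊔ A)).exists_le_sylow
  have hTG2 : IsPGroup 2 ((T : Subgroup ↥(H ⊔ A)).map (H ⊔ A).subtype) := T.2.map _
  obtain ⟨S₁, hS₁⟩ := hTG2.exists_le_sylow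
  have hAT : A ≤ (T : Subgroup ↥(H ⊔ A)).map (H ⊔ A).subtype := by
    intro a ha
    have haY : a ∈ H ⊔ A := (le_sup_right : A ≤ H ⊔ A) ha
    exact ⟨⟨a, haY⟩, hT (show (⟨a, haY⟩ : ↥(H ⊔ A)) ∈ A.subgroupOf (H ⊔ A) from ha), rfl⟩
  have hAS₁ : A ≤ (S₁ : Subgroup G) := hAT.trans hS₁
  obtain ⟨y, hy⟩ := MulAction.exists_smul_eq G S S₁
  have hmem : ∀ x : G, x ∈ (S₁ : Subgroup G) ↔ y⁻¹ * x * y ∈ (S : Subgroup G) := by
    intro x
    rw [← hy]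
    exact mem_smul_sylow_iff S y x
  -- `y⁻¹ A y ≤ A`
  have h1 : ∀ a ∈ A, y⁻¹ * a * y ∈ A := by
    intro a ha
    have := hA.2 a ha y⁻¹
    rw [inv_inv] at this
    exact this ((hmem a).mp (hAS₁ ha))
  have h2 : ∀ a ∈ A, y * a * y⁻¹ ∈ A := by
    intro a' ha'
    let f : A → A := fun a => ⟨y⁻¹ * a * y, h1 a a.2⟩
    have hf : Function.Injective f := by
      intro a b hab
      have : y⁻¹ * (a : G) * y = y⁻¹ * (b : G) * y := congrArg Subtype.val hab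
      apply Subtype.ext
      have h3 : (a : G) = y * (y⁻¹ * (a : G) * y) * y⁻¹ := by group
      rw [h3, this]; group
    obtain ⟨a, hfa⟩ := (Finite.injective_iff_surjective.mp hf) ⟨a', ha'⟩
    have : y⁻¹ * (a : G) * y = a' := congrArg Subtype.val hfa
    rw [← this]
    have h3 : y * (y⁻¹ * (a : G) * y) * y⁻¹ = a := by group
    rw [h3]; exact a.2
  have hSC : ∀ q ∈ A, ∀ g : G, g * q * g⁻¹ ∈ (S₁ : Subgroup G) → g * q * g⁻¹ ∈ A := by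
    intro q hq g hg
    have h3 := (hmem _).mp hg
    have h4 : y⁻¹ * (g * q * g⁻¹) * y = (y⁻¹ * g) * q * (y⁻¹ * g)⁻¹ := by group
    rw [h4] at h3
    have h5 := h2 _ (hA.2 q hq (y⁻¹ * g) h3)
    have h6 : y * ((y⁻¹ * g) * q * (y⁻¹ * g)⁻¹) * y⁻¹ = g * q * g⁻¹ := by group
    rw [h6] at h5
    exact h5
  refine ⟨S₁, T, hAS₁, hS₁, hAT, ?_⟩
  intro q hq h hh hmemS
  have h3 : h * q * h⁻¹ ∈ A := hSC q hq h hmemS
  have hqN := hAH hq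
  rw [Subgroup.mem_normalizer_iff] at hqN
  have h4 : q * h⁻¹ * q⁻¹ ∈ H := (hqN h⁻¹).mp (H.inv_mem hh)
  have h5 : h * q * h⁻¹ * q⁻¹ ∈ A ⊓ H := by
    refine ⟨A.mul_mem h3 (A.inv_mem hq), ?_⟩
    have : h * q * h⁻¹ * q⁻¹ = h * (q * h⁻¹ * q⁻¹) := by group
    rw [this]
    exact H.mul_mem hh h4
  rw [hdisj, Subgroup.mem_bot] at h5
  calc h * q * h⁻¹ = h * q * h⁻¹ * q⁻¹ * q := by group
    _ = q := by rw [h5, one_mul]

theorem main (S : Sylow 2 G) (A : Subgroup G)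
    (hA : IsStronglyClosed A (S : Subgroup G)) (H : Subgroup G)
    (hAH : A ≤ Subgroup.normalizer (H : Set G)) (hO : pPrimeCore 2 ↥H = ⊥) (hdisj : A ⊓ H = ⊥) :
    A ≤ Subgroup.centralizer (H : Set G) := by
  obtain ⟨S₁, T, hAS₁, hTS₁, hAT, hstar⟩ := exists_adapted_sylow S A hA H hAH hdisj
  intro a ha
  rw [Subgroup.mem_centralizer_iff]
  intro h₀ hh₀
  have hzA : Subgroup.zpowers a ≤ A := Subgroup.zpowers_le.mpr ha
  obtain ⟨X, hX⟩ : ∃ X : Subgroup G, X = H ⊔ Subgroup.zpowers a := ⟨_, rfl⟩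
  have hXY : X ≤ H ⊔ A := hX ▸ sup_le_sup_left hzA H
  have hHX : H ≤ X := hX ▸ le_sup_left
  have haX : a ∈ X := hX ▸ (le_sup_right : Subgroup.zpowers a ≤ _) (Subgroup.mem_zpowers a)
  have hzN : Subgroup.zpowers a ≤ Subgroup.normalizer (H : Set G) := hzA.trans hAH
  have hXdec : ∀ x ∈ X, ∃ h ∈ H, ∃ i : ℤ, x = h * a ^ i := by
    intro x hx
    have h1 : (x : G) ∈ ((H ⊔ Subgroup.zpowers a : Subgroup G) : Set G) := hX ▸ hx
    rw [Subgroup.coe_mul_of_right_le_normalizer_left H (Subgroup.zpowers a) hzN] at h1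
    obtain ⟨h, hh, z, hz, rfl⟩ := Set.mem_mul.mp h1
    obtain ⟨i, rfl⟩ := Subgroup.mem_zpowers_iff.mp hz
    exact ⟨h, hh, i, rfl⟩
  have hYdec : ∀ x ∈ H ⊔ A, ∃ h ∈ H, ∃ b ∈ A, x = h * b := by
    intro x hx
    have h1 : (x : G) ∈ ((H ⊔ A : Subgroup G) : Set G) := hx
    rw [Subgroup.coe_mul_of_right_le_normalizer_left H A hAH] at h1
    obtain ⟨h, hh, b, hb, rfl⟩ := Set.mem_mul.mp h1
    exact ⟨h, hh, b, hb, rfl⟩
  -- a Sylow subgroup of `X` inside `S₁`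
  obtain ⟨P₀⟩ : Nonempty (Sylow 2 ↥X) := inferInstance
  have hR2 : IsPGroup 2 ((P₀ : Subgroup ↥X).map X.subtype) := P₀.2.map _
  obtain ⟨T', hT'⟩ := (hR2.comap_subtype (K := H ⊔ A)).exists_le_sylow
  obtain ⟨x, hx⟩ := MulAction.exists_smul_eq ↥(H ⊔ A) T T'
  obtain ⟨h, hh, b, hb, hxhb⟩ := hYdec x x.2
  have hconj : ∀ r ∈ (P₀ : Subgroup ↥X).map X.subtype,
      h⁻¹ * r * h ∈ (T : Subgroup ↥(H ⊔ A)).map (H ⊔ A).subtype := by
    intro r hr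
    have hrY : r ∈ H ⊔ A := hXY (Subgroup.map_subtype_le _ hr)
    have h1 : (⟨r, hrY⟩ : ↥(H ⊔ A)) ∈ (T' : Subgroup ↥(H ⊔ A)) := hT' hr
    rw [← hx] at h1
    have h1 := (mem_smul_sylow_iff T x _).mp h1
    have h2 : (x : G)⁻¹ * r * (x : G) ∈ (T : Subgroup ↥(H ⊔ A)).map (H ⊔ A).subtype :=
      ⟨_, h1, rfl⟩
    rw [hxhb] at h2
    have hbT := hAT hb
    have h3 : h⁻¹ * r * h = b * ((h * b)⁻¹ * r * (h * b)) * b⁻¹ := by group
    rw [h3]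
    exact Subgroup.mul_mem _ (Subgroup.mul_mem _ hbT h2) (Subgroup.inv_mem _ hbT)
  obtain ⟨P, hP⟩ : ∃ P : Sylow 2 ↥X, P = (⟨h⁻¹, hHX (H.inv_mem hh)⟩ : ↥X) • P₀ := ⟨_, rfl⟩
  have hP_le : ∀ q : ↥X, q ∈ P → (q : G) ∈ (S₁ : Subgroup G) := by
    intro q hq
    rw [hP] at hq
    have hq := (mem_smul_sylow_iff P₀ _ q).mp hq
    have h1 := hconj _ ⟨_, hq, rfl⟩
    have h2 : h⁻¹ * (X.subtype ((⟨h⁻¹, hHX (H.inv_mem hh)⟩ : ↥X)⁻¹ * q *
        (⟨h⁻¹, hHX (H.inv_mem hh)⟩ : ↥X))) * h = (q : G) := by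
      simp only [Subgroup.subtype_apply, Subgroup.coe_mul, Subgroup.coe_inv]
      group
    rw [h2] at h1
    exact hTS₁ h1
  have haP : (⟨a, haX⟩ : ↥X) ∈ P := by
    have hQ2 : IsPGroup 2 ((S₁ : Subgroup G).subgroupOf X) := S₁.2.comap_subtype
    have hle : (P : Subgroup ↥X) ≤ (S₁ : Subgroup G).subgroupOf X := fun q hq => hP_le q hq
    have heq := P.is_maximal' hQ2 hle
    have : (⟨a, haX⟩ : ↥X) ∈ (S₁ : Subgroup G).subgroupOf X := hAS₁ ha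
    rw [heq] at this
    exact this
  have hWC : ∀ q ∈ Subgroup.zpowers (⟨a, haX⟩ : ↥X), ∀ g : ↥X,
      g * q * g⁻¹ ∈ (P : Subgroup ↥X) → g * q * g⁻¹ = q := by
    intro q hq g hg
    obtain ⟨i, rfl⟩ := Subgroup.mem_zpowers_iff.mp hq
    obtain ⟨h', hh', j, hgj⟩ := hXdec g g.2
    have h1 := hP_le _ hg
    have h2 : ((g * (⟨a, haX⟩ : ↥X) ^ i * g⁻¹ : ↥X) : G) = h' * a ^ i * h'⁻¹ := by
      simp only [Subgroup.coe_mul, Subgroup.coe_inv, Subgroup.coe_zpow, hgj]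
      have : a ^ j * a ^ i * (a ^ j)⁻¹ = a ^ i := by
        rw [← zpow_neg, ← zpow_add, ← zpow_add]; congr 1; ring
      calc h' * a ^ j * a ^ i * (h' * a ^ j)⁻¹ = h' * (a ^ j * a ^ i * (a ^ j)⁻¹) * h'⁻¹ := by
            group
        _ = h' * a ^ i * h'⁻¹ := by rw [this]
    rw [h2] at h1
    have h3 := hstar (a ^ i) (A.zpow_mem ha i) h' hh' h1
    apply Subtype.ext
    rw [h2, h3]
    simp
  have key := Cfsg.Agent.Lib.Helper8.zstar_weakly_closed P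
    (Subgroup.zpowers_le.mpr haP) hWC (Subgroup.mem_zpowers (⟨a, haX⟩ : ↥X))
    (⟨h₀, hHX hh₀⟩ : ↥X)
  -- the odd core of `X` meets `H` in a normal subgroup of odd order
  obtain ⟨N, hN⟩ : ∃ N : Subgroup ↥H,
      N = ((pPrimeCore 2 ↥X).map X.subtype).subgroupOf H := ⟨_, rfl⟩
  have hOXn : (pPrimeCore 2 ↥X).Normal := (Cfsg.Agent.Lib.Helper6.pPrimeCore_mem_set 2).1
  have hNn : N.Normal := by
    constructor
    intro n hn k
    rw [hN] at hn ⊢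
    obtain ⟨o, ho, hon⟩ := hn
    refine ⟨(⟨k, hHX k.2⟩ : ↥X) * o * (⟨k, hHX k.2⟩ : ↥X)⁻¹, hOXn.conj_mem o ho _, ?_⟩
    simp only [Subgroup.subtype_apply, Subgroup.coe_mul, Subgroup.coe_inv] at hon ⊢
    rw [hon]
  have hNc : (Nat.card N).Coprime 2 := by
    have h1 : N.map H.subtype ≤ (pPrimeCore 2 ↥X).map X.subtype := by
      rw [hN]
      exact Subgroup.map_comap_le _ _
    have h2 := Subgroup.card_dvd_of_le h1
    rw [Subgroup.card_map_of_injective H.subtype_injective,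
      Subgroup.card_map_of_injective X.subtype_injective] at h2
    exact Nat.Coprime.coprime_dvd_left h2 (Cfsg.Agent.Lib.Helper6.pPrimeCore_coprime 2)
  have hNle : N ≤ pPrimeCore 2 ↥H := Cfsg.Agent.Lib.Helper6.le_pPrimeCore hNn hNc
  rw [hO] at hNle
  have haN := hAH ha
  rw [Subgroup.mem_normalizer_iff] at haN
  have hcH : a * h₀ * a⁻¹ * h₀⁻¹ ∈ H := H.mul_mem ((haN h₀).mp hh₀) (H.inv_mem hh₀)
  have hcN : (⟨a * h₀ * a⁻¹ * h₀⁻¹, hcH⟩ : ↥H) ∈ N := by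
    rw [hN]
    exact ⟨_, key, rfl⟩
  have h1 := hNle hcN
  rw [Subgroup.mem_bot] at h1
  have h2 : a * h₀ * a⁻¹ * h₀⁻¹ = 1 := congrArg Subtype.val h1
  calc h₀ * a = (a * h₀ * a⁻¹ * h₀⁻¹)⁻¹ * (a * h₀) := by group
    _ = a * h₀ := by rw [h2, inv_one, one_mul]

end Cfsg.Agent.Lib.Lead.StrongClosedCent
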