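import Mathlib
import Cfsg.Agent.Lib.Helper9.GReal4

set_option autoImplicit false

/-!
S5965 mini-swarm, package PK-IDX: a prime `r ≠ p` dividing the index of the subfield subgroup of
`SL_n(q₀^k)` divides a geometric sum `∑_{t<k} (q₀^j)^t` with `2 ≤ j ≤ n`.
-/

namespace Cfsg.Agent.Lib.Helper6.SubF

open Cfsg.Agent.Lib.Helper9.H9GReal

/-- `(y+1)^k = y * ∑_{t<k} (y+1)^t + 1` -/
theorem idx_geom (y k : ℕ) : (y + 1) ^ k = y * ∑ t ∈ Finset.range k, (y + 1) ^ t + 1 := by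
  induction k with
  | zero => simp
  | succ k ih =>
    rw [Finset.sum_range_succ, pow_succ]
    generalize (y + 1) ^ k = a at ih ⊢
    generalize ∑ t ∈ Finset.range k, (y + 1) ^ t = S at ih ⊢
    subst ih
    ring

theorem idx_geom' (x k : ℕ) (hx : 1 ≤ x) :
    x ^ k = (x - 1) * ∑ t ∈ Finset.range k, x ^ t + 1 := by
  obtain ⟨y, rfl⟩ : ∃ y, x = y + 1 := ⟨x - 1, by omega⟩
  rw [Nat.add_sub_cancel]
  exact idx_geom y k

/-- the `i`-th factor of `|GL_n(Q^k)|` against that of `|GL_n(Q)|` -/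
theorem idx_term (Q k n i : ℕ) (hQ : 1 ≤ Q) (hk : 1 ≤ k) (hi : i < n) :
    (Q ^ k) ^ n - (Q ^ k) ^ i =
      (Q ^ n - Q ^ i) * (Q ^ ((k - 1) * i) * ∑ t ∈ Finset.range k, (Q ^ (n - i)) ^ t) := by
  obtain ⟨m, hm⟩ : ∃ m, n = i + m := ⟨n - i, by omega⟩
  have hmi : n - i = m := by omega
  rw [hmi]
  have hpos : 1 ≤ Q ^ m := Nat.one_le_pow _ _ hQ
  have hS := idx_geom' (Q ^ m) k hpos
  set S := ∑ t ∈ Finset.range k, (Q ^ m) ^ t with hSdef
  have e1 : (Q ^ k) ^ n = (Q ^ k) ^ i * ((Q ^ m - 1) * S + 1) := by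
    rw [← hS, hm, pow_add, ← pow_mul, ← pow_mul, ← pow_mul, mul_comm m k]
  have e2 : Q ^ n = Q ^ i * Q ^ m := by rw [hm, pow_add]
  have e3 : (Q ^ k) ^ i = Q ^ i * Q ^ ((k - 1) * i) := by
    rw [← pow_mul, ← pow_add]
    congr 1
    have : k = 1 + (k - 1) := by omega
    nth_rewrite 1 [this]
    ring
  rw [e1, e2, Nat.mul_add, Nat.mul_one, Nat.add_sub_cancel, e3]
  have : Q ^ i * Q ^ m - Q ^ i = Q ^ i * (Q ^ m - 1) := by
    rw [Nat.mul_sub_one]
  rw [this]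
  ring

section index
variable {F : Type*} [Field F] [Fintype F] {n : ℕ}

local notation "Mat" => Matrix (Fin n) (Fin n) F

/-- the index of `SL_n(F₀)` in `SL_n(F)` -/
theorem idx_index_range (n' : ℕ) (F₀ : Subfield F) (Q k : ℕ) (hk : 1 ≤ k)
    (hF₀ : Nat.card F₀ = Q) (hq : Fintype.card F = Q ^ k) :
    ∃ I : ℕ, ((Cfsg.Geo.subfieldSubgroup F₀ (1 : GL (Fin (n' + 1)) F)).comap
        (Matrix.SpecialLinearGroup.toGL :
          Matrix.SpecialLinearGroup (Fin (n' + 1)) F →* GL (Fin (n' + 1)) F)).index ∣ I ∧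
      I = (∏ i ∈ Finset.range n',
          (Q ^ ((k - 1) * i) * ∑ t ∈ Finset.range k, (Q ^ (n' + 1 - i)) ^ t)) *
        Q ^ ((k - 1) * n') := by
  classical
  let _ : Fintype F₀ := Fintype.ofFinite F₀
  have hcard₀ : Fintype.card F₀ = Q := by rw [← Nat.card_eq_fintype_card, hF₀]
  set φ : Matrix.SpecialLinearGroup (Fin (n' + 1)) F₀ →*
      Matrix.SpecialLinearGroup (Fin (n' + 1)) F :=
    Matrix.SpecialLinearGroup.map (F₀.subtype : F₀ →+* F) with hφ
  have hφinj : Function.Injective φ := by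
    intro A B hAB
    apply Matrix.SpecialLinearGroup.ext
    intro i j
    have h1 := congrArg (fun g : Matrix.SpecialLinearGroup (Fin (n' + 1)) F =>
      (g : Matrix (Fin (n' + 1)) (Fin (n' + 1)) F) i j) hAB
    simp only [hφ, Matrix.SpecialLinearGroup.map_apply_coe, RingHom.mapMatrix_apply,
      Matrix.map_apply] at h1
    exact Subtype.ext h1
  have hle : φ.range ≤ (Cfsg.Geo.subfieldSubgroup F₀ (1 : GL (Fin (n' + 1)) F)).comap
      (Matrix.SpecialLinearGroup.toGL :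
        Matrix.SpecialLinearGroup (Fin (n' + 1)) F →* GL (Fin (n' + 1)) F) := by
    rintro _ ⟨A, rfl⟩
    rw [Subgroup.mem_comap, mem_subfieldSubgroup_one_iff]
    refine ⟨1, one_ne_zero, ?_⟩
    intro i j
    refine ⟨(A i j : F), (A i j).2, ?_⟩
    rw [Matrix.SpecialLinearGroup.coe_GL_coe_matrix, one_mul]
    simp [hφ, Matrix.SpecialLinearGroup.map_apply_coe]
  refine ⟨φ.range.index, Subgroup.index_dvd_of_le hle, ?_⟩
  have hcardS : Nat.card φ.range = Nat.card (Matrix.SpecialLinearGroup (Fin (n' + 1)) F₀) :=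
    (Nat.card_congr (MonoidHom.ofInjective hφinj).toEquiv).symm
  have hlag := φ.range.card_mul_index
  rw [hcardS] at hlag
  have E1 := Cfsg.Agent.Lib.Helper1.card_SL_field (F := F) (n' + 1) (by omega)
  have E2 := Cfsg.Agent.Lib.Helper1.card_SL_field (F := F₀) (n' + 1) (by omega)
  rw [hcard₀] at E2
  rw [hq] at E1
  have hQ1 : 1 < Q := by
    have : 1 < Nat.card F₀ := Finite.one_lt_card
    omega
  -- the geometric sums
  set c : ℕ → ℕ := fun i => Q ^ ((k - 1) * i) * ∑ t ∈ Finset.range k, (Q ^ (n' + 1 - i)) ^ t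
    with hc
  set S₁ := ∑ t ∈ Finset.range k, Q ^ t with hS₁
  have hcn : c n' = Q ^ ((k - 1) * n') * S₁ := by
    show Q ^ ((k - 1) * n') * ∑ t ∈ Finset.range k, (Q ^ (n' + 1 - n')) ^ t = _
    rw [Nat.add_sub_cancel_left, pow_one]
  have hprod : ∏ i : Fin (n' + 1), ((Q ^ k) ^ (n' + 1) - (Q ^ k) ^ (i : ℕ))
      = (∏ i : Fin (n' + 1), (Q ^ (n' + 1) - Q ^ (i : ℕ))) * ∏ i ∈ Finset.range (n' + 1), c i := by
    rw [← Fin.prod_univ_eq_prod_range c (n' + 1), ← Finset.prod_mul_distrib]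
    apply Finset.prod_congr rfl
    intro i _
    exact idx_term Q k (n' + 1) i (by omega) hk i.2
  have hQk : Q ^ k - 1 = (Q - 1) * S₁ := by
    have h := idx_geom' Q k (by omega)
    rw [← hS₁] at h
    rw [h, Nat.add_sub_cancel]
  have hposSL : 0 < Nat.card (Matrix.SpecialLinearGroup (Fin (n' + 1)) F₀) := Nat.card_pos
  have hS₁pos : 0 < S₁ := by
    have hk' : k = (k - 1) + 1 := by omega
    rw [hS₁, hk', Finset.sum_range_succ]
    have : 0 < Q ^ (k - 1) := Nat.pow_pos (by omega)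
    omega
  have hkey : ((Q - 1) * Nat.card (Matrix.SpecialLinearGroup (Fin (n' + 1)) F₀) * S₁) * φ.range.index
      = ((Q - 1) * Nat.card (Matrix.SpecialLinearGroup (Fin (n' + 1)) F₀) * S₁) *
        ((∏ i ∈ Finset.range n', c i) * Q ^ ((k - 1) * n')) := by
    calc ((Q - 1) * Nat.card (Matrix.SpecialLinearGroup (Fin (n' + 1)) F₀) * S₁) * φ.range.index
        = ((Q - 1) * S₁) *
          (Nat.card (Matrix.SpecialLinearGroup (Fin (n' + 1)) F₀) * φ.range.index) := by ring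
      _ = (Q ^ k - 1) * Nat.card (Matrix.SpecialLinearGroup (Fin (n' + 1)) F) := by
          rw [hlag, hQk]
      _ = ∏ i : Fin (n' + 1), ((Q ^ k) ^ (n' + 1) - (Q ^ k) ^ (i : ℕ)) := E1
      _ = (∏ i : Fin (n' + 1), (Q ^ (n' + 1) - Q ^ (i : ℕ))) *
            ∏ i ∈ Finset.range (n' + 1), c i := hprod
      _ = ((Q - 1) * Nat.card (Matrix.SpecialLinearGroup (Fin (n' + 1)) F₀)) *
            ((∏ i ∈ Finset.range n', c i) * (Q ^ ((k - 1) * n') * S₁)) := by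
          rw [E2, Finset.prod_range_succ, hcn]
      _ = _ := by ring
  have hpos : 0 < (Q - 1) * Nat.card (Matrix.SpecialLinearGroup (Fin (n' + 1)) F₀) * S₁ :=
    Nat.mul_pos (Nat.mul_pos (by omega) hposSL) hS₁pos
  exact Nat.eq_of_mul_eq_mul_left hpos hkey

end index

/-- PK-IDX -/
theorem exists_dvd_geom_of_dvd_index {F : Type*} [Field F] [Fintype F] {p : ℕ} [Fact p.Prime]
    [CharP F p] (n : ℕ) (hn : 2 ≤ n) (F₀ : Subfield F) (k q₀ : ℕ) (hk : 1 ≤ k)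
    (hF₀ : Nat.card ↥F₀ = q₀) (hq : Fintype.card F = q₀ ^ k) (r : ℕ) (hr : r.Prime) (hrp : r ≠ p)
    (hΩ : r ∣ ((Cfsg.Geo.subfieldSubgroup F₀ (1 : GL (Fin n) F)).comap
      (Matrix.SpecialLinearGroup.toGL :
        Matrix.SpecialLinearGroup (Fin n) F →* GL (Fin n) F)).index) :
    ∃ j, 2 ≤ j ∧ j ≤ n ∧ r ∣ ∑ t ∈ Finset.range k, (q₀ ^ j) ^ t := by
  obtain ⟨n', rfl⟩ : ∃ n', n = n' + 1 := ⟨n - 1, by omega⟩
  obtain ⟨I, hI, hIeq⟩ := idx_index_range n' F₀ q₀ k hk hF₀ hq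
  have hrI : r ∣ I := hΩ.trans hI
  -- `r` does not divide `q₀`
  have hrq : ¬ r ∣ q₀ := by
    intro h
    obtain ⟨f, -, hf⟩ := FiniteField.card F p
    have h1 : r ∣ p ^ (f : ℕ) := by
      rw [← hf, hq]
      exact h.trans (dvd_pow_self _ (by omega))
    have h2 : r ∣ p := hr.dvd_of_dvd_pow h1
    exact hrp ((Nat.prime_dvd_prime_iff_eq hr (Fact.out : p.Prime)).1 h2)
  rw [hIeq] at hrI
  rcases (Nat.Prime.dvd_mul hr).1 hrI with h | h
  · obtain ⟨i, hi, hdvd⟩ := (Prime.dvd_finsetProd_iff hr.prime _).1 h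
    rw [Finset.mem_range] at hi
    rcases (Nat.Prime.dvd_mul hr).1 hdvd with h' | h'
    · exact absurd (hr.dvd_of_dvd_pow h') hrq
    · exact ⟨n' + 1 - i, by omega, by omega, h'⟩
  · exact absurd (hr.dvd_of_dvd_pow h) hrq

end Cfsg.Agent.Lib.Helper6.SubF
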