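import Mathlib
import Cfsg.Agent.Lib.Lead.Subnormalizer1

set_option autoImplicit false

namespace Cfsg.Agent.Lib.Lead.Subnormalizer

open Cfsg

universe u

variable {G : Type u} [Group G] [Finite G]

theorem subnormalizer_iff {p : ℕ} [Fact p.Prime] (H : Subgroup G) (hH : IsPGroup p H) (g : G) :
    ((H).subgroupOf (H ⊔ Subgroup.zpowers g)).IsSubnormal ↔
      ∃ R : Subgroup G, H ≤ R ∧ pCoreOf p (Subgroup.normalizer (R : Set G)) = R ∧
        g ∈ Subgroup.normalizer (R : Set G) := by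
  constructor
  · intro h
    rw [subnormal_iff le_sup_left hH] at h
    have hg : g ∈ Subgroup.normalizer
        ((pCoreOf p (H ⊔ Subgroup.zpowers g) : Subgroup G) : Set G) :=
      le_normalizer_pCoreOf p _ (Subgroup.mem_sup_right (Subgroup.mem_zpowers g))
    obtain ⟨R, h1, h2, h3⟩ := exists_radical (Cfsg.Agent.Lib.Helper6.pCoreOf_isPGroup p _) hg
    exact ⟨R, h.trans h1, h2, h3⟩
  · rintro ⟨R, h1, h2, h3⟩
    rw [subnormal_iff le_sup_left hH]
    have hR : IsPGroup p R := by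
      rw [← h2]; exact Cfsg.Agent.Lib.Helper6.pCoreOf_isPGroup p _
    exact le_pCoreOf_sup_zpowers h1 hR h3

theorem subnormalizer_main (p : ℕ) [Fact p.Prime] (H : Subgroup G) (hH : IsPGroup p H) :
    {g : G | ((H).subgroupOf (H ⊔ Subgroup.zpowers g)).IsSubnormal} =
      {g : G | ∃ R : Subgroup G, H ≤ R ∧ (Cfsg.pCore p (Subgroup.normalizer (R : Set G))).map (Subgroup.normalizer (R : Set G)).subtype = R ∧ g ∈ Subgroup.normalizer (R : Set G)} ∧
    ∀ g : G, (((H).subgroupOf (H ⊔ Subgroup.zpowers g)).IsSubnormal ↔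
      (((sInf {K : Subgroup G | ∃ Q : Sylow p G, H ≤ (Q : Subgroup G) ∧ K = (Q : Subgroup G)})).subgroupOf ((sInf {K : Subgroup G | ∃ Q : Sylow p G, H ≤ (Q : Subgroup G) ∧ K = (Q : Subgroup G)}) ⊔ Subgroup.zpowers g)).IsSubnormal) := by
  refine ⟨?_, ?_⟩
  · ext g
    exact subnormalizer_iff H hH g
  · intro g
    set Hs := sInf {K : Subgroup G | ∃ Q : Sylow p G, H ≤ (Q : Subgroup G) ∧ K = (Q : Subgroup G)}
      with hHs
    have hHHs : H ≤ Hs := by
      apply le_sInf
      rintro K ⟨Q, hQ, rfl⟩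
      exact hQ
    obtain ⟨Q₀, hQ₀⟩ := hH.exists_le_sylow
    have hHsp : IsPGroup p Hs := Q₀.2.to_le (sInf_le ⟨Q₀, hQ₀, rfl⟩)
    constructor
    · intro h
      obtain ⟨R, h1, h2, h3⟩ := (subnormalizer_iff H hH g).mp h
      have hR : IsPGroup p R := by
        rw [← h2]; exact Cfsg.Agent.Lib.Helper6.pCoreOf_isPGroup p _
      have hHsR : Hs ≤ R := by
        rw [← radical_eq_sInf h2]
        apply le_sInf
        rintro K ⟨Q, hQ, rfl⟩
        exact sInf_le ⟨Q, h1.trans hQ, rfl⟩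
      rw [subnormal_iff le_sup_left hHsp]
      exact le_pCoreOf_sup_zpowers hHsR hR h3
    · intro h
      rw [subnormal_iff le_sup_left hHsp] at h
      rw [subnormal_iff le_sup_left hH]
      have hXX : H ⊔ Subgroup.zpowers g ≤ Hs ⊔ Subgroup.zpowers g := sup_le_sup_right hHHs _
      refine le_trans ?_ (pCoreOf_inf_le hXX)
      exact le_inf (hHHs.trans h) le_sup_left

end Cfsg.Agent.Lib.Lead.Subnormalizer
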