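import Cfsg.Agent.Lib.Lead.SylowNum1

set_option autoImplicit false

/-!
# M. Hall's theorem on the number of Sylow subgroups: reduction formulas
-/

namespace Cfsg.Agent.Lib.Lead.SylowNum

open scoped Pointwise

open Cfsg.Agent.Lib.Lead Cfsg.Agent.Lib.Lead.HallCount

universe u

variable {G : Type u} [Group G]

/-- (F3) the Sylow number is unchanged modulo a normal `p`-subgroup -/
theorem card_sylow_quotient_pgroup [Finite G] (p : ℕ) [Fact p.Prime] (Q : Subgroup G) [Q.Normal]
    (hQ : IsPGroup p Q) : Nat.card (Sylow p G) = Nat.card (Sylow p (G ⧸ Q)) := by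
  obtain ⟨P⟩ : Nonempty (Sylow p G) := inferInstance
  have hQP : Q ≤ P := normal_pgroup_le_sylow p Q hQ P
  have hsurj : Function.Surjective (QuotientGroup.mk' Q) := QuotientGroup.mk'_surjective Q
  have hm' : Nat.card ((P : Subgroup G).map (QuotientGroup.mk' Q)) =
      p ^ (Nat.card (G ⧸ Q)).factorization p :=
    (P.mapSurjective hsurj).card_eq_multiplicity
  rw [card_sylow_eq_hc, card_sylow_eq_hc]
  exact count_quotient_le Q P _ _ P.card_eq_multiplicity hQP hm'
    (conj_of_card_sylow p _ rfl) (conj_of_card_sylow p _ rfl)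

/-- (F2') the Sylow number through a normal subgroup with a non-normal Sylow subgroup -/
theorem card_sylow_eq_mul_normalizer [Finite G] (p : ℕ) [Fact p.Prime] (K : Subgroup G)
    [K.Normal] (Q₀ : Sylow p K) :
    Nat.card (Sylow p G) = Nat.card (Sylow p K) *
      Nat.card (Sylow p (Subgroup.normalizer (((Q₀ : Subgroup K).map K.subtype : Subgroup G) :
        Set G))) := by
  have hQcard : Nat.card ((Q₀ : Subgroup K).map K.subtype) = p ^ (Nat.card K).factorization p :=
    (sylow_card_facts K p Q₀).1
  have hQK : (Q₀ : Subgroup K).map K.subtype ≤ K := Subgroup.map_subtype_le _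
  have hQp : IsPGroup p ((Q₀ : Subgroup K).map K.subtype) := Q₀.2.map _
  obtain ⟨P, hQP⟩ := hQp.exists_le_sylow
  -- P ⊓ K = Q
  have hPK : (P : Subgroup G) ⊓ K = (Q₀ : Subgroup K).map K.subtype := by
    symm
    apply Subgroup.eq_of_le_of_card_ge (le_inf hQP hQK)
    rw [hQcard]
    have h1 : IsPGroup p ((P : Subgroup G) ⊓ K : Subgroup G) := P.2.to_le inf_le_left
    obtain ⟨n, hn⟩ := IsPGroup.iff_card.mp h1
    have h2 : Nat.card ((P : Subgroup G) ⊓ K : Subgroup G) ∣ Nat.card K :=
      Subgroup.card_dvd_of_le inf_le_right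
    rw [hn] at h2 ⊢
    have hp : p.Prime := Fact.out
    have := (hp.pow_dvd_iff_le_factorization Nat.card_pos.ne').mp h2
    exact Nat.pow_le_pow_right hp.pos this
  -- N_G(P) ≤ N_G(Q)
  have hNN : Subgroup.normalizer ((P : Subgroup G) : Set G) ≤
      Subgroup.normalizer (((Q₀ : Subgroup K).map K.subtype : Subgroup G) : Set G) := by
    intro g hg
    rw [mem_normalizer_iff_conj_smul] at hg ⊢
    rw [← hPK, Subgroup.smul_inf, hg, Subgroup.Normal.conj_smul_eq_self]
  have hPN : (P : Subgroup G) ≤
      Subgroup.normalizer (((Q₀ : Subgroup K).map K.subtype : Subgroup G) : Set G) :=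
    Subgroup.le_normalizer.trans hNN
  have hPc : Nat.card (P : Subgroup G) = p ^ (Nat.card (Subgroup.normalizer
      (((Q₀ : Subgroup K).map K.subtype : Subgroup G) : Set G))).factorization p := by
    rw [factorization_eq_of_le p _ P hPN P.card_eq_multiplicity]
    exact P.card_eq_multiplicity
  have e1 := card_sylow_subgroup_eq_relIndex p _ (P : Subgroup G) hPN hPc
  have e2 := card_sylow_subgroup_eq_relIndex p K _ hQK hQcard
  have e3 : (Subgroup.normalizer (((Q₀ : Subgroup K).map K.subtype : Subgroup G) : Set G)).index =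
      (Subgroup.normalizer (((Q₀ : Subgroup K).map K.subtype : Subgroup G) : Set G)).relIndex K :=
    index_eq_relIndex_of_sup_eq_top _ K (Sylow.normalizer_sup_eq_top Q₀)
  rw [Sylow.card_eq_index_normalizer P]
  change (Subgroup.normalizer ((P : Subgroup G) : Set G)).index = _
  rw [← Subgroup.relIndex_mul_index hNN, e1, e2, e3, mul_comm]
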