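import Cfsg.Agent.Lib.Lead.SylowNum3

set_option autoImplicit false

/-!
# M. Hall's theorem on the number of Sylow subgroups: the induction
-/

namespace Cfsg.Agent.Lib.Lead.SylowNum

open scoped Pointwise

open Cfsg.Agent.Lib.Lead Cfsg.Agent.Lib.Lead.HallCount

universe u

/-- the admissible factors -/
def GoodF (p m : ℕ) : Prop :=
  (IsPrimePow m ∧ m % p = 1) ∨
    ∃ (S : Type u) (_ : Group S) (_ : Finite S), IsSimpleGroup S ∧ m = Nat.card (Sylow p S)

/-- the statement for one group -/
def HallFac (p : ℕ) (G : Type u) [Group G] : Prop :=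
  ∃ l : List ℕ, l.prod = Nat.card (Sylow p G) ∧ ∀ m ∈ l, GoodF.{u} p m

theorem hallFac_mul (p : ℕ) {G H K : Type u} [Group G] [Group H] [Group K]
    (hH : HallFac p H) (hK : HallFac p K)
    (h : Nat.card (Sylow p G) = Nat.card (Sylow p H) * Nat.card (Sylow p K)) : HallFac p G := by
  obtain ⟨l₁, h1, h1'⟩ := hH
  obtain ⟨l₂, h2, h2'⟩ := hK
  refine ⟨l₁ ++ l₂, by rw [List.prod_append, h1, h2, h], ?_⟩
  intro m hm
  rcases List.mem_append.mp hm with hm | hm
  · exact h1' m hm
  · exact h2' m hm

/-- a number all of whose prime-power parts are `1` mod `p` is a product of good factors -/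
theorem exists_list_of_prime_pow_modEq (p : ℕ) (hp : p.Prime) (b : ℕ) (hb : b ≠ 0)
    (h : ∀ q : ℕ, q.Prime → q ^ b.factorization q ≡ 1 [MOD p]) :
    ∃ l : List ℕ, l.prod = b ∧ ∀ m ∈ l, GoodF.{u} p m := by
  refine ⟨b.primeFactors.toList.map (fun q => q ^ b.factorization q), ?_, ?_⟩
  · rw [Finset.prod_map_toList]
    exact Nat.factorization_prod_pow_eq_self hb
  · intro m hm
    obtain ⟨q, hq, rfl⟩ := List.mem_map.mp hm
    rw [Finset.mem_toList] at hq
    have hqp : q.Prime := Nat.prime_of_mem_primeFactors hq
    left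
    refine ⟨⟨q, b.factorization q, hqp.prime, ?_, rfl⟩, ?_⟩
    · exact (hqp.factorization_pos_of_dvd hb (Nat.dvd_of_mem_primeFactors hq))
    · have := h q hqp
      unfold Nat.ModEq at this
      rw [this]
      exact Nat.mod_eq_of_lt hp.one_lt

theorem hallFac_main (p : ℕ) [Fact p.Prime] (n : ℕ) :
    ∀ (G : Type u) [Group G] [Finite G], Nat.card G = n → HallFac p G := by
  have hp : p.Prime := Fact.out
  induction n using Nat.strong_induction_on with
  | _ n ih =>
    intro G _ _ hn
    by_cases htriv : Subsingleton G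
    · refine ⟨[], ?_, by simp⟩
      rw [List.prod_nil]
      have : Subsingleton (Sylow p G) := by
        refine ⟨fun P Q => Sylow.ext ?_⟩
        exact Subsingleton.elim _ _
      exact (Nat.card_unique).symm
    rw [not_subsingleton_iff_nontrivial] at htriv
    by_cases hsimple : IsSimpleGroup G
    · exact ⟨[Nat.card (Sylow p G)], by simp, fun m hm => by
        rw [List.mem_singleton] at hm
        exact Or.inr ⟨G, inferInstance, inferInstance, hsimple, hm⟩⟩
    -- a proper nontrivial normal subgroup
    obtain ⟨K, hKn, hKbot, hKtop⟩ : ∃ K : Subgroup G, K.Normal ∧ K ≠ ⊥ ∧ K ≠ ⊤ := by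
      by_contra hcon
      apply hsimple
      refine { exists_pair_ne := htriv.exists_pair_ne, eq_bot_or_eq_top_of_normal := ?_ }
      intro H hH
      by_contra hne
      rw [not_or] at hne
      exact hcon ⟨H, hH, hne.1, hne.2⟩
    have hKlt : Nat.card K < n := by
      rw [← hn]
      apply lt_of_le_of_ne (Subgroup.card_le_card_group K)
      intro h
      exact hKtop ((Subgroup.card_eq_iff_eq_top K).mp h)
    obtain ⟨Q₀⟩ : Nonempty (Sylow p K) := inferInstance
    by_cases hN : Subgroup.normalizer (((Q₀ : Subgroup K).map K.subtype : Subgroup G) : Set G) = ⊤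
    · -- Q is normal
      have hQn : ((Q₀ : Subgroup K).map K.subtype : Subgroup G).Normal :=
        Subgroup.normalizer_eq_top_iff.mp hN
      by_cases hQbot : ((Q₀ : Subgroup K).map K.subtype : Subgroup G) = ⊥
      · -- K is a p'-group
        have hK : ¬ p ∣ Nat.card K := by
          intro hd
          have h1 := (sylow_card_facts K p Q₀).1
          rw [hQbot, Subgroup.card_bot] at h1
          have h2 : (Nat.card K).factorization p = 0 := by
            by_contra h0
            have : 1 < p ^ (Nat.card K).factorization p := Nat.one_lt_pow h0 hp.one_lt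
            omega
          have h3 := (hp.factorization_pos_of_dvd Nat.card_pos.ne' hd)
          omega
        obtain ⟨b, hb0, hb1, hb2⟩ := card_sylow_pprime_normal p K hK
        obtain ⟨l₂, hl2, hl2'⟩ := exists_list_of_prime_pow_modEq.{u} p hp b hb0 hb2
        have hQlt : Nat.card (G ⧸ K) < n := by
          rw [← hn, Subgroup.card_eq_card_quotient_mul_card_subgroup K]
          have h1 : 1 < Nat.card K := by
            rw [Subgroup.one_lt_card_iff_ne_bot]; exact hKbot
          have h2 : 0 < Nat.card (G ⧸ K) := Nat.card_pos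
          nlinarith
        obtain ⟨l₁, hl1, hl1'⟩ := ih _ hQlt (G ⧸ K) rfl
        refine ⟨l₁ ++ l₂, by rw [List.prod_append, hl1, hl2, hb1], ?_⟩
        intro m hm
        rcases List.mem_append.mp hm with hm | hm
        · exact hl1' m hm
        · exact hl2' m hm
      · -- pass to G ⧸ Q
        have hQlt : Nat.card (G ⧸ ((Q₀ : Subgroup K).map K.subtype : Subgroup G)) < n := by
          rw [← hn, Subgroup.card_eq_card_quotient_mul_card_subgroup
            ((Q₀ : Subgroup K).map K.subtype : Subgroup G)]
          have h1 : 1 < Nat.card ((Q₀ : Subgroup K).map K.subtype : Subgroup G) := by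
            rw [Subgroup.one_lt_card_iff_ne_bot]; exact hQbot
          have h2 : 0 < Nat.card (G ⧸ ((Q₀ : Subgroup K).map K.subtype : Subgroup G)) :=
            Nat.card_pos
          nlinarith
        obtain ⟨l₁, hl1, hl1'⟩ := ih _ hQlt (G ⧸ ((Q₀ : Subgroup K).map K.subtype : Subgroup G)) rfl
        refine ⟨l₁, ?_, hl1'⟩
        rw [hl1]
        exact (card_sylow_quotient_pgroup p _ (Q₀.2.map K.subtype)).symm
    · -- Q is not normal
      have hNlt : Nat.card (Subgroup.normalizer
          (((Q₀ : Subgroup K).map K.subtype : Subgroup G) : Set G)) < n := by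
        rw [← hn]
        apply lt_of_le_of_ne (Subgroup.card_le_card_group _)
        intro h
        exact hN ((Subgroup.card_eq_iff_eq_top _).mp h)
      exact hallFac_mul p (ih _ hKlt K rfl) (ih _ hNlt _ rfl)
        (card_sylow_eq_mul_normalizer p K Q₀)

theorem hallFac (p : ℕ) [Fact p.Prime] (G : Type u) [Group G] [Finite G] : HallFac p G :=
  hallFac_main p _ G rfl

end Cfsg.Agent.Lib.Lead.SylowNum
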