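import Cfsg.Agent.Lib.Lead.SylowNum3
import Cfsg.Agent.Lib.Lead.Carter3
import Cfsg.Agent.Lib.Helper2.SystemNormalizer
import Cfsg.Agent.Lib.Helper2.MinNormal
import Cfsg.Agent.Lib.Lead.SCN

set_option autoImplicit false

/-!
# Carter subgroups and system normalizers: non-normal maximal subgroups
-/

namespace Cfsg.Agent.Lib.Lead.SysNorm

open scoped Pointwise

open Cfsg.Agent.Lib.Lead Cfsg.Agent.Lib.Helper2

universe u

variable {G : Type u} [Group G]

/-- a `p`-complement, without naming the exponent -/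
def IsPCompl (p : ℕ) (L : Subgroup G) : Prop :=
  ¬ p ∣ Nat.card L ∧ ∃ j : ℕ, L.index = p ^ j

/-- in a solvable group with a core-free maximal subgroup `M ≠ 1`: the index of `M` is a prime
power `p ^ k`, and normalizers of `p`-complements inside `M` lie in `M` -/
theorem normalizer_le_of_coreFree [Finite G] [Group.IsSolvable G] (M : Subgroup G)
    (hM : IsCoatom M) (hcore : M.normalCore = ⊥) (hMbot : M ≠ ⊥) :
    ∃ p : ℕ, p.Prime ∧ (∃ k : ℕ, M.index = p ^ k) ∧
      ∀ L : Subgroup G, L ≤ M → IsPCompl p L → Subgroup.normalizer (L : Set G) ≤ M := by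
  have hGnt : Nontrivial G := by
    rw [← not_subsingleton_iff_nontrivial]
    intro hs
    exact hM.1 (Subsingleton.elim _ _)
  obtain ⟨U, hUn, hU1, hUmin⟩ := exists_minNormal (G := G)
  have hc := isMulCommutative_of_minNormal_of_solvable U hU1 hUmin
  obtain ⟨p, hp, -, d, hd, hcardU⟩ := exists_prime_pow_of_minNormal_abelian U hU1 hUmin hc
  have hpf : Fact p.Prime := ⟨hp⟩
  have hMU : M ⊔ U = ⊤ := sup_eq_top_of_coreFree M hM hcore U hU1
  have hMU' : M ⊓ U = ⊥ := inf_eq_bot_of_coreFree_abelian M hM hcore U hc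
  have hCM : Subgroup.centralizer (U : Set G) ⊓ M = ⊥ :=
    centralizer_inf_eq_bot_of_coreFree M hM hcore U hU1
  have hMnU : M ≤ Subgroup.normalizer (U : Set G) := by
    rw [Subgroup.normalizer_eq_top]; exact le_top
  have hcardG : Nat.card G = Nat.card M * Nat.card U := by
    have h1 := Cfsg.Agent.Lib.Lead.card_sup_mul_card_inf M U hMnU
    rw [hMU, hMU', Subgroup.card_bot, mul_one, Subgroup.card_top] at h1
    exact h1
  have hidx : M.index = p ^ d := by
    have h1 := M.card_mul_index
    rw [hcardG] at h1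
    have hpos : 0 < Nat.card M := Nat.card_pos
    rw [← hcardU]
    exact Nat.eq_of_mul_eq_mul_left hpos h1
  refine ⟨p, hp, ⟨d, hidx⟩, ?_⟩
  -- a minimal normal subgroup of `M`
  have hMnt : Nontrivial M := (Subgroup.nontrivial_iff_ne_bot M).mpr hMbot
  obtain ⟨Lm, hLn, hL1, hLmin⟩ := exists_minNormal (G := M)
  have hLc := isMulCommutative_of_minNormal_of_solvable Lm hL1 hLmin
  obtain ⟨r, hr, -, e, he, hcardL⟩ := exists_prime_pow_of_minNormal_abelian Lm hL1 hLmin hLc
  have hL'M : Lm.map M.subtype ≤ M := Subgroup.map_subtype_le Lm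
  have hL'card : Nat.card (Lm.map M.subtype) = r ^ e := by
    rw [card_map_subtype, hcardL]
  have hL'ne : Lm.map M.subtype ≠ ⊥ := by
    intro h
    apply hL1
    rw [← (Subgroup.map_eq_bot_iff_of_injective Lm M.subtype_injective)]
    exact h
  have hMnL : M ≤ Subgroup.normalizer ((Lm.map M.subtype : Subgroup G) : Set G) := by
    intro m hm
    rw [mem_normalizer_iff_conj_smul]
    have h1 : MulAut.conj (⟨m, hm⟩ : M) • Lm = Lm := Subgroup.Normal.conj_smul_eq_self _ _
    have h2 := congrArg (Subgroup.map M.subtype) h1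
    rw [map_conj_smul] at h2
    exact h2
  -- `C_U(L) = 1`
  have hCUL : U ⊓ Subgroup.centralizer ((Lm.map M.subtype : Subgroup G) : Set G) = ⊥ := by
    have hnorm : (U ⊓ Subgroup.centralizer ((Lm.map M.subtype : Subgroup G) : Set G)).Normal := by
      rw [← Subgroup.normalizer_eq_top_iff, eq_top_iff, ← hMU]
      apply sup_le
      · refine le_trans ?_ Subgroup.inf_normalizer_le_normalizer_inf
        exact le_inf hMnU (hMnL.trans (normalizer_le_normalizer_centralizer _))
      · intro u hu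
        rw [Subgroup.mem_normalizer_iff]
        intro x
        have hcomm : ∀ y ∈ U, u * y * u⁻¹ = y := by
          intro y hy
          have := (isMulComm_iff U).mp hc u hu y hy
          rw [this]; group
        constructor
        · intro hx
          rw [hcomm x hx.1]; exact hx
        · intro hx
          have hxU : x ∈ U := by
            have := hUn.conj_mem _ hx.1 u⁻¹
            simpa [mul_assoc] using this
          rw [hcomm x hxU] at hx
          exact hx
    rcases hUmin _ hnorm inf_le_left with h | h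
    · exact h
    · exfalso
      have h1 : U ≤ Subgroup.centralizer ((Lm.map M.subtype : Subgroup G) : Set G) := by
        rw [← h]; exact inf_le_right
      have h2 : Lm.map M.subtype ≤ Subgroup.centralizer (U : Set G) :=
        Subgroup.le_centralizer_iff.mp h1
      apply hL'ne
      rw [eq_bot_iff, ← hCM]
      exact le_inf h2 hL'M
  -- `r ≠ p`
  have hrp : r ≠ p := by
    intro hrp
    have hL'p : IsPGroup p (Lm.map M.subtype) := by
      rw [IsPGroup.iff_card]
      exact ⟨e, by rw [hL'card, hrp]⟩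
    have hLU : Lm.map M.subtype ≤ Subgroup.normalizer (U : Set G) := by
      rw [Subgroup.normalizer_eq_top]; exact le_top
    have h1 := SylowNum.card_modEq_card_inf_centralizer p (Lm.map M.subtype) U hL'p hLU
    rw [hCUL, Subgroup.card_bot, hcardU] at h1
    have h2 : p ^ d ≡ 0 [MOD p] := (Nat.modEq_zero_iff_dvd).mpr (dvd_pow_self p hd.ne')
    have h3 : 1 ≡ 0 [MOD p] := h1.symm.trans h2
    rw [Nat.modEq_zero_iff_dvd] at h3
    exact hp.one_lt.ne' (Nat.dvd_one.mp h3)
  intro L hLM ⟨hLp, j, hLj⟩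
  -- `L' ≤ L`
  have hL'L : Lm.map M.subtype ≤ L := by
    have hLn' : L ≤ Subgroup.normalizer ((Lm.map M.subtype : Subgroup G) : Set G) :=
      hLM.trans hMnL
    have h1 := Cfsg.Agent.Lib.Lead.card_sup_mul_card_inf L (Lm.map M.subtype) hLn'
    have hcop : (Nat.card (L ⊔ Lm.map M.subtype : Subgroup G)).Coprime (p ^ j) := by
      apply Nat.Coprime.pow_right
      have h2 : Nat.card (L ⊔ Lm.map M.subtype : Subgroup G) ∣
          Nat.card L * Nat.card (Lm.map M.subtype) := Dvd.intro _ h1
      apply Nat.Coprime.coprime_dvd_left h2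
      apply Nat.Coprime.mul_left
      · exact ((Nat.Prime.coprime_iff_not_dvd hp).mpr hLp).symm
      · rw [hL'card]
        exact Nat.Coprime.pow_left _ ((Nat.coprime_primes hr hp).mpr hrp)
    have h3 : Nat.card (L ⊔ Lm.map M.subtype : Subgroup G) ∣ Nat.card L * p ^ j := by
      rw [← hLj, L.card_mul_index]
      exact Subgroup.card_subgroup_dvd_card _
    have h4 : Nat.card (L ⊔ Lm.map M.subtype : Subgroup G) ∣ Nat.card L :=
      hcop.dvd_of_dvd_mul_right h3
    have h5 : L ⊔ Lm.map M.subtype = L :=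
      (Subgroup.eq_of_le_of_card_ge le_sup_left (Nat.le_of_dvd Nat.card_pos h4)).symm
    rw [← h5]; exact le_sup_right
  intro x hx
  have hxtop : x ∈ M ⊔ U := by rw [hMU]; exact Subgroup.mem_top x
  obtain ⟨m, hm, v, hv, rfl⟩ := Subgroup.mem_sup_of_normal_right.mp hxtop
  have hvc : v ∈ Subgroup.centralizer ((Lm.map M.subtype : Subgroup G) : Set G) := by
    rw [Subgroup.mem_centralizer_iff]
    intro l hl
    have hlL : l ∈ L := hL'L hl
    have h1 : (m * v) * l * (m * v)⁻¹ ∈ L := (Subgroup.mem_normalizer_iff.mp hx l).mp hlL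
    have h2 : v * l * v⁻¹ ∈ M := by
      have h3 : m⁻¹ * ((m * v) * l * (m * v)⁻¹) * m ∈ M :=
        M.mul_mem (M.mul_mem (M.inv_mem hm) (hLM h1)) hm
      have e : m⁻¹ * ((m * v) * l * (m * v)⁻¹) * m = v * l * v⁻¹ := by group
      rwa [e] at h3
    have h4 : v * l * v⁻¹ * l⁻¹ ∈ M := M.mul_mem h2 (M.inv_mem (hLM hlL))
    have h5 : v * l * v⁻¹ * l⁻¹ ∈ U := by
      have h6 : l * v⁻¹ * l⁻¹ ∈ U := hUn.conj_mem _ (U.inv_mem hv) l
      have e : v * l * v⁻¹ * l⁻¹ = v * (l * v⁻¹ * l⁻¹) := by group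
      rw [e]; exact U.mul_mem hv h6
    have h6 : v * l * v⁻¹ * l⁻¹ ∈ M ⊓ U := ⟨h4, h5⟩
    rw [hMU', Subgroup.mem_bot] at h6
    calc l * v = (v * l * v⁻¹ * l⁻¹)⁻¹ * (v * l) := by group
      _ = v * l := by rw [h6, inv_one, one_mul]
  have hv1 : v ∈ U ⊓ Subgroup.centralizer ((Lm.map M.subtype : Subgroup G) : Set G) := ⟨hv, hvc⟩
  rw [hCUL, Subgroup.mem_bot] at hv1
  rw [hv1, mul_one]; exact hm

end Cfsg.Agent.Lib.Lead.SysNorm
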