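import Cfsg.Agent.Lib.Lead.SysNorm1

set_option autoImplicit false

/-!
# Carter subgroups and system normalizers: maximal subgroups over a Carter subgroup
-/

namespace Cfsg.Agent.Lib.Lead.SysNorm

open scoped Pointwise

open Cfsg.Agent.Lib.Lead Cfsg.Agent.Lib.Helper2

universe u

variable {G : Type u} [Group G]

theorem IsPCompl.map_mk [Finite G] {p : ℕ} (hp : p.Prime) {L : Subgroup G} (hL : IsPCompl p L)
    (R : Subgroup G) [R.Normal] : IsPCompl p (L.map (QuotientGroup.mk' R)) := by
  obtain ⟨h1, j, hj⟩ := hL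
  refine ⟨fun hd => h1 (hd.trans (Subgroup.card_map_dvd L _)), ?_⟩
  have h2 : (L.map (QuotientGroup.mk' R)).index = (L ⊔ R).index := by
    rw [Subgroup.index_map, QuotientGroup.ker_mk',
      MonoidHom.range_eq_top.mpr (QuotientGroup.mk'_surjective R), Subgroup.index_top, mul_one]
  have h3 : (L ⊔ R).index ∣ L.index := Subgroup.index_dvd_of_le le_sup_left
  rw [hj] at h3
  obtain ⟨m, -, hm⟩ := (Nat.dvd_prime_pow hp).mp h3
  exact ⟨m, by rw [h2, hm]⟩

/-- in a solvable group, a non-normal maximal subgroup `M` has prime power index `p ^ k`, and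
normalizers of `p`-complements inside `M` lie in `M` -/
theorem normalizer_le_of_coatom [Finite G] [Group.IsSolvable G] (M : Subgroup G)
    (hM : IsCoatom M) (hMn : ¬ M.Normal) :
    ∃ p : ℕ, p.Prime ∧ (∃ k : ℕ, M.index = p ^ k) ∧
      ∀ L : Subgroup G, L ≤ M → IsPCompl p L → Subgroup.normalizer (L : Set G) ≤ M := by
  have hRM : M.normalCore ≤ M := Subgroup.normalCore_le M
  have hcomap : (M.map (QuotientGroup.mk' M.normalCore)).comap (QuotientGroup.mk' M.normalCore) = M := by
    rw [comap_map_mk, sup_eq_left.mpr hRM]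
  have hMbar : IsCoatom (M.map (QuotientGroup.mk' M.normalCore)) := isCoatom_map_mk _ hM hRM
  have hcore : (M.map (QuotientGroup.mk' M.normalCore)).normalCore = ⊥ := by
    rw [eq_bot_iff]
    have h1 : ((M.map (QuotientGroup.mk' M.normalCore)).normalCore).comap
        (QuotientGroup.mk' M.normalCore) ≤ M :=
      (Subgroup.comap_mono (Subgroup.normalCore_le
        (M.map (QuotientGroup.mk' M.normalCore)))).trans hcomap.le
    have h2 : ((M.map (QuotientGroup.mk' M.normalCore)).normalCore).comap
        (QuotientGroup.mk' M.normalCore) ≤ M.normalCore :=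
      Subgroup.normal_le_normalCore.mpr h1
    intro x hx
    obtain ⟨y, rfl⟩ := QuotientGroup.mk'_surjective M.normalCore x
    rw [Subgroup.mem_bot]
    exact (QuotientGroup.eq_one_iff y).mpr (h2 hx)
  have hbot : M.map (QuotientGroup.mk' M.normalCore) ≠ ⊥ := by
    intro h
    apply hMn
    have h1 : M ≤ M.normalCore := by
      intro x hx
      have h2 : QuotientGroup.mk' M.normalCore x ∈ M.map (QuotientGroup.mk' M.normalCore) :=
        ⟨x, hx, rfl⟩
      rw [h, Subgroup.mem_bot] at h2
      exact (QuotientGroup.eq_one_iff x).mp h2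
    have h2 : M = M.normalCore := le_antisymm h1 hRM
    rw [h2]; infer_instance
  obtain ⟨p, hp, ⟨k, hk⟩, hnorm⟩ := normalizer_le_of_coreFree _ hMbar hcore hbot
  refine ⟨p, hp, ⟨k, ?_⟩, ?_⟩
  · rw [← hk]
    refine (Subgroup.index_map_eq _ (QuotientGroup.mk'_surjective _) ?_).symm
    rw [QuotientGroup.ker_mk']; exact hRM
  · intro L hLM hL x hx
    have h1 : QuotientGroup.mk' M.normalCore x ∈
        Subgroup.normalizer ((L.map (QuotientGroup.mk' M.normalCore) :
          Subgroup (G ⧸ M.normalCore)) : Set (G ⧸ M.normalCore)) :=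
      Subgroup.le_normalizer_map _ ⟨x, hx, rfl⟩
    have h2 := hnorm _ (Subgroup.map_mono hLM) (hL.map_mk hp _) h1
    rw [← hcomap]
    exact h2

/-- subgroups containing a Carter subgroup are self-normalizing -/
theorem normalizer_eq_of_carter_le [Finite G] [Group.IsSolvable G] {C M : Subgroup G}
    (hC : Carter.IsCarter C) (hCM : C ≤ M) : Subgroup.normalizer (M : Set G) = M := by
  apply le_antisymm _ Subgroup.le_normalizer
  intro g hg
  have hgM : MulAut.conj g • M = M := (mem_normalizer_iff_conj_smul g M).mp hg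
  have hgC : MulAut.conj g • C ≤ M := by
    rw [← hgM]
    exact Subgroup.pointwise_smul_le_pointwise_smul_iff.mpr hCM
  have hconj := (Carter.carter_exists_conj M).2
  obtain ⟨l, hl⟩ := hconj _ _ (hC.subgroupOf hCM) ((hC.smul g).subgroupOf hgC)
  obtain ⟨m, hmM, hm⟩ := conj_of_conj_subgroupOf hCM hgC ⟨l, hl⟩
  have h1 := Carter.le_of_conj_smul_eq hm
  rw [hC.2] at h1
  have : g = m * (m⁻¹ * g) := by group
  rw [this]
  exact M.mul_mem hmM (hCM h1)

end Cfsg.Agent.Lib.Lead.SysNorm
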