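import Cfsg.Agent.Lib.Lead.SysNorm2
import Cfsg.Agent.Lib.Lead.HallCount2

set_option autoImplicit false

/-!
# Carter subgroups and system normalizers: every system normalizer lies in a Carter subgroup
-/

namespace Cfsg.Agent.Lib.Lead.SysNorm

open scoped Pointwise

open Cfsg.Agent.Lib.Lead Cfsg.Agent.Lib.Helper2

universe u

variable {G : Type u} [Group G]

theorem exists_complementSystem [Finite G] [Group.IsSolvable G] :
    ∃ K : Nat.Primes → Subgroup G, Cfsg.IsComplementSystem K := by
  have h : ∀ p : Nat.Primes, ∃ H : Subgroup G,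
      H.index = (p : ℕ) ^ (Nat.card G).factorization p := by
    intro p
    have hG0 : Nat.card G ≠ 0 := Nat.card_pos.ne'
    have hcard : Nat.card G = (Nat.card G / (p : ℕ) ^ (Nat.card G).factorization p) *
        (p : ℕ) ^ (Nat.card G).factorization p :=
      (Nat.div_mul_cancel (Nat.ordProj_dvd _ _)).symm
    have hcop : (Nat.card G / (p : ℕ) ^ (Nat.card G).factorization p).Coprime
        ((p : ℕ) ^ (Nat.card G).factorization p) :=
      (Nat.Coprime.pow_left _ (Nat.coprime_ordCompl p.2 hG0)).symm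
    obtain ⟨H, hH⟩ := HallCount.exists_hall _ _ hcard hcop
    refine ⟨H, ?_⟩
    have h1 := H.card_mul_index
    rw [hH] at h1
    have hpos : 0 < Nat.card G / (p : ℕ) ^ (Nat.card G).factorization p :=
      Nat.div_pos (Nat.le_of_dvd Nat.card_pos (Nat.ordProj_dvd _ _)) (pow_pos p.2.pos _)
    apply Nat.eq_of_mul_eq_mul_left hpos
    rw [h1]; exact hcard
  exact ⟨fun p => Classical.choose (h p), fun p => Classical.choose_spec (h p)⟩

theorem IsPCompl.card_mul [Finite G] {p : ℕ} (hp : p.Prime) {L : Subgroup G} (hL : IsPCompl p L) :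
    Nat.card L * p ^ (Nat.card G).factorization p = Nat.card G := by
  obtain ⟨h1, j, hj⟩ := hL
  have h2 := L.card_mul_index
  rw [hj] at h2
  have hL0 : Nat.card L ≠ 0 := Nat.card_pos.ne'
  have h3 : (Nat.card G).factorization p = j := by
    rw [← h2, Nat.factorization_mul hL0 (pow_pos hp.pos j).ne', Finsupp.add_apply,
      Nat.factorization_eq_zero_of_not_dvd h1, zero_add, hp.factorization_pow,
      Finsupp.single_eq_same]
  rw [h3]; exact h2

theorem isPCompl_of_complementSystem [Finite G] {K : Nat.Primes → Subgroup G}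
    (hK : Cfsg.IsComplementSystem K) (p : Nat.Primes) : IsPCompl (p : ℕ) (K p) :=
  ⟨IsComplementSystem.not_dvd_card hK p, _, hK p⟩

/-- restriction of a complement system to a subgroup of prime power index containing the
relevant complement -/
theorem isComplementSystem_subgroupOf [Finite G] {K : Nat.Primes → Subgroup G}
    (hK : Cfsg.IsComplementSystem K) (M : Subgroup G) (p : Nat.Primes) (k : ℕ)
    (hk : M.index = (p : ℕ) ^ k) (hKM : K p ≤ M) :
    Cfsg.IsComplementSystem (fun q => (K q).subgroupOf M) := by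
  have hM0 : Nat.card M ≠ 0 := Nat.card_pos.ne'
  have hcard : Nat.card M * (p : ℕ) ^ k = Nat.card G := by rw [← hk]; exact M.card_mul_index
  intro q
  change (K q).relIndex M = (q : ℕ) ^ (Nat.card M).factorization q
  by_cases hqp : q = p
  · subst hqp
    have h1 : (K q).relIndex M * Nat.card (K q) = Nat.card M := by
      have := ((K q).subgroupOf M).card_mul_index
      rw [card_subgroupOf_of_le hKM, mul_comm] at this
      exact this
    have h2 := (K q).card_mul_index
    rw [hK q] at h2
    have hfac : (Nat.card G).factorization q = (Nat.card M).factorization q + k := by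
      rw [← hcard, Nat.factorization_mul hM0 (pow_pos q.2.pos k).ne', Finsupp.add_apply,
        q.2.factorization_pow, Finsupp.single_eq_same]
    have hKpos : 0 < Nat.card (K q) := Nat.card_pos
    have h3 : Nat.card (K q) * ((K q).relIndex M * (q : ℕ) ^ k) =
        Nat.card (K q) * ((q : ℕ) ^ (Nat.card M).factorization q * (q : ℕ) ^ k) := by
      rw [← pow_add, ← hfac, h2, ← hcard, ← h1]; ring
    have h4 := Nat.eq_of_mul_eq_mul_left hKpos h3
    exact Nat.eq_of_mul_eq_mul_right (pow_pos q.2.pos k) h4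
  · have hne : (q : ℕ) ≠ (p : ℕ) := fun h => hqp (Subtype.ext h)
    have hcop : ((K q).index).Coprime M.index := by
      rw [hK q, hk]
      exact Nat.Coprime.pow _ _ ((Nat.coprime_primes q.2 p.2).mpr hne)
    have h1 := index_inf_of_coprime (K q) M hcop
    have h2 : (K q ⊓ M).relIndex M * M.index = (K q ⊓ M).index :=
      Subgroup.relIndex_mul_index inf_le_right
    rw [Subgroup.inf_relIndex_right, h1] at h2
    have hMpos : 0 < M.index := Nat.pos_of_ne_zero Subgroup.index_ne_zero_of_finite
    have h3 := Nat.eq_of_mul_eq_mul_right hMpos h2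
    rw [h3, hK q]
    congr 1
    rw [← hcard, Nat.factorization_mul hM0 (pow_pos p.2.pos k).ne', Finsupp.add_apply,
      p.2.factorization_pow, Finsupp.single_eq_of_ne (fun h => hne h), add_zero]

theorem systemNormalizer_subgroupOf_le (K : Nat.Primes → Subgroup G) (M : Subgroup G) :
    (Cfsg.systemNormalizer K).subgroupOf M ≤
      Cfsg.systemNormalizer (fun q => (K q).subgroupOf M) := by
  intro x hx
  unfold Cfsg.systemNormalizer at hx ⊢
  rw [Subgroup.mem_subgroupOf, Subgroup.mem_iInf] at hx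
  rw [Subgroup.mem_iInf]
  intro q
  have h1 := hx q
  rw [Subgroup.mem_normalizer_iff] at h1 ⊢
  intro h
  rw [Subgroup.mem_subgroupOf, Subgroup.mem_subgroupOf]
  exact h1 h

theorem systemNormalizer_le_conj_of_conj_le (K : Nat.Primes → Subgroup G) (g : G) (C : Subgroup G)
    (h : Cfsg.systemNormalizer (fun q => MulAut.conj g • K q) ≤ C) :
    Cfsg.systemNormalizer K ≤ MulAut.conj g⁻¹ • C := by
  intro x hx
  rw [mem_systemNormalizer_iff] at hx
  have h1 : g * x * g⁻¹ ∈ Cfsg.systemNormalizer (fun q => MulAut.conj g • K q) := by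
    rw [mem_systemNormalizer_iff]
    intro q
    change MulAut.conj (g * x * g⁻¹) • MulAut.conj g • K q = MulAut.conj g • K q
    rw [← mul_smul, ← map_mul]
    have e : g * x * g⁻¹ * g = g * x := by group
    rw [e, map_mul, mul_smul, hx q]
  have h2 := h h1
  rw [Subgroup.mem_pointwise_smul_iff_inv_smul_mem, map_inv, inv_inv, MulAut.smul_def,
    MulAut.conj_apply]
  exact h2

theorem sysNorm_le_carter_aux (n : ℕ) : ∀ (G : Type u) [Group G] [Finite G] [Group.IsSolvable G],
    Nat.card G = n → ∀ K : Nat.Primes → Subgroup G, Cfsg.IsComplementSystem K →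
    ∃ C : Subgroup G, Carter.IsCarter C ∧ Cfsg.systemNormalizer K ≤ C := by
  induction n using Nat.strong_induction_on with
  | _ n ih =>
  intro G _ _ _ hn K hK
  obtain ⟨⟨C₀, hC₀⟩, -⟩ := Carter.carter_exists_conj G
  by_cases htop : C₀ = ⊤
  · exact ⟨C₀, hC₀, htop ▸ le_top⟩
  obtain ⟨M, hM, hCM⟩ := (eq_top_or_exists_le_coatom C₀).resolve_left htop
  have hMself := normalizer_eq_of_carter_le hC₀ hCM
  have hMn : ¬ M.Normal := fun h =>
    hM.1 (by rw [← hMself]; exact Subgroup.normalizer_eq_top_iff.mpr h)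
  obtain ⟨p, hp, ⟨k, hk⟩, hnorm⟩ := normalizer_le_of_coatom M hM hMn
  -- a `p`-complement of `G` inside `M`
  obtain ⟨KM, hKM⟩ := exists_complementSystem (G := M)
  have hLM : (KM ⟨p, hp⟩).map M.subtype ≤ M := Subgroup.map_subtype_le _
  have hL : IsPCompl p ((KM ⟨p, hp⟩).map M.subtype) := by
    refine ⟨?_, ?_⟩
    · rw [card_map_subtype]
      exact IsComplementSystem.not_dvd_card hKM ⟨p, hp⟩
    · refine ⟨(Nat.card M).factorization p + k, ?_⟩
      rw [Subgroup.index_map_subtype, hKM ⟨p, hp⟩, hk, pow_add]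
  have hKp := isPCompl_of_complementSystem hK ⟨p, hp⟩
  have h1 := hKp.card_mul hp
  have h2 := hL.card_mul hp
  have hcardeq : Nat.card (K ⟨p, hp⟩) = Nat.card ((KM ⟨p, hp⟩).map M.subtype) := by
    apply Nat.eq_of_mul_eq_mul_right (pow_pos hp.pos ((Nat.card G).factorization p))
    rw [h1, h2]
  have hcop : (Nat.card (K ⟨p, hp⟩)).Coprime (p ^ (Nat.card G).factorization p) :=
    Nat.Coprime.pow_right _ ((Nat.Prime.coprime_iff_not_dvd hp).mpr hKp.1).symm
  obtain ⟨g, hg⟩ := (hallProp_of_solvable G _ _ h1.symm hcop).1 (K ⟨p, hp⟩)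
    ((KM ⟨p, hp⟩).map M.subtype) rfl hcardeq.symm
  have hK' := isComplementSystem_conj hK g
  have hK'M : MulAut.conj g • K ⟨p, hp⟩ ≤ M := by rw [hg]; exact hLM
  have hD'M : Cfsg.systemNormalizer (fun q => MulAut.conj g • K q) ≤ M := by
    have h3 : Cfsg.systemNormalizer (fun q => MulAut.conj g • K q) ≤
        Subgroup.normalizer ((MulAut.conj g • K ⟨p, hp⟩ : Subgroup G) : Set G) := by
      unfold Cfsg.systemNormalizer
      exact iInf_le (fun q => Subgroup.normalizer ((MulAut.conj g • K q : Subgroup G) : Set G))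
        ⟨p, hp⟩
    refine h3.trans ?_
    rw [hg]
    exact hnorm _ hLM hL
  have hKM' := isComplementSystem_subgroupOf hK' M ⟨p, hp⟩ k hk hK'M
  have hlt : Nat.card M < n := by
    rw [← hn]; exact Carter.card_lt_of_ne_top hM.1
  obtain ⟨C₂, hC₂, hle⟩ := ih _ hlt M rfl _ hKM'
  obtain ⟨m, hm⟩ := (Carter.carter_exists_conj M).2 _ _ (hC₀.subgroupOf hCM) hC₂
  have hC₂map : C₂.map M.subtype = MulAut.conj (m : G) • C₀ := by
    rw [← hm, map_subtype_conj_smul, map_subtype_subgroupOf_of_le hCM]
  have hD'C : Cfsg.systemNormalizer (fun q => MulAut.conj g • K q) ≤ C₂.map M.subtype := by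
    intro x hx
    have hxM := hD'M hx
    have h3 : (⟨x, hxM⟩ : M) ∈ (Cfsg.systemNormalizer
        (fun q => MulAut.conj g • K q)).subgroupOf M := Subgroup.mem_subgroupOf.mpr hx
    exact ⟨⟨x, hxM⟩, hle (systemNormalizer_subgroupOf_le _ M h3), rfl⟩
  refine ⟨MulAut.conj g⁻¹ • C₂.map M.subtype, ?_, systemNormalizer_le_conj_of_conj_le K g _ hD'C⟩
  rw [hC₂map]
  exact (hC₀.smul _).smul _

theorem sysNorm_le_carter [Finite G] [Group.IsSolvable G] (K : Nat.Primes → Subgroup G)
    (hK : Cfsg.IsComplementSystem K) :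
    ∃ C : Subgroup G, Carter.IsCarter C ∧ Cfsg.systemNormalizer K ≤ C :=
  sysNorm_le_carter_aux _ G rfl K hK

theorem carter_ge_sysNorm [Finite G] [Group.IsSolvable G] (C : Subgroup G)
    (hC : Carter.IsCarter C) :
    ∃ K : Nat.Primes → Subgroup G, Cfsg.IsComplementSystem K ∧ Cfsg.systemNormalizer K ≤ C := by
  obtain ⟨K', hK'⟩ := exists_complementSystem (G := G)
  obtain ⟨C', hC', hle⟩ := sysNorm_le_carter K' hK'
  obtain ⟨g, hg⟩ := (Carter.carter_exists_conj G).2 C' C hC' hC
  refine ⟨fun q => MulAut.conj g • K' q, isComplementSystem_conj hK' g, ?_⟩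
  intro x hx
  rw [mem_systemNormalizer_iff] at hx
  have h1 : g⁻¹ * x * g ∈ Cfsg.systemNormalizer K' := by
    rw [mem_systemNormalizer_iff]
    intro q
    have h2 := hx q
    change MulAut.conj x • MulAut.conj g • K' q = MulAut.conj g • K' q at h2
    have h3 := congrArg (fun S => MulAut.conj g⁻¹ • S) h2
    simp only [← mul_smul, ← map_mul] at h3
    rw [inv_mul_cancel, map_one, one_smul] at h3
    rw [← h3]
    congr 2
    group
  have h2 := hle h1
  rw [← hg, Subgroup.mem_pointwise_smul_iff_inv_smul_mem, MulAut.smul_def, ← map_inv,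
    MulAut.conj_apply, inv_inv]
  exact h2

end Cfsg.Agent.Lib.Lead.SysNorm
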