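import Cfsg.Agent.Lib.Lead.SysNorm3
import Cfsg.Agent.Lib.Lead.Nilpotent

set_option autoImplicit false

/-!
# Carter subgroups and system normalizers in groups of nilpotent length two
-/

namespace Cfsg.Agent.Lib.Lead.SysNorm

open scoped Pointwise

open Cfsg.Agent.Lib.Lead Cfsg.Agent.Lib.Helper2

universe u

variable {G : Type u} [Group G]

/-- a minimal normal subgroup inside a nilpotent normal subgroup is centralized by it -/
theorem le_centralizer_of_minNormal_le_nilpotent (F : Subgroup G) [F.Normal]
    (hF : Group.IsNilpotent F) (N : Subgroup G) [hNn : N.Normal] (hN1 : N ≠ ⊥) (hNF : N ≤ F)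
    (hmin : ∀ L : Subgroup G, L.Normal → L ≤ N → L = ⊥ ∨ L = N) :
    N ≤ Subgroup.centralizer (F : Set G) := by
  haveI := hF
  have hN'n : (N.subgroupOf F).Normal := inferInstance
  have hN'1 : N.subgroupOf F ≠ ⊥ := by
    intro h
    apply hN1
    rw [eq_bot_iff]
    intro x hx
    have h1 : (⟨x, hNF hx⟩ : F) ∈ N.subgroupOf F := Subgroup.mem_subgroupOf.mpr hx
    rw [h, Subgroup.mem_bot] at h1
    rw [Subgroup.mem_bot]
    exact congrArg Subtype.val h1
  obtain ⟨⟨z, hz⟩, hz1⟩ := (Subgroup.ne_bot_iff_exists_ne_one).mp
    (inf_center_ne_bot (N.subgroupOf F) hN'1)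
  have hzN : (z : G) ∈ N := Subgroup.mem_subgroupOf.mp hz.1
  have hzc : (z : G) ∈ Subgroup.centralizer (F : Set G) := by
    rw [Subgroup.mem_centralizer_iff]
    intro f hf
    have := (Subgroup.mem_center_iff.mp hz.2) ⟨f, hf⟩
    exact congrArg Subtype.val this
  have hYn : (N ⊓ Subgroup.centralizer (F : Set G)).Normal := by
    haveI : (Subgroup.centralizer (F : Set G)).Normal := Subgroup.normal_centralizer
    infer_instance
  rcases hmin _ hYn inf_le_left with h | h
  · exfalso
    have h1 : (z : G) ∈ N ⊓ Subgroup.centralizer (F : Set G) := ⟨hzN, hzc⟩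
    rw [h, Subgroup.mem_bot] at h1
    apply hz1
    apply Subtype.ext
    apply Subtype.ext
    exact h1
  · rw [← h]; exact inf_le_right

/-- the inductive step -/
theorem carter_le_sysNorm_step [Finite G]
    (ih : ∀ (H : Type u) [Group H] [Finite H] (F : Subgroup H) [F.Normal],
      Group.IsNilpotent F → Group.IsNilpotent (H ⧸ F) → Nat.card H < Nat.card G →
      ∀ K : Nat.Primes → Subgroup H, Cfsg.IsComplementSystem K → ∀ C : Subgroup H,
      Carter.IsCarter C → Cfsg.systemNormalizer K ≤ C → C ≤ Cfsg.systemNormalizer K)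
    (F : Subgroup G) [hFn : F.Normal] (hF : Group.IsNilpotent F)
    (hGF : Group.IsNilpotent (G ⧸ F)) (hF1 : F ≠ ⊥)
    (K : Nat.Primes → Subgroup G) (hK : Cfsg.IsComplementSystem K) (C : Subgroup G)
    (hC : Carter.IsCarter C) (hDC : Cfsg.systemNormalizer K ≤ C) :
    C ≤ Cfsg.systemNormalizer K := by
  haveI := hF
  haveI := hGF
  haveI : Group.IsSolvable G := isSolvable_of_normal_of_quotient F inferInstance inferInstance
  obtain ⟨N, hNF, hNn, hN1, hNmin⟩ := exists_minNormal_le F hF1
  haveI := hNn
  have hNcF := le_centralizer_of_minNormal_le_nilpotent F hF N hN1 hNF hNmin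
  have hconjsub : ∀ L : Subgroup G, L ≠ ⊤ → Carter.ConjProp L :=
    fun L _ => (Carter.carter_exists_conj L).2
  -- `C F = G`
  have hCF : C ⊔ F = ⊤ := by
    have h1 := (hC.map_mk hconjsub F).eq_top_of_nilpotent
    have h2 := comap_map_mk F C
    rw [h1, Subgroup.comap_top] at h2
    exact h2.symm
  -- the quotient by `N`
  have hFbar : Group.IsNilpotent (F.map (QuotientGroup.mk' N)) :=
    Group.nilpotent_of_surjective ((QuotientGroup.mk' N).subgroupMap F)
      (MonoidHom.subgroupMap_surjective _ _)
  haveI hFbarn : (F.map (QuotientGroup.mk' N)).Normal :=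
    hFn.map _ (QuotientGroup.mk'_surjective N)
  have hle : F ≤ (F.map (QuotientGroup.mk' N)).comap (QuotientGroup.mk' N) :=
    Subgroup.le_comap_map _ _
  have hQbar : Group.IsNilpotent ((G ⧸ N) ⧸ F.map (QuotientGroup.mk' N)) := by
    apply Group.nilpotent_of_surjective
      (QuotientGroup.map F (F.map (QuotientGroup.mk' N)) (QuotientGroup.mk' N) hle)
    intro y
    obtain ⟨y', rfl⟩ := QuotientGroup.mk'_surjective _ y
    obtain ⟨g, rfl⟩ := QuotientGroup.mk'_surjective N y'
    exact ⟨QuotientGroup.mk' F g, rfl⟩
  have hlt : Nat.card (G ⧸ N) < Nat.card G := by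
    rw [card_eq_card_quotient_mul_card N]
    have h1 : 1 < Nat.card N := (Subgroup.one_lt_card_iff_ne_bot N).mpr hN1
    have h2 : 0 < Nat.card (G ⧸ N) := Nat.card_pos
    nlinarith
  have hKbar := isComplementSystem_map_mk hK N
  have hDbar := systemNormalizer_map_mk hK N
  have hCbar := hC.map_mk hconjsub N
  have hih := ih (G ⧸ N) (F.map (QuotientGroup.mk' N)) hFbar hQbar hlt _ hKbar _ hCbar
    (by rw [hDbar]; exact Subgroup.map_mono hDC)
  rw [hDbar] at hih
  have hCDN : C ≤ Cfsg.systemNormalizer K ⊔ N := by
    have h1 := Subgroup.comap_mono (f := QuotientGroup.mk' N) hih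
    rw [comap_map_mk, comap_map_mk] at h1
    exact le_sup_left.trans h1
  by_cases hcent : N ≤ Subgroup.center G
  · -- central: `N ≤ D`
    have hND : N ≤ Cfsg.systemNormalizer K := by
      intro x hx
      rw [mem_systemNormalizer_iff]
      intro q
      rw [← mem_normalizer_iff_conj_smul]
      exact mem_normalizer_of_commute _ _
        (fun y _ => ((Subgroup.mem_center_iff.mp (hcent hx)) y).symm)
    rw [sup_eq_left.mpr hND] at hCDN
    exact hCDN
  · -- eccentric: `D ∩ N = 1 = C ∩ N`
    have hDN := inf_systemNormalizer_eq_bot_of_minNormal hK N hN1 hNmin hcent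
    have hCN : C ⊓ N = ⊥ := by
      have hnorm : (C ⊓ N).Normal := by
        rw [← Subgroup.normalizer_eq_top_iff, eq_top_iff, ← hCF]
        apply sup_le
        · refine le_trans ?_ Subgroup.inf_normalizer_le_normalizer_inf
          refine le_inf Subgroup.le_normalizer ?_
          rw [Subgroup.normalizer_eq_top]; exact le_top
        · intro f hf
          apply mem_normalizer_of_commute
          intro y hy
          exact (Subgroup.mem_centralizer_iff.mp (hNcF hy.2) f hf)
      rcases hNmin _ hnorm inf_le_right with h | h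
      · exact h
      · exfalso
        apply hcent
        have hNC : N ≤ C := by rw [← h]; exact inf_le_left
        -- `N ∩ Z(C) ≠ 1`
        haveI := hC.1
        have hN'1 : N.subgroupOf C ≠ ⊥ := by
          intro h'
          apply hN1
          rw [eq_bot_iff]
          intro x hx
          have h1 : (⟨x, hNC hx⟩ : C) ∈ N.subgroupOf C := Subgroup.mem_subgroupOf.mpr hx
          rw [h', Subgroup.mem_bot] at h1
          rw [Subgroup.mem_bot]
          exact congrArg Subtype.val h1
        obtain ⟨⟨z, hz⟩, hz1⟩ := (Subgroup.ne_bot_iff_exists_ne_one).mp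
          (inf_center_ne_bot (N.subgroupOf C) hN'1)
        have hzN : (z : G) ∈ N := Subgroup.mem_subgroupOf.mp hz.1
        have hzc : (z : G) ∈ Subgroup.centralizer (C : Set G) := by
          rw [Subgroup.mem_centralizer_iff]
          intro c hc
          have := (Subgroup.mem_center_iff.mp hz.2) ⟨c, hc⟩
          exact congrArg Subtype.val this
        have hYn : (N ⊓ Subgroup.centralizer (C : Set G)).Normal := by
          rw [← Subgroup.normalizer_eq_top_iff, eq_top_iff, ← hCF]
          apply sup_le
          · refine le_trans ?_ Subgroup.inf_normalizer_le_normalizer_inf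
            refine le_inf ?_ (Subgroup.le_normalizer.trans
              (normalizer_le_normalizer_centralizer C))
            rw [Subgroup.normalizer_eq_top]; exact le_top
          · intro f hf
            apply mem_normalizer_of_commute
            intro y hy
            exact (Subgroup.mem_centralizer_iff.mp (hNcF hy.1) f hf)
        have hNcC : N ≤ Subgroup.centralizer (C : Set G) := by
          rcases hNmin _ hYn inf_le_left with h' | h'
          · exfalso
            have h1 : (z : G) ∈ N ⊓ Subgroup.centralizer (C : Set G) := ⟨hzN, hzc⟩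
            rw [h', Subgroup.mem_bot] at h1
            apply hz1
            apply Subtype.ext
            apply Subtype.ext
            exact h1
          · rw [← h']; exact inf_le_right
        intro x hx
        rw [Subgroup.mem_center_iff]
        intro g
        have hg : g ∈ C ⊔ F := by rw [hCF]; exact Subgroup.mem_top g
        obtain ⟨c, hc, f, hf, rfl⟩ := Subgroup.mem_sup_of_normal_right.mp hg
        have h1 := Subgroup.mem_centralizer_iff.mp (hNcC hx) c hc
        have h2 := Subgroup.mem_centralizer_iff.mp (hNcF hx) f hf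
        calc c * f * x = c * (f * x) := by group
          _ = c * (x * f) := by rw [h2]
          _ = (c * x) * f := by group
          _ = (x * c) * f := by rw [h1]
          _ = x * (c * f) := by group
    intro x hx
    have hx' := hCDN hx
    obtain ⟨d, hd, v, hv, rfl⟩ := Subgroup.mem_sup_of_normal_right.mp hx'
    have hvC : v ∈ C := by
      have : v = d⁻¹ * (d * v) := by group
      rw [this]
      exact C.mul_mem (C.inv_mem (hDC hd)) hx
    have hv1 : v ∈ C ⊓ N := ⟨hvC, hv⟩
    rw [hCN, Subgroup.mem_bot] at hv1
    rw [hv1, mul_one]; exact hd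

theorem carter_le_sysNorm_aux (n : ℕ) : ∀ (G : Type u) [Group G] [Finite G] (F : Subgroup G)
    [F.Normal], Group.IsNilpotent F → Group.IsNilpotent (G ⧸ F) → Nat.card G = n →
    ∀ K : Nat.Primes → Subgroup G, Cfsg.IsComplementSystem K → ∀ C : Subgroup G,
    Carter.IsCarter C → Cfsg.systemNormalizer K ≤ C → C ≤ Cfsg.systemNormalizer K := by
  induction n using Nat.strong_induction_on with
  | _ n ih =>
  intro G _ _ F _ hF hGF hn K hK C hC hDC
  have ih' : ∀ (H : Type u) [Group H] [Finite H] (F : Subgroup H) [F.Normal],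
      Group.IsNilpotent F → Group.IsNilpotent (H ⧸ F) → Nat.card H < Nat.card G →
      ∀ K : Nat.Primes → Subgroup H, Cfsg.IsComplementSystem K → ∀ C : Subgroup H,
      Carter.IsCarter C → Cfsg.systemNormalizer K ≤ C → C ≤ Cfsg.systemNormalizer K := by
    intro H _ _ F' _ hF' hHF' hlt
    exact ih _ (hn ▸ hlt) H F' hF' hHF' rfl
  by_cases hF1 : F = ⊥
  · by_cases hsub : Subsingleton G
    · intro x _
      rw [Subsingleton.elim x 1]; exact Subgroup.one_mem _
    · rw [not_subsingleton_iff_nontrivial] at hsub
      have hGnil : Group.IsNilpotent G := by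
        subst hF1
        haveI := hGF
        exact Group.nilpotent_of_mulEquiv (QuotientGroup.quotientBot (G := G))
      have htopnil : Group.IsNilpotent (⊤ : Subgroup G) :=
        Group.nilpotent_of_mulEquiv (Subgroup.topEquiv (G := G)).symm
      have hqnil : Group.IsNilpotent (G ⧸ (⊤ : Subgroup G)) := inferInstance
      exact carter_le_sysNorm_step ih' ⊤ htopnil hqnil top_ne_bot K hK C hC hDC
  · exact carter_le_sysNorm_step ih' F hF hGF hF1 K hK C hC hDC

theorem carter_iff_sysNorm [Finite G] (F : Subgroup G) [F.Normal] (hF : Group.IsNilpotent F)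
    (hGF : Group.IsNilpotent (G ⧸ F)) (C : Subgroup G) :
    Carter.IsCarter C ↔ ∃ K : Nat.Primes → Subgroup G, Cfsg.IsComplementSystem K ∧
      C = Cfsg.systemNormalizer K := by
  haveI := hF
  haveI := hGF
  haveI : Group.IsSolvable G := isSolvable_of_normal_of_quotient F inferInstance inferInstance
  constructor
  · intro hC
    obtain ⟨K, hK, hle⟩ := carter_ge_sysNorm C hC
    exact ⟨K, hK, le_antisymm (carter_le_sysNorm_aux _ G F hF hGF rfl K hK C hC hle) hle⟩
  · rintro ⟨K, hK, rfl⟩
    obtain ⟨C', hC', hle⟩ := sysNorm_le_carter K hK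
    have := carter_le_sysNorm_aux _ G F hF hGF rfl K hK C' hC' hle
    rw [le_antisymm hle this]
    exact hC'

end Cfsg.Agent.Lib.Lead.SysNorm
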