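import Mathlib
import Cfsg.Agent.Lib.Helper7.TSO0

/-! S5973/S5987 board, PK-ARITH: arithmetic evaluation of "every admissible parameter tuple is good". -/

set_option autoImplicit false

namespace Cfsg.Agent.Lib.Helper7.TSO

/-- normalized tuple predicate (`i` even; `π = 0` plus type, `π = 1` minus type) -/
def arP (π d i t τ β α γ : ℕ) : Prop :=
  2 * d = 2 * τ + 2 * (i * β) + α + i * γ ∧ (α = 0 ∨ α = 2) ∧ γ ≤ t ∧ 1 ≤ 2 * β + γ ∧
    (α = 0 ↔ (γ + π) % 2 = 0)

theorem ar_good_mod {m i τ β ℓ M : ℕ} (hM : m = i * M + ℓ) (hℓ : ℓ < i) (hτ : τ < i)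
    (h : Good m i τ β) : ℓ ≤ τ := by
  obtain ⟨w₀, t', hw, ht', hm⟩ := h
  have h1 : m % i = ℓ := by
    rw [hM, Nat.mul_add_mod, Nat.mod_eq_of_lt hℓ]
  have h2 : m % i = w₀ := by
    rw [hm, Nat.add_mul_mod_self_left, Nat.mod_eq_of_lt (by omega)]
  omega

theorem ar_core_mp (π : ℕ) (hπ : π = 0 ∨ π = 1) (d m i t N k M ℓ : ℕ) (hi : i % 2 = 0)
    (hi0 : 0 < i) (ht : 1 ≤ t) (hmd : m < d)
    (hN : 2 * d = i * N + k) (hk : k < i) (hM : m = i * M + ℓ) (hℓ : ℓ < i)
    (hcnt : ∃ τ β α γ, arP π d i t τ β α γ ∧ τ < m)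
    (H : ∀ τ β α γ, arP π d i t τ β α γ → Good m i τ β) :
    (1 ≤ M ∧ t + 2 * M ≤ N ∧
      ((2 * ℓ ≤ i ∧ k = 0 ∧ (N + π) % 2 = 1 ∧ t + 2 * M < N) ∨
       (2 * ℓ ≤ k ∧ (N + π) % 2 = 0) ∨ (2 * ℓ < k ∧ (N + π) % 2 = 1))) := by
  obtain ⟨h, hh⟩ : ∃ h, i = 2 * h := ⟨i / 2, by omega⟩
  have hh1 : 1 ≤ h := by omega
  -- step 0
  have hM1 : 1 ≤ M := by
    obtain ⟨τ₀, β₀, α₀, γ₀, hP, hτm⟩ := hcnt
    obtain ⟨w₀, t', hw, ht', hm⟩ := H _ _ _ _ hP
    by_contra hM0
    have hM0' : M = 0 := by omega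
    rw [hM0', Nat.mul_zero, Nat.zero_add] at hM
    rcases Nat.eq_zero_or_pos t' with h0 | h0
    · rw [h0, Nat.mul_zero] at hm
      omega
    · have : i * 1 ≤ i * t' := Nat.mul_le_mul_left i h0
      omega
  obtain ⟨M', rfl⟩ : ∃ M', M = M' + 1 := ⟨M - 1, by omega⟩
  have hiM : i * (M' + 1) = i * M' + i := by ring
  have hM0 := hM
  rw [hiM] at hM
  -- `k` even
  have hiN : i * N = 2 * (h * N) := by rw [hh]; ring
  obtain ⟨κ, hκ⟩ : ∃ κ, k = 2 * κ := ⟨k / 2, by omega⟩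
  -- step 1: `2 M ≤ N`, and strict if `k = 0`
  have h2M : 2 * (M' + 1) ≤ N ∧ (k = 0 → 2 * (M' + 1) < N) := by
    constructor
    · by_contra hcon
      have h1 : N + 1 ≤ 2 * (M' + 1) := by omega
      have h2 : i * (N + 1) ≤ i * (2 * (M' + 1)) := Nat.mul_le_mul_left i h1
      have h3 : i * (N + 1) = i * N + i := by ring
      have h4 : i * (2 * (M' + 1)) = 2 * (i * M') + 2 * i := by ring
      omega
    · intro hk0
      by_contra hcon
      have h1 : N ≤ 2 * (M' + 1) := by omega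
      have h2 : i * N ≤ i * (2 * (M' + 1)) := Nat.mul_le_mul_left i h1
      have h4 : i * (2 * (M' + 1)) = 2 * (i * M') + 2 * i := by ring
      omega
  obtain ⟨N', hN'⟩ : ∃ N', N = 2 * (M' + 1) + N' := ⟨N - 2 * (M' + 1), by omega⟩
  have hiN2 : i * N = 2 * (i * M') + 2 * i + i * N' := by rw [hN']; ring
  -- step 2
  have hR1 : t + 2 * (M' + 1) ≤ N := by
    by_contra hcon
    have htN : N' + 1 ≤ t := by omega
    -- tuple β = M', γ = N' + 1
    have hiγ : i * (N' + 1) = i * N' + i := by ring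
    by_cases hpar : (N' + 1 + π) % 2 = 0
    · have hP : arP π d i t (κ + h) M' 0 (N' + 1) := by
        refine ⟨by omega, Or.inl rfl, htN, by omega, by simp [hpar]⟩
      obtain ⟨w₀, t', hw, ht', hm⟩ := H _ _ _ _ hP
      have : i * t' ≤ i * M' := Nat.mul_le_mul_left i ht'
      omega
    · have hP : arP π d i t (κ + h - 1) M' 2 (N' + 1) := by
        refine ⟨by omega, Or.inr rfl, htN, by omega, by simp [hpar]⟩
      obtain ⟨w₀, t', hw, ht', hm⟩ := H _ _ _ _ hP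
      have : i * t' ≤ i * M' := Nat.mul_le_mul_left i ht'
      omega
  refine ⟨by omega, hR1, ?_⟩
  have hκi : κ < i := by omega
  by_cases hpar : (N + π) % 2 = 0
  · -- tuple `s = N`, `γ = π`, `α = 0`
    right; left
    refine ⟨?_, hpar⟩
    obtain ⟨b, hb⟩ : ∃ b, N = 2 * b + π := ⟨(N - π) / 2, by omega⟩
    have hiNb : i * N = 2 * (i * b) + i * π := by rw [hb]; ring
    have hP : arP π d i t κ b 0 π := by
      refine ⟨by omega, Or.inl rfl, by omega, by omega, ?_⟩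
      rcases hπ with rfl | rfl <;> simp
    have := ar_good_mod hM0 hℓ hκi (H _ _ _ _ hP)
    omega
  · have hpar1 : (N + π) % 2 = 1 := by omega
    by_cases hk0 : k = 0
    · left
      have hκ0 : κ = 0 := by omega
      refine ⟨?_, hk0, hpar1, ?_⟩
      · -- tuple `s = N - 1`, `γ = π`, `α = 0`, `τ = h`
        obtain ⟨b, hb⟩ : ∃ b, N = 2 * b + 1 + π := ⟨(N - 1 - π) / 2, by omega⟩
        have hiNb : i * N = 2 * (i * b) + i + i * π := by rw [hb]; ring
        have hP : arP π d i t h b 0 π := by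
          refine ⟨by omega, Or.inl rfl, by omega, ?_, ?_⟩
          · have := h2M.2 hk0
            omega
          · rcases hπ with rfl | rfl <;> simp
        have := ar_good_mod hM0 hℓ (by omega) (H _ _ _ _ hP)
        omega
      · -- tuple `β = M'`, `γ = N' = t`, `α = 2`, `τ = i - 1`
        by_contra hcon
        have htN : t = N' := by omega
        have hN'1 : 1 ≤ N' := by
          have := h2M.2 hk0
          omega
        have hP : arP π d i t (i - 1) M' 2 N' := by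
          refine ⟨by omega, Or.inr rfl, by omega, by omega, ?_⟩
          constructor
          · intro h0
            omega
          · intro h0
            omega
        obtain ⟨w₀, t', hw, ht', hm⟩ := H _ _ _ _ hP
        have : i * t' ≤ i * M' := Nat.mul_le_mul_left i ht'
        omega
    · -- tuple `s = N`, `γ = 1 - π`, `α = 2`, `τ = κ - 1`
      right; right
      refine ⟨?_, hpar1⟩
      obtain ⟨b, hb⟩ : ∃ b, N = 2 * b + (1 - π) := ⟨(N - (1 - π)) / 2, by omega⟩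
      have hiNb : i * N = 2 * (i * b) + i * (1 - π) := by rw [hb]; ring
      have hP : arP π d i t (κ - 1) b 2 (1 - π) := by
        refine ⟨by omega, Or.inr rfl, by omega, by omega, ?_⟩
        rcases hπ with rfl | rfl <;> simp
      have := ar_good_mod hM0 hℓ (by omega) (H _ _ _ _ hP)
      omega

theorem ar_core_mpr (π : ℕ) (hπ : π = 0 ∨ π = 1) (d m i t N k M ℓ : ℕ) (hi : i % 2 = 0)
    (hi0 : 0 < i) (hmd : m < d)
    (hN : 2 * d = i * N + k) (hk : k < i) (hM : m = i * M + ℓ) (hℓ : ℓ < i)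
    (hR : 1 ≤ M ∧ t + 2 * M ≤ N ∧
      ((2 * ℓ ≤ i ∧ k = 0 ∧ (N + π) % 2 = 1 ∧ t + 2 * M < N) ∨
       (2 * ℓ ≤ k ∧ (N + π) % 2 = 0) ∨ (2 * ℓ < k ∧ (N + π) % 2 = 1)))
    (τ β α γ : ℕ) (hP : arP π d i t τ β α γ) : Good m i τ β := by
  obtain ⟨heq, hα, hγt, hs1, hαpar⟩ := hP
  obtain ⟨hM1, hR1, hR2⟩ := hR
  obtain ⟨h, hh⟩ : ∃ h, i = 2 * h := ⟨i / 2, by omega⟩
  have hiN : i * N = 2 * (h * N) := by rw [hh]; ring
  obtain ⟨κ, hκ⟩ : ∃ κ, k = 2 * κ := ⟨k / 2, by omega⟩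
  -- `s ≤ N`
  have hsN : 2 * β + γ ≤ N := by
    by_contra hcon
    have h1 : N + 1 ≤ 2 * β + γ := by omega
    have h2 : i * (N + 1) ≤ i * (2 * β + γ) := Nat.mul_le_mul_left i h1
    have h3 : i * (N + 1) = i * N + i := by ring
    have h4 : i * (2 * β + γ) = 2 * (i * β) + i * γ := by ring
    omega
  have hs0 : 2 * β + γ = N → i * N = 2 * (i * β) + i * γ := by
    intro h0
    rw [← h0]; ring
  have hs1' : 2 * β + γ + 1 ≤ N → 2 * (i * β) + i * γ + i ≤ i * N := by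
    intro h0
    have h2 : i * (2 * β + γ + 1) ≤ i * N := Nat.mul_le_mul_left i h0
    have h4 : i * (2 * β + γ + 1) = 2 * (i * β) + i * γ + i := by ring
    omega
  have hs2' : 2 * β + γ + 2 ≤ N → 2 * (i * β) + i * γ + 2 * i ≤ i * N := by
    intro h0
    have h2 : i * (2 * β + γ + 2) ≤ i * N := Nat.mul_le_mul_left i h0
    have h4 : i * (2 * β + γ + 2) = 2 * (i * β) + i * γ + 2 * i := by ring
    omega
  by_cases hMβ : M ≤ β
  · refine ⟨ℓ, M, ?_, hMβ, by omega⟩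
    rcases Nat.lt_or_ge (2 * β + γ) N with hlt | hge
    · have h1 := hs1' (by omega)
      rcases hR2 with ⟨ha1, ha2, ha3, ha4⟩ | ⟨hb1, hb2⟩ | ⟨hc1, hc2⟩
      · rcases hα with rfl | rfl
        · omega
        · have hne : ¬ (γ + π) % 2 = 0 := fun h0 => by
            have := hαpar.2 h0
            omega
          have h2 := hs2' (by omega)
          omega
      · omega
      · omega
    · have h0 := hs0 (by omega)
      rcases hR2 with ⟨ha1, ha2, ha3, ha4⟩ | ⟨hb1, hb2⟩ | ⟨hc1, hc2⟩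
      · exfalso
        have hα0 : α = 0 := by omega
        have := hαpar.1 hα0
        omega
      · have hα0 : α = 0 := hαpar.2 (by omega)
        omega
      · omega
  · have hβM : β + 1 ≤ M := by omega
    have h1 : i * (β + 1) ≤ i * M := Nat.mul_le_mul_left i hβM
    have h2 : i * (β + 1) = i * β + i := by ring
    refine ⟨m - i * β, β, ?_, le_rfl, by omega⟩
    have hg0 : γ + 2 * M = N → i * N = i * γ + 2 * (i * M) := by
      intro h0
      rw [← h0]; ring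
    have hg1 : γ + 2 * M + 1 ≤ N → i * γ + 2 * (i * M) + i ≤ i * N := by
      intro h0
      have h2 : i * (γ + 2 * M + 1) ≤ i * N := Nat.mul_le_mul_left i h0
      have h4 : i * (γ + 2 * M + 1) = i * γ + 2 * (i * M) + i := by ring
      omega
    have hg2 : γ + 2 * M + 2 ≤ N → i * γ + 2 * (i * M) + 2 * i ≤ i * N := by
      intro h0
      have h2 : i * (γ + 2 * M + 2) ≤ i * N := Nat.mul_le_mul_left i h0
      have h4 : i * (γ + 2 * M + 2) = i * γ + 2 * (i * M) + 2 * i := by ring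
      omega
    rcases Nat.lt_or_ge (γ + 2 * M) N with hlt | hge
    · have h3 := hg1 (by omega)
      rcases hR2 with ⟨ha1, ha2, ha3, ha4⟩ | ⟨hb1, hb2⟩ | ⟨hc1, hc2⟩
      · rcases hα with rfl | rfl
        · omega
        · have hne : ¬ (γ + π) % 2 = 0 := fun h0 => by
            have := hαpar.2 h0
            omega
          have h4 := hg2 (by omega)
          omega
      · omega
      · omega
    · have h0 := hg0 (by omega)
      rcases hR2 with ⟨ha1, ha2, ha3, ha4⟩ | ⟨hb1, hb2⟩ | ⟨hc1, hc2⟩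
      · omega
      · have hα0 : α = 0 := hαpar.2 (by omega)
        omega
      · omega


theorem ar_core (π : ℕ) (hπ : π = 0 ∨ π = 1) (d m i t : ℕ) (hi : Even i)
    (hi0 : 0 < i) (ht : 1 ≤ t) (hmd : m < d)
    (hcnt : ∃ τ β α γ, arP π d i t τ β α γ ∧ τ < m) :
    (∀ τ β α γ, arP π d i t τ β α γ → Good m i τ β) ↔
    (1 ≤ m / i ∧ t + 2 * (m / i) ≤ (2 * d) / i ∧
      ((2 * (m % i) ≤ i ∧ (2 * d) % i = 0 ∧ ((2 * d) / i + π) % 2 = 1 ∧
          t + 2 * (m / i) < (2 * d) / i) ∨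
       (2 * (m % i) ≤ (2 * d) % i ∧ ((2 * d) / i + π) % 2 = 0) ∨
       (2 * (m % i) < (2 * d) % i ∧ ((2 * d) / i + π) % 2 = 1))) := by
  have hi2 : i % 2 = 0 := Nat.even_iff.1 hi
  have hN : 2 * d = i * ((2 * d) / i) + (2 * d) % i := (Nat.div_add_mod _ _).symm
  have hk : (2 * d) % i < i := Nat.mod_lt _ hi0
  have hM : m = i * (m / i) + m % i := (Nat.div_add_mod _ _).symm
  have hℓ : m % i < i := Nat.mod_lt _ hi0
  constructor
  · intro H
    exact ar_core_mp π hπ d m i t _ _ _ _ hi2 hi0 ht hmd hN hk hM hℓ hcnt H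
  · intro hR τ β α γ hP
    exact ar_core_mpr π hπ d m i t _ _ _ _ hi2 hi0 hmd hN hk hM hℓ hR τ β α γ hP

theorem ar_par_iff_plus {plus : Prop} (hplus : plus) {i : ℕ} (hi : Even i) (d t τ β α γ : ℕ) :
    Par (2 * d) i t plus τ β α γ ↔ arP 0 d i t τ β α γ := by
  unfold Par arP
  have e : 2 * i * β = 2 * (i * β) := Nat.mul_assoc 2 i β
  rw [e, Nat.add_zero, ← Nat.even_iff]
  constructor
  · rintro ⟨h1, h2, h3, -, h5, h6⟩
    exact ⟨h1, h2, h3, h5, h6.1 hplus⟩
  · rintro ⟨h1, h2, h3, h5, h6⟩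
    refine ⟨h1, h2, h3, fun ho => ?_, h5, fun _ => h6, fun _ => hplus⟩
    exact absurd hi (Nat.not_even_iff_odd.2 ho)

theorem ar_par_iff_minus {plus : Prop} (hminus : ¬ plus) {i : ℕ} (hi : Even i)
    (d t τ β α γ : ℕ) :
    Par (2 * d) i t plus τ β α γ ↔ arP 1 d i t τ β α γ := by
  unfold Par arP
  have e : 2 * i * β = 2 * (i * β) := Nat.mul_assoc 2 i β
  rw [e, ← Nat.even_iff, Nat.even_add_one]
  constructor
  · rintro ⟨h1, h2, h3, -, h5, h6⟩
    refine ⟨h1, h2, h3, h5, ?_⟩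
    constructor
    · intro h0 hev
      exact hminus (h6.2 ⟨fun _ => hev, fun _ => h0⟩)
    · intro hnev
      by_contra h0
      exact hminus (h6.2 ⟨fun h => absurd h h0, fun h => absurd h hnev⟩)
  · rintro ⟨h1, h2, h3, h5, h6⟩
    refine ⟨h1, h2, h3, fun ho => ?_, h5, fun h => absurd h hminus, fun h => ?_⟩
    · exact absurd hi (Nat.not_even_iff_odd.2 ho)
    · exfalso
      by_cases h0 : α = 0
      · exact h6.1 h0 (h.1 h0)
      · exact h0 (h6.2 (fun hev => h0 (h.2 hev)))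

theorem arith_plus_even (plus : Prop) (hplus : plus) (d m i t : ℕ) (hi : Even i) (hi0 : 0 < i)
    (ht : 1 ≤ t) (hm : 1 ≤ m) (hmd : m < d)
    (hcnt : ∃ j, j < m ∧ (i ∣ d - j ∨ (d - j - 1) % i = i / 2)) :
    (∀ τ β α γ : ℕ, Par (2 * d) i t plus τ β α γ → Good m i τ β) ↔
      (i ≤ m ∧ t + 2 * (m / i) ≤ (2 * d) / i ∧
        ((2 * (m % i) ≤ i ∧ (2 * d) % i = 0 ∧ Odd ((2 * d) / i) ∧ t + 2 * (m / i) < (2 * d) / i) ∨
         (2 * (m % i) ≤ (2 * d) % i ∧ Even ((2 * d) / i)) ∨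
         (2 * (m % i) < (2 * d) % i ∧ Odd ((2 * d) / i)))) := by
  have hi2 : i % 2 = 0 := Nat.even_iff.1 hi
  have hcnt' : ∃ τ β α γ, arP 0 d i t τ β α γ ∧ τ < m := by
    obtain ⟨j, hjm, hj | hj⟩ := hcnt
    · obtain ⟨c, hc⟩ := hj
      have hc1 : 1 ≤ c := by
        rcases Nat.eq_zero_or_pos c with h0 | h0
        · rw [h0, Nat.mul_zero] at hc
          omega
        · exact h0
      refine ⟨j, c, 0, 0, ⟨?_, Or.inl rfl, by omega, by omega, by simp⟩, hjm⟩
      rw [Nat.mul_zero]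
      omega
    · have h1 := Nat.div_add_mod (d - j - 1) i
      rw [hj] at h1
      refine ⟨j, (d - j - 1) / i, 2, 1, ⟨?_, Or.inr rfl, ht, by omega, by simp⟩, hjm⟩
      rw [Nat.mul_one]
      omega
  have key := ar_core 0 (Or.inl rfl) d m i t hi hi0 ht hmd hcnt'
  have hL : (∀ τ β α γ : ℕ, Par (2 * d) i t plus τ β α γ → Good m i τ β) ↔
      (∀ τ β α γ, arP 0 d i t τ β α γ → Good m i τ β) := by
    constructor
    · intro H τ β α γ hP
      exact H τ β α γ ((ar_par_iff_plus hplus hi d t τ β α γ).2 hP)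
    · intro H τ β α γ hP
      exact H τ β α γ ((ar_par_iff_plus hplus hi d t τ β α γ).1 hP)
  rw [hL, key, Nat.one_le_div_iff hi0, Nat.odd_iff, Nat.even_iff]
  simp only [Nat.add_zero]

theorem arith_minus_even (plus : Prop) (hminus : ¬ plus) (d m i t : ℕ) (hi : Even i) (hi0 : 0 < i)
    (ht : 1 ≤ t) (hm : 1 ≤ m) (hmd : m < d)
    (hcnt : ∃ j, j < m ∧ ((d - j) % i = i / 2 ∨ i ∣ d - j - 1)) :
    (∀ τ β α γ : ℕ, Par (2 * d) i t plus τ β α γ → Good m i τ β) ↔
      (i ≤ m ∧ t + 2 * (m / i) ≤ (2 * d) / i ∧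
        ((2 * (m % i) ≤ i ∧ (2 * d) % i = 0 ∧ Even ((2 * d) / i) ∧ t + 2 * (m / i) < (2 * d) / i) ∨
         (2 * (m % i) ≤ (2 * d) % i ∧ Odd ((2 * d) / i)) ∨
         (2 * (m % i) < (2 * d) % i ∧ Even ((2 * d) / i)))) := by
  have hi2 : i % 2 = 0 := Nat.even_iff.1 hi
  have hcnt' : ∃ τ β α γ, arP 1 d i t τ β α γ ∧ τ < m := by
    obtain ⟨j, hjm, hj | hj⟩ := hcnt
    · have h1 := Nat.div_add_mod (d - j) i
      rw [hj] at h1
      refine ⟨j, (d - j) / i, 0, 1, ⟨?_, Or.inl rfl, ht, by omega, by simp⟩, hjm⟩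
      rw [Nat.mul_one]
      omega
    · obtain ⟨c, hc⟩ := hj
      have hc1 : 1 ≤ c := by
        rcases Nat.eq_zero_or_pos c with h0 | h0
        · rw [h0, Nat.mul_zero] at hc
          omega
        · exact h0
      refine ⟨j, c, 2, 0, ⟨?_, Or.inr rfl, by omega, by omega, by simp⟩, hjm⟩
      rw [Nat.mul_zero]
      omega
  have key := ar_core 1 (Or.inr rfl) d m i t hi hi0 ht hmd hcnt'
  have hL : (∀ τ β α γ : ℕ, Par (2 * d) i t plus τ β α γ → Good m i τ β) ↔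
      (∀ τ β α γ, arP 1 d i t τ β α γ → Good m i τ β) := by
    constructor
    · intro H τ β α γ hP
      exact H τ β α γ ((ar_par_iff_minus hminus hi d t τ β α γ).2 hP)
    · intro H τ β α γ hP
      exact H τ β α γ ((ar_par_iff_minus hminus hi d t τ β α γ).1 hP)
  rw [hL, key, Nat.one_le_div_iff hi0, Nat.odd_iff, Nat.even_iff]
  generalize (2 * d) / i = N
  generalize (2 * d) % i = k
  generalize m / i = M
  generalize m % i = ℓ
  constructor <;> intro h <;> omega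

theorem ar_odd_core' (d₀ m i B ρ M ℓ : ℕ) (hi0 : 0 < i) (hm_le : m ≤ d₀)
    (hD : d₀ = i * B + ρ) (hρ : ρ < i) (hM : m = i * M + ℓ) (hℓ : ℓ < i)
    (hcnt : ∃ j, j < m ∧ i ∣ d₀ - j) :
    (∀ τ β, d₀ = τ + i * β → 1 ≤ β → Good m i τ β) ↔ (i ≤ m ∧ ℓ ≤ ρ) := by
  obtain ⟨j, hjm, c, hc⟩ := hcnt
  have hc1 : 1 ≤ c := by
    rcases Nat.eq_zero_or_pos c with h0 | h0
    · rw [h0, Nat.mul_zero] at hc
      omega
    · exact h0
  have hic : i * 1 ≤ i * c := Nat.mul_le_mul_left i hc1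
  have hB1 : 1 ≤ B := by
    by_contra h0
    have h1 : B = 0 := by omega
    rw [h1, Nat.mul_zero] at hD
    omega
  constructor
  · intro H
    have hG := H ρ B (by omega) hB1
    have hle := ar_good_mod hM hℓ hρ hG
    refine ⟨?_, hle⟩
    by_contra hlt
    have h1 : d₀ % i = j := by
      have : d₀ = j + i * c := by omega
      rw [this, Nat.add_mul_mod_self_left, Nat.mod_eq_of_lt (by omega)]
    have h1' : d₀ % i = ρ := by
      rw [hD, Nat.mul_add_mod, Nat.mod_eq_of_lt hρ]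
    have h2 : m % i = m := Nat.mod_eq_of_lt (by omega)
    have h2' : m % i = ℓ := by
      rw [hM, Nat.mul_add_mod, Nat.mod_eq_of_lt hℓ]
    omega
  · rintro ⟨him, hle⟩ τ β hd hβ
    by_cases hMβ : M ≤ β
    · refine ⟨ℓ, M, ?_, hMβ, by omega⟩
      have hβB : β ≤ B := by
        by_contra hcon
        have h1 : B + 1 ≤ β := by omega
        have h2 : i * (B + 1) ≤ i * β := Nat.mul_le_mul_left i h1
        have h3 : i * (B + 1) = i * B + i := by ring
        omega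
      rcases Nat.lt_or_ge β B with hlt | hge
      · have h2 : i * (β + 1) ≤ i * B := Nat.mul_le_mul_left i hlt
        have h3 : i * (β + 1) = i * β + i := by ring
        omega
      · have h1 : β = B := by omega
        rw [h1] at hd
        omega
    · have hβM : β + 1 ≤ M := by omega
      have h1 : i * (β + 1) ≤ i * M := Nat.mul_le_mul_left i hβM
      have h2 : i * (β + 1) = i * β + i := by ring
      exact ⟨m - i * β, β, by omega, le_rfl, by omega⟩

theorem ar_odd_core (d₀ m i : ℕ) (hi0 : 0 < i) (hm_le : m ≤ d₀)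
    (hcnt : ∃ j, j < m ∧ i ∣ d₀ - j) :
    (∀ τ β, d₀ = τ + i * β → 1 ≤ β → Good m i τ β) ↔ (i ≤ m ∧ m % i ≤ d₀ % i) :=
  ar_odd_core' d₀ m i (d₀ / i) (d₀ % i) (m / i) (m % i) hi0 hm_le (Nat.div_add_mod _ _).symm
    (Nat.mod_lt _ hi0) (Nat.div_add_mod _ _).symm (Nat.mod_lt _ hi0) hcnt

theorem arith_plus_odd (plus : Prop) (hplus : plus) (d m i t : ℕ) (hi : Odd i)
    (hm : 1 ≤ m) (hmd : m < d) (hcnt : ∃ j, j < m ∧ i ∣ d - j) :
    (∀ τ β α γ : ℕ, Par (2 * d) i t plus τ β α γ → Good m i τ β) ↔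
      (i ≤ m ∧ 2 * (m % i) ≤ (2 * d) % (2 * i)) := by
  have hi0 : 0 < i := hi.pos
  have key := ar_odd_core d m i hi0 hmd.le hcnt
  have hL : (∀ τ β α γ : ℕ, Par (2 * d) i t plus τ β α γ → Good m i τ β) ↔
      (∀ τ β, d = τ + i * β → 1 ≤ β → Good m i τ β) := by
    constructor
    · intro H τ β hd hβ
      apply H τ β 0 0
      refine ⟨?_, Or.inl rfl, Nat.zero_le _, fun _ => rfl, by omega, fun _ => by simp,
        fun _ => hplus⟩
      have e : 2 * i * β = 2 * (i * β) := Nat.mul_assoc 2 i β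
      rw [e, Nat.mul_zero]
      omega
    · intro H τ β α γ hP
      obtain ⟨h1, h2, h3, h4, h5, h6⟩ := hP
      have hγ : γ = 0 := h4 hi
      subst hγ
      have hα : α = 0 := ((h6.1 hplus).2 Even.zero)
      subst hα
      have e : 2 * i * β = 2 * (i * β) := Nat.mul_assoc 2 i β
      rw [e, Nat.mul_zero] at h1
      exact H τ β (by omega) (by omega)
  rw [hL, key, Nat.mul_mod_mul_left]
  constructor <;> rintro ⟨h1, h2⟩ <;> exact ⟨h1, by omega⟩

theorem arith_minus_odd (plus : Prop) (hminus : ¬ plus) (d m i t : ℕ) (hi : Odd i)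
    (hm : 1 ≤ m) (hmd : m < d) (hcnt : ∃ j, j < m ∧ i ∣ d - j - 1) :
    (∀ τ β α γ : ℕ, Par (2 * d) i t plus τ β α γ → Good m i τ β) ↔
      (i ≤ m ∧ ((2 * d) % (2 * i) = 0 ∨ 2 * (m % i) < (2 * d) % (2 * i))) := by
  have hi0 : 0 < i := hi.pos
  have hcnt' : ∃ j, j < m ∧ i ∣ (d - 1) - j := by
    obtain ⟨j, hj, hd⟩ := hcnt
    refine ⟨j, hj, ?_⟩
    rwa [show d - 1 - j = d - j - 1 by omega]
  have key := ar_odd_core (d - 1) m i hi0 (by omega) hcnt'
  have hL : (∀ τ β α γ : ℕ, Par (2 * d) i t plus τ β α γ → Good m i τ β) ↔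
      (∀ τ β, d - 1 = τ + i * β → 1 ≤ β → Good m i τ β) := by
    constructor
    · intro H τ β hd hβ
      apply H τ β 2 0
      refine ⟨?_, Or.inr rfl, Nat.zero_le _, fun _ => rfl, by omega, fun h => absurd h hminus,
        fun h => ?_⟩
      · have e : 2 * i * β = 2 * (i * β) := Nat.mul_assoc 2 i β
        rw [e, Nat.mul_zero]
        omega
      · exfalso
        have := h.2 Even.zero
        omega
    · intro H τ β α γ hP
      obtain ⟨h1, h2, h3, h4, h5, h6⟩ := hP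
      have hγ : γ = 0 := h4 hi
      subst hγ
      have hα : α = 2 := by
        rcases h2 with h0 | h0
        · exfalso
          exact hminus (h6.2 ⟨fun _ => Even.zero, fun _ => h0⟩)
        · exact h0
      subst hα
      have e : 2 * i * β = 2 * (i * β) := Nat.mul_assoc 2 i β
      rw [e, Nat.mul_zero] at h1
      exact H τ β (by omega) (by omega)
  rw [hL, key, Nat.mul_mod_mul_left]
  obtain ⟨B', ρ', hD, hρ, hρdef⟩ : ∃ B' ρ', d - 1 = i * B' + ρ' ∧ ρ' < i ∧ (d - 1) % i = ρ' :=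
    ⟨(d - 1) / i, (d - 1) % i, (Nat.div_add_mod _ _).symm, Nat.mod_lt _ hi0, rfl⟩
  rw [hρdef]
  have hℓ : m % i < i := Nat.mod_lt _ hi0
  have hdi : (d % i = 0 ∧ ρ' + 1 = i) ∨ (d % i = ρ' + 1 ∧ ρ' + 1 < i) := by
    rcases Nat.lt_or_ge (ρ' + 1) i with hlt | hge
    · right
      refine ⟨?_, hlt⟩
      have h1 : d = i * B' + (ρ' + 1) := by omega
      rw [h1, Nat.mul_add_mod, Nat.mod_eq_of_lt hlt]
    · left
      have h2 : ρ' + 1 = i := by omega
      refine ⟨?_, h2⟩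
      have h1 : d = i * (B' + 1) := by
        have : i * (B' + 1) = i * B' + i := by ring
        omega
      rw [h1, Nat.mul_mod_right]
  constructor <;> rintro ⟨h1, h2⟩ <;> exact ⟨h1, by omega⟩

end Cfsg.Agent.Lib.Helper7.TSO
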