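import Mathlib
import Cfsg.Agent.Lib.Helper7.Wielandt1
import Cfsg.Agent.Lib.Helper7.TwoConj1

set_option autoImplicit false

/-! Thompson–Wielandt: basic setup. Core-free maximal subgroups, internal cores. -/

namespace Cfsg.Agent.Lib.Lead.TW

open Cfsg.Agent.Lib.Helper7 Cfsg.Agent.Lib.Helper7.TwoConj

variable {G : Type*} [Group G]

/-- the core in `M` of `Y ⊓ M`, as a subgroup of the ambient group -/
def coreIn (M Y : Subgroup G) : Subgroup G := ((Y.subgroupOf M).normalCore).map M.subtype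

theorem mem_coreIn {M Y : Subgroup G} {x : G} :
    x ∈ coreIn M Y ↔ x ∈ M ∧ ∀ b ∈ M, b * x * b⁻¹ ∈ Y := by
  unfold coreIn
  constructor
  · rintro ⟨y, hy, rfl⟩
    refine ⟨y.2, ?_⟩
    intro b hb
    have := hy ⟨b, hb⟩
    rw [Subgroup.mem_subgroupOf] at this
    simpa using this
  · rintro ⟨hx, h⟩
    refine ⟨⟨x, hx⟩, ?_, rfl⟩
    intro b
    rw [Subgroup.mem_subgroupOf]
    simpa using h b b.2

theorem coreIn_le_left (M Y : Subgroup G) : coreIn M Y ≤ M := fun _ hx => (mem_coreIn.mp hx).1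

theorem coreIn_le_right (M Y : Subgroup G) : coreIn M Y ≤ Y := by
  intro x hx
  have := (mem_coreIn.mp hx).2 1 M.one_mem
  simpa using this

theorem le_normalizer_coreIn (M Y : Subgroup G) :
    M ≤ Subgroup.normalizer ((coreIn M Y : Subgroup G) : Set G) := by
  have key : ∀ m ∈ M, ∀ x ∈ coreIn M Y, m * x * m⁻¹ ∈ coreIn M Y := by
    intro m hm x hx
    rw [mem_coreIn] at hx ⊢
    refine ⟨M.mul_mem (M.mul_mem hm hx.1) (M.inv_mem hm), ?_⟩
    intro b hb
    have := hx.2 (b * m) (M.mul_mem hb hm)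
    have e : b * (m * x * m⁻¹) * b⁻¹ = b * m * x * (b * m)⁻¹ := by group
    rw [e]; exact this
  intro m hm
  rw [Subgroup.mem_normalizer_iff]
  intro x
  constructor
  · exact key m hm x
  · intro h
    have := key m⁻¹ (M.inv_mem hm) _ h
    have e : m⁻¹ * (m * x * m⁻¹) * m⁻¹⁻¹ = x := by group
    rwa [e] at this

theorem le_coreIn {M Y N : Subgroup G} (hNM : N ≤ M) (hNY : N ≤ Y)
    (hn : M ≤ Subgroup.normalizer (N : Set G)) : N ≤ coreIn M Y := by
  intro x hx
  rw [mem_coreIn]
  refine ⟨hNM hx, ?_⟩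
  intro b hb
  exact hNY ((Subgroup.mem_normalizer_iff.mp (hn hb) x).mp hx)

theorem coreIn_mono_right {M Y Y' : Subgroup G} (h : Y ≤ Y') : coreIn M Y ≤ coreIn M Y' :=
  le_coreIn (coreIn_le_left M Y) ((coreIn_le_right M Y).trans h) (le_normalizer_coreIn M Y)

theorem coreIn_cj (g : G) (M Y : Subgroup G) : coreIn (cj g M) (cj g Y) = cj g (coreIn M Y) := by
  ext x
  rw [mem_coreIn, mem_cj, mem_cj, mem_coreIn]
  constructor
  · rintro ⟨h1, h2⟩
    refine ⟨h1, ?_⟩
    intro b hb
    have hb' : g * b * g⁻¹ ∈ cj g M := by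
      rw [mem_cj]
      have e : g⁻¹ * (g * b * g⁻¹) * g = b := by group
      rw [e]; exact hb
    have := h2 _ hb'
    rw [mem_cj] at this
    have e : g⁻¹ * (g * b * g⁻¹ * x * (g * b * g⁻¹)⁻¹) * g = b * (g⁻¹ * x * g) * b⁻¹ := by group
    rwa [e] at this
  · rintro ⟨h1, h2⟩
    refine ⟨h1, ?_⟩
    intro b hb
    rw [mem_cj] at hb ⊢
    have := h2 _ hb
    have e : g⁻¹ * (b * x * b⁻¹) * g = g⁻¹ * b * g * (g⁻¹ * x * g) * (g⁻¹ * b * g)⁻¹ := by group
    rw [e]; exact this

/-! ### core-free maximal subgroups -/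

/-- `H` is a maximal subgroup with trivial core -/
def CF (H : Subgroup G) : Prop := IsCoatom H ∧ H.normalCore = ⊥

theorem CF.eq_bot_of_normal {H : Subgroup G} (h : CF H) {N : Subgroup G} (hN : N ≤ H)
    (hn : N.Normal) : N = ⊥ := by
  have := (Subgroup.normal_le_normalCore (H := H) (N := N)).mpr hN
  rw [h.2] at this
  exact le_bot_iff.mp this

theorem CF.normalizer_eq {H : Subgroup G} (h : CF H) {N : Subgroup G} (hN : N ≤ H)
    (hne : N ≠ ⊥) (hn : H ≤ Subgroup.normalizer (N : Set G)) :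
    Subgroup.normalizer (N : Set G) = H := by
  by_contra hc
  have h1 : H < Subgroup.normalizer (N : Set G) := lt_of_le_of_ne hn (Ne.symm hc)
  have h2 := h.1.2 _ h1
  have h3 : N.Normal := Subgroup.normalizer_eq_top_iff.mp h2
  exact hne (h.eq_bot_of_normal hN h3)

theorem CF.centralizer_le {H : Subgroup G} (h : CF H) {N : Subgroup G} (hN : N ≤ H)
    (hne : N ≠ ⊥) (hn : H ≤ Subgroup.normalizer (N : Set G)) :
    Subgroup.centralizer (N : Set G) ≤ H := by
  have := h.normalizer_eq hN hne hn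
  calc Subgroup.centralizer (N : Set G) ≤ Subgroup.normalizer (N : Set G) :=
        Subgroup.centralizer_le_normalizer _
    _ = H := this

theorem CF.conj {H : Subgroup G} (h : CF H) (g : G) : CF (cj g H) := by
  constructor
  · exact ((MulAut.conj g).mapSubgroup.isCoatom_iff H).mpr h.1
  · rw [eq_bot_iff]
    intro x hx
    have h1 : (cj g H).normalCore ≤ H := by
      intro y hy
      have hn : ((cj g H).normalCore).Normal := Subgroup.normalCore_normal _
      have h2 : g * y * g⁻¹ ∈ (cj g H).normalCore := hn.conj_mem y hy g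
      have h3 := Subgroup.normalCore_le _ h2
      rw [mem_cj] at h3
      have e : g⁻¹ * (g * y * g⁻¹) * g = y := by group
      rwa [e] at h3
    have h2 := h.eq_bot_of_normal h1 (Subgroup.normalCore_normal _)
    rw [h2] at hx
    exact hx

end Cfsg.Agent.Lib.Lead.TW
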