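import Mathlib
import Cfsg.Agent.Lib.Lead.TW1

set_option autoImplicit false

/-! Thompson–Wielandt: pairs of conjugate core-free maximal subgroups; the cores `A`, `A₂`. -/

namespace Cfsg.Agent.Lib.Lead.TW

open Cfsg.Agent.Lib.Helper7 Cfsg.Agent.Lib.Helper7.TwoConj

variable {G : Type*} [Group G]

/-- two distinct conjugate core-free maximal subgroups -/
structure Pair (H K : Subgroup G) : Prop where
  cfH : CF H
  ne : H ≠ K
  conj : ∃ g : G, K = cj g H

namespace Pair

variable {H K : Subgroup G}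

theorem cfK (h : Pair H K) : CF K := by
  obtain ⟨g, rfl⟩ := h.conj
  exact h.cfH.conj g

theorem symm (h : Pair H K) : Pair K H := by
  refine ⟨h.cfK, h.ne.symm, ?_⟩
  obtain ⟨g, hg⟩ := h.conj
  exact ⟨g⁻¹, by rw [hg, cj_inv_cj]⟩

theorem sup_eq_top (h : Pair H K) : H ⊔ K = ⊤ := by
  by_contra hc
  have h1 : H = H ⊔ K := by
    by_contra h2
    exact hc (h.cfH.1.2 _ (lt_of_le_of_ne le_sup_left h2))
  have h3 : K ≤ H := by rw [h1]; exact le_sup_right
  have h4 : K = H := by
    by_contra h5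
    exact h.cfH.1.1 (h.cfK.1.2 _ (lt_of_le_of_ne h3 h5))
  exact h.ne h4.symm

theorem eq_bot (h : Pair H K) {N : Subgroup G} (hN : N ≤ H)
    (h1 : H ≤ Subgroup.normalizer (N : Set G)) (h2 : K ≤ Subgroup.normalizer (N : Set G)) :
    N = ⊥ := by
  have h3 : Subgroup.normalizer (N : Set G) = ⊤ := by
    rw [eq_top_iff, ← h.sup_eq_top]
    exact sup_le h1 h2
  exact h.cfH.eq_bot_of_normal hN (Subgroup.normalizer_eq_top_iff.mp h3)

theorem eq_bot_of_le_of_card_eq [Finite G] (h : Pair H K) {X Y : Subgroup G} (hXY : X ≤ Y)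
    (hc : Nat.card X = Nat.card Y) (hX : H ≤ Subgroup.normalizer (X : Set G))
    (hY : K ≤ Subgroup.normalizer (Y : Set G)) (hXH : X ≤ H) : Y = ⊥ := by
  have h1 : X = Y := Subgroup.eq_of_le_of_card_ge hXY hc.ge
  subst h1
  exact h.eq_bot hXH hX hY

theorem eq_bot_of_le_of_card_eq' [Finite G] (h : Pair H K) {X Y : Subgroup G} (hXY : Y ≤ X)
    (hc : Nat.card X = Nat.card Y) (hX : H ≤ Subgroup.normalizer (X : Set G))
    (hY : K ≤ Subgroup.normalizer (Y : Set G)) (hXH : X ≤ H) : Y = ⊥ := by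
  have h1 : Y = X := Subgroup.eq_of_le_of_card_ge hXY hc.le
  subst h1
  exact h.eq_bot hXH hX hY

end Pair

/-- first core: the core in `H` of `H ⊓ K` -/
def cA (H K : Subgroup G) : Subgroup G := coreIn H K

/-- second core -/
def cA2 (H K : Subgroup G) : Subgroup G := coreIn H (cA H K ⊓ cA K H)

theorem cA_le_left (H K : Subgroup G) : cA H K ≤ H := coreIn_le_left _ _
theorem cA_le_right (H K : Subgroup G) : cA H K ≤ K := coreIn_le_right _ _
theorem le_normalizer_cA (H K : Subgroup G) :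
    H ≤ Subgroup.normalizer ((cA H K : Subgroup G) : Set G) := le_normalizer_coreIn _ _

theorem cA2_le_cA (H K : Subgroup G) : cA2 H K ≤ cA H K :=
  (coreIn_le_right _ _).trans inf_le_left
theorem cA2_le_cA' (H K : Subgroup G) : cA2 H K ≤ cA K H :=
  (coreIn_le_right _ _).trans inf_le_right
theorem cA2_le_left (H K : Subgroup G) : cA2 H K ≤ H := coreIn_le_left _ _
theorem cA2_le_right (H K : Subgroup G) : cA2 H K ≤ K := (cA2_le_cA H K).trans (cA_le_right H K)
theorem le_normalizer_cA2 (H K : Subgroup G) :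
    H ≤ Subgroup.normalizer ((cA2 H K : Subgroup G) : Set G) := le_normalizer_coreIn _ _

theorem coreIn_inf_self (H K : Subgroup G) : coreIn H (H ⊓ K) = cA H K := by
  ext x
  unfold cA
  rw [mem_coreIn, mem_coreIn]
  constructor
  · rintro ⟨h1, h2⟩
    exact ⟨h1, fun b hb => (h2 b hb).2⟩
  · rintro ⟨h1, h2⟩
    exact ⟨h1, fun b hb => ⟨H.mul_mem (H.mul_mem hb h1) (H.inv_mem hb), h2 b hb⟩⟩

theorem cA_le_cj {H K : Subgroup G} {b : G} (hb : b ∈ H) : cA H K ≤ cj b K := by
  intro x hx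
  rw [mem_cj]
  have := (mem_coreIn.mp hx).2 b⁻¹ (H.inv_mem hb)
  rwa [inv_inv] at this

theorem le_cA_of_forall {H K X : Subgroup G} (hXH : X ≤ H) (h : ∀ b ∈ H, X ≤ cj b K) :
    X ≤ cA H K := by
  intro x hx
  unfold cA
  rw [mem_coreIn]
  refine ⟨hXH hx, ?_⟩
  intro b hb
  have := h b⁻¹ (H.inv_mem hb) hx
  rw [mem_cj] at this
  rwa [inv_inv] at this

theorem le_cA {H K N : Subgroup G} (hNH : N ≤ H) (hNK : N ≤ K)
    (hn : H ≤ Subgroup.normalizer (N : Set G)) : N ≤ cA H K := le_coreIn hNH hNK hn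

theorem cA_cj (g : G) (H K : Subgroup G) : cA (cj g H) (cj g K) = cj g (cA H K) := coreIn_cj g H K

theorem cA2_cj (g : G) (H K : Subgroup G) : cA2 (cj g H) (cj g K) = cj g (cA2 H K) := by
  unfold cA2
  rw [cA_cj, cA_cj, ← cj_inf, coreIn_cj]

/-- `A₂ ⊴ B ⊴ K` -/
theorem cA2_subnIn (H K : Subgroup G) : SubnIn (cA2 H K) K := by
  refine (SubnIn.of_normal (cA2_le_cA' H K) ?_).trans
    (SubnIn.of_normal (cA_le_left K H) (le_normalizer_cA K H))
  exact (cA_le_right K H).trans (le_normalizer_cA2 H K)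

theorem cA_le_normalizer_cA2 (H K : Subgroup G) :
    cA K H ≤ Subgroup.normalizer ((cA2 H K : Subgroup G) : Set G) :=
  (cA_le_right K H).trans (le_normalizer_cA2 H K)

/-! ### conjugation invariance of `coreOf`, `resid`, centralizers -/

theorem coreOf_cj_le (q : ℕ) (g : G) (X : Subgroup G) : cj g (coreOf q X) ≤ coreOf q (cj g X) :=
  le_coreOf (cj_mono g (coreOf_le q X)) (le_normalizer_cj (le_normalizer_coreOf q X))
    ((isPGroup_coreOf q X).map _)

theorem coreOf_cj (q : ℕ) (g : G) (X : Subgroup G) : coreOf q (cj g X) = cj g (coreOf q X) := by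
  apply le_antisymm _ (coreOf_cj_le q g X)
  have := coreOf_cj_le q g⁻¹ (cj g X)
  rw [cj_inv_cj] at this
  have h2 := cj_mono g this
  rwa [cj_cj_inv] at h2

theorem le_normalizer_coreOf_of_le {q : ℕ} {X Y : Subgroup G}
    (h : Y ≤ Subgroup.normalizer (X : Set G)) :
    Y ≤ Subgroup.normalizer ((coreOf q X : Subgroup G) : Set G) := by
  intro y hy
  rw [mem_normalizer_iff_cj, ← coreOf_cj, mem_normalizer_iff_cj.mp (h hy)]

theorem coreOf_mono_of_normal {q : ℕ} {X Y : Subgroup G} (hXY : X ≤ Y)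
    (h : Y ≤ Subgroup.normalizer (X : Set G)) : coreOf q X ≤ coreOf q Y :=
  le_coreOf ((coreOf_le q X).trans hXY) (le_normalizer_coreOf_of_le h) (isPGroup_coreOf q X)

theorem centralizer_cj (g : G) (X : Subgroup G) :
    Subgroup.centralizer ((cj g X : Subgroup G) : Set G) =
      cj g (Subgroup.centralizer (X : Set G)) := by
  ext x
  rw [mem_cj, Subgroup.mem_centralizer_iff, Subgroup.mem_centralizer_iff]
  constructor
  · intro h y hy
    have hy' : g * y * g⁻¹ ∈ cj g X := by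
      rw [mem_cj]
      have e : g⁻¹ * (g * y * g⁻¹) * g = y := by group
      rw [e]; exact hy
    have := h _ hy'
    calc y * (g⁻¹ * x * g) = g⁻¹ * (g * y * g⁻¹ * x) * g := by group
      _ = g⁻¹ * (x * (g * y * g⁻¹)) * g := by rw [this]
      _ = g⁻¹ * x * g * y := by group
  · intro h y hy
    have hy' : g⁻¹ * y * g ∈ X := (mem_cj g y X).mp hy
    have := h _ hy'
    calc y * x = g * (g⁻¹ * y * g * (g⁻¹ * x * g)) * g⁻¹ := by group
      _ = g * (g⁻¹ * x * g * (g⁻¹ * y * g)) * g⁻¹ := by rw [this]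
      _ = x * y := by group

theorem le_normalizer_centralizer_of_le {X Y : Subgroup G}
    (h : Y ≤ Subgroup.normalizer (X : Set G)) :
    Y ≤ Subgroup.normalizer ((Subgroup.centralizer (X : Set G) : Subgroup G) : Set G) := by
  intro y hy
  rw [mem_normalizer_iff_cj, ← centralizer_cj, mem_normalizer_iff_cj.mp (h hy)]

theorem resid_cj [Finite G] (q : ℕ) [Fact q.Prime] (g : G) (X : Subgroup G) :
    resid q (cj g X) = cj g (resid q X) :=
  (resid_map q (MulAut.conj g).toMonoidHom X).symm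

theorem le_normalizer_resid_of_le [Finite G] {q : ℕ} [Fact q.Prime] {X Y : Subgroup G}
    (h : Y ≤ Subgroup.normalizer (X : Set G)) :
    Y ≤ Subgroup.normalizer ((resid q X : Subgroup G) : Set G) := by
  intro y hy
  rw [mem_normalizer_iff_cj, ← resid_cj, mem_normalizer_iff_cj.mp (h hy)]

theorem le_normalizer_inf {X Y Z : Subgroup G} (h1 : Z ≤ Subgroup.normalizer (X : Set G))
    (h2 : Z ≤ Subgroup.normalizer (Y : Set G)) :
    Z ≤ Subgroup.normalizer ((X ⊓ Y : Subgroup G) : Set G) := by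
  intro z hz
  rw [mem_normalizer_iff_cj, cj_inf, mem_normalizer_iff_cj.mp (h1 hz),
    mem_normalizer_iff_cj.mp (h2 hz)]

/-- all `q'`-elements of `L` lie in `N` -/
theorem resid_le_of_forall_coprime {q : ℕ} {L N : Subgroup G}
    (h : ∀ l ∈ L, (orderOf l).Coprime q → l ∈ N) : resid q L ≤ N := by
  unfold resid Cfsg.pResidual
  rw [MonoidHom.map_closure, Subgroup.closure_le]
  rintro _ ⟨g, hg, rfl⟩
  have hg' : Nat.Coprime (orderOf (g : G)) q := by
    rw [Subgroup.orderOf_coe]; exact hg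
  exact h _ g.2 hg'

theorem resid_mono {q : ℕ} {X Y : Subgroup G} (h : X ≤ Y) : resid q X ≤ resid q Y :=
  resid_le_of_forall_coprime fun _ hl hc => mem_resid_of_coprime (h hl) hc

theorem isPGroup_of_resid_eq_bot [Finite G] {q : ℕ} [hq : Fact q.Prime] {L : Subgroup G}
    (h : resid q L = ⊥) : IsPGroup q L := by
  intro x
  obtain ⟨k, m, hm, hkm⟩ := Nat.exists_eq_pow_mul_and_not_dvd (orderOf_pos (x : G)).ne' q
    hq.out.ne_one
  have hcop : (orderOf ((x : G) ^ q ^ k)).Coprime q := by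
    have h1 : orderOf ((x : G) ^ q ^ k) = m := by
      rw [orderOf_pow' _ (pow_ne_zero k hq.out.ne_zero), hkm, Nat.gcd_eq_right (dvd_mul_right _ _)]
      exact Nat.mul_div_cancel_left _ (pow_pos hq.out.pos k)
    rw [h1]
    exact ((Nat.Prime.coprime_iff_not_dvd hq.out).mpr hm).symm
  have h2 : (x : G) ^ q ^ k ∈ resid q L := mem_resid_of_coprime (L.pow_mem x.2 _) hcop
  rw [h] at h2
  refine ⟨k, ?_⟩
  apply Subtype.ext
  rw [Subgroup.coe_pow]
  exact h2

end Cfsg.Agent.Lib.Lead.TW
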