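import Mathlib
import Cfsg.Agent.Lib.Lead.TW2
import Cfsg.Agent.Lib.Lead.ThompsonPQ

set_option autoImplicit false

/-! Thompson–Wielandt: Proposition 1 (characteristic `q`). -/

namespace Cfsg.Agent.Lib.Lead.TW

open Cfsg.Agent.Lib.Helper7 Cfsg.Agent.Lib.Helper7.TwoConj

variable {G : Type*} [Group G]

/-- `C_X(O_q(X))` -/
def Cq (q : ℕ) (X : Subgroup G) : Subgroup G :=
  Subgroup.centralizer ((coreOf q X : Subgroup G) : Set G) ⊓ X

/-- the subgroup generated by the `q'`-elements of `C_X(O_q(X))` -/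
def Mq (q : ℕ) (X : Subgroup G) : Subgroup G := resid q (Cq q X)

theorem Cq_le (q : ℕ) (X : Subgroup G) : Cq q X ≤ X := inf_le_right

theorem Mq_le (q : ℕ) (X : Subgroup G) : Mq q X ≤ Cq q X := resid_le _ _

theorem Cq_cj (q : ℕ) (g : G) (X : Subgroup G) : Cq q (cj g X) = cj g (Cq q X) := by
  unfold Cq
  rw [coreOf_cj, centralizer_cj, cj_inf]

theorem Mq_cj [Finite G] (q : ℕ) [Fact q.Prime] (g : G) (X : Subgroup G) :
    Mq q (cj g X) = cj g (Mq q X) := by
  unfold Mq
  rw [Cq_cj, resid_cj]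

theorem le_normalizer_Cq (q : ℕ) (X : Subgroup G) :
    X ≤ Subgroup.normalizer ((Cq q X : Subgroup G) : Set G) :=
  le_normalizer_inf (le_normalizer_centralizer_of_le (le_normalizer_coreOf q X))
    Subgroup.le_normalizer

theorem le_normalizer_Mq [Finite G] (q : ℕ) [Fact q.Prime] (X : Subgroup G) :
    X ≤ Subgroup.normalizer ((Mq q X : Subgroup G) : Set G) :=
  le_normalizer_resid_of_le (le_normalizer_Cq q X)

theorem Cq_le_coreOf_of_Mq_eq_bot [Finite G] {q : ℕ} [Fact q.Prime] {X : Subgroup G}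
    (h : Mq q X = ⊥) : Cq q X ≤ coreOf q X :=
  le_coreOf (Cq_le q X) (le_normalizer_Cq q X) (isPGroup_of_resid_eq_bot h)

theorem mem_centralizer_zpowers {x t : G} (h : t * x = x * t) :
    x ∈ Subgroup.centralizer ((Subgroup.zpowers t : Subgroup G) : Set G) := by
  rw [Subgroup.mem_centralizer_iff]
  intro y hy
  obtain ⟨n, rfl⟩ := Subgroup.mem_zpowers_iff.mp hy
  exact (Commute.zpow_left (show Commute t x from h) n).eq

theorem prop1_le [Finite G] {H K : Subgroup G} (h : Pair H K) (q : ℕ) [Fact q.Prime]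
    (hX : coreOf q (cA2 H K) ≠ ⊥) : Mq q K ≤ Mq q H := by
  have hXH : coreOf q (cA2 H K) ≤ H := (coreOf_le q _).trans (cA2_le_left H K)
  have hHX : H ≤ Subgroup.normalizer ((coreOf q (cA2 H K) : Subgroup G) : Set G) :=
    le_normalizer_coreOf_of_le (le_normalizer_cA2 H K)
  have hCX : Subgroup.centralizer ((coreOf q (cA2 H K) : Subgroup G) : Set G) ≤ H :=
    h.cfH.centralizer_le hXH hX hHX
  have hXP : coreOf q (cA2 H K) ≤ coreOf q (cA K H) :=
    le_coreOf ((coreOf_le q _).trans (cA2_le_cA' H K))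
      (le_normalizer_coreOf_of_le (cA_le_normalizer_cA2 H K)) (isPGroup_coreOf q _)
  have hPne : coreOf q (cA K H) ≠ ⊥ := by
    intro h0
    rw [h0] at hXP
    exact hX (le_bot_iff.mp hXP)
  have hPB : coreOf q (cA K H) ≤ cA K H := coreOf_le q _
  have hBK : cA K H ≤ K := cA_le_left K H
  have hBH : cA K H ≤ H := cA_le_right K H
  have hKP : K ≤ Subgroup.normalizer ((coreOf q (cA K H) : Subgroup G) : Set G) :=
    le_normalizer_coreOf_of_le (le_normalizer_cA K H)
  have hPQK : coreOf q (cA K H) ≤ coreOf q K := coreOf_mono_of_normal hBK (le_normalizer_cA K H)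
  have hCP : Subgroup.centralizer ((coreOf q (cA K H) : Subgroup G) : Set G) ≤ K :=
    h.cfK.centralizer_le (hPB.trans hBK) hPne hKP
  have hKM : K ≤ Subgroup.normalizer ((Mq q K : Subgroup G) : Set G) := le_normalizer_Mq q K
  have hMKH : Mq q K ≤ H :=
    (Mq_le q K).trans (inf_le_left.trans ((Subgroup.centralizer_le (hXP.trans hPQK)).trans hCX))
  have hMKK : Mq q K ≤ K := (Mq_le q K).trans (Cq_le q K)
  apply resid_le_of_forall_coprime
  intro t ht hcop
  have htM : t ∈ Mq q K := mem_resid_of_coprime ht hcop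
  have htH : t ∈ H := hMKH htM
  have htC : t ∈ Subgroup.centralizer ((coreOf q K : Subgroup G) : Set G) := ht.1
  have key : Subgroup.zpowers t ≤ Subgroup.centralizer ((coreOf q H : Subgroup G) : Set G) := by
    apply Cfsg.Agent.Lib.Lead.thompson_PQ q (coreOf q (cA K H)) (Subgroup.zpowers t) (coreOf q H)
      (isPGroup_coreOf q _) ?_ (isPGroup_coreOf q H) ?_ ?_ ?_ ?_
    · rw [Nat.card_zpowers]; exact hcop
    · intro x hx
      apply mem_centralizer_zpowers
      exact (Subgroup.mem_centralizer_iff.mp htC x (hPQK hx)).symm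
    · exact (hPB.trans hBH).trans (le_normalizer_coreOf q H)
    · rw [Subgroup.zpowers_le]; exact le_normalizer_coreOf q H htH
    · intro v hv
      apply mem_centralizer_zpowers
      have hvK : v ∈ K := hCP hv.2
      have hvQ : v ∈ coreOf q H := hv.1
      have hwQH : v⁻¹ * (t * v * t⁻¹) ∈ coreOf q H :=
        Subgroup.mul_mem _ (Subgroup.inv_mem _ hvQ)
          ((Subgroup.mem_normalizer_iff.mp (le_normalizer_coreOf q H htH) v).mp hvQ)
      have hwMK : v⁻¹ * (t * v * t⁻¹) ∈ Mq q K := by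
        have h1 := (Subgroup.mem_normalizer_iff.mp (hKM (K.inv_mem hvK)) t).mp htM
        rw [inv_inv] at h1
        have e : v⁻¹ * (t * v * t⁻¹) = v⁻¹ * t * v * t⁻¹ := by group
        rw [e]
        exact Subgroup.mul_mem _ h1 (Subgroup.inv_mem _ htM)
      have hY : coreOf q H ⊓ Mq q K ≤ coreOf q K := by
        have h1 : coreOf q H ⊓ Mq q K ≤ coreOf q (Mq q K) :=
          le_coreOf inf_le_right
            (le_normalizer_inf (hMKH.trans (le_normalizer_coreOf q H)) Subgroup.le_normalizer)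
            ((isPGroup_coreOf q H).to_le inf_le_left)
        exact h1.trans (coreOf_mono_of_normal hMKK hKM)
      have hwQK : v⁻¹ * (t * v * t⁻¹) ∈ coreOf q K := hY ⟨hwQH, hwMK⟩
      have hc : Commute t (v⁻¹ * (t * v * t⁻¹)) :=
        (Subgroup.mem_centralizer_iff.mp htC _ hwQK).symm
      have hcop2 : (orderOf t).Coprime (orderOf (v⁻¹ * (t * v * t⁻¹))) := by
        obtain ⟨k, hk⟩ := (isPGroup_coreOf q K) ⟨_, hwQK⟩
        have hk' : (v⁻¹ * (t * v * t⁻¹)) ^ q ^ k = 1 := by
          simpa using congrArg Subtype.val hk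
        exact Nat.Coprime.coprime_dvd_right (orderOf_dvd_of_pow_eq_one hk') (hcop.pow_right k)
      exact commute_of_commute_comm hc hcop2
  have h2 : t ∈ Cq q H := ⟨key (Subgroup.mem_zpowers t), htH⟩
  exact mem_resid_of_coprime h2 hcop

/-- **Proposition 1**: if `O_q(A₂) ≠ 1` then `H` and `K` have characteristic `q`. -/
theorem prop1 [Finite G] {H K : Subgroup G} (h : Pair H K) (q : ℕ) [Fact q.Prime]
    (hX : coreOf q (cA2 H K) ≠ ⊥) : Mq q H = ⊥ ∧ Mq q K = ⊥ := by
  have h1 := prop1_le h q hX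
  obtain ⟨g, hg⟩ := h.conj
  have hc : Nat.card (Mq q H) = Nat.card (Mq q K) := by
    rw [hg, Mq_cj, card_cj]
  have hMH : Mq q H ≤ H := (Mq_le q H).trans (Cq_le q H)
  have h2 : Mq q K = ⊥ :=
    h.eq_bot_of_le_of_card_eq' h1 hc (le_normalizer_Mq q H) (le_normalizer_Mq q K) hMH
  refine ⟨?_, h2⟩
  rw [h2] at hc
  rw [Subgroup.card_bot] at hc
  exact Subgroup.card_eq_one.mp hc

end Cfsg.Agent.Lib.Lead.TW
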