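import Mathlib
import Cfsg.Agent.Lib.Lead.TW3
import Cfsg.Agent.Lib.Helper7.Wielandt2

set_option autoImplicit false

/-! Thompson–Wielandt: `O_q(L)` normalizes `O^q(S)` for `S` subnormal in `L`; Proposition 2. -/

namespace Cfsg.Agent.Lib.Lead.TW

open Cfsg.Agent.Lib.Helper7 Cfsg.Agent.Lib.Helper7.TwoConj

variable {G : Type*} [Group G]

theorem exists_mul_of_mem_sup_left {S Q : Subgroup G}
    (h : S ≤ Subgroup.normalizer (Q : Set G)) {x : G} (hx : x ∈ S ⊔ Q) :
    ∃ s ∈ S, ∃ u ∈ Q, s * u = x := by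
  have h1 : x ∈ ((S ⊔ Q : Subgroup G) : Set G) := hx
  rw [Subgroup.coe_mul_of_left_le_normalizer_right S Q h] at h1
  exact Set.mem_mul.mp h1

theorem exists_mul_of_mem_sup_right {S Q : Subgroup G}
    (h : S ≤ Subgroup.normalizer (Q : Set G)) {x : G} (hx : x ∈ Q ⊔ S) :
    ∃ u ∈ Q, ∃ s ∈ S, u * s = x := by
  have h1 : x ∈ ((Q ⊔ S : Subgroup G) : Set G) := hx
  rw [Subgroup.coe_mul_of_right_le_normalizer_left Q S h] at h1
  exact Set.mem_mul.mp h1

theorem resid_eq_of_subnIn_aux [Finite G] (q : ℕ) [Fact q.Prime] (n : ℕ) :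
    ∀ (L S Q : Subgroup G), Nat.card L = n → SubnIn S L →
      L ≤ Subgroup.normalizer (Q : Set G) → IsPGroup q Q → L ≤ S ⊔ Q →
      resid q L = resid q S := by
  induction n using Nat.strong_induction_on with
  | _ n ih =>
  intro L S Q hn hS hLQ hQ hLSQ
  by_cases hSL : S = L
  · rw [hSL]
  obtain ⟨N, hSN, hNL, hLN, hSsN⟩ := hS.exists_normal_lt hSL
  have hSL' : S ≤ L := hS.le
  have hdec : ∀ x ∈ L, ∃ s ∈ S, ∃ u ∈ Q, s * u = x := fun x hx =>
    exists_mul_of_mem_sup_left (hSL'.trans hLQ) (hLSQ hx)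
  have h1 : resid q N = resid q S := by
    apply ih (Nat.card N) (by rw [← hn]; exact card_lt_of_lt hNL) N S (N ⊓ Q) rfl hSsN
      (le_normalizer_inf Subgroup.le_normalizer (hNL.le.trans hLQ)) (hQ.to_le inf_le_right)
    intro x hx
    obtain ⟨s, hs, u, hu, rfl⟩ := hdec x (hNL.le hx)
    have huN : u ∈ N := by
      have : u = s⁻¹ * (s * u) := by group
      rw [this]; exact N.mul_mem (N.inv_mem (hSN hs)) hx
    exact Subgroup.mul_mem _ (Subgroup.mem_sup_left hs) (Subgroup.mem_sup_right ⟨huN, hu⟩)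
  rw [← h1]
  apply le_antisymm _ (resid_mono hNL.le)
  have h2 : resid q L ≤ N := by
    apply resid_le_of_forall_pow
    intro l hl
    obtain ⟨s, hs, u, hu, rfl⟩ := hdec l hl
    have hsL : s ∈ L := hSL' hs
    have huL : u ∈ L := by
      have : u = s⁻¹ * (s * u) := by group
      rw [this]; exact L.mul_mem (L.inv_mem hsL) hl
    have hu2 : s * u * s⁻¹ ∈ Q := (Subgroup.mem_normalizer_iff.mp (hLQ hsL) u).mp hu
    have hu2L : s * u * s⁻¹ ∈ L := L.mul_mem (L.mul_mem hsL huL) (L.inv_mem hsL)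
    obtain ⟨k, hk⟩ := hQ ⟨_, hu2⟩
    have hk' : (s * u * s⁻¹) ^ q ^ k = 1 := by simpa using congrArg Subtype.val hk
    obtain ⟨n', hn', he⟩ := exists_pow_mul_eq hLN hu2L (hSN hs) (q ^ k)
    refine ⟨k, ?_⟩
    have e : s * u = s * u * s⁻¹ * s := by group
    rw [e, he, hk', one_mul]
    exact hn'
  apply resid_le_of_forall_coprime
  intro l hl hc
  exact mem_resid_of_coprime (h2 (mem_resid_of_coprime hl hc)) hc

/-- **Lemma W**: `O_q(L)` normalizes `O^q(S)` for `S` subnormal in `L`. -/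
theorem coreOf_le_normalizer_resid [Finite G] (q : ℕ) [Fact q.Prime] {S L : Subgroup G}
    (hS : SubnIn S L) :
    coreOf q L ≤ Subgroup.normalizer ((resid q S : Subgroup G) : Set G) := by
  have hSL := hS.le
  have hQL : coreOf q L ≤ L := coreOf_le q L
  have h1 : resid q (S ⊔ coreOf q L) = resid q S :=
    resid_eq_of_subnIn_aux q _ (S ⊔ coreOf q L) S (coreOf q L) rfl
      (hS.of_le le_sup_left (sup_le hSL hQL))
      ((sup_le hSL hQL).trans (le_normalizer_coreOf q L)) (isPGroup_coreOf q L) le_rfl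
  rw [← h1]
  exact le_sup_right.trans (le_normalizer_resid q _)

theorem exists_normalizer_not_mem [Finite G] {q : ℕ} [Fact q.Prime] {P Q : Subgroup G}
    (hP : IsPGroup q P) (hlt : Q < P) :
    ∃ x ∈ P, x ∈ Subgroup.normalizer (Q : Set G) ∧ x ∉ Q := by
  haveI : Group.IsNilpotent ↥P := hP.isNilpotent
  have hlt' : Q.subgroupOf P < ⊤ := by
    rw [lt_top_iff_ne_top, Ne, Subgroup.subgroupOf_eq_top]
    exact not_le_of_gt hlt
  have h1 := Group.normalizerCondition_of_isNilpotent (G := ↥P) (Q.subgroupOf P) hlt'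
  rw [← Subgroup.subgroupOf_normalizer_eq hlt.le] at h1
  obtain ⟨x, hxN, hxQ⟩ := SetLike.exists_of_lt h1
  exact ⟨x.1, x.2, hxN, fun h => hxQ (Subgroup.mem_subgroupOf.mpr h)⟩

theorem Pair.ne_bot_right {H K : Subgroup G} (h : Pair H K) : K ≠ ⊥ := by
  intro hK
  obtain ⟨g, hg⟩ := h.symm.conj
  apply h.ne
  rw [hg, hK, cj_bot]

theorem Pair.coreOf_ne_bot [Finite G] {H K : Subgroup G} (h : Pair H K) {q : ℕ}
    (hK : Cq q K ≤ coreOf q K) : coreOf q K ≠ ⊥ := by
  intro h0
  apply h.ne_bot_right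
  rw [eq_bot_iff]
  intro x hx
  have : x ∈ Cq q K := by
    refine ⟨?_, hx⟩
    show x ∈ Subgroup.centralizer ((coreOf q K : Subgroup G) : Set G)
    rw [h0, Subgroup.mem_centralizer_iff]
    intro y hy
    have : y = 1 := hy
    rw [this, one_mul, mul_one]
  have := hK this
  rwa [h0] at this

/-- **Proposition 2**: in characteristic `q`, `O^q(A₂) = 1`. -/
theorem prop2 [Finite G] {H K : Subgroup G} (h : Pair H K) (q : ℕ) [Fact q.Prime]
    (hK : Cq q K ≤ coreOf q K) : resid q (cA2 H K) = ⊥ := by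
  by_contra hR
  have hRH : resid q (cA2 H K) ≤ H := (resid_le q _).trans (cA2_le_left H K)
  have hHR : H ≤ Subgroup.normalizer ((resid q (cA2 H K) : Subgroup G) : Set G) :=
    le_normalizer_resid_of_le (le_normalizer_cA2 H K)
  have hNR : Subgroup.normalizer ((resid q (cA2 H K) : Subgroup G) : Set G) = H :=
    h.cfH.normalizer_eq hRH hR hHR
  have hQKne : coreOf q K ≠ ⊥ := h.coreOf_ne_bot hK
  have hBD : cA K H ≤ H ⊓ K := le_inf (cA_le_right K H) (cA_le_left K H)
  -- (a)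
  have hOD : coreOf q (H ⊓ K) ≤ cA K H := by
    apply le_cA_of_forall ((coreOf_le q _).trans inf_le_right)
    intro b hb
    have hbB : cj b (cA K H) = cA K H := mem_normalizer_iff_cj.mp (le_normalizer_cA K H hb)
    have hs1 : SubnIn (cj b (cA2 H K)) (cA K H) := by
      apply SubnIn.of_normal
      · rw [← hbB]; exact cj_mono b (cA2_le_cA' H K)
      · have := le_normalizer_cj (g := b) (cA_le_normalizer_cA2 H K)
        rwa [hbB] at this
    have hs2 : SubnIn (cA K H) (H ⊓ K) :=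
      SubnIn.of_normal hBD (inf_le_right.trans (le_normalizer_cA K H))
    have hW := coreOf_le_normalizer_resid q (hs1.trans hs2)
    rw [resid_cj, normalizer_cj, hNR] at hW
    exact hW
  -- (b)
  have hODQK : coreOf q (H ⊓ K) ≤ coreOf q K :=
    (le_coreOf hOD (hBD.trans (le_normalizer_coreOf q _)) (isPGroup_coreOf q _)).trans
      (coreOf_mono_of_normal (cA_le_left K H) (le_normalizer_cA K H))
  -- (c)
  have hQHD : coreOf q H ⊓ (H ⊓ K) ≤ coreOf q (H ⊓ K) :=
    le_coreOf inf_le_right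
      (le_normalizer_inf (inf_le_left.trans (le_normalizer_coreOf q H)) Subgroup.le_normalizer)
      ((isPGroup_coreOf q H).to_le inf_le_left)
  -- (d)
  have hQKH : coreOf q K ≤ H := by
    have := coreOf_le_normalizer_resid q (cA2_subnIn H K)
    rwa [hNR] at this
  have hQKK : coreOf q K ≤ K := coreOf_le q K
  -- (e)
  have hQKnQH : coreOf q K ≤ Subgroup.normalizer ((coreOf q H : Subgroup G) : Set G) :=
    hQKH.trans (le_normalizer_coreOf q H)
  have hPq : IsPGroup q (coreOf q H ⊔ coreOf q K : Subgroup G) :=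
    IsPGroup.to_sup_of_normal_left' (isPGroup_coreOf q H) (isPGroup_coreOf q K) hQKnQH
  have hle : coreOf q H ≤ coreOf q K := by
    by_contra hnot
    have hlt : coreOf q K < coreOf q H ⊔ coreOf q K := by
      refine lt_of_le_of_ne le_sup_right ?_
      intro e
      apply hnot
      rw [e]
      exact le_sup_left
    obtain ⟨x, hxP, hxN, hxQ⟩ := exists_normalizer_not_mem hPq hlt
    have hxK : x ∈ K := by
      rw [h.cfK.normalizer_eq hQKK hQKne (le_normalizer_coreOf q K)] at hxN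
      exact hxN
    have hxH : x ∈ H := (sup_le (coreOf_le q H) hQKH) hxP
    obtain ⟨u, hu, v, hv, rfl⟩ := exists_mul_of_mem_sup_right hQKnQH hxP
    have huD : u ∈ H ⊓ K := by
      have e : u = u * v * v⁻¹ := by group
      rw [e]
      exact Subgroup.mul_mem _ ⟨hxH, hxK⟩ (Subgroup.inv_mem _ ⟨hQKH hv, hQKK hv⟩)
    have huQK : u ∈ coreOf q K := hODQK (hQHD ⟨hu, huD⟩)
    exact hxQ (Subgroup.mul_mem _ huQK hv)
  -- (f)
  obtain ⟨g, hg⟩ := h.conj
  have hc : Nat.card (coreOf q H) = Nat.card (coreOf q K) := by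
    rw [hg, coreOf_cj, card_cj]
  exact hQKne (h.eq_bot_of_le_of_card_eq hle hc (le_normalizer_coreOf q H)
    (le_normalizer_coreOf q K) (coreOf_le q H))

/-- in characteristic `q`, `⟨A₂, B₂⟩` is a `q`-group -/
theorem isPGroup_sup_cA2 [Finite G] {H K : Subgroup G} (h : Pair H K) (q : ℕ) [Fact q.Prime]
    (hH : Cq q H ≤ coreOf q H) (hK : Cq q K ≤ coreOf q K) :
    IsPGroup q (cA2 H K ⊔ cA2 K H : Subgroup G) := by
  have h1 : IsPGroup q (cA2 H K) := isPGroup_of_resid_eq_bot (prop2 h q hK)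
  have h2 : IsPGroup q (cA2 K H) := isPGroup_of_resid_eq_bot (prop2 h.symm q hH)
  have h3 : cA2 H K ≤ coreOf q K :=
    (le_coreOf (cA2_le_cA' H K) (cA_le_normalizer_cA2 H K) h1).trans
      (coreOf_mono_of_normal (cA_le_left K H) (le_normalizer_cA K H))
  have h4 : cA2 K H ≤ coreOf q K := le_coreOf (cA2_le_left K H) (le_normalizer_cA2 K H) h2
  exact (isPGroup_coreOf q K).to_le (sup_le h3 h4)

end Cfsg.Agent.Lib.Lead.TW
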