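import Mathlib
import Cfsg.Agent.Lib.Lead.TW4
import Cfsg.Agent.Lib.Helper3.Components7

set_option autoImplicit false

/-! Thompson–Wielandt: internal components, the component case, the main theorem. -/

namespace Cfsg.Agent.Lib.Lead.TW

open Cfsg.Agent.Lib.Helper7 Cfsg.Agent.Lib.Helper7.TwoConj Cfsg.Agent.Lib.Helper3

variable {G : Type*} [Group G]

/-- `T` is a component of the subgroup `X` -/
def CompIn (T X : Subgroup G) : Prop := SubnIn T X ∧ Cfsg.IsQuasisimple ↥T

/-- the layer of the subgroup `X`, in the ambient group -/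
def Ein (X : Subgroup G) : Subgroup G := sSup {T : Subgroup G | CompIn T X}

namespace CompIn

variable {T T' S X Y L : Subgroup G}

theorem le (h : CompIn T X) : T ≤ X := h.1.le

theorem ne_bot (h : CompIn T X) : T ≠ ⊥ := IsQuasisimple.ne_bot h.2

theorem conj (h : CompIn T X) (g : G) : CompIn (cj g T) (cj g X) :=
  ⟨h.1.conj g, isQuasisimple_map_of_injective _ (MulAut.conj g).injective h.2⟩

theorem trans (h : CompIn T X) (hXY : SubnIn X Y) : CompIn T Y := ⟨h.1.trans hXY, h.2⟩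

theorem of_le (h : CompIn T X) (hTL : T ≤ L) (hLX : L ≤ X) : CompIn T L :=
  ⟨h.1.of_le hTL hLX, h.2⟩

theorem le_Ein (h : CompIn T X) : T ≤ Ein X := le_sSup h

theorem isComponent_subgroupOf (h : CompIn T X) : Cfsg.IsComponent (T.subgroupOf X) :=
  ⟨h.1.isSubnormal_subgroupOf,
    isQuasisimple_of_mulEquiv (Subgroup.subgroupOfEquivOfLe h.1.le).symm h.2⟩

theorem le_or_le_centralizer (h : CompIn T X) (hS : SubnIn S X) :
    T ≤ S ∨ T ≤ Subgroup.centralizer (S : Set G) := by
  rcases IsComponent.le_or_commutator_eq_bot_of_isSubnormal h.isComponent_subgroupOf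
    hS.isSubnormal_subgroupOf with h1 | h1
  · left
    intro x hx
    have : (⟨x, h.le hx⟩ : X) ∈ T.subgroupOf X := Subgroup.mem_subgroupOf.mpr hx
    exact Subgroup.mem_subgroupOf.mp (h1 this)
  · right
    rw [Subgroup.commutator_eq_bot_iff_le_centralizer] at h1
    intro t ht
    rw [Subgroup.mem_centralizer_iff]
    intro s hs
    have h2 : (⟨t, h.le ht⟩ : X) ∈ T.subgroupOf X := Subgroup.mem_subgroupOf.mpr ht
    have h3 := Subgroup.mem_centralizer_iff.mp (h1 h2) ⟨s, hS.le hs⟩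
      (Subgroup.mem_subgroupOf.mpr hs)
    exact congrArg Subtype.val h3

theorem le_normalizer [Finite G] (h : CompIn T X) (h' : CompIn T' X) :
    T ≤ Subgroup.normalizer (T' : Set G) := by
  have h1 := IsComponent.le_normalizer h.isComponent_subgroupOf h'.isComponent_subgroupOf
  intro t ht
  rw [mem_normalizer_iff_cj]
  apply cj_eq_of_le
  rintro _ ⟨x, hx, rfl⟩
  have h2 : (⟨t, h.le ht⟩ : X) ∈ T.subgroupOf X := Subgroup.mem_subgroupOf.mpr ht
  have h3 := (Subgroup.mem_normalizer_iff.mp (h1 h2) ⟨x, h'.le hx⟩).mp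
    (Subgroup.mem_subgroupOf.mpr hx)
  exact Subgroup.mem_subgroupOf.mp h3

end CompIn

theorem Ein_le (X : Subgroup G) : Ein X ≤ X := sSup_le fun _ hT => hT.le

theorem Ein_cj_le (g : G) (X : Subgroup G) : cj g (Ein X) ≤ Ein (cj g X) := by
  unfold Ein
  rw [Subgroup.map_le_iff_le_comap]
  apply sSup_le
  intro T hT
  rw [← Subgroup.map_le_iff_le_comap]
  exact le_sSup (hT.conj g)

theorem Ein_cj (g : G) (X : Subgroup G) : Ein (cj g X) = cj g (Ein X) := by
  apply le_antisymm _ (Ein_cj_le g X)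
  have := Ein_cj_le g⁻¹ (cj g X)
  rw [cj_inv_cj] at this
  have h2 := cj_mono g this
  rwa [cj_cj_inv] at h2

theorem le_normalizer_Ein_of_le {X Y : Subgroup G} (h : Y ≤ Subgroup.normalizer (X : Set G)) :
    Y ≤ Subgroup.normalizer ((Ein X : Subgroup G) : Set G) := by
  intro y hy
  rw [mem_normalizer_iff_cj, ← Ein_cj, mem_normalizer_iff_cj.mp (h hy)]

theorem le_normalizer_Ein (X : Subgroup G) :
    X ≤ Subgroup.normalizer ((Ein X : Subgroup G) : Set G) :=
  le_normalizer_Ein_of_le Subgroup.le_normalizer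

theorem le_normalizer_Ein_of_forall [Finite G] {X Y : Subgroup G}
    (h : ∀ T, CompIn T X → Y ≤ Subgroup.normalizer (T : Set G)) :
    Y ≤ Subgroup.normalizer ((Ein X : Subgroup G) : Set G) := by
  intro y hy
  rw [mem_normalizer_iff_cj]
  apply cj_eq_of_le
  unfold Ein
  rw [Subgroup.map_le_iff_le_comap]
  apply sSup_le
  intro T hT
  rw [← Subgroup.map_le_iff_le_comap]
  have : cj y T = T := mem_normalizer_iff_cj.mp (h T hT hy)
  have h2 : T ≤ sSup {T : Subgroup G | CompIn T X} := le_sSup hT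
  calc Subgroup.map (MulAut.conj y).toMonoidHom T = T := this
    _ ≤ _ := h2

theorem Ein_mono_of_subnIn {X Y : Subgroup G} (h : SubnIn X Y) : Ein X ≤ Ein Y :=
  sSup_le fun _ hT => (hT.trans h).le_Ein

/-- a nontrivial subgroup with trivial `O_r` for all primes `r` has a component -/
theorem exists_compIn [Finite G] {X : Subgroup G} (hX : X ≠ ⊥)
    (h : ∀ r : ℕ, r.Prime → coreOf r X = ⊥) : ∃ T, CompIn T X := by
  have hF : Cfsg.fittingSubgroup ↥X = ⊥ := by
    rw [Cfsg.Agent.Lib.Lead.fittingSubgroup_eq_iSup_pCore, eq_bot_iff]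
    apply iSup_le
    intro r
    have := h r r.2
    unfold coreOf at this
    rw [Subgroup.map_eq_bot_iff_of_injective _ X.subtype_injective] at this
    rw [this]
  have hL : Cfsg.layer ↥X ≠ ⊥ := by
    intro hL
    have h1 := centralizer_generalizedFittingSubgroup_le (G := ↥X)
    have h2 : Cfsg.generalizedFittingSubgroup ↥X = ⊥ := by
      unfold Cfsg.generalizedFittingSubgroup
      rw [hL, hF, bot_sup_eq]
    rw [h2] at h1
    apply hX
    rw [eq_bot_iff]
    intro x hx
    have h3 : (⟨x, hx⟩ : X) ∈ Subgroup.centralizer (((⊥ : Subgroup X) : Subgroup X) : Set X) := by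
      rw [Subgroup.mem_centralizer_iff]
      intro y hy
      have : y = 1 := hy
      rw [this, one_mul, mul_one]
    have h4 := h1 h3
    have h5 : (⟨x, hx⟩ : X) = 1 := h4
    exact congrArg Subtype.val h5
  rw [Ne, layer_eq_bot_iff] at hL
  push Not at hL
  obtain ⟨K₀, hK₀⟩ := hL
  refine ⟨K₀.map X.subtype, ?_, isQuasisimple_map_of_injective _ X.subtype_injective hK₀.2⟩
  have h1 : SubnIn K₀ ⊤ := subnIn_top_iff.mpr hK₀.1
  have h2 := h1.map_subtype
  rwa [← MonoidHom.range_eq_map, Subgroup.range_subtype] at h2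

/-- the component case is impossible -/
theorem no_CC [Finite G] {H K : Subgroup G} (h : Pair H K) (hA2 : cA2 H K ≠ ⊥)
    {TA TB : Subgroup G} (hTA : CompIn TA (cA2 H K)) (hTB : CompIn TB (cA2 K H)) : False := by
  have hi : ∀ T, CompIn T K → T ≤ H := by
    intro T hT
    rcases hT.le_or_le_centralizer (cA2_subnIn H K) with h1 | h1
    · exact h1.trans (cA2_le_left H K)
    · exact h1.trans (h.cfH.centralizer_le (cA2_le_left H K) hA2 (le_normalizer_cA2 H K))
  have hEBK : Ein (cA2 K H) ≤ K := (Ein_le _).trans (cA2_le_left K H)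
  have hKEB : K ≤ Subgroup.normalizer ((Ein (cA2 K H) : Subgroup G) : Set G) :=
    le_normalizer_Ein_of_le (le_normalizer_cA2 K H)
  have hEBne : Ein (cA2 K H) ≠ ⊥ := by
    intro h0
    have := hTB.le_Ein
    rw [h0, le_bot_iff] at this
    exact hTB.ne_bot this
  have hNEB : Subgroup.normalizer ((Ein (cA2 K H) : Subgroup G) : Set G) = K :=
    h.cfK.normalizer_eq hEBK hEBne hKEB
  have hii : ∀ T, CompIn T K → T ≤ cA H K := by
    intro T hT
    have hTH := hi T hT
    have hTD : CompIn T (H ⊓ K) := hT.of_le (le_inf hTH hT.le) inf_le_right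
    apply le_cA_of_forall hTH
    intro b hb
    rw [← hNEB, ← normalizer_cj, ← Ein_cj]
    have hsub : SubnIn (cj b (cA2 K H)) (H ⊓ K) := by
      have hbA : cj b (cA H K) = cA H K := mem_normalizer_iff_cj.mp (le_normalizer_cA H K hb)
      have s1 : SubnIn (cj b (cA2 K H)) (cA H K) := by
        apply SubnIn.of_normal
        · rw [← hbA]; exact cj_mono b (cA2_le_cA' K H)
        · have := le_normalizer_cj (g := b) (cA_le_normalizer_cA2 K H)
          rwa [hbA] at this
      have s2 : SubnIn (cA H K) (H ⊓ K) :=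
        SubnIn.of_normal (le_inf (cA_le_left H K) (cA_le_right H K))
          (inf_le_left.trans (le_normalizer_cA H K))
      exact s1.trans s2
    apply le_normalizer_Ein_of_forall
    intro T' hT'
    exact hTD.le_normalizer (hT'.trans hsub)
  have hEKA : Ein K ≤ cA H K := sSup_le hii
  have hsn : SubnIn (Ein K) H :=
    (SubnIn.of_normal hEKA ((cA_le_right H K).trans (le_normalizer_Ein K))).trans
      (SubnIn.of_normal (cA_le_left H K) (le_normalizer_cA H K))
  have hle : Ein K ≤ Ein H := by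
    apply sSup_le
    intro T hT
    have h1 : Ein K ≤ Subgroup.normalizer (T : Set G) :=
      sSup_le fun T' hT' => CompIn.le_normalizer hT' hT
    have h2 : SubnIn T (Ein K) := SubnIn.of_normal hT.le_Ein h1
    exact CompIn.le_Ein ⟨h2.trans hsn, hT.2⟩
  obtain ⟨g, hg⟩ := h.conj
  have hc : Nat.card (Ein H) = Nat.card (Ein K) := by
    rw [hg, Ein_cj, card_cj]
  have h0 : Ein K = ⊥ :=
    h.eq_bot_of_le_of_card_eq' hle hc (le_normalizer_Ein H) (le_normalizer_Ein K) (Ein_le H)
  have h3 := (hTA.trans (cA2_subnIn H K)).le_Ein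
  rw [h0, le_bot_iff] at h3
  exact hTA.ne_bot h3

/-- **Thompson–Wielandt**, internal form -/
theorem main [Finite G] {H K : Subgroup G} (h : Pair H K) (hA2 : cA2 H K ≠ ⊥)
    (hB2 : cA2 K H ≠ ⊥) :
    ∃ q : ℕ, q.Prime ∧ IsPGroup q ↥(cA2 H K ⊔ cA2 K H) ∧ Cq q H ≤ coreOf q H ∧
      Cq q K ≤ coreOf q K := by
  by_cases h1 : ∃ q : ℕ, q.Prime ∧ coreOf q (cA2 H K) ≠ ⊥
  · obtain ⟨q, hq, hne⟩ := h1
    haveI : Fact q.Prime := ⟨hq⟩
    obtain ⟨hMH, hMK⟩ := prop1 h q hne
    have hH := Cq_le_coreOf_of_Mq_eq_bot hMH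
    have hK := Cq_le_coreOf_of_Mq_eq_bot hMK
    exact ⟨q, hq, isPGroup_sup_cA2 h q hH hK, hH, hK⟩
  by_cases h2 : ∃ q : ℕ, q.Prime ∧ coreOf q (cA2 K H) ≠ ⊥
  · obtain ⟨q, hq, hne⟩ := h2
    haveI : Fact q.Prime := ⟨hq⟩
    obtain ⟨hMK, hMH⟩ := prop1 h.symm q hne
    have hH := Cq_le_coreOf_of_Mq_eq_bot hMH
    have hK := Cq_le_coreOf_of_Mq_eq_bot hMK
    exact ⟨q, hq, isPGroup_sup_cA2 h q hH hK, hH, hK⟩
  exfalso
  push Not at h1 h2
  obtain ⟨TA, hTA⟩ := exists_compIn hA2 h1
  obtain ⟨TB, hTB⟩ := exists_compIn hB2 h2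
  exact no_CC h hA2 hTA hTB

end Cfsg.Agent.Lib.Lead.TW
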