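import Mathlib
import Cfsg.Agent.Lib.Lead.TW5
import Cfsg.Agent.Lib.Helper3.CharP4

set_option autoImplicit false

/-! Thompson–Wielandt: bridge to `F* = O_q` statements. -/

namespace Cfsg.Agent.Lib.Lead.TW

open Cfsg.Agent.Lib.Helper7 Cfsg.Agent.Lib.Helper7.TwoConj Cfsg.Agent.Lib.Helper3

variable {G : Type*} [Group G]

theorem gF_eq_pCore_of_Cq_le [Finite G] {q : ℕ} [Fact q.Prime] {X : Subgroup G}
    (h : Cq q X ≤ coreOf q X) :
    Cfsg.generalizedFittingSubgroup ↥X = Cfsg.pCore q ↥X := by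
  apply generalizedFittingSubgroup_eq_pCore_of_centralizer_le (Cfsg.pCore q ↥X)
  · intro x hx
    have h1 : (x : G) ∈ Cq q X := by
      refine ⟨?_, x.2⟩
      show (x : G) ∈ Subgroup.centralizer ((coreOf q X : Subgroup G) : Set G)
      rw [Subgroup.mem_centralizer_iff]
      rintro _ ⟨z, hz, rfl⟩
      exact congrArg Subtype.val (Subgroup.mem_centralizer_iff.mp hx z hz)
    obtain ⟨z, hz, hzx⟩ := h h1
    have : z = x := Subtype.ext hzx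
    rw [← this]; exact hz
  · exact (Cfsg.Agent.Lib.Lead.pCore_isPGroup q).to_subgroup _

theorem gF_eq_pCore_of_normal [Finite G] {q : ℕ} [Fact q.Prime] {X A : Subgroup G}
    (h : Cfsg.generalizedFittingSubgroup ↥X = Cfsg.pCore q ↥X) (hAX : A ≤ X)
    (hn : X ≤ Subgroup.normalizer (A : Set G)) :
    Cfsg.generalizedFittingSubgroup ↥A = Cfsg.pCore q ↥A := by
  have h1 : IsPGroup q (Cfsg.generalizedFittingSubgroup ↥X) := by
    rw [h]; exact Cfsg.Agent.Lib.Lead.pCore_isPGroup q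
  have h2 : (A.subgroupOf X).IsSubnormal := (SubnIn.of_normal hAX hn).isSubnormal_subgroupOf
  have h3 := isPGroup_generalizedFittingSubgroup_of_isSubnormal h2 h1
  have h4 := isPGroup_generalizedFittingSubgroup_of_mulEquiv (Subgroup.subgroupOfEquivOfLe hAX) h3
  exact generalizedFittingSubgroup_eq_pCore_of_isPGroup h4

/-- Thompson–Wielandt in the form of S5752 -/
theorem thompson_wielandt [Finite G] (M₁ M₂ : Subgroup G) (hmax : IsCoatom M₁) (g : G)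
    (hconj : M₂ = M₁.map (MulAut.conj g).toMonoidHom) (hne : M₁ ≠ M₂) (hcore : M₁.normalCore = ⊥)
    (A B : ℕ → Subgroup G) (hA0 : A 0 = M₁) (hB0 : B 0 = M₂)
    (hA : ∀ i, A (i + 1) = ((A i ⊓ B i).subgroupOf M₁).normalCore.map M₁.subtype)
    (hB : ∀ i, B (i + 1) = ((A i ⊓ B i).subgroupOf M₂).normalCore.map M₂.subtype)
    (hA2 : A 2 ≠ ⊥) (hB2 : B 2 ≠ ⊥) :
    ∃ p : ℕ, p.Prime ∧ IsPGroup p ↥(A 2 ⊔ B 2) ∧
      Cfsg.generalizedFittingSubgroup ↥M₁ = Cfsg.pCore p ↥M₁ ∧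
      Cfsg.generalizedFittingSubgroup ↥(A 1) = Cfsg.pCore p ↥(A 1) ∧
      Cfsg.generalizedFittingSubgroup ↥M₂ = Cfsg.pCore p ↥M₂ ∧
      Cfsg.generalizedFittingSubgroup ↥(B 1) = Cfsg.pCore p ↥(B 1) := by
  have hP : Pair M₁ M₂ := ⟨⟨hmax, hcore⟩, hne, ⟨g, hconj⟩⟩
  have e1 : A 1 = cA M₁ M₂ := by
    rw [hA 0, hA0, hB0]; exact coreIn_inf_self M₁ M₂
  have e2 : B 1 = cA M₂ M₁ := by
    rw [hB 0, hA0, hB0, inf_comm]; exact coreIn_inf_self M₂ M₁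
  have e3 : A 2 = cA2 M₁ M₂ := by
    rw [hA 1, e1, e2]; rfl
  have e4 : B 2 = cA2 M₂ M₁ := by
    rw [hB 1, e1, e2, inf_comm]; rfl
  rw [e3] at hA2
  rw [e4] at hB2
  obtain ⟨q, hq, hpg, hH, hK⟩ := main hP hA2 hB2
  haveI : Fact q.Prime := ⟨hq⟩
  have f1 := gF_eq_pCore_of_Cq_le hH
  have f2 := gF_eq_pCore_of_Cq_le hK
  rw [e1, e2, e3, e4]
  exact ⟨q, hq, hpg, f1, gF_eq_pCore_of_normal f1 (cA_le_left M₁ M₂) (le_normalizer_cA M₁ M₂), f2,
    gF_eq_pCore_of_normal f2 (cA_le_left M₂ M₁) (le_normalizer_cA M₂ M₁)⟩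

end Cfsg.Agent.Lib.Lead.TW
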