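import Mathlib
import Cfsg.Agent.Lib.Lead.TW2

set_option autoImplicit false

/-! Thompson–Wielandt: the index of the second core `A₂` in `H`. -/

namespace Cfsg.Agent.Lib.Lead.TW

open Cfsg.Agent.Lib.Helper7 Cfsg.Agent.Lib.Helper7.TwoConj

section abstract

theorem card_stabilizer_perm {α : Type*} [Finite α] (a : α) :
    Nat.card (MulAction.stabilizer (Equiv.Perm α) a) = (Nat.card α - 1).factorial := by
  have h1 := MulAction.index_stabilizer_of_transitive (Equiv.Perm α) a
  have h2 := Subgroup.card_mul_index (MulAction.stabilizer (Equiv.Perm α) a)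
  rw [h1, Nat.card_perm] at h2
  have hpos : 0 < Nat.card α := Nat.card_pos_iff.mpr ⟨⟨a⟩, inferInstance⟩
  obtain ⟨n, hn⟩ : ∃ n, Nat.card α = n + 1 := ⟨Nat.card α - 1, by omega⟩
  rw [hn] at h2 ⊢
  rw [Nat.factorial_succ, mul_comm] at h2
  simp only [Nat.add_sub_cancel]
  exact Nat.eq_of_mul_eq_mul_left (Nat.succ_pos n) h2

variable {X : Type*} [Group X] [Finite X]

theorem index_normalCore_dvd (D' : Subgroup X) :
    D'.normalCore.index ∣ (D'.index).factorial := by
  rw [Subgroup.normalCore_eq_ker, Subgroup.index_ker, Subgroup.index_eq_card D', ← Nat.card_perm]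
  exact Subgroup.card_subgroup_dvd_card _

theorem relIndex_normalCore_dvd {D' Y : Subgroup X} (hY : Y ≤ D') :
    D'.normalCore.relIndex Y ∣ (D'.index - 1).factorial := by
  rw [Subgroup.normalCore_eq_ker, Subgroup.relIndex_ker, Subgroup.index_eq_card D',
    ← card_stabilizer_perm (((1 : X) : X ⧸ D'))]
  apply Subgroup.card_dvd_of_le
  rintro _ ⟨y, hy, rfl⟩
  rw [MulAction.mem_stabilizer_iff]
  show (y • (((1 : X) : X ⧸ D'))) = _
  rw [MulAction.Quotient.smul_coe, smul_eq_mul, mul_one, QuotientGroup.eq]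
  simpa using D'.inv_mem (hY hy)

theorem index_inf_dvd_of_normal (A B : Subgroup X) [A.Normal] :
    (A ⊓ B).index ∣ A.index * B.index := by
  have h1 : (A ⊓ B).relIndex B * B.index = (A ⊓ B).index :=
    Subgroup.relIndex_mul_index inf_le_right
  rw [← h1, Subgroup.inf_relIndex_right]
  exact mul_dvd_mul_right (Subgroup.relIndex_dvd_index_of_normal A B) _

theorem index_iInf_dvd {ι : Type*} [Fintype ι] (f : ι → Subgroup X) (hf : ∀ i, (f i).Normal)
    (m : ℕ) (hm : ∀ i, (f i).index ∣ m) : (⨅ i, f i).index ∣ m ^ Fintype.card ι := by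
  classical
  have key : ∀ s : Finset ι, (⨅ i ∈ s, f i).index ∣ m ^ s.card := by
    intro s
    induction s using Finset.induction_on with
    | empty => simp
    | insert a s ha ih =>
      rw [Finset.iInf_insert, Finset.card_insert_of_notMem ha, pow_succ, mul_comm]
      haveI := hf a
      exact (index_inf_dvd_of_normal (f a) _).trans (mul_dvd_mul (hm a) ih)
  have := key Finset.univ
  simpa using this

end abstract

variable {G : Type*} [Group G]

theorem relIndex_cA_dvd [Finite G] (H K : Subgroup G) :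
    (cA H K).relIndex H ∣ (K.relIndex H).factorial := by
  have e : (cA H K).subgroupOf H = (K.subgroupOf H).normalCore := by
    unfold cA coreIn
    rw [Subgroup.subgroupOf, Subgroup.comap_map_eq_self_of_injective H.subtype_injective]
  unfold Subgroup.relIndex
  rw [e]
  exact index_normalCore_dvd _

theorem relIndex_cA_cA_dvd [Finite G] (H K : Subgroup G) :
    (cA K H).relIndex (cA H K) ∣ (H.relIndex K - 1).factorial := by
  have e : (cA K H).subgroupOf K = (H.subgroupOf K).normalCore := by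
    unfold cA coreIn
    rw [Subgroup.subgroupOf, Subgroup.comap_map_eq_self_of_injective K.subtype_injective]
  have hY : (cA H K).subgroupOf K ≤ H.subgroupOf K := Subgroup.comap_mono (cA_le_left H K)
  have := relIndex_normalCore_dvd hY
  rw [← e, Subgroup.relIndex_subgroupOf (cA_le_right H K)] at this
  exact this

theorem mem_cA2_iff {H K : Subgroup G} {x : G} :
    x ∈ cA2 H K ↔ x ∈ cA H K ∧ ∀ b ∈ H, x ∈ cj b (cA K H) := by
  unfold cA2
  rw [mem_coreIn]
  constructor
  · rintro ⟨hx, h⟩
    refine ⟨by simpa using (h 1 H.one_mem).1, ?_⟩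
    intro b hb
    rw [mem_cj]
    have := (h b⁻¹ (H.inv_mem hb)).2
    rwa [inv_inv] at this
  · rintro ⟨hx, h⟩
    refine ⟨cA_le_left H K hx, ?_⟩
    intro b hb
    refine ⟨(Subgroup.mem_normalizer_iff.mp (le_normalizer_cA H K hb) x).mp hx, ?_⟩
    have := h b⁻¹ (H.inv_mem hb)
    rw [mem_cj] at this
    rwa [inv_inv] at this

theorem cA2_subgroupOf_eq_iInf (H K : Subgroup G) :
    (cA2 H K).subgroupOf (cA H K) =
      ⨅ c : ↥H ⧸ K.subgroupOf H, (cj (((Quotient.out c : ↥H)) : G) (cA K H)).subgroupOf (cA H K) := by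
  ext ⟨x, hx⟩
  rw [Subgroup.mem_subgroupOf, Subgroup.mem_iInf]
  simp only [Subgroup.mem_subgroupOf]
  rw [mem_cA2_iff]
  constructor
  · rintro ⟨_, h⟩ c
    exact h _ (Quotient.out c).2
  · intro h
    refine ⟨hx, ?_⟩
    intro b hb
    obtain ⟨δ, hδ⟩ := QuotientGroup.mk_out_eq_mul (K.subgroupOf H) (⟨b, hb⟩ : ↥H)
    have h1 := h (QuotientGroup.mk (⟨b, hb⟩ : ↥H))
    rw [hδ] at h1
    have h2 : ((δ : ↥H) : G) ∈ K := Subgroup.mem_subgroupOf.mp δ.2
    have h3 : cj ((δ : ↥H) : G) (cA K H) = cA K H :=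
      mem_normalizer_iff_cj.mp (le_normalizer_cA K H h2)
    have h4 : (((⟨b, hb⟩ : ↥H) * (δ : ↥H) : ↥H) : G) = b * ((δ : ↥H) : G) := rfl
    rw [h4, cj_mul, h3] at h1
    exact h1

theorem relIndex_cA2_cA_dvd [Finite G] (H K : Subgroup G) :
    (cA2 H K).relIndex (cA H K) ∣ ((H.relIndex K - 1).factorial) ^ (K.relIndex H) := by
  classical
  haveI : Fintype (↥H ⧸ K.subgroupOf H) := Fintype.ofFinite _
  have hcard : Fintype.card (↥H ⧸ K.subgroupOf H) = K.relIndex H := by
    rw [← Nat.card_eq_fintype_card]; rfl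
  show ((cA2 H K).subgroupOf (cA H K)).index ∣ _
  rw [cA2_subgroupOf_eq_iInf, ← hcard]
  apply index_iInf_dvd
  · intro c
    apply Subgroup.normal_subgroupOf_of_le_normalizer
    exact (cA_le_cj (Quotient.out c).2).trans (le_normalizer_cj (le_normalizer_cA K H))
  · intro c
    have hb := (Quotient.out c).2
    have h1 : cj ((Quotient.out c : ↥H) : G) (cA H K) = cA H K :=
      mem_normalizer_iff_cj.mp (le_normalizer_cA H K hb)
    have h2 : ((cj ((Quotient.out c : ↥H) : G) (cA K H)).subgroupOf (cA H K)).index =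
        (cA K H).relIndex (cA H K) := by
      show (cj ((Quotient.out c : ↥H) : G) (cA K H)).relIndex (cA H K) = _
      conv_lhs => rw [← h1]
      exact Subgroup.relIndex_map_map_of_injective _ _ (MulAut.conj _).injective
    rw [h2]
    exact relIndex_cA_cA_dvd H K

/-- the index of `A₂` in `H` -/
theorem relIndex_cA2_dvd [Finite G] (H K : Subgroup G) :
    (cA2 H K).relIndex H ∣
      (K.relIndex H).factorial * ((H.relIndex K - 1).factorial) ^ (K.relIndex H) := by
  rw [← Subgroup.relIndex_mul_relIndex (cA2 H K) (cA H K) H (cA2_le_cA H K) (cA_le_left H K),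
    mul_comm]
  exact mul_dvd_mul (relIndex_cA_dvd H K) (relIndex_cA2_cA_dvd H K)

end Cfsg.Agent.Lib.Lead.TW
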