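import Mathlib
import Cfsg.Agent.Lib.Lead.TW6
import Cfsg.Agent.Lib.Lead.TW7

set_option autoImplicit false

/-! Thompson–Wielandt for primitive permutation groups: Wielandt's bounds. -/

namespace Cfsg.Agent.Lib.Lead.TW

open Cfsg.Agent.Lib.Helper7 Cfsg.Agent.Lib.Helper7.TwoConj Cfsg.Agent.Lib.Helper3

theorem card_dvd_of_cA2_eq_bot {G : Type*} [Group G] [Finite G] {H K : Subgroup G} {d : ℕ}
    (hK : K.relIndex H = d) (hH : H.relIndex K = d) (h0 : cA2 H K = ⊥) :
    Nat.card H ∣ d.factorial * ((d - 1).factorial) ^ d := by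
  have := relIndex_cA2_dvd H K
  rwa [h0, Subgroup.relIndex_bot_left, hK, hH] at this

theorem relIndex_mul_card'' {G : Type*} [Group G] {H K : Subgroup G} (h : H ≤ K) :
    H.relIndex K * Nat.card H = Nat.card K := by
  have h1 := Subgroup.card_mul_index (H.subgroupOf K)
  have h2 : Nat.card (H.subgroupOf K) = Nat.card H :=
    Nat.card_congr (Subgroup.subgroupOfEquivOfLe h).toEquiv
  rw [h2] at h1
  rw [mul_comm]; exact h1

section action

variable {G Ω : Type*} [Group G] [Finite G] [MulAction G Ω] [FaithfulSMul G Ω] [Finite Ω]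

theorem stabilizer_subgroup_eq (H : Subgroup G) (b : Ω) :
    MulAction.stabilizer ↥H b = (MulAction.stabilizer G b).subgroupOf H := by
  ext x
  rw [MulAction.mem_stabilizer_iff, Subgroup.mem_subgroupOf, MulAction.mem_stabilizer_iff]
  rfl

theorem setup (hprim : MulAction.IsPreprimitive G Ω) (a b : Ω) (d : ℕ)
    (hd : Nat.card (MulAction.orbit (MulAction.stabilizer G a) b) = d) (h2 : 2 ≤ d) :
    Pair (MulAction.stabilizer G a) (MulAction.stabilizer G b) ∧
      (MulAction.stabilizer G b).relIndex (MulAction.stabilizer G a) = d ∧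
      (MulAction.stabilizer G a).relIndex (MulAction.stabilizer G b) = d ∧
      Nat.card (MulAction.stabilizer G a) = Nat.card (MulAction.stabilizer G b) := by
  have hK : (MulAction.stabilizer G b).relIndex (MulAction.stabilizer G a) = d := by
    show ((MulAction.stabilizer G b).subgroupOf (MulAction.stabilizer G a)).index = d
    rw [← stabilizer_subgroup_eq, MulAction.index_stabilizer, ← Nat.card_coe_set_eq]
    exact hd
  have hne : MulAction.stabilizer G a ≠ MulAction.stabilizer G b := by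
    intro e
    have : (MulAction.stabilizer G b).relIndex (MulAction.stabilizer G a) = 1 :=
      Subgroup.relIndex_eq_one.mpr e.le
    omega
  have hab : a ≠ b := fun e => hne (by rw [e])
  haveI : Nontrivial Ω := ⟨⟨a, b, hab⟩⟩
  haveI := hprim
  have hco : IsCoatom (MulAction.stabilizer G a) :=
    MulAction.IsPreprimitive.isCoatom_stabilizer_of_isPreprimitive G a
  have hcore : (MulAction.stabilizer G a).normalCore = ⊥ := by
    rw [eq_bot_iff]
    intro x hx
    rw [Subgroup.mem_bot]
    apply FaithfulSMul.eq_of_smul_eq_smul (α := Ω)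
    intro c
    obtain ⟨g, rfl⟩ := MulAction.exists_smul_eq G a c
    have h1 : g⁻¹ * x * g⁻¹⁻¹ ∈ MulAction.stabilizer G a := hx g⁻¹
    rw [inv_inv, MulAction.mem_stabilizer_iff] at h1
    rw [one_smul]
    calc x • g • a = g • (g⁻¹ * x * g) • a := by simp [mul_smul]
      _ = g • a := by rw [h1]
  obtain ⟨g, hg⟩ := MulAction.exists_smul_eq G a b
  have hconj : MulAction.stabilizer G b = cj g (MulAction.stabilizer G a) := by
    rw [← hg]; exact MulAction.stabilizer_smul_eq_stabilizer_map_conj g a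
  have hcard : Nat.card (MulAction.stabilizer G a) = Nat.card (MulAction.stabilizer G b) := by
    rw [hconj, card_cj]
  refine ⟨⟨⟨hco, hcore⟩, hne, ⟨g, hconj⟩⟩, hK, ?_, hcard⟩
  have h3 := relIndex_mul_card''
    (inf_le_right : MulAction.stabilizer G a ⊓ MulAction.stabilizer G b ≤ MulAction.stabilizer G b)
  have h4 := relIndex_mul_card''
    (inf_le_left : MulAction.stabilizer G a ⊓ MulAction.stabilizer G b ≤ MulAction.stabilizer G a)
  rw [Subgroup.inf_relIndex_right] at h3
  rw [Subgroup.inf_relIndex_left, hK, hcard, ← h3] at h4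
  have hpos : 0 < Nat.card ↥(MulAction.stabilizer G a ⊓ MulAction.stabilizer G b) := Nat.card_pos
  exact (Nat.eq_of_mul_eq_mul_right hpos h4).symm

/-- S3682 -/
theorem wielandt_bound (hprim : MulAction.IsPreprimitive G Ω) (a b : Ω) (d : ℕ)
    (hd : Nat.card (MulAction.orbit (MulAction.stabilizer G a) b) = d) (h2 : 2 ≤ d) :
    ∃ p : ℕ, p.Prime ∧ ∃ P : Subgroup (MulAction.stabilizer G a), P.Normal ∧ IsPGroup p P ∧
      (∀ g : P, ((g : MulAction.stabilizer G a) : G) • b = b) ∧
      P.index ∣ Nat.factorial d * (Nat.factorial (d - 1)) ^ d := by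
  obtain ⟨hP, hK, hH, hcard⟩ := setup hprim a b d hd h2
  have hbot : Nat.card (MulAction.stabilizer G a) ∣ Nat.factorial d * (Nat.factorial (d - 1)) ^ d →
      ∃ p : ℕ, p.Prime ∧ ∃ P : Subgroup (MulAction.stabilizer G a), P.Normal ∧ IsPGroup p P ∧
      (∀ g : P, ((g : MulAction.stabilizer G a) : G) • b = b) ∧
      P.index ∣ Nat.factorial d * (Nat.factorial (d - 1)) ^ d := by
    intro h
    refine ⟨2, Nat.prime_two, ⊥, inferInstance, IsPGroup.of_bot, ?_, ?_⟩
    · rintro ⟨g, hg⟩
      have : g = 1 := hg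
      subst this
      simp
    · rw [Subgroup.index_bot]; exact h
  by_cases hA2 : cA2 (MulAction.stabilizer G a) (MulAction.stabilizer G b) = ⊥
  · exact hbot (card_dvd_of_cA2_eq_bot hK hH hA2)
  by_cases hB2 : cA2 (MulAction.stabilizer G b) (MulAction.stabilizer G a) = ⊥
  · apply hbot
    rw [hcard]
    exact card_dvd_of_cA2_eq_bot hH hK hB2
  obtain ⟨q, hq, hpg, -, -⟩ := main hP hA2 hB2
  refine ⟨q, hq, (cA2 (MulAction.stabilizer G a) (MulAction.stabilizer G b)).subgroupOf
    (MulAction.stabilizer G a), ?_, ?_, ?_, ?_⟩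
  · exact Subgroup.normal_subgroupOf_of_le_normalizer (le_normalizer_cA2 _ _)
  · exact (hpg.to_le le_sup_left).comap_subtype
  · intro g
    have h1 : ((g : MulAction.stabilizer G a) : G) ∈
        cA2 (MulAction.stabilizer G a) (MulAction.stabilizer G b) := Subgroup.mem_subgroupOf.mp g.2
    exact MulAction.mem_stabilizer_iff.mp (cA2_le_right _ _ h1)
  · have := relIndex_cA2_dvd (MulAction.stabilizer G a) (MulAction.stabilizer G b)
    rw [hK, hH] at this
    exact this

/-- S3688 -/
theorem not_strongly_constrained_bound (hprim : MulAction.IsPreprimitive G Ω) (a b : Ω) (d : ℕ)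
    (hd : Nat.card (MulAction.orbit (MulAction.stabilizer G a) b) = d) (h2 : 2 ≤ d)
    (hnc : ∀ p : ℕ, p.Prime → Cfsg.generalizedFittingSubgroup (MulAction.stabilizer G a) ≠
      Cfsg.pCore p (MulAction.stabilizer G a)) :
    Nat.card (MulAction.stabilizer G a) ∣ Nat.factorial d * (Nat.factorial (d - 1)) ^ d := by
  obtain ⟨hP, hK, hH, hcard⟩ := setup hprim a b d hd h2
  by_cases hA2 : cA2 (MulAction.stabilizer G a) (MulAction.stabilizer G b) = ⊥
  · exact card_dvd_of_cA2_eq_bot hK hH hA2
  by_cases hB2 : cA2 (MulAction.stabilizer G b) (MulAction.stabilizer G a) = ⊥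
  · rw [hcard]
    exact card_dvd_of_cA2_eq_bot hH hK hB2
  obtain ⟨q, hq, -, hH', -⟩ := main hP hA2 hB2
  haveI : Fact q.Prime := ⟨hq⟩
  exact absurd (gF_eq_pCore_of_Cq_le hH') (hnc q hq)

end action

end Cfsg.Agent.Lib.Lead.TW
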