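import Mathlib
import Cfsg.Agent.Lib.Lead.TW8

set_option autoImplicit false

/-! Thompson–Wielandt for primitive groups: Fitting-free two-point subconstituent (S3693). -/

namespace Cfsg.Agent.Lib.Lead.TW

open Cfsg.Agent.Lib.Helper7 Cfsg.Agent.Lib.Helper7.TwoConj Cfsg.Agent.Lib.Helper3

section action

variable {G Ω : Type*} [Group G] [Finite G] [MulAction G Ω] [Finite Ω]

theorem coreOf_inf_le_cA (a b : Ω) (s : ℕ) [Fact s.Prime]
    (hF : Cfsg.fittingSubgroup ↥(((MulAction.stabilizer G b).subgroupOf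
      (MulAction.stabilizer G a)).map (MulAction.toPermHom (MulAction.stabilizer G a)
        (MulAction.orbit (MulAction.stabilizer G a) b))) = ⊥) :
    coreOf s (MulAction.stabilizer G a ⊓ MulAction.stabilizer G b) ≤
      cA (MulAction.stabilizer G a) (MulAction.stabilizer G b) := by
  set H := MulAction.stabilizer G a with hH
  set K := MulAction.stabilizer G b with hK
  set φ := MulAction.toPermHom ↥H (MulAction.orbit ↥H b) with hφ
  set N := coreOf s (H ⊓ K) with hN
  have hND : N ≤ H ⊓ K := coreOf_le s _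
  have hN'K : N.subgroupOf H ≤ K.subgroupOf H := Subgroup.comap_mono (hND.trans inf_le_right)
  have hN'Im : (N.subgroupOf H).map φ ≤ (K.subgroupOf H).map φ := Subgroup.map_mono hN'K
  have hKn : K.subgroupOf H ≤ Subgroup.normalizer ((N.subgroupOf H : Subgroup ↥H) : Set ↥H) := by
    intro k hk
    have hk1 : (k : G) ∈ H ⊓ K := ⟨k.2, Subgroup.mem_subgroupOf.mp hk⟩
    have hk2 := le_normalizer_coreOf s (H ⊓ K) hk1
    rw [Subgroup.mem_normalizer_iff] at hk2 ⊢
    intro n
    exact hk2 (n : G)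
  have hnorm : (((N.subgroupOf H).map φ).subgroupOf ((K.subgroupOf H).map φ)).Normal := by
    apply Subgroup.normal_subgroupOf_of_le_normalizer
    calc (K.subgroupOf H).map φ
        ≤ (Subgroup.normalizer ((N.subgroupOf H : Subgroup ↥H) : Set ↥H)).map φ :=
          Subgroup.map_mono hKn
      _ ≤ _ := Subgroup.le_normalizer_map φ
  have hp : IsPGroup s (((N.subgroupOf H).map φ).subgroupOf ((K.subgroupOf H).map φ)) :=
    (((isPGroup_coreOf s (H ⊓ K)).comap_subtype).map φ).comap_subtype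
  have h1 := Cfsg.Agent.Lib.Lead.le_fittingSubgroup hnorm hp.isNilpotent
  rw [hF, le_bot_iff, Subgroup.subgroupOf_eq_bot, disjoint_iff, inf_eq_left.mpr hN'Im] at h1
  intro x hx
  have hxH : x ∈ H := (hND hx).1
  unfold cA
  rw [mem_coreIn]
  refine ⟨hxH, ?_⟩
  intro c hc
  have h2 : φ ⟨x, hxH⟩ ∈ (N.subgroupOf H).map φ :=
    Subgroup.mem_map_of_mem φ (Subgroup.mem_subgroupOf.mpr hx)
  rw [h1, Subgroup.mem_bot] at h2
  have hmem : (⟨c⁻¹, H.inv_mem hc⟩ : ↥H) • b ∈ MulAction.orbit ↥H b := MulAction.mem_orbit b _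
  have h3 : φ ⟨x, hxH⟩ ⟨_, hmem⟩ = ⟨_, hmem⟩ := by rw [h2]; rfl
  have h4 := congrArg Subtype.val h3
  have h5 : x • (c⁻¹ • b) = c⁻¹ • b := h4
  show c * x * c⁻¹ ∈ MulAction.stabilizer G b
  rw [MulAction.mem_stabilizer_iff, mul_smul, mul_smul, h5, smul_inv_smul]

end action

/-- `O_s(H ∩ K) = 1` as soon as it lies in the first core -/
theorem coreOf_inf_eq_bot {G : Type*} [Group G] [Finite G] {H K : Subgroup G} (h : Pair H K)
    (s : ℕ) [Fact s.Prime] (hle : coreOf s (H ⊓ K) ≤ cA H K) : coreOf s (H ⊓ K) = ⊥ := by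
  by_contra hne
  have hAD : cA H K ≤ H ⊓ K := le_inf (cA_le_left H K) (cA_le_right H K)
  have hXH : coreOf s (H ⊓ K) ≤ H := (coreOf_le s _).trans inf_le_left
  have hXK : coreOf s (H ⊓ K) ≤ K := (coreOf_le s _).trans inf_le_right
  have hXA : coreOf s (H ⊓ K) = coreOf s (cA H K) := by
    apply le_antisymm
    · exact le_coreOf hle (hAD.trans (le_normalizer_coreOf s _)) (isPGroup_coreOf s _)
    · exact coreOf_mono_of_normal hAD (inf_le_left.trans (le_normalizer_cA H K))
  have hHX : H ≤ Subgroup.normalizer ((coreOf s (H ⊓ K) : Subgroup G) : Set G) := by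
    rw [hXA]; exact le_normalizer_coreOf_of_le (le_normalizer_cA H K)
  have hNX := h.cfH.normalizer_eq hXH hne hHX
  have hSKD : coreOf s K ⊓ (H ⊓ K) ≤ coreOf s (H ⊓ K) :=
    le_coreOf inf_le_right
      (le_normalizer_inf (inf_le_right.trans (le_normalizer_coreOf s K)) Subgroup.le_normalizer)
      ((isPGroup_coreOf s K).to_le inf_le_left)
  have hXnSK : coreOf s (H ⊓ K) ≤ Subgroup.normalizer ((coreOf s K : Subgroup G) : Set G) :=
    hXK.trans (le_normalizer_coreOf s K)
  have hPs : IsPGroup s (coreOf s K ⊔ coreOf s (H ⊓ K) : Subgroup G) :=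
    IsPGroup.to_sup_of_normal_left' (isPGroup_coreOf s K) (isPGroup_coreOf s _) hXnSK
  have hSKX : coreOf s K ≤ coreOf s (H ⊓ K) := by
    by_contra hnot
    have hlt : coreOf s (H ⊓ K) < coreOf s K ⊔ coreOf s (H ⊓ K) := by
      refine lt_of_le_of_ne le_sup_right ?_
      intro e
      apply hnot
      rw [e]
      exact le_sup_left
    obtain ⟨x, hxP, hxN, hxX⟩ := exists_normalizer_not_mem hPs hlt
    rw [hNX] at hxN
    have hxK : x ∈ K := (sup_le (coreOf_le s K) hXK) hxP
    obtain ⟨u, hu, v, hv, rfl⟩ := exists_mul_of_mem_sup_right hXnSK hxP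
    have huD : u ∈ H ⊓ K := by
      have e : u = u * v * v⁻¹ := by group
      rw [e]
      exact Subgroup.mul_mem _ ⟨hxN, hxK⟩ (Subgroup.inv_mem _ ⟨hXH hv, hXK hv⟩)
    exact hxX (Subgroup.mul_mem _ (hSKD ⟨hu, huD⟩) hv)
  have hXSH : coreOf s (H ⊓ K) ≤ coreOf s H := le_coreOf hXH hHX (isPGroup_coreOf s _)
  obtain ⟨g, hg⟩ := h.conj
  have hc : Nat.card (coreOf s H) = Nat.card (coreOf s K) := by
    rw [hg, coreOf_cj, card_cj]
  have h0 : coreOf s K = ⊥ :=
    h.eq_bot_of_le_of_card_eq' (hSKX.trans hXSH) hc (le_normalizer_coreOf s H)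
      (le_normalizer_coreOf s K) (coreOf_le s H)
  rw [h0, Subgroup.card_bot] at hc
  have h1 : coreOf s H = ⊥ := Subgroup.card_eq_one.mp hc
  rw [h1, le_bot_iff] at hXSH
  exact hne hXSH

section action2

variable {G Ω : Type*} [Group G] [Finite G] [MulAction G Ω] [FaithfulSMul G Ω] [Finite Ω]

/-- S3693 -/
theorem fitting_free_bound (hprim : MulAction.IsPreprimitive G Ω) (a b : Ω) (d : ℕ)
    (hd : Nat.card (MulAction.orbit (MulAction.stabilizer G a) b) = d) (h2 : 2 ≤ d)
    (hF : Cfsg.fittingSubgroup ↥(((MulAction.stabilizer G b).subgroupOf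
      (MulAction.stabilizer G a)).map (MulAction.toPermHom (MulAction.stabilizer G a)
        (MulAction.orbit (MulAction.stabilizer G a) b))) = ⊥) :
    Cfsg.fittingSubgroup ↥(MulAction.stabilizer G a ⊓ MulAction.stabilizer G b) = ⊥ ∧
      Nat.card (MulAction.stabilizer G a) ∣ Nat.factorial d * (Nat.factorial (d - 1)) ^ d := by
  obtain ⟨hP, hK, hH, hcard⟩ := setup hprim a b d hd h2
  have hO : ∀ s : ℕ, s.Prime →
      coreOf s (MulAction.stabilizer G a ⊓ MulAction.stabilizer G b) = ⊥ := by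
    intro s hs
    haveI : Fact s.Prime := ⟨hs⟩
    exact coreOf_inf_eq_bot hP s (coreOf_inf_le_cA a b s hF)
  constructor
  · rw [Cfsg.Agent.Lib.Lead.fittingSubgroup_eq_iSup_pCore, eq_bot_iff]
    apply iSup_le
    intro r
    have := hO r r.2
    unfold coreOf at this
    rw [Subgroup.map_eq_bot_iff_of_injective _ (Subgroup.subtype_injective _)] at this
    rw [this]
  · by_cases hA2 : cA2 (MulAction.stabilizer G a) (MulAction.stabilizer G b) = ⊥
    · exact card_dvd_of_cA2_eq_bot hK hH hA2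
    by_cases hB2 : cA2 (MulAction.stabilizer G b) (MulAction.stabilizer G a) = ⊥
    · rw [hcard]
      exact card_dvd_of_cA2_eq_bot hH hK hB2
    exfalso
    obtain ⟨q, hq, hpg, -, -⟩ := main hP hA2 hB2
    apply hA2
    have h1 : cA2 (MulAction.stabilizer G a) (MulAction.stabilizer G b) ≤
        coreOf q (MulAction.stabilizer G a ⊓ MulAction.stabilizer G b) :=
      le_coreOf (le_inf (cA2_le_left _ _) (cA2_le_right _ _))
        (inf_le_left.trans (le_normalizer_cA2 _ _)) (hpg.to_le le_sup_left)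
    rw [hO q hq, le_bot_iff] at h1
    exact h1

end action2

end Cfsg.Agent.Lib.Lead.TW
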