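import Mathlib
import Cfsg.Agent.Lib.Lead.TateB

set_option autoImplicit false
open Pointwise
open scoped commutatorElement

namespace Cfsg.Agent.Lib.Lead

universe u

namespace Tate2

open Tate (R R2)

variable {G : Type u} [Group G] {p : ℕ} {P : Subgroup G} (T : Subgroup P) [hTn : T.Normal]

/-- the pullback `G ×_{G/K} P/T` -/
def Gt : Subgroup (G × (P ⧸ T)) where
  carrier := {t | ∃ x : P, QuotientGroup.mk' T x = t.2 ∧
    (x : G)⁻¹ * t.1 ∈ Cfsg.pResidual p G}
  one_mem' := ⟨1, by simp, by simp⟩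
  mul_mem' := by
    haveI hKn : (Cfsg.pResidual p G).Normal := pResidual_normal p
    rintro ⟨g₁, e₁⟩ ⟨g₂, e₂⟩ ⟨x₁, hx₁, hk₁⟩ ⟨x₂, hx₂, hk₂⟩
    refine ⟨x₁ * x₂, by simp only [map_mul, Prod.snd_mul]; rw [hx₁, hx₂], ?_⟩
    simp only [Prod.fst_mul, Subgroup.coe_mul, mul_inv_rev] at hk₁ hk₂ ⊢
    have h1 : ((x₂ : G)⁻¹ * (x₁ : G)⁻¹) * (g₁ * g₂) =
        ((x₂ : G)⁻¹ * ((x₁ : G)⁻¹ * g₁) * ((x₂ : G)⁻¹)⁻¹) * ((x₂ : G)⁻¹ * g₂) := by group
    rw [h1]
    exact Subgroup.mul_mem _ (hKn.conj_mem _ hk₁ _) hk₂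
  inv_mem' := by
    haveI hKn : (Cfsg.pResidual p G).Normal := pResidual_normal p
    rintro ⟨g, e⟩ ⟨x, hx, hk⟩
    refine ⟨x⁻¹, by simp only [map_inv, Prod.snd_inv]; rw [hx], ?_⟩
    simp only [Prod.fst_inv, Subgroup.coe_inv, inv_inv] at hk ⊢
    have h1 : (x : G) * g⁻¹ = g * ((x : G)⁻¹ * g)⁻¹ * g⁻¹ := by group
    rw [h1]
    exact hKn.conj_mem _ (Subgroup.inv_mem _ hk) _

/-- first projection -/
def f : Gt (p := p) T →* G := (MonoidHom.fst G (P ⧸ T)).comp (Gt (p := p) T).subtype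

/-- second projection -/
def s : Gt (p := p) T →* P ⧸ T :=
  (MonoidHom.snd G (P ⧸ T)).comp (Gt (p := p) T).subtype

theorem f_apply (t : Gt (p := p) T) : f T t = (t : G × (P ⧸ T)).1 := rfl
theorem s_apply (t : Gt (p := p) T) : s T t = (t : G × (P ⧸ T)).2 := rfl

/-- the diagonal embedding of `P` -/
def δ : P →* Gt (p := p) T where
  toFun x := ⟨((x : G), QuotientGroup.mk' T x), ⟨x, rfl, by simp [Subgroup.one_mem]⟩⟩
  map_one' := by apply Subtype.ext; simp
  map_mul' x y := by apply Subtype.ext; simp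

theorem f_δ (x : P) : f T (δ (p := p) T x) = (x : G) := rfl
theorem s_δ (x : P) : s T (δ (p := p) T x) = QuotientGroup.mk' T x := rfl

/-- the embedding of `K = O^p(G)` -/
def ι : Cfsg.pResidual p G →* Gt (p := p) T where
  toFun k := ⟨((k : G), 1), ⟨1, by simp, by simpa using k.2⟩⟩
  map_one' := by apply Subtype.ext; simp
  map_mul' x y := by apply Subtype.ext; simp

theorem f_ι (k : Cfsg.pResidual p G) : f T (ι (p := p) T k) = (k : G) := rfl
theorem s_ι (k : Cfsg.pResidual p G) : s T (ι (p := p) T k) = 1 := rfl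

theorem ι_injective : Function.Injective (ι (p := p) T) := by
  intro a b hab
  have := congrArg (f T) hab
  rw [f_ι, f_ι] at this
  exact Subtype.ext this

/-- an element is determined by its two projections -/
theorem ext_fs {t u : Gt (p := p) T} (h1 : f T t = f T u) (h2 : s T t = s T u) : t = u := by
  apply Subtype.ext
  exact Prod.ext h1 h2

/-- elements of the image of `R` in `P/T` are central -/
theorem mk_R_central (hT1 : R2 (p := p) P ≤ T) (x : P) (hx : x ∈ R (p := p) P) (e : P ⧸ T) :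
    QuotientGroup.mk' T x * e = e * QuotientGroup.mk' T x := by
  obtain ⟨y, rfl⟩ := QuotientGroup.mk'_surjective T e
  have h1 : ⁅x, y⁆ ∈ T :=
    hT1 (Subgroup.commutator_mem_commutator hx (Subgroup.mem_top y))
  have h2 : QuotientGroup.mk' T ⁅x, y⁆ = 1 := (QuotientGroup.eq_one_iff _).mpr h1
  rw [commutatorElement_def, map_mul, map_mul, map_mul, map_inv, map_inv] at h2
  have h3 := mul_inv_eq_one.mp h2
  exact mul_inv_eq_iff_eq_mul.mp h3

/-- the second coordinate of an element of `ker f` comes from `R` -/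
theorem s_of_mem_ker (t : Gt (p := p) T) (ht : t ∈ (f T).ker) :
    ∃ x : P, x ∈ R (p := p) P ∧ QuotientGroup.mk' T x = s T t := by
  obtain ⟨x, hx1, hx2⟩ := t.2
  have h1 : (t : G × (P ⧸ T)).1 = 1 := ht
  rw [h1, mul_one] at hx2
  refine ⟨x, ?_, hx1⟩
  change (x : G) ∈ Cfsg.pResidual p G
  have := Subgroup.inv_mem _ hx2
  rwa [inv_inv] at this

theorem ker_f_le_center (hT1 : R2 (p := p) P ≤ T) :
    (f (p := p) T).ker ≤ Subgroup.center (Gt (p := p) T) := by
  intro t ht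
  obtain ⟨x, hxR, hxs⟩ := s_of_mem_ker T t ht
  rw [Subgroup.mem_center_iff]
  intro u
  apply ext_fs
  · rw [map_mul, map_mul, (MonoidHom.mem_ker).mp ht, mul_one, one_mul]
  · rw [map_mul, map_mul, ← hxs]
    exact (mk_R_central T hT1 x hxR (s T u)).symm

end Tate2

end Cfsg.Agent.Lib.Lead
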