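import Mathlib
import Cfsg.Agent.Lib.Lead.Tate2B
import Cfsg.Agent.Lib.Lead.TateD

set_option autoImplicit false
open Pointwise
open scoped commutatorElement

namespace Cfsg.Agent.Lib.Lead

universe u

namespace Tate2

open Tate (R R2)

variable {G : Type u} [Group G] [Finite G] {p : ℕ} [hp : Fact p.Prime] (P : Sylow p G)
variable (T : Subgroup (P : Subgroup G)) [hTn : T.Normal]

theorem f_surjective : Function.Surjective (f (p := p) T) := by
  haveI hKn : (Cfsg.pResidual p G).Normal := pResidual_normal p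
  intro g
  have htop : (P : Subgroup G) ⊔ Cfsg.pResidual p G = ⊤ :=
    sup_eq_top_of_coprime_index _ _ P.not_dvd_index (pResidual_index p)
  have hg : g ∈ (P : Subgroup G) ⊔ Cfsg.pResidual p G := by rw [htop]; exact Subgroup.mem_top g
  rw [← SetLike.mem_coe, Subgroup.mul_normal] at hg
  obtain ⟨x, hx, k, hk, rfl⟩ := hg
  refine ⟨⟨(x * k, QuotientGroup.mk' T ⟨x, hx⟩), ⟨⟨x, hx⟩, rfl, ?_⟩⟩, rfl⟩
  simpa using hk

theorem isPGroup_ker_f : IsPGroup p (f (p := p) T).ker := by
  have hE : IsPGroup p ((P : Subgroup G) ⧸ T) := P.2.to_quotient _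
  intro t
  obtain ⟨k, hk⟩ := hE (s T (t : Gt (p := p) T))
  refine ⟨k, ?_⟩
  apply Subtype.ext
  apply ext_fs
  · have : f T (t : Gt (p := p) T) = 1 := t.2
    simp only [Subgroup.coe_pow, map_pow, this, one_pow, Subgroup.coe_one, map_one]
  · simp only [Subgroup.coe_pow, map_pow, hk, Subgroup.coe_one, map_one]

/-- Gaschütz gives a complement to the central kernel -/
theorem exists_complement_ker_f (hT1 : R2 (p := p) (P : Subgroup G) ≤ T) :
    ∃ H₀ : Subgroup (Gt (p := p) T),
      Subgroup.IsComplement' (f (p := p) T).ker H₀ := by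
  classical
  set fP := f (p := p) T with hfP
  haveI hcomm : IsMulCommutative fP.ker := by
    refine ⟨⟨fun a b => ?_⟩⟩
    apply Subtype.ext
    have := Subgroup.mem_center_iff.mp (ker_f_le_center T hT1 b.2) (a : Gt (p := p) T)
    simpa using this
  apply Cfsg.Agent.S0051.result fP.ker ((P : Subgroup G).comap fP) ?_ ?_
    (δ (p := p) T).range ?_ ?_ ?_
  · intro t ht
    rw [Subgroup.mem_comap, (MonoidHom.mem_ker).mp ht]
    exact Subgroup.one_mem _
  · rw [Subgroup.index_comap_of_surjective _ (f_surjective P T)]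
    obtain ⟨k, hk⟩ := IsPGroup.iff_card.mp (isPGroup_ker_f P T)
    rw [hk]
    exact Nat.Coprime.pow_left k ((Nat.Prime.coprime_iff_not_dvd hp.out).mpr P.not_dvd_index)
  · rintro _ ⟨x, rfl⟩
    rw [Subgroup.mem_comap, hfP, f_δ]
    exact x.2
  · rw [eq_bot_iff]
    rintro t ⟨⟨x, rfl⟩, ht2⟩
    have h1 : fP (δ T x) = 1 := ht2
    rw [hfP, f_δ] at h1
    have hx1 : x = 1 := Subtype.ext h1
    rw [hx1, map_one]
    exact Subgroup.mem_bot.mpr rfl
  · apply le_antisymm
    · apply sup_le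
      · intro t ht
        rw [Subgroup.mem_comap, (MonoidHom.mem_ker).mp ht]
        exact Subgroup.one_mem _
      · rintro _ ⟨x, rfl⟩
        rw [Subgroup.mem_comap, hfP, f_δ]
        exact x.2
    · intro t ht
      rw [Subgroup.mem_comap] at ht
      have h1 : t = (t * (δ T ⟨fP t, ht⟩)⁻¹) * δ T ⟨fP t, ht⟩ := by
        group
      rw [h1]
      apply Subgroup.mul_mem_sup
      · rw [MonoidHom.mem_ker, map_mul, map_inv]
        have : fP (δ T ⟨fP t, ht⟩) = fP t := rfl
        rw [this, mul_inv_cancel]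
      · exact ⟨_, rfl⟩

/-- decomposition of an element along a complement of the kernel -/
theorem exists_decomp (H₀ : Subgroup (Gt (p := p) T))
    (hc : Subgroup.IsComplement' (f (p := p) T).ker H₀)
    (t : Gt (p := p) T) :
    ∃ c ∈ (f (p := p) T).ker, ∃ h ∈ H₀, t = c * h := by
  have htop := hc.sup_eq_top
  have ht : t ∈ (f (p := p) T).ker ⊔ H₀ := by rw [htop]; exact Subgroup.mem_top t
  rw [← SetLike.mem_coe, Subgroup.normal_mul] at ht
  obtain ⟨c, hc', h, hh, rfl⟩ := ht
  exact ⟨c, hc', h, hh, rfl⟩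

theorem complement_normal (hT1 : R2 (p := p) (P : Subgroup G) ≤ T)
    (H₀ : Subgroup (Gt (p := p) T))
    (hc : Subgroup.IsComplement' (f (p := p) T).ker H₀) : H₀.Normal := by
  refine ⟨fun n hn t => ?_⟩
  obtain ⟨c, hcK, h, hh, rfl⟩ := exists_decomp P T H₀ hc t
  have hcen := Subgroup.mem_center_iff.mp (ker_f_le_center T hT1 hcK)
  have h1 : c * h * n * (c * h)⁻¹ = h * n * h⁻¹ := by
    have h2 : c * h * n * (c * h)⁻¹ = c * (h * n * h⁻¹) * c⁻¹ := by group
    rw [h2, ← hcen (h * n * h⁻¹), mul_inv_cancel_right]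
  rw [h1]
  exact H₀.mul_mem (H₀.mul_mem hh hn) (H₀.inv_mem hh)

/-- the image of `O^p(G)` lies in every complement of the kernel -/
theorem ι_mem_complement (hT1 : R2 (p := p) (P : Subgroup G) ≤ T)
    (H₀ : Subgroup (Gt (p := p) T))
    (hc : Subgroup.IsComplement' (f (p := p) T).ker H₀)
    (k : Cfsg.pResidual p G) : ι (p := p) T k ∈ H₀ := by
  haveI := complement_normal P T hT1 H₀ hc
  have hidx : ∃ j : ℕ, H₀.index = p ^ j := by
    rw [hc.index_eq_card]
    exact IsPGroup.iff_card.mp (isPGroup_ker_f P T)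
  obtain ⟨k, hk⟩ := k
  induction hk using Subgroup.closure_induction with
  | mem y hy =>
    apply mem_of_coprime_orderOf H₀ hidx
    rw [orderOf_injective (ι (p := p) T) (ι_injective T),
      ← Subgroup.orderOf_coe]
    exact hy
  | one =>
    have : (⟨1, Subgroup.one_mem _⟩ : Cfsg.pResidual p G) = 1 := rfl
    rw [this, map_one]; exact H₀.one_mem
  | mul a b ha hb iha ihb =>
    have : (⟨a * b, Subgroup.mul_mem _ ha hb⟩ : Cfsg.pResidual p G) = ⟨a, ha⟩ * ⟨b, hb⟩ := rfl
    rw [this, map_mul]; exact H₀.mul_mem iha ihb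
  | inv a ha iha =>
    have : (⟨a⁻¹, Subgroup.inv_mem _ ha⟩ : Cfsg.pResidual p G) = ⟨a, ha⟩⁻¹ := rfl
    rw [this, map_inv]; exact H₀.inv_mem iha

end Tate2

end Cfsg.Agent.Lib.Lead
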