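import Mathlib
import Cfsg.Agent.Lib.Lead.Tate2C

set_option autoImplicit false
open Pointwise
open scoped commutatorElement

namespace Cfsg.Agent.Lib.Lead

universe u

namespace Tate2

open Tate (R R2)

variable {G : Type u} [Group G] [Finite G] {p : ℕ} [hp : Fact p.Prime] (P : Sylow p G)
variable (T : Subgroup (P : Subgroup G)) [hTn : T.Normal]

/-- **key step of Tate's theorem, general form**: if `[R, P] ≤ T ≤ R = P ∩ O^p(G)` with `T`
normal in `P` and `R ≤ Φ(P) T`, then `R ≤ T`. -/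
theorem R_le_T (hT1 : R2 (p := p) (P : Subgroup G) ≤ T) (hT2 : T ≤ R (p := p) (P : Subgroup G))
    (hfr : R (p := p) (P : Subgroup G) ≤ frattini (P : Subgroup G) ⊔ T) :
    R (p := p) (P : Subgroup G) ≤ T := by
  classical
  obtain ⟨H₀, hc⟩ := exists_complement_ker_f P T hT1
  set π := QuotientGroup.mk' T with hπ
  have hπs : Function.Surjective π := QuotientGroup.mk'_surjective _
  set C := (R (p := p) (P : Subgroup G)).map π with hC
  set E₀ := H₀.map (s (p := p) T) with hE₀
  have hsup : E₀ ⊔ C = ⊤ := by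
    rw [eq_top_iff]
    intro e _
    obtain ⟨x, rfl⟩ := hπs e
    obtain ⟨c, hcK, h, hh, hch⟩ := exists_decomp P T H₀ hc (δ T x)
    have h1 : π x = s T c * s T h := by
      rw [← map_mul, ← hch, s_δ]
    rw [h1]
    obtain ⟨r, hrR, hrs⟩ := s_of_mem_ker T c hcK
    have h2 : s T c ∈ C := by rw [← hrs]; exact Subgroup.mem_map_of_mem π hrR
    have h3 : s T h ∈ E₀ := Subgroup.mem_map_of_mem _ hh
    exact Subgroup.mul_mem _ (Subgroup.mem_sup_right h2) (Subgroup.mem_sup_left h3)
  have hCfr : C ≤ frattini ((P : Subgroup G) ⧸ T) := by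
    have h1 : C ≤ (frattini (P : Subgroup G) ⊔ T).map π := Subgroup.map_mono hfr
    have h2 : T.map π = ⊥ := by
      rw [hπ, QuotientGroup.map_mk'_self]
    rw [Subgroup.map_sup, h2, sup_bot_eq] at h1
    exact h1.trans (map_frattini_le π hπs)
  have hE₀top : E₀ = ⊤ := by
    apply frattini_nongenerating
    rw [eq_top_iff, ← hsup]
    exact sup_le_sup_left hCfr _
  have hinf : ∀ e ∈ C, e ∈ E₀ → e = 1 := by
    intro e heC heE
    obtain ⟨r, hrR, rfl⟩ := Subgroup.mem_map.mp heC
    obtain ⟨h, hh, hhe⟩ := Subgroup.mem_map.mp heE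
    obtain ⟨x, hx1, hx2⟩ := h.2
    have hx1' : π x = π r := by rw [hx1]; exact hhe
    have h1 : r⁻¹ * x ∈ T := by
      apply (QuotientGroup.eq_one_iff (N := T) _).mp
      change π (r⁻¹ * x) = 1
      rw [map_mul, map_inv, hx1', inv_mul_cancel]
    have h2 : r⁻¹ * x ∈ R (p := p) (P : Subgroup G) := hT2 h1
    have h3 : x ∈ R (p := p) (P : Subgroup G) := by
      have := Subgroup.mul_mem _ hrR h2
      rwa [mul_inv_cancel_left] at this
    have h4 : (x : G) ∈ Cfsg.pResidual p G := h3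
    have h5 : f T h ∈ Cfsg.pResidual p G := by
      have := Subgroup.mul_mem _ h4 hx2
      rwa [mul_inv_cancel_left] at this
    have h6 : (ι T ⟨f T h, h5⟩)⁻¹ * h ∈ H₀ :=
      H₀.mul_mem (H₀.inv_mem (ι_mem_complement P T hT1 H₀ hc _)) hh
    have h7 : (ι T ⟨f T h, h5⟩)⁻¹ * h ∈ (f (p := p) T).ker := by
      rw [MonoidHom.mem_ker, map_mul, map_inv, f_ι, inv_mul_cancel]
    have h8 := (Subgroup.disjoint_def.mp hc.disjoint) h7 h6
    have h9 := congrArg (s T) h8
    rw [map_mul, map_inv, s_ι, inv_one, one_mul, map_one, hhe] at h9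
    exact h9
  intro r hrR
  have h1 : π r ∈ C := Subgroup.mem_map_of_mem π hrR
  have h2 := hinf (π r) h1 (by rw [hE₀top]; exact Subgroup.mem_top _)
  exact (QuotientGroup.eq_one_iff r).mp h2

/-- **general form of Tate's theorem (inside `P`)**: a normal subgroup `T₀ ≤ R = P ∩ O^p(G)` of
`P` with `R ≤ Φ(P) T₀` contains `R`. -/
theorem R_le_of_le_frattini_sup (T₀ : Subgroup (P : Subgroup G)) [hT₀n : T₀.Normal]
    (hT2 : T₀ ≤ R (p := p) (P : Subgroup G))
    (hfr : R (p := p) (P : Subgroup G) ≤ frattini (P : Subgroup G) ⊔ T₀) :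
    R (p := p) (P : Subgroup G) ≤ T₀ := by
  haveI : Group.IsNilpotent (P : Subgroup G) := P.2.isNilpotent
  have h1 : R (p := p) (P : Subgroup G) ≤ T₀ ⊔ R2 (p := p) (P : Subgroup G) := by
    apply R_le_T P (T₀ ⊔ R2 (p := p) (P : Subgroup G)) le_sup_right
      (sup_le hT2 (Tate.R2_le_R (P : Subgroup G)))
    exact hfr.trans (sup_le_sup_left le_sup_left _)
  -- pass to the quotient by `T₀`
  set π := QuotientGroup.mk' T₀ with hπ
  have hπs : Function.Surjective π := QuotientGroup.mk'_surjective _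
  haveI : Group.IsNilpotent ((P : Subgroup G) ⧸ T₀) := inferInstance
  have h2 : (R (p := p) (P : Subgroup G)).map π = ⊥ := by
    apply eq_bot_of_commutator_top_eq
    apply le_antisymm (Subgroup.commutator_le_left _ _)
    have h3 : (R (p := p) (P : Subgroup G)).map π ≤
        (T₀ ⊔ R2 (p := p) (P : Subgroup G)).map π := Subgroup.map_mono h1
    have h4 : T₀.map π = ⊥ := by rw [hπ, QuotientGroup.map_mk'_self]
    rw [Subgroup.map_sup, h4, bot_sup_eq] at h3
    refine h3.trans ?_
    unfold Tate.R2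
    rw [Subgroup.map_commutator]
    exact Subgroup.commutator_mono le_rfl le_top
  intro r hr
  have h5 : π r ∈ (R (p := p) (P : Subgroup G)).map π := Subgroup.mem_map_of_mem π hr
  rw [h2, Subgroup.mem_bot] at h5
  exact (QuotientGroup.eq_one_iff r).mp h5

end Tate2

end Cfsg.Agent.Lib.Lead
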