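import Mathlib
import Cfsg.Agent.Lib.Lead.Tate2D
import Cfsg.Agent.Lib.Lead.Frattini
import Cfsg.Agent.Lib.Helper6.PRes
import Cfsg.Prelude.Def_BaumannBlocks

set_option autoImplicit false
open scoped commutatorElement

namespace Cfsg.Agent.Lib.Lead

universe u

namespace Tate2

open Tate (R R2)

section
variable {X : Type u} [Group X] [Finite X] {p : ℕ} [hp : Fact p.Prime]

/-- a `p`-element of `O^p(X)` lies in the commutator subgroup -/
theorem mem_commutator_of_mem_pResidual (x : X) (hx : ∃ k : ℕ, x ^ p ^ k = 1)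
    (hxK : x ∈ Cfsg.pResidual p X) : x ∈ commutator X := by
  obtain ⟨k, hk⟩ := hx
  set c := ordCompl[p] (Nat.card X) with hc
  have hcard : p ^ (Nat.card X).factorization p * c = Nat.card X :=
    Nat.ordProj_mul_ordCompl_eq_self (Nat.card X) p
  have hcop : Nat.Coprime p c := Nat.coprime_ordCompl hp.out Nat.card_pos.ne'
  let ψ : X →* Abelianization X := (powMonoidHom c).comp Abelianization.of
  have hle : Cfsg.pResidual p X ≤ ψ.ker := by
    unfold Cfsg.pResidual
    rw [Subgroup.closure_le]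
    intro g hg
    have hg' : Nat.Coprime (orderOf g) p := hg
    rw [SetLike.mem_coe, MonoidHom.mem_ker]
    change (Abelianization.of g) ^ c = 1
    rw [← map_pow]
    have h1 : orderOf g ∣ c := by
      have h2 : orderOf g ∣ p ^ (Nat.card X).factorization p * c := by
        rw [hcard]; exact orderOf_dvd_natCard g
      exact Nat.Coprime.dvd_of_dvd_mul_left (Nat.Coprime.pow_right _ hg') h2
    rw [orderOf_dvd_iff_pow_eq_one.mp h1, map_one]
  have h1 : (Abelianization.of x) ^ c = 1 := hle hxK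
  have h2 : (Abelianization.of x) ^ p ^ k = 1 := by rw [← map_pow, hk, map_one]
  have h3 : orderOf (Abelianization.of x) = 1 := by
    apply Nat.eq_one_of_dvd_coprimes (Nat.Coprime.pow_left k hcop)
      (orderOf_dvd_of_pow_eq_one h2) (orderOf_dvd_of_pow_eq_one h1)
  rw [orderOf_eq_one_iff] at h3
  rw [← Abelianization.ker_of]
  exact h3

/-- elements of `Q ∩ X'` decompose as (commutator of `Q`) times (element of `Q ∩ O^p(X)`) -/
theorem exists_decomp_of_mem_commutator (Q : Sylow p X) (x : (Q : Subgroup X))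
    (hx : (x : X) ∈ commutator X) :
    ∃ y ∈ commutator (Q : Subgroup X), ∃ r : (Q : Subgroup X),
      (r : X) ∈ Cfsg.pResidual p X ∧ x = y * r := by
  haveI hKn : (Cfsg.pResidual p X).Normal := pResidual_normal p
  let πQ : (Q : Subgroup X) →* X ⧸ Cfsg.pResidual p X :=
    (QuotientGroup.mk' (Cfsg.pResidual p X)).comp (Q : Subgroup X).subtype
  have hsurj : Function.Surjective πQ := by
    intro a
    obtain ⟨g, rfl⟩ := QuotientGroup.mk'_surjective _ a
    have htop := Cfsg.Agent.Lib.Helper6.pResidual_sup_sylow Q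
    have hg : g ∈ Cfsg.pResidual p X ⊔ (Q : Subgroup X) := by rw [htop]; exact Subgroup.mem_top g
    rw [← SetLike.mem_coe, Subgroup.normal_mul] at hg
    obtain ⟨k, hk, q, hq, rfl⟩ := hg
    refine ⟨⟨q, hq⟩, ?_⟩
    change QuotientGroup.mk' _ q = QuotientGroup.mk' _ (k * q)
    have h0 : QuotientGroup.mk' (Cfsg.pResidual p X) k = 1 := (QuotientGroup.eq_one_iff k).mpr hk
    rw [map_mul, h0, one_mul]
  have h1 : (commutator (Q : Subgroup X)).map πQ = commutator (X ⧸ Cfsg.pResidual p X) := by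
    rw [commutator_def, Subgroup.map_commutator, ← MonoidHom.range_eq_map,
      MonoidHom.range_eq_top.mpr hsurj, ← commutator_def]
  have h2 : QuotientGroup.mk' (Cfsg.pResidual p X) (x : X) ∈
      commutator (X ⧸ Cfsg.pResidual p X) := by
    have h3 : (commutator X).map (QuotientGroup.mk' (Cfsg.pResidual p X)) ≤
        commutator (X ⧸ Cfsg.pResidual p X) := by
      rw [commutator_def, Subgroup.map_commutator, commutator_def]
      exact Subgroup.commutator_mono le_top le_top
    exact h3 (Subgroup.mem_map_of_mem _ hx)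
  rw [← h1] at h2
  obtain ⟨y, hy, hyx⟩ := Subgroup.mem_map.mp h2
  refine ⟨y, hy, y⁻¹ * x, ?_, by group⟩
  apply (QuotientGroup.eq_one_iff (N := Cfsg.pResidual p X) _).mp
  have h4 : QuotientGroup.mk' (Cfsg.pResidual p X) ((y⁻¹ * x : (Q : Subgroup X)) : X) =
      (πQ y)⁻¹ * QuotientGroup.mk' (Cfsg.pResidual p X) (x : X) := by
    simp only [Subgroup.coe_mul, Subgroup.coe_inv, map_mul, map_inv]
    rfl
  change QuotientGroup.mk' (Cfsg.pResidual p X) ((y⁻¹ * x : (Q : Subgroup X)) : X) = 1
  rw [h4, hyx, inv_mul_cancel]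

end

section
variable {G : Type u} [Group G] [Finite G] {p : ℕ} [hp : Fact p.Prime]

theorem pResidualOf_le_pResidual (H : Subgroup G) :
    Cfsg.pResidualOf p H ≤ Cfsg.pResidual p G :=
  Cfsg.Agent.Lib.Helper6.pResidual_map_le p H.subtype

theorem pResidualOf_le (H : Subgroup G) : Cfsg.pResidualOf p H ≤ H :=
  Subgroup.map_subtype_le _

theorem conj_mem_pResidualOf (H : Subgroup G) {u z : G} (hu : u ∈ H)
    (hz : z ∈ Cfsg.pResidualOf p H) : u * z * u⁻¹ ∈ Cfsg.pResidualOf p H := by
  haveI hKn : (Cfsg.pResidual p H).Normal := pResidual_normal p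
  obtain ⟨z', hz', rfl⟩ := Subgroup.mem_map.mp hz
  refine Subgroup.mem_map.mpr ⟨⟨u, hu⟩ * z' * ⟨u, hu⟩⁻¹, hKn.conj_mem z' hz' ⟨u, hu⟩, ?_⟩
  simp

/-- **Tate's theorem, general form.**  If `P ≤ H ≤ G` with `P` a Sylow `p`-subgroup of `G` and
`P ∩ G' ≤ H'`, then `P ∩ O^p(G) ≤ O^p(H)`. -/
theorem tate_general (P : Sylow p G) (H : Subgroup G) (hPH : (P : Subgroup G) ≤ H)
    (hfoc : (P : Subgroup G) ⊓ commutator G ≤ ⁅H, H⁆) :
    (P : Subgroup G) ⊓ Cfsg.pResidual p G ≤ Cfsg.pResidualOf p H := by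
  classical
  -- the subgroup `P ∩ O^p(H)` of `P`
  haveI hT₀n : ((Cfsg.pResidualOf p H).subgroupOf (P : Subgroup G)).Normal := by
    refine ⟨fun z hz u => ?_⟩
    rw [Subgroup.mem_subgroupOf] at hz ⊢
    simp only [Subgroup.coe_mul, Subgroup.coe_inv]
    exact conj_mem_pResidualOf H (hPH u.2) hz
  have hT2 : (Cfsg.pResidualOf p H).subgroupOf (P : Subgroup G) ≤ R (p := p) (P : Subgroup G) := by
    intro z hz
    rw [Subgroup.mem_subgroupOf] at hz
    exact pResidualOf_le_pResidual H hz
  have hfr : R (p := p) (P : Subgroup G) ≤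
      frattini (P : Subgroup G) ⊔ (Cfsg.pResidualOf p H).subgroupOf (P : Subgroup G) := by
    intro r hr
    have hrK : (r : G) ∈ Cfsg.pResidual p G := hr
    have hrp : ∃ k : ℕ, (r : G) ^ p ^ k = 1 := by
      obtain ⟨k, hk⟩ := P.2 r
      exact ⟨k, by rw [← Subgroup.coe_pow, hk, Subgroup.coe_one]⟩
    have hrc : (r : G) ∈ commutator G := mem_commutator_of_mem_pResidual (r : G) hrp hrK
    have hrH : (r : G) ∈ ⁅H, H⁆ := hfoc ⟨r.2, hrc⟩
    -- pass to the group `H`
    let PH : Sylow p H := P.subtype hPH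
    have hrH' : (⟨(r : G), hPH r.2⟩ : H) ∈ commutator H := by
      rw [← Subgroup.map_subtype_commutator] at hrH
      obtain ⟨z, hz, hzr⟩ := Subgroup.mem_map.mp hrH
      have : z = ⟨(r : G), hPH r.2⟩ := Subtype.ext hzr
      rw [← this]; exact hz
    have hrPH : (⟨(r : G), hPH r.2⟩ : H) ∈ (PH : Subgroup H) := by
      change _ ∈ (P : Subgroup G).subgroupOf H
      rw [Subgroup.mem_subgroupOf]
      exact r.2
    obtain ⟨y, hy, t, ht, hrt⟩ := exists_decomp_of_mem_commutator PH ⟨_, hrPH⟩ hrH'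
    -- transport back to `P`
    let e : (PH : Subgroup H) →* (P : Subgroup G) :=
      (Subgroup.subgroupOfEquivOfLe hPH).toMonoidHom
    have he : ∀ z : (PH : Subgroup H), ((e z : (P : Subgroup G)) : G) = ((z : H) : G) := by
      intro z; rfl
    have hr_eq : r = e y * e t := by
      rw [← map_mul, ← hrt]
      apply Subtype.ext
      rw [he]
    rw [hr_eq]
    apply Subgroup.mul_mem
    · apply Subgroup.mem_sup_left
      apply commutator_le_frattini_of_isPGroup P.2
      have h1 : (commutator (PH : Subgroup H)).map e ≤ commutator (P : Subgroup G) := by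
        rw [commutator_def, Subgroup.map_commutator, commutator_def]
        exact Subgroup.commutator_mono le_top le_top
      exact h1 (Subgroup.mem_map_of_mem _ hy)
    · apply Subgroup.mem_sup_right
      rw [Subgroup.mem_subgroupOf, he]
      exact Subgroup.mem_map_of_mem _ ht
  have hmain := R_le_of_le_frattini_sup P _ hT2 hfr
  intro g hg
  have h1 : (⟨g, hg.1⟩ : (P : Subgroup G)) ∈ R (p := p) (P : Subgroup G) := hg.2
  have h2 := hmain h1
  rw [Subgroup.mem_subgroupOf] at h2
  exact h2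

end

end Tate2

end Cfsg.Agent.Lib.Lead
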