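import Mathlib

/-!
# S1632, package P7: the q-expansions of `E₄³` and `E₆²` up to `q⁴`

Pure Mathlib: the coefficients of `E₄` and `E₆` up to `q⁴`, hence those of `E₄ ^ 3` and `E₆ ^ 2`,
hence those of `(7 E₄³ + 5 E₆²) / 12`, which are `1, 0, 196560, 16773120, 398034000`.
-/

set_option autoImplicit false

namespace Cfsg.Agent.Lib.Lead.Theta24P7

open ModularForm EisensteinSeries ModularFormClass UpperHalfPlane PowerSeries
open scoped MatrixGroups ArithmeticFunction.sigma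

/-- `σ₃` at `1, 2, 3, 4`. -/
lemma sigma3_vals : ArithmeticFunction.sigma 3 1 = 1 ∧ ArithmeticFunction.sigma 3 2 = 9 ∧
    ArithmeticFunction.sigma 3 3 = 28 ∧ ArithmeticFunction.sigma 3 4 = 73 := by
  refine ⟨by decide, by decide, by decide, by decide⟩

/-- `σ₅` at `1, 2, 3, 4`. -/
lemma sigma5_vals : ArithmeticFunction.sigma 5 1 = 1 ∧ ArithmeticFunction.sigma 5 2 = 33 ∧
    ArithmeticFunction.sigma 5 3 = 244 ∧ ArithmeticFunction.sigma 5 4 = 1057 := by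
  refine ⟨by decide, by decide, by decide, by decide⟩

/-- The coefficients of `E₄` up to `q⁴`. -/
theorem E4_coeffs :
    (qExpansion 1 E₄).coeff 0 = 1 ∧ (qExpansion 1 E₄).coeff 1 = 240 ∧
    (qExpansion 1 E₄).coeff 2 = 2160 ∧ (qExpansion 1 E₄).coeff 3 = 6720 ∧
    (qExpansion 1 E₄).coeff 4 = 17520 := by
  have hb : bernoulli 4 = -1 / 30 := by decide +kernel
  obtain ⟨h1, h2, h3, h4⟩ := sigma3_vals
  refine ⟨?_, ?_, ?_, ?_, ?_⟩ <;>
    norm_num [E_qExpansion_coeff _ ⟨2, rfl⟩, hb, h1, h2, h3, h4]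

/-- The coefficients of `E₆` up to `q⁴`. -/
theorem E6_coeffs :
    (qExpansion 1 E₆).coeff 0 = 1 ∧ (qExpansion 1 E₆).coeff 1 = -504 ∧
    (qExpansion 1 E₆).coeff 2 = -16632 ∧ (qExpansion 1 E₆).coeff 3 = -122976 ∧
    (qExpansion 1 E₆).coeff 4 = -532728 := by
  have hb : bernoulli 6 = 1 / 42 := by decide +kernel
  obtain ⟨h1, h2, h3, h4⟩ := sigma5_vals
  refine ⟨?_, ?_, ?_, ?_, ?_⟩ <;>
    norm_num [E_qExpansion_coeff _ ⟨3, rfl⟩, hb, h1, h2, h3, h4]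

/-- Cauchy products up to degree `4`, spelled out. -/
lemma coeff_mul_le_four (p r : PowerSeries ℂ) :
    (p * r).coeff 0 = p.coeff 0 * r.coeff 0 ∧
    (p * r).coeff 1 = p.coeff 0 * r.coeff 1 + p.coeff 1 * r.coeff 0 ∧
    (p * r).coeff 2 = p.coeff 0 * r.coeff 2 + p.coeff 1 * r.coeff 1 + p.coeff 2 * r.coeff 0 ∧
    (p * r).coeff 3 = p.coeff 0 * r.coeff 3 + p.coeff 1 * r.coeff 2 + p.coeff 2 * r.coeff 1 +
      p.coeff 3 * r.coeff 0 ∧
    (p * r).coeff 4 = p.coeff 0 * r.coeff 4 + p.coeff 1 * r.coeff 3 + p.coeff 2 * r.coeff 2 +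
      p.coeff 3 * r.coeff 1 + p.coeff 4 * r.coeff 0 := by
  refine ⟨?_, ?_, ?_, ?_, ?_⟩ <;>
    simp [PowerSeries.coeff_mul, Finset.Nat.antidiagonal_succ, add_assoc]

/-- The coefficients of `E₄ ^ 3` up to `q⁴`. -/
theorem E4_cube_coeffs :
    ((qExpansion 1 E₄) ^ 3).coeff 0 = 1 ∧ ((qExpansion 1 E₄) ^ 3).coeff 1 = 720 ∧
    ((qExpansion 1 E₄) ^ 3).coeff 2 = 179280 ∧ ((qExpansion 1 E₄) ^ 3).coeff 3 = 16954560 ∧
    ((qExpansion 1 E₄) ^ 3).coeff 4 = 396974160 := by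
  obtain ⟨a0, a1, a2, a3, a4⟩ := E4_coeffs
  obtain ⟨b0, b1, b2, b3, b4⟩ := coeff_mul_le_four (qExpansion 1 E₄) (qExpansion 1 E₄)
  simp only [a0, a1, a2, a3, a4] at b0 b1 b2 b3 b4
  obtain ⟨c0, c1, c2, c3, c4⟩ :=
    coeff_mul_le_four (qExpansion 1 E₄ * qExpansion 1 E₄) (qExpansion 1 E₄)
  simp only [a0, a1, a2, a3, a4, b0, b1, b2, b3, b4] at c0 c1 c2 c3 c4
  have h3 : (qExpansion 1 E₄) ^ 3 = qExpansion 1 E₄ * qExpansion 1 E₄ * qExpansion 1 E₄ := by ring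
  rw [h3]
  refine ⟨?_, ?_, ?_, ?_, ?_⟩
  · rw [c0]; norm_num
  · rw [c1]; norm_num
  · rw [c2]; norm_num
  · rw [c3]; norm_num
  · rw [c4]; norm_num

/-- The coefficients of `E₆ ^ 2` up to `q⁴`. -/
theorem E6_sq_coeffs :
    ((qExpansion 1 E₆) ^ 2).coeff 0 = 1 ∧ ((qExpansion 1 E₆) ^ 2).coeff 1 = -1008 ∧
    ((qExpansion 1 E₆) ^ 2).coeff 2 = 220752 ∧ ((qExpansion 1 E₆) ^ 2).coeff 3 = 16519104 ∧
    ((qExpansion 1 E₆) ^ 2).coeff 4 = 399517776 := by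
  obtain ⟨a0, a1, a2, a3, a4⟩ := E6_coeffs
  obtain ⟨b0, b1, b2, b3, b4⟩ := coeff_mul_le_four (qExpansion 1 E₆) (qExpansion 1 E₆)
  simp only [a0, a1, a2, a3, a4] at b0 b1 b2 b3 b4
  have h2 : (qExpansion 1 E₆) ^ 2 = qExpansion 1 E₆ * qExpansion 1 E₆ := by ring
  rw [h2]
  refine ⟨?_, ?_, ?_, ?_, ?_⟩
  · rw [b0]; norm_num
  · rw [b1]; norm_num
  · rw [b2]; norm_num
  · rw [b3]; norm_num
  · rw [b4]; norm_num

/-- The modular forms `E₄³` and `E₆²` of weight `12`. -/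
noncomputable def F12 : ModularForm 𝒮ℒ 12 := ModularForm.mcast (by norm_num) (E₄.pow 3)

/-- The modular form `E₆²` of weight `12`. -/
noncomputable def G12 : ModularForm 𝒮ℒ 12 := ModularForm.mcast (by norm_num) (E₆.pow 2)

theorem qExpansion_F12 : qExpansion 1 F12 = (qExpansion 1 E₄) ^ 3 := by
  unfold F12
  rw [ModularForm.qExpansion_mcast, ModularForm.qExpansion_pow one_pos one_mem_strictPeriods_SL]

theorem qExpansion_G12 : qExpansion 1 G12 = (qExpansion 1 E₆) ^ 2 := by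
  unfold G12
  rw [ModularForm.qExpansion_mcast, ModularForm.qExpansion_pow one_pos one_mem_strictPeriods_SL]

/-- The weight-12 form `(7 E₄³ + 5 E₆²) / 12`. -/
noncomputable def T12 : ModularForm 𝒮ℒ 12 := ((7 / 12 : ℂ) • F12) + ((5 / 12 : ℂ) • G12)

theorem qExpansion_T12 :
    qExpansion 1 T12 = (7 / 12 : ℂ) • (qExpansion 1 E₄) ^ 3 + (5 / 12 : ℂ) • (qExpansion 1 E₆) ^ 2 := by
  unfold T12
  have hc : (⇑(((7 / 12 : ℂ) • F12) + ((5 / 12 : ℂ) • G12)) : ℍ → ℂ) =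
      ⇑((7 / 12 : ℂ) • F12) + ⇑((5 / 12 : ℂ) • G12) := rfl
  have hc1 : (⇑((7 / 12 : ℂ) • F12) : ℍ → ℂ) = (7 / 12 : ℂ) • ⇑F12 := rfl
  have hc2 : (⇑((5 / 12 : ℂ) • G12) : ℍ → ℂ) = (5 / 12 : ℂ) • ⇑G12 := rfl
  rw [hc, ModularForm.qExpansion_add one_pos one_mem_strictPeriods_SL, hc1, hc2,
    ModularForm.qExpansion_smul one_pos one_mem_strictPeriods_SL,
    ModularForm.qExpansion_smul one_pos one_mem_strictPeriods_SL, qExpansion_F12, qExpansion_G12]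

/-- The coefficients of `(7 E₄³ + 5 E₆²) / 12` up to `q⁴`: `1, 0, 196560, 16773120, 398034000`. -/
theorem T12_coeffs :
    (qExpansion 1 T12).coeff 0 = 1 ∧ (qExpansion 1 T12).coeff 1 = 0 ∧
    (qExpansion 1 T12).coeff 2 = 196560 ∧ (qExpansion 1 T12).coeff 3 = 16773120 ∧
    (qExpansion 1 T12).coeff 4 = 398034000 := by
  obtain ⟨a0, a1, a2, a3, a4⟩ := E4_cube_coeffs
  obtain ⟨b0, b1, b2, b3, b4⟩ := E6_sq_coeffs
  rw [qExpansion_T12]
  refine ⟨?_, ?_, ?_, ?_, ?_⟩ <;>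
    simp only [map_add, PowerSeries.coeff_smul, a0, a1, a2, a3, a4, b0, b1, b2, b3, b4, smul_eq_mul] <;>
    norm_num

/-- **Uniqueness by the Sturm bound**: a level-one form of weight `12` whose `q`-expansion starts
`1 + 0 q + ⋯` is `(7 E₄³ + 5 E₆²) / 12`. -/
theorem eq_T12_of_coeffs (f : ModularForm 𝒮ℒ 12) (h0 : (qExpansion 1 f).coeff 0 = 1)
    (h1 : (qExpansion 1 f).coeff 1 = 0) : f = T12 := by
  obtain ⟨t0, t1, -, -, -⟩ := T12_coeffs
  have hc : (⇑(f - T12) : ℍ → ℂ) = ⇑f - ⇑T12 := rfl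
  have hq : qExpansion 1 (⇑(f - T12) : ℍ → ℂ) = qExpansion 1 f - qExpansion 1 T12 := by
    rw [hc]; exact ModularForm.qExpansion_sub one_pos one_mem_strictPeriods_SL f T12
  have hzero : f - T12 = 0 := by
    apply ModularForm.sturm_bound_levelOne
    have h12 : ((12 : ℤ).toNat / 12 : ℕ) = 1 := by decide
    rw [h12]
    have : ((2 : ℕ) : ℕ∞) ≤ (qExpansion 1 (⇑(f - T12) : ℍ → ℂ)).order := by
      apply PowerSeries.nat_le_order
      intro i hi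
      rw [hq, map_sub]
      interval_cases i
      · rw [h0, t0, sub_self]
      · rw [h1, t1, sub_self]
    exact lt_of_lt_of_le (by norm_num) this
  exact sub_eq_zero.mp hzero

/-- **P7, final form**: a level-one modular form of weight `12` whose `q`-expansion starts
`1 + 0 q + ⋯` has the coefficients `196560, 16773120, 398034000` at `q², q³, q⁴`. -/
theorem coeffs_of_weight_twelve (f : ModularForm 𝒮ℒ 12) (h0 : (qExpansion 1 f).coeff 0 = 1)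
    (h1 : (qExpansion 1 f).coeff 1 = 0) :
    (qExpansion 1 f).coeff 2 = 196560 ∧ (qExpansion 1 f).coeff 3 = 16773120 ∧
    (qExpansion 1 f).coeff 4 = 398034000 := by
  rw [eq_T12_of_coeffs f h0 h1]
  obtain ⟨-, -, t2, t3, t4⟩ := T12_coeffs
  exact ⟨t2, t3, t4⟩

end Cfsg.Agent.Lib.Lead.Theta24P7
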