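import Cfsg.Agent.Lib.Helper6.Th24Defs
import Cfsg.Agent.Lib.Lead.Theta24_P7

/-!
# S1632, package PK-EIS: the coefficients of `E₄³` and `E₆²` up to `q⁴`, and the endgame
-/

set_option autoImplicit false

namespace Cfsg.Agent.Lib.Helper6.Theta24

open Matrix Complex Real ModularForm MatrixGroups
open UpperHalfPlane hiding I

/-- `E₄³` as a modular form of weight `12`. -/
noncomputable def E4cube : ModularForm 𝒮ℒ 12 := ModularForm.mcast (by decide) (E₄.pow 3)
/-- `E₆²` as a modular form of weight `12`. -/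
noncomputable def E6sq : ModularForm 𝒮ℒ 12 := ModularForm.mcast (by decide) (E₆.pow 2)

theorem E4cube_coeff : (qExpansion 1 E4cube).coeff 0 = 1 ∧ (qExpansion 1 E4cube).coeff 1 = 720 ∧
    (qExpansion 1 E4cube).coeff 2 = 179280 ∧ (qExpansion 1 E4cube).coeff 3 = 16954560 ∧
    (qExpansion 1 E4cube).coeff 4 = 396974160 := by
  have h : qExpansion 1 E4cube = (qExpansion 1 E₄) ^ 3 := by
    unfold E4cube
    rw [ModularForm.qExpansion_mcast,
      ModularForm.qExpansion_pow one_pos one_mem_strictPeriods_SL]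
  rw [h]
  exact Cfsg.Agent.Lib.Lead.Theta24P7.E4_cube_coeffs

theorem E6sq_coeff : (qExpansion 1 E6sq).coeff 0 = 1 ∧ (qExpansion 1 E6sq).coeff 1 = -1008 ∧
    (qExpansion 1 E6sq).coeff 2 = 220752 ∧ (qExpansion 1 E6sq).coeff 3 = 16519104 ∧
    (qExpansion 1 E6sq).coeff 4 = 399517776 := by
  have h : qExpansion 1 E6sq = (qExpansion 1 E₆) ^ 2 := by
    unfold E6sq
    rw [ModularForm.qExpansion_mcast,
      ModularForm.qExpansion_pow one_pos one_mem_strictPeriods_SL]
  rw [h]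
  exact Cfsg.Agent.Lib.Lead.Theta24P7.E6_sq_coeffs

namespace PkEIS

/-- The endgame: a weight-12 level-one form whose `q`-coefficients are the counts `cnt B m`,
with `cnt B 0 = 1` and `cnt B 1 = 0`, forces the three counts. -/
theorem final_of_mf {n : ℕ} (B : Matrix (Fin n) (Fin n) ℤ) (f : ModularForm 𝒮ℒ 12)
    (hc : ∀ m : ℕ, (qExpansion 1 f).coeff m = (cnt B m : ℂ)) (h0 : cnt B 0 = 1)
    (h1 : cnt B 1 = 0) :
    cnt B 2 = 196560 ∧ cnt B 3 = 16773120 ∧ cnt B 4 = 398034000 := by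
  have e0 : (qExpansion 1 f).coeff 0 = 1 := by rw [hc 0, h0]; norm_num
  have e1 : (qExpansion 1 f).coeff 1 = 0 := by rw [hc 1, h1]; norm_num
  obtain ⟨c2, c3, c4⟩ := Cfsg.Agent.Lib.Lead.Theta24P7.coeffs_of_weight_twelve f e0 e1
  rw [hc 2] at c2
  rw [hc 3] at c3
  rw [hc 4] at c4
  refine ⟨?_, ?_, ?_⟩
  · exact_mod_cast c2
  · exact_mod_cast c3
  · exact_mod_cast c4

end PkEIS

end Cfsg.Agent.Lib.Helper6.Theta24
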