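import Mathlib

set_option autoImplicit false

/-!
# Fixed points of a group as a direct factor of the fixed points of a subgroup of `p'`-index

Let the finite group `Γ` act on the finite abelian `p`-group `M`, and let `B` be a subgroup of `Γ` of index
prime to `p`.  Then `C_M(Γ)` is a direct factor of `C_M(B)` (a complement is the kernel of the trace map
`m ↦ ∏_{t ∈ Γ/B} t • m`).
-/

namespace Cfsg.Agent.Lib.Lead.TraceFactor

open scoped BigOperators

variable {M : Type*} [CommGroup M] {Γ : Type*} [Group Γ]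

/-- the subgroup of fixed points of a subgroup -/
def fixedSub (ρ : Γ →* MulAut M) (B : Subgroup Γ) : Subgroup M where
  carrier := {m | ∀ s ∈ B, ρ s m = m}
  one_mem' := fun s _ => map_one _
  mul_mem' := fun {a b} ha hb s hs => by rw [map_mul, ha s hs, hb s hs]
  inv_mem' := fun {a} ha s hs => by rw [map_inv, ha s hs]

theorem mem_fixedSub {ρ : Γ →* MulAut M} {B : Subgroup Γ} {m : M} :
    m ∈ fixedSub ρ B ↔ ∀ s ∈ B, ρ s m = m := Iff.rfl

theorem fixedSub_top_le (ρ : Γ →* MulAut M) (B : Subgroup Γ) : fixedSub ρ ⊤ ≤ fixedSub ρ B :=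
  fun _ hm s _ => hm s (Subgroup.mem_top s)

variable [Finite Γ]

/-- the trace map -/
noncomputable def trace (ρ : Γ →* MulAut M) (B : Subgroup Γ) : M →* M :=
  letI : Fintype (Γ ⧸ B) := Fintype.ofFinite _
  { toFun := fun m => ∏ q : Γ ⧸ B, ρ q.out m
    map_one' := by simp
    map_mul' := fun a b => by simp [Finset.prod_mul_distrib] }

theorem trace_apply (ρ : Γ →* MulAut M) (B : Subgroup Γ) [Fintype (Γ ⧸ B)] (m : M) :
    trace ρ B m = ∏ q : Γ ⧸ B, ρ q.out m := by
  unfold trace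
  simp only [MonoidHom.coe_mk, OneHom.coe_mk]
  congr!

/-- on fixed points of `B`, the value `ρ g m` only depends on the coset of `g` -/
theorem apply_eq_of_coset {ρ : Γ →* MulAut M} {B : Subgroup Γ} {m : M} (hm : m ∈ fixedSub ρ B)
    {g h : Γ} (hgh : (g : Γ ⧸ B) = (h : Γ ⧸ B)) : ρ g m = ρ h m := by
  rw [QuotientGroup.eq] at hgh
  have h1 := hm _ hgh
  have h2 : h = g * (g⁻¹ * h) := by group
  rw [h2, map_mul, MulAut.mul_apply, h1]

theorem trace_mem_fixedSub_top (ρ : Γ →* MulAut M) (B : Subgroup Γ) {m : M}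
    (hm : m ∈ fixedSub ρ B) : trace ρ B m ∈ fixedSub ρ ⊤ := by
  haveI : Fintype (Γ ⧸ B) := Fintype.ofFinite _
  intro g _
  rw [trace_apply, map_prod]
  have h1 : ∀ q : Γ ⧸ B, ρ g (ρ q.out m) = ρ (g • q).out m := by
    intro q
    have h2 : ρ g (ρ q.out m) = ρ (g * q.out) m := by rw [map_mul, MulAut.mul_apply]
    rw [h2]
    apply apply_eq_of_coset hm
    rw [QuotientGroup.out_eq']
    conv_rhs => rw [← QuotientGroup.out_eq' q]
    rfl
  simp_rw [h1]
  exact Equiv.prod_comp (MulAction.toPerm g : Equiv.Perm (Γ ⧸ B)) (fun q => ρ q.out m)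

theorem trace_of_mem_fixedSub_top (ρ : Γ →* MulAut M) (B : Subgroup Γ) {m : M}
    (hm : m ∈ fixedSub ρ ⊤) : trace ρ B m = m ^ B.index := by
  haveI : Fintype (Γ ⧸ B) := Fintype.ofFinite _
  rw [trace_apply]
  have : ∀ q : Γ ⧸ B, ρ q.out m = m := fun q => hm _ (Subgroup.mem_top _)
  simp_rw [this]
  rw [Finset.prod_const, Finset.card_univ, Subgroup.index, Nat.card_eq_fintype_card]

/-- **Direct factor via the trace map.** -/
theorem exists_compl_fixedSub [Finite M] (ρ : Γ →* MulAut M) (B : Subgroup Γ) {p : ℕ} [hp : Fact p.Prime]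
    (hM : IsPGroup p M) (hidx : ¬ p ∣ B.index) :
    ∃ K : Subgroup M, K ≤ fixedSub ρ B ∧ fixedSub ρ ⊤ ⊓ K = ⊥ ∧ fixedSub ρ ⊤ ⊔ K = fixedSub ρ B := by
  set F := fixedSub ρ ⊤ with hF
  have hFp : IsPGroup p ↥F := hM.to_subgroup F
  obtain ⟨n, hn⟩ := IsPGroup.iff_card.mp hFp
  have hcop : (Nat.card ↥F).Coprime B.index := by
    rw [hn]
    exact Nat.Coprime.pow_left n ((Nat.Prime.coprime_iff_not_dvd hp.out).mpr hidx)
  refine ⟨(trace ρ B).ker ⊓ fixedSub ρ B, inf_le_right, ?_, ?_⟩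
  · rw [eq_bot_iff]
    rintro m ⟨hmF, hmk, -⟩
    rw [Subgroup.mem_bot]
    have h1 : trace ρ B m = 1 := hmk
    rw [trace_of_mem_fixedSub_top ρ B hmF] at h1
    have h2 : (⟨m, hmF⟩ : ↥F) ^ B.index = 1 := Subtype.ext h1
    have h3 : (⟨m, hmF⟩ : ↥F) ^ Nat.card ↥F = 1 := pow_card_eq_one'
    have h4 := pow_gcd_eq_one.mpr ⟨h3, h2⟩
    rw [hcop, pow_one] at h4
    exact congrArg Subtype.val h4
  · apply le_antisymm
    · exact sup_le (fixedSub_top_le ρ B) inf_le_right
    · intro m hm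
      have hτ : trace ρ B m ∈ F := trace_mem_fixedSub_top ρ B hm
      obtain ⟨w, hw⟩ := (powCoprime hcop).surjective ⟨trace ρ B m, hτ⟩
      have hw' : (w : M) ^ B.index = trace ρ B m := by
        have := congrArg Subtype.val hw
        simpa using this
      have hmw : m = (w : M) * ((w : M)⁻¹ * m) := by group
      rw [hmw]
      apply Subgroup.mul_mem_sup w.2
      refine ⟨?_, Subgroup.mul_mem _ (Subgroup.inv_mem _ (fixedSub_top_le ρ B w.2)) hm⟩
      show (w : M)⁻¹ * m ∈ (trace ρ B).ker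
      rw [MonoidHom.mem_ker, map_mul, map_inv, trace_of_mem_fixedSub_top ρ B w.2, hw']
      exact inv_mul_cancel _

end Cfsg.Agent.Lib.Lead.TraceFactor
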