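import Mathlib
import Cfsg.Agent.Lib.Lead.FrobNPC3
import Cfsg.Agent.Lib.Lead.Residual
import Cfsg.Agent.Lib.Helper6.PRes

set_option autoImplicit false
open MulAction Function
open scoped commutatorElement

namespace Cfsg.Agent.Lib.Lead

universe u

section
variable {G : Type u} [Group G] [Finite G]

/-- If `ϕ` does not see `G`-conjugation of powers of `g ∈ H`, the transfer of `g` is a power. -/
theorem transfer_eq_pow_of_control (H : Subgroup G) {A : Type*} [CommGroup A] (ϕ : H →* A)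
    (g : G) (hg : g ∈ H)
    (key : ∀ (k : ℕ) (g₀ : G) (hk : g₀⁻¹ * g ^ k * g₀ ∈ H),
      ϕ ⟨g₀⁻¹ * g ^ k * g₀, hk⟩ = ϕ ⟨g ^ k, H.pow_mem hg k⟩) :
    MonoidHom.transfer ϕ g = ϕ ⟨g, hg⟩ ^ H.index := by
  classical
  letI : Fintype (Quotient (orbitRel (Subgroup.zpowers g) (G ⧸ H))) := Fintype.ofFinite _
  rw [MonoidHom.transfer_eq_prod_quotient_orbitRel_zpowers_quot]
  have hfac : ∀ q : Quotient (orbitRel (Subgroup.zpowers g) (G ⧸ H)),
      ϕ ⟨q.out.out⁻¹ * g ^ minimalPeriod (g • ·) q.out * q.out.out,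
        QuotientGroup.out_conj_pow_minimalPeriod_mem H g q.out⟩
      = ϕ ⟨g, hg⟩ ^ minimalPeriod (g • ·) q.out := by
    intro q
    rw [key, ← map_pow]
    rfl
  rw [Finset.prod_congr rfl (fun q _ => hfac q), Finset.prod_pow_eq_pow_sum,
    ← Subgroup.index_eq_sum_minimalPeriod H g]

/-- a `p`-element is a power of its `n`-th power, `n` prime to `p` -/
theorem mem_zpowers_pow_of_coprime {p : ℕ} (g : G) (hgp : ∃ k : ℕ, orderOf g = p ^ k) (n : ℕ)
    (hn : Nat.Coprime p n) : g ∈ Subgroup.zpowers (g ^ n) := by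
  obtain ⟨k, hk⟩ := hgp
  have hcop : Nat.Coprime n (orderOf g) := by
    rw [hk]; exact (Nat.Coprime.pow_left k hn).symm
  by_cases h1 : orderOf g = 1
  · rw [orderOf_eq_one_iff.mp h1]; exact Subgroup.one_mem _
  have hlt : 1 < orderOf g := by
    have := orderOf_pos g
    omega
  obtain ⟨m, hm⟩ := Nat.exists_mul_mod_eq_one_of_coprime hcop hlt
  have h2 : g = (g ^ n) ^ m := by
    rw [← pow_mul, ← pow_mod_orderOf, hm.2, pow_one]
  have h3 : (g ^ n) ^ m ∈ Subgroup.zpowers (g ^ n) :=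
    Subgroup.pow_mem _ (Subgroup.mem_zpowers _) m
  rwa [← h2] at h3

theorem not_mem_commutator_of_control {p : ℕ} [Fact p.Prime] (H K : Subgroup G) (hHK : K ≤ H)
    (hKn : (K.subgroupOf H).Normal) (hab : ∀ x ∈ H, ∀ y ∈ H, x * y * x⁻¹ * y⁻¹ ∈ K)
    (hidx : Nat.Coprime p H.index) (g : G) (hgH : g ∈ H) (hgK : g ∉ K)
    (hgp : ∃ k : ℕ, orderOf g = p ^ k)
    (hctrl : ∀ (m : ℤ) (a : G), a * g ^ m * a⁻¹ ∈ H → (a * g ^ m * a⁻¹) * (g ^ m)⁻¹ ∈ K) :
    g ∉ commutator G := by
  classical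
  haveI := hKn
  letI : CommGroup (H ⧸ K.subgroupOf H) :=
    { (inferInstance : Group (H ⧸ K.subgroupOf H)) with
      mul_comm := by
        intro a b
        obtain ⟨x, rfl⟩ := QuotientGroup.mk_surjective a
        obtain ⟨y, rfl⟩ := QuotientGroup.mk_surjective b
        rw [← QuotientGroup.mk_mul, ← QuotientGroup.mk_mul, QuotientGroup.eq]
        rw [Subgroup.mem_subgroupOf]
        have h1 := hab (y : G)⁻¹ (H.inv_mem y.2) (x : G)⁻¹ (H.inv_mem x.2)
        have h2 : (((x * y)⁻¹ * (y * x) : H) : G) = (y : G)⁻¹ * (x : G)⁻¹ * (y : G)⁻¹⁻¹ * (x : G)⁻¹⁻¹ := by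
          simp only [Subgroup.coe_mul, Subgroup.coe_inv]; group
        rw [h2]; exact h1 }
  set ϕ : H →* H ⧸ K.subgroupOf H := QuotientGroup.mk' (K.subgroupOf H) with hϕ
  have key : ∀ (k : ℕ) (g₀ : G) (hk : g₀⁻¹ * g ^ k * g₀ ∈ H),
      ϕ ⟨g₀⁻¹ * g ^ k * g₀, hk⟩ = ϕ ⟨g ^ k, H.pow_mem hgH k⟩ := by
    intro k g₀ hk
    have h1 := hctrl (k : ℤ) g₀⁻¹ (by rw [zpow_natCast, inv_inv]; exact hk)
    rw [zpow_natCast, inv_inv] at h1
    rw [hϕ, QuotientGroup.mk'_apply, QuotientGroup.mk'_apply, QuotientGroup.eq_iff_div_mem,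
      Subgroup.mem_subgroupOf]
    have h2 : (((⟨g₀⁻¹ * g ^ k * g₀, hk⟩ : H) / ⟨g ^ k, H.pow_mem hgH k⟩ : H) : G) =
        (g₀⁻¹ * g ^ k * g₀) * (g ^ k)⁻¹ := by
      rw [div_eq_mul_inv]; rfl
    rw [h2]
    exact h1
  have hV := transfer_eq_pow_of_control H ϕ g hgH key
  intro hgc
  have h1 : MonoidHom.transfer ϕ g = 1 := by
    have := Abelianization.commutator_subset_ker (MonoidHom.transfer ϕ) hgc
    exact this
  rw [h1] at hV
  have h2 : g ^ H.index ∈ K := by
    have h3 : ϕ (⟨g, hgH⟩ ^ H.index) = 1 := by rw [map_pow]; exact hV.symm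
    rw [hϕ, QuotientGroup.mk'_apply, QuotientGroup.eq_one_iff, Subgroup.mem_subgroupOf] at h3
    exact h3
  apply hgK
  have h4 := mem_zpowers_pow_of_coprime g hgp H.index hidx
  exact (Subgroup.zpowers_le.mpr h2) h4

theorem control_transfer_of_control_fusion {p : ℕ} [hp : Fact p.Prime] (H : Subgroup G)
    (hidx : Nat.Coprime p H.index)
    (hfus : ∀ g ∈ H, (∃ k : ℕ, orderOf g = p ^ k) → ∀ a : G, a * g * a⁻¹ ∈ H →
      ∃ h ∈ H, h * g * h⁻¹ = a * g * a⁻¹) :
    (Cfsg.pResidual p G ⊔ commutator G) ⊓ H =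
      (Cfsg.pResidual p ↥H ⊔ commutator ↥H).map H.subtype := by
  classical
  set K₀ : Subgroup H := Cfsg.pResidual p ↥H ⊔ commutator ↥H with hK₀
  haveI hRn : (Cfsg.pResidual p ↥H).Normal := pResidual_normal p
  haveI hK₀n : K₀.Normal := by rw [hK₀]; infer_instance
  apply le_antisymm
  · -- the hard inclusion
    letI : CommGroup (H ⧸ K₀) :=
      { (inferInstance : Group (H ⧸ K₀)) with
        mul_comm := by
          intro a b
          obtain ⟨x, rfl⟩ := QuotientGroup.mk_surjective a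
          obtain ⟨y, rfl⟩ := QuotientGroup.mk_surjective b
          rw [← QuotientGroup.mk_mul, ← QuotientGroup.mk_mul, QuotientGroup.eq]
          apply Subgroup.mem_sup_right
          have h2 : (x * y)⁻¹ * (y * x) = ⁅y⁻¹, x⁻¹⁆ := by
            rw [commutatorElement_def]; group
          rw [h2, commutator_def]
          exact Subgroup.commutator_mem_commutator (Subgroup.mem_top _) (Subgroup.mem_top _) }
    set ϕ : H →* H ⧸ K₀ := QuotientGroup.mk' K₀ with hϕ
    set V : G →* H ⧸ K₀ := MonoidHom.transfer ϕ with hV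
    -- H/K₀ is a p-group
    have hpq : IsPGroup p (H ⧸ K₀) := by
      have h1 := Cfsg.Agent.Lib.Helper6.isPGroup_quotient_pResidual (G := H) p
      exact IsPGroup.of_surjective h1 (QuotientGroup.map _ _ (MonoidHom.id H) (by
        intro x hx
        exact Subgroup.mem_sup_left hx)) (by
        intro x
        obtain ⟨g, rfl⟩ := QuotientGroup.mk_surjective x
        exact ⟨QuotientGroup.mk g, rfl⟩)
    -- V kills p'-elements
    have hVp' : ∀ y : G, Nat.Coprime (orderOf y) p → V y = 1 := by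
      intro y hy
      obtain ⟨k, hk⟩ := hpq (V y)
      have h1 : orderOf (V y) ∣ p ^ k := orderOf_dvd_of_pow_eq_one hk
      have h2 : orderOf (V y) ∣ orderOf y := orderOf_map_dvd V y
      have h3 : orderOf (V y) = 1 :=
        Nat.eq_one_of_dvd_coprimes (Nat.Coprime.pow_right k hy) h2 h1
      exact orderOf_eq_one_iff.mp h3
    have hVker : Cfsg.pResidual p G ⊔ commutator G ≤ V.ker := by
      apply sup_le
      · unfold Cfsg.pResidual
        rw [Subgroup.closure_le]
        intro y hy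
        exact hVp' y hy
      · exact Abelianization.commutator_subset_ker V
    rintro x ⟨hx1, hx2⟩
    have hVx : V x = 1 := hVker hx1
    obtain ⟨u, v, huv, hu, hv, ⟨k, huk⟩, hcopv⟩ := exists_ppart_decomp' p (⟨x, hx2⟩ : H)
    -- v ∈ K₀
    have hvK : v ∈ K₀ := Subgroup.mem_sup_left (mem_pResidual_of_coprime hcopv)
    -- u ∈ K₀ via transfer
    have hu_ord : ∃ j : ℕ, orderOf (u : G) = p ^ j := by
      have h1 : orderOf (u : G) ∣ p ^ k := by
        apply orderOf_dvd_of_pow_eq_one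
        have := congrArg Subtype.val huk
        simpa using this
      obtain ⟨j, -, hj⟩ := (Nat.dvd_prime_pow hp.out).mp h1
      exact ⟨j, hj⟩
    have key : ∀ (n : ℕ) (g₀ : G) (hk : g₀⁻¹ * (u : G) ^ n * g₀ ∈ H),
        ϕ ⟨g₀⁻¹ * (u : G) ^ n * g₀, hk⟩ = ϕ ⟨(u : G) ^ n, H.pow_mem u.2 n⟩ := by
      intro n g₀ hk
      have hpn : ∃ i : ℕ, orderOf ((u : G) ^ n) = p ^ i := by
        obtain ⟨j, hj⟩ := hu_ord
        have h1 : orderOf ((u : G) ^ n) ∣ p ^ j := hj ▸ orderOf_pow_dvd n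
        obtain ⟨i, -, hi⟩ := (Nat.dvd_prime_pow hp.out).mp h1
        exact ⟨i, hi⟩
      obtain ⟨h, hh, hconj⟩ := hfus ((u : G) ^ n) (H.pow_mem u.2 n) hpn g₀⁻¹ (by
        rw [inv_inv]; exact hk)
      rw [inv_inv] at hconj
      have h1 : (⟨g₀⁻¹ * (u : G) ^ n * g₀, hk⟩ : H) =
          ⟨h, hh⟩ * ⟨(u : G) ^ n, H.pow_mem u.2 n⟩ * (⟨h, hh⟩ : H)⁻¹ := by
        apply Subtype.ext
        simp only [Subgroup.coe_mul, Subgroup.coe_inv]
        exact hconj.symm
      rw [h1, map_mul, map_mul, map_inv, mul_comm (ϕ ⟨h, hh⟩), mul_assoc, mul_inv_cancel,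
        mul_one]
    have hVu := transfer_eq_pow_of_control H ϕ (u : G) u.2 key
    have hVv : V (v : G) = 1 := by
      apply hVp'
      rw [Subgroup.orderOf_coe]; exact hcopv
    have hxuv : x = (u : G) * (v : G) := by
      have := congrArg Subtype.val huv
      simpa using this
    have hVu1 : V (u : G) = 1 := by
      have : V x = V (u : G) * V (v : G) := by rw [hxuv, map_mul]
      rw [hVx, hVv, mul_one] at this
      exact this.symm
    have hϕu : ϕ u = 1 := by
      have h1 : ϕ u ^ H.index = 1 := by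
        have : (⟨(u : G), u.2⟩ : H) = u := rfl
        rw [← this, ← hVu]; exact hVu1
      have h2 : ϕ u ^ p ^ k = 1 := by rw [← map_pow, huk, map_one]
      have h3 : orderOf (ϕ u) ∣ H.index := orderOf_dvd_of_pow_eq_one h1
      have h4 : orderOf (ϕ u) ∣ p ^ k := orderOf_dvd_of_pow_eq_one h2
      have h5 : orderOf (ϕ u) = 1 :=
        Nat.eq_one_of_dvd_coprimes (Nat.Coprime.pow_left k hidx) h4 h3
      exact orderOf_eq_one_iff.mp h5
    have huK : u ∈ K₀ := by
      rw [hϕ, QuotientGroup.mk'_apply, QuotientGroup.eq_one_iff] at hϕu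
      exact hϕu
    refine ⟨⟨x, hx2⟩, ?_, rfl⟩
    rw [huv]
    exact K₀.mul_mem huK hvK
  · -- the easy inclusion
    apply le_inf
    · rw [hK₀, Subgroup.map_sup]
      apply sup_le_sup
      · unfold Cfsg.pResidual
        rw [MonoidHom.map_closure]
        apply Subgroup.closure_mono
        rintro _ ⟨y, hy, rfl⟩
        show Nat.Coprime (orderOf (y : G)) p
        rw [Subgroup.orderOf_coe]; exact hy
      · rw [commutator_def, commutator_def, Subgroup.map_commutator]
        exact Subgroup.commutator_mono le_top le_top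
    · exact Subgroup.map_subtype_le _

end

end Cfsg.Agent.Lib.Lead
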