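import Mathlib

set_option autoImplicit false

/-!
# A counting lemma for coprime actions on abelian groups

`Q` acts on a finite abelian `p'`-group `V` through `ρ : Q →* MulAut V`.  Given a central
subgroup `Z` of order `p` all of whose non-identity elements act fixed-point-freely, and an
element `w` of order dividing `p`, we study the operators `T u v = ∏ i < p, ρ (u ^ i) v` for
`u ∈ w Z`.
-/

namespace Cfsg.Agent.Lib.Lead.TwoGen

section
variable {V : Type*} [CommGroup V] {Q : Type*} [Group Q] (ρ : Q →* MulAut V) (p : ℕ)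

/-- the fixed points of `g` -/
def fix (g : Q) : Subgroup V where
  carrier := {v | ρ g v = v}
  one_mem' := map_one _
  mul_mem' := by
    intro a b ha hb
    simp only [Set.mem_setOf_eq] at *
    rw [map_mul, ha, hb]
  inv_mem' := by
    intro a ha
    simp only [Set.mem_setOf_eq] at *
    rw [map_inv, ha]

theorem mem_fix {g : Q} {v : V} : v ∈ fix ρ g ↔ ρ g v = v := Iff.rfl

/-- the norm-like operator -/
def T (u : Q) (v : V) : V := ∏ i ∈ Finset.range p, ρ (u ^ i) v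

theorem T_mul (u : Q) (v v' : V) : T ρ p u (v * v') = T ρ p u v * T ρ p u v' := by
  unfold T
  rw [← Finset.prod_mul_distrib]
  exact Finset.prod_congr rfl (fun i _ => map_mul _ _ _)

theorem T_one (u : Q) : T ρ p u 1 = 1 := by
  unfold T
  exact Finset.prod_eq_one (fun i _ => map_one _)

/-- `T` as a homomorphism -/
def Thom (u : Q) : V →* V where
  toFun := T ρ p u
  map_one' := T_one ρ p u
  map_mul' := T_mul ρ p u

theorem Thom_apply (u : Q) (v : V) : Thom ρ p u v = T ρ p u v := rfl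

theorem T_inv (u : Q) (v : V) : T ρ p u v⁻¹ = (T ρ p u v)⁻¹ :=
  map_inv (Thom ρ p u) v

theorem T_fixed {u : Q} (hu : u ^ p = 1) (v : V) : ρ u (T ρ p u v) = T ρ p u v := by
  unfold T
  rw [map_prod]
  have h1 : ∀ i, ρ u (ρ (u ^ i) v) = ρ (u ^ (i + 1)) v := by
    intro i
    rw [pow_succ', map_mul]; rfl
  simp only [h1]
  have h2 := Finset.prod_range_succ' (fun i => ρ (u ^ i) v) p
  have h3 := Finset.prod_range_succ (fun i => ρ (u ^ i) v) p
  rw [h2] at h3
  simp only [hu, pow_zero] at h3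
  exact mul_right_cancel h3

theorem T_conj (g u : Q) (v : V) : ρ g (T ρ p u v) = T ρ p (g * u * g⁻¹) (ρ g v) := by
  unfold T
  rw [map_prod]
  refine Finset.prod_congr rfl (fun i _ => ?_)
  rw [conj_pow, map_mul, map_mul, map_inv]
  simp [MulAut.mul_apply]

theorem pow_fixed {u : Q} {v : V} (h : ρ u v = v) (i : ℕ) : ρ (u ^ i) v = v := by
  induction i with
  | zero => simp
  | succ i ih => rw [pow_succ, map_mul, MulAut.mul_apply, h, ih]

theorem T_of_fixed {u : Q} {v : V} (h : ρ u v = v) : T ρ p u v = v ^ p := by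
  unfold T
  simp only [pow_fixed ρ h, Finset.prod_const, Finset.card_range]

theorem eq_one_of_pow_eq_one [Finite V] (hcop : (Nat.card V).Coprime p) {v : V}
    (hv : v ^ p = 1) : v = 1 := by
  have h1 : orderOf v ∣ p := orderOf_dvd_of_pow_eq_one hv
  have h2 : orderOf v ∣ Nat.card V := orderOf_dvd_natCard v
  have h3 : orderOf v ∣ Nat.gcd (Nat.card V) p := Nat.dvd_gcd h2 h1
  rw [hcop.gcd_eq_one, Nat.dvd_one] at h3
  exact orderOf_eq_one_iff.mp h3

/-- conjugate elements have equally many fixed points -/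
theorem card_fix_conj (g u : Q) :
    Nat.card (fix ρ (g * u * g⁻¹)) = Nat.card (fix ρ u) := by
  symm
  apply Nat.card_congr
  refine Equiv.subtypeEquiv (ρ g).toEquiv ?_
  intro v
  change ρ u v = v ↔ ρ (g * u * g⁻¹) (ρ g v) = ρ g v
  rw [map_mul, map_mul, map_inv]
  simp [MulAut.mul_apply]

end

section core
variable {V : Type*} [CommGroup V] [Finite V] {Q : Type*} [Group Q] [Finite Q]
  (ρ : Q →* MulAut V) (p : ℕ) [hp : Fact p.Prime]

/-- the standing hypotheses -/
structure Core (Z : Subgroup Q) (w : Q) : Prop where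
  central : Z ≤ Subgroup.center Q
  card : Nat.card Z = p
  fixfree : ∀ s ∈ Z, s ≠ 1 → ∀ v : V, ρ s v = v → v = 1
  wp : w ^ p = 1
  cop : (Nat.card V).Coprime p

variable {ρ p} {Z : Subgroup Q} {w : Q}

theorem Core.pow_eq_one (h : Core ρ p Z w) {s : Q} (hs : s ∈ Z) : s ^ p = 1 := by
  have := pow_card_eq_one' (G := Z) (x := ⟨s, hs⟩)
  rw [h.card] at this
  exact congrArg Subtype.val this

theorem Core.T_central (h : Core ρ p Z w) {s : Q} (hs : s ∈ Z) (hs1 : s ≠ 1) (v : V) :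
    T ρ p s v = 1 :=
  h.fixfree s hs hs1 _ (T_fixed ρ p (h.pow_eq_one hs) v)

theorem Core.comm (h : Core ρ p Z w) {s : Q} (hs : s ∈ Z) (g : Q) : g * s = s * g :=
  Subgroup.mem_center_iff.mp (h.central hs) g

theorem Core.T_other (h : Core ρ p Z w) {s s' : Q} (hs : s ∈ Z) (hs' : s' ∈ Z) (hne : s ≠ s')
    {v : V} (hv : ρ (w * s') v = v) : T ρ p (w * s) v = 1 := by
  set t : Q := s'⁻¹ * s with ht
  have htZ : t ∈ Z := Z.mul_mem (Z.inv_mem hs') hs
  have ht1 : t ≠ 1 := by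
    intro h1
    apply hne
    have : s' * t = s' := by rw [h1, mul_one]
    rw [ht, mul_inv_cancel_left] at this
    exact this
  have hws : w * s = t * (w * s') := by
    rw [← h.comm htZ (w * s'), ht]; group
  have hcomm : Commute t (w * s') := (h.comm htZ (w * s')).symm
  have key : ∀ i : ℕ, ρ ((w * s) ^ i) v = ρ (t ^ i) v := by
    intro i
    rw [hws, hcomm.mul_pow, map_mul, MulAut.mul_apply, pow_fixed ρ hv]
  have : T ρ p (w * s) v = T ρ p t v := by
    unfold T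
    exact Finset.prod_congr rfl (fun i _ => key i)
  rw [this]
  exact h.T_central htZ ht1 v

theorem Core.exists_ne_one (h : Core ρ p Z w) : ∃ s ∈ Z, s ≠ 1 := by
  have h1 : 1 < Nat.card Z := by rw [h.card]; exact hp.out.one_lt
  haveI : Nontrivial Z := Finite.one_lt_card_iff_nontrivial.mp h1
  obtain ⟨⟨s, hs⟩, hs1⟩ := exists_ne (1 : Z)
  exact ⟨s, hs, fun h' => hs1 (Subtype.ext h')⟩

/-- the averaging over `Z` is trivial -/
theorem Core.avg_eq_one (h : Core ρ p Z w) [Fintype Z] (v : V) :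
    ∏ s : Z, ρ (s : Q) v = 1 := by
  obtain ⟨s₀, hs₀, hs₀1⟩ := h.exists_ne_one
  apply h.fixfree s₀ hs₀ hs₀1
  rw [map_prod]
  have : ∀ s : Z, ρ s₀ (ρ (s : Q) v) = ρ (((⟨s₀, hs₀⟩ : Z) * s : Z) : Q) v := by
    intro s
    rw [Subgroup.coe_mul, map_mul]; rfl
  simp only [this]
  exact Fintype.prod_equiv (Equiv.mulLeft (⟨s₀, hs₀⟩ : Z)) _ _ (fun s => rfl)

/-- the key identity -/
theorem Core.prod_T (h : Core ρ p Z w) [Fintype Z] (v : V) :
    ∏ s : Z, T ρ p (w * (s : Q)) v = v ^ p := by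
  unfold T
  rw [Finset.prod_comm]
  have hA : ∀ i ∈ Finset.range p, ∏ s : Z, ρ ((w * (s : Q)) ^ i) v
      = ρ (w ^ i) (∏ s : Z, ρ ((s : Q) ^ i) v) := by
    intro i _
    rw [map_prod]
    refine Finset.prod_congr rfl (fun s _ => ?_)
    have hc : Commute w (s : Q) := h.comm s.2 w
    rw [hc.mul_pow, map_mul, MulAut.mul_apply]
  rw [Finset.prod_congr rfl hA]
  have hpos : 0 ∈ Finset.range p := Finset.mem_range.mpr hp.out.pos
  rw [Finset.prod_eq_single_of_mem 0 hpos]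
  · simp only [pow_zero, map_one, MulAut.one_apply, Finset.prod_const, Finset.card_univ]
    rw [← Nat.card_eq_fintype_card, h.card]
  · intro i hi hi0
    have hip : i < p := Finset.mem_range.mp hi
    have hcop : (Nat.card Z).Coprime i := by
      rw [h.card]
      exact Nat.coprime_of_lt_prime hi0 hip hp.out
    have h1 : ∏ s : Z, ρ ((s : Q) ^ i) v = ∏ s : Z, ρ (s : Q) v :=
      Fintype.prod_equiv (powCoprime hcop) (fun s => ρ ((s : Q) ^ i) v) (fun s => ρ (s : Q) v)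
        (fun s => by simp [powCoprime])
    rw [h1, h.avg_eq_one, map_one]


theorem Core.ws_pow (h : Core ρ p Z w) {s : Q} (hs : s ∈ Z) : (w * s) ^ p = 1 := by
  have hc : Commute w s := h.comm hs w
  rw [hc.mul_pow, h.wp, h.pow_eq_one hs, one_mul]

/-- a family of fixed vectors with trivial product is trivial -/
theorem Core.eq_one_of_prod_eq_one (h : Core ρ p Z w) [Fintype Z] (x : Z → V)
    (hx : ∀ s : Z, ρ (w * (s : Q)) (x s) = x s) (hprod : ∏ s : Z, x s = 1) (s₀ : Z) :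
    x s₀ = 1 := by
  classical
  have h1 : T ρ p (w * (s₀ : Q)) (∏ s : Z, x s) = ∏ s : Z, T ρ p (w * (s₀ : Q)) (x s) :=
    map_prod (Thom ρ p (w * (s₀ : Q))) x Finset.univ
  rw [hprod, T_one] at h1
  rw [Finset.prod_eq_single_of_mem s₀ (Finset.mem_univ _)] at h1
  · rw [T_of_fixed ρ p (hx s₀)] at h1
    exact eq_one_of_pow_eq_one p h.cop h1.symm
  · intro s _ hs
    exact h.T_other s₀.2 s.2 (fun e => hs (Subtype.ext e.symm)) (hx s)

theorem Core.card_pow_le (h : Core ρ p Z w) (m : ℕ)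
    (hm : ∀ s ∈ Z, Nat.card (fix ρ (w * s)) = m) : m ^ p ≤ Nat.card V := by
  classical
  have : Fintype Z := Fintype.ofFinite Z
  let Ψ : (∀ s : Z, fix ρ (w * (s : Q))) → V := fun x => ∏ s : Z, (x s : V)
  have hΨ : Function.Injective Ψ := by
    intro x y hxy
    funext s₀
    have key := h.eq_one_of_prod_eq_one (fun s => (x s : V) * (y s : V)⁻¹) ?_ ?_ s₀
    · apply Subtype.ext; exact mul_inv_eq_one.mp key
    · intro s
      exact (fix ρ (w * (s : Q))).mul_mem (x s).2 ((fix ρ _).inv_mem (y s).2)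
    · rw [Finset.prod_mul_distrib, Finset.prod_inv_distrib]
      exact mul_inv_eq_one.mpr hxy
  have h1 := Nat.card_le_card_of_injective Ψ hΨ
  rw [Nat.card_pi] at h1
  have h2 : ∏ s : Z, Nat.card (fix ρ (w * (s : Q))) = m ^ p := by
    rw [Finset.prod_congr rfl (fun (s : Z) _ => hm (s : Q) s.2), Finset.prod_const, Finset.card_univ,
      ← Nat.card_eq_fintype_card, h.card]
  rw [h2] at h1; exact h1

theorem Core.eq_one_of_fix_trivial (h : Core ρ p Z w)
    (h0 : ∀ s ∈ Z, ∀ v : V, ρ (w * s) v = v → v = 1) (v : V) : v = 1 := by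
  classical
  have : Fintype Z := Fintype.ofFinite Z
  have h1 := h.prod_T v
  have h2 : ∀ s : Z, T ρ p (w * (s : Q)) v = 1 := by
    intro s
    apply h0 s s.2
    exact T_fixed ρ p (h.ws_pow s.2) v
  rw [Finset.prod_congr rfl (fun s _ => h2 s), Finset.prod_const_one] at h1
  exact eq_one_of_pow_eq_one p h.cop h1.symm

theorem Core.conj_pow_w (h : Core ρ p Z w) {g : Q} (hg : g * w * g⁻¹ * w⁻¹ ∈ Z) (n : ℕ) :
    g ^ n * w * (g ^ n)⁻¹ = (g * w * g⁻¹ * w⁻¹) ^ n * w := by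
  set t := g * w * g⁻¹ * w⁻¹ with ht
  induction n with
  | zero => simp
  | succ n ih =>
    have hgw : g * w * g⁻¹ = t * w := by rw [ht]; group
    have h1 : g ^ (n + 1) * w * (g ^ (n + 1))⁻¹ = g * (g ^ n * w * (g ^ n)⁻¹) * g⁻¹ := by
      rw [pow_succ']; group
    rw [h1, ih]
    have hc : g * t ^ n = t ^ n * g := h.comm (Z.pow_mem hg n) g
    calc g * (t ^ n * w) * g⁻¹ = (g * t ^ n) * w * g⁻¹ := by group
      _ = t ^ n * g * w * g⁻¹ := by rw [hc]
      _ = t ^ n * (g * w * g⁻¹) := by group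
      _ = t ^ n * (t * w) := by rw [hgw]
      _ = t ^ (n + 1) * w := by rw [pow_succ]; group

theorem Core.exists_pow_eq (h : Core ρ p Z w) {t : Q} (ht : t ∈ Z) (ht1 : t ≠ 1) {s : Q}
    (hs : s ∈ Z) : ∃ n : ℕ, t ^ n = s := by
  have hord : orderOf t = p := orderOf_eq_prime (h.pow_eq_one ht) ht1
  have hle : Subgroup.zpowers t ≤ Z := Subgroup.zpowers_le.mpr ht
  have heq : Subgroup.zpowers t = Z := by
    apply Subgroup.eq_of_le_of_card_ge hle
    rw [Nat.card_zpowers, hord, h.card]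
  have hs' : s ∈ Subgroup.zpowers t := heq ▸ hs
  have := (isOfFinOrder_of_finite t).mem_powers_iff_mem_zpowers.mpr hs'
  exact (Submonoid.mem_powers_iff _ _).mp this

theorem Core.ws_eq_conj (h : Core ρ p Z w) {g : Q} (hg : g * w * g⁻¹ * w⁻¹ ∈ Z)
    (hg1 : g * w * g⁻¹ * w⁻¹ ≠ 1) {s : Q} (hs : s ∈ Z) :
    ∃ n : ℕ, w * s = g ^ n * w * (g ^ n)⁻¹ := by
  obtain ⟨n, hn⟩ := h.exists_pow_eq hg hg1 hs
  exact ⟨n, by rw [h.conj_pow_w hg n, hn, h.comm hs w]⟩

theorem Core.card_fix_ws (h : Core ρ p Z w) {g : Q} (hg : g * w * g⁻¹ * w⁻¹ ∈ Z)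
    (hg1 : g * w * g⁻¹ * w⁻¹ ≠ 1) {s : Q} (hs : s ∈ Z) :
    Nat.card (fix ρ (w * s)) = Nat.card (fix ρ w) := by
  obtain ⟨n, hn⟩ := h.ws_eq_conj hg hg1 hs
  rw [hn, card_fix_conj]

theorem Core.card_fix_le (h : Core ρ p Z w) {g : Q} (hg : g * w * g⁻¹ * w⁻¹ ∈ Z)
    (hg1 : g * w * g⁻¹ * w⁻¹ ≠ 1) : Nat.card (fix ρ g) ≤ Nat.card (fix ρ w) := by
  classical
  have : Fintype Z := Fintype.ofFinite Z
  let f : fix ρ g → fix ρ w := fun v => ⟨T ρ p w (v : V), T_fixed ρ p h.wp _⟩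
  apply Nat.card_le_card_of_injective f
  intro x y hxy
  have h1 : T ρ p w (x : V) = T ρ p w (y : V) := congrArg Subtype.val hxy
  set e : V := (x : V) * (y : V)⁻¹ with he
  have heg : ρ g e = e := (fix ρ g).mul_mem x.2 ((fix ρ g).inv_mem y.2)
  have hTe : T ρ p w e = 1 := by rw [he, T_mul, T_inv, h1, mul_inv_cancel]
  have hall : ∀ s : Z, T ρ p (w * (s : Q)) e = 1 := by
    intro s
    obtain ⟨n, hn⟩ := h.ws_eq_conj hg hg1 s.2
    have := T_conj ρ p (g ^ n) w e
    rw [hTe, map_one, pow_fixed ρ heg n, ← hn] at this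
    exact this.symm
  have h2 := h.prod_T e
  rw [Finset.prod_congr rfl (fun s _ => hall s), Finset.prod_const_one] at h2
  have := eq_one_of_pow_eq_one p h.cop h2.symm
  apply Subtype.ext
  exact mul_inv_eq_one.mp this

/-- the main counting estimate -/
theorem Core.card_lt (h : Core ρ p Z w) [Nontrivial V] (hp3 : 3 ≤ p) {c d : Q}
    (hc : c * w * c⁻¹ * w⁻¹ ∈ Z) (hc1 : c * w * c⁻¹ * w⁻¹ ≠ 1)
    (hd : d * w * d⁻¹ * w⁻¹ ∈ Z) (hd1 : d * w * d⁻¹ * w⁻¹ ≠ 1) :
    Nat.card (fix ρ c) * Nat.card (fix ρ d) < Nat.card V := by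
  set m := Nat.card (fix ρ w) with hm
  have hmpos : 0 < m := Nat.card_pos
  have hm2 : 2 ≤ m := by
    by_contra hlt
    have hm1 : m = 1 := by omega
    obtain ⟨v, hv⟩ := exists_ne (1 : V)
    apply hv
    apply h.eq_one_of_fix_trivial
    intro s hs v hv
    have hcard : Nat.card (fix ρ (w * s)) = 1 := by rw [h.card_fix_ws hc hc1 hs]; exact hm1
    have := (Nat.card_eq_one_iff_unique.mp hcard).1
    have : (⟨v, hv⟩ : fix ρ (w * s)) = 1 := Subsingleton.elim _ _
    exact congrArg Subtype.val this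
  have h1 : m ^ p ≤ Nat.card V := h.card_pow_le m (fun s hs => h.card_fix_ws hc hc1 hs)
  have h2 : m ^ 3 ≤ m ^ p := Nat.pow_le_pow_right hmpos hp3
  have h3 := h.card_fix_le hc hc1
  have h4 := h.card_fix_le hd hd1
  calc Nat.card (fix ρ c) * Nat.card (fix ρ d) ≤ m * m := Nat.mul_le_mul h3 h4
    _ < m ^ 3 := by
      have : m ^ 3 = m * m * m := by ring
      rw [this]
      nlinarith [Nat.mul_pos hmpos hmpos]
    _ ≤ Nat.card V := h2.trans h1

end core

end Cfsg.Agent.Lib.Lead.TwoGen
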