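import Mathlib
import Cfsg.Agent.Lib.Lead.TwoGen1
import Cfsg.Agent.Lib.Lead.NormalRankTwo
import Cfsg.Agent.Lib.Lead.CoprimeAction3
import Cfsg.Agent.Lib.Lead.Nilpotent

set_option autoImplicit false

/-!
# Faithful irreducible coprime modules of `p`-groups generated by two sets (`p ≥ 3`)
-/

namespace Cfsg.Agent.Lib.Lead.TwoGen

open scoped commutatorElement

section
variable {V : Type*} [CommGroup V] [Finite V] {Q : Type*} [Group Q] [Finite Q]
  (ρ : Q →* MulAut V) (p : ℕ) [hp : Fact p.Prime]

/-- central non-identity elements act fixed-point-freely on a faithful irreducible module -/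
theorem central_fixfree (hinj : Function.Injective ρ)
    (hirr : ∀ U : Subgroup V, (∀ g : Q, ∀ v ∈ U, ρ g v ∈ U) → U = ⊥ ∨ U = ⊤)
    {z : Q} (hz : z ∈ Subgroup.center Q) (hz1 : z ≠ 1) (v : V) (hv : ρ z v = v) : v = 1 := by
  have hinv : ∀ g : Q, ∀ u ∈ fix ρ z, ρ g u ∈ fix ρ z := by
    intro g u hu
    change ρ z (ρ g u) = ρ g u
    have h1 : ρ z (ρ g u) = ρ (z * g) u := by rw [map_mul]; rfl
    have h2 : ρ g (ρ z u) = ρ (g * z) u := by rw [map_mul]; rfl
    rw [h1, ← Subgroup.mem_center_iff.mp hz g, ← h2]
    exact congrArg _ hu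
  rcases hirr (fix ρ z) hinv with h | h
  · have : v ∈ fix ρ z := hv
    rw [h, Subgroup.mem_bot] at this
    exact this
  · exfalso
    apply hz1
    apply hinj
    rw [map_one]
    ext u
    have : u ∈ fix ρ z := by rw [h]; exact Subgroup.mem_top u
    exact this

theorem exists_not_mem_of_closure_eq_top {C : Set Q} (hC : Subgroup.closure C = ⊤)
    (M : Subgroup Q) (hM : M ≠ ⊤) : ∃ c ∈ C, c ∉ M := by
  by_contra hall
  push Not at hall
  apply hM
  rw [eq_top_iff, ← hC, Subgroup.closure_le]
  exact hall

/-- **Main module lemma.** -/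
theorem exists_small_fix (hp3 : 3 ≤ p) (hQ : IsPGroup p Q) [Nontrivial Q]
    (hinj : Function.Injective ρ)
    (hirr : ∀ U : Subgroup V, (∀ g : Q, ∀ v ∈ U, ρ g v ∈ U) → U = ⊥ ∨ U = ⊤)
    (hcop : (Nat.card V).Coprime p) (C D : Set Q) (hC : Subgroup.closure C = ⊤)
    (hD : Subgroup.closure D = ⊤) :
    ∃ c ∈ C, ∃ d ∈ D, Nat.card (fix ρ c) * Nat.card (fix ρ d) < Nat.card V := by
  classical
  have hVnt : Nontrivial V := by
    by_contra hnt
    rw [not_nontrivial_iff_subsingleton] at hnt
    obtain ⟨a, b, hab⟩ := exists_pair_ne Q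
    apply hab
    apply hinj
    ext v
    exact Subsingleton.elim _ _
  have hfix1 : ∀ z : Q, z ∈ Subgroup.center Q → z ≠ 1 → Nat.card (fix ρ z) = 1 := by
    intro z hz hz1
    rw [Nat.card_eq_one_iff_unique]
    refine ⟨⟨fun a b => ?_⟩, ⟨1⟩⟩
    apply Subtype.ext
    rw [central_fixfree ρ hinj hirr hz hz1 a a.2, central_fixfree ρ hinj hirr hz hz1 b b.2]
  by_cases hab : ∀ a b : Q, a * b = b * a
  · -- abelian case
    have hcen : ∀ z : Q, z ∈ Subgroup.center Q := by
      intro z
      rw [Subgroup.mem_center_iff]
      intro g; exact hab g z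
    have hbot : (⊥ : Subgroup Q) ≠ ⊤ := bot_ne_top
    obtain ⟨c, hcC, hc⟩ := exists_not_mem_of_closure_eq_top hC ⊥ hbot
    obtain ⟨d, hdD, hd⟩ := exists_not_mem_of_closure_eq_top hD ⊥ hbot
    rw [Subgroup.mem_bot] at hc hd
    refine ⟨c, hcC, d, hdD, ?_⟩
    rw [hfix1 c (hcen c) hc, hfix1 d (hcen d) hd]
    exact Finite.one_lt_card
  · -- nonabelian case
    have hnc : ¬ IsCyclic Q := by
      intro hcyc
      apply hab
      intro a b
      exact (IsCyclic.commutative (α := Q)).is_comm.comm a b
    have hp2 : p ≠ 2 := by omega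
    obtain ⟨W, hWn, hWc, hWexp, hWcard⟩ := exists_normal_elementary_sq hp2 hQ hnc
    have hp1 : 1 < p := hp.out.one_lt
    have hppos : 0 < p := hp.out.pos
    by_cases hWcen : W ≤ Subgroup.center Q
    · -- central case: contradiction
      exfalso
      have hWnb : W ≠ ⊥ := by
        intro h
        rw [h, Subgroup.card_bot] at hWcard
        have : 1 < p ^ 2 := Nat.one_lt_pow (by norm_num) hp1
        omega
      obtain ⟨⟨z, hzW⟩, hz1'⟩ := (Subgroup.ne_bot_iff_exists_ne_one).mp hWnb
      have hz1 : z ≠ 1 := fun h => hz1' (Subtype.ext h)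
      have hzp : z ^ p = 1 := hWexp z hzW
      have hzord : orderOf z = p := orderOf_eq_prime hzp hz1
      set Z : Subgroup Q := Subgroup.zpowers z with hZ
      have hZcard : Nat.card Z = p := by rw [hZ, Nat.card_zpowers, hzord]
      have hZW : Z ≤ W := Subgroup.zpowers_le.mpr hzW
      obtain ⟨w, hwW, hwZ⟩ : ∃ w ∈ W, w ∉ Z := by
        by_contra hall
        push Not at hall
        have hle : W ≤ Z := hall
        have := Subgroup.card_le_of_le hle
        rw [hWcard, hZcard] at this
        nlinarith
      have hcore : Core ρ p Z w :=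
        { central := hZW.trans hWcen
          card := hZcard
          fixfree := fun s hs hs1 v hv =>
            central_fixfree ρ hinj hirr (hWcen (hZW hs)) hs1 v hv
          wp := hWexp w hwW
          cop := hcop }
      obtain ⟨v, hv⟩ := exists_ne (1 : V)
      apply hv
      apply hcore.eq_one_of_fix_trivial
      intro s hs u hu
      have hws : w * s ∈ W := W.mul_mem hwW (hZW hs)
      have hws1 : w * s ≠ 1 := by
        intro h
        apply hwZ
        have : w = s⁻¹ := eq_inv_of_mul_eq_one_left h
        rw [this]; exact Z.inv_mem hs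
      exact central_fixfree ρ hinj hirr (hWcen hws) hws1 u hu
    · -- noncentral case
      set K : Subgroup Q := ⁅W, (⊤ : Subgroup Q)⁆ with hK
      have hKW : K ≤ W := Subgroup.commutator_le_left W ⊤
      have hKn : K.Normal := by rw [hK]; infer_instance
      have hKnb : K ≠ ⊥ := by
        intro h
        apply hWcen
        intro x hx
        rw [Subgroup.mem_center_iff]
        intro g
        have : ⁅x, g⁆ ∈ K := Subgroup.commutator_mem_commutator hx (Subgroup.mem_top g)
        rw [h, Subgroup.mem_bot, commutatorElement_eq_one_iff_mul_comm] at this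
        exact this.symm
      have hKne : K ≠ W := by
        intro h
        have : Group.IsNilpotent Q := hQ.isNilpotent
        have : Group.IsNilpotent (⊤ : Subgroup Q) :=
          (Group.isNilpotent_congr (Subgroup.topEquiv : (⊤ : Subgroup Q) ≃* Q)).mpr inferInstance
        have hWb : W = ⊥ := eq_bot_of_le_commutator_nilpotent ⊤ W le_top (by rw [← hK, h])
        rw [hWb] at hWcen
        exact hWcen bot_le
      have hKcard : Nat.card K = p := by
        have hdvd : Nat.card K ∣ p ^ 2 := by
          rw [← hWcard]; exact Subgroup.card_dvd_of_le hKW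
        obtain ⟨k, hk2, hk⟩ := (Nat.dvd_prime_pow hp.out).mp hdvd
        interval_cases k
        · exfalso
          rw [pow_zero] at hk
          exact hKnb (Subgroup.card_eq_one.mp hk)
        · rw [hk, pow_one]
        · exfalso
          apply hKne
          apply Subgroup.eq_of_le_of_card_ge hKW
          rw [hk, hWcard]
      have hKcen : K ≤ Subgroup.center Q := by
        have : Group.IsNilpotent Q := hQ.isNilpotent
        have h1 := inf_center_ne_bot K hKnb
        have h2 : Nat.card (K ⊓ Subgroup.center Q : Subgroup Q) ∣ p := by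
          rw [← hKcard]; exact Subgroup.card_dvd_of_le inf_le_left
        rcases (Nat.dvd_prime hp.out).mp h2 with h3 | h3
        · exact absurd (Subgroup.card_eq_one.mp h3) h1
        · have h4 : K ⊓ Subgroup.center Q = K := by
            apply Subgroup.eq_of_le_of_card_ge inf_le_left
            rw [h3, hKcard]
          rw [← h4]; exact inf_le_right
      obtain ⟨w, hwW, hwc⟩ : ∃ w ∈ W, w ∉ Subgroup.center Q := by
        by_contra hall
        push Not at hall
        exact hWcen hall
      have hcore : Core ρ p K w :=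
        { central := hKcen
          card := hKcard
          fixfree := fun s hs hs1 v hv =>
            central_fixfree ρ hinj hirr (hKcen hs) hs1 v hv
          wp := hWexp w hwW
          cop := hcop }
      have hmem : ∀ g : Q, g * w * g⁻¹ * w⁻¹ ∈ K := by
        intro g
        have : ⁅g, w⁆ ∈ ⁅(⊤ : Subgroup Q), W⁆ :=
          Subgroup.commutator_mem_commutator (Subgroup.mem_top g) hwW
        rw [Subgroup.commutator_comm] at this
        exact this
      set M : Subgroup Q := Subgroup.centralizer {w} with hM
      have hMtop : M ≠ ⊤ := by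
        intro h
        apply hwc
        rw [Subgroup.mem_center_iff]
        intro g
        have : g ∈ M := by rw [h]; exact Subgroup.mem_top g
        rw [hM, Subgroup.mem_centralizer_iff] at this
        exact (this w rfl).symm
      have hmove : ∀ g : Q, g ∉ M → g * w * g⁻¹ * w⁻¹ ≠ 1 := by
        intro g hg h1
        apply hg
        rw [hM, Subgroup.mem_centralizer_iff]
        intro x hx
        rw [Set.mem_singleton_iff] at hx
        subst hx
        have : g * x * g⁻¹ = x := by
          have := mul_inv_eq_one.mp h1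
          exact this
        calc x * g = (g * x * g⁻¹) * g := by rw [this]
          _ = g * x := by group
      obtain ⟨c, hcC, hc⟩ := exists_not_mem_of_closure_eq_top hC M hMtop
      obtain ⟨d, hdD, hd⟩ := exists_not_mem_of_closure_eq_top hD M hMtop
      exact ⟨c, hcC, d, hdD, hcore.card_lt hp3 (hmem c) (hmove c hc) (hmem d) (hmove d hd)⟩

end

/-- the same for a group `V` that happens to be commutative -/
theorem exists_small_fix' {V : Type*} [Group V] [Finite V] (hcomm : ∀ a b : V, a * b = b * a)
    {Q : Type*} [Group Q] [Finite Q] (ρ : Q →* MulAut V) (p : ℕ) [hp : Fact p.Prime]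
    (hp3 : 3 ≤ p) (hQ : IsPGroup p Q) [Nontrivial Q]
    (hinj : Function.Injective ρ)
    (hirr : ∀ U : Subgroup V, (∀ g : Q, ∀ v ∈ U, ρ g v ∈ U) → U = ⊥ ∨ U = ⊤)
    (hcop : (Nat.card V).Coprime p) (C D : Set Q) (hC : Subgroup.closure C = ⊤)
    (hD : Subgroup.closure D = ⊤) :
    ∃ c ∈ C, ∃ d ∈ D,
      Nat.card {v : V // ρ c v = v} * Nat.card {v : V // ρ d v = v} < Nat.card V := by
  letI : CommGroup V := { ‹Group V› with mul_comm := hcomm }
  exact exists_small_fix ρ p hp3 hQ hinj hirr hcop C D hC hD

end Cfsg.Agent.Lib.Lead.TwoGen
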