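import Mathlib

set_option autoImplicit false

/-!
# Transport of the hypotheses of the two-generating-sets lemma to quotients and subgroups
-/

namespace Cfsg.Agent.Lib.Lead.TwoGen

open scoped commutatorElement

/-- the hypotheses of the lemma -/
structure Hyp {G : Type*} [Group G] (p : ℕ) [Fact p.Prime] (P : Sylow p G) (N : Subgroup G)
    (C D : Set G) : Prop where
  normal : N.Normal
  cop : (Nat.card N).Coprime p
  sup : N ⊔ (P : Subgroup G) = ⊤
  hC : Subgroup.closure C = (P : Subgroup G)
  hD : Subgroup.closure D = (P : Subgroup G)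
  pgrp : ∀ x ∈ N, ∀ c ∈ C, ∀ d ∈ D,
    IsPGroup p (Subgroup.closure ({x * c * x⁻¹, d} : Set G))

section
variable {G : Type*} [Group G] [Finite G] {p : ℕ} [Fact p.Prime] {P : Sylow p G}
  {N : Subgroup G} {C D : Set G}

theorem Hyp.map (h : Hyp p P N C D) {G' : Type*} [Group G'] (f : G →* G')
    (hf : Function.Surjective f) :
    Hyp p (P.mapSurjective hf) (N.map f) (f '' C) (f '' D) where
  normal := h.normal.map f hf
  cop := Nat.Coprime.coprime_dvd_left (Subgroup.card_map_dvd N f) h.cop
  sup := by
    rw [Sylow.coe_mapSurjective, ← Subgroup.map_sup, h.sup]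
    exact Subgroup.map_top_of_surjective f hf
  hC := by rw [Sylow.coe_mapSurjective, ← MonoidHom.map_closure, h.hC]
  hD := by rw [Sylow.coe_mapSurjective, ← MonoidHom.map_closure, h.hD]
  pgrp := by
    rintro _ ⟨x, hx, rfl⟩ _ ⟨c, hc, rfl⟩ _ ⟨d, hd, rfl⟩
    have h1 : Subgroup.closure ({f x * f c * (f x)⁻¹, f d} : Set G')
        = (Subgroup.closure ({x * c * x⁻¹, d} : Set G)).map f := by
      rw [MonoidHom.map_closure, Set.image_pair, map_mul, map_mul, map_inv]
    rw [h1]
    exact (h.pgrp x hx c hc d hd).map f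

theorem Hyp.sub (h : Hyp p P N C D) (H : Subgroup G) (hPH : (P : Subgroup G) ≤ H) :
    Hyp p (P.subtype hPH) (N.subgroupOf H) (H.subtype ⁻¹' C) (H.subtype ⁻¹' D) := by
  haveI := h.normal
  have hCH : C ⊆ H := fun c hc => hPH (h.hC ▸ Subgroup.subset_closure hc)
  have hDH : D ⊆ H := fun c hc => hPH (h.hD ▸ Subgroup.subset_closure hc)
  have himg : ∀ S : Set G, S ⊆ H → H.subtype '' (H.subtype ⁻¹' S) = S := by
    intro S hS
    rw [Set.image_preimage_eq_inter_range, Subgroup.coe_subtype, Subtype.range_coe]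
    exact Set.inter_eq_left.mpr hS
  have hcl : ∀ S : Set G, S ⊆ H → Subgroup.closure S = (P : Subgroup G) →
      Subgroup.closure (H.subtype ⁻¹' S) = ((P.subtype hPH : Sylow p H) : Subgroup H) := by
    intro S hS hSP
    apply Subgroup.map_injective H.subtype_injective
    rw [MonoidHom.map_closure, himg S hS, hSP, Sylow.coe_subtype,
      Subgroup.map_subgroupOf_eq_of_le hPH]
  refine
    { normal := Subgroup.normal_subgroupOf
      cop := ?_
      sup := ?_
      hC := hcl C hCH h.hC
      hD := hcl D hDH h.hD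
      pgrp := ?_ }
  · have : Nat.card (N.subgroupOf H) ∣ Nat.card N :=
      Subgroup.card_comap_dvd_of_injective N H.subtype H.subtype_injective
    exact Nat.Coprime.coprime_dvd_left this h.cop
  · rw [eq_top_iff]
    rintro ⟨g, hg⟩ -
    have hg' : g ∈ N ⊔ (P : Subgroup G) := by rw [h.sup]; exact Subgroup.mem_top g
    rw [Subgroup.mem_sup_of_normal_left] at hg'
    obtain ⟨n, hn, a, ha, rfl⟩ := hg'
    have haH : a ∈ H := hPH ha
    have hnH : n ∈ H := by
      have := H.mul_mem hg (H.inv_mem haH)
      rwa [mul_inv_cancel_right] at this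
    have : (⟨n * a, hg⟩ : H) = ⟨n, hnH⟩ * ⟨a, haH⟩ := rfl
    rw [this]
    apply Subgroup.mul_mem
    · apply Subgroup.mem_sup_left
      rw [Subgroup.mem_subgroupOf]; exact hn
    · apply Subgroup.mem_sup_right
      rw [Sylow.coe_subtype, Subgroup.mem_subgroupOf]; exact ha
  · intro x hx c hc d hd
    rw [Subgroup.mem_subgroupOf] at hx
    have hc' : (c : G) ∈ C := hc
    have hd' : (d : G) ∈ D := hd
    have h1 := (h.pgrp x hx c hc' d hd').comap_of_injective H.subtype H.subtype_injective
    apply h1.to_le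
    rw [Subgroup.closure_le]
    intro y hy
    simp only [Set.mem_insert_iff, Set.mem_singleton_iff] at hy
    rw [SetLike.mem_coe, Subgroup.mem_comap]
    apply Subgroup.subset_closure
    rcases hy with rfl | rfl
    · left; simp
    · right; simp

end

end Cfsg.Agent.Lib.Lead.TwoGen
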