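import Mathlib
import Cfsg.Agent.Lib.Lead.TwoGen2
import Cfsg.Agent.Lib.Lead.TwoGen3
import Cfsg.Agent.Lib.Lead.CoprimeAction
import Cfsg.Agent.Lib.Lead.CoprimeAction2
import Cfsg.Agent.Lib.Lead.CoprimeAction3
import Cfsg.Agent.Lib.Lead.CoprimeSylow3
import Cfsg.Agent.Lib.Lead.CoprimeTools
import Cfsg.Agent.Lib.Helper7.PiClosed1

set_option autoImplicit false

/-!
# A Sylow `p`-subgroup (`p ≥ 3`) with a normal complement, generated by two sets
-/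

namespace Cfsg.Agent.Lib.Lead.TwoGen

open scoped commutatorElement Pointwise

universe u

section
variable {G : Type u} [Group G] [Finite G] {p : ℕ} [hp : Fact p.Prime] {P : Sylow p G}
  {N : Subgroup G} {C D : Set G}

theorem Hyp.card_coprime (h : Hyp p P N C D) :
    (Nat.card (P : Subgroup G)).Coprime (Nat.card N) := by
  obtain ⟨k, hk⟩ := (IsPGroup.iff_card).mp P.2
  rw [hk]
  exact (Nat.Coprime.pow_left k h.cop.symm)

theorem Hyp.inf_eq_bot (h : Hyp p P N C D) : (P : Subgroup G) ⊓ N = ⊥ :=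
  (Subgroup.disjoint_of_coprime_natCard h.card_coprime).eq_bot

/-- an element of `N` conjugating `a ∈ P` into `P` centralizes `a` -/
theorem Hyp.comm_of_conj_mem (h : Hyp p P N C D) {y a : G} (hy : y ∈ N)
    (ha : a ∈ (P : Subgroup G)) (hya : y⁻¹ * a * y ∈ (P : Subgroup G)) : y * a = a * y := by
  haveI := h.normal
  have h1 : a⁻¹ * (y⁻¹ * a * y) ∈ (P : Subgroup G) :=
    Subgroup.mul_mem _ (Subgroup.inv_mem _ ha) hya
  have h2 : a⁻¹ * (y⁻¹ * a * y) ∈ N := by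
    have h3 : a⁻¹ * y⁻¹ * a⁻¹⁻¹ ∈ N := h.normal.conj_mem _ (N.inv_mem hy) _
    have := N.mul_mem h3 hy
    have e : a⁻¹ * y⁻¹ * a⁻¹⁻¹ * y = a⁻¹ * (y⁻¹ * a * y) := by group
    rwa [e] at this
  have h3 : a⁻¹ * (y⁻¹ * a * y) ∈ (P : Subgroup G) ⊓ N := ⟨h1, h2⟩
  rw [h.inf_eq_bot, Subgroup.mem_bot] at h3
  have h4 : y⁻¹ * a * y = a := by
    have := congrArg (fun t => a * t) h3
    simpa using this
  calc y * a = y * (y⁻¹ * a * y) := by rw [h4]
    _ = a * y := by group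

/-- the factorization `N = C_N(d) C_N(c)` -/
theorem Hyp.factor (h : Hyp p P N C D) {c d x : G} (hc : c ∈ C) (hd : d ∈ D) (hx : x ∈ N) :
    ∃ u ∈ N, ∃ y ∈ N, u * d = d * u ∧ y * c = c * y ∧ x = u * y := by
  haveI := h.normal
  have hcP : c ∈ (P : Subgroup G) := h.hC ▸ Subgroup.subset_closure hc
  have hdP : d ∈ (P : Subgroup G) := h.hD ▸ Subgroup.subset_closure hd
  obtain ⟨S, hS⟩ := (h.pgrp x hx c hc d hd).exists_le_sylow
  obtain ⟨g, hg⟩ := MulAction.exists_smul_eq G P S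
  have hg' : g ∈ N ⊔ (P : Subgroup G) := by rw [h.sup]; exact Subgroup.mem_top g
  rw [Subgroup.mem_sup_of_normal_left] at hg'
  obtain ⟨n, hn, a, ha, rfl⟩ := hg'
  have haP : a • P = P := Sylow.smul_eq_iff_mem_normalizer.mpr (Subgroup.le_normalizer ha)
  rw [mul_smul, haP] at hg
  have hmem : ∀ s ∈ Subgroup.closure ({x * c * x⁻¹, d} : Set G),
      n⁻¹ * s * n ∈ (P : Subgroup G) := by
    intro s hs
    have h1 : s ∈ ((n • P : Sylow p G) : Subgroup G) := by rw [hg]; exact hS hs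
    rw [Sylow.coe_subgroup_smul, mem_conj_smul_iff'] at h1
    exact h1
  have h1 := hmem d (Subgroup.subset_closure (by simp))
  have h2 := hmem (x * c * x⁻¹) (Subgroup.subset_closure (by simp))
  have hnd : n * d = d * n := h.comm_of_conj_mem hn hdP h1
  have hy : x⁻¹ * n ∈ N := N.mul_mem (N.inv_mem hx) hn
  have h2' : (x⁻¹ * n)⁻¹ * c * (x⁻¹ * n) ∈ (P : Subgroup G) := by
    have e : (x⁻¹ * n)⁻¹ * c * (x⁻¹ * n) = n⁻¹ * (x * c * x⁻¹) * n := by group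
    rw [e]; exact h2
  have hyc : (x⁻¹ * n) * c = c * (x⁻¹ * n) := h.comm_of_conj_mem hy hcP h2'
  refine ⟨n, hn, n⁻¹ * x, N.mul_mem (N.inv_mem hn) hx, hnd, ?_, by group⟩
  have e : n⁻¹ * x = (x⁻¹ * n)⁻¹ := by group
  rw [e]
  calc (x⁻¹ * n)⁻¹ * c = (x⁻¹ * n)⁻¹ * (c * (x⁻¹ * n)) * (x⁻¹ * n)⁻¹ := by group
    _ = (x⁻¹ * n)⁻¹ * ((x⁻¹ * n) * c) * (x⁻¹ * n)⁻¹ := by rw [hyc]
    _ = c * (x⁻¹ * n)⁻¹ := by group

end

end Cfsg.Agent.Lib.Lead.TwoGen
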