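import Mathlib
import Cfsg.Agent.Lib.Lead.TwoGen4

set_option autoImplicit false

namespace Cfsg.Agent.Lib.Lead.TwoGen

open scoped commutatorElement Pointwise

universe u

theorem main (p : ℕ) [hp : Fact p.Prime] (hp3 : 3 ≤ p) :
    ∀ (n : ℕ) (G : Type u) [Group G] [Finite G], Nat.card G = n →
      ∀ (P : Sylow p G) (N : Subgroup G) (C D : Set G), Hyp p P N C D →
        ⁅(P : Subgroup G), N⁆ = ⊥ := by
  intro n
  induction n using Nat.strong_induction_on with
  | _ n ih =>
  intro G _ _ hn P N C D h
  by_contra hne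
  haveI := h.normal
  have hdisj : (P : Subgroup G) ⊓ N = ⊥ := h.inf_eq_bot
  have hcopPN := h.card_coprime
  have hPN : (P : Subgroup G) ≤ Subgroup.normalizer (N : Set G) := by
    rw [Subgroup.normalizer_eq_top_iff.mpr h.normal]; exact le_top
  haveI hPnil : Group.IsNilpotent (P : Subgroup G) := P.2.isNilpotent
  have hPsolv : Group.IsSolvable (P : Subgroup G) := inferInstance
  -- Step Q: quotients
  have stepQ : ∀ K : Subgroup G, K.Normal → K ≠ ⊥ → ⁅(P : Subgroup G), N⁆ ≤ K := by
    intro K hKn hK
    haveI := hKn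
    have hcard : Nat.card (G ⧸ K) < n := by
      rw [← hn, ← Subgroup.index_eq_card K]
      have h1 := Subgroup.index_mul_card K
      have h2 : 1 < Nat.card K := (Subgroup.one_lt_card_iff_ne_bot K).mpr hK
      have h3 : 0 < K.index := Nat.pos_of_ne_zero Subgroup.index_ne_zero_of_finite
      nlinarith
    have h4 := ih _ hcard (G ⧸ K) rfl _ _ _ _
      (h.map (QuotientGroup.mk' K) (QuotientGroup.mk'_surjective K))
    rw [Sylow.coe_mapSurjective, ← Subgroup.map_commutator, Subgroup.map_eq_bot_iff,
      QuotientGroup.ker_mk'] at h4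
    exact h4
  -- Step S: subgroups
  have stepS : ∀ K : Subgroup G, K ≤ N →
      (P : Subgroup G) ≤ Subgroup.normalizer (K : Set G) → K ≠ N →
      ⁅(P : Subgroup G), K⁆ = ⊥ := by
    intro K hKN hPK hKne
    set H : Subgroup G := K ⊔ P with hH
    have hPH : (P : Subgroup G) ≤ H := le_sup_right
    have hKH : K ≤ H := le_sup_left
    have hHtop : H ≠ ⊤ := by
      intro htop
      apply hKne
      apply Subgroup.eq_of_le_of_card_ge hKN
      have h1 : Nat.card H = Nat.card (P : Subgroup G) * Nat.card K := by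
        rw [hH, sup_comm]
        exact card_sup_of_disjoint (P : Subgroup G) K hPK
          (by rw [← le_bot_iff, ← hdisj]; exact inf_le_inf_left _ hKN)
      have h2 : Nat.card (⊤ : Subgroup G) = Nat.card (P : Subgroup G) * Nat.card N := by
        rw [← h.sup, sup_comm]
        exact card_sup_of_disjoint (P : Subgroup G) N hPN hdisj
      rw [htop] at h1
      rw [h1] at h2
      have hPpos : 0 < Nat.card (P : Subgroup G) := Nat.card_pos
      exact (Nat.eq_of_mul_eq_mul_left hPpos h2).ge
    have hcard : Nat.card H < n := by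
      rw [← hn]
      rcases (Subgroup.card_le_card_group H).lt_or_eq with h1 | h1
      · exact h1
      · exact absurd ((Subgroup.card_eq_iff_eq_top H).mp h1) hHtop
    have h4 := ih _ hcard H rfl _ _ _ _ (h.sub H hPH)
    rw [Subgroup.commutator_eq_bot_iff_le_centralizer] at h4 ⊢
    intro a ha
    rw [Subgroup.mem_centralizer_iff]
    intro k hk
    have ha' : (⟨a, hPH ha⟩ : H) ∈ ((P.subtype hPH : Sylow p H) : Subgroup H) := by
      rw [Sylow.coe_subtype, Subgroup.mem_subgroupOf]; exact ha
    have hk' : (⟨k, hKH hk⟩ : H) ∈ N.subgroupOf H := by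
      rw [Subgroup.mem_subgroupOf]; exact hKN hk
    have := Subgroup.mem_centralizer_iff.mp (h4 ha') _ hk'
    exact congrArg Subtype.val this
  -- no proper nontrivial normal subgroup of `G` inside `N`
  have rgen : ∀ K : Subgroup G, K.Normal → K ≤ N → K ≠ ⊥ → K ≠ N → False := by
    intro K hKn hKN hKb hKne
    have h1 := stepQ K hKn hKb
    have h2 := stepS K hKN
      (by rw [Subgroup.normalizer_eq_top_iff.mpr hKn]; exact le_top) hKne
    apply hne
    have hstab := coprime_commutator_stable (P : Subgroup G) N hPN hcopPN (Or.inl hPsolv)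
    rw [Subgroup.commutator_comm, ← hstab, eq_bot_iff]
    calc ⁅⁅N, (P : Subgroup G)⁆, (P : Subgroup G)⁆ ≤ ⁅K, (P : Subgroup G)⁆ :=
          Subgroup.commutator_mono (by rw [Subgroup.commutator_comm]; exact h1) le_rfl
      _ = ⊥ := by rw [Subgroup.commutator_comm]; exact h2
  -- `N` is an `r`-group
  have hNne : N ≠ ⊥ := by
    intro hN
    apply hne
    rw [hN, eq_bot_iff]
    exact Subgroup.commutator_le_right _ _
  have hR : ∃ r : ℕ, r.Prime ∧ IsPGroup r N := by
    by_contra hno
    push Not at hno
    apply hne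
    rw [Subgroup.commutator_comm, Subgroup.commutator_eq_bot_iff_le_centralizer]
    apply Cfsg.Agent.Lib.Helper7.PiClosed.le_of_forall_sylow N
    intro r hr
    haveI : Fact r.Prime := ⟨hr⟩
    obtain ⟨R, hR⟩ := coprime_invariant_sylow_exists (P : Subgroup G) N hPN hcopPN
      (Or.inl hPsolv) r
    have hR'N : (R : Subgroup N).map N.subtype ≤ N := Subgroup.map_subtype_le _
    have hR'ne : (R : Subgroup N).map N.subtype ≠ N := by
      intro heq
      apply hno r hr
      have htop : (R : Subgroup N) = ⊤ := by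
        apply Subgroup.map_injective N.subtype_injective
        rw [heq, ← MonoidHom.range_eq_map, Subgroup.range_subtype]
      have hR2 : IsPGroup r (R : Subgroup N) := R.2
      rw [htop] at hR2
      exact hR2.of_equiv Subgroup.topEquiv
    refine ⟨(R : Subgroup N).map N.subtype, hR'N, ?_,
      Cfsg.Agent.Lib.Helper7.PiClosed.sylow_map_relIndex N r R⟩
    have := stepS _ hR'N hR hR'ne
    rw [Subgroup.commutator_comm, Subgroup.commutator_eq_bot_iff_le_centralizer] at this
    exact this
  obtain ⟨r, hr, hNr⟩ := hR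
  haveI : Fact r.Prime := ⟨hr⟩
  -- `N` is abelian
  have hNab : ∀ a ∈ N, ∀ b ∈ N, a * b = b * a := by
    haveI : Group.IsNilpotent N := hNr.isNilpotent
    have hKn : (⁅N, N⁆ : Subgroup G).Normal := inferInstance
    have hKN : ⁅N, N⁆ ≤ N := Subgroup.commutator_le_left N N
    have hKne : ⁅N, N⁆ ≠ N := by
      intro heq
      exact hNne (eq_bot_of_le_commutator_nilpotent N N le_rfl (by rw [heq]))
    have hKb : ⁅N, N⁆ = ⊥ := by
      by_contra hKb
      exact rgen _ hKn hKN hKb hKne
    intro a ha b hb
    have : ⁅a, b⁆ ∈ ⁅N, N⁆ := Subgroup.commutator_mem_commutator ha hb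
    rw [hKb, Subgroup.mem_bot, commutatorElement_eq_one_iff_mul_comm] at this
    exact this
  -- irreducibility
  have hirrG : ∀ U : Subgroup G, U ≤ N →
      (P : Subgroup G) ≤ Subgroup.normalizer (U : Set G) → U = ⊥ ∨ U = N := by
    intro U hUN hPU
    have hNU : N ≤ Subgroup.normalizer (U : Set G) := by
      intro x hx
      rw [Subgroup.mem_normalizer_iff]
      intro u
      constructor
      · intro hu
        have : x * u * x⁻¹ = u := by rw [hNab x hx u (hUN hu), mul_inv_cancel_right]
        rw [this]; exact hu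
      · intro hu
        have h1 : x * u * x⁻¹ ∈ N := hUN hu
        have h2 : u ∈ N := by
          have := h.normal.conj_mem _ h1 x⁻¹
          have e : x⁻¹ * (x * u * x⁻¹) * x⁻¹⁻¹ = u := by group
          rwa [e] at this
        have : x * u * x⁻¹ = u := by rw [hNab x hx u h2, mul_inv_cancel_right]
        rw [this] at hu; exact hu
    have hUn : U.Normal := by
      rw [← Subgroup.normalizer_eq_top_iff, eq_top_iff, ← h.sup]
      exact sup_le hNU hPU
    by_contra hcon
    push Not at hcon
    exact rgen U hUn hUN hcon.1 hcon.2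
  -- faithfulness
  have hfaith : (P : Subgroup G) ⊓ Subgroup.centralizer (N : Set G) = ⊥ := by
    by_contra hK
    have hKn : ((P : Subgroup G) ⊓ Subgroup.centralizer (N : Set G)).Normal := by
      haveI : (Subgroup.centralizer (N : Set G)).Normal := Subgroup.normal_centralizer
      constructor
      intro k hk g
      have hg' : g ∈ N ⊔ (P : Subgroup G) := by rw [h.sup]; exact Subgroup.mem_top g
      rw [Subgroup.mem_sup_of_normal_left] at hg'
      obtain ⟨x, hx, a, ha, rfl⟩ := hg'
      have h1 : a * k * a⁻¹ ∈ (P : Subgroup G) ⊓ Subgroup.centralizer (N : Set G) :=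
        ⟨Subgroup.mul_mem _ (Subgroup.mul_mem _ ha hk.1) (Subgroup.inv_mem _ ha),
          Subgroup.Normal.conj_mem inferInstance _ hk.2 _⟩
      have h2 : x * a * k * (x * a)⁻¹ = a * k * a⁻¹ := by
        have h3 := Subgroup.mem_centralizer_iff.mp h1.2 x hx
        calc x * a * k * (x * a)⁻¹ = x * (a * k * a⁻¹) * x⁻¹ := by group
          _ = (a * k * a⁻¹) * x * x⁻¹ := by rw [h3]
          _ = a * k * a⁻¹ := by group
      rw [h2]; exact h1
    have h1 := stepQ _ hKn hK
    apply hne
    rw [eq_bot_iff, ← hdisj]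
    exact le_inf (h1.trans inf_le_left) (Subgroup.commutator_le_right _ _)
  -- apply the module lemma
  have hPne : (P : Subgroup G) ≠ ⊥ := by
    intro hP
    apply hne
    rw [hP, eq_bot_iff]
    exact Subgroup.commutator_le_left _ _
  haveI : Nontrivial (P : Subgroup G) := (Subgroup.nontrivial_iff_ne_bot _).mpr hPne
  let ρ : (P : Subgroup G) →* MulAut N := (MulAut.conjNormal (H := N)).comp (P : Subgroup G).subtype
  have hρ : ∀ (a : (P : Subgroup G)) (v : N), ((ρ a v : N) : G) = (a : G) * v * (a : G)⁻¹ := by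
    intro a v
    rfl
  have hinj : Function.Injective ρ := by
    rw [injective_iff_map_eq_one]
    intro a ha
    have : (a : G) ∈ (P : Subgroup G) ⊓ Subgroup.centralizer (N : Set G) := by
      refine Subgroup.mem_inf.mpr ⟨a.2, ?_⟩
      rw [Subgroup.mem_centralizer_iff]
      intro x hx
      have h1 := hρ a ⟨x, hx⟩
      rw [ha] at h1
      simp only [MulAut.one_apply] at h1
      calc x * (a : G) = ((a : G) * x * (a : G)⁻¹) * (a : G) := by rw [← h1]
        _ = (a : G) * x := by group
    rw [hfaith, Subgroup.mem_bot] at this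
    exact Subtype.ext this
  have hirr : ∀ U : Subgroup N, (∀ g : (P : Subgroup G), ∀ v ∈ U, ρ g v ∈ U) → U = ⊥ ∨ U = ⊤ := by
    intro U hU
    have hPU : (P : Subgroup G) ≤ Subgroup.normalizer ((U.map N.subtype : Subgroup G) : Set G) := by
      have key : ∀ a ∈ (P : Subgroup G), ∀ u ∈ U.map N.subtype, a * u * a⁻¹ ∈ U.map N.subtype := by
        rintro a ha _ ⟨u, hu, rfl⟩
        exact ⟨ρ ⟨a, ha⟩ u, hU ⟨a, ha⟩ u hu, rfl⟩
      intro a ha
      rw [Subgroup.mem_normalizer_iff]
      intro u
      constructor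
      · exact key a ha u
      · intro hu
        have := key a⁻¹ (Subgroup.inv_mem _ ha) _ hu
        have e : a⁻¹ * (a * u * a⁻¹) * a⁻¹⁻¹ = u := by group
        rwa [e] at this
    rcases hirrG (U.map N.subtype) (Subgroup.map_subtype_le _) hPU with h1 | h1
    · left
      exact (Subgroup.map_eq_bot_iff_of_injective U N.subtype_injective).mp h1
    · right
      apply Subgroup.map_injective N.subtype_injective
      rw [h1, ← MonoidHom.range_eq_map, Subgroup.range_subtype]
  have hsubP := h.sub (P : Subgroup G) le_rfl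
  have htopP : ((P.subtype (le_refl (P : Subgroup G)) : Sylow p (P : Subgroup G)) :
      Subgroup (P : Subgroup G)) = ⊤ := by
    rw [Sylow.coe_subtype, Subgroup.subgroupOf_self]
  obtain ⟨c, hc, d, hd, hlt⟩ := exists_small_fix'
    (fun a b : N => Subtype.ext (hNab a a.2 b b.2)) ρ p hp3 P.2 hinj hirr h.cop
    ((P : Subgroup G).subtype ⁻¹' C) ((P : Subgroup G).subtype ⁻¹' D)
    (by rw [hsubP.hC, htopP]) (by rw [hsubP.hD, htopP])
  have hcC : (c : G) ∈ C := hc
  have hdD : (d : G) ∈ D := hd
  -- the factorization gives a surjection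
  let f : {v : N // ρ d v = v} × {v : N // ρ c v = v} → N := fun uy => uy.1.1 * uy.2.1
  have hf : Function.Surjective f := by
    rintro ⟨x, hx⟩
    obtain ⟨u, hu, y, hy, hud, hyc, hxy⟩ := h.factor hcC hdD hx
    have h1 : ρ d ⟨u, hu⟩ = ⟨u, hu⟩ := by
      apply Subtype.ext
      rw [hρ]
      change (d : G) * u * (d : G)⁻¹ = u
      rw [← hud, mul_inv_cancel_right]
    have h2 : ρ c ⟨y, hy⟩ = ⟨y, hy⟩ := by
      apply Subtype.ext
      rw [hρ]
      change (c : G) * y * (c : G)⁻¹ = y
      rw [← hyc, mul_inv_cancel_right]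
    refine ⟨(⟨⟨u, hu⟩, h1⟩, ⟨⟨y, hy⟩, h2⟩), ?_⟩
    apply Subtype.ext
    exact hxy.symm
  have hle := Nat.card_le_card_of_surjective f hf
  rw [Nat.card_prod] at hle
  rw [mul_comm] at hlt
  omega

end Cfsg.Agent.Lib.Lead.TwoGen
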