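import Mathlib
import Cfsg.Prelude.Def_PLocal
import Cfsg.Agent.Lib.Lead.CoprimeAction3
import Cfsg.Agent.Lib.Lead.HallTools

set_option autoImplicit false

namespace Cfsg.Agent.Lib.Lead.Uniserial

open scoped commutatorElement
open Cfsg.Agent.Lib.Lead

/-- arithmetic: a strictly decreasing sequence squeezed between `n` and a nonzero value at `n-1` -/
theorem seq_eq (e : ℕ → ℕ) (n : ℕ) (h0 : e 0 = n) (hstep : ∀ i, e i ≠ 0 → e (i + 1) < e i)
    (hmono : ∀ i, e (i + 1) ≤ e i) (hn : e (n - 1) ≠ 0 ∨ n = 0) : ∀ i ≤ n, e i = n - i := by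
  rcases Nat.eq_zero_or_pos n with rfl | hpos
  · intro i hi
    have : i = 0 := by omega
    subst this; simpa using h0
  have hn' : e (n - 1) ≠ 0 := by
    rcases hn with h | h
    · exact h
    · omega
  have hanti : Antitone e := antitone_nat_of_succ_le hmono
  have hposi : ∀ i ≤ n - 1, e i ≠ 0 := by
    intro i hi h
    have := hanti hi
    omega
  have upper : ∀ i ≤ n, e i + i ≤ n := by
    intro i
    induction i with
    | zero => intro _; omega
    | succ i ih =>
      intro hi
      have h1 := ih (by omega)
      have h2 := hstep i (hposi i (by omega))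
      omega
  have lower : ∀ k, k ≤ n - 1 → k + 1 ≤ e (n - 1 - k) := by
    intro k
    induction k with
    | zero => intro _; simp only [Nat.sub_zero]; omega
    | succ k ih =>
      intro hk
      have h1 := ih (by omega)
      have h2 := hstep (n - 1 - (k + 1)) (hposi _ (by omega))
      have h3 : n - 1 - (k + 1) + 1 = n - 1 - k := by omega
      rw [h3] at h2
      omega
  intro i hi
  rcases Nat.eq_or_lt_of_le hi with rfl | hlt
  · have := upper i le_rfl
    omega
  · have h1 := upper i hi
    have h2 := lower (n - 1 - i) (by omega)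
    have h3 : n - 1 - (n - 1 - i) = i := by omega
    rw [h3] at h2
    omega

section
variable {L : Type*} [Group L]

theorem iter_zero (N G : Subgroup L) : Cfsg.iterCommutator N G 0 = N := rfl

theorem iter_succ (N G : Subgroup L) (i : ℕ) :
    Cfsg.iterCommutator N G (i + 1) = ⁅Cfsg.iterCommutator N G i, G⁆ := rfl

theorem iter_shift (N G : Subgroup L) (i : ℕ) :
    Cfsg.iterCommutator ⁅N, G⁆ G i = Cfsg.iterCommutator N G (i + 1) := by
  induction i with
  | zero => rfl
  | succ i ih => rw [iter_succ, ih, ← iter_succ]

theorem iter_normalized (N G : Subgroup L) (hGN : G ≤ Subgroup.normalizer (N : Set L)) (i : ℕ) :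
    G ≤ Subgroup.normalizer (Cfsg.iterCommutator N G i : Set L) := by
  induction i with
  | zero => exact hGN
  | succ i ih => rw [iter_succ]; exact le_normalizer_commutator_right _ _ ih

theorem iter_succ_le (N G : Subgroup L) (hGN : G ≤ Subgroup.normalizer (N : Set L)) (i : ℕ) :
    Cfsg.iterCommutator N G (i + 1) ≤ Cfsg.iterCommutator N G i := by
  rw [iter_succ]
  exact commutator_le_left_of_le_normalizer _ _ (iter_normalized N G hGN i)

theorem iter_antitone (N G : Subgroup L) (hGN : G ≤ Subgroup.normalizer (N : Set L)) :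
    Antitone (Cfsg.iterCommutator N G) :=
  antitone_nat_of_succ_le (iter_succ_le N G hGN)

theorem iter_le (N G : Subgroup L) (hGN : G ≤ Subgroup.normalizer (N : Set L)) (i : ℕ) :
    Cfsg.iterCommutator N G i ≤ N :=
  iter_antitone N G hGN (Nat.zero_le i)

variable [Finite L] {p : ℕ} [hp : Fact p.Prime]

/-- the orders along the chain when the chain has full length -/
theorem card_iter (N G : Subgroup L) (hN : IsPGroup p N) (hG : IsPGroup p G)
    (hGN : G ≤ Subgroup.normalizer (N : Set L)) (n : ℕ) (hn : Nat.card N = p ^ n)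
    (hlen : Cfsg.iterCommutator N G (n - 1) ≠ ⊥ ∨ n = 0) :
    ∀ i ≤ n, Nat.card (Cfsg.iterCommutator N G i) = p ^ (n - i) := by
  have hpg : ∀ i, IsPGroup p (Cfsg.iterCommutator N G i) := fun i => hN.to_le (iter_le N G hGN i)
  choose e he using fun i => IsPGroup.iff_card.mp (hpg i)
  have hp1 : 1 < p := hp.out.one_lt
  have h0 : e 0 = n := by
    have := he 0
    rw [iter_zero, hn] at this
    exact (Nat.pow_right_injective hp1 this).symm
  have hmono : ∀ i, e (i + 1) ≤ e i := by
    intro i
    have h1 := Subgroup.card_dvd_of_le (iter_succ_le N G hGN i)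
    rw [he, he] at h1
    exact (Nat.pow_dvd_pow_iff_le_right hp1).mp h1
  have hstep : ∀ i, e i ≠ 0 → e (i + 1) < e i := by
    intro i hi
    refine lt_of_le_of_ne (hmono i) ?_
    intro heq
    have hne : Cfsg.iterCommutator N G i ≠ ⊥ := by
      intro h
      have := he i
      rw [h, Subgroup.card_bot] at this
      have h2 : e i = 0 := by
        by_contra h3
        have := Nat.one_lt_pow h3 hp1
        omega
      exact hi h2
    have h1 := commutator_ne_of_pgroups p _ G (hpg i) hG (iter_normalized N G hGN i) hne
    apply h1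
    rw [← iter_succ]
    apply Subgroup.eq_of_le_of_card_ge (iter_succ_le N G hGN i)
    rw [he, he, heq]
  have hn' : e (n - 1) ≠ 0 ∨ n = 0 := by
    rcases hlen with h | h
    · left
      intro h2
      apply h
      have := he (n - 1)
      rw [h2, pow_zero] at this
      exact Subgroup.card_eq_one.mp this
    · exact Or.inr h
  intro i hi
  rw [he, seq_eq e n h0 hstep hmono hn' i hi]

end

end Cfsg.Agent.Lib.Lead.Uniserial
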