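import Mathlib
import Cfsg.Agent.Lib.Lead.Uniserial1

set_option autoImplicit false

namespace Cfsg.Agent.Lib.Lead.Uniserial

open scoped commutatorElement Pointwise
open Cfsg.Agent.Lib.Lead

section
variable {L : Type*} [Group L]

/-- conjugating an invariant subgroup by an element of `N` keeps it `G`-invariant, as long as
`⁅N, G⁆` normalizes it -/
theorem normalizer_conj_of_commutator (N G H : Subgroup L)
    (hMH : ⁅N, G⁆ ≤ Subgroup.normalizer (H : Set L)) (hGH : G ≤ Subgroup.normalizer (H : Set L))
    {x : L} (hx : x ∈ N) : G ≤ Subgroup.normalizer ((MulAut.conj x • H : Subgroup L) : Set L) := by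
  intro g hg
  rw [mem_normalizer_iff_conj_smul, smul_smul, ← map_mul]
  have hc : ⁅x⁻¹, g⁆ ∈ ⁅N, G⁆ := Subgroup.commutator_mem_commutator (N.inv_mem hx) hg
  have h1 : g * x = x * ⁅x⁻¹, g⁆ * g := by simp only [commutatorElement_def]; group
  rw [h1, map_mul, map_mul, mul_smul, mul_smul,
    (mem_normalizer_iff_conj_smul g H).mp (hGH hg),
    (mem_normalizer_iff_conj_smul _ H).mp (hMH hc)]

variable [Finite L] {p : ℕ} [hp : Fact p.Prime]

theorem invariant_eq_iter (G : Subgroup L) (hG : IsPGroup p G) :
    ∀ (n : ℕ) (N : Subgroup L), IsPGroup p N → G ≤ Subgroup.normalizer (N : Set L) →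
      Nat.card N = p ^ n → (Cfsg.iterCommutator N G (n - 1) ≠ ⊥ ∨ n = 0) →
      ∀ H : Subgroup L, H ≤ N → G ≤ Subgroup.normalizer (H : Set L) →
        (∃ i ≤ n, H = Cfsg.iterCommutator N G i) ∧ N ≤ Subgroup.normalizer (H : Set L) := by
  intro n
  induction n with
  | zero =>
    intro N hN hGN hn _ H hHN hGH
    rw [pow_zero] at hn
    have hN1 : N = ⊥ := Subgroup.card_eq_one.mp hn
    have hH1 : H = ⊥ := by rw [eq_bot_iff, ← hN1]; exact hHN
    refine ⟨⟨0, le_rfl, ?_⟩, ?_⟩
    · rw [iter_zero, hH1, hN1]
    · rw [hN1]; exact bot_le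
  | succ n ih =>
    intro N hN hGN hn hlen H hHN hGH
    have hp1 : 1 < p := hp.out.one_lt
    set M : Subgroup L := ⁅N, G⁆ with hMdef
    have hMN : M ≤ N := commutator_le_left_of_le_normalizer N G hGN
    have hGM : G ≤ Subgroup.normalizer (M : Set L) := le_normalizer_commutator_right N G hGN
    have hNM : N ≤ Subgroup.normalizer (M : Set L) := le_normalizer_commutator_left N G
    have hcardN := card_iter N G hN hG hGN (n + 1) hn hlen
    have hMcard : Nat.card M = p ^ n := by
      have := hcardN 1 (by omega)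
      have h1 : Cfsg.iterCommutator N G 1 = M := rfl
      rw [h1] at this
      simpa using this
    have hlenN : Cfsg.iterCommutator N G n ≠ ⊥ := by
      rcases hlen with h | h
      · simpa using h
      · omega
    have hMlen : Cfsg.iterCommutator M G (n - 1) ≠ ⊥ ∨ n = 0 := by
      by_cases h0 : n = 0
      · exact Or.inr h0
      · left
        rw [hMdef, iter_shift]
        have : n - 1 + 1 = n := by omega
        rw [this]; exact hlenN
    have hMp : IsPGroup p M := hN.to_le hMN
    have IH := ih M hMp hGM hMcard hMlen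
    have hcardM := card_iter M G hMp hG hGM n hMcard hMlen
    -- invariant subgroups of `M` are normal in `N`
    have normalN : ∀ H : Subgroup L, H ≤ M → G ≤ Subgroup.normalizer (H : Set L) →
        N ≤ Subgroup.normalizer (H : Set L) := by
      intro H hHM hGH x hx
      obtain ⟨⟨i, hi, hHi⟩, hMH⟩ := IH H hHM hGH
      have hxH : MulAut.conj x • H ≤ M := by
        have h1 : MulAut.conj x • H ≤ MulAut.conj x • M :=
          Subgroup.pointwise_smul_le_pointwise_smul_iff.mpr hHM
        rwa [(mem_normalizer_iff_conj_smul x M).mp (hNM hx)] at h1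
      have hGxH := normalizer_conj_of_commutator N G H hMH hGH hx
      obtain ⟨⟨j, hj, hHj⟩, -⟩ := IH _ hxH hGxH
      have hc1 : Nat.card (MulAut.conj x • H : Subgroup L) = Nat.card H := card_conj_smul x H
      rw [hHj, hHi, hcardM i hi, hcardM j hj] at hc1
      have hji : n - j = n - i := Nat.pow_right_injective hp1 hc1
      have : j = i := by omega
      rw [mem_normalizer_iff_conj_smul, hHj, this, ← hHi]
    by_cases hHM : H ≤ M
    · obtain ⟨⟨i, hi, hHi⟩, _⟩ := IH H hHM hGH
      refine ⟨⟨i + 1, by omega, ?_⟩, normalN H hHM hGH⟩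
      rw [hHi, hMdef, iter_shift]
    · suffices hHeq : H = N by
        refine ⟨⟨0, by omega, hHeq⟩, ?_⟩
        rw [hHeq]; exact Subgroup.le_normalizer
      have hsup : H ⊔ M = N := by
        have hle : H ⊔ M ≤ N := sup_le hHN hMN
        apply Subgroup.eq_of_le_of_card_ge hle
        have hpg : IsPGroup p (H ⊔ M : Subgroup L) := hN.to_le hle
        obtain ⟨k, hk⟩ := IsPGroup.iff_card.mp hpg
        have h1 : p ^ n ∣ p ^ k := by
          rw [← hMcard, ← hk]; exact Subgroup.card_dvd_of_le le_sup_right
        have h2 : n ≤ k := (Nat.pow_dvd_pow_iff_le_right hp1).mp h1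
        have h3 : k ≠ n := by
          intro h
          apply hHM
          have : M = H ⊔ M :=
            Subgroup.eq_of_le_of_card_ge le_sup_right (by rw [hk, h, hMcard])
          rw [this]; exact le_sup_left
        rw [hn, hk]; exact Nat.pow_le_pow_right hp.out.pos (by omega)
      suffices hMH : M ≤ H by
        rw [← hsup]; exact (sup_eq_left.mpr hMH).symm
      by_cases hM1 : M = ⊥
      · rw [hM1]; exact bot_le
      have hKH : ⁅H, G⁆ ≤ H := commutator_le_left_of_le_normalizer H G hGH
      have hKM : ⁅H, G⁆ ≤ M := Subgroup.commutator_mono hHN le_rfl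
      have hGK : G ≤ Subgroup.normalizer ((⁅H, G⁆ : Subgroup L) : Set L) :=
        le_normalizer_commutator_right H G hGH
      obtain ⟨⟨j, hj, hKj⟩, _⟩ := IH ⁅H, G⁆ hKM hGK
      rcases Nat.eq_zero_or_pos j with rfl | hjpos
      · rw [iter_zero] at hKj; rw [← hKj]; exact hKH
      · exfalso
        have hK1 : ⁅H, G⁆ ≤ ⁅M, G⁆ := by
          rw [hKj]
          have := iter_antitone M G hGM hjpos
          simpa [iter_succ, iter_zero] using this
        have hT : N ≤ Subgroup.normalizer ((⁅M, G⁆ : Subgroup L) : Set L) :=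
          normalN ⁅M, G⁆ (commutator_le_left_of_le_normalizer M G hGM)
            (le_normalizer_commutator_right M G hGM)
        have hMle : M ≤ ⁅M, G⁆ := by
          rw [hMdef, Subgroup.commutator_le]
          intro y hy g hg
          rw [← hsup, Subgroup.sup_eq_closure] at hy
          have key : y ∈ N ∧ ∀ g ∈ G, ⁅y, g⁆ ∈ ⁅M, G⁆ := by
            refine Subgroup.closure_induction
              (p := fun y _ => y ∈ N ∧ ∀ g ∈ G, ⁅y, g⁆ ∈ ⁅M, G⁆) ?_ ?_ ?_ ?_ hy
            · rintro y (hyH | hyM)
              · exact ⟨hHN hyH, fun g hg => hK1 (Subgroup.commutator_mem_commutator hyH hg)⟩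
              · exact ⟨hMN hyM, fun g hg => Subgroup.commutator_mem_commutator hyM hg⟩
            · exact ⟨N.one_mem, fun g _ => by
                rw [commutatorElement_one_left]; exact Subgroup.one_mem _⟩
            · rintro y₁ y₂ _ _ ⟨h1N, h1⟩ ⟨h2N, h2⟩
              refine ⟨N.mul_mem h1N h2N, fun g hg => ?_⟩
              have : ⁅y₁ * y₂, g⁆ = y₁ * ⁅y₂, g⁆ * y₁⁻¹ * ⁅y₁, g⁆ := by
                simp only [commutatorElement_def]; group
              rw [this]
              exact Subgroup.mul_mem _
                ((Subgroup.mem_normalizer_iff.mp (hT h1N) _).mp (h2 g hg)) (h1 g hg)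
            · rintro y _ ⟨h1N, h1⟩
              refine ⟨N.inv_mem h1N, fun g hg => ?_⟩
              have : ⁅y⁻¹, g⁆ = y⁻¹ * ⁅y, g⁆⁻¹ * y⁻¹⁻¹ := by
                simp only [commutatorElement_def]; group
              rw [this]
              exact (Subgroup.mem_normalizer_iff.mp (hT (N.inv_mem h1N)) _).mp
                (Subgroup.inv_mem _ (h1 g hg))
          exact key.2 g hg
        have := commutator_ne_of_pgroups p M G hMp hG hGM hM1
        exact this (le_antisymm (commutator_le_left_of_le_normalizer M G hGM) hMle)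

end

end Cfsg.Agent.Lib.Lead.Uniserial
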