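import Mathlib
import Cfsg.Agent.Lib.Helper4.VLBasic

set_option autoImplicit false

/-! Shared definitions for the formalisation of Vaughan-Lee's theorem (S3777),
following `notes/S3777_PROOF_helper2.md`. -/

namespace Cfsg.Agent.Lib.Lead.VL

open Subgroup

/-- `Phi p G`: the subgroup generated by all commutators and all `p`-th powers
(for a finite `p`-group this is the Frattini subgroup, but that fact is never used). -/
def Phi (p : ℕ) (G : Type*) [Group G] : Subgroup G :=
  commutator G ⊔ Subgroup.closure (Set.range fun g : G => g ^ p)

/-- `Gam p G := [Phi p G, G]`. -/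
def Gam (p : ℕ) (G : Type*) [Group G] : Subgroup G := ⁅Phi p G, (⊤ : Subgroup G)⁆

end Cfsg.Agent.Lib.Lead.VL
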