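import Mathlib
import Cfsg.Agent.Lib.Helper4.WeakClosure2
import Cfsg.Agent.Lib.Helper4.Sect1
import Cfsg.Agent.Lib.Helper9.TH2
import Cfsg.Agent.Lib.Helper9.CFP6
import Cfsg.Agent.Lib.Helper9.PCore
import Cfsg.Agent.Lib.Lead.QuadJ

set_option autoImplicit false

/-!
# Weak closure of elements for the Thompson subgroup `J`: reduction to local subgroups

The functor `J` (abelian version) as a conjugacy functor, the quadratic element in subgroup form, and the reduction of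
the weak closure of an element of `Z(N_G(J(S)))` to a centrality statement in the normalizers of well-placed subgroups.
-/

namespace Cfsg.Agent.Lib.Lead.WCLocal

open Cfsg Cfsg.Agent.Lib.Helper4 Cfsg.Agent.Lib.Helper9 Cfsg.Agent.Lib.Lead Cfsg.Agent.Lib.Lead.QuadJ

universe u

variable {p : ℕ} [hp : Fact p.Prime]

theorem isCharPFunctor_WJ : IsCharPFunctor.{u} p WJ.{u} := by
  refine ⟨?_, hW2_WJ⟩
  intro Q _ _ _ hnt
  haveI := hnt
  exact ZJFun.thompsonSubgroupA_ne_bot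

theorem isConjugacyFunctor_J {G : Type u} [Group G] [Finite G] :
    IsConjugacyFunctor p (fun P : Subgroup G => thompsonSubgroupAOf P) :=
  isConjugacyFunctor_inducedFunctor (X := G) (isCharPFunctor_WJ (p := p))

theorem zOf_le_J {G : Type u} [Group G] [Finite G] (P : Subgroup G) :
    P ⊓ Subgroup.centralizer (P : Set G) ≤ thompsonSubgroupAOf P := by
  intro x hx
  rw [Subgroup.mem_inf] at hx
  have h1 : (⟨x, hx.1⟩ : ↥P) ∈ Subgroup.center ↥P := by
    rw [Subgroup.mem_center_iff]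
    intro y
    apply Subtype.ext
    exact (Subgroup.mem_centralizer_iff.mp hx.2) y y.2
  exact ⟨⟨x, hx.1⟩, Cfsg.Agent.H9CFP.center_le_thompsonSubgroupA ↥P h1, rfl⟩

/-- the centre of a subgroup of a subgroup, mapped to the ambient group -/
theorem map_center_map {G : Type u} [Group G] (H : Subgroup G) (Q : Subgroup ↥H) :
    ((Subgroup.center ↥Q).map Q.subtype).map H.subtype =
      Q.map H.subtype ⊓ Subgroup.centralizer ((Q.map H.subtype : Subgroup G) : Set G) := by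
  ext y
  constructor
  · rintro ⟨_, ⟨z, hz, rfl⟩, rfl⟩
    rw [Subgroup.mem_inf]
    refine ⟨⟨(z : ↥H), z.2, rfl⟩, ?_⟩
    rw [Subgroup.mem_centralizer_iff]
    rintro _ ⟨q, hq, rfl⟩
    have h1 := Subgroup.mem_center_iff.mp hz ⟨q, hq⟩
    have h2 := congrArg (fun w : ↥Q => ((w : ↥H) : G)) h1
    exact h2
  · intro hy
    rw [Subgroup.mem_inf] at hy
    obtain ⟨⟨q, hq, rfl⟩, hc⟩ := hy
    refine ⟨q, ⟨⟨q, hq⟩, ?_, rfl⟩, rfl⟩
    show (⟨q, hq⟩ : ↥Q) ∈ Subgroup.center ↥Q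
    rw [Subgroup.mem_center_iff]
    intro r
    apply Subtype.ext
    apply Subtype.ext
    exact (Subgroup.mem_centralizer_iff.mp hc) _ ⟨(r : ↥H), r.2, rfl⟩

/-- the quadratic element in a subgroup `H` where `J` of a Sylow subgroup is not normal -/
theorem exists_quadratic_J {G : Type u} [Group G] [Finite G]
    (H T : Subgroup G) (hTH : T ≤ H) (hTp : IsPGroup p ↥T) (hTi : ¬ p ∣ T.relIndex H)
    (hnot : ¬ H ≤ Subgroup.normalizer ((thompsonSubgroupAOf T : Subgroup G) : Set G)) :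
    ∃ g : G, g ∈ T ∧ g ∉ pCoreOf p H ∧
      ⁅⁅pCoreOf p H ⊓ Subgroup.centralizer ((pCoreOf p H : Subgroup G) : Set G), Subgroup.zpowers g⁆,
        Subgroup.zpowers g⁆ = ⊥ := by
  have hinj := H.subtype_injective
  have hT' : IsPGroup p (T.subgroupOf H) := hTp.comap_subtype
  obtain ⟨S', hS'⟩ : ∃ S' : Sylow p ↥H, (S' : Subgroup ↥H) = T.subgroupOf H :=
    ⟨hT'.toSylow hTi, rfl⟩
  have hS'map : (S' : Subgroup ↥H).map H.subtype = T := by
    rw [hS']; exact Subgroup.map_subgroupOf_eq_of_le hTH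
  have hval : (thompsonSubgroupAOf (S' : Subgroup ↥H)).map H.subtype = thompsonSubgroupAOf T := by
    rw [← hS'map]
    exact (Cfsg.Agent.H9ZJ.thompsonAOf_map H.subtype hinj (S' : Subgroup ↥H)).symm
  have hnn : ¬ (thompsonSubgroupAOf (S' : Subgroup ↥H)).Normal := by
    intro hn
    apply hnot
    intro h hh
    rw [← hval, Subgroup.mem_normalizer_iff]
    intro y
    constructor
    · rintro ⟨y', hy', rfl⟩
      exact ⟨⟨h, hh⟩ * y' * ⟨h, hh⟩⁻¹, hn.conj_mem _ hy' _, rfl⟩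
    · rintro ⟨y', hy', hyy⟩
      have h1 := hn.conj_mem _ hy' ⟨h, hh⟩⁻¹
      refine ⟨⟨h, hh⟩⁻¹ * y' * ⟨h, hh⟩⁻¹⁻¹, h1, ?_⟩
      show h⁻¹ * (y' : G) * h⁻¹⁻¹ = y
      have : (y' : G) = h * y * h⁻¹ := hyy
      rw [this]; group
  obtain ⟨g', hg'S, hg'Q, hquad⟩ := hq_WJ ↥H S' hnn
  refine ⟨(g' : G), ?_, ?_, ?_⟩
  · rw [← hS'map]; exact ⟨g', hg'S, rfl⟩
  · rintro ⟨y, hy, hyg⟩
    have : y = g' := Subtype.ext hyg
    rw [this] at hy
    exact hg'Q hy
  · have h1 := congrArg (Subgroup.map H.subtype) hquad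
    rw [Subgroup.map_commutator, Subgroup.map_commutator, map_center_map, MonoidHom.map_zpowers,
      Subgroup.map_bot] at h1
    exact h1

/-- **Reduction to local subgroups.** An element `x` of `Z(S)` centralized by `N_G(J(S))` is weakly closed in `S`,
provided that in every subgroup `L` with Sylow subgroup `P`, an element of `O_p(L) ∩ Z(P)` with underlying element `x`
centralized by `N_L(J(P))` is central in `L`. -/
theorem wc_of_local_pcore {G : Type u} [Group G] [Finite G] (S : Sylow p G) (x : G)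
    (hxS : x ∈ (S : Subgroup G)) (hxc : ∀ y ∈ (S : Subgroup G), y * x = x * y)
    (hxN : ∀ n ∈ Subgroup.normalizer ((thompsonSubgroupAOf (S : Subgroup G) : Subgroup G) : Set G),
      n * x * n⁻¹ = x)
    (hloc : ∀ (L : Subgroup G) (P : Sylow p ↥L) (x' : ↥L), (x' : G) = x → x' ∈ Cfsg.pCore p ↥L →
      x' ∈ (P : Subgroup ↥L) → (∀ y ∈ (P : Subgroup ↥L), y * x' = x' * y) →
      (∀ g ∈ Subgroup.normalizer ((thompsonSubgroupAOf (P : Subgroup ↥L) : Subgroup ↥L) : Set ↥L),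
        g * x' = x' * g) → x' ∈ Subgroup.center ↥L) :
    ∀ g : G, g * x * g⁻¹ ∈ (S : Subgroup G) → g * x * g⁻¹ = x := by
  intro g hgS
  by_contra hgx
  have hxZ : x ∈ (S : Subgroup G) ⊓ Subgroup.centralizer ((S : Subgroup G) : Set G) := by
    rw [Subgroup.mem_inf]
    refine ⟨hxS, ?_⟩
    rw [Subgroup.mem_centralizer_iff]
    exact fun y hy => hxc y hy
  obtain ⟨T, hwp, hxT, hNT, hSyl, g', hg'N, hg'x⟩ :=
    exists_wellPlaced_fusion S (fun P : Subgroup G => thompsonSubgroupAOf P) isConjugacyFunctor_J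
      (fun P _ => zOf_le_J P) x hxZ hxN g hgS hgx
  obtain ⟨L, hLdef⟩ : ∃ L, L = Subgroup.normalizer ((T : Subgroup G) : Set G) := ⟨_, rfl⟩
  obtain ⟨R, hRdef⟩ : ∃ R, R = (S : Subgroup G) ⊓ L := ⟨_, rfl⟩
  rw [← hLdef] at hSyl hg'N hNT
  rw [← hRdef] at hNT hSyl
  have hRL : R ≤ L := by rw [hRdef]; exact inf_le_right
  have hRS : R ≤ (S : Subgroup G) := by rw [hRdef]; exact inf_le_left
  have hRp : IsPGroup p R := S.2.to_le hRS
  have hTL : T ≤ L := by rw [hLdef]; exact Subgroup.le_normalizer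
  have hinj := L.subtype_injective
  have hR' : IsPGroup p (R.subgroupOf L) := hRp.comap_subtype
  obtain ⟨P, hP⟩ : ∃ P : Sylow p ↥L, (P : Subgroup ↥L) = R.subgroupOf L := ⟨hR'.toSylow hSyl, rfl⟩
  have hPmap : (P : Subgroup ↥L).map L.subtype = R := by
    rw [hP]; exact Subgroup.map_subgroupOf_eq_of_le hRL
  have hxL : x ∈ L := hTL hxT
  have hxR : x ∈ R := by rw [hRdef]; exact ⟨hxS, hxL⟩
  -- `T` is a normal `p`-subgroup of `L`
  have hTn : (T.subgroupOf L).Normal := by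
    rw [hLdef]; exact Subgroup.normal_in_normalizer
  have hTp : IsPGroup p (T.subgroupOf L) := (S.2.to_le hwp.1).comap_subtype
  have hx'Q : (⟨x, hxL⟩ : ↥L) ∈ Cfsg.pCore p ↥L :=
    le_pCore hTn hTp (Subgroup.mem_subgroupOf.mpr hxT)
  have hx'P : (⟨x, hxL⟩ : ↥L) ∈ (P : Subgroup ↥L) := by
    rw [hP]; exact Subgroup.mem_subgroupOf.mpr hxR
  have hx'c : ∀ y ∈ (P : Subgroup ↥L), y * (⟨x, hxL⟩ : ↥L) = ⟨x, hxL⟩ * y := by
    intro y hy
    rw [hP] at hy
    apply Subtype.ext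
    exact hxc (y : G) (hRS (Subgroup.mem_subgroupOf.mp hy))
  have hx'N : ∀ g ∈ Subgroup.normalizer ((thompsonSubgroupAOf (P : Subgroup ↥L) : Subgroup ↥L) : Set ↥L),
      g * (⟨x, hxL⟩ : ↥L) = ⟨x, hxL⟩ * g := by
    intro n hn
    have h1 : (n : G) ∈ Subgroup.normalizer ((thompsonSubgroupAOf R : Subgroup G) : Set G) := by
      rw [← hPmap, Cfsg.Agent.H9ZJ.thompsonAOf_map L.subtype hinj]
      exact Subgroup.le_normalizer_map L.subtype ⟨n, hn, rfl⟩
    have h2 := hNT (n : G) h1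
    apply Subtype.ext
    show (n : G) * x = x * (n : G)
    calc (n : G) * x = ((n : G) * x * (n : G)⁻¹) * (n : G) := by group
      _ = x * (n : G) := by rw [h2]
  have hcen := hloc L P ⟨x, hxL⟩ rfl hx'Q hx'P hx'c hx'N
  apply hg'x
  have h3 := Subgroup.mem_center_iff.mp hcen ⟨g', hg'N⟩
  have h4 : g' * x = x * g' := congrArg Subtype.val h3
  calc g' * x * g'⁻¹ = (x * g') * g'⁻¹ := by rw [h4]
    _ = x := by group

end Cfsg.Agent.Lib.Lead.WCLocal
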