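import Mathlib
import Cfsg.Prelude
import Cfsg.Agent.Lib.Helper2.WG.Defs3
import Cfsg.Agent.Lib.Helper1.WG_F0
import Cfsg.Agent.Lib.Helper9.WG_R1
import Cfsg.Agent.Lib.Helper1.CharFound5

set_option autoImplicit false

/-!
# S2524 PK-SL2: the `SL₂` lemma `Classif ψ 1`
-/

namespace Cfsg.Agent.Lib.Helper2.WG

open Matrix Cfsg Cfsg.Agent.H9SpF Cfsg.Agent.Lib.Helper6.Siegel Cfsg.Agent.Lib.Helper1.SUMin
open scoped ComplexConjugate

universe u

variable {F : Type u} [Field F] [Fintype F]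

namespace PkSL2

/-- the unipotent element `[[1,t],[0,1]]` -/
def uu (t : F) : Sp 1 F := siegHom (sym1Equiv t)

/-- Siegel multiplicity at the scalar `s` -/
noncomputable def mq (ψ : AddChar F ℂ) (χ : Sp 1 F → ℂ) (s : F) : ℂ :=
  qmult ψ χ (sym1Equiv s).1

theorem sym1_val (s : F) : ((sym1Equiv s : symAdd 1 F) : Matrix (Fin 1) (Fin 1) F) =
    Matrix.of fun _ _ => s := rfl

theorem trPair_sym1 (s t : F) : trPair ((sym1Equiv s : symAdd 1 F) : Matrix (Fin 1) (Fin 1) F)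
    (sym1Equiv t) = s * t := by
  rw [trPair_apply, sym1_val, sym1_val]
  simp [Matrix.trace, Matrix.mul_apply]

theorem char_uu (h2 : (2 : F) ≠ 0) (ψ : AddChar F ℂ) (hψ : ψ ≠ 1) (χ : Sp 1 F → ℂ) (t : F) :
    χ (uu t) = ∑ s : F, mq ψ χ s * ψ (s * t) := by
  unfold uu
  rw [fourier_inv h2 ψ hψ χ (sym1Equiv t)]
  refine (Fintype.sum_equiv (sym1Equiv (F := F)).toEquiv _ _ (fun s => ?_)).symm
  show mq ψ χ s * ψ (s * t) = qmult ψ χ (sym1Equiv s).1 * trChar ψ (sym1Equiv s).1 (sym1Equiv t)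
  rw [trChar_apply, trPair_sym1]
  rfl

theorem sym1_sq (c w : F) : ((sym1Equiv (c * (w * w)) : symAdd 1 F) : Matrix (Fin 1) (Fin 1) F) =
    c • vecMulVec (fun _ => w) (fun _ => w) := by
  ext i j
  simp [sym1_val, vecMulVec_apply]

theorem mq_sq (ψ : AddChar F ℂ) {χ : Sp 1 F → ℂ} (hχ : IsClassFunction (Sp 1 F) χ) (d w : F)
    (hw : w ≠ 0) : mq ψ χ (d * (w * w)) = mq ψ χ d := by
  have h1 : mq ψ χ d = qmult ψ χ (d • vecMulVec (fun _ : Fin 1 => (1 : F)) (fun _ => 1)) := by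
    unfold mq
    rw [← sym1_sq, mul_one, mul_one]
  rw [h1]
  unfold mq
  rw [sym1_sq]
  refine qmult_rank_one ψ hχ d _ _ ?_ ?_
  · intro h
    exact hw (congrFun h 0)
  · intro h
    exact one_ne_zero (congrFun h 0)

section eta

variable [DecidableEq F]

/-- the complex quadratic character -/
noncomputable def eta (F : Type u) [Field F] [Fintype F] [DecidableEq F] : MulChar F ℂ :=
  (quadraticChar F).ringHomComp (Int.castRingHom ℂ)

theorem eta_apply (x : F) : eta F x = ((quadraticChar F x : ℤ) : ℂ) := rfl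

theorem eta_cases {x : F} (hx : x ≠ 0) :
    (IsSquare x ∧ eta F x = 1) ∨ (¬ IsSquare x ∧ eta F x = -1) := by
  rcases quadraticChar_dichotomy hx with h | h
  · left
    refine ⟨(quadraticChar_one_iff_isSquare hx).1 h, ?_⟩
    rw [eta_apply, h]
    simp
  · right
    refine ⟨quadraticChar_neg_one_iff_not_isSquare.1 h, ?_⟩
    rw [eta_apply, h]
    simp

theorem eta_nonsq {x : F} (hx : ¬ IsSquare x) : eta F x = -1 := by
  have hx0 : x ≠ 0 := fun h => hx (h ▸ IsSquare.zero)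
  rcases eta_cases hx0 with h | h
  · exact absurd h.1 hx
  · exact h.2

theorem eta_sq_eq_one {x : F} (hx : x ≠ 0) : eta F x * eta F x = 1 := by
  rcases eta_cases hx with h | h <;> rw [h.2] <;> norm_num

theorem conj_eta (x : F) : conj (eta F x) = eta F x := by
  rw [eta_apply]
  exact map_intCast (starRingEnd ℂ) _

theorem eta_ne_one (hF : ringChar F ≠ 2) : eta F ≠ 1 :=
  (MulChar.ringHomComp_ne_one_iff (Int.cast_injective (α := ℂ))).2 (quadraticChar_ne_one hF)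

/-- a product of two nonsquares is a square -/
theorem isSquare_mul_of_nonsq {x y : F} (hx0 : x ≠ 0) (hx : ¬ IsSquare x) (hy : ¬ IsSquare y) :
    IsSquare (x * y) := by
  have hy0 : y ≠ 0 := fun h => hy (h ▸ IsSquare.zero)
  rw [← quadraticChar_one_iff_isSquare (mul_ne_zero hx0 hy0), map_mul,
    quadraticChar_neg_one_iff_not_isSquare.2 hx, quadraticChar_neg_one_iff_not_isSquare.2 hy]
  norm_num

theorem nonsq_inv {ν : F} (hν : ¬ IsSquare ν) : ¬ IsSquare ν⁻¹ := by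
  intro h
  apply hν
  obtain ⟨w, hw⟩ := h
  refine ⟨w⁻¹, ?_⟩
  rw [← mul_inv, ← hw, inv_inv]

/-- the structure of the Siegel multiplicities of a class function of `Sp 1` -/
theorem mq_formula (ψ : AddChar F ℂ) {χ : Sp 1 F → ℂ} (hχ : IsClassFunction (Sp 1 F) χ) {c ν : F}
    (hc : c ≠ 0) (hν : ¬ IsSquare ν) {s : F} (hs : s ≠ 0) :
    mq ψ χ s = (mq ψ χ c + mq ψ χ (c * ν)) / 2 +
      (mq ψ χ c - mq ψ χ (c * ν)) / 2 * eta F (s * c⁻¹) := by
  have hx0 : s * c⁻¹ ≠ 0 := mul_ne_zero hs (inv_ne_zero hc)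
  rcases eta_cases hx0 with h | h
  · obtain ⟨w, hw⟩ := h.1
    have hw0 : w ≠ 0 := by
      rintro rfl
      rw [mul_zero] at hw
      exact hx0 hw
    have hs' : s = c * (w * w) := by
      rw [← hw]
      field_simp
    rw [h.2, hs', mq_sq ψ hχ c w hw0]
    ring
  · have hsq := isSquare_mul_of_nonsq hx0 h.1 (nonsq_inv hν)
    obtain ⟨w, hw⟩ := hsq
    have hν0 : ν ≠ 0 := fun h0 => hν (h0 ▸ IsSquare.zero)
    have hw0 : w ≠ 0 := by
      rintro rfl
      rw [mul_zero] at hw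
      exact (mul_ne_zero hx0 (inv_ne_zero hν0)) hw
    have hs' : s = c * ν * (w * w) := by
      rw [← hw]
      field_simp
    rw [h.2, hs', mq_sq ψ hχ (c * ν) w hw0]
    ring

/-- the twisted Gauss sum -/
noncomputable def GS (ψ : AddChar F ℂ) (c t : F) : ℂ := ∑ s : F, eta F (s * c⁻¹) * ψ (s * t)

theorem sum_psi_mul (ψ : AddChar F ℂ) (hψ : ψ ≠ 1) {t : F} (ht : t ≠ 0) :
    ∑ s : F, ψ (s * t) = 0 := by
  have h := AddChar.sum_eq_zero_of_ne_one (AddChar.IsPrimitive.of_ne_one hψ ht)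
  rw [← h]
  refine Finset.sum_congr rfl (fun s _ => ?_)
  rw [AddChar.mulShift_apply, mul_comm]

theorem char_uu_formula (h2 : (2 : F) ≠ 0) (ψ : AddChar F ℂ) (hψ : ψ ≠ 1) {χ : Sp 1 F → ℂ}
    (hχ : IsClassFunction (Sp 1 F) χ) {c ν : F} (hc : c ≠ 0) (hν : ¬ IsSquare ν) {t : F}
    (ht : t ≠ 0) :
    χ (uu t) = mq ψ χ 0 - (mq ψ χ c + mq ψ χ (c * ν)) / 2 +
      (mq ψ χ c - mq ψ χ (c * ν)) / 2 * GS ψ c t := by
  rw [char_uu h2 ψ hψ χ t]
  have hterm : ∀ s : F, mq ψ χ s * ψ (s * t) =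
      (mq ψ χ c + mq ψ χ (c * ν)) / 2 * ψ (s * t) +
        (mq ψ χ c - mq ψ χ (c * ν)) / 2 * (eta F (s * c⁻¹) * ψ (s * t)) +
        (if s = 0 then mq ψ χ 0 - (mq ψ χ c + mq ψ χ (c * ν)) / 2 else 0) := by
    intro s
    by_cases hs : s = 0
    · subst hs
      rw [if_pos rfl, zero_mul, zero_mul, MulChar.map_zero, AddChar.map_zero_eq_one]
      ring
    · rw [if_neg hs, mq_formula ψ hχ hc hν hs]
      ring
  rw [Finset.sum_congr rfl (fun s _ => hterm s), Finset.sum_add_distrib, Finset.sum_add_distrib,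
    ← Finset.mul_sum, ← Finset.mul_sum, sum_psi_mul ψ hψ ht, Finset.sum_ite_eq' Finset.univ (0 : F)]
  simp only [Finset.mem_univ, if_true, GS]
  ring

theorem GS_eq (ψ : AddChar F ℂ) {c t : F} (ht : t ≠ 0) :
    GS ψ c t = eta F c⁻¹ * eta F t * gaussSum (eta F) ψ := by
  unfold GS gaussSum
  rw [Finset.mul_sum]
  refine Fintype.sum_equiv (Equiv.mulRight₀ t ht) _ _ (fun s => ?_)
  show eta F (s * c⁻¹) * ψ (s * t) = eta F c⁻¹ * eta F t * (eta F (s * t) * ψ (s * t))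
  rw [map_mul (eta F) s c⁻¹, map_mul (eta F) s t]
  have h := eta_sq_eq_one ht
  calc eta F s * eta F c⁻¹ * ψ (s * t) = eta F c⁻¹ * (eta F t * eta F t) * eta F s * ψ (s * t) := by
        rw [h]; ring
    _ = _ := by ring

theorem diff_formula (h2 : (2 : F) ≠ 0) (ψ : AddChar F ℂ) (hψ : ψ ≠ 1) {χ : Sp 1 F → ℂ}
    (hχ : IsClassFunction (Sp 1 F) χ) {c ν : F} (hc : c ≠ 0) (hν : ¬ IsSquare ν) :
    χ (uu 1) - χ (uu ν) =
      (mq ψ χ c - mq ψ χ (c * ν)) * (eta F c⁻¹ * gaussSum (eta F) ψ) := by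
  have hν0 : ν ≠ 0 := fun h0 => hν (h0 ▸ IsSquare.zero)
  rw [char_uu_formula h2 ψ hψ hχ hc hν one_ne_zero, char_uu_formula h2 ψ hψ hχ hc hν hν0,
    GS_eq ψ one_ne_zero, GS_eq ψ hν0, map_one, eta_nonsq hν]
  ring

theorem gauss_norm (hF : ringChar F ≠ 2) (ψ : AddChar F ℂ) (hψ : ψ ≠ 1) {c : F} (hc : c ≠ 0) :
    (eta F c⁻¹ * gaussSum (eta F) ψ) * conj (eta F c⁻¹ * gaussSum (eta F) ψ) =
      (Fintype.card F : ℂ) := by
  have h1 : gaussSum (eta F) ψ * conj (gaussSum (eta F) ψ) = (Fintype.card F : ℂ) := by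
    rw [starRingEnd_apply, star_gaussSum_eq,
      gaussSum_mul_gaussSum_eq_card (eta_ne_one hF) (AddChar.IsPrimitive.of_ne_one hψ)]
  rw [map_mul, conj_eta]
  calc eta F c⁻¹ * gaussSum (eta F) ψ * (eta F c⁻¹ * conj (gaussSum (eta F) ψ)) =
      (eta F c⁻¹ * eta F c⁻¹) * (gaussSum (eta F) ψ * conj (gaussSum (eta F) ψ)) := by ring
    _ = _ := by rw [eta_sq_eq_one (inv_ne_zero hc), h1, one_mul]

end eta

section mat

omit [Fintype F]

theorem ext4 {X Y : Matrix (Fin 1 ⊕ Fin 1) (Fin 1 ⊕ Fin 1) F}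
    (h1 : X (Sum.inl 0) (Sum.inl 0) = Y (Sum.inl 0) (Sum.inl 0))
    (h2 : X (Sum.inl 0) (Sum.inr 0) = Y (Sum.inl 0) (Sum.inr 0))
    (h3 : X (Sum.inr 0) (Sum.inl 0) = Y (Sum.inr 0) (Sum.inl 0))
    (h4 : X (Sum.inr 0) (Sum.inr 0) = Y (Sum.inr 0) (Sum.inr 0)) : X = Y := by
  ext i j
  rcases i with i | i <;> rcases j with j | j <;>
    (rw [Fin.fin_one_eq_zero i, Fin.fin_one_eq_zero j]; assumption)

theorem uu_val (t : F) : ((uu t : Sp 1 F) : Matrix (Fin 1 ⊕ Fin 1) (Fin 1 ⊕ Fin 1) F) =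
    fromBlocks 1 (Matrix.of fun _ _ => t) 0 1 := rfl

theorem det_eq (g : Sp 1 F) :
    g.1 (Sum.inl 0) (Sum.inl 0) * g.1 (Sum.inr 0) (Sum.inr 0) -
      g.1 (Sum.inl 0) (Sum.inr 0) * g.1 (Sum.inr 0) (Sum.inl 0) = 1 := by
  have h := SymplecticGroup.mem_iff.1 g.2
  have h1 := congrFun (congrFun h (Sum.inl 0)) (Sum.inr 0)
  simp [Matrix.mul_apply, Fintype.sum_sum_type, Matrix.J, Matrix.fromBlocks] at h1
  linear_combination (-1 : F) * h1

/-- entries of a matrix intertwining two unipotent elements -/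
theorem intertwine {g : Sp 1 F} {t t' : F} (ht' : t' ≠ 0) (h : g * uu t = uu t' * g) :
    g.1 (Sum.inr 0) (Sum.inl 0) = 0 ∧
      g.1 (Sum.inl 0) (Sum.inl 0) * t = t' * g.1 (Sum.inr 0) (Sum.inr 0) := by
  have hm : g.1 * (uu t).1 = (uu t').1 * g.1 := congrArg Subtype.val h
  rw [uu_val, uu_val] at hm
  have h1 := congrFun (congrFun hm (Sum.inl 0)) (Sum.inl 0)
  have h2 := congrFun (congrFun hm (Sum.inl 0)) (Sum.inr 0)
  simp [Matrix.mul_apply, Fintype.sum_sum_type, Matrix.fromBlocks] at h1 h2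
  constructor
  · rcases h1 with h1 | h1
    · exact absurd h1 ht'
    · exact h1
  · linear_combination h2

theorem not_isConj_uu {ν : F} (hν : ¬ IsSquare ν) : ¬ IsConj (uu (1 : F)) (uu ν) := by
  intro h
  obtain ⟨g, hg⟩ := isConj_iff.1 h
  have hν0 : ν ≠ 0 := fun h0 => hν (h0 ▸ IsSquare.zero)
  have hg' : g * uu 1 = uu ν * g := by
    rw [← hg]
    group
  obtain ⟨hc, had⟩ := intertwine hν0 hg'
  have hdet := det_eq g
  rw [hc, mul_zero, sub_zero] at hdet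
  rw [mul_one] at had
  apply hν
  refine ⟨g.1 (Sum.inl 0) (Sum.inl 0), ?_⟩
  calc ν = ν * (g.1 (Sum.inl 0) (Sum.inl 0) * g.1 (Sum.inr 0) (Sum.inr 0)) := by
        rw [hdet, mul_one]
    _ = g.1 (Sum.inl 0) (Sum.inl 0) * (ν * g.1 (Sum.inr 0) (Sum.inr 0)) := by ring
    _ = _ := by rw [← had]

end mat

theorem card_centralizer_uu_le {t : F} (ht : t ≠ 0) :
    Nat.card (Subgroup.centralizer ({uu t} : Set (Sp 1 F))) ≤ 2 * Fintype.card F := by
  classical
  have hcard : Nat.card (Bool × F) = 2 * Fintype.card F := by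
    rw [Nat.card_eq_fintype_card, Fintype.card_prod, Fintype.card_bool]
  rw [← hcard]
  refine Nat.card_le_card_of_injective
    (fun g : Subgroup.centralizer ({uu t} : Set (Sp 1 F)) =>
      (decide (g.1.1 (Sum.inl 0) (Sum.inl 0) = 1), g.1.1 (Sum.inl 0) (Sum.inr 0))) ?_
  have key : ∀ g : Subgroup.centralizer ({uu t} : Set (Sp 1 F)),
      g.1.1 (Sum.inr 0) (Sum.inl 0) = 0 ∧
      g.1.1 (Sum.inr 0) (Sum.inr 0) = g.1.1 (Sum.inl 0) (Sum.inl 0) ∧
      (g.1.1 (Sum.inl 0) (Sum.inl 0) = 1 ∨ g.1.1 (Sum.inl 0) (Sum.inl 0) = -1) := by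
    intro g
    have hg : g.1 * uu t = uu t * g.1 := (Subgroup.mem_centralizer_iff.1 g.2 (uu t) rfl).symm
    obtain ⟨hc, had⟩ := intertwine ht hg
    have had' : g.1.1 (Sum.inr 0) (Sum.inr 0) = g.1.1 (Sum.inl 0) (Sum.inl 0) := by
      have : t * g.1.1 (Sum.inr 0) (Sum.inr 0) = t * g.1.1 (Sum.inl 0) (Sum.inl 0) := by
        rw [← had, mul_comm]
      exact mul_left_cancel₀ ht this
    have hdet := det_eq g.1
    rw [hc, mul_zero, sub_zero, had'] at hdet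
    refine ⟨hc, had', ?_⟩
    exact mul_self_eq_one_iff.1 hdet
  intro g g' hgg
  simp only [Prod.mk.injEq, decide_eq_decide] at hgg
  obtain ⟨h1, h2⟩ := hgg
  obtain ⟨hc, hd, ha⟩ := key g
  obtain ⟨hc', hd', ha'⟩ := key g'
  have haa : g.1.1 (Sum.inl 0) (Sum.inl 0) = g'.1.1 (Sum.inl 0) (Sum.inl 0) := by
    rcases ha with ha | ha
    · rw [ha, h1.1 ha]
    · rcases ha' with ha' | ha'
      · rw [h1.2 ha', ha']
      · rw [ha, ha']
  apply Subtype.ext
  apply Subtype.ext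
  exact ext4 haa h2 (by rw [hc, hc']) (by rw [hd, hd', haa])

theorem isChar_of_irr {G : Type u} [Group G] {χ : G → ℂ} (h : IsIrrCharacter G χ) :
    IsCharacter G χ := by
  obtain ⟨n, ρ, _, h⟩ := h
  exact ⟨n, ρ, h⟩

theorem mq_eq_one_sq (ψ : AddChar F ℂ) (χ : Sp 1 F → ℂ) (d : F) :
    mq ψ χ d = qmult ψ χ (d • vecMulVec (fun _ : Fin 1 => (1 : F)) (fun _ => 1)) := by
  unfold mq
  rw [← sym1_sq, mul_one, mul_one]

theorem weil_mq_one {ψ : AddChar F ℂ} {d : F} {E O : Sp 1 F → ℂ} {ε : ℂ}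
    (W : IsWeilPair ψ d E O ε) : mq ψ E d = 1 ∧ mq ψ O d = 1 := by
  rw [mq_eq_one_sq, mq_eq_one_sq]
  refine ⟨W.qE_one _, W.qO_one _ ?_⟩
  intro h
  exact one_ne_zero (congrFun h 0)

theorem weil_mq_zero {ψ : AddChar F ℂ} {d : F} {E O : Sp 1 F → ℂ} {ε : ℂ}
    (W : IsWeilPair ψ d E O ε) (d' : F) (hd' : ¬ ∃ w : F, d' = d * (w * w)) :
    mq ψ E d' = 0 ∧ mq ψ O d' = 0 := by
  have hno : ¬ ∃ w : Fin 1 → F, ((sym1Equiv d' : symAdd 1 F) : Matrix (Fin 1) (Fin 1) F) =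
      d • vecMulVec w w := by
    rintro ⟨w, hw⟩
    apply hd'
    refine ⟨w 0, ?_⟩
    have := congrFun (congrFun hw 0) 0
    simpa [sym1_val, vecMulVec_apply] using this
  exact ⟨W.qE_zero _ (mem_symAdd.1 (sym1Equiv d').2) hno,
    W.qO_zero _ (mem_symAdd.1 (sym1Equiv d').2) hno⟩

theorem weil_origin {ψ : AddChar F ℂ} {d : F} {E O : Sp 1 F → ℂ} {ε : ℂ}
    (W : IsWeilPair ψ d E O ε) : E ≠ O := by
  intro h
  have h1 := W.qE_one 0
  have h0 : d • vecMulVec (0 : Fin 1 → F) (0 : Fin 1 → F) = 0 := by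
    ext i j
    simp
  rw [h0, h, W.qO_origin] at h1
  exact zero_ne_one h1

end PkSL2

open PkSL2 Cfsg.Agent.Lib.Helper1 in
/-- PK-SL2, with the existence of Weil pairs of `Sp 1` (PK-C) as a hypothesis -/
theorem PkSL2.classif_one_core (hodd : Odd (Fintype.card F)) (ψ : AddChar F ℂ) (hψ : ψ ≠ 1)
    (hex : ∀ d : F, d ≠ 0 → ∃ (E O : Sp 1 F → ℂ) (ε : ℂ), IsWeilPair ψ d E O ε) :
    Classif (F := F) ψ 1 := by
  classical
  intro c hc E O ε hW β hβ hpure
  have hF : ringChar F ≠ 2 := by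
    intro h
    have h1 := FiniteField.even_card_iff_char_two.1 h
    obtain ⟨k, hk⟩ := hodd
    omega
  have h2 : (2 : F) ≠ 0 := Ring.two_ne_zero hF
  obtain ⟨ν, hν⟩ := FiniteField.exists_nonsquare hF
  have hν0 : ν ≠ 0 := fun h0 => hν (h0 ▸ IsSquare.zero)
  obtain ⟨E', O', ε', hW'⟩ := hex (c * ν) (mul_ne_zero hc hν0)
  have : Fintype (IrrCharacter (Sp 1 F)) := Fintype.ofFinite _
  -- non-representability of the other class
  have hno1 : ¬ ∃ w : F, c * ν = c * (w * w) := by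
    rintro ⟨w, hw⟩
    exact hν ⟨w, mul_left_cancel₀ hc hw⟩
  have hno2 : ¬ ∃ w : F, c = c * ν * (w * w) := by
    rintro ⟨w, hw⟩
    have hw0 : w ≠ 0 := by
      rintro rfl
      rw [mul_zero, mul_zero] at hw
      exact hc hw
    apply hν
    refine ⟨w⁻¹, ?_⟩
    have h1 : ν * (w * w) = 1 := by
      have : c * (ν * (w * w)) = c * 1 := by rw [mul_one, ← mul_assoc]; exact hw.symm
      exact mul_left_cancel₀ hc this
    field_simp
    linear_combination h1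
  obtain ⟨K, hK⟩ : ∃ K : ℂ, K = eta F c⁻¹ * gaussSum (eta F) ψ := ⟨_, rfl⟩
  have hKK : K * conj K = (Fintype.card F : ℂ) := by rw [hK]; exact gauss_norm hF ψ hψ hc
  have hab : ∀ χ : IrrCharacter (Sp 1 F), ∃ a b : ℕ, mq ψ χ.1 c = a ∧ mq ψ χ.1 (c * ν) = b := by
    intro χ
    obtain ⟨a, ha⟩ := qmult_nat ψ (isChar_of_irr χ.2) (sym1Equiv c).1
    obtain ⟨b, hb⟩ := qmult_nat ψ (isChar_of_irr χ.2) (sym1Equiv (c * ν)).1
    exact ⟨a, b, ha, hb⟩
  choose av bv hav hbv using hab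
  have hD : ∀ χ : IrrCharacter (Sp 1 F),
      χ.1 (uu 1) - χ.1 (uu ν) = ((av χ : ℂ) - bv χ) * K := by
    intro χ
    rw [diff_formula h2 ψ hψ (isClassFunction_irr χ.2) hc hν, hav, hbv, hK]
  -- column orthogonality
  have hsum : ∑ χ : IrrCharacter (Sp 1 F),
      (χ.1 (uu 1) - χ.1 (uu ν)) * conj (χ.1 (uu 1) - χ.1 (uu ν)) =
      (Nat.card (Subgroup.centralizer ({uu (1 : F)} : Set (Sp 1 F))) : ℂ) +
        (Nat.card (Subgroup.centralizer ({uu ν} : Set (Sp 1 F))) : ℂ) := by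
    have e : ∀ χ : IrrCharacter (Sp 1 F),
        (χ.1 (uu 1) - χ.1 (uu ν)) * conj (χ.1 (uu 1) - χ.1 (uu ν)) =
        χ.1 (uu 1) * conj (χ.1 (uu 1)) + χ.1 (uu ν) * conj (χ.1 (uu ν)) -
          χ.1 (uu 1) * conj (χ.1 (uu ν)) - χ.1 (uu ν) * conj (χ.1 (uu 1)) := by
      intro χ
      rw [map_sub]
      ring
    rw [Finset.sum_congr rfl (fun χ _ => e χ), Finset.sum_sub_distrib, Finset.sum_sub_distrib,
      Finset.sum_add_distrib, column_orthogonality (uu (1 : F)) (uu 1),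
      column_orthogonality (uu ν) (uu ν), column_orthogonality (uu ν) (uu 1),
      column_orthogonality (uu (1 : F)) (uu ν)]
    have hn1 : ¬ IsConj (uu (1 : F)) (uu ν) := not_isConj_uu hν
    have hn2 : ¬ IsConj (uu ν) (uu (1 : F)) := fun h => hn1 h.symm
    unfold classIndicator
    rw [if_pos (IsConj.refl _), if_pos (IsConj.refl _), if_neg hn1, if_neg hn2]
    ring
  -- pass to integers
  have hterm : ∀ χ : IrrCharacter (Sp 1 F),
      (χ.1 (uu 1) - χ.1 (uu ν)) * conj (χ.1 (uu 1) - χ.1 (uu ν)) =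
        (((((av χ : ℤ) - bv χ) ^ 2 * (Fintype.card F : ℤ) : ℤ)) : ℂ) := by
    intro χ
    rw [hD, map_mul, map_sub, Complex.conj_natCast, Complex.conj_natCast]
    push_cast
    rw [← hKK]
    ring
  rw [Finset.sum_congr rfl (fun χ _ => hterm χ)] at hsum
  have hq : (0 : ℤ) < (Fintype.card F : ℤ) := by exact_mod_cast Fintype.card_pos
  have hC1 := card_centralizer_uu_le (F := F) (one_ne_zero)
  have hCν := card_centralizer_uu_le hν0
  have hsumZ : ∑ χ : IrrCharacter (Sp 1 F), ((av χ : ℤ) - bv χ) ^ 2 ≤ 4 := by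
    have h1 : ((∑ χ : IrrCharacter (Sp 1 F), ((av χ : ℤ) - bv χ) ^ 2 * (Fintype.card F : ℤ) : ℤ) : ℂ)
        = ((Nat.card (Subgroup.centralizer ({uu (1 : F)} : Set (Sp 1 F))) +
          Nat.card (Subgroup.centralizer ({uu ν} : Set (Sp 1 F))) : ℕ) : ℂ) := by
      push_cast
      push_cast at hsum
      exact hsum
    have h2' : (∑ χ : IrrCharacter (Sp 1 F), ((av χ : ℤ) - bv χ) ^ 2 * (Fintype.card F : ℤ)) =
        ((Nat.card (Subgroup.centralizer ({uu (1 : F)} : Set (Sp 1 F))) +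
          Nat.card (Subgroup.centralizer ({uu ν} : Set (Sp 1 F))) : ℕ) : ℤ) := by
      exact_mod_cast h1
    rw [← Finset.sum_mul] at h2'
    have h3 : (∑ χ : IrrCharacter (Sp 1 F), ((av χ : ℤ) - bv χ) ^ 2) * (Fintype.card F : ℤ) ≤
        4 * (Fintype.card F : ℤ) := by
      rw [h2']
      have : Nat.card (Subgroup.centralizer ({uu (1 : F)} : Set (Sp 1 F))) +
          Nat.card (Subgroup.centralizer ({uu ν} : Set (Sp 1 F))) ≤ 4 * Fintype.card F := by omega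
      exact_mod_cast this
    exact le_of_mul_le_mul_right h3 hq
  -- the four Weil characters
  obtain ⟨hE1, hO1⟩ := weil_mq_one hW
  obtain ⟨hE0, hO0⟩ := weil_mq_zero hW (c * ν) hno1
  obtain ⟨hE1', hO1'⟩ := weil_mq_one hW'
  obtain ⟨hE0', hO0'⟩ := weil_mq_zero hW' c hno2
  have hbβ : mq ψ β (c * ν) = 0 := by
    by_contra hne
    obtain ⟨w, hw⟩ := hpure _ (mem_symAdd.1 (sym1Equiv (c * ν)).2) hne
    apply hno1
    refine ⟨w 0, ?_⟩
    have := congrFun (congrFun hw 0) 0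
    simpa [sym1_val, vecMulVec_apply] using this
  by_cases hβE : β = E
  · exact Or.inr (Or.inl hβE)
  by_cases hβO : β = O
  · exact Or.inr (Or.inr hβO)
  left
  have hβE' : β ≠ E' := by
    rintro rfl
    rw [hE1'] at hbβ
    exact one_ne_zero hbβ
  have hβO' : β ≠ O' := by
    rintro rfl
    rw [hO1'] at hbβ
    exact one_ne_zero hbβ
  -- the five elements
  let eE : IrrCharacter (Sp 1 F) := ⟨E, hW.irrE⟩
  let eO : IrrCharacter (Sp 1 F) := ⟨O, hW.irrO⟩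
  let eE' : IrrCharacter (Sp 1 F) := ⟨E', hW'.irrE⟩
  let eO' : IrrCharacter (Sp 1 F) := ⟨O', hW'.irrO⟩
  let eβ : IrrCharacter (Sp 1 F) := ⟨β, hβ⟩
  have natc : ∀ {x : ℂ} {n m : ℕ}, x = n → x = m → n = m := by
    intro x n m h1 h2
    have : (n : ℂ) = m := by rw [← h1, ← h2]
    exact_mod_cast this
  have v1 : av eE = 1 ∧ bv eE = 0 :=
    ⟨natc (hav eE) (by simpa using hE1), natc (hbv eE) (by simpa using hE0)⟩
  have v2 : av eO = 1 ∧ bv eO = 0 :=
    ⟨natc (hav eO) (by simpa using hO1), natc (hbv eO) (by simpa using hO0)⟩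
  have v3 : av eE' = 0 ∧ bv eE' = 1 :=
    ⟨natc (hav eE') (by simpa using hE0'), natc (hbv eE') (by simpa using hE1')⟩
  have v4 : av eO' = 0 ∧ bv eO' = 1 :=
    ⟨natc (hav eO') (by simpa using hO0'), natc (hbv eO') (by simpa using hO1')⟩
  have vβ : bv eβ = 0 := natc (hbv eβ) (by simpa using hbβ)
  have hEO : E ≠ O := weil_origin hW
  have hEO' : E' ≠ O' := weil_origin hW'
  have hEE' : E ≠ E' := by
    rintro rfl
    rw [hE1] at hE0'
    exact one_ne_zero hE0'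
  have hEO'' : E ≠ O' := by
    rintro rfl
    rw [hE1] at hO0'
    exact one_ne_zero hO0'
  have hOE' : O ≠ E' := by
    rintro rfl
    rw [hO1] at hE0'
    exact one_ne_zero hE0'
  have hOO' : O ≠ O' := by
    rintro rfl
    rw [hO1] at hO0'
    exact one_ne_zero hO0'
  have ne : ∀ {x y : IrrCharacter (Sp 1 F)}, x.1 ≠ y.1 → x ≠ y := fun h h' => h (congrArg _ h')
  have hsub : ∑ χ ∈ ({eβ, eE, eO, eE', eO'} : Finset (IrrCharacter (Sp 1 F))),
      ((av χ : ℤ) - bv χ) ^ 2 ≤ ∑ χ : IrrCharacter (Sp 1 F), ((av χ : ℤ) - bv χ) ^ 2 :=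
    Finset.sum_le_sum_of_subset_of_nonneg (Finset.subset_univ _) (fun _ _ _ => sq_nonneg _)
  rw [Finset.sum_insert, Finset.sum_insert, Finset.sum_insert, Finset.sum_insert,
    Finset.sum_singleton, v1.1, v1.2, v2.1, v2.2, v3.1, v3.2, v4.1, v4.2, vβ] at hsub
  · -- now av eβ = 0
    have haβ : (av eβ : ℤ) = 0 := by
      norm_num at hsub
      have h5 : ((av eβ : ℤ)) ^ 2 ≤ 0 := by linarith
      exact pow_eq_zero_iff (two_ne_zero) |>.1 (le_antisymm h5 (sq_nonneg _))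
    have haβ' : mq ψ β c = 0 := by
      have := hav eβ
      rw [this]
      exact_mod_cast haβ
    apply eq_one_of_qmult h2 ψ hψ le_rfl hβ
    intro M hM hM0
    have hMs : M = ((sym1Equiv (M 0 0) : symAdd 1 F) : Matrix (Fin 1) (Fin 1) F) := by
      ext i j
      rw [Fin.fin_one_eq_zero i, Fin.fin_one_eq_zero j]
      rfl
    have hs0 : M 0 0 ≠ 0 := by
      intro h
      apply hM0
      rw [hMs, h]
      ext i j
      rfl
    have := mq_formula ψ (isClassFunction_irr hβ) hc hν hs0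
    rw [haβ', hbβ] at this
    rw [hMs]
    show mq ψ β (M 0 0) = 0
    rw [this]
    ring
  · simp only [Finset.mem_singleton]
    exact ne hEO'
  · simp only [Finset.mem_insert, Finset.mem_singleton, not_or]
    exact ⟨ne hOE', ne hOO'⟩
  · simp only [Finset.mem_insert, Finset.mem_singleton, not_or]
    exact ⟨ne hEO, ne hEE', ne hEO''⟩
  · simp only [Finset.mem_insert, Finset.mem_singleton, not_or]
    exact ⟨ne hβE, ne hβO, ne hβE', ne hβO'⟩

end Cfsg.Agent.Lib.Helper2.WG
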