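import Mathlib
import Cfsg.Agent.Lib.Lead.ZJ4

set_option autoImplicit false

/-!
Stellmacher's characteristic subgroup `W(S)`: quadratic elements on a normal closure.
-/

namespace Cfsg.Agent.Lib.Lead

namespace WS

open scoped commutatorElement
open ZJ

variable {H : Type*} [Group H]

/-- powers of two elements acting in the same way on a normal subgroup act in the same way -/
theorem conj_pow_eq (V : Subgroup H) [hV : V.Normal] {y t : H}
    (h : ∀ v ∈ V, y * v * y⁻¹ = t * v * t⁻¹) (k : ℕ) :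
    ∀ v ∈ V, y ^ k * v * (y ^ k)⁻¹ = t ^ k * v * (t ^ k)⁻¹ := by
  induction k with
  | zero => intro v _; simp
  | succ k ih =>
    intro v hv
    have h1 : y ^ (k + 1) * v * (y ^ (k + 1))⁻¹ = y * (y ^ k * v * (y ^ k)⁻¹) * y⁻¹ := by
      rw [pow_succ']; group
    have h2 : t ^ (k + 1) * v * (t ^ (k + 1))⁻¹ = t * (t ^ k * v * (t ^ k)⁻¹) * t⁻¹ := by
      rw [pow_succ']; group
    rw [h1, h2, ih v hv]
    exact h _ (hV.conj_mem v hv _)

theorem conj_inv_eq (V : Subgroup H) [hV : V.Normal] {y t : H}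
    (h : ∀ v ∈ V, y * v * y⁻¹ = t * v * t⁻¹) :
    ∀ v ∈ V, y⁻¹ * v * y⁻¹⁻¹ = t⁻¹ * v * t⁻¹⁻¹ := by
  intro v hv
  have h1 := h (t⁻¹ * v * t⁻¹⁻¹) (hV.conj_mem v hv _)
  have h2 : t * (t⁻¹ * v * t⁻¹⁻¹) * t⁻¹ = v := by group
  rw [h2] at h1
  -- h1 : y * (t⁻¹ v t) * y⁻¹ = v
  calc y⁻¹ * v * y⁻¹⁻¹ = y⁻¹ * (y * (t⁻¹ * v * t⁻¹⁻¹) * y⁻¹) * y⁻¹⁻¹ := by rw [h1]
    _ = t⁻¹ * v * t⁻¹⁻¹ := by group

theorem conj_zpow_eq (V : Subgroup H) [hV : V.Normal] {y t : H}
    (h : ∀ v ∈ V, y * v * y⁻¹ = t * v * t⁻¹) (k : ℤ) :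
    ∀ v ∈ V, y ^ k * v * (y ^ k)⁻¹ = t ^ k * v * (t ^ k)⁻¹ := by
  intro v hv
  rcases Int.eq_nat_or_neg k with ⟨n, rfl | rfl⟩
  · rw [zpow_natCast, zpow_natCast]
    exact conj_pow_eq V h n v hv
  · have := conj_pow_eq V (conj_inv_eq V h) n v hv
    simp only [zpow_neg, zpow_natCast]
    simp only [inv_pow] at this
    exact this

theorem commutator_zpowers_le (V B : Subgroup H) [hV : V.Normal] (hBV : B ≤ V) {y t : H}
    (h : ∀ v ∈ V, y * v * y⁻¹ = t * v * t⁻¹) :
    ⁅B, Subgroup.zpowers y⁆ ≤ ⁅B, Subgroup.zpowers t⁆ := by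
  rw [Subgroup.commutator_le]
  intro b hb z hz
  obtain ⟨k, rfl⟩ := Subgroup.mem_zpowers_iff.mp hz
  have h1 := conj_zpow_eq V h k b⁻¹ (V.inv_mem (hBV hb))
  have h2 : ⁅b, y ^ k⁆ = b * (y ^ k * b⁻¹ * (y ^ k)⁻¹) := by
    rw [commutatorElement_def]; group
  have h3 : ⁅b, t ^ k⁆ = b * (t ^ k * b⁻¹ * (t ^ k)⁻¹) := by
    rw [commutatorElement_def]; group
  rw [h2, h1, ← h3]
  exact Subgroup.commutator_mem_commutator hb (Subgroup.zpow_mem_zpowers t k)

theorem commutator_zpowers_congr (V B : Subgroup H) [hV : V.Normal] (hBV : B ≤ V) {y t : H}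
    (h : ∀ v ∈ V, y * v * y⁻¹ = t * v * t⁻¹) :
    ⁅B, Subgroup.zpowers y⁆ = ⁅B, Subgroup.zpowers t⁆ :=
  le_antisymm (commutator_zpowers_le V B hBV h)
    (commutator_zpowers_le V B hBV (fun v hv => (h v hv).symm))

/-- the quadratic condition depends only on the action on `V` -/
theorem quad_congr (V : Subgroup H) [hV : V.Normal] {y t : H}
    (h : ∀ v ∈ V, y * v * y⁻¹ = t * v * t⁻¹) :
    ⁅⁅V, Subgroup.zpowers y⁆, Subgroup.zpowers y⁆ = ⁅⁅V, Subgroup.zpowers t⁆, Subgroup.zpowers t⁆ := by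
  have h1 := commutator_zpowers_congr V V le_rfl h
  have h2 : ⁅V, Subgroup.zpowers t⁆ ≤ V := Subgroup.commutator_le_left V _
  rw [h1]
  exact commutator_zpowers_congr V _ h2 h

/-- the quadratic condition is invariant under conjugation -/
theorem quad_conj (V : Subgroup H) [hV : V.Normal] {y : H} (g : H)
    (h : ⁅⁅V, Subgroup.zpowers y⁆, Subgroup.zpowers y⁆ = ⊥) :
    ⁅⁅V, Subgroup.zpowers (g * y * g⁻¹)⁆, Subgroup.zpowers (g * y * g⁻¹)⁆ = ⊥ := by
  set f : H →* H := (MulAut.conj g).toMonoidHom with hf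
  have hVf : V.map f = V := by
    apply le_antisymm
    · rintro _ ⟨v, hv, rfl⟩
      exact hV.conj_mem v hv g
    · intro v hv
      refine ⟨g⁻¹ * v * g⁻¹⁻¹, hV.conj_mem v hv _, ?_⟩
      show g * (g⁻¹ * v * g⁻¹⁻¹) * g⁻¹ = v
      group
  have hz : (Subgroup.zpowers y).map f = Subgroup.zpowers (g * y * g⁻¹) := by
    rw [MonoidHom.map_zpowers]
    rfl
  have := congrArg (Subgroup.map f) h
  rw [Subgroup.map_commutator, Subgroup.map_commutator, hVf, hz, Subgroup.map_bot] at this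
  exact this

section Main

variable [Finite H] {p : ℕ} [hp : Fact p.Prime]

/-- if the quadratic elements of a Sylow subgroup centralize `U`, then all quadratic elements
centralize the normal closure `V` of `U` -/
theorem quadratic_le_centralizer (P : Sylow p H) (V U : Subgroup H) [hV : V.Normal]
    (hUV : U ≤ V) (hVU : V ≤ Subgroup.normalClosure (U : Set H)) (hst : Cfsg.IsPStableOn p V)
    (hU : ∀ t ∈ (P : Subgroup H), ⁅⁅V, Subgroup.zpowers t⁆, Subgroup.zpowers t⁆ = ⊥ →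
      t ∈ Subgroup.centralizer (U : Set H)) :
    ∀ y : H, ⁅⁅V, Subgroup.zpowers y⁆, Subgroup.zpowers y⁆ = ⊥ →
      y ∈ Subgroup.centralizer (V : Set H) := by
  set C := Subgroup.centralizer (V : Set H) with hC
  haveI hCn : C.Normal := Subgroup.normal_centralizer
  set D := stabPre p V with hD
  set Qd : Set H := {y | ⁅⁅V, Subgroup.zpowers y⁆, Subgroup.zpowers y⁆ = ⊥} with hQd
  set M := Subgroup.normalClosure Qd with hM
  set MC := M ⊔ C with hMC
  have hQdD : Qd ⊆ D := by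
    intro y hy
    show y ∈ stabPre p V
    unfold stabPre
    rw [Subgroup.mem_comap]
    exact hst y hy
  have hMD : M ≤ D := Subgroup.normalClosure_le_normal hQdD
  have hMCD : MC ≤ D := sup_le hMD (centralizer_le_stabPre p V)
  have hCMC : C ≤ MC := le_sup_right
  set T : Subgroup H := (P : Subgroup H) ⊓ MC with hT
  obtain ⟨T', hT'⟩ := Cfsg.Agent.Lib.Helper9.exists_sylow_map_eq_inf P MC
  have hfr : Subgroup.normalizer (T : Set H) ⊔ MC = ⊤ := by
    have := Sylow.normalizer_sup_eq_top T'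
    rw [hT'] at this
    exact this
  have hMCle : MC ≤ T ⊔ C := by
    rw [← Subgroup.relIndex_eq_one]
    have h1 : (T ⊔ C).relIndex MC ∣ T.relIndex MC := Subgroup.relIndex_dvd_of_le_left MC le_sup_left
    have h2 : (T ⊔ C).relIndex MC ∣ C.relIndex MC := Subgroup.relIndex_dvd_of_le_left MC le_sup_right
    obtain ⟨m, hm⟩ := relIndex_centralizer_stabPre (p := p) V
    have h2' : C.relIndex MC ∣ p ^ m := by
      rw [← hm, ← Subgroup.relIndex_mul_relIndex C MC D hCMC hMCD]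
      exact dvd_mul_right _ _
    have h3 : ¬ p ∣ T.relIndex MC := by
      have h4 : T.subgroupOf MC = (T' : Subgroup MC) := by
        rw [hT, ← hT']
        exact Subgroup.comap_map_eq_self_of_injective MC.subtype_injective _
      rw [Subgroup.relIndex, h4]
      exact T'.not_dvd_index
    obtain ⟨j, _, hj⟩ := (Nat.dvd_prime_pow hp.out).mp (h2.trans h2')
    rcases Nat.eq_zero_or_pos j with h0 | hpos
    · rw [hj, h0, pow_zero]
    · exfalso
      apply h3
      refine dvd_trans ?_ h1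
      rw [hj]
      exact dvd_pow_self p hpos.ne'
  have hCU : C ≤ Subgroup.centralizer (U : Set H) := Subgroup.centralizer_le hUV
  -- quadratic elements centralize `U`
  have hQdU : Qd ⊆ Subgroup.centralizer (U : Set H) := by
    intro y hy
    have hyMC : y ∈ MC := le_sup_left (a := M) (Subgroup.subset_normalClosure hy)
    have hyTC := hMCle hyMC
    rw [Subgroup.mem_sup_of_normal_right] at hyTC
    obtain ⟨t, ht, c, hc, rfl⟩ := hyTC
    have hact : ∀ v ∈ V, t * c * v * (t * c)⁻¹ = t * v * t⁻¹ := by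
      intro v hv
      have h1 : c * v * c⁻¹ = v := by
        have := (Subgroup.mem_centralizer_iff.mp hc) v hv
        rw [← this]; group
      calc t * c * v * (t * c)⁻¹ = t * (c * v * c⁻¹) * t⁻¹ := by group
        _ = t * v * t⁻¹ := by rw [h1]
    have htq : ⁅⁅V, Subgroup.zpowers t⁆, Subgroup.zpowers t⁆ = ⊥ := by
      rw [← quad_congr V hact]; exact hy
    exact Subgroup.mul_mem _ (hU t ht.1 htq) (hCU hc)
  have hQdconj : Group.conjugatesOfSet Qd ⊆ Qd := by
    intro z hz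
    rw [Group.mem_conjugatesOfSet_iff] at hz
    obtain ⟨y, hy, hconj⟩ := hz
    obtain ⟨g, rfl⟩ := isConj_iff.mp hconj
    exact quad_conj V g hy
  have hMU : M ≤ Subgroup.centralizer (U : Set H) := by
    rw [hM]
    unfold Subgroup.normalClosure
    rw [Subgroup.closure_le]
    exact hQdconj.trans hQdU
  have hTU : T ≤ Subgroup.centralizer (U : Set H) :=
    inf_le_right.trans (sup_le hMU hCU)
  -- `H = N_H(T) C`
  have htop : Subgroup.normalizer (T : Set H) ⊔ C = ⊤ := by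
    rw [eq_top_iff, ← hfr]
    apply sup_le le_sup_left
    refine hMCle.trans (sup_le ?_ le_sup_right)
    exact Subgroup.le_normalizer.trans le_sup_left
  -- `T` centralizes `V`
  have hVT : V ≤ Subgroup.centralizer (T : Set H) := by
    refine hVU.trans ?_
    unfold Subgroup.normalClosure
    rw [Subgroup.closure_le]
    intro z hz
    rw [Group.mem_conjugatesOfSet_iff] at hz
    obtain ⟨u, hu, hconj⟩ := hz
    obtain ⟨g, rfl⟩ := isConj_iff.mp hconj
    have hg : g ∈ Subgroup.normalizer (T : Set H) ⊔ C := by rw [htop]; trivial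
    rw [Subgroup.mem_sup_of_normal_right] at hg
    obtain ⟨n, hn, c, hc, rfl⟩ := hg
    have h1 : c * u * c⁻¹ = u := by
      have := (Subgroup.mem_centralizer_iff.mp hc) u (hUV hu)
      rw [← this]; group
    have h2 : n * c * u * (n * c)⁻¹ = n * u * n⁻¹ := by
      calc n * c * u * (n * c)⁻¹ = n * (c * u * c⁻¹) * n⁻¹ := by group
        _ = n * u * n⁻¹ := by rw [h1]
    rw [SetLike.mem_coe, h2, Subgroup.mem_centralizer_iff]
    intro t ht
    have h3 : n⁻¹ * t * n⁻¹⁻¹ ∈ T := by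
      have := (Subgroup.mem_normalizer_iff.mp (Subgroup.inv_mem _ hn) t).mp ht
      exact this
    have h4 := (Subgroup.mem_centralizer_iff.mp (hTU h3)) u hu
    -- h4 : u * (n⁻¹ t n) = (n⁻¹ t n) * u
    calc t * (n * u * n⁻¹) = n * ((n⁻¹ * t * n⁻¹⁻¹) * u) * n⁻¹ := by group
      _ = n * (u * (n⁻¹ * t * n⁻¹⁻¹)) * n⁻¹ := by rw [h4]
      _ = n * u * n⁻¹ * t := by group
  have hTC : T ≤ C := by
    intro t ht
    rw [hC, Subgroup.mem_centralizer_iff]
    intro v hv
    exact ((Subgroup.mem_centralizer_iff.mp (hVT hv)) t ht).symm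
  intro y hy
  have hyMC : y ∈ MC := le_sup_left (a := M) (Subgroup.subset_normalClosure hy)
  exact (hMCle.trans (sup_le hTC le_rfl)) hyMC

end Main

end WS

end Cfsg.Agent.Lib.Lead
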