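import Mathlib
import Cfsg.Agent.Lib.Lead.WS2

set_option autoImplicit false

/-!
Stellmacher's characteristic subgroup `W(S)`: basic properties.
-/

namespace Cfsg.Agent.Lib.Lead

namespace WS

open scoped commutatorElement
open ZJ

universe u

variable {S : Type u} [Group S] {p : ℕ}

theorem exists_maxEA [Finite S] (p : ℕ) : ∃ A, A ∈ Cfsg.maxElementaryAbelianSubgroups p S := by
  rw [maxElementaryAbelianSubgroups_eq]
  obtain ⟨A, hA, hmax⟩ := exists_max_subgroup (fun A : Subgroup S => AbelExp p A)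
    (fun A => Nat.card A) ⟨⊥, abelExp_bot p⟩
  exact ⟨A, hA, fun B hB => hmax B hB⟩

/-- a central element of order dividing `p` lies in every elementary abelian subgroup of
largest order -/
theorem mem_of_mem_maxEA [Finite S] {A : Subgroup S}
    (hA : A ∈ Cfsg.maxElementaryAbelianSubgroups p S) {x : S} (hx : x ∈ Subgroup.center S)
    (hxp : x ^ p = 1) : x ∈ A := by
  rw [maxElementaryAbelianSubgroups_eq] at hA
  have h1 : AbelExp p (A ⊔ Subgroup.zpowers x) := by
    apply hA.1.sup (abelExp_zpowers x hxp)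
    intro y hy a _
    obtain ⟨i, rfl⟩ := Subgroup.mem_zpowers_iff.mp hy
    have h3 : Commute x a := ((Subgroup.mem_center_iff.mp hx) a).symm
    exact (h3.zpow_left i).eq
  have h2 := hA.2 _ h1
  have h3 : A = A ⊔ Subgroup.zpowers x := Subgroup.eq_of_le_of_card_ge le_sup_left h2
  rw [h3]
  exact le_sup_right (a := A) (Subgroup.mem_zpowers x)

theorem omegaOne_center_le_omegaCenterThompson [Finite S] (p : ℕ) :
    Cfsg.omegaOne p (Subgroup.center S) ≤ Cfsg.omegaCenterThompson p S := by
  unfold Cfsg.omegaCenterThompson Cfsg.omegaOne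
  apply Subgroup.closure_mono
  rintro x ⟨hx, hxp⟩
  refine ⟨?_, hxp⟩
  obtain ⟨A, hA⟩ := exists_maxEA (S := S) p
  refine Subgroup.mem_inf.mpr ⟨?_, ?_⟩
  · exact (le_sSup hA : A ≤ Cfsg.thompsonSubgroup p S) (mem_of_mem_maxEA hA hx hxp)
  · rw [Subgroup.mem_centralizer_iff]
    intro j _
    exact (Subgroup.mem_center_iff.mp hx) j

theorem omegaCenterThompson_map_normal {H : Type u} [Group H] (τ : S →* H)
    (hτ : Cfsg.IsStableEmbedding p τ) : ((Cfsg.omegaCenterThompson p S).map τ).Normal := by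
  obtain ⟨h1, _, _, _, h5, _⟩ := hτ
  unfold Cfsg.omegaCenterThompson
  rw [omegaOne_map_inj _ h1, map_inf_centralizer_inj _ h1]
  haveI := h5
  haveI : (Subgroup.centralizer (((Cfsg.thompsonSubgroup p S).map τ : Subgroup H) : Set H)).Normal :=
    Subgroup.normal_centralizer
  exact omegaOne_normal p _

theorem omegaCenterThompson_mem_Fam [Finite S] (p : ℕ) :
    Cfsg.omegaCenterThompson p S ∈ Fam p S :=
  ⟨omegaOne_center_le_omegaCenterThompson p, fun _ _ τ hτ => omegaCenterThompson_map_normal τ hτ⟩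

theorem omegaOne_center_le (p : ℕ) :
    Cfsg.omegaOne p (Subgroup.center S) ≤ Cfsg.stableNormalClosure p S := by
  rw [stableNormalClosure_eq]
  exact le_sInf fun W hW => hW.1

theorem stableNormalClosure_le [Finite S] (p : ℕ) :
    Cfsg.stableNormalClosure p S ≤ Cfsg.omegaCenterThompson p S := by
  rw [stableNormalClosure_eq]
  exact sInf_le (omegaCenterThompson_mem_Fam p)

/-- the image of `W(S)` under a stable embedding is normal -/
theorem mapW_normal [Finite S] {H : Type u} [Group H] (τ : S →* H)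
    (hτ : Cfsg.IsStableEmbedding p τ) : ((Cfsg.stableNormalClosure p S).map τ).Normal := by
  rw [stableNormalClosure_eq, sInf_eq_iInf']
  haveI : Nonempty (Fam p S) := ⟨⟨_, omegaCenterThompson_mem_Fam p⟩⟩
  rw [Subgroup.map_iInf _ hτ.1]
  haveI : ∀ W : Fam p S, ((W : Subgroup S).map τ).Normal := fun W => W.2.2 _ τ hτ
  exact Subgroup.normal_iInf_normal this

theorem stableNormalClosure_mem_Fam [Finite S] (p : ℕ) :
    Cfsg.stableNormalClosure p S ∈ Fam p S :=
  ⟨omegaOne_center_le p, fun _ _ τ hτ => mapW_normal τ hτ⟩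

theorem stableNormalClosure_characteristic [hp : Fact p.Prime] :
    (Cfsg.stableNormalClosure p S).Characteristic := by
  rw [Subgroup.characteristic_iff_map_eq]
  intro φ
  exact map_stableNormalClosure φ

theorem omegaOne_center_ne_bot [Finite S] [hp : Fact p.Prime] (hS : IsPGroup p S)
    [Nontrivial S] : Cfsg.omegaOne p (Subgroup.center S) ≠ ⊥ := by
  haveI := hS.center_nontrivial
  obtain ⟨⟨z, hz⟩, hz1⟩ := exists_ne (1 : Subgroup.center S)
  have hz1' : z ≠ 1 := fun h => hz1 (Subtype.ext h)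
  obtain ⟨k, hk⟩ := (IsPGroup.iff_orderOf.mp hS) z
  have hk0 : k ≠ 0 := by
    intro h0
    rw [h0, pow_zero, orderOf_eq_one_iff] at hk
    exact hz1' hk
  obtain ⟨m, rfl⟩ := Nat.exists_eq_succ_of_ne_zero hk0
  set w := z ^ (p ^ m) with hw
  have hwp : w ^ p = 1 := by
    rw [hw, ← pow_mul, ← pow_succ, ← hk, pow_orderOf_eq_one]
  have hw1 : w ≠ 1 := by
    intro h
    have := orderOf_dvd_of_pow_eq_one h
    rw [hk] at this
    have h2 := Nat.le_of_dvd (pow_pos hp.out.pos m) this
    have h3 : p ^ m < p ^ (m + 1) := Nat.pow_lt_pow_right hp.out.one_lt (Nat.lt_succ_self m)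
    rw [Nat.succ_eq_add_one] at h2
    omega
  intro hbot
  have hwm : w ∈ Cfsg.omegaOne p (Subgroup.center S) := by
    unfold Cfsg.omegaOne
    exact Subgroup.subset_closure ⟨Subgroup.pow_mem _ hz _, hwp⟩
  rw [hbot, Subgroup.mem_bot] at hwm
  exact hw1 hwm

theorem stableNormalClosure_ne_bot [Finite S] [hp : Fact p.Prime] (hS : IsPGroup p S)
    [Nontrivial S] : Cfsg.stableNormalClosure p S ≠ ⊥ := by
  intro h
  have h1 := omegaOne_center_le (S := S) p
  rw [h, le_bot_iff] at h1
  exact omegaOne_center_ne_bot hS h1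

end WS

end Cfsg.Agent.Lib.Lead
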