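import Mathlib
import Cfsg.Agent.Lib.Lead.WS1
import Cfsg.Agent.Lib.Lead.WS3

set_option autoImplicit false

/-!
Stellmacher's characteristic subgroup `W(S)`: quadratic elements act trivially.
-/

namespace Cfsg.Agent.Lib.Lead

namespace WS

open scoped commutatorElement
open ZJ

universe u

variable {S : Type u} [Group S] {p : ℕ}

/-- elements acting quadratically on `U` centralize `U` -/
def Star (U : Subgroup S) : Prop :=
  ∀ x : S, ⁅⁅U, Subgroup.zpowers x⁆, Subgroup.zpowers x⁆ = ⊥ → ⁅U, Subgroup.zpowers x⁆ = ⊥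

theorem star_of_le_center {U : Subgroup S} (hU : U ≤ Subgroup.center S) : Star U := by
  intro x _
  rw [Subgroup.commutator_eq_bot_iff_le_centralizer]
  intro u hu
  rw [Subgroup.mem_centralizer_iff]
  intro y _
  exact ((Subgroup.mem_center_iff.mp (hU hu)) y)

theorem map_comm_zpowers {H : Type*} [Group H] (τ : S →* H) (U : Subgroup S) (x : S) :
    (⁅U, Subgroup.zpowers x⁆).map τ = ⁅U.map τ, Subgroup.zpowers (τ x)⁆ := by
  rw [Subgroup.map_commutator, MonoidHom.map_zpowers]

/-- one step: the preimage of the normal closure of the image of a `Star` subgroup is `Star` -/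
theorem star_step [hp : Fact p.Prime] {H : Type u} [Group H] (τ : S →* H)
    (hτ : Cfsg.IsStableEmbedding p τ) (U : Subgroup S) (hU : Star U)
    (hUW : U.map τ ≤ (Cfsg.omegaCenterThompson p S).map τ)
    (V : Subgroup H) [hVn : V.Normal] (hV : V = Subgroup.normalClosure ((U.map τ : Subgroup H) : Set H))
    (hVW : V ≤ (Cfsg.omegaCenterThompson p S).map τ) :
    Star (V.comap τ) := by
  obtain ⟨hinj, hfin, ⟨P, hP⟩, _, _, h6⟩ := hτ
  haveI := hfin
  have hst : Cfsg.IsPStableOn p V := h6 V hVW
  have hUV : U.map τ ≤ V := by rw [hV]; exact Subgroup.le_normalClosure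
  have hmain := quadratic_le_centralizer P V (U.map τ) hUV (le_of_eq hV) hst ?_
  · intro x hx
    have hVr : V ≤ τ.range := hVW.trans (Subgroup.map_le_range _ _)
    have hmc : (V.comap τ).map τ = V := by
      rw [Subgroup.map_comap_eq, inf_eq_right.mpr hVr]
    have h1 : ⁅⁅V, Subgroup.zpowers (τ x)⁆, Subgroup.zpowers (τ x)⁆ = ⊥ := by
      rw [← hmc, ← map_comm_zpowers, ← map_comm_zpowers, hx, Subgroup.map_bot]
    have h2 := hmain (τ x) h1
    rw [← (Subgroup.map_eq_bot_iff_of_injective _ hinj), map_comm_zpowers, hmc,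
      Subgroup.commutator_eq_bot_iff_le_centralizer]
    intro v hv
    rw [Subgroup.mem_centralizer_iff]
    intro z hz
    obtain ⟨k, rfl⟩ := Subgroup.mem_zpowers_iff.mp hz
    have h3 : Commute (τ x) v := ((Subgroup.mem_centralizer_iff.mp h2) v hv).symm
    exact (h3.zpow_left k).eq
  · intro t ht htq
    rw [hP] at ht
    obtain ⟨s, rfl⟩ := ht
    have h1 : ⁅⁅U.map τ, Subgroup.zpowers (τ s)⁆, Subgroup.zpowers (τ s)⁆ = ⊥ := by
      rw [eq_bot_iff, ← htq]
      exact Subgroup.commutator_mono (Subgroup.commutator_mono hUV le_rfl) le_rfl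
    rw [← map_comm_zpowers, ← map_comm_zpowers, Subgroup.map_eq_bot_iff_of_injective _ hinj] at h1
    have h2 := hU s h1
    rw [Subgroup.commutator_eq_bot_iff_le_centralizer] at h2
    rw [Subgroup.mem_centralizer_iff]
    rintro _ ⟨u, hu, rfl⟩
    have h3 := (Subgroup.mem_centralizer_iff.mp (h2 hu)) s (Subgroup.mem_zpowers s)
    rw [← map_mul, ← map_mul, h3]

/-- quadratic elements of `S` centralize `W(S)` -/
theorem star_stableNormalClosure [Finite S] [hp : Fact p.Prime] :
    Star (Cfsg.stableNormalClosure p S) := by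
  set W := Cfsg.stableNormalClosure p S with hW
  obtain ⟨U, ⟨hU1, hU2, hU3⟩, hmax⟩ := exists_max_subgroup
    (fun U : Subgroup S => Cfsg.omegaOne p (Subgroup.center S) ≤ U ∧ U ≤ W ∧ Star U)
    (fun U => Nat.card U)
    ⟨_, le_rfl, omegaOne_center_le p, star_of_le_center (omegaOne_le p _)⟩
  have hUF : U ∈ Fam p S := by
    refine ⟨hU1, ?_⟩
    intro H _ τ hτ
    have hWn : (W.map τ).Normal := mapW_normal τ hτ
    set V := Subgroup.normalClosure ((U.map τ : Subgroup H) : Set H) with hV
    haveI hVn : V.Normal := Subgroup.normalClosure_normal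
    have hVW : V ≤ W.map τ := Subgroup.normalClosure_le_normal (Subgroup.map_mono hU2)
    have hWZ : W.map τ ≤ (Cfsg.omegaCenterThompson p S).map τ :=
      Subgroup.map_mono (stableNormalClosure_le p)
    have hst := star_step τ hτ U hU3 ((Subgroup.map_mono hU2).trans hWZ) V hV (hVW.trans hWZ)
    have hUV : U.map τ ≤ V := Subgroup.le_normalClosure
    have hUU' : U ≤ V.comap τ := by
      rw [← Subgroup.map_le_iff_le_comap]; exact hUV
    have hU'W : V.comap τ ≤ W := by
      intro s hs
      have : τ s ∈ W.map τ := hVW hs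
      obtain ⟨w, hw, hws⟩ := this
      rw [← hτ.1 hws]; exact hw
    have hcard := hmax (V.comap τ) ⟨hU1.trans hUU', hU'W, hst⟩
    have heq : U = V.comap τ := Subgroup.eq_of_le_of_card_ge hUU' hcard
    have hVr : V ≤ τ.range := hVW.trans (Subgroup.map_le_range _ _)
    have hmc : (V.comap τ).map τ = V := by
      rw [Subgroup.map_comap_eq, inf_eq_right.mpr hVr]
    rw [heq, hmc]
    exact hVn
  have hWU : W ≤ U := by
    rw [hW, stableNormalClosure_eq]
    exact sInf_le hUF
  have : U = W := le_antisymm hU2 hWU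
  rw [← this]
  exact hU3

end WS

end Cfsg.Agent.Lib.Lead
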