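import Mathlib
import Cfsg.Agent.Lib.Lead.WS4
import Cfsg.Agent.Lib.Lead.GT6

set_option autoImplicit false

/-!
Stellmacher's characteristic subgroup `W(S)` as a section functor on subgroups.
-/

namespace Cfsg.Agent.Lib.Lead

namespace WS

open scoped commutatorElement
open ZJ GT

universe u

/-- `W(D)` for a subgroup `D`, as a subgroup of the ambient group -/
def Wf (p : ℕ) (X : Type u) [Group X] (D : Subgroup X) : Subgroup X :=
  (Cfsg.stableNormalClosure p ↥D).map D.subtype

section

variable {X : Type u} [Group X] {p : ℕ}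

theorem Wf_le (p : ℕ) (D : Subgroup X) : Wf p X D ≤ D := Subgroup.map_subtype_le _

theorem Wf_le_wsub [Finite X] (p : ℕ) (D : Subgroup X) : Wf p X D ≤ wsub p D := by
  rw [← omegaCenterThompson_map_eq]
  exact Subgroup.map_mono (stableNormalClosure_le p)

theorem abelExp_Wf [Finite X] (p : ℕ) (D : Subgroup X) : AbelExp p (Wf p X D) :=
  (abelExp_wsub p D).mono (Wf_le_wsub p D)

theorem Wf_ne_bot [Finite X] [hp : Fact p.Prime] (D : Subgroup X) (hD : IsPGroup p D)
    (hne : D ≠ ⊥) : Wf p X D ≠ ⊥ := by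
  haveI : Nontrivial D := (Subgroup.nontrivial_iff_ne_bot D).mpr hne
  intro h
  unfold Wf at h
  rw [Subgroup.map_eq_bot_iff_of_injective _ D.subtype_injective] at h
  exact stableNormalClosure_ne_bot hD h

theorem Wf_map [hp : Fact p.Prime] {Y : Type u} [Group Y] (f : X →* Y) (D : Subgroup X)
    (hf : Set.InjOn f (D : Set X)) : Wf p Y (D.map f) = (Wf p X D).map f := by
  have hbij : Function.Bijective (f.subgroupMap D) := by
    refine ⟨?_, f.subgroupMap_surjective D⟩
    intro a b hab
    apply Subtype.ext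
    apply hf a.2 b.2
    exact congrArg Subtype.val hab
  set η : ↥D ≃* ↥(D.map f) := MulEquiv.ofBijective (f.subgroupMap D) hbij with hη
  have h1 := map_stableNormalClosure (p := p) η
  unfold Wf
  rw [← h1, Subgroup.map_map, Subgroup.map_map]
  congr 1

theorem isSecFunctor_Wf [hp : Fact p.Prime] : IsSecFunctor p (Wf.{u} p) := by
  refine ⟨?_, ?_, ?_⟩
  · intro X _ _ D _
    exact Wf_le p D
  · intro X _ _ D hD hne
    exact Wf_ne_bot D hD hne
  · intro X Y _ _ _ _ f D _ hf
    exact Wf_map f D hf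

/-- elements of `D` acting quadratically on `W(D)` centralize it -/
theorem Wf_star [Finite X] [hp : Fact p.Prime] (D : Subgroup X) {y : X} (hy : y ∈ D)
    (hq : ⁅⁅Wf p X D, Subgroup.zpowers y⁆, Subgroup.zpowers y⁆ = ⊥) :
    ⁅Wf p X D, Subgroup.zpowers y⁆ = ⊥ := by
  have h1 : (Subgroup.zpowers (⟨y, hy⟩ : ↥D)).map D.subtype = Subgroup.zpowers y := by
    rw [MonoidHom.map_zpowers]; rfl
  unfold Wf at hq ⊢
  rw [← h1, ← Subgroup.map_commutator, ← Subgroup.map_commutator,
    Subgroup.map_eq_bot_iff_of_injective _ D.subtype_injective] at hq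
  rw [← h1, ← Subgroup.map_commutator, Subgroup.map_eq_bot_iff_of_injective _ D.subtype_injective]
  exact star_stableNormalClosure _ hq

theorem normalizer_le_normalizer_Wf [Finite X] [hp : Fact p.Prime] (D : Subgroup X)
    (hD : IsPGroup p D) :
    Subgroup.normalizer (D : Set X) ≤ Subgroup.normalizer (Wf p X D : Set X) :=
  isSecFunctor_Wf.normalizer_le D hD

end

end WS

end Cfsg.Agent.Lib.Lead
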