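import Mathlib
import Cfsg.Agent.Lib.Lead.WS5
import Cfsg.Agent.Lib.Lead.Thom10
import Cfsg.Agent.Lib.Helper9.PCore

set_option autoImplicit false

/-!
Stellmacher's characteristic subgroup `W(S)`: normality in a `p`-stable group.
-/

namespace Cfsg.Agent.Lib.Lead

namespace WS

open scoped commutatorElement
open ZJ GT Thom

universe u

theorem abelExp_closure {G : Type*} [Group G] {n : ℕ} (s : Set G)
    (hc : ∀ x ∈ s, ∀ y ∈ s, x * y = y * x) (hn : ∀ x ∈ s, x ^ n = 1) :
    AbelExp n (Subgroup.closure s) := by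
  have hcomm : ∀ x ∈ Subgroup.closure s, ∀ y ∈ Subgroup.closure s, x * y = y * x := by
    intro x hx y hy
    letI := Subgroup.closureCommGroupOfComm hc
    have := mul_comm (⟨x, hx⟩ : Subgroup.closure s) ⟨y, hy⟩
    exact congrArg Subtype.val this
  refine ⟨hcomm, ?_⟩
  intro a ha
  induction ha using Subgroup.closure_induction with
  | mem x hx => exact hn x hx
  | one => exact one_pow n
  | mul x y hx hy ihx ihy =>
    have : Commute x y := hcomm x hx y hy
    rw [this.mul_pow, ihx, ihy, one_mul]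
  | inv x hx ih => rw [inv_pow, ih, inv_one]

variable {G : Type u} [Group G] [Finite G] {p : ℕ} [hp : Fact p.Prime]

/-- conjugates of `W(S)` inside `O_p(G)` commute with `W(S)` -/
theorem conj_Wf_commute (S : Sylow p G) (h2 : Wf p G S ≤ Cfsg.pCore p G)
    (g : G) {u w : G} (hu : u ∈ Wf p G S) (hw : w ∈ Wf p G S) :
    (g * u * g⁻¹) * w = w * (g * u * g⁻¹) := by
  set Ws := Wf p G S with hWs
  set Q := Cfsg.pCore p G with hQ
  have hQn : Q.Normal := Cfsg.Agent.Lib.Helper9.pCore_normal' p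
  have hQS : Q ≤ (S : Subgroup G) := Cfsg.Agent.Lib.Helper9.pCore_le_sylow S
  have hSN : (S : Subgroup G) ≤ Subgroup.normalizer (Ws : Set G) :=
    Subgroup.le_normalizer.trans (normalizer_le_normalizer_Wf _ S.isPGroup')
  have hab := abelExp_Wf p (S : Subgroup G)
  set y := g * u * g⁻¹ with hy
  have hyQ : y ∈ Q := hQn.conj_mem u (h2 hu) g
  have hyS : y ∈ (S : Subgroup G) := hQS hyQ
  -- the conjugate of `Ws`
  set Wg := Ws.map (MulAut.conj g).toMonoidHom with hWg
  have hmemWg : ∀ z, z ∈ Wg ↔ g⁻¹ * z * g ∈ Ws := by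
    intro z
    constructor
    · rintro ⟨v, hv, rfl⟩
      show g⁻¹ * (g * v * g⁻¹) * g ∈ Ws
      have : g⁻¹ * (g * v * g⁻¹) * g = v := by group
      rw [this]; exact hv
    · intro hz
      refine ⟨g⁻¹ * z * g, hz, ?_⟩
      show g * (g⁻¹ * z * g) * g⁻¹ = z
      group
  have hyWg : y ∈ Wg := ⟨u, hu, rfl⟩
  have hWgab : ∀ a ∈ Wg, ∀ b ∈ Wg, a * b = b * a := by
    intro a ha b hb
    have h := hab.1 _ ((hmemWg a).mp ha) _ ((hmemWg b).mp hb)
    calc a * b = g * ((g⁻¹ * a * g) * (g⁻¹ * b * g)) * g⁻¹ := by group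
      _ = g * ((g⁻¹ * b * g) * (g⁻¹ * a * g)) * g⁻¹ := by rw [h]
      _ = b * a := by group
  -- `Ws` normalizes `Wg`
  have hnorm : ∀ v ∈ Ws, ∀ z ∈ Wg, v * z * v⁻¹ ∈ Wg := by
    intro v hv z hz
    rw [hmemWg] at hz ⊢
    have hs : g⁻¹ * v * g ∈ (S : Subgroup G) := by
      apply hQS
      have := hQn.conj_mem v (h2 hv) g⁻¹
      simpa using this
    have := (Subgroup.mem_normalizer_iff.mp (hSN hs) _).mp hz
    convert this using 1
    group
  have h1 : ⁅Ws, Subgroup.zpowers y⁆ ≤ Wg := by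
    rw [Subgroup.commutator_le]
    intro v hv z hz
    have hzWg : z ∈ Wg := (Subgroup.zpowers_le.mpr hyWg) hz
    rw [commutatorElement_def]
    exact Subgroup.mul_mem _ (hnorm v hv z hzWg) (Subgroup.inv_mem _ hzWg)
  have hq : ⁅⁅Ws, Subgroup.zpowers y⁆, Subgroup.zpowers y⁆ = ⊥ := by
    rw [eq_bot_iff]
    refine (Subgroup.commutator_mono h1 (Subgroup.zpowers_le.mpr hyWg)).trans ?_
    rw [Subgroup.commutator_le]
    intro a ha b hb
    rw [commutatorElement_eq_one_iff_mul_comm.mpr (hWgab a ha b hb)]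
    exact Subgroup.one_mem _
  have h3 := Wf_star (S : Subgroup G) hyS hq
  rw [Subgroup.commutator_eq_bot_iff_le_centralizer] at h3
  exact ((Subgroup.mem_centralizer_iff.mp (h3 hw)) y (Subgroup.mem_zpowers y))

theorem Wf_normal_of (S : Sylow p G)
    (h1 : ∀ (V : Subgroup G) [V.Normal], Cfsg.IsElementaryAbelian p V → Cfsg.IsPStableOn p V)
    (h2 : Wf p G S ≤ Cfsg.pCore p G)
    (h3 : Subgroup.normalizer (Cfsg.thompsonSubgroupOf p (S : Subgroup G) : Set G) ≤
      Subgroup.normalizer (Wf p G S : Set G)) :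
    (Wf p G S).Normal := by
  set Ws := Wf p G S with hWs
  set Q := Cfsg.pCore p G with hQ
  have hQn : Q.Normal := Cfsg.Agent.Lib.Helper9.pCore_normal' p
  have hQS : Q ≤ (S : Subgroup G) := Cfsg.Agent.Lib.Helper9.pCore_le_sylow S
  have hab := abelExp_Wf p (S : Subgroup G)
  set V := Subgroup.normalClosure (Ws : Set G) with hV
  haveI hVn : V.Normal := Subgroup.normalClosure_normal
  have hWV : Ws ≤ V := Subgroup.le_normalClosure
  have hVQ : V ≤ Q := Subgroup.normalClosure_le_normal h2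
  have hVS : V ≤ (S : Subgroup G) := hVQ.trans hQS
  have hVab : AbelExp p V := by
    rw [hV]
    unfold Subgroup.normalClosure
    apply abelExp_closure
    · intro x hx y hy
      rw [Group.mem_conjugatesOfSet_iff] at hx hy
      obtain ⟨u, hu, hux⟩ := hx
      obtain ⟨w, hw, hwy⟩ := hy
      obtain ⟨g, rfl⟩ := isConj_iff.mp hux
      obtain ⟨h, rfl⟩ := isConj_iff.mp hwy
      have := conj_Wf_commute S h2 (h⁻¹ * g) hu hw
      calc g * u * g⁻¹ * (h * w * h⁻¹)
          = h * ((h⁻¹ * g) * u * (h⁻¹ * g)⁻¹ * w) * h⁻¹ := by group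
        _ = h * (w * ((h⁻¹ * g) * u * (h⁻¹ * g)⁻¹)) * h⁻¹ := by rw [this]
        _ = h * w * h⁻¹ * (g * u * g⁻¹) := by group
    · intro x hx
      rw [Group.mem_conjugatesOfSet_iff] at hx
      obtain ⟨u, hu, hux⟩ := hx
      obtain ⟨g, rfl⟩ := isConj_iff.mp hux
      rw [conj_pow, hab.2 u hu]; group
  have hVea : Cfsg.IsElementaryAbelian p V := ⟨(isMulCommutative_iff V).mpr hVab.1, hVab.2⟩
  have hst : Cfsg.IsPStableOn p V := h1 V hVea
  -- quadratic elements centralize `V`
  have hquad := quadratic_le_centralizer S V Ws hWV le_rfl hst (by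
    intro t ht htq
    have hq : ⁅⁅Ws, Subgroup.zpowers t⁆, Subgroup.zpowers t⁆ = ⊥ := by
      rw [eq_bot_iff, ← htq]
      exact Subgroup.commutator_mono (Subgroup.commutator_mono hWV le_rfl) le_rfl
    have h4 := Wf_star (S : Subgroup G) ht hq
    rw [Subgroup.commutator_eq_bot_iff_le_centralizer] at h4
    rw [Subgroup.mem_centralizer_iff]
    intro w hw
    exact ((Subgroup.mem_centralizer_iff.mp (h4 hw)) t (Subgroup.mem_zpowers t)).symm)
  set C := Subgroup.centralizer (V : Set G) with hC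
  haveI hCn : C.Normal := Subgroup.normal_centralizer
  -- the Thompson subgroup centralizes `V`
  have hJC : Jn p G (S : Subgroup G) ≤ C := by
    by_contra hJV
    obtain ⟨A, _, _, hA3, hA4, _⟩ := hasOffender_Jn (p := p) (dvd_refl p) G (S : Subgroup G) V
      S.isPGroup' hVn hVS hVea hJV
    apply hA4
    rw [Subgroup.commutator_comm, Subgroup.commutator_eq_bot_iff_le_centralizer]
    intro a ha
    apply hquad
    rw [eq_bot_iff, ← hA3]
    exact Subgroup.commutator_mono (Subgroup.commutator_mono le_rfl (Subgroup.zpowers_le.mpr ha))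
      (Subgroup.zpowers_le.mpr ha)
  -- Frattini argument
  set T := (S : Subgroup G) ⊓ C with hT
  obtain ⟨T', hT'⟩ := Cfsg.Agent.Lib.Helper9.exists_sylow_map_eq_inf S C
  have hfr : Subgroup.normalizer (T : Set G) ⊔ C = ⊤ := by
    have := Sylow.normalizer_sup_eq_top T'
    rw [hT'] at this
    exact this
  have hTp : IsPGroup p T := S.isPGroup'.to_le inf_le_left
  have hJT : Jn p G T = Jn p G (S : Subgroup G) :=
    Jn_mid p (S : Subgroup G) T (le_inf (Jn_le p _) hJC) inf_le_left
  have hNT : Subgroup.normalizer (T : Set G) ≤ Subgroup.normalizer (Ws : Set G) := by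
    refine ((isJFunctor_Jn (p := p) (dvd_refl p)).sec.normalizer_le T hTp).trans ?_
    rw [hJT, ← thompsonSubgroupOf_eq']
    exact h3
  have hCN : C ≤ Subgroup.normalizer (Ws : Set G) :=
    (Subgroup.centralizer_le hWV).trans (Subgroup.centralizer_le_normalizer _)
  have htop : Subgroup.normalizer (Ws : Set G) = ⊤ := by
    rw [eq_top_iff, ← hfr]
    exact sup_le hNT hCN
  exact Subgroup.normalizer_eq_top_iff.mp htop

end WS

end Cfsg.Agent.Lib.Lead
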