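import Mathlib
import Cfsg.Agent.Lib.Lead.WS6
import Cfsg.Agent.Lib.Lead.CoprimeFrattini

set_option autoImplicit false

/-!
Stellmacher's characteristic subgroup `W(S)`: the hypotheses of the normality theorem from
`p`-stability in the action sense.
-/

namespace Cfsg.Agent.Lib.Lead

namespace WS

open scoped commutatorElement
open ZJ GT Thom

universe u

variable {G : Type u} [Group G] [Finite G] {p : ℕ} [hp : Fact p.Prime]

/-- the kernel of the action on `O_p(G) / Φ(O_p(G))` is a `p`-group when `O_p(G)` contains its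
centralizer -/
theorem sectionKernel_isPGroup
    [hΦ : ((frattini ↥(Cfsg.pCore p G)).map (Cfsg.pCore p G).subtype).Normal]
    (hc : Subgroup.centralizer (Cfsg.pCore p G : Set G) ≤ Cfsg.pCore p G) :
    IsPGroup p ↥(Cfsg.sectionKernel (Cfsg.pCore p G)
      ((frattini ↥(Cfsg.pCore p G)).map (Cfsg.pCore p G).subtype)) := by
  set Q := Cfsg.pCore p G with hQ
  set Φ := (frattini ↥Q).map Q.subtype with hΦdef
  set CK := Cfsg.sectionKernel Q Φ with hCK
  have hQn : Q.Normal := Cfsg.Agent.Lib.Helper9.pCore_normal' p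
  have hQp : IsPGroup p Q := Cfsg.Agent.Lib.Helper9.pCore_isPGroup' p
  have hcard : Nat.card CK = p ^ (Nat.card CK).primeFactorsList.length := by
    apply Nat.eq_prime_pow_of_unique_prime_dvd Nat.card_pos.ne'
    intro q hq hqd
    haveI : Fact q.Prime := ⟨hq⟩
    obtain ⟨x, hx⟩ := exists_prime_orderOf_dvd_card' q hqd
    by_contra hqp
    have hcop : Nat.Coprime q p := (Nat.coprime_primes hq hp.out).mpr hqp
    set A := Subgroup.zpowers (x : G) with hA
    have hxo : orderOf (x : G) = q := by rw [Subgroup.orderOf_coe, hx]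
    have hAcard : Nat.card A = q := by rw [hA, Nat.card_zpowers, hxo]
    have hAC : A ≤ Subgroup.centralizer (Q : Set G) := by
      apply coprime_trivial_on_frattini_quotient A Q
      · rw [Subgroup.normalizer_eq_top_iff.mpr hQn]; exact le_top
      · rw [hAcard]
        obtain ⟨k, hk⟩ := (IsPGroup.iff_card.mp (hQp.to_le (Subgroup.map_subtype_le (frattini ↥Q))))
        have : Nat.card (frattini ↥Q) = Nat.card ((frattini ↥Q).map Q.subtype) :=
          (Subgroup.card_map_of_injective Q.subtype_injective).symm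
        rw [this, hk]
        exact Nat.Coprime.pow_right _ hcop
      · intro a ha k hk
        have haCK : a ∈ CK := (Subgroup.zpowers_le.mpr x.2) ha
        rw [hCK, Cfsg.sectionKernel, Subgroup.mem_comap, Subgroup.mem_centralizer_iff] at haCK
        have h1 := haCK (QuotientGroup.mk' Φ k) ⟨k, hk, rfl⟩
        rw [← QuotientGroup.eq_one_iff (N := Φ)]
        simp only [QuotientGroup.mk'_apply] at h1
        rw [QuotientGroup.mk_mul, QuotientGroup.mk_mul, QuotientGroup.mk_mul, QuotientGroup.mk_inv,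
          QuotientGroup.mk_inv, ← h1]
        group
    have hxQ : (x : G) ∈ Q := hc (hAC (Subgroup.mem_zpowers _))
    obtain ⟨k, hk⟩ := (IsPGroup.iff_orderOf.mp hQp) ⟨x, hxQ⟩
    rw [Subgroup.orderOf_mk, hxo] at hk
    have h2 : q ∣ p ^ k := by rw [← hk]
    exact hqp ((Nat.prime_dvd_prime_iff_eq hq hp.out).mp (hq.dvd_of_dvd_pow h2))
  exact IsPGroup.of_card hcard

/-- an element acting quadratically on `O_p(G) / Φ(O_p(G))` lies in `O_p(G)` -/
theorem mem_pCore_of_section
    [hΦ : ((frattini ↥(Cfsg.pCore p G)).map (Cfsg.pCore p G).subtype).Normal]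
    (hsec : Cfsg.IsPStableOnSection p (Cfsg.pCore p G)
      ((frattini ↥(Cfsg.pCore p G)).map (Cfsg.pCore p G).subtype))
    (hc : Subgroup.centralizer (Cfsg.pCore p G : Set G) ≤ Cfsg.pCore p G) (a : G)
    (ha : ⁅⁅Cfsg.pCore p G, Subgroup.zpowers a⁆, Subgroup.zpowers a⁆ ≤
      (frattini ↥(Cfsg.pCore p G)).map (Cfsg.pCore p G).subtype) :
    a ∈ Cfsg.pCore p G := by
  obtain ⟨D, hDn, hCD, ⟨k, hk⟩, haD⟩ := hsec a ha
  have hCKp := sectionKernel_isPGroup (p := p) (G := G) hc
  set CK := Cfsg.sectionKernel (Cfsg.pCore p G)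
      ((frattini ↥(Cfsg.pCore p G)).map (Cfsg.pCore p G).subtype) with hCK
  have hDp : IsPGroup p D := by
    have h1 := (CK.subgroupOf D).card_mul_index
    have h2 : IsPGroup p (CK.subgroupOf D) := hCKp.comap_subtype
    obtain ⟨j, hj⟩ := IsPGroup.iff_card.mp h2
    have h3 : (CK.subgroupOf D).index = p ^ k := hk
    rw [hj, h3, ← pow_add] at h1
    exact IsPGroup.of_card h1.symm
  exact Cfsg.Agent.Lib.Helper9.le_pCore hDn hDp haD

/-- `W(S) ≤ O_p(G)` -/
theorem Wf_le_pCore
    [hΦ : ((frattini ↥(Cfsg.pCore p G)).map (Cfsg.pCore p G).subtype).Normal]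
    (hsec : Cfsg.IsPStableOnSection p (Cfsg.pCore p G)
      ((frattini ↥(Cfsg.pCore p G)).map (Cfsg.pCore p G).subtype))
    (hc : Subgroup.centralizer (Cfsg.pCore p G : Set G) ≤ Cfsg.pCore p G) (S : Sylow p G) :
    Wf p G S ≤ Cfsg.pCore p G := by
  intro w hw
  apply mem_pCore_of_section hsec hc
  set Ws := Wf p G S with hWs
  set Q := Cfsg.pCore p G with hQ
  have hQS : Q ≤ (S : Subgroup G) := Cfsg.Agent.Lib.Helper9.pCore_le_sylow S
  have hSN : (S : Subgroup G) ≤ Subgroup.normalizer (Ws : Set G) :=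
    Subgroup.le_normalizer.trans (normalizer_le_normalizer_Wf _ S.isPGroup')
  have hab := abelExp_Wf p (S : Subgroup G)
  have h1 : ⁅Q, Subgroup.zpowers w⁆ ≤ Ws := by
    rw [Subgroup.commutator_le]
    intro q hq z hz
    have hzW : z ∈ Ws := (Subgroup.zpowers_le.mpr hw) hz
    rw [commutatorElement_def]
    refine Subgroup.mul_mem _ ?_ (Subgroup.inv_mem _ hzW)
    exact (Subgroup.mem_normalizer_iff.mp (hSN (hQS hq)) z).mp hzW
  have h2 : ⁅⁅Q, Subgroup.zpowers w⁆, Subgroup.zpowers w⁆ = ⊥ := by
    rw [eq_bot_iff]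
    refine (Subgroup.commutator_mono h1 (Subgroup.zpowers_le.mpr hw)).trans ?_
    rw [Subgroup.commutator_le]
    intro a ha b hb
    rw [commutatorElement_eq_one_iff_mul_comm.mpr (hab.1 a ha b hb)]
    exact Subgroup.one_mem _
  rw [h2]
  exact bot_le

theorem sylow_le_normalizer_thompson (S : Sylow p G) :
    (S : Subgroup G) ≤
      Subgroup.normalizer (Cfsg.thompsonSubgroupOf p (S : Subgroup G) : Set G) := by
  rw [thompsonSubgroupOf_eq']
  exact Subgroup.le_normalizer.trans
    ((isJFunctor_Jn (p := p) (dvd_refl p)).sec.normalizer_le _ S.isPGroup')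

/-- the inclusion of a Sylow subgroup in the normalizer of its Thompson subgroup is a stable
embedding -/
theorem isStableEmbedding_inclusion (S : Sylow p G)
    (hst : ∀ (V : Subgroup ↥(Subgroup.normalizer
        (Cfsg.thompsonSubgroupOf p (S : Subgroup G) : Set G))) [V.Normal],
      V.map (Subgroup.normalizer (Cfsg.thompsonSubgroupOf p (S : Subgroup G) : Set G)).subtype ≤
        (Cfsg.omegaCenterThompson p ↥(S : Subgroup G)).map (S : Subgroup G).subtype →
      Cfsg.IsPStableOn p V)
    (hc : Subgroup.centralizer (Cfsg.pCore p G : Set G) ≤ Cfsg.pCore p G) :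
    Cfsg.IsStableEmbedding p (Subgroup.inclusion (sylow_le_normalizer_thompson S)) := by
  set N := Subgroup.normalizer (Cfsg.thompsonSubgroupOf p (S : Subgroup G) : Set G) with hN
  have hSN : (S : Subgroup G) ≤ N := sylow_le_normalizer_thompson S
  set τ := Subgroup.inclusion hSN with hτ
  have hcomp : N.subtype.comp τ = (S : Subgroup G).subtype := Subgroup.subtype_comp_inclusion hSN
  have hmap : ∀ K : Subgroup ↥(S : Subgroup G), (K.map τ).map N.subtype = K.map (S : Subgroup G).subtype := by
    intro K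
    rw [Subgroup.map_map, hcomp]
  refine ⟨Subgroup.inclusion_injective hSN, inferInstance, ⟨S.subtype hSN, ?_⟩, ?_, ?_, ?_⟩
  · rw [Sylow.coe_subtype, hτ, Subgroup.inclusion_range]
  · -- `C_N(O_p(N)) ≤ O_p(N)`
    set Q := Cfsg.pCore p G with hQ
    have hQn : Q.Normal := Cfsg.Agent.Lib.Helper9.pCore_normal' p
    have hQp : IsPGroup p Q := Cfsg.Agent.Lib.Helper9.pCore_isPGroup' p
    have hQS : Q ≤ (S : Subgroup G) := Cfsg.Agent.Lib.Helper9.pCore_le_sylow S
    have hQN : Q.subgroupOf N ≤ Cfsg.pCore p ↥N := by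
      apply Cfsg.Agent.Lib.Helper9.le_pCore
      · exact hQn.subgroupOf N
      · exact hQp.comap_subtype
    intro x hx
    apply hQN
    rw [Subgroup.mem_subgroupOf]
    apply hc
    rw [Subgroup.mem_centralizer_iff]
    intro q hq
    have hqN : q ∈ N := hSN (hQS hq)
    have h1 := (Subgroup.mem_centralizer_iff.mp hx) ⟨q, hqN⟩
      (hQN (Subgroup.mem_subgroupOf.mpr hq))
    exact congrArg Subtype.val h1
  · -- the image of the Thompson subgroup is normal
    have h1 : (Cfsg.thompsonSubgroup p ↥(S : Subgroup G)).map τ =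
        (Cfsg.thompsonSubgroupOf p (S : Subgroup G)).subgroupOf N := by
      rw [Subgroup.subgroupOf, Cfsg.thompsonSubgroupOf, ← hmap,
        Subgroup.comap_map_eq_self_of_injective N.subtype_injective]
    rw [h1]
    exact Subgroup.normal_in_normalizer
  · intro V hVn hV
    apply hst V
    rw [← hmap]
    exact Subgroup.map_mono hV

/-- `N_G(J(S)) ≤ N_G(W(S))` -/
theorem normalizer_thompson_le (S : Sylow p G)
    (hst : ∀ (V : Subgroup ↥(Subgroup.normalizer
        (Cfsg.thompsonSubgroupOf p (S : Subgroup G) : Set G))) [V.Normal],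
      V.map (Subgroup.normalizer (Cfsg.thompsonSubgroupOf p (S : Subgroup G) : Set G)).subtype ≤
        (Cfsg.omegaCenterThompson p ↥(S : Subgroup G)).map (S : Subgroup G).subtype →
      Cfsg.IsPStableOn p V)
    (hc : Subgroup.centralizer (Cfsg.pCore p G : Set G) ≤ Cfsg.pCore p G) :
    Subgroup.normalizer (Cfsg.thompsonSubgroupOf p (S : Subgroup G) : Set G) ≤
      Subgroup.normalizer (Wf p G S : Set G) := by
  set N := Subgroup.normalizer (Cfsg.thompsonSubgroupOf p (S : Subgroup G) : Set G) with hN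
  have hSN : (S : Subgroup G) ≤ N := sylow_le_normalizer_thompson S
  have hemb := isStableEmbedding_inclusion S hst hc
  have hnorm := mapW_normal _ hemb
  have hcomp : N.subtype.comp (Subgroup.inclusion hSN) = (S : Subgroup G).subtype :=
    Subgroup.subtype_comp_inclusion hSN
  have hmap : ((Cfsg.stableNormalClosure p ↥(S : Subgroup G)).map (Subgroup.inclusion hSN)).map
      N.subtype = Wf p G S := by
    rw [Subgroup.map_map, hcomp]; rfl
  intro n hn
  rw [Subgroup.mem_normalizer_iff]
  have key : ∀ m ∈ N, ∀ w ∈ Wf p G S, m * w * m⁻¹ ∈ Wf p G S := by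
    intro m hm w hw
    rw [← hmap] at hw ⊢
    obtain ⟨w', hw', rfl⟩ := hw
    exact ⟨_, hnorm.conj_mem w' hw' ⟨m, hm⟩, rfl⟩
  intro w
  constructor
  · exact key n hn w
  · intro h
    have := key n⁻¹ (N.inv_mem hn) _ h
    convert this using 1
    group

/-- `W(S)` is normal in a group that is `p`-stable in the action sense and in which `O_p`
contains its centralizer -/
theorem Wf_normal (hst : Cfsg.IsActionPStable p G)
    (hc : Subgroup.centralizer (Cfsg.pCore p G : Set G) ≤ Cfsg.pCore p G) (S : Sylow p G) :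
    (Wf p G S).Normal := by
  obtain ⟨h1, h2, h3⟩ := hst
  exact Wf_normal_of S h1 (Wf_le_pCore h2 hc S) (normalizer_thompson_le S (h3 S) hc)

end WS

end Cfsg.Agent.Lib.Lead
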