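import Mathlib
import Cfsg.Agent.Lib.Lead.WS7
import Cfsg.Agent.Lib.Helper6.PPrimeCore
import Cfsg.Agent.Lib.Helper4.SolvBalance
import Cfsg.Agent.Lib.Helper4.HallHigman
import Cfsg.Agent.Lib.Helper7.PSolvable
import Cfsg.Agent.Lib.Helper2.ActionPStable
import Cfsg.Agent.Lib.Helper2.SL2PSolv

set_option autoImplicit false

/-!
Stellmacher's characteristic subgroup `W(S)`: the factorization `G = O_{p'}(G) N_G(W(S))`.
-/

namespace Cfsg.Agent.Lib.Lead

namespace WS

open scoped commutatorElement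
open ZJ GT Thom

universe u

variable {G : Type u} [Group G] [Finite G] {p : ℕ} [hp : Fact p.Prime]

theorem sup_normalizer_Wf_eq_top
    (hst : Cfsg.IsActionPStable p (G ⧸ Cfsg.pPrimeCore p G))
    (hc : Subgroup.centralizer (Cfsg.pCore p (G ⧸ Cfsg.pPrimeCore p G) : Set (G ⧸ Cfsg.pPrimeCore p G)) ≤
      Cfsg.pCore p (G ⧸ Cfsg.pPrimeCore p G)) (S : Sylow p G) :
    Cfsg.pPrimeCore p G ⊔ Subgroup.normalizer (Wf p G S : Set G) = ⊤ := by
  set K := Cfsg.pPrimeCore p G with hK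
  have hKc : (Nat.card K).Coprime p := Cfsg.Agent.Lib.Helper6.pPrimeCore_coprime p
  set π := QuotientGroup.mk' K with hπ
  set Sb : Sylow p (G ⧸ K) := S.mapSurjective (QuotientGroup.mk'_surjective K) with hSb
  have hSbc : (Sb : Subgroup (G ⧸ K)) = (S : Subgroup G).map π := rfl
  have hW : Wf p (G ⧸ K) (Sb : Subgroup (G ⧸ K)) = (Wf p G S).map π := by
    rw [hSbc]
    exact Wf_map π S (injOn_mk_of_coprime K hKc S S.isPGroup')
  have hn : (Wf p (G ⧸ K) (Sb : Subgroup (G ⧸ K))).Normal := Wf_normal hst hc Sb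
  rw [hW] at hn
  have h1 : Subgroup.normalizer (((Wf p G S).map π : Subgroup (G ⧸ K)) : Set (G ⧸ K)) = ⊤ :=
    Subgroup.normalizer_eq_top_iff.mpr hn
  rw [normalizer_map_mk K hKc (Wf p G S) (S.isPGroup'.to_le (Wf_le p _))] at h1
  have h2 := congrArg (Subgroup.comap π) h1
  rw [Subgroup.comap_map_eq, Subgroup.comap_top, hπ, QuotientGroup.ker_mk'] at h2
  rw [sup_comm]
  exact h2

theorem sup_normalizer_Wf_eq_top_of_isPSolvable (hp5 : 5 ≤ p) (hsep : Cfsg.IsPSolvable p G)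
    (S : Sylow p G) :
    Cfsg.pPrimeCore p G ⊔ Subgroup.normalizer (Wf p G S : Set G) = ⊤ := by
  have hq : Cfsg.IsPSolvable p (G ⧸ Cfsg.pPrimeCore p G) :=
    Cfsg.Agent.Lib.Helper7.isPSolvable_quotient hsep _
  have hp2 : p ≠ 2 := by omega
  apply sup_normalizer_Wf_eq_top
  · exact Cfsg.Agent.Lib.Helper2.ActionPStable.isActionPStable_of_not_hasSL2Section hp2
      (Cfsg.Agent.Lib.Helper2.SL2Sections.not_hasSL2Section_of_isPSolvable p hp5 hq)
  · exact Cfsg.Agent.Lib.Helper4.centralizer_pCore_le_of_isPSolvable hq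
      (Cfsg.Agent.Lib.Helper4.pPrimeCore_quotient_self p)

end WS

end Cfsg.Agent.Lib.Lead
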