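import Mathlib
import Cfsg.Agent.Lib.Lead.WS7
import Cfsg.Agent.Lib.Lead.GT13

set_option autoImplicit false

/-!
Stellmacher's characteristic subgroup `W(S)`: the normal `p`-complement theorem.
-/

namespace Cfsg.Agent.Lib.Lead

namespace WS

open scoped commutatorElement
open ZJ GT Thom

universe u

variable {p : ℕ} [hp : Fact p.Prime]

/-- in a group of the special shape, the action on every normal `p`-subgroup is `p`-stable -/
theorem isPStableOn_of_shape (hp2 : p ≠ 2) {N : Type u} [Group N] [Finite N] (H K : Subgroup N)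
    (hs : Shape p H K) (B : Subgroup N) [hBn : B.Normal] (hB : IsPGroup p B) :
    Cfsg.IsPStableOn p B := by
  intro a hq
  obtain ⟨M, hMn, haM, hMc⟩ := ps_main hp2 _ N H K B hs hBn hB rfl a (quad_elementwise B a hq)
  haveI := hMn
  exact mem_pCore_quot_of (Subgroup.centralizer (B : Set N)) M hMc a haM

variable {G : Type u} [Group G] [Finite G]

/-- `W(S) ≤ O_p(G)` when the action on `O_p(G)` is `p`-stable -/
theorem Wf_le_pCore_of_isPStableOn
    (hst : ∀ (B : Subgroup G) [B.Normal], IsPGroup p B → Cfsg.IsPStableOn p B)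
    (hc : Subgroup.centralizer (Cfsg.pCore p G : Set G) ≤ Cfsg.pCore p G) (S : Sylow p G) :
    Wf p G S ≤ Cfsg.pCore p G := by
  set Q := Cfsg.pCore p G with hQ
  haveI hQn : Q.Normal := Cfsg.Agent.Lib.Helper9.pCore_normal' p
  have hQp : IsPGroup p Q := Cfsg.Agent.Lib.Helper9.pCore_isPGroup' p
  have hQS : Q ≤ (S : Subgroup G) := Cfsg.Agent.Lib.Helper9.pCore_le_sylow S
  have hSN : (S : Subgroup G) ≤ Subgroup.normalizer (Wf p G S : Set G) :=
    Subgroup.le_normalizer.trans (normalizer_le_normalizer_Wf _ S.isPGroup')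
  have hab := abelExp_Wf p (S : Subgroup G)
  have h1 : Wf p G S ≤ stabPre p Q :=
    le_stabPre_of_quadratic Q (hst Q hQp) (Wf p G S) hab.1 (hQS.trans hSN)
  have h2 : IsPGroup p (stabPre p Q) := stabPre_isPGroup Q hQp hc
  exact h1.trans (Cfsg.Agent.Lib.Helper9.le_pCore inferInstance h2)

/-- `W(S)` is normal in a group of the special shape -/
theorem Wf_normal_of_shape (hp2 : p ≠ 2) (H K : Subgroup G) (hs : Shape p H K)
    (hc : Subgroup.centralizer (Cfsg.pCore p G : Set G) ≤ Cfsg.pCore p G) (S : Sylow p G) :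
    (Wf p G S).Normal := by
  have hst : ∀ (B : Subgroup G) [B.Normal], IsPGroup p B → Cfsg.IsPStableOn p B :=
    fun B _ hB => isPStableOn_of_shape hp2 H K hs B hB
  apply Wf_normal_of S
  · intro V hVn hV
    apply @hst V hVn
    intro v
    refine ⟨1, ?_⟩
    apply Subtype.ext
    rw [pow_one, Subgroup.coe_pow, Subgroup.coe_one]
    exact hV.2 v v.2
  · exact Wf_le_pCore_of_isPStableOn hst hc S
  · apply normalizer_thompson_le S _ hc
    intro V hVn hV
    apply @isPStableOn_of_shape p hp hp2 _ _ _ (H.subgroupOf _) (K.subgroupOf _) (hs.subgroupOf _) V hVn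
    rintro ⟨v, hv⟩
    have h1 : ((v : ↥(Subgroup.normalizer (Cfsg.thompsonSubgroupOf p (S : Subgroup G) : Set G))) : G) ∈
        (S : Subgroup G) := by
      obtain ⟨s, -, hs'⟩ := hV ⟨v, hv, rfl⟩
      have hs'' : (s : G) = (v : G) := hs'
      rw [← hs'']
      exact s.2
    obtain ⟨k, hk⟩ := S.isPGroup' ⟨_, h1⟩
    refine ⟨k, ?_⟩
    apply Subtype.ext
    apply Subtype.ext
    have := congrArg Subtype.val hk
    simpa using this

/-- the normal `p`-complement theorem for `W(S)` -/
theorem pnilp_of_normalizer_Wf (hp2 : p ≠ 2) (T : Sylow p G)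
    (hN : PNilp p (Subgroup.normalizer (Wf p G T : Set G))) : PNilp p G := by
  have hW := isSecFunctor_Wf.{u} (p := p)
  have key := reduction (p := p) (C := fun _ _ => True) (φ := True) hW
    (fun _ _ _ _ _ => trivial) (fun _ _ _ _ _ _ => trivial) (by
      intro X _ _ hmc T D hAdm hN hs
      obtain ⟨K, hK, -⟩ := hs.shape
      have hD : D = (T : Subgroup X) := hAdm.2 trivial
      subst hD
      have hnorm : (Wf p X T).Normal := Wf_normal_of_shape hp2 _ K hK hs.cent T
      apply hmc.not_nilp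
      exact pnilp_of_eq_top (Subgroup.normalizer_eq_top_iff.mpr hnorm) hN)
  exact key G trivial T T ⟨sClosed_self _, fun _ => rfl⟩ hN

end WS

end Cfsg.Agent.Lib.Lead
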