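import Mathlib
import Cfsg.Agent.Lib.Lead.Yoshida9
import Cfsg.Agent.Lib.Lead.Tate2E

set_option autoImplicit false
open scoped commutatorElement

namespace Cfsg.Agent.Lib.Lead

universe u

namespace Yoshida

section
variable {G : Type u} [Group G] [Finite G] {p : ℕ} [hp : Fact p.Prime]

/-- if `P ≤ H` and `P ∩ O^p(G) ≤ O^p(H)` then `O^p(H) = O^p(G) ∩ H` -/
theorem pResidualOf_eq_inf (P : Sylow p G) (H : Subgroup G) (hPH : (P : Subgroup G) ≤ H)
    (h : (P : Subgroup G) ⊓ Cfsg.pResidual p G ≤ Cfsg.pResidualOf p H) :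
    Cfsg.pResidualOf p H = Cfsg.pResidual p G ⊓ H := by
  apply le_antisymm
  · exact le_inf (Tate2.pResidualOf_le_pResidual H) (Tate2.pResidualOf_le H)
  · rintro g ⟨hgK, hgH⟩
    haveI hKn : (Cfsg.pResidual p H).Normal := pResidual_normal p
    let PH : Sylow p H := P.subtype hPH
    have htop := Cfsg.Agent.Lib.Helper6.pResidual_sup_sylow PH
    have hg : (⟨g, hgH⟩ : H) ∈ Cfsg.pResidual p H ⊔ (PH : Subgroup H) := by
      rw [htop]; exact Subgroup.mem_top _
    rw [← SetLike.mem_coe, Subgroup.normal_mul] at hg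
    obtain ⟨k, hk, x, hx, hkx⟩ := hg
    have hkK : (k : G) ∈ Cfsg.pResidualOf p H := Subgroup.mem_map_of_mem _ hk
    have hxP : (x : G) ∈ (P : Subgroup G) := by
      have : x ∈ (P : Subgroup G).subgroupOf H := hx
      exact Subgroup.mem_subgroupOf.mp this
    have hgeq : g = (k : G) * (x : G) := by
      have := congrArg (fun z : H => (z : G)) hkx
      simpa using this.symm
    have hxK : (x : G) ∈ Cfsg.pResidual p G := by
      have h1 : (x : G) = (k : G)⁻¹ * g := by rw [hgeq]; group
      rw [h1]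
      exact Subgroup.mul_mem _ (Subgroup.inv_mem _ (Tate2.pResidualOf_le_pResidual H hkK)) hgK
    rw [hgeq]
    exact Subgroup.mul_mem _ hkK (h ⟨hxP, hxK⟩)

/-- **Hall–Wielandt / Yoshida**: a Sylow `p`-subgroup of class less than `p` has a normalizer
controlling `O^p`. -/
theorem pResidualOf_normalizer_of_class_lt (P : Sylow p G)
    (hcl : (P : Subgroup G).lowerCentralSeries (p - 1) = ⊥) :
    Cfsg.pResidualOf p (Subgroup.normalizer ((P : Subgroup G) : Set G)) =
      Cfsg.pResidual p G ⊓ Subgroup.normalizer ((P : Subgroup G) : Set G) := by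
  have hPN : (P : Subgroup G) ≤ Subgroup.normalizer ((P : Subgroup G) : Set G) :=
    Subgroup.le_normalizer
  have hcl' : (⊤ : Subgroup (P : Subgroup G)).lowerCentralSeries (p - 1) = ⊥ := by
    have h1 := Subgroup.top_subtype_lowerCentralSeries (P : Subgroup G) (p - 1)
    rw [hcl] at h1
    exact (Subgroup.map_eq_bot_iff_of_injective _ (Subgroup.subtype_injective _)).mp h1
  have hNV := normVanish_of_class_lt (P := (P : Subgroup G)) (p := p) hcl'
  have hfoc := focal_eq_of_normVanish P hNV
  apply pResidualOf_eq_inf P _ hPN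
  apply Tate2.tate_general P _ hPN
  rw [hfoc]
  exact inf_le_right

end

end Yoshida

end Cfsg.Agent.Lib.Lead
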