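import Mathlib
import Cfsg.Agent.Lib.Lead.Yoshida5

set_option autoImplicit false
open MulAction Function

namespace Cfsg.Agent.Lib.Lead

universe u

namespace Yoshida

section
variable {P : Type u} [Group P] [Finite P] {p : ℕ} [hp : Fact p.Prime]

/-- the norm of a character of a maximal subgroup is its value at an iterated commutator -/
theorem norm_eq_iterate (M : Subgroup P) [hMn : M.Normal] (hidx : M.index = p)
    (ψ : M →* Multiplicative (ZMod p)) (g : P) (hg : g ∉ M) (y : P) (hy : y ∈ M)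
    [Fintype (P ⧸ M)] :
    ∏ b : P ⧸ M, ext1 M ψ (b.out⁻¹ * y * b.out) =
      ext1 M ψ ((fun y : P => y⁻¹ * g⁻¹ * y * g)^[p - 1] y) := by
  haveI : NeZero p := ⟨hp.out.ne_zero⟩
  rw [prod_quot_eq M ψ g hidx hg y hy]
  let c : M → M := fun z => z⁻¹ * (MulAut.conjNormal g⁻¹ : MulAut M) z
  have hc1 : ∀ z : M, Multiplicative.toAdd (Theta M ψ g (c z)) =
      tau (Multiplicative.toAdd (Theta M ψ g z)) := by
    intro z
    change Multiplicative.toAdd (Theta M ψ g (z⁻¹ * (MulAut.conjNormal g⁻¹ : MulAut M) z)) = _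
    rw [map_mul, map_inv, toAdd_mul, toAdd_inv, Theta_conj M ψ g hidx]
    have : tau (Multiplicative.toAdd (Theta M ψ g z)) =
      shift (Multiplicative.toAdd (Theta M ψ g z)) - Multiplicative.toAdd (Theta M ψ g z) := rfl
    rw [this]
    abel
  have hc2 : ∀ (n : ℕ) (z : M), Multiplicative.toAdd (Theta M ψ g (c^[n] z)) =
      (tau ^ n) (Multiplicative.toAdd (Theta M ψ g z)) := by
    intro n
    induction n with
    | zero => intro z; simp
    | succ n ih =>
      intro z
      rw [Function.iterate_succ_apply', hc1, ih, pow_succ', Module.End.mul_apply]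
  have hc3 : ∀ (n : ℕ) (z : M), ((c^[n] z : M) : P) =
      (fun y : P => y⁻¹ * g⁻¹ * y * g)^[n] (z : P) := by
    intro n
    induction n with
    | zero => intro z; rfl
    | succ n ih =>
      intro z
      rw [Function.iterate_succ_apply', Function.iterate_succ_apply', ← ih]
      change (((c^[n] z)⁻¹ * (MulAut.conjNormal g⁻¹ : MulAut M) (c^[n] z) : M) : P) = _
      rw [Subgroup.coe_mul, MulAut.conjNormal_apply, Subgroup.coe_inv]
      group
  have h2 := congrFun (hc2 (p - 1) ⟨y, hy⟩) 0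
  rw [tau_pow_pred_apply, sum_Theta, Theta_apply, theta_apply, ZMod.val_zero, pow_zero, map_one,
    MulAut.one_apply] at h2
  have h3 := Multiplicative.toAdd.injective h2
  rw [← h3]
  have hmem : (fun y : P => y⁻¹ * g⁻¹ * y * g)^[p - 1] y ∈ M := by
    rw [← hc3 (p - 1) ⟨y, hy⟩]; exact (c^[p - 1] ⟨y, hy⟩).2
  rw [ext1_of_mem M ψ hmem]
  congr 1
  apply Subtype.ext
  exact hc3 (p - 1) ⟨y, hy⟩

/-- **Theorem C₀.** Reduction of the fixed point transfer from `D` to a normal subgroup `M ≥ D`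
of index `p`. -/
theorem prod_ext1_eq_prod_transfer (D M : Subgroup P) [hMn : M.Normal] (hDM : D ≤ M)
    (ν : D →* Multiplicative (ZMod p)) (x : P)
    (hx : ∀ (y : P) (hy : y ∈ D), orderOf y < orderOf x → ν ⟨y, hy⟩ = 1)
    [Fintype (P ⧸ D)] [Fintype (P ⧸ M)] :
    ∏ c : P ⧸ D, ext1 D ν (c.out⁻¹ * x * c.out) =
      ∏ b : P ⧸ M, ext1 M (MonoidHom.transfer
        (ν.comp (Subgroup.subgroupOfEquivOfLe hDM).toMonoidHom)) (b.out⁻¹ * x * b.out) := by
  classical
  by_cases hxM : x ∈ M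
  swap
  · rw [Finset.prod_eq_one, Finset.prod_eq_one]
    · intro b _
      apply ext1_of_not_mem
      intro h
      apply hxM
      have h1 := hMn.conj_mem _ h b.out
      have h2 : b.out * (b.out⁻¹ * x * b.out) * b.out⁻¹ = x := by group
      rwa [h2] at h1
    · intro c _
      apply ext1_of_not_mem
      intro h
      apply hxM
      have h1 := hMn.conj_mem _ (hDM h) c.out
      have h2 : c.out * (c.out⁻¹ * x * c.out) * c.out⁻¹ = x := by group
      rwa [h2] at h1
  letI : Fintype (M ⧸ D.subgroupOf M) := Fintype.ofFinite _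
  let e := Subgroup.quotientEquivProdOfLE hDM
  let νM : D.subgroupOf M →* Multiplicative (ZMod p) :=
    ν.comp (Subgroup.subgroupOfEquivOfLe hDM).toMonoidHom
  have hrep : ∀ a : P, ext1 D ν ((QuotientGroup.mk a : P ⧸ D).out⁻¹ * x *
      (QuotientGroup.mk a : P ⧸ D).out) = ext1 D ν (a⁻¹ * x * a) := by
    intro a
    apply ext1_conj_coset
    apply QuotientGroup.eq.mp
    exact (QuotientGroup.out_eq' _).symm
  have hsymm : ∀ (b : P ⧸ M) (m : M ⧸ D.subgroupOf M),
      e.symm (b, m) = (QuotientGroup.mk (b.out * (m.out : P)) : P ⧸ D) := by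
    intro b m
    conv_lhs => rw [← QuotientGroup.out_eq' m]
    rfl
  rw [← Equiv.prod_comp e.symm, Fintype.prod_prod_type]
  refine Finset.prod_congr rfl (fun b _ => ?_)
  have hxb : b.out⁻¹ * x * b.out ∈ M := by
    have := hMn.conj_mem x hxM b.out⁻¹
    rwa [inv_inv] at this
  rw [ext1_of_mem M _ hxb]
  change _ = MonoidHom.transfer νM ⟨b.out⁻¹ * x * b.out, hxb⟩
  rw [transfer_eq_prod_fixed (D.subgroupOf M) νM ⟨b.out⁻¹ * x * b.out, hxb⟩]
  · refine Finset.prod_congr rfl (fun m _ => ?_)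
    rw [hsymm, hrep, ext1_subgroupOf D M hDM ν]
    congr 1
    simp only [Subgroup.coe_mul, Subgroup.coe_inv, mul_inv_rev]
    group
  · intro q hq
    have hlt := orderOf_pow_minimalPeriod_lt (⟨b.out⁻¹ * x * b.out, hxb⟩ : M) q hq
    change ν _ = 1
    apply hx
    have h1 : orderOf (⟨b.out⁻¹ * x * b.out, hxb⟩ : M) = orderOf x := by
      rw [← Subgroup.orderOf_coe]
      exact orderOf_conj_eq b.out x
    rw [← h1]
    refine lt_of_eq_of_lt ?_ hlt
    rw [← Subgroup.orderOf_coe (a := (⟨b.out⁻¹ * x * b.out, hxb⟩ : M) ^ _)]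
    have h2 := orderOf_conj_eq ((q.out : M) : P)
      (((⟨b.out⁻¹ * x * b.out, hxb⟩ : M) ^
        minimalPeriod ((⟨b.out⁻¹ * x * b.out, hxb⟩ : M) • ·) q : M) : P)
    rw [← h2]
    rfl

end

end Yoshida

end Cfsg.Agent.Lib.Lead
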