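import Mathlib
import Cfsg.Agent.Lib.Lead.Yoshida11
import Cfsg.Agent.Lib.Lead.Frattini

set_option autoImplicit false
open MulAction Function

namespace Cfsg.Agent.Lib.Lead

universe u

namespace Yoshida

section
variable {P : Type u} [Group P]

/-- the iterated commutator map commutes with the inclusion of a subgroup -/
theorem iterate_comm_coe (Y : Subgroup P) (z t : Y) (n : ℕ) :
    (((fun t : Y => t⁻¹ * z⁻¹ * t * z)^[n] t : Y) : P) =
      (fun t : P => t⁻¹ * (z : P)⁻¹ * t * (z : P))^[n] (t : P) := by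
  induction n with
  | zero => rfl
  | succ n ih =>
    rw [Function.iterate_succ_apply', Function.iterate_succ_apply', ← ih]
    simp only [Subgroup.coe_mul, Subgroup.coe_inv]

/-- the iterated commutator stays in a normal subgroup -/
theorem iterate_comm_mem (M : Subgroup P) [hMn : M.Normal] (z t : P) (ht : t ∈ M) (n : ℕ) :
    (fun t : P => t⁻¹ * z⁻¹ * t * z)^[n] t ∈ M := by
  induction n with
  | zero => exact ht
  | succ n ih =>
    rw [Function.iterate_succ_apply']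
    have h1 := hMn.conj_mem _ ih z⁻¹
    rw [inv_inv] at h1
    have h2 : ((fun t : P => t⁻¹ * z⁻¹ * t * z)^[n] t)⁻¹ * z⁻¹ *
        ((fun t : P => t⁻¹ * z⁻¹ * t * z)^[n] t) * z =
        ((fun t : P => t⁻¹ * z⁻¹ * t * z)^[n] t)⁻¹ *
          (z⁻¹ * ((fun t : P => t⁻¹ * z⁻¹ * t * z)^[n] t) * z) := by group
    change ((fun t : P => t⁻¹ * z⁻¹ * t * z)^[n] t)⁻¹ * z⁻¹ *
        ((fun t : P => t⁻¹ * z⁻¹ * t * z)^[n] t) * z ∈ M
    rw [h2]
    exact M.mul_mem (M.inv_mem ih) h1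

end

section
variable {P : Type u} [Group P] [Finite P] {p : ℕ} [hp : Fact p.Prime]

/-- **Theorem C'' (weakly closed version).**  Let `W` be a normal subgroup of the `p`-group `P`
not contained in `D`.  If there is no "singularity", the fixed point transfer from `D`
vanishes. -/
theorem prod_ext1_eq_one_of_normal_aux (hP : IsPGroup p P) (W : Subgroup P) [hWn : W.Normal]
    (D : Subgroup P) (hWD : ¬ W ≤ D) (Y : Subgroup P) (hWY : W ≤ Y) (hDY : D ≤ Y)
    (hY : ∀ y ∈ Y, ∃ w ∈ W, ∃ d ∈ D, y = w * d)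
    (ν : D →* Multiplicative (ZMod p)) (x : P)
    (hx : ∀ (y : P) (hy : y ∈ D), orderOf y < orderOf x → ν ⟨y, hy⟩ = 1)
    (hNS : ∀ (y z : P), z ∈ W → ∀ W₀ : Subgroup P, W₀ ≤ W → W₀.relIndex W = p →
      ∀ (hc : (fun t : P => t⁻¹ * z⁻¹ * t * z)^[p - 1] y ∈ W₀)
        (l : W₀ →* Multiplicative (ZMod p)), l ⟨_, hc⟩ = 1)
    [Fintype (P ⧸ D)] :
    ∏ c : P ⧸ D, ext1 D ν (c.out⁻¹ * x * c.out) = 1 := by
  classical
  letI : Fintype (P ⧸ Y) := Fintype.ofFinite _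
  letI : Fintype (Y ⧸ D.subgroupOf Y) := Fintype.ofFinite _
  let e := Subgroup.quotientEquivProdOfLE hDY
  have hrep : ∀ a : P, ext1 D ν ((QuotientGroup.mk a : P ⧸ D).out⁻¹ * x *
      (QuotientGroup.mk a : P ⧸ D).out) = ext1 D ν (a⁻¹ * x * a) := by
    intro a
    apply ext1_conj_coset
    apply QuotientGroup.eq.mp
    exact (QuotientGroup.out_eq' _).symm
  have hsymm : ∀ (a : P ⧸ Y) (b : Y ⧸ D.subgroupOf Y),
      e.symm (a, b) = (QuotientGroup.mk (a.out * (b.out : P)) : P ⧸ D) := by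
    intro a b
    conv_lhs => rw [← QuotientGroup.out_eq' b]
    rfl
  rw [← Equiv.prod_comp e.symm, Fintype.prod_prod_type]
  apply Finset.prod_eq_one
  intro a _
  have hterm : ∀ b : Y ⧸ D.subgroupOf Y,
      ext1 D ν ((e.symm (a, b)).out⁻¹ * x * (e.symm (a, b)).out) =
        ext1 D ν ((b.out : P)⁻¹ * (a.out⁻¹ * x * a.out) * (b.out : P)) := by
    intro b
    rw [hsymm, hrep]
    congr 1
    group
  rw [Finset.prod_congr rfl (fun b _ => hterm b)]
  by_cases hxa : a.out⁻¹ * x * a.out ∈ Y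
  swap
  · apply Finset.prod_eq_one
    intro b _
    apply ext1_of_not_mem
    intro h
    apply hxa
    have h1 : (b.out : P) * ((b.out : P)⁻¹ * (a.out⁻¹ * x * a.out) * (b.out : P)) *
        (b.out : P)⁻¹ ∈ Y :=
      Subgroup.mul_mem _ (Subgroup.mul_mem _ b.out.2 (hDY h)) (Subgroup.inv_mem _ b.out.2)
    have h2 : (b.out : P) * ((b.out : P)⁻¹ * (a.out⁻¹ * x * a.out) * (b.out : P)) *
        (b.out : P)⁻¹ = a.out⁻¹ * x * a.out := by group
    rwa [h2] at h1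
  -- work inside `Y = W D`
  have hYp : IsPGroup p Y := hP.to_subgroup _
  have hDne : D.subgroupOf Y ≠ ⊤ := by
    intro h
    apply hWD
    intro w hw
    have : (⟨w, hWY hw⟩ : Y) ∈ D.subgroupOf Y := by
      rw [h]; exact Subgroup.mem_top _
    exact Subgroup.mem_subgroupOf.mp this
  obtain ⟨M, hMn, hidx, hDM⟩ := exists_normal_index_p_ge hYp _ hDne
  letI : Fintype (Y ⧸ M) := Fintype.ofFinite _
  let νY : D.subgroupOf Y →* Multiplicative (ZMod p) :=
    ν.comp (Subgroup.subgroupOfEquivOfLe hDY).toMonoidHom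
  have hterm2 : ∀ b : Y ⧸ D.subgroupOf Y,
      ext1 D ν ((b.out : P)⁻¹ * (a.out⁻¹ * x * a.out) * (b.out : P)) =
        ext1 (D.subgroupOf Y) νY
          (b.out⁻¹ * (⟨a.out⁻¹ * x * a.out, hxa⟩ : Y) * b.out) := by
    intro b
    rw [ext1_subgroupOf D Y hDY ν]
    rfl
  rw [Finset.prod_congr rfl (fun b _ => hterm2 b)]
  have hxY : ∀ (y : Y) (hy : y ∈ D.subgroupOf Y),
      orderOf y < orderOf (⟨a.out⁻¹ * x * a.out, hxa⟩ : Y) →
        νY ⟨y, hy⟩ = 1 := by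
    intro y hy hlt
    change ν ⟨(y : P), Subgroup.mem_subgroupOf.mp hy⟩ = 1
    apply hx
    rw [Subgroup.orderOf_coe]
    refine lt_of_lt_of_eq hlt ?_
    rw [← Subgroup.orderOf_coe]
    exact orderOf_conj_eq a.out x
  rw [prod_ext1_eq_prod_transfer (D.subgroupOf Y) M hDM νY _ hxY]
  by_cases hxM : (⟨a.out⁻¹ * x * a.out, hxa⟩ : Y) ∈ M
  swap
  · apply Finset.prod_eq_one
    intro b _
    apply ext1_of_not_mem
    intro h
    apply hxM
    have h1 := hMn.conj_mem _ h b.out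
    have h2 : b.out * (b.out⁻¹ * (⟨a.out⁻¹ * x * a.out, hxa⟩ : Y) * b.out) *
        b.out⁻¹ = ⟨a.out⁻¹ * x * a.out, hxa⟩ := by group
    rwa [h2] at h1
  -- an element of `W` outside `M`
  have hMco : IsCoatom M := isCoatom_of_index_prime (by rw [hidx]; exact hp.out)
  have hexz : ∃ z : Y, (z : P) ∈ W ∧ z ∉ M := by
    by_contra hcon
    push Not at hcon
    apply hMco.1
    rw [eq_top_iff]
    rintro ⟨y, hy⟩ _
    obtain ⟨w, hw, d, hd, rfl⟩ := hY y hy
    have h1 : (⟨w, hWY hw⟩ : Y) ∈ M := hcon _ hw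
    have h2 : (⟨d, hDY hd⟩ : Y) ∈ M :=
      hDM (Subgroup.mem_subgroupOf.mpr hd)
    exact M.mul_mem h1 h2
  obtain ⟨z, hzW, hzM⟩ := hexz
  rw [norm_eq_iterate M hidx _ z hzM _ hxM]
  have hcM := iterate_comm_mem M z _ hxM (p - 1)
  rw [ext1_of_mem M _ hcM]
  -- the subgroup `W₀ = W ∩ M`
  have hinj : Function.Injective Y.subtype := Subgroup.subtype_injective _
  have hW₀W : (M ⊓ W.subgroupOf Y).map Y.subtype ≤ W := by
    rintro _ ⟨y, hy, rfl⟩
    exact Subgroup.mem_subgroupOf.mp hy.2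
  have hrel : ((M ⊓ W.subgroupOf Y).map Y.subtype).relIndex W = p := by
    have h1 : ((M ⊓ W.subgroupOf Y).map Y.subtype).relIndex
        ((W.subgroupOf Y).map Y.subtype) = p := by
      rw [Subgroup.relIndex_map_map_of_injective _ _ hinj, Subgroup.inf_relIndex_right,
        ← Subgroup.relIndex_sup_left]
      have htop : M ⊔ W.subgroupOf Y = ⊤ := by
        apply hMco.2
        apply lt_of_le_of_ne le_sup_left
        intro h
        apply hzM
        rw [h]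
        exact Subgroup.mem_sup_right (Subgroup.mem_subgroupOf.mpr hzW)
      rw [htop, Subgroup.relIndex_top_right, hidx]
    rwa [Subgroup.map_subgroupOf_eq_of_le hWY] at h1
  have hcoe := iterate_comm_coe Y z ⟨a.out⁻¹ * x * a.out, hxa⟩ (p - 1)
  have hcW : ((fun t : Y => t⁻¹ * z⁻¹ * t * z)^[p - 1]
      ⟨a.out⁻¹ * x * a.out, hxa⟩) ∈ W.subgroupOf Y := by
    have hp1 : p - 1 = (p - 2) + 1 := by have := hp.out.two_le; omega
    rw [hp1, Function.iterate_succ_apply']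
    rw [Subgroup.mem_subgroupOf]
    simp only [Subgroup.coe_mul, Subgroup.coe_inv]
    have h1 := hWn.conj_mem _ (W.inv_mem hzW) (((fun t : Y =>
      t⁻¹ * z⁻¹ * t * z)^[p - 2] ⟨a.out⁻¹ * x * a.out, hxa⟩ : Y) : P)⁻¹
    rw [inv_inv] at h1
    exact W.mul_mem h1 hzW
  have hc : (fun t : P => t⁻¹ * (z : P)⁻¹ * t * (z : P))^[p - 1] (a.out⁻¹ * x * a.out) ∈
      (M ⊓ W.subgroupOf Y).map Y.subtype := by
    refine Subgroup.mem_map.mpr ⟨_, ⟨hcM, hcW⟩, ?_⟩
    exact hcoe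
  let l : ((M ⊓ W.subgroupOf Y).map Y.subtype) →*
      Multiplicative (ZMod p) :=
    (MonoidHom.transfer (νY.comp (Subgroup.subgroupOfEquivOfLe hDM).toMonoidHom)).comp
      ((Subgroup.inclusion (inf_le_left : M ⊓ W.subgroupOf Y ≤ M)).comp
        (Subgroup.equivMapOfInjective _ _ hinj).symm.toMonoidHom)
  have hl := hNS (a.out⁻¹ * x * a.out) (z : P) hzW _ hW₀W hrel hc l
  have h3 : (Subgroup.equivMapOfInjective (M ⊓ W.subgroupOf Y)
      Y.subtype hinj).symm ⟨_, hc⟩ =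
      ⟨(fun t : Y => t⁻¹ * z⁻¹ * t * z)^[p - 1]
        ⟨a.out⁻¹ * x * a.out, hxa⟩, ⟨hcM, hcW⟩⟩ := by
    rw [MulEquiv.symm_apply_eq]
    apply Subtype.ext
    rw [Subgroup.coe_equivMapOfInjective_apply]
    exact hcoe.symm
  have hl2 : l ⟨_, hc⟩ = MonoidHom.transfer
      (νY.comp (Subgroup.subgroupOfEquivOfLe hDM).toMonoidHom)
      ⟨(fun t : Y => t⁻¹ * z⁻¹ * t * z)^[p - 1] ⟨a.out⁻¹ * x * a.out, hxa⟩, hcM⟩ := by
    change MonoidHom.transfer _ (Subgroup.inclusion (inf_le_left : M ⊓ W.subgroupOf Y ≤ M)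
      ((Subgroup.equivMapOfInjective (M ⊓ W.subgroupOf Y) Y.subtype hinj).symm ⟨_, hc⟩)) = _
    rw [h3]
    rfl
  rw [← hl2]
  exact hl

/-- **Theorem C'' (weakly closed version).** -/
theorem prod_ext1_eq_one_of_normal (hP : IsPGroup p P) (W : Subgroup P) [hWn : W.Normal]
    (D : Subgroup P) (hWD : ¬ W ≤ D) (ν : D →* Multiplicative (ZMod p)) (x : P)
    (hx : ∀ (y : P) (hy : y ∈ D), orderOf y < orderOf x → ν ⟨y, hy⟩ = 1)
    (hNS : ∀ (y z : P), z ∈ W → ∀ W₀ : Subgroup P, W₀ ≤ W → W₀.relIndex W = p →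
      ∀ (hc : (fun t : P => t⁻¹ * z⁻¹ * t * z)^[p - 1] y ∈ W₀)
        (l : W₀ →* Multiplicative (ZMod p)), l ⟨_, hc⟩ = 1)
    [Fintype (P ⧸ D)] :
    ∏ c : P ⧸ D, ext1 D ν (c.out⁻¹ * x * c.out) = 1 := by
  apply prod_ext1_eq_one_of_normal_aux hP W D hWD (W ⊔ D) le_sup_left le_sup_right ?_ ν x hx hNS
  intro y hy
  rw [← SetLike.mem_coe, Subgroup.normal_mul] at hy
  obtain ⟨w, hw, d, hd, rfl⟩ := hy
  exact ⟨w, hw, d, hd, rfl⟩

end

end Yoshida

end Cfsg.Agent.Lib.Lead
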