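import Mathlib
import Cfsg.Agent.Lib.Lead.Yoshida12
import Cfsg.Agent.Lib.Lead.Yoshida7
import Cfsg.Agent.Lib.Lead.Fusion

set_option autoImplicit false
open MulAction Function

namespace Cfsg.Agent.Lib.Lead

universe u

namespace Yoshida

section
variable {P : Type u} [Group P] [Finite P] {p : ℕ} [hp : Fact p.Prime]

/-- the number of cosets of a proper subgroup of a `p`-group fixed by an element is divisible
by `p` -/
theorem card_fixed_dvd (hP : IsPGroup p P) (D : Subgroup P) (hD : D ≠ ⊤) (x : P)
    [Fintype (P ⧸ D)] [DecidablePred (fun c : P ⧸ D => x • c = c)] :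
    p ∣ (Finset.univ.filter (fun c : P ⧸ D => x • c = c)).card := by
  classical
  have hZ : IsPGroup p (Subgroup.zpowers x) := hP.to_subgroup _
  have hmod := hZ.card_modEq_card_fixedPoints (P ⧸ D)
  have hset : Nat.card (MulAction.fixedPoints (Subgroup.zpowers x) (P ⧸ D)) =
      (Finset.univ.filter (fun c : P ⧸ D => x • c = c)).card := by
    rw [Nat.card_eq_fintype_card, ← Fintype.card_subtype]
    apply Fintype.card_congr
    refine Equiv.subtypeEquivRight (fun c => ?_)
    constructor
    · intro h
      exact h ⟨x, Subgroup.mem_zpowers x⟩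
    · rintro h ⟨_, ⟨n, rfl⟩⟩
      change (x ^ n) • c = c
      have h2 : x ∈ MulAction.stabilizer P c := h
      exact (MulAction.stabilizer P c).zpow_mem h2 n
  rw [hset, ← Subgroup.index_eq_card] at hmod
  obtain ⟨k, hk⟩ := hP.index D
  have hk0 : k ≠ 0 := by
    rintro rfl
    rw [pow_zero, Subgroup.index_eq_one] at hk
    exact hD hk
  have hdvd : p ∣ D.index := by rw [hk]; exact dvd_pow_self p hk0
  rw [Nat.dvd_iff_mod_eq_zero, ← hmod, ← Nat.dvd_iff_mod_eq_zero]
  exact hdvd

end

section
variable {G : Type u} [Group G] [Finite G] {p : ℕ} [hp : Fact p.Prime]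
variable (P : Subgroup G) (χ : P →* Multiplicative (ZMod p))

/-- the product over a `P`-orbit of cosets as a product over the cosets of the stabilizer -/
theorem prod_orbit_eq (x : P) (q₀ : G ⧸ P) [Fintype (G ⧸ P)]
    [DecidablePred (fun a : G ⧸ P => a ∈ MulAction.orbit P q₀)]
    [Fintype (P ⧸ MulAction.stabilizer P q₀)] :
    ∏ a ∈ Finset.univ.filter (fun a : G ⧸ P => a ∈ MulAction.orbit P q₀),
      ext1 P χ (a.out⁻¹ * (x : G) * a.out) =
    ∏ c : P ⧸ MulAction.stabilizer P q₀,
      ext1 (MulAction.stabilizer P q₀) (nu P χ q₀) (c.out⁻¹ * x * c.out) := by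
  classical
  letI : Fintype (MulAction.orbit P q₀) := Fintype.ofFinite _
  rw [Finset.prod_subtype (p := fun a : G ⧸ P => a ∈ MulAction.orbit P q₀)
    (Finset.univ.filter (fun a : G ⧸ P => a ∈ MulAction.orbit P q₀))
    (by intro a; simp) (fun a => ext1 P χ (a.out⁻¹ * (x : G) * a.out))]
  rw [← Equiv.prod_comp (MulAction.orbitEquivQuotientStabilizer P q₀).symm]
  refine Finset.prod_congr rfl (fun c _ => ?_)
  have h1 : (((MulAction.orbitEquivQuotientStabilizer P q₀).symm c : MulAction.orbit P q₀) :
      G ⧸ P) = (QuotientGroup.mk (((c.out : P) : G) * q₀.out) : G ⧸ P) := by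
    conv_lhs => rw [← QuotientGroup.out_eq' c]
    rw [MulAction.orbitEquivQuotientStabilizer_symm_apply]
    have h2 : (c.out : P) • q₀ = ((c.out : P) : G) • (QuotientGroup.mk q₀.out : G ⧸ P) := by
      rw [QuotientGroup.out_eq']; rfl
    rw [h2]
    rfl
  rw [h1, ext1_out_eq, ← ext1_nu]
  congr 1
  simp only [Subgroup.coe_mul, Subgroup.coe_inv, mul_inv_rev]
  group

end

section
variable {G : Type u} [Group G] [Finite G] {p : ℕ} [hp : Fact p.Prime]

/-- **Core of Yoshida's theorem, weakly closed version.** -/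
theorem exists_transfer_ne_one_of_weaklyClosed (P : Sylow p G) (W : Subgroup G)
    (hW : Cfsg.IsWeaklyClosed W (P : Subgroup G))
    (hNS : ∀ (y z : (P : Subgroup G)), z ∈ W.subgroupOf (P : Subgroup G) →
      ∀ W₀ : Subgroup (P : Subgroup G), W₀ ≤ W.subgroupOf (P : Subgroup G) →
      W₀.relIndex (W.subgroupOf (P : Subgroup G)) = p →
      ∀ (hc : (fun t : (P : Subgroup G) => t⁻¹ * z⁻¹ * t * z)^[p - 1] y ∈ W₀)
        (l : W₀ →* Multiplicative (ZMod p)), l ⟨_, hc⟩ = 1)
    (χ : (P : Subgroup G) →* Multiplicative (ZMod p)) (hχ : ∃ y, χ y ≠ 1)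
    (hinv : ∀ h ∈ Subgroup.normalizer (W : Set G), ∀ y : (P : Subgroup G),
      h⁻¹ * (y : G) * h ∈ (P : Subgroup G) →
      ext1 (P : Subgroup G) χ (h⁻¹ * (y : G) * h) = χ y) :
    ∃ x : (P : Subgroup G), MonoidHom.transfer χ (x : G) ≠ 1 := by
  classical
  letI : Fintype (G ⧸ (P : Subgroup G)) := Fintype.ofFinite _
  -- basic facts on `W`
  have hPH : (P : Subgroup G) ≤ Subgroup.normalizer (W : Set G) := by
    intro u hu
    apply mem_normalizer_of_weaklyClosed hW
    intro z hz
    exact Subgroup.mul_mem _ (Subgroup.mul_mem _ hu (hW.1 hz)) (Subgroup.inv_mem _ hu)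
  have hNH : Subgroup.normalizer ((P : Subgroup G) : Set G) ≤ Subgroup.normalizer (W : Set G) := by
    intro n hn
    apply mem_normalizer_of_weaklyClosed hW
    intro z hz
    exact (Subgroup.mem_normalizer_iff.mp hn z).mp (hW.1 hz)
  haveI hWn : (W.subgroupOf (P : Subgroup G)).Normal := by
    refine ⟨fun z hz u => ?_⟩
    rw [Subgroup.mem_subgroupOf] at hz ⊢
    simp only [Subgroup.coe_mul, Subgroup.coe_inv]
    exact (Subgroup.mem_normalizer_iff.mp (hPH u.2) z).mp hz
  obtain ⟨x, hx, hmin'⟩ := WellFounded.has_min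
    (InvImage.wf (fun y : (P : Subgroup G) => orderOf y) Nat.lt_wfRel.wf)
    {y : (P : Subgroup G) | χ y ≠ 1} hχ
  have hmin : ∀ y : (P : Subgroup G), orderOf y < orderOf x → χ y = 1 := by
    intro y hy
    by_contra h
    exact hmin' y h hy
  refine ⟨x, ?_⟩
  have hv : ∀ q : G ⧸ (P : Subgroup G), (x : G) • q ≠ q →
      χ ⟨q.out⁻¹ * (x : G) ^ minimalPeriod ((x : G) • ·) q * q.out,
        QuotientGroup.out_conj_pow_minimalPeriod_mem (P : Subgroup G) (x : G) q⟩ = 1 := by
    intro q hq
    apply hmin
    rw [← Subgroup.orderOf_coe, ← Subgroup.orderOf_coe]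
    change orderOf (q.out⁻¹ * (x : G) ^ minimalPeriod ((x : G) • ·) q * q.out) < _
    rw [orderOf_conj_eq]
    exact orderOf_pow_minimalPeriod_lt (x : G) q hq
  rw [transfer_eq_prod_fixed (P : Subgroup G) χ (x : G) hv,
    ← Finset.prod_filter_mul_prod_filter_not Finset.univ
      (fun q : G ⧸ (P : Subgroup G) => q ∈ MulAction.fixedPoints (P : Subgroup G)
        (G ⧸ (P : Subgroup G)))]
  -- the fixed cosets
  have hfix : ∀ q ∈ Finset.univ.filter (fun q : G ⧸ (P : Subgroup G) =>
      q ∈ MulAction.fixedPoints (P : Subgroup G) (G ⧸ (P : Subgroup G))),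
      ext1 (P : Subgroup G) χ (q.out⁻¹ * (x : G) * q.out) = χ x := by
    intro q hq
    rw [Finset.mem_filter] at hq
    have hqf := hq.2
    have h1 : q.out⁻¹ ∈ Subgroup.normalizer ((P : Subgroup G) : Set G) := by
      apply mem_normalizer_of_conj_mem
      intro k hk
      rw [inv_inv]
      apply (smul_eq_iff_conj_mem (P : Subgroup G) k q).mp
      exact hqf ⟨k, hk⟩
    have h2 : q.out ∈ Subgroup.normalizer ((P : Subgroup G) : Set G) := by
      have := Subgroup.inv_mem _ h1
      rwa [inv_inv] at this
    apply hinv _ (hNH h2)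
    have := (Subgroup.mem_normalizer_iff.mp h1 (x : G)).mp x.2
    rwa [inv_inv] at this
  rw [Finset.prod_eq_pow_card hfix]
  -- the other cosets
  have hnon : ∏ q ∈ Finset.univ.filter (fun q : G ⧸ (P : Subgroup G) =>
      ¬ q ∈ MulAction.fixedPoints (P : Subgroup G) (G ⧸ (P : Subgroup G))),
      ext1 (P : Subgroup G) χ (q.out⁻¹ * (x : G) * q.out) = 1 := by
    apply Finset.prod_cancels_of_partition_cancels
      (MulAction.orbitRel (P : Subgroup G) (G ⧸ (P : Subgroup G)))
    intro q₀ hq₀
    rw [Finset.mem_filter] at hq₀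
    have hset : (Finset.univ.filter (fun q : G ⧸ (P : Subgroup G) =>
        ¬ q ∈ MulAction.fixedPoints (P : Subgroup G) (G ⧸ (P : Subgroup G)))).filter
        (fun a => (MulAction.orbitRel (P : Subgroup G) (G ⧸ (P : Subgroup G))) a q₀) =
        Finset.univ.filter (fun a : G ⧸ (P : Subgroup G) =>
          a ∈ MulAction.orbit (P : Subgroup G) q₀) := by
      ext a
      simp only [Finset.mem_filter, Finset.mem_univ, true_and]
      constructor
      · intro h; exact h.2
      · intro h
        refine ⟨?_, h⟩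
        intro ha
        apply hq₀.2
        obtain ⟨u, rfl⟩ := h
        intro v
        have h1 : u⁻¹ • (u • q₀) = q₀ := inv_smul_smul u q₀
        have h2 : (u⁻¹ * (u * v * u⁻¹) * u) • q₀ = v • q₀ := by
          congr 1; group
        have h3 := ha (u * v * u⁻¹)
        rw [← h2, mul_smul, mul_smul, h3, h1]
    rw [hset]
    letI : Fintype ((P : Subgroup G) ⧸ MulAction.stabilizer (P : Subgroup G) q₀) :=
      Fintype.ofFinite _
    rw [prod_orbit_eq (P : Subgroup G) χ x q₀]
    have hD : MulAction.stabilizer (P : Subgroup G) q₀ ≠ ⊤ := by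
      intro h
      apply hq₀.2
      intro u
      have : u ∈ MulAction.stabilizer (P : Subgroup G) q₀ := by rw [h]; exact Subgroup.mem_top u
      exact this
    have hx' : ∀ (y : (P : Subgroup G)) (hy : y ∈ MulAction.stabilizer (P : Subgroup G) q₀),
        orderOf y < orderOf x → nu (P : Subgroup G) χ q₀ ⟨y, hy⟩ = 1 := by
      intro y hy hlt
      rw [nu_apply]
      apply hmin
      rw [← Subgroup.orderOf_coe]
      change orderOf (q₀.out⁻¹ * (y : G) * q₀.out) < _
      rw [orderOf_conj_eq, Subgroup.orderOf_coe]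
      exact hlt
    by_cases hk : q₀.out ∈ Subgroup.normalizer (W : Set G)
    · -- all non-trivial terms equal `χ x`
      have hterm : ∀ c : (P : Subgroup G) ⧸ MulAction.stabilizer (P : Subgroup G) q₀,
          ext1 (MulAction.stabilizer (P : Subgroup G) q₀) (nu (P : Subgroup G) χ q₀)
            (c.out⁻¹ * x * c.out) = if x • c = c then χ x else 1 := by
        intro c
        by_cases hc : x • c = c
        · rw [if_pos hc]
          have hmem := (smul_eq_iff_conj_mem _ x c).mp hc
          rw [ext1_of_mem _ _ hmem, nu_apply]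
          have hmemP := stab_conj_mem (P : Subgroup G) q₀ ⟨_, hmem⟩
          have h1 := hinv (((c.out : (P : Subgroup G)) : G) * q₀.out)
            (Subgroup.mul_mem _ (hPH c.out.2) hk) x
          have h2 : (((c.out : (P : Subgroup G)) : G) * q₀.out)⁻¹ * (x : G) *
              (((c.out : (P : Subgroup G)) : G) * q₀.out) =
              q₀.out⁻¹ * (((c.out⁻¹ * x * c.out : (P : Subgroup G)) : (P : Subgroup G)) : G) *
                q₀.out := by
            simp only [Subgroup.coe_mul, Subgroup.coe_inv, mul_inv_rev]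
            group
          rw [h2] at h1
          have h3 := h1 hmemP
          rw [ext1_of_mem _ _ hmemP] at h3
          exact h3
        · rw [if_neg hc]
          apply ext1_of_not_mem
          intro hmem
          exact hc ((smul_eq_iff_conj_mem _ x c).mpr hmem)
      rw [Finset.prod_congr rfl (fun c _ => hterm c), Finset.prod_ite, Finset.prod_const_one,
        mul_one, Finset.prod_const]
      obtain ⟨j, hj⟩ := card_fixed_dvd P.2 _ hD x
      rw [hj, pow_mul]
      have := pow_card_eq_one' (G := Multiplicative (ZMod p)) (x := χ x)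
      rw [card_mult_zmod] at this
      rw [this, one_pow]
    · -- the weakly closed subgroup is not contained in the stabilizer
      have hWD : ¬ W.subgroupOf (P : Subgroup G) ≤ MulAction.stabilizer (P : Subgroup G) q₀ := by
        intro hle
        apply hk
        have h1 : q₀.out⁻¹ ∈ Subgroup.normalizer (W : Set G) := by
          apply mem_normalizer_of_weaklyClosed hW
          intro z hz
          rw [inv_inv]
          have hzs : (⟨z, hW.1 hz⟩ : (P : Subgroup G)) ∈
              MulAction.stabilizer (P : Subgroup G) q₀ :=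
            hle (Subgroup.mem_subgroupOf.mpr hz)
          exact stab_conj_mem (P : Subgroup G) q₀ ⟨_, hzs⟩
        have := Subgroup.inv_mem _ h1
        rwa [inv_inv] at this
      exact prod_ext1_eq_one_of_normal P.2 (W.subgroupOf (P : Subgroup G)) _ hWD
        (nu (P : Subgroup G) χ q₀) x hx' hNS
  rw [hnon, mul_one]
  -- the exponent is prime to `p`
  intro hpow
  have hord : orderOf (χ x) = p := by
    apply orderOf_eq_prime
    · have := pow_card_eq_one' (G := Multiplicative (ZMod p)) (x := χ x)
      rwa [card_mult_zmod] at this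
    · exact hx
  have hdvd : p ∣ (Finset.univ.filter (fun q : G ⧸ (P : Subgroup G) =>
      q ∈ MulAction.fixedPoints (P : Subgroup G) (G ⧸ (P : Subgroup G)))).card := by
    have := orderOf_dvd_of_pow_eq_one hpow
    rwa [hord] at this
  have hmod := P.2.card_modEq_card_fixedPoints (G ⧸ (P : Subgroup G))
  have hcard : Nat.card (MulAction.fixedPoints (P : Subgroup G) (G ⧸ (P : Subgroup G))) =
      (Finset.univ.filter (fun q : G ⧸ (P : Subgroup G) =>
        q ∈ MulAction.fixedPoints (P : Subgroup G) (G ⧸ (P : Subgroup G)))).card := by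
    rw [Nat.card_eq_fintype_card, Fintype.card_subtype]
  rw [hcard, ← Subgroup.index_eq_card] at hmod
  have h1 : p ∣ (P : Subgroup G).index := by
    rw [Nat.dvd_iff_mod_eq_zero, hmod, ← Nat.dvd_iff_mod_eq_zero]
    exact hdvd
  exact P.not_dvd_index h1

end

end Yoshida

end Cfsg.Agent.Lib.Lead
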