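import Mathlib
import Cfsg.Agent.Lib.Lead.Yoshida13
import Cfsg.Agent.Lib.Lead.Yoshida10

set_option autoImplicit false
open scoped commutatorElement

namespace Cfsg.Agent.Lib.Lead

universe u

namespace Yoshida

section
variable {p : ℕ} [hp : Fact p.Prime]

/-- the Frattini subgroup lies in the kernel of every character of order `p` -/
theorem frattini_le_ker {X : Type*} [Group X] [Finite X] (l : X →* Multiplicative (ZMod p)) :
    frattini X ≤ l.ker := by
  by_cases htop : l.ker = ⊤
  · rw [htop]; exact le_top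
  · apply frattini_le_coatom
    apply isCoatom_of_index_prime
    rw [Subgroup.index_ker]
    haveI : Fact (Nat.card (Multiplicative (ZMod p))).Prime := ⟨by rw [card_mult_zmod]; exact hp.out⟩
    rcases Subgroup.eq_bot_or_eq_top_of_prime_card l.range with h1 | h1
    · exfalso
      apply htop
      rw [eq_top_iff]
      intro a _
      rw [MonoidHom.mem_ker]
      have : l a ∈ l.range := ⟨a, rfl⟩
      rw [h1, Subgroup.mem_bot] at this
      exact this
    · rw [h1, Subgroup.card_top, card_mult_zmod]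
      exact hp.out

end

section
variable {G : Type u} [Group G] [Finite G] {p : ℕ} [hp : Fact p.Prime]

/-- focal subgroup equality from the non-vanishing of transfers of invariant characters -/
theorem focal_eq_of_core (P : Sylow p G) (H : Subgroup G) (hPH : (P : Subgroup G) ≤ H)
    (hcore : ∀ χ : (P : Subgroup G) →* Multiplicative (ZMod p), (∃ y, χ y ≠ 1) →
      (∀ h ∈ H, ∀ y : (P : Subgroup G), h⁻¹ * (y : G) * h ∈ (P : Subgroup G) →
        ext1 (P : Subgroup G) χ (h⁻¹ * (y : G) * h) = χ y) →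
      ∃ x : (P : Subgroup G), MonoidHom.transfer χ (x : G) ≠ 1) :
    (P : Subgroup G) ⊓ commutator G = (P : Subgroup G) ⊓ ⁅H, H⁆ := by
  classical
  apply le_antisymm
  swap
  · apply inf_le_inf_left
    rw [commutator_def]
    exact Subgroup.commutator_mono le_top le_top
  haveI hP₀n : ((⁅H, H⁆).subgroupOf (P : Subgroup G)).Normal := by
    refine ⟨fun z hz u => ?_⟩
    rw [Subgroup.mem_subgroupOf] at hz ⊢
    simp only [Subgroup.coe_mul, Subgroup.coe_inv]
    exact conj_mem_commutator_normalizer _ (hPH u.2) hz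
  have hcomm : commutator (P : Subgroup G) ≤ (⁅H, H⁆).subgroupOf (P : Subgroup G) := by
    rw [commutator_eq_closure, Subgroup.closure_le]
    rintro _ ⟨a, b, rfl⟩
    rw [SetLike.mem_coe, Subgroup.mem_subgroupOf]
    exact Subgroup.commutator_mem_commutator (hPH a.2) (hPH b.2)
  letI : CommGroup ((P : Subgroup G) ⧸ (⁅H, H⁆).subgroupOf (P : Subgroup G)) :=
    commGroupQuot _ hcomm
  have hQp : IsPGroup p ((P : Subgroup G) ⧸ (⁅H, H⁆).subgroupOf (P : Subgroup G)) :=
    P.2.to_quotient _
  have hsurj : Function.Surjective ((MonoidHom.transfer (QuotientGroup.mk'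
      ((⁅H, H⁆).subgroupOf (P : Subgroup G)))).comp (P : Subgroup G).subtype) := by
    rw [← MonoidHom.range_eq_top]
    by_contra hB
    obtain ⟨K, hKn, hKidx, hBK⟩ := exists_normal_index_p_ge hQp _ hB
    have hcardK : Nat.card (((P : Subgroup G) ⧸ (⁅H, H⁆).subgroupOf (P : Subgroup G)) ⧸ K) = p := by
      rw [← Subgroup.index_eq_card, hKidx]
    let e := mulEquivOfPrimeCardEq hcardK (card_mult_zmod (p := p))
    let f : ((P : Subgroup G) ⧸ (⁅H, H⁆).subgroupOf (P : Subgroup G)) →*
        Multiplicative (ZMod p) := e.toMonoidHom.comp (QuotientGroup.mk' K)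
    have hfK : ∀ a, a ∈ K → f a = 1 := by
      intro a ha
      change e (QuotientGroup.mk' K a) = 1
      have h0 : QuotientGroup.mk' K a = 1 := (QuotientGroup.eq_one_iff a).mpr ha
      rw [h0, map_one]
    have hfne : ∃ a, f a ≠ 1 := by
      by_contra hall
      push Not at hall
      have hKtop : K = ⊤ := by
        rw [eq_top_iff]
        intro a _
        have h1 : e (QuotientGroup.mk' K a) = 1 := hall a
        have h2 : QuotientGroup.mk' K a = 1 := by
          rw [← e.map_one] at h1
          exact e.injective h1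
        exact (QuotientGroup.eq_one_iff a).mp h2
      rw [hKtop, Subgroup.index_top] at hKidx
      exact hp.out.one_lt.ne hKidx
    let χ : (P : Subgroup G) →* Multiplicative (ZMod p) := f.comp (QuotientGroup.mk'
      ((⁅H, H⁆).subgroupOf (P : Subgroup G)))
    have hχ : ∃ y, χ y ≠ 1 := by
      obtain ⟨a, ha⟩ := hfne
      obtain ⟨y, rfl⟩ := QuotientGroup.mk'_surjective _ a
      exact ⟨y, ha⟩
    have hinv : ∀ h ∈ H, ∀ y : (P : Subgroup G), h⁻¹ * (y : G) * h ∈ (P : Subgroup G) →
        ext1 (P : Subgroup G) χ (h⁻¹ * (y : G) * h) = χ y := by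
      intro n hn y hmem
      have hn' := Subgroup.inv_mem _ hn
      rw [ext1_of_mem _ _ hmem]
      change f (QuotientGroup.mk' _ _) = f (QuotientGroup.mk' _ _)
      congr 1
      symm
      apply QuotientGroup.eq.mpr
      rw [Subgroup.mem_subgroupOf]
      have h1 : ⁅(y : G)⁻¹, n⁻¹⁆ ∈ ⁅H, H⁆ :=
        Subgroup.commutator_mem_commutator (Subgroup.inv_mem _ (hPH y.2)) hn'
      have h2 : ((y⁻¹ * (⟨n⁻¹ * (y : G) * n, hmem⟩ : (P : Subgroup G)) : (P : Subgroup G)) : G) =
          ⁅(y : G)⁻¹, n⁻¹⁆ := by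
        rw [commutatorElement_def]
        simp only [Subgroup.coe_mul, Subgroup.coe_inv]
        group
      rw [h2]; exact h1
    obtain ⟨x, hx⟩ := hcore χ hχ hinv
    apply hx
    change MonoidHom.transfer (f.comp _) (x : G) = 1
    rw [transfer_comp]
    apply hfK
    apply hBK
    exact ⟨x, rfl⟩
  intro z hz
  refine ⟨hz.1, ?_⟩
  have hker : ((MonoidHom.transfer (QuotientGroup.mk'
      ((⁅H, H⁆).subgroupOf (P : Subgroup G)))).comp (P : Subgroup G).subtype).ker =
      (⁅H, H⁆).subgroupOf (P : Subgroup G) := by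
    symm
    apply Subgroup.eq_of_le_of_card_ge
    · intro y hy
      rw [Subgroup.mem_subgroupOf] at hy
      rw [MonoidHom.mem_ker, MonoidHom.comp_apply]
      apply Abelianization.commutator_subset_ker
      rw [commutator_def]
      exact Subgroup.commutator_mono le_top le_top hy
    · have h1 := Subgroup.card_mul_index ((MonoidHom.transfer (QuotientGroup.mk'
        ((⁅H, H⁆).subgroupOf (P : Subgroup G)))).comp (P : Subgroup G).subtype).ker
      have h2 := Subgroup.card_mul_index ((⁅H, H⁆).subgroupOf (P : Subgroup G))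
      rw [Subgroup.index_ker, MonoidHom.range_eq_top.mpr hsurj, Subgroup.card_top] at h1
      rw [Subgroup.index_eq_card] at h2
      rw [← h2] at h1
      have hpos : 0 < Nat.card ((P : Subgroup G) ⧸ (⁅H, H⁆).subgroupOf (P : Subgroup G)) :=
        Nat.card_pos
      exact (Nat.eq_of_mul_eq_mul_right hpos h1).le
  have hzk : (⟨z, hz.1⟩ : (P : Subgroup G)) ∈ ((MonoidHom.transfer (QuotientGroup.mk'
      ((⁅H, H⁆).subgroupOf (P : Subgroup G)))).comp (P : Subgroup G).subtype).ker := by
    rw [MonoidHom.mem_ker, MonoidHom.comp_apply]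
    exact Abelianization.commutator_subset_ker _ hz.2
  rw [hker, Subgroup.mem_subgroupOf] at hzk
  exact hzk

/-- **Yoshida's theorem on weakly closed subgroups**: a failure of control of transfer by the
normalizer of a weakly closed subgroup produces a "singularity". -/
theorem exists_singularity_of_focal_ne (S : Sylow p G) (W : Subgroup G)
    (hW : Cfsg.IsWeaklyClosed W (S : Subgroup G))
    (h : (S : Subgroup G) ⊓ commutator G ≠ (S : Subgroup G) ⊓
      ⁅Subgroup.normalizer (W : Set G), Subgroup.normalizer (W : Set G)⁆) :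
    ∃ x ∈ (S : Subgroup G), ∃ z ∈ W, ∃ W₀ : Subgroup ↥W, IsCoatom W₀ ∧
      (fun y : G => y⁻¹ * z⁻¹ * y * z)^[p - 1] x ∈ W₀.map W.subtype ∧
      (fun y : G => y⁻¹ * z⁻¹ * y * z)^[p - 1] x ∉
        ((frattini ↥W₀).map W₀.subtype).map W.subtype := by
  classical
  by_contra hcon
  push Not at hcon
  apply h
  have hPH : (S : Subgroup G) ≤ Subgroup.normalizer (W : Set G) := by
    intro u hu
    apply mem_normalizer_of_weaklyClosed hW
    intro z hz
    exact Subgroup.mul_mem _ (Subgroup.mul_mem _ hu (hW.1 hz)) (Subgroup.inv_mem _ hu)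
  apply focal_eq_of_core S _ hPH
  intro χ hχ hinv
  apply exists_transfer_ne_one_of_weaklyClosed S W hW ?_ χ hχ hinv
  -- the absence of singularities
  intro y z hz W₀ hW₀ hrel hc l
  have hzW : (z : G) ∈ W := Subgroup.mem_subgroupOf.mp hz
  let ι : ↥W →* ↥(S : Subgroup G) := Subgroup.inclusion hW.1
  have hidx : (W₀.comap ι).index = p := by
    rw [Subgroup.index_comap, Subgroup.inclusion_range, hrel]
  have hco : IsCoatom (W₀.comap ι) := isCoatom_of_index_prime (by rw [hidx]; exact hp.out)
  have hcoe := iterate_comm_coe (S : Subgroup G) z y (p - 1)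
  have hcW : (fun t : G => t⁻¹ * (z : G)⁻¹ * t * (z : G))^[p - 1] (y : G) ∈ W := by
    rw [← hcoe]
    exact Subgroup.mem_subgroupOf.mp (hW₀ hc)
  have hmem1 : (fun t : G => t⁻¹ * (z : G)⁻¹ * t * (z : G))^[p - 1] (y : G) ∈
      (W₀.comap ι).map W.subtype := by
    refine Subgroup.mem_map.mpr ⟨⟨_, hcW⟩, ?_, rfl⟩
    rw [Subgroup.mem_comap]
    have : ι ⟨_, hcW⟩ = (fun t : (S : Subgroup G) => t⁻¹ * z⁻¹ * t * z)^[p - 1] y := by
      apply Subtype.ext
      rw [hcoe]
      rfl
    rw [this]
    exact hc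
  have h2 := hcon (y : G) y.2 (z : G) hzW (W₀.comap ι) hco hmem1
  obtain ⟨f', hf', hf'eq⟩ := Subgroup.mem_map.mp h2
  obtain ⟨f, hf, rfl⟩ := Subgroup.mem_map.mp hf'
  -- the character on the comap
  let l' : ↥(W₀.comap ι) →* Multiplicative (ZMod p) :=
    l.comp ((ι.comp (W₀.comap ι).subtype).codRestrict W₀ (fun w => w.2))
  have hl' := frattini_le_ker l' hf
  rw [MonoidHom.mem_ker] at hl'
  rw [← hl']
  change _ = l _
  congr 1
  apply Subtype.ext
  apply Subtype.ext
  rw [hcoe]
  exact hf'eq.symm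

/-- **Hall–Wielandt theorem** in Yoshida's form. -/
theorem pResidualOf_normalizer_of_weaklyClosed (P : Sylow p G) (Q : Subgroup G)
    (hQ : Cfsg.IsWeaklyClosed Q (P : Subgroup G))
    (h : ∀ u ∈ (P : Subgroup G), ∀ z ∈ Q, (fun y : G => y⁻¹ * z⁻¹ * y * z)^[p - 1] u = 1) :
    Cfsg.pResidualOf p (Subgroup.normalizer (Q : Set G)) =
      Cfsg.pResidual p G ⊓ Subgroup.normalizer (Q : Set G) := by
  have hPH : (P : Subgroup G) ≤ Subgroup.normalizer (Q : Set G) := by
    intro u hu
    apply mem_normalizer_of_weaklyClosed hQ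
    intro z hz
    exact Subgroup.mul_mem _ (Subgroup.mul_mem _ hu (hQ.1 hz)) (Subgroup.inv_mem _ hu)
  have hfoc : (P : Subgroup G) ⊓ commutator G = (P : Subgroup G) ⊓
      ⁅Subgroup.normalizer (Q : Set G), Subgroup.normalizer (Q : Set G)⁆ := by
    by_contra hne
    obtain ⟨x, hx, z, hz, W₀, _, _, h3⟩ := exists_singularity_of_focal_ne P Q hQ hne
    apply h3
    rw [h x hx z hz]
    exact Subgroup.one_mem _
  apply pResidualOf_eq_inf P _ hPH
  apply Tate2.tate_general P _ hPH
  rw [hfoc]
  exact inf_le_right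

end

end Yoshida

end Cfsg.Agent.Lib.Lead
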