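import Mathlib
import Cfsg.Agent.Lib.Lead.Zass7

set_option autoImplicit false

/-! Zassenhaus-type groups with a regular normal subgroup: first steps. -/

namespace Cfsg.Agent.Lib.Lead

namespace Zass

open MulAction
open scoped Pointwise

section reg
variable {G Ω : Type*} [Group G] [MulAction G Ω]

/-- elementwise hypotheses: 2-transitive, no nonidentity element fixes three points, with a
regular normal subgroup `N` -/
structure RData (G Ω : Type*) [Group G] [MulAction G Ω] (N : Subgroup G) : Prop where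
  faith : ∀ g : G, (∀ x : Ω, g • x = x) → g = 1
  two : ∀ {a b c d : Ω}, a ≠ b → c ≠ d → ∃ g : G, g • a = c ∧ g • b = d
  three : ∀ g : G, ∀ a b c : Ω, a ≠ b → b ≠ c → a ≠ c → g • a = a → g • b = b → g • c = c →
    g = 1
  normal : N.Normal
  trans : ∀ x y : Ω, ∃ n ∈ N, n • x = y
  reg : ∀ n ∈ N, ∀ x : Ω, n • x = x → n = 1

theorem conj_smul {a : Ω} {g : G} (hg : g • a = a) (x : G) :
    (g * x * g⁻¹) • a = g • (x • a) := by
  rw [mul_smul, mul_smul, inv_smul_eq_iff.mpr hg.symm]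

variable {N : Subgroup G}

theorem RData.eq_of_smul_eq (R : RData G Ω N) {x y : G} (hx : x ∈ N) (hy : y ∈ N) {a : Ω}
    (h : x • a = y • a) : x = y := by
  have h1 : (y⁻¹ * x) • a = a := by rw [mul_smul, h, inv_smul_smul]
  have h2 := R.reg _ (N.mul_mem (N.inv_mem hy) hx) a h1
  have : x = y * (y⁻¹ * x) := by group
  rw [this, h2, mul_one]

theorem RData.card_eq [Fintype Ω] (R : RData G Ω N) (a : Ω) : Nat.card N = Fintype.card Ω := by
  rw [← Nat.card_eq_fintype_card]
  apply Nat.card_congr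
  refine Equiv.ofBijective (fun x : N => (x : G) • a) ⟨?_, ?_⟩
  · intro x y hxy
    exact Subtype.ext (R.eq_of_smul_eq x.2 y.2 hxy)
  · intro y
    obtain ⟨n, hn, h⟩ := R.trans a y
    exact ⟨⟨n, hn⟩, h⟩

theorem RData.perm_of_conj (R : RData G Ω N) {a b : Ω} (hab : a ≠ b) {x y : G} (hx1 : x ≠ 1)
    (hxa : x • a = a) (hxb : x • b = b) (hya : (y * x * y⁻¹) • a = a)
    (hyb : (y * x * y⁻¹) • b = b) :
    (y • a = a ∧ y • b = b) ∨ (y • a = b ∧ y • b = a) := by
  have h1 : x • (y⁻¹ • a) = y⁻¹ • a := by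
    rw [mul_smul, mul_smul, smul_eq_iff_eq_inv_smul] at hya; exact hya
  have h2 : x • (y⁻¹ • b) = y⁻¹ • b := by
    rw [mul_smul, mul_smul, smul_eq_iff_eq_inv_smul] at hyb; exact hyb
  have hfix : ∀ c : Ω, x • c = c → c = a ∨ c = b := by
    intro c hc
    by_contra hcon
    push Not at hcon
    exact hx1 (R.three x a b c hab (Ne.symm hcon.2) (Ne.symm hcon.1) hxa hxb hc)
  have hne : y⁻¹ • a ≠ y⁻¹ • b := fun h => hab (smul_left_cancel _ h)
  rcases hfix _ h1 with ha | ha <;> rcases hfix _ h2 with hb | hb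
  · exact absurd (ha.trans hb.symm) hne
  · left
    exact ⟨(inv_smul_eq_iff.mp ha).symm, (inv_smul_eq_iff.mp hb).symm⟩
  · right
    exact ⟨(inv_smul_eq_iff.mp hb).symm, (inv_smul_eq_iff.mp ha).symm⟩
  · exact absurd (ha.trans hb.symm) hne

/-- an involution in odd degree fixes exactly one point -/
theorem RData.involution_fix_one [Fintype Ω] (R : RData G Ω N) (hodd : Odd (Fintype.card Ω))
    {t : G} (ht1 : t ≠ 1) (htt : t * t = 1) :
    ∃ a : Ω, t • a = a ∧ ∀ x : Ω, t • x = x → x = a := by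
  classical
  haveI : Fact (Nat.Prime 2) := ⟨Nat.prime_two⟩
  let f : Function.End Ω := fun x => t • x
  have hf : f ^ 2 ^ 1 = 1 := by
    rw [pow_one, pow_two]
    funext x
    show t • (t • x) = x
    rw [← mul_smul, htt, one_smul]
  have h1 := Equiv.Perm.card_fixedPoints_modEq (f := f) hf
  let S : Finset Ω := Finset.univ.filter (fun x => t • x = x)
  have hS : Fintype.card ↥(Function.fixedPoints f) = S.card := by
    apply Fintype.card_of_subtype
    intro x
    simp only [S, Finset.mem_filter, Finset.mem_univ, true_and]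
    rfl
  rw [hS] at h1
  have hSodd : Odd S.card := by
    rw [Nat.odd_iff] at hodd ⊢
    rw [← h1, hodd]
  have hSmem : ∀ x : Ω, x ∈ S ↔ t • x = x := by
    intro x
    simp [S]
  have hSle : S.card ≤ 2 := by
    by_contra hcon
    push Not at hcon
    rw [Finset.two_lt_card] at hcon
    obtain ⟨x, hx, y, hy, z, hz, hxy, hxz, hyz⟩ := hcon
    rw [hSmem] at hx hy hz
    exact ht1 (R.three t x y z hxy hyz hxz hx hy hz)
  have hS1 : S.card = 1 := by
    obtain ⟨m, hm⟩ := hSodd
    omega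
  obtain ⟨a, ha⟩ := Finset.card_eq_one.mp hS1
  refine ⟨a, ?_, ?_⟩
  · rw [← hSmem, ha]; exact Finset.mem_singleton_self a
  · intro x hx
    rw [← hSmem, ha, Finset.mem_singleton] at hx
    exact hx

/-- an involution normalizing `N` without fixed points on `N` inverts `N` -/
theorem inverts_of_fpf [Finite G] (N : Subgroup G) [hN : N.Normal] {t : G} (htt : t * t = 1)
    (hC : ∀ x ∈ N, t * x * t⁻¹ = x → x = 1) : ∀ z ∈ N, t * z * t⁻¹ = z⁻¹ := by
  let φ : N → N := fun x => ⟨(x : G)⁻¹ * (t * (x : G) * t⁻¹),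
    N.mul_mem (N.inv_mem x.2) (hN.conj_mem _ x.2 t)⟩
  have hinj : Function.Injective φ := by
    intro x y hxy
    have h1 : (x : G)⁻¹ * (t * (x : G) * t⁻¹) = (y : G)⁻¹ * (t * (y : G) * t⁻¹) :=
      congrArg Subtype.val hxy
    have h2 : t * ((y : G) * (x : G)⁻¹) * t⁻¹ = (y : G) * (x : G)⁻¹ := by
      have e1 : t * ((y : G) * (x : G)⁻¹) * t⁻¹ =
          (t * (y : G) * t⁻¹) * (t * (x : G) * t⁻¹)⁻¹ := by group
      have e2 : t * (y : G) * t⁻¹ = (y : G) * ((y : G)⁻¹ * (t * (y : G) * t⁻¹)) := by group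
      rw [e1, e2, ← h1]; group
    have h3 := hC _ (N.mul_mem y.2 (N.inv_mem x.2)) h2
    apply Subtype.ext
    have : (x : G) = ((y : G) * (x : G)⁻¹)⁻¹ * (y : G) := by group
    rw [this, h3]; group
  have hsurj : Function.Surjective φ := Finite.injective_iff_surjective.mp hinj
  have htinv : t⁻¹ = t := by
    have : t⁻¹ = t⁻¹ * (t * t) := by rw [htt, mul_one]
    rw [this]; group
  intro z hz
  obtain ⟨x, hx⟩ := hsurj ⟨z, hz⟩
  have hz' : z = (x : G)⁻¹ * (t * (x : G) * t⁻¹) := (congrArg Subtype.val hx).symm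
  rw [hz']
  have e1 : t * ((x : G)⁻¹ * (t * (x : G) * t⁻¹)) * t⁻¹ =
      (t * (x : G) * t⁻¹)⁻¹ * ((t * t) * (x : G) * (t * t)⁻¹) := by group
  rw [e1, htt]; group

end reg

end Zass

end Cfsg.Agent.Lib.Lead
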