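import Mathlib
import Cfsg.Agent.Lib.Lead.Zass9

set_option autoImplicit false

/-! Zassenhaus-type groups with a regular normal subgroup: the degree is even and `N` is an
elementary abelian 2-group. -/

namespace Cfsg.Agent.Lib.Lead

namespace Zass

open MulAction
open scoped Pointwise

section reg
variable {G Ω : Type*} [Group G] [MulAction G Ω] {N : Subgroup G}

theorem RData.even_card [Finite G] [Fintype Ω] (R : RData G Ω N)
    (hfix : ∃ g : G, g ≠ 1 ∧ ∃ a b : Ω, a ≠ b ∧ g • a = a ∧ g • b = b) :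
    Even (Fintype.card Ω) := by
  classical
  by_contra hodd
  rw [Nat.not_even_iff_odd] at hodd
  haveI := R.normal
  obtain ⟨g₀, hg₀1, a₀, b₀, ha₀b₀, hg₀a, hg₀b⟩ := hfix
  -- an involution
  obtain ⟨s, hsa, hsb⟩ := R.two ha₀b₀ (Ne.symm ha₀b₀)
  have hseven : Even (orderOf s) := by
    by_contra h
    rw [Nat.not_even_iff_odd] at h
    have h1 := fix_of_odd ha₀b₀ s h (Or.inr ⟨hsa, hsb⟩)
    exact ha₀b₀ (h1.1.symm.trans hsa)
  obtain ⟨m, hm⟩ := hseven
  have hspos : 0 < orderOf s := orderOf_pos s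
  obtain ⟨t, ht⟩ : ∃ t : G, t = s ^ m := ⟨_, rfl⟩
  have ht1 : t ≠ 1 := by
    rw [ht]
    exact pow_ne_one_of_lt_orderOf (by omega) (by omega)
  have htt : t * t = 1 := by
    rw [ht, ← pow_add, ← hm, pow_orderOf_eq_one]
  obtain ⟨a, hta, huniq⟩ := R.involution_fix_one hodd ht1 htt
  obtain ⟨b, hba⟩ : ∃ b : Ω, b ≠ a := by
    by_cases h : a₀ = a
    · exact ⟨b₀, fun hb => ha₀b₀ (by rw [h, hb])⟩
    · exact ⟨a₀, h⟩
  have hab : a ≠ b := Ne.symm hba
  obtain ⟨x₀, hx₀a, hx₀b⟩ := R.two ha₀b₀ hab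
  obtain ⟨h₁, hh₁⟩ : ∃ h₁ : G, h₁ = x₀ * g₀ * x₀⁻¹ := ⟨_, rfl⟩
  have hh₁1 : h₁ ≠ 1 := by
    intro h
    apply hg₀1
    have : g₀ = x₀⁻¹ * (x₀ * g₀ * x₀⁻¹) * x₀ := by group
    rw [this, ← hh₁, h]; group
  have hh₁a : h₁ • a = a := by
    rw [hh₁, mul_smul, mul_smul, inv_smul_eq_iff.mpr hx₀a.symm, hg₀a, hx₀a]
  have hh₁b : h₁ • b = b := by
    rw [hh₁, mul_smul, mul_smul, inv_smul_eq_iff.mpr hx₀b.symm, hg₀b, hx₀b]
  -- involutions fixing `a` invert `N`
  have hinvN : ∀ t' : G, t' ≠ 1 → t' * t' = 1 → t' • a = a → ∀ z ∈ N, t' * z * t'⁻¹ = z⁻¹ := by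
    intro t' ht'1 ht't' ht'a
    obtain ⟨a', -, huniq'⟩ := R.involution_fix_one hodd ht'1 ht't'
    have haa' : a = a' := huniq' a ht'a
    apply inverts_of_fpf N ht't'
    intro x hx hcomm
    have h1 : t' • (x • a) = x • a := by
      have := conj_smul ht'a x
      rw [hcomm] at this
      exact this.symm
    have h2 := huniq' _ h1
    rw [← haa'] at h2
    exact R.reg x hx a h2
  have hunique : ∀ t' : G, t' ≠ 1 → t' * t' = 1 → t' • a = a → t' = t := by
    intro t' ht'1 ht't' ht'a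
    have h1 := hinvN t ht1 htt hta
    have h2 := hinvN t' ht'1 ht't' ht'a
    have h3 : t * t' = 1 := by
      apply R.faith
      intro y
      obtain ⟨x, hx, rfl⟩ := R.trans a y
      have h4 : (t * t') * x * (t * t')⁻¹ = x := by
        have e : (t * t') * x * (t * t')⁻¹ = t * (t' * x * t'⁻¹) * t⁻¹ := by group
        rw [e, h2 x hx, h1 _ (N.inv_mem hx), inv_inv]
      have h5 : (t * t') • a = a := by rw [mul_smul, ht'a, hta]
      have h6 := conj_smul h5 x
      rw [h4] at h6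
      exact h6.symm
    have e : t' = t⁻¹ * (t * t') := by group
    rw [e, h3, mul_one]
    have : t⁻¹ = t⁻¹ * (t * t) := by rw [htt, mul_one]
    rw [this]; group
  -- `t` commutes with `h₁`
  have hconj : h₁ * t * h₁⁻¹ = t := by
    apply hunique
    · intro h
      apply ht1
      have : t = h₁⁻¹ * (h₁ * t * h₁⁻¹) * h₁ := by group
      rw [this, h]; group
    · have : (h₁ * t * h₁⁻¹) * (h₁ * t * h₁⁻¹) = h₁ * (t * t) * h₁⁻¹ := by group
      rw [this, htt, mul_one, mul_inv_cancel]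
    · rw [conj_smul hh₁a, hta, hh₁a]
  have hconj' : t * h₁ * t⁻¹ = h₁ := by
    have : t * h₁ * t⁻¹ = (h₁ * t * h₁⁻¹) * h₁ * t⁻¹ := by rw [hconj]
    rw [this]; group
  have hperm := R.perm_of_conj hab hh₁1 hh₁a hh₁b (by rw [hconj']; exact hh₁a)
    (by rw [hconj']; exact hh₁b)
  rcases hperm with h | h
  · exact hba (huniq b h.2)
  · exact hab (hta.symm.trans h.1)

theorem RData.sq_eq_one [Finite G] [Fintype Ω] (R : RData G Ω N)
    (heven : Even (Fintype.card Ω)) : ∀ x ∈ N, x * x = 1 := by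
  haveI := R.normal
  intro x hx
  by_cases hne : Nonempty Ω
  · obtain ⟨a⟩ := hne
    by_cases hx1 : x = 1
    · rw [hx1, mul_one]
    have hcard := R.card_eq a
    haveI : Fact (Nat.Prime 2) := ⟨Nat.prime_two⟩
    obtain ⟨u, hu⟩ := exists_prime_orderOf_dvd_card' (G := ↥N) 2
      (by rw [hcard]; exact even_iff_two_dvd.mp heven)
    have huo : orderOf (u : G) = 2 := by rw [Subgroup.orderOf_coe]; exact hu
    have hu1 : (u : G) ≠ 1 := by
      intro h
      rw [h, orderOf_one] at huo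
      omega
    have huu : (u : G) * (u : G) = 1 := by
      rw [← pow_two, ← huo]; exact pow_orderOf_eq_one _
    have hua : (u : G) • a ≠ a := fun h => hu1 (R.reg _ u.2 a h)
    have hxa : x • a ≠ a := fun h => hx1 (R.reg _ hx a h)
    obtain ⟨g, hga, hgu⟩ := R.two (Ne.symm hua) (Ne.symm hxa)
    have h1 : (g * (u : G) * g⁻¹) • a = x • a := by
      rw [conj_smul hga, hgu]
    have h2 : g * (u : G) * g⁻¹ = x :=
      R.eq_of_smul_eq (R.normal.conj_mem _ u.2 g) hx h1
    rw [← h2]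
    have : (g * (u : G) * g⁻¹) * (g * (u : G) * g⁻¹) = g * ((u : G) * (u : G)) * g⁻¹ := by group
    rw [this, huu, mul_one, mul_inv_cancel]
  · have : x = 1 := by
      apply R.faith
      intro y
      exact absurd ⟨y⟩ hne
    rw [this, mul_one]

end reg

end Zass

end Cfsg.Agent.Lib.Lead
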