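import Mathlib
import Cfsg.Agent.Lib.Lead.Zass11

set_option autoImplicit false

/-! Zassenhaus-type groups with a regular normal subgroup: the Frobenius kernel of a point
stabilizer is cyclic. -/

namespace Cfsg.Agent.Lib.Lead

namespace Zass

open MulAction
open scoped Pointwise

section reg
variable {G Ω : Type*} [Group G] [MulAction G Ω] {N : Subgroup G}

theorem RData.kernel [Finite G] [Fintype Ω] (R : RData G Ω N)
    (heven : Even (Fintype.card Ω)) {a b : Ω} (hab : a ≠ b)
    {h₀ : G} (hh₀1 : h₀ ≠ 1) (hh₀a : h₀ • a = a) (hh₀b : h₀ • b = b) :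
    ∃ K : Subgroup G, K ≤ stabilizer G a ∧ (∀ g : G, g • a = a → ∀ k ∈ K, g * k * g⁻¹ ∈ K) ∧
      (∀ x : Ω, x ≠ a → ∃ k ∈ K, k • b = x) ∧
      (∀ k ∈ K, k ≠ 1 → ∀ x : Ω, x ≠ a → k • x ≠ x) ∧ IsCyclic K := by
  classical
  haveI := R.normal
  have hba : b ≠ a := Ne.symm hab
  obtain ⟨c, hc⟩ : ∃ c : Ω, h₀ • c ≠ c := by
    by_contra hcon
    push Not at hcon
    exact hh₀1 (R.faith h₀ hcon)
  have hca : c ≠ a := by
    intro h; apply hc; rw [h]; exact hh₀a
  have hcb : c ≠ b := by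
    intro h; apply hc; rw [h]; exact hh₀b
  have h1 : stabilizer ↥(stabilizer G a) b ≠ ⊥ := by
    rw [Subgroup.ne_bot_iff_exists_ne_one]
    refine ⟨⟨⟨h₀, hh₀a⟩, hh₀b⟩, ?_⟩
    intro h
    apply hh₀1
    exact congrArg (fun z : stabilizer ↥(stabilizer G a) b => ((z : stabilizer G a) : G)) h
  have h2 : stabilizer ↥(stabilizer G a) b ≠ ⊤ := by
    intro h
    obtain ⟨g, hga, hgb⟩ := R.two hab (Ne.symm hca)
    have h' : (⟨g, hga⟩ : stabilizer G a) ∈ stabilizer ↥(stabilizer G a) b := by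
      rw [h]; exact Subgroup.mem_top _
    rw [mem_stabilizer_iff] at h'
    have h'' : g • b = b := h'
    exact hcb (hgb.symm.trans h'')
  have h3 : ∀ g : stabilizer G a, g • b ≠ b → ∀ h : stabilizer G a, h • b = b →
      h • (g • b) = g • b → h = 1 := by
    intro g hg h hhb hhg
    apply Subtype.ext
    have hga : (g : G) • a = a := g.2
    have hne : a ≠ (g : G) • b := by
      intro h'
      apply hab
      have : (g : G) • a = (g : G) • b := by rw [hga]; exact h'
      exact smul_left_cancel _ this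
    exact R.three (h : G) a b ((g : G) • b) hab (Ne.symm hg) hne h.2 hhb hhg
  obtain ⟨K', hKn, hK1, hK2, hK3⟩ := frob_action (A := ↥(stabilizer G a)) b h1 h2 h3
  haveI := hKn
  -- points other than `a`
  have hpt : ∀ x : Ω, x ≠ a → ∃ g : stabilizer G a, g • b = x := by
    intro x hx
    obtain ⟨g, hga, hgb⟩ := R.two hab (Ne.symm hx)
    exact ⟨⟨g, hga⟩, hgb⟩
  have hK'tr : ∀ x : Ω, x ≠ a → ∃ k ∈ K', (k : G) • b = x := by
    intro x hx
    obtain ⟨g, hg⟩ := hpt x hx
    obtain ⟨k, hk, h, hh, rfl⟩ := hK3 g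
    refine ⟨k, hk, ?_⟩
    rw [mem_stabilizer_iff] at hh
    rw [← hg, mul_smul, hh]
    rfl
  have hK'semi : ∀ k ∈ K', k ≠ 1 → ∀ x : Ω, x ≠ a → (k : G) • x ≠ x := by
    intro k hk hk1 x hx
    obtain ⟨g, rfl⟩ := hpt x hx
    exact hK1 k hk hk1 g
  -- an element of prime order in `H`
  have hord0 : orderOf h₀ ≠ 0 := (orderOf_pos h₀).ne'
  have hord1 : orderOf h₀ ≠ 1 := fun h => hh₀1 (orderOf_eq_one_iff.mp h)
  obtain ⟨q, hq, hqd⟩ := Nat.exists_prime_and_dvd hord1
  obtain ⟨h₁, hh₁⟩ : ∃ h₁ : G, h₁ = h₀ ^ (orderOf h₀ / q) := ⟨_, rfl⟩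
  have hh₁o : orderOf h₁ = q := by rw [hh₁]; exact orderOf_pow_orderOf_div hord0 hqd
  have hh₁1 : h₁ ≠ 1 := by
    intro h
    rw [h, orderOf_one] at hh₁o
    exact hq.one_lt.ne hh₁o
  have hpowfix : ∀ (x : Ω), h₀ • x = x → ∀ n : ℕ, (h₀ ^ n) • x = x := by
    intro x hx n
    induction n with
    | zero => rw [pow_zero, one_smul]
    | succ n ih => rw [pow_succ, mul_smul, hx, ih]
  have hh₁a : h₁ • a = a := by rw [hh₁]; exact hpowfix a hh₀a _
  have hh₁b : h₁ • b = b := by rw [hh₁]; exact hpowfix b hh₀b _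
  let h' : stabilizer G a := ⟨h₁, hh₁a⟩
  have hh'o : orderOf h' = q := by rw [← Subgroup.orderOf_coe]; exact hh₁o
  let φ : MulAut ↥K' := MulAut.conjNormal h'
  have hφapply : ∀ u : ↥K', (((φ u : ↥K') : stabilizer G a) : G) =
      h₁ * ((u : stabilizer G a) : G) * h₁⁻¹ := by
    intro u
    have := MulAut.conjNormal_apply (H := K') h' u
    exact congrArg (fun z : stabilizer G a => (z : G)) this
  have hfpf : MonoidHom.FixedPointFree ((φ : ↥K' ≃* ↥K') : ↥K' →* ↥K') := by
    intro u hu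
    by_contra hu1
    have hu' : h₁ * ((u : stabilizer G a) : G) * h₁⁻¹ = ((u : stabilizer G a) : G) := by
      rw [← hφapply u]
      have : φ u = u := hu
      rw [this]
    have hune : (u : stabilizer G a) ≠ 1 := fun h => hu1 (Subtype.ext h)
    have hub : ((u : stabilizer G a) : G) • b ≠ b := hK'semi _ u.2 hune b hba
    have hufix : ((u : stabilizer G a) : G) • a = a := (u : stabilizer G a).2
    have hua : a ≠ ((u : stabilizer G a) : G) • b := by
      intro h
      apply hab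
      have : ((u : stabilizer G a) : G) • a = ((u : stabilizer G a) : G) • b := by
        rw [hufix]; exact h
      exact smul_left_cancel _ this
    apply hh₁1
    apply R.three h₁ a b (((u : stabilizer G a) : G) • b) hab (Ne.symm hub) hua hh₁a hh₁b
    have hcomm : h₁ * ((u : stabilizer G a) : G) = ((u : stabilizer G a) : G) * h₁ := by
      have : h₁ * ((u : stabilizer G a) : G) =
          (h₁ * ((u : stabilizer G a) : G) * h₁⁻¹) * h₁ := by group
      rw [this, hu']
    rw [← mul_smul, hcomm, mul_smul, hh₁b]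
  obtain ⟨k₁, hk₁, hk₁c⟩ := hK'tr c hca
  have hk₁1 : k₁ ≠ 1 := by
    intro h
    rw [h] at hk₁c
    apply hcb
    rw [← hk₁c]
    exact one_smul _ b
  haveI : Fact q.Prime := ⟨hq⟩
  have hφord : orderOf φ = q := by
    apply orderOf_eq_prime
    · show (MulAut.conjNormal h') ^ q = 1
      rw [← map_pow, ← hh'o, pow_orderOf_eq_one, map_one]
    · intro hφ1
      have h4 : (⟨k₁, hk₁⟩ : ↥K') = 1 := by
        apply hfpf
        rw [show ((φ : ↥K' ≃* ↥K') : ↥K' →* ↥K') _ = φ _ from rfl, hφ1]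
        rfl
      exact hk₁1 (congrArg Subtype.val h4)
  haveI hnil : Group.IsNilpotent ↥K' := Cfsg.Agent.S0033.result φ hfpf q hq hφord
  -- the subgroup of `G`
  obtain ⟨K, hKdef⟩ : ∃ K : Subgroup G, K = K'.map (stabilizer G a).subtype := ⟨_, rfl⟩
  have hKmem : ∀ k : G, k ∈ K ↔ ∃ hk : k ∈ stabilizer G a, (⟨k, hk⟩ : stabilizer G a) ∈ K' := by
    intro k
    rw [hKdef]
    constructor
    · rintro ⟨k', hk', rfl⟩
      exact ⟨k'.2, hk'⟩
    · rintro ⟨hk, hk'⟩
      exact ⟨⟨k, hk⟩, hk', rfl⟩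
  have hKle : K ≤ stabilizer G a := by
    intro k hk
    obtain ⟨hk', -⟩ := (hKmem k).mp hk
    exact hk'
  have hKnorm : ∀ g : G, g • a = a → ∀ k ∈ K, g * k * g⁻¹ ∈ K := by
    intro g hg k hk
    obtain ⟨hk', hk''⟩ := (hKmem k).mp hk
    rw [hKmem]
    have h4 := hKn.conj_mem _ hk'' ⟨g, hg⟩
    exact ⟨_, h4⟩
  have hKtr : ∀ x : Ω, x ≠ a → ∃ k ∈ K, k • b = x := by
    intro x hx
    obtain ⟨k, hk, hkx⟩ := hK'tr x hx
    exact ⟨(k : G), (hKmem _).mpr ⟨k.2, hk⟩, hkx⟩
  have hKsemi : ∀ k ∈ K, k ≠ 1 → ∀ x : Ω, x ≠ a → k • x ≠ x := by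
    intro k hk hk1 x hx
    obtain ⟨hk', hk''⟩ := (hKmem k).mp hk
    exact hK'semi ⟨k, hk'⟩ hk'' (fun h => hk1 (congrArg Subtype.val h)) x hx
  refine ⟨K, hKle, hKnorm, hKtr, hKsemi, ?_⟩
  -- nilpotent
  haveI : Group.IsNilpotent ↥K := by
    rw [hKdef]
    exact Group.nilpotent_of_mulEquiv
      (K'.equivMapOfInjective (stabilizer G a).subtype (Subgroup.subtype_injective _))
  -- order
  have hcardK : Nat.card K + 1 = Fintype.card Ω := by
    have h4 : Nat.card K = Nat.card ↥(({a} : Set Ω)ᶜ) := by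
      apply Nat.card_congr
      refine Equiv.ofBijective (fun u => ⟨(u : G) • b, ?_⟩) ⟨?_, ?_⟩
      · show (u : G) • b ∈ ({a} : Set Ω)ᶜ
        rw [Set.mem_compl_iff, Set.mem_singleton_iff]
        intro h'
        apply hab
        have hufix : (u : G) • a = a := hKle u.2
        have : (u : G) • a = (u : G) • b := by rw [hufix]; exact h'.symm
        exact smul_left_cancel _ this
      · intro u v huv
        have huv' : (u : G) • b = (v : G) • b := congrArg Subtype.val huv
        by_contra hne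
        have h5 : ((v : G)⁻¹ * (u : G)) • b = b := by
          rw [mul_smul, huv', inv_smul_smul]
        have h6 : (v : G)⁻¹ * (u : G) ≠ 1 := by
          intro h
          apply hne
          apply Subtype.ext
          have : (u : G) = (v : G) * ((v : G)⁻¹ * (u : G)) := by group
          rw [this, h, mul_one]
        exact hKsemi _ (K.mul_mem (K.inv_mem v.2) u.2) h6 b hba h5
      · rintro ⟨y, hy⟩
        rw [Set.mem_compl_iff, Set.mem_singleton_iff] at hy
        obtain ⟨k, hk, hky⟩ := hKtr y hy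
        exact ⟨⟨k, hk⟩, Subtype.ext hky⟩
    have h5 := Set.ncard_add_ncard_compl ({a} : Set Ω)
    rw [Set.ncard_singleton, Nat.card_eq_fintype_card] at h5
    rw [h4, Nat.card_coe_set_eq]
    omega
  -- abelian subgroups are cyclic
  obtain ⟨n₁, hn₁, hn₁b⟩ := R.trans a b
  have hNne : N ≠ ⊥ := by
    intro h
    rw [h, Subgroup.mem_bot] at hn₁
    rw [hn₁, one_smul] at hn₁b
    exact hab hn₁b
  have hcycB : ∀ B : Subgroup G, B ≤ K → IsMulCommutative B → IsCyclic B := by
    intro B hB hc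
    refine isCyclic_of_fpf_abelian B N hNne ?_ ?_ hc
    · intro x _
      rw [Subgroup.normalizer_eq_top]
      exact Subgroup.mem_top x
    · intro k hk hk1
      rw [eq_bot_iff]
      intro x hx
      rw [Subgroup.mem_inf] at hx
      rw [Subgroup.mem_bot]
      have hcomm : k * x = x * k := Subgroup.mem_centralizer_iff.mp hx.2 k (Set.mem_singleton k)
      have hka : k • a = a := hKle (hB hk)
      have h4 : k • (x • a) = x • a := by
        rw [← mul_smul, hcomm, mul_smul, hka]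
      by_contra hx1
      have hxa : x • a ≠ a := fun h => hx1 (R.reg x hx.1 a h)
      exact hKsemi k (hB hk) hk1 _ hxa h4
  haveI : IsZGroup ↥K := by
    constructor
    intro p hp P
    haveI : Fact p.Prime := ⟨hp⟩
    have hu := uniqueOrderP_sylow_of_comm_cyclic hcycB P
    rcases hu.main P.2 with h | ⟨hp2, n, ⟨e⟩⟩
    · exact h
    · exfalso
      have hc1 : Nat.card P = Nat.card (QuaternionGroup (2 ^ n)) := Nat.card_congr e.toEquiv
      rw [Nat.card_eq_fintype_card (α := QuaternionGroup (2 ^ n)), QuaternionGroup.card] at hc1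
      have hdvd : Nat.card P ∣ Nat.card ↥K := Subgroup.card_subgroup_dvd_card _
      rw [hc1] at hdvd
      have h2d : 2 ∣ Nat.card ↥K := Dvd.dvd.trans ⟨2 * 2 ^ n, by ring⟩ hdvd
      obtain ⟨m, hm⟩ := heven
      obtain ⟨m', hm'⟩ := h2d
      omega
  infer_instance

end reg

end Zass

end Cfsg.Agent.Lib.Lead
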