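import Mathlib

set_option autoImplicit false

/-! A finite abelian group on which a cyclic group acts regularly off zero, normalized by an
automorphism of prime order `q` acting semiregularly on the cyclic group, has order `2 ^ q`. -/

namespace Cfsg.Agent.Lib.Lead

namespace Zass

section field
variable {V : Type*} [AddCommGroup V] [Finite V]

theorem card_eq_two_pow (T S : (AddMonoid.End V)ˣ) (v₀ : V) (hv₀ : v₀ ≠ 0) {q : ℕ}
    (hq : q.Prime)
    (htr : ∀ v : V, v ≠ 0 → ∃ l : ℕ, v = ((T : AddMonoid.End V) ^ l) v₀)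
    (hST : ∃ r : ℕ, S * T * S⁻¹ = T ^ r)
    (hSq : S ^ q = 1) (hS1 : S ≠ 1) (hT1 : T ≠ 1)
    (hsemi : ∀ j l : ℕ, S ^ j * T ^ l = T ^ l * S ^ j → S ^ j = 1 ∨ T ^ l = 1) :
    Nat.card V = 2 ^ q := by
  classical
  haveI : Finite (AddMonoid.End V) :=
    Finite.of_injective (fun f : AddMonoid.End V => (f : V → V)) DFunLike.coe_injective
  -- L1
  have L1 : ∀ e : AddMonoid.End V, e * (T : AddMonoid.End V) = (T : AddMonoid.End V) * e →
      e v₀ = 0 → e = 0 := by
    intro e he hev
    ext v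
    by_cases hv : v = 0
    · rw [hv, map_zero, map_zero]
    · obtain ⟨l, hl⟩ := htr v hv
      have hcomm : e * (T : AddMonoid.End V) ^ l = (T : AddMonoid.End V) ^ l * e :=
        (Commute.pow_right he l)
      rw [hl]
      show (e * (T : AddMonoid.End V) ^ l) v₀ = 0
      rw [hcomm]
      show ((T : AddMonoid.End V) ^ l) (e v₀) = 0
      rw [hev, map_zero]
  have L2 : ∀ e : AddMonoid.End V, e * (T : AddMonoid.End V) = (T : AddMonoid.End V) * e →
      e = 0 ∨ ∃ l : ℕ, e = (T : AddMonoid.End V) ^ l := by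
    intro e he
    by_cases hev : e v₀ = 0
    · exact Or.inl (L1 e he hev)
    · right
      obtain ⟨l, hl⟩ := htr _ hev
      refine ⟨l, ?_⟩
      rw [← sub_eq_zero]
      apply L1
      · rw [sub_mul, mul_sub, he, ← pow_succ, ← pow_succ']
      · show e v₀ - ((T : AddMonoid.End V) ^ l) v₀ = 0
        rw [hl, sub_self]
  -- the field
  obtain ⟨F, hFdef⟩ : ∃ F : Subring (AddMonoid.End V),
      F = Subring.centralizer ({(T : AddMonoid.End V)} : Set (AddMonoid.End V)) := ⟨_, rfl⟩
  have hFmem : ∀ f : AddMonoid.End V, f ∈ F ↔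
      f * (T : AddMonoid.End V) = (T : AddMonoid.End V) * f := by
    intro f
    rw [hFdef, Subring.mem_centralizer_iff]
    constructor
    · intro h
      exact (h _ (Set.mem_singleton _)).symm
    · intro h g hg
      rw [Set.mem_singleton_iff] at hg
      rw [hg]; exact h.symm
  have hTpow : ∀ l : ℕ, (T : AddMonoid.End V) ^ l ∈ F := by
    intro l
    rw [hFmem, ← pow_succ, ← pow_succ']
  have hone_ne : (1 : AddMonoid.End V) ≠ 0 := by
    intro h
    apply hv₀
    have : (1 : AddMonoid.End V) v₀ = (0 : AddMonoid.End V) v₀ := by rw [h]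
    exact this
  have hIsField : IsField ↥F := by
    refine ⟨⟨0, 1, ?_⟩, ?_, ?_⟩
    · intro h
      exact hone_ne (congrArg Subtype.val h).symm
    · intro f g
      apply Subtype.ext
      show (f : AddMonoid.End V) * (g : AddMonoid.End V) = (g : AddMonoid.End V) * f
      rcases L2 _ ((hFmem _).mp f.2) with hf | ⟨l, hf⟩ <;>
        rcases L2 _ ((hFmem _).mp g.2) with hg | ⟨m, hg⟩
      · rw [hf, hg]
      · rw [hf, zero_mul, mul_zero]
      · rw [hg, zero_mul, mul_zero]
      · rw [hf, hg, ← pow_add, ← pow_add, add_comm]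
    · intro f hf0
      rcases L2 _ ((hFmem _).mp f.2) with hf | ⟨l, hf⟩
      · exact absurd (Subtype.ext hf) hf0
      · have hmem : (((T ^ l)⁻¹ : (AddMonoid.End V)ˣ) : AddMonoid.End V) ∈ F := by
          rw [hFmem]
          have h1 : (T ^ l)⁻¹ * T = T * (T ^ l)⁻¹ := by group
          have h2 := congrArg (fun u : (AddMonoid.End V)ˣ => (u : AddMonoid.End V)) h1
          simpa only [Units.val_mul] using h2
        refine ⟨⟨_, hmem⟩, ?_⟩
        apply Subtype.ext
        show (f : AddMonoid.End V) * (((T ^ l)⁻¹ : (AddMonoid.End V)ˣ) : AddMonoid.End V) = 1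
        rw [hf, ← Units.val_pow_eq_pow_val, Units.mul_inv]
  letI : Field ↥F := hIsField.toField
  -- the action
  obtain ⟨r, hr⟩ := hST
  obtain ⟨γ, hγ⟩ : ∃ γ : ConjAct (AddMonoid.End V)ˣ, γ = ConjAct.toConjAct S := ⟨_, rfl⟩
  have hγpow : ∀ j : ℕ, γ ^ j = ConjAct.toConjAct (S ^ j) := by
    intro j
    rw [hγ, map_pow]
  have hγsmul : ∀ (j : ℕ) (f : AddMonoid.End V), (γ ^ j) • f =
      ((S ^ j : (AddMonoid.End V)ˣ) : AddMonoid.End V) * f *
        (((S ^ j)⁻¹ : (AddMonoid.End V)ˣ) : AddMonoid.End V) := by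
    intro j f
    rw [hγpow, ConjAct.units_smul_def, ConjAct.ofConjAct_toConjAct]
  have hγF1 : ∀ f ∈ F, γ • f ∈ F := by
    intro f hf
    have h1 := hγsmul 1 f
    rw [pow_one, pow_one] at h1
    rw [h1]
    rcases L2 f ((hFmem f).mp hf) with h0 | ⟨l, hl⟩
    · rw [h0, mul_zero, zero_mul]; exact F.zero_mem
    · have h2 : S * T ^ l * S⁻¹ = T ^ (r * l) := by
        rw [pow_mul, ← hr, conj_pow]
      have h3 := congrArg (fun u : (AddMonoid.End V)ˣ => (u : AddMonoid.End V)) h2
      simp only [Units.val_mul, Units.val_pow_eq_pow_val] at h3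
      rw [hl, h3]
      exact hTpow _
  have hγF : ∀ (j : ℕ), ∀ f ∈ F, (γ ^ j) • f ∈ F := by
    intro j
    induction j with
    | zero =>
      intro f hf
      rw [pow_zero, one_smul]; exact hf
    | succ j ih =>
      intro f hf
      rw [pow_succ, mul_smul]
      exact ih _ (hγF1 f hf)
  haveI : Finite (ConjAct (AddMonoid.End V)ˣ) :=
    Finite.of_injective (fun g : ConjAct (AddMonoid.End V)ˣ =>
      ((ConjAct.ofConjAct g : (AddMonoid.End V)ˣ) : AddMonoid.End V))
      (fun g₁ g₂ h => ConjAct.ofConjAct.injective (Units.ext h))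
  have hΓmem : ∀ g ∈ Subgroup.zpowers γ, ∃ j : ℕ, γ ^ j = g := by
    intro g hg
    exact (Submonoid.mem_powers_iff _ _).mp (mem_powers_iff_mem_zpowers.mpr hg)
  haveI hinv : IsInvariantSubring ↥(Subgroup.zpowers γ) F := by
    constructor
    intro m x hx
    obtain ⟨j, hj⟩ := hΓmem m m.2
    show (m : ConjAct (AddMonoid.End V)ˣ) • x ∈ F
    rw [← hj]
    exact hγF j x hx
  have hTF : (T : AddMonoid.End V) ∈ F := by
    have := hTpow 1
    rwa [pow_one] at this
  have htriv : ∀ j : ℕ, (γ ^ j) • (T : AddMonoid.End V) = (T : AddMonoid.End V) → S ^ j = 1 := by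
    intro j hj
    rw [hγsmul] at hj
    have h1 : S ^ j * T * (S ^ j)⁻¹ = T := by
      apply Units.ext
      rw [Units.val_mul, Units.val_mul]
      exact hj
    have h2 : S ^ j * T ^ 1 = T ^ 1 * S ^ j := by
      rw [pow_one]
      have : S ^ j * T = (S ^ j * T * (S ^ j)⁻¹) * S ^ j := by group
      rw [this, h1]
    rcases hsemi j 1 h2 with h | h
    · exact h
    · rw [pow_one] at h
      exact absurd h hT1
  have hfaith : FaithfulSMul ↥(Subgroup.zpowers γ) ↥F := by
    constructor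
    intro m₁ m₂ h
    obtain ⟨j, hj⟩ := hΓmem (m₂⁻¹ * m₁ : ↥(Subgroup.zpowers γ)) (m₂⁻¹ * m₁).2
    have h1 : (m₂⁻¹ * m₁) • (⟨(T : AddMonoid.End V), hTF⟩ : ↥F) = ⟨(T : AddMonoid.End V), hTF⟩ := by
      rw [mul_smul, h, inv_smul_smul]
    have h2 : ((m₂⁻¹ * m₁ : ↥(Subgroup.zpowers γ)) : ConjAct (AddMonoid.End V)ˣ) •
        (T : AddMonoid.End V) = (T : AddMonoid.End V) := congrArg Subtype.val h1
    rw [← hj] at h2
    have h3 := htriv j h2
    have h4 : ((m₂⁻¹ * m₁ : ↥(Subgroup.zpowers γ)) : ConjAct (AddMonoid.End V)ˣ) = 1 := by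
      rw [← hj, hγpow, h3, map_one]
    have h5 : m₂⁻¹ * m₁ = 1 := Subtype.ext h4
    have : m₁ = m₂ * (m₂⁻¹ * m₁) := by group
    rw [this, h5, mul_one]
  haveI := hfaith
  haveI : Fintype ↥(Subgroup.zpowers γ) := Fintype.ofFinite _
  have hfr := FixedPoints.finrank_eq_card ↥(Subgroup.zpowers γ) ↥F
  have hγq : γ ^ q = 1 := by rw [hγpow, hSq, map_one]
  have hγ1 : γ ≠ 1 := by
    intro h
    apply hS1
    have : ConjAct.toConjAct S = ConjAct.toConjAct 1 := by rw [← hγ, h, map_one]
    exact ConjAct.toConjAct.injective this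
  haveI : Fact q.Prime := ⟨hq⟩
  have hord : orderOf γ = q := orderOf_eq_prime hγq hγ1
  have hcardΓ : Fintype.card ↥(Subgroup.zpowers γ) = q := by
    rw [← Nat.card_eq_fintype_card, Nat.card_zpowers, hord]
  have hfix2 : Nat.card ↥(FixedPoints.subfield ↥(Subgroup.zpowers γ) ↥F) = 2 := by
    rw [Nat.card_eq_two_iff]
    refine ⟨0, 1, zero_ne_one, ?_⟩
    ext f
    simp only [Set.mem_insert_iff, Set.mem_singleton_iff, Set.mem_univ, iff_true]
    have hfix : (⟨γ, Subgroup.mem_zpowers γ⟩ : ↥(Subgroup.zpowers γ)) • (f : ↥F) = (f : ↥F) :=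
      f.2 ⟨γ, Subgroup.mem_zpowers γ⟩
    have hfix' : γ • ((f : ↥F) : AddMonoid.End V) = ((f : ↥F) : AddMonoid.End V) :=
      congrArg Subtype.val hfix
    rcases L2 _ ((hFmem _).mp (f : ↥F).2) with h0 | ⟨l, hl⟩
    · left
      apply Subtype.ext
      apply Subtype.ext
      exact h0
    · right
      have h1 := hγsmul 1 ((f : ↥F) : AddMonoid.End V)
      rw [pow_one, pow_one, hfix', hl] at h1
      have h2 : S * T ^ l * S⁻¹ = T ^ l := by
        apply Units.ext
        rw [Units.val_mul, Units.val_mul, Units.val_pow_eq_pow_val]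
        exact h1.symm
      have h3 : S ^ 1 * T ^ l = T ^ l * S ^ 1 := by
        rw [pow_one]
        have : S * T ^ l = (S * T ^ l * S⁻¹) * S := by group
        rw [this, h2]
      rcases hsemi 1 l h3 with h | h
      · rw [pow_one] at h
        exact absurd h hS1
      · apply Subtype.ext
        apply Subtype.ext
        show ((f : ↥F) : AddMonoid.End V) = 1
        rw [hl, ← Units.val_pow_eq_pow_val, h, Units.val_one]
  have hcardF : Nat.card ↥F = 2 ^ q := by
    rw [Module.natCard_eq_pow_finrank (K := ↥(FixedPoints.subfield ↥(Subgroup.zpowers γ) ↥F))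
      (V := ↥F), hfix2, hfr, hcardΓ]
  have hVF : Nat.card ↥F = Nat.card V := by
    apply Nat.card_congr
    refine Equiv.ofBijective (fun f : ↥F => (f : AddMonoid.End V) v₀) ⟨?_, ?_⟩
    · intro f g hfg
      apply Subtype.ext
      rw [← sub_eq_zero]
      apply L1
      · rw [sub_mul, mul_sub, (hFmem _).mp f.2, (hFmem _).mp g.2]
      · show (f : AddMonoid.End V) v₀ - (g : AddMonoid.End V) v₀ = 0
        rw [sub_eq_zero]
        exact hfg
    · intro v
      by_cases hv : v = 0
      · refine ⟨0, ?_⟩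
        rw [hv]
        rfl
      · obtain ⟨l, hl⟩ := htr v hv
        exact ⟨⟨_, hTpow l⟩, hl.symm⟩
  rw [← hVF, hcardF]

end field

end Zass

end Cfsg.Agent.Lib.Lead
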