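import Mathlib
import Cfsg.Agent.Lib.Lead.Zass12
import Cfsg.Agent.Lib.Lead.Zass13

set_option autoImplicit false

/-! Zassenhaus-type groups with a regular normal subgroup have degree `2 ^ p`, `p` prime. -/

namespace Cfsg.Agent.Lib.Lead

namespace Zass

open MulAction
open scoped Pointwise

section reg
variable {G Ω : Type*} [Group G] [MulAction G Ω] {N : Subgroup G}

theorem RData.degree [Finite G] [Fintype Ω] (R : RData G Ω N)
    (hfix : ∃ g : G, g ≠ 1 ∧ ∃ a b : Ω, a ≠ b ∧ g • a = a ∧ g • b = b) :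
    ∃ p : ℕ, p.Prime ∧ Fintype.card Ω = 2 ^ p := by
  classical
  haveI hNn := R.normal
  have heven := R.even_card hfix
  have hsq := R.sq_eq_one heven
  obtain ⟨h₀, hh₀1, a, b, hab, hh₀a, hh₀b⟩ := hfix
  have hba : b ≠ a := Ne.symm hab
  obtain ⟨K, hKle, hKnorm, hKtr, hKsemi, hKcyc⟩ := R.kernel heven hab hh₀1 hh₀a hh₀b
  -- commutativity of `N`
  have hNinv : ∀ x ∈ N, x⁻¹ = x := by
    intro x hx
    have : x⁻¹ = x⁻¹ * (x * x) := by rw [hsq x hx, mul_one]
    rw [this]; group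
  have hNcomm : ∀ x ∈ N, ∀ y ∈ N, x * y = y * x := by
    intro x hx y hy
    have h1 := hNinv _ (N.mul_mem hx hy)
    rw [mul_inv_rev, hNinv x hx, hNinv y hy] at h1
    exact h1.symm
  letI instN : CommGroup ↥N :=
    { (inferInstance : Group ↥N) with
      mul_comm := fun x y => Subtype.ext (hNcomm x x.2 y y.2) }
  let c : G →* AddMonoid.End (Additive ↥N) :=
    { toFun := fun g => AddMonoidHom.mk'
        (fun v => Additive.ofMul (⟨g * ((Additive.toMul v : ↥N) : G) * g⁻¹,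
          hNn.conj_mem _ (Additive.toMul v : ↥N).2 g⟩ : ↥N))
        (by
          intro v w
          apply Additive.toMul.injective
          apply Subtype.ext
          show g * (((Additive.toMul v : ↥N) : G) * ((Additive.toMul w : ↥N) : G)) * g⁻¹ =
            (g * ((Additive.toMul v : ↥N) : G) * g⁻¹) * (g * ((Additive.toMul w : ↥N) : G) * g⁻¹)
          group)
      map_one' := by
        refine AddMonoidHom.ext fun v => ?_
        apply Additive.toMul.injective
        apply Subtype.ext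
        show 1 * ((Additive.toMul v : ↥N) : G) * 1⁻¹ = ((Additive.toMul v : ↥N) : G)
        group
      map_mul' := by
        intro g g'
        refine AddMonoidHom.ext fun v => ?_
        apply Additive.toMul.injective
        apply Subtype.ext
        show (g * g') * ((Additive.toMul v : ↥N) : G) * (g * g')⁻¹ =
          g * (g' * ((Additive.toMul v : ↥N) : G) * g'⁻¹) * g⁻¹
        group }
  have hc_apply : ∀ (g : G) (x : ↥N), c g (Additive.ofMul x) =
      Additive.ofMul (⟨g * (x : G) * g⁻¹, hNn.conj_mem _ x.2 g⟩ : ↥N) := fun g x => rfl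
  have hcinj : ∀ g : G, g • a = a → c g = 1 → g = 1 := by
    intro g hga hcg
    apply R.faith
    intro y
    obtain ⟨x, hx, rfl⟩ := R.trans a y
    have h1 : c g (Additive.ofMul ⟨x, hx⟩) = Additive.ofMul ⟨x, hx⟩ := by rw [hcg]; rfl
    rw [hc_apply] at h1
    have h2 : g * x * g⁻¹ = x :=
      congrArg (fun z : Additive ↥N => ((Additive.toMul z : ↥N) : G)) h1
    have h3 := conj_smul hga x
    rw [h2] at h3
    exact h3.symm
  have hcinj' : ∀ g g' : G, g • a = a → g' • a = a → c g = c g' → g = g' := by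
    intro g g' hg hg' h
    have h1 : c (g'⁻¹ * g) = 1 := by
      rw [map_mul, h, ← map_mul, inv_mul_cancel, map_one]
    have h2 := hcinj _ (by rw [mul_smul, hg, inv_smul_eq_iff, hg']) h1
    have : g = g' * (g'⁻¹ * g) := by group
    rw [this, h2, mul_one]
  have hpowfix : ∀ (g : G) (x : Ω), g • x = x → ∀ n : ℕ, (g ^ n) • x = x := by
    intro g x hx n
    induction n with
    | zero => rw [pow_zero, one_smul]
    | succ n ih => rw [pow_succ, mul_smul, hx, ih]
  -- an element of prime order in `H`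
  have hord0 : orderOf h₀ ≠ 0 := (orderOf_pos h₀).ne'
  have hord1 : orderOf h₀ ≠ 1 := fun h => hh₀1 (orderOf_eq_one_iff.mp h)
  obtain ⟨q, hq, hqd⟩ := Nat.exists_prime_and_dvd hord1
  obtain ⟨h₁, hh₁⟩ : ∃ h₁ : G, h₁ = h₀ ^ (orderOf h₀ / q) := ⟨_, rfl⟩
  have hh₁o : orderOf h₁ = q := by rw [hh₁]; exact orderOf_pow_orderOf_div hord0 hqd
  have hh₁1 : h₁ ≠ 1 := by
    intro h
    rw [h, orderOf_one] at hh₁o
    exact hq.one_lt.ne hh₁o
  have hh₁a : h₁ • a = a := by rw [hh₁]; exact hpowfix h₀ a hh₀a _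
  have hh₁b : h₁ • b = b := by rw [hh₁]; exact hpowfix h₀ b hh₀b _
  -- generator of `K`
  obtain ⟨⟨k₀, hk₀K⟩, hk₀gen⟩ := hKcyc.exists_generator
  have hKpow : ∀ k ∈ K, ∃ l : ℕ, k₀ ^ l = k := by
    intro k hk
    have h1 := hk₀gen ⟨k, hk⟩
    have h2 : (⟨k, hk⟩ : ↥K) ∈ Submonoid.powers (⟨k₀, hk₀K⟩ : ↥K) :=
      mem_powers_iff_mem_zpowers.mpr h1
    obtain ⟨l, hl⟩ := (Submonoid.mem_powers_iff _ _).mp h2
    refine ⟨l, ?_⟩
    have h3 := congrArg Subtype.val hl
    rw [Subgroup.coe_pow] at h3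
    exact h3
  have hk₀a : k₀ • a = a := hKle hk₀K
  obtain ⟨nb, hnb, hnbb⟩ := R.trans a b
  have hnb1 : nb ≠ 1 := by
    intro h
    rw [h, one_smul] at hnbb
    exact hab hnbb
  obtain ⟨c', hc'⟩ : ∃ c' : Ω, h₀ • c' ≠ c' := by
    by_contra hcon
    push Not at hcon
    exact hh₀1 (R.faith h₀ hcon)
  have hc'a : c' ≠ a := by
    intro h; apply hc'; rw [h]; exact hh₀a
  have hc'b : c' ≠ b := by
    intro h; apply hc'; rw [h]; exact hh₀b
  have hk₀1 : k₀ ≠ 1 := by
    intro h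
    obtain ⟨k, hk, hkc⟩ := hKtr c' hc'a
    obtain ⟨l, hl⟩ := hKpow k hk
    rw [h, one_pow] at hl
    rw [← hl, one_smul] at hkc
    exact hc'b hkc.symm
  -- apply the field lemma
  have htr : ∀ v : Additive ↥N, v ≠ 0 →
      ∃ l : ℕ, v = (((c.toHomUnits k₀ : (AddMonoid.End (Additive ↥N))ˣ) :
        AddMonoid.End (Additive ↥N)) ^ l) (Additive.ofMul ⟨nb, hnb⟩) := by
    intro v hv
    obtain ⟨x, hx⟩ : ∃ x : ↥N, x = Additive.toMul v := ⟨_, rfl⟩
    have hx1 : (x : G) ≠ 1 := by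
      intro h
      apply hv
      have : x = 1 := Subtype.ext h
      rw [hx] at this
      exact this
    have hxa : (x : G) • a ≠ a := fun h => hx1 (R.reg _ x.2 a h)
    obtain ⟨k, hk, hkx⟩ := hKtr _ hxa
    obtain ⟨l, hl⟩ := hKpow k hk
    refine ⟨l, ?_⟩
    show v = ((c k₀) ^ l) (Additive.ofMul ⟨nb, hnb⟩)
    rw [← map_pow, hl, hc_apply]
    have hka : k • a = a := hKle hk
    have h1 : (k * nb * k⁻¹) • a = (x : G) • a := by
      rw [conj_smul hka, hnbb, hkx]
    have h2 : k * nb * k⁻¹ = (x : G) := R.eq_of_smul_eq (hNn.conj_mem _ hnb k) x.2 h1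
    have h3 : (⟨k * nb * k⁻¹, hNn.conj_mem _ hnb k⟩ : ↥N) = x := Subtype.ext h2
    rw [h3, hx]
    rfl
  have hST : ∃ r : ℕ, c.toHomUnits h₁ * c.toHomUnits k₀ * (c.toHomUnits h₁)⁻¹ =
      (c.toHomUnits k₀) ^ r := by
    obtain ⟨r, hr⟩ := hKpow _ (hKnorm h₁ hh₁a k₀ hk₀K)
    refine ⟨r, ?_⟩
    rw [← map_inv, ← map_mul, ← map_mul, ← map_pow, hr]
  have hSq : (c.toHomUnits h₁) ^ q = 1 := by
    rw [← map_pow, ← hh₁o, pow_orderOf_eq_one, map_one]
  have hunit1 : ∀ g : G, g • a = a → c.toHomUnits g = 1 → g = 1 := by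
    intro g hg h
    apply hcinj g hg
    have := congrArg Units.val h
    exact this
  have hS1 : c.toHomUnits h₁ ≠ 1 := fun h => hh₁1 (hunit1 h₁ hh₁a h)
  have hT1 : c.toHomUnits k₀ ≠ 1 := fun h => hk₀1 (hunit1 k₀ hk₀a h)
  have hsemi : ∀ j l : ℕ, (c.toHomUnits h₁) ^ j * (c.toHomUnits k₀) ^ l =
      (c.toHomUnits k₀) ^ l * (c.toHomUnits h₁) ^ j →
      (c.toHomUnits h₁) ^ j = 1 ∨ (c.toHomUnits k₀) ^ l = 1 := by
    intro j l h
    rw [← map_pow, ← map_pow, ← map_mul, ← map_mul] at h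
    have h1 : c (h₁ ^ j * k₀ ^ l) = c (k₀ ^ l * h₁ ^ j) := congrArg Units.val h
    have hja : (h₁ ^ j) • a = a := hpowfix h₁ a hh₁a j
    have hjb : (h₁ ^ j) • b = b := hpowfix h₁ b hh₁b j
    have hla : (k₀ ^ l) • a = a := hpowfix k₀ a hk₀a l
    have h2 : h₁ ^ j * k₀ ^ l = k₀ ^ l * h₁ ^ j := by
      apply hcinj' _ _ _ _ h1
      · rw [mul_smul, hla, hja]
      · rw [mul_smul, hja, hla]
    by_cases hk : k₀ ^ l = 1
    · right
      rw [← map_pow, hk, map_one]
    · left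
      rw [← map_pow]
      have h3 : h₁ ^ j = 1 := by
        have hlb : (k₀ ^ l) • b ≠ b := hKsemi _ (K.pow_mem hk₀K l) hk b hba
        have hne : a ≠ (k₀ ^ l) • b := by
          intro h'
          apply hab
          have : (k₀ ^ l) • a = (k₀ ^ l) • b := by rw [hla]; exact h'
          exact smul_left_cancel _ this
        apply R.three (h₁ ^ j) a b ((k₀ ^ l) • b) hab (Ne.symm hlb) hne hja hjb
        rw [← mul_smul, h2, mul_smul, hjb]
      rw [h3, map_one]
  have hv₀ : (Additive.ofMul (⟨nb, hnb⟩ : ↥N) : Additive ↥N) ≠ 0 := by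
    intro h
    apply hnb1
    have : (⟨nb, hnb⟩ : ↥N) = 1 := h
    exact congrArg Subtype.val this
  have hcard := card_eq_two_pow (c.toHomUnits k₀) (c.toHomUnits h₁)
    (Additive.ofMul (⟨nb, hnb⟩ : ↥N)) hv₀ hq htr hST hSq hS1 hT1 hsemi
  refine ⟨q, hq, ?_⟩
  rw [← R.card_eq a]
  exact hcard

theorem degree_two_pow_prime [Fintype Ω] [FaithfulSMul G Ω]
    (h2 : MulAction.IsMultiplyPretransitive G Ω 2)
    (h3 : ∀ g : G, ∀ a b c : Ω, a ≠ b → b ≠ c → a ≠ c → g • a = a → g • b = b → g • c = c →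
      g = 1)
    (hfix : ∃ g : G, g ≠ 1 ∧ ∃ a b : Ω, a ≠ b ∧ g • a = a ∧ g • b = b)
    (N : Subgroup G) [hN : N.Normal] (hNt : MulAction.IsPretransitive N Ω)
    (hNr : ∀ a : Ω, MulAction.stabilizer N a = ⊥) :
    ∃ p : ℕ, p.Prime ∧ Fintype.card Ω = 2 ^ p := by
  haveI : Finite G := Finite.of_injective (MulAction.toPermHom G Ω) MulAction.toPerm_injective
  have R : RData G Ω N := by
    refine ⟨?_, ?_, h3, hN, ?_, ?_⟩
    · intro g hg
      apply FaithfulSMul.eq_of_smul_eq_smul (α := Ω)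
      intro x
      rw [hg x, one_smul]
    · intro a b c d hab hcd
      exact (is_two_pretransitive_iff.mp h2) hab hcd
    · intro x y
      obtain ⟨n, hn⟩ := hNt.exists_smul_eq x y
      exact ⟨(n : G), n.2, hn⟩
    · intro n hn x hx
      have h1 : (⟨n, hn⟩ : ↥N) ∈ MulAction.stabilizer N x := hx
      rw [hNr x, Subgroup.mem_bot] at h1
      exact congrArg Subtype.val h1
  exact R.degree hfix

end reg

end Zass

end Cfsg.Agent.Lib.Lead
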