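import Mathlib
import Cfsg.Agent.Lib.Lead.Zass2
import Cfsg.Agent.S0740

set_option autoImplicit false

/-! Zassenhaus groups of odd degree are simple. -/

namespace Cfsg.Agent.Lib.Lead

namespace Zass

open MulAction
open scoped Pointwise

section main
variable {G Ω : Type*} [Group G] [MulAction G Ω]

/-- an involution swapping `a` and `b` with a unique fixed point: the two-point stabilizer
consists of commutators with it -/
theorem pairStab_le_of_involution (h3 : ∀ g : G, ∀ a b c : Ω, a ≠ b → b ≠ c → a ≠ c → g • a = a →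
      g • b = b → g • c = c → g = 1) [Finite G] (N : Subgroup G) [hNn : N.Normal] {a b c₀ : Ω}
    (hab : a ≠ b) {t : G} (htN : t ∈ N) (ht2 : t * t = 1) (hta : t • a = b) (htb : t • b = a)
    (hfix : ∀ x : Ω, t • x = x → x = c₀) (hc₀ : t • c₀ = c₀) :
    stabilizer G a ⊓ stabilizer G b ≤ N := by
  have htinv : t⁻¹ = t := inv_eq_of_mul_eq_one_left ht2
  have hc₀a : c₀ ≠ a := by
    intro h
    rw [h, hta] at hc₀
    exact hab hc₀.symm
  have hc₀b : c₀ ≠ b := by
    intro h
    rw [h, htb] at hc₀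
    exact hab hc₀
  have hconjmem : ∀ h ∈ stabilizer G a ⊓ stabilizer G b,
      t * h * t⁻¹ ∈ stabilizer G a ⊓ stabilizer G b := by
    intro h hh
    rw [Subgroup.mem_inf, mem_stabilizer_iff, mem_stabilizer_iff] at hh ⊢
    rw [htinv]
    constructor
    · rw [mul_smul, mul_smul, hta, hh.2, htb]
    · rw [mul_smul, mul_smul, htb, hh.1, hta]
  let ψ : (stabilizer G a ⊓ stabilizer G b : Subgroup G) → (stabilizer G a ⊓ stabilizer G b : Subgroup G) :=
    fun h => ⟨(h : G)⁻¹ * (t * (h : G) * t⁻¹),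
      Subgroup.mul_mem _ (Subgroup.inv_mem _ h.2) (hconjmem _ h.2)⟩
  have hψinj : Function.Injective ψ := by
    intro h k hhk
    have heq : (h : G)⁻¹ * (t * (h : G) * t⁻¹) = (k : G)⁻¹ * (t * (k : G) * t⁻¹) :=
      congrArg Subtype.val hhk
    obtain ⟨u, hu⟩ : ∃ u : G, u = (k : G) * (h : G)⁻¹ := ⟨_, rfl⟩
    have huH : u ∈ stabilizer G a ⊓ stabilizer G b := by
      rw [hu]; exact Subgroup.mul_mem _ k.2 (Subgroup.inv_mem _ h.2)
    have hut : u * t = t * u := by
      have e1 : (h : G)⁻¹ * t * (h : G) = (k : G)⁻¹ * t * (k : G) := by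
        have := congrArg (fun z => z * t) heq
        simp only [mul_assoc, inv_mul_cancel, mul_one] at this
        simpa [mul_assoc] using this
      have e2 : u * t = (k : G) * ((h : G)⁻¹ * t * (h : G)) * (h : G)⁻¹ := by
        rw [hu]; group
      rw [e2, e1, hu]; group
    have huc : u • c₀ = c₀ := by
      apply hfix
      rw [← mul_smul, ← hut, mul_smul, hc₀]
    rw [Subgroup.mem_inf, mem_stabilizer_iff, mem_stabilizer_iff] at huH
    have hu1 : u = 1 := h3 u a b c₀ hab (Ne.symm hc₀b) (Ne.symm hc₀a) huH.1 huH.2 huc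
    apply Subtype.ext
    have : (k : G) = u * (h : G) := by rw [hu]; group
    rw [this, hu1, one_mul]
  have hψsurj : Function.Surjective ψ := Finite.injective_iff_surjective.mp hψinj
  intro x hx
  obtain ⟨h, hh⟩ := hψsurj ⟨x, hx⟩
  have h1 : x = (h : G)⁻¹ * (t * (h : G) * t⁻¹) := (congrArg Subtype.val hh).symm
  have h2 : (h : G)⁻¹ * (t * (h : G) * t⁻¹) = ((h : G)⁻¹ * t * (h : G)⁻¹⁻¹) * t⁻¹ := by group
  rw [h1, h2]
  exact N.mul_mem (hNn.conj_mem t htN _) (N.inv_mem htN)

/-- a Zassenhaus group of odd degree is simple -/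
theorem simple_of_odd [Fintype Ω] (hZ : Cfsg.IsZassenhausGroup G Ω)
    (hodd : Odd (Fintype.card Ω)) : IsSimpleGroup G := by
  classical
  have hZ' := hZ
  obtain ⟨hfaith, h2t, h3, h4, h5⟩ := hZ
  haveI : Finite G := Finite.of_injective (MulAction.toPerm (α := G) (β := Ω))
    MulAction.toPerm_injective
  obtain ⟨g₀, hg₀1, a, b, hab, -, -⟩ := h4
  haveI : Nontrivial G := ⟨⟨g₀, 1, hg₀1⟩⟩
  refine ⟨?_⟩
  intro N hNn
  by_cases hN : N = ⊥
  · exact Or.inl hN
  · right
    have hZN := normal_zassenhaus hZ' N hN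
    obtain ⟨⟨s, hs2, hsa, hsb⟩, hall, -⟩ := Cfsg.Agent.S0740.result hZN hab
    have hcard := (hall s hs2 hsa hsb).1 hodd
    rw [Nat.card_coe_set_eq, Set.ncard_eq_one] at hcard
    obtain ⟨c₀, hc₀⟩ := hcard
    have hfix : ∀ x : Ω, (s : G) • x = x → x = c₀ := by
      intro x hx
      have : x ∈ fixedBy Ω s := hx
      rw [hc₀] at this
      exact this
    have hc₀fix : (s : G) • c₀ = c₀ := by
      have : c₀ ∈ fixedBy Ω s := by rw [hc₀]; rfl
      exact this
    have hs2' : (s : G) * (s : G) = 1 := by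
      have h1 : s ^ 2 = 1 := by rw [← hs2]; exact pow_orderOf_eq_one s
      have h2 := congrArg Subtype.val h1
      rw [Subgroup.coe_pow, pow_two] at h2
      exact h2
    have hH := pairStab_le_of_involution h3 N hab s.2 hs2' hsa hsb hfix hc₀fix
    have h2N := hZN.2.1
    rw [is_two_pretransitive_iff] at h2N
    rw [eq_top_iff]
    intro g _
    have hne : g • a ≠ g • b := fun h => hab (smul_left_cancel g h)
    obtain ⟨n, hna, hnb⟩ := h2N hab hne
    have hmem : (n : G)⁻¹ * g ∈ stabilizer G a ⊓ stabilizer G b := by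
      rw [Subgroup.mem_inf, mem_stabilizer_iff, mem_stabilizer_iff]
      constructor
      · rw [mul_smul, ← hna, inv_smul_eq_iff]; rfl
      · rw [mul_smul, ← hnb, inv_smul_eq_iff]; rfl
    have : g = (n : G) * ((n : G)⁻¹ * g) := by group
    rw [this]
    exact N.mul_mem n.2 (hH hmem)

end main

end Zass

end Cfsg.Agent.Lib.Lead
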